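import Mathlib
import Cfsg.Prelude.Def_Characters
import Cfsg.Prelude.Def_Blocks
import Cfsg.Agent.Lib.Helper1.RepEigen

/-!
# Brauer's `(p-1)/2` theorem: general facts on character values

* `br_norm_character_le`: `‖χ g‖ ≤ n` for the character of a representation on `Fin n → ℂ`;
* `br_scalar_of_norm_eq`: if `‖χ g‖ = n` then `ρ g` is a scalar;
* `br_irr_commutator_of_norm_eq`: for a character `χ` afforded by `ρ`, `‖χ x‖ = n` implies
  `χ (x * g * x⁻¹ * g⁻¹) = χ 1` for all `g`.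
-/

set_option autoImplicit false

namespace Cfsg.Agent.Lib.Helper7

open Cfsg Cfsg.Agent.Lib.Helper1

section

variable {G : Type*} [Group G] [Finite G]

/-- the norm of a multiset sum is at most the cardinality, for elements of norm one -/
theorem br_multiset_norm_sum_le (m : Multiset ℂ) (h1 : ∀ x ∈ m, ‖x‖ = 1) :
    ‖m.sum‖ ≤ Multiset.card m := by
  induction m using Multiset.induction_on with
  | empty => simp
  | cons a s ih =>
    have ha : ‖a‖ = 1 := h1 a (Multiset.mem_cons_self a s)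
    have hs : ∀ x ∈ s, ‖x‖ = 1 := fun x hx => h1 x (Multiset.mem_cons_of_mem hx)
    rw [Multiset.sum_cons, Multiset.card_cons]
    push_cast
    calc ‖a + s.sum‖ ≤ ‖a‖ + ‖s.sum‖ := norm_add_le _ _
      _ ≤ (Multiset.card s : ℝ) + 1 := by rw [ha]; linarith [ih hs]

/-- a multiset of complex numbers of norm one whose sum has norm equal to the cardinality
consists of equal numbers -/
theorem br_multiset_all_eq (m : Multiset ℂ) (h1 : ∀ x ∈ m, ‖x‖ = 1)
    (hsum : ‖m.sum‖ = Multiset.card m) : ∃ ω : ℂ, ∀ x ∈ m, x = ω := by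
  by_cases h0 : Multiset.card m = 0
  · rw [Multiset.card_eq_zero] at h0
    subst h0
    exact ⟨1, fun x hx => absurd hx (Multiset.notMem_zero x)⟩
  have hpos : (0 : ℝ) < Multiset.card m := by
    exact_mod_cast Nat.pos_of_ne_zero h0
  have hs0 : m.sum ≠ 0 := by
    intro h
    rw [h, norm_zero] at hsum
    linarith
  set ω : ℂ := m.sum / (‖m.sum‖ : ℂ) with hω
  have hnorm0 : ((‖m.sum‖ : ℝ) : ℂ) ≠ 0 := by
    rw [Ne, Complex.ofReal_eq_zero, norm_eq_zero]
    exact hs0
  have hωn : ‖ω‖ = 1 := by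
    rw [hω, norm_div, Complex.norm_real, norm_norm]
    exact div_self (norm_ne_zero_iff.2 hs0)
  have hω0 : ω ≠ 0 := by
    intro h
    rw [h, norm_zero] at hωn
    exact zero_ne_one hωn
  refine ⟨ω, ?_⟩
  have h2 : ∀ y ∈ m.map (fun μ => μ * ω⁻¹), ‖y‖ = 1 := by
    intro y hy
    obtain ⟨μ, hμ, rfl⟩ := Multiset.mem_map.1 hy
    rw [norm_mul, norm_inv, hωn, h1 μ hμ]
    norm_num
  have h3 : (m.map (fun μ => μ * ω⁻¹)).sum = (Multiset.card (m.map (fun μ => μ * ω⁻¹)) : ℂ) := by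
    rw [Multiset.sum_map_mul_right, Multiset.map_id', Multiset.card_map, hω, inv_div,
      mul_div_assoc', mul_comm, mul_div_assoc, div_self hs0, mul_one, hsum]
    simp
  intro x hx
  have h4 := multiset_eq_one_of_sum_eq_card _ h2 h3 (x * ω⁻¹) (Multiset.mem_map_of_mem _ hx)
  field_simp at h4
  exact h4

variable {n : ℕ}

/-- `‖χ g‖ ≤ χ 1` -/
theorem br_norm_character_le (ρ : Representation ℂ G (Fin n → ℂ)) (g : G) :
    ‖ρ.character g‖ ≤ n := by
  rw [character_eq_sum_roots]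
  have h1 := br_multiset_norm_sum_le _ (charpoly_roots_norm ρ g)
  rw [card_charpoly_roots] at h1
  simpa using h1

/-- if `‖χ g‖ = χ 1` then `ρ g` is a scalar -/
theorem br_scalar_of_norm_eq (ρ : Representation ℂ G (Fin n → ℂ)) (g : G)
    (h : ‖ρ.character g‖ = n) : ∃ ω : ℂ, ρ g = ω • (LinearMap.id : (Fin n → ℂ) →ₗ[ℂ] (Fin n → ℂ)) := by
  rw [character_eq_sum_roots] at h
  have hcard := card_charpoly_roots ρ g
  have hcard' : Module.finrank ℂ (Fin n → ℂ) = n := by simp
  obtain ⟨ω, hω⟩ := br_multiset_all_eq _ (charpoly_roots_norm ρ g) (by rw [h, hcard, hcard'])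
  refine ⟨ω, eq_smul_id_of_eigenvalues (rep_isSemisimple ρ g) ω ?_⟩
  intro μ hμ
  apply hω
  rw [Polynomial.mem_roots']
  refine ⟨?_, (Module.End.hasEigenvalue_iff_isRoot_charpoly _ _).1 hμ⟩
  exact (LinearMap.charpoly_monic _).ne_zero

/-- if `‖χ x‖ = χ 1` then all commutators with `x` lie in the kernel of `χ` -/
theorem br_commutator_of_norm_eq (ρ : Representation ℂ G (Fin n → ℂ)) (x : G)
    (h : ‖ρ.character x‖ = n) (g : G) :
    ρ.character (x * g * x⁻¹ * g⁻¹) = ρ.character 1 := by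
  obtain ⟨ω, hω⟩ := br_scalar_of_norm_eq ρ x h
  have h1 : ρ (x * g * x⁻¹ * g⁻¹) = ρ 1 := by
    have hxinv : ρ x * ρ x⁻¹ = 1 := by rw [← map_mul, mul_inv_cancel, map_one]
    rw [map_mul, map_mul, map_mul, map_one, hω]
    have hc : (ω • (LinearMap.id : (Fin n → ℂ) →ₗ[ℂ] (Fin n → ℂ))) * ρ g =
        ρ g * (ω • (LinearMap.id : (Fin n → ℂ) →ₗ[ℂ] (Fin n → ℂ))) := by
      ext v
      simp
    rw [hc, mul_assoc (ρ g), ← hω, hxinv, mul_one, ← map_mul, mul_inv_cancel, map_one]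
  unfold Representation.character
  rw [h1]

end

end Cfsg.Agent.Lib.Helper7
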