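import Mathlib
import Cfsg.Agent.Lib.Helper8.DO21
import Cfsg.Agent.Lib.Helper7.BR1

set_option autoImplicit false
set_option maxHeartbeats 800000
set_option linter.unusedSectionVars false

namespace Cfsg.Agent.Lib.Helper7

open Cfsg Cfsg.Agent.Lib.Helper8
open scoped ComplexConjugate
open Cfsg.Agent.Lib.Helper1 Cfsg.Agent.Lib.Helper4

universe u

section

variable {G : Type u} [Group G] [Fintype G]

/-- `‖χ g‖ ≤ χ 1` for irreducible characters -/
theorem br_norm_irr_le (χ : IrrCharacter G) (g : G) :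
    ‖(χ : G → ℂ) g‖ ≤ charDegree (χ : G → ℂ) := by
  obtain ⟨n, ρ, _, hρ⟩ := χ.2
  have h1 := br_norm_character_le ρ g
  have h2 : (χ : G → ℂ) 1 = n := by
    rw [← hρ, Representation.char_one]
    simp
  have h3 := (irr_apply_one_eq_charDegree χ.2).1
  rw [h2] at h3
  have h4 : n = charDegree (χ : G → ℂ) := by exact_mod_cast h3
  rw [hρ, h4] at h1
  exact h1

variable (C : Subgroup G) [Fintype C]

/-- the degree of `χ` in terms of its restriction to `C` -/
theorem br_degree_eq_sum [Fintype (IrrCharacter C)] (χ : IrrCharacter G) :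
    charDegree (χ : G → ℂ) = ∑ ξ : IrrCharacter C, d1m C χ ξ * charDegree (ξ : C → ℂ) := by
  have h := d1_restrict_expansion C χ 1
  rw [show ((1 : C) : G) = 1 from rfl, (irr_apply_one_eq_charDegree χ.2).1] at h
  have h2 : ∀ ξ : IrrCharacter C, (ξ : C → ℂ) 1 = charDegree (ξ : C → ℂ) :=
    fun ξ => (irr_apply_one_eq_charDegree ξ.2).1
  simp_rw [h2] at h
  exact_mod_cast h

end

section

variable {G : Type u} [Group G] [Fintype G] {M : Ideal AlgInt} {p : ℕ} [Fact p.Prime]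
  {x : G} {C : Subgroup G} [Fintype C] {b : Set (IrrCharacter C)} {B : Set (IrrCharacter G)}
  {θ : IrrCharacter C}

/-- all members of `b` have the degree of the canonical character -/
theorem br_degree_mem_b (ctx : D1Ctx p M x C b B θ) {ξ : IrrCharacter C} (hξ : ξ ∈ b) :
    charDegree (ξ : C → ℂ) = charDegree (θ : C → ℂ) := by
  have hp : p.Prime := Fact.out
  have h1 : ¬ p ∣ orderOf (1 : C) := by
    rw [orderOf_one]
    exact hp.one_lt.ne' ∘ Nat.dvd_one.1
  have h2 := ctx.apply_pRegular hξ h1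
  rw [(irr_apply_one_eq_charDegree ξ.2).1, (irr_apply_one_eq_charDegree θ.2).1] at h2
  exact_mod_cast h2

/-- the degree of the canonical character is positive -/
theorem br_degree_theta_pos (θ : IrrCharacter C) : 0 < charDegree (θ : C → ℂ) :=
  (irr_apply_one_eq_charDegree θ.2).2

/-- a lower bound for a sum over all irreducible characters of `C` -/
theorem br_sum_Bn_le (ctx : D1Ctx p M x C b B θ) [Fintype (IrrCharacter C)]
    (g : IrrCharacter C → ℕ) :
    g θ + ∑ ξ : ctx.Bn, g ξ.1 ≤ ∑ ξ : IrrCharacter C, g ξ := by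
  classical
  have h0 : ∑ ξ : ctx.Bn, g ξ.1 =
      ∑ ξ ∈ Finset.univ.filter (fun ξ : IrrCharacter C => ξ ∈ b ∧ ξ ≠ θ), g ξ :=
    (Finset.sum_subtype (p := fun ξ : IrrCharacter C => ξ ∈ b ∧ ξ ≠ θ)
      (F := (inferInstance : Fintype ctx.Bn))
      (Finset.univ.filter (fun ξ : IrrCharacter C => ξ ∈ b ∧ ξ ≠ θ)) (by simp) g).symm
  rw [h0]
  have h1 : θ ∉ Finset.univ.filter (fun ξ : IrrCharacter C => ξ ∈ b ∧ ξ ≠ θ) := by
    simp
  rw [← Finset.sum_insert h1]
  exact Finset.sum_le_sum_of_subset (Finset.subset_univ _)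

variable {ε : ℤ} {W : IrrCharacter G → ℤ}

/-- `V` on a nonexceptional character -/
theorem br_V_nonexc {ctx : D1Ctx p M x C b B θ} {a : ctx.Q → IrrCharacter G}
    (S : ctx.Str ε W a) {χ : IrrCharacter G} (hχa : χ ∉ Set.range a) (ξ : ctx.Bn) :
    (d1m C χ ξ.1 : ℤ) - (d1m C χ θ : ℤ) = W χ := by
  have h := S.V_eq ξ χ
  rw [if_neg (fun h' => hχa ⟨_, h'.symm⟩), add_zero] at h
  rw [← h]
  rfl

/-- `V` on an exceptional character -/
theorem br_V_exc {ctx : D1Ctx p M x C b B θ} {a : ctx.Q → IrrCharacter G}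
    (S : ctx.Str ε W a) (q : ctx.Q) (ξ : ctx.Bn) :
    (d1m C (a q) ξ.1 : ℤ) - (d1m C (a q) θ : ℤ) = if ctx.mkQ ξ = q then ε else 0 := by
  have h := S.V_eq ξ (a q)
  rw [S.hWa, zero_add] at h
  have h2 : (ctx.V ξ.1 (a q) : ℤ) = (d1m C (a q) ξ.1 : ℤ) - (d1m C (a q) θ : ℤ) := rfl
  rw [← h2, h]
  by_cases hq : ctx.mkQ ξ = q
  · rw [if_pos hq, if_pos (by rw [hq])]
  · rw [if_neg hq, if_neg (fun h' => hq (S.inj h').symm)]

/-- a nonexceptional character of small degree is constant on `⟨x⟩` -/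
theorem br_nonexc_eq {ctx : D1Ctx p M x C b B θ} {a : ctx.Q → IrrCharacter G}
    (S : ctx.Str ε W a) {χ : IrrCharacter G} (hχ : χ ∈ B) (hχa : χ ∉ Set.range a)
    (hdeg : charDegree (χ : G → ℂ) + 1 < p) : (χ : G → ℂ) x = (χ : G → ℂ) 1 := by
  classical
  have : Fintype (IrrCharacter C) := Fintype.ofFinite _
  have hp : p.Prime := Fact.out
  have hθpos := br_degree_theta_pos θ
  rcases S.hW χ hχ hχa with hW | hW
  · -- W = 1: all members of Bn occur
    exfalso
    have h1 : ∀ ξ : ctx.Bn, 1 ≤ d1m C χ ξ.1 := by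
      intro ξ
      have := br_V_nonexc S hχa ξ
      rw [hW] at this
      omega
    have h2 := br_sum_Bn_le ctx (fun ξ => d1m C χ ξ * charDegree (ξ : C → ℂ))
    rw [← br_degree_eq_sum C χ] at h2
    have h3 : ∑ ξ : ctx.Bn, charDegree (θ : C → ℂ) ≤
        ∑ ξ : ctx.Bn, d1m C χ ξ.1 * charDegree (ξ.1 : C → ℂ) := by
      refine Finset.sum_le_sum fun ξ _ => ?_
      rw [br_degree_mem_b ctx ξ.2.1]
      exact Nat.le_mul_of_pos_left _ (h1 ξ)
    rw [Finset.sum_const, Finset.card_univ, ctx.card_Bn, smul_eq_mul] at h3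
    have h4 : p - 1 ≤ (p - 1) * charDegree (θ : C → ℂ) := Nat.le_mul_of_pos_right _ hθpos
    omega
  · -- W = -1
    have h1 : ¬ p ∣ 1 := fun h => hp.one_lt.ne' (Nat.dvd_one.1 h)
    have h2 := S.nonexc_apply_pow hχ hχa h1
    rw [pow_one, hW] at h2
    have h3 := S.nonexc_degree hχ hχa
    rw [hW] at h3
    have h4 := br_norm_irr_le χ x
    have h5 : (χ : G → ℂ) x = ((ctx.r * charDegree (θ : C → ℂ) : ℕ) : ℂ) := by
      rw [h2]
      push_cast
      ring
    rw [h5, Complex.norm_natCast] at h4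
    have h6 : ctx.r * charDegree (θ : C → ℂ) ≤ charDegree (χ : G → ℂ) := by exact_mod_cast h4
    have h7 : (p : ℤ) ∣ ((charDegree (χ : G → ℂ) - ctx.r * charDegree (θ : C → ℂ) : ℕ) : ℤ) := by
      rw [Nat.cast_sub h6]
      have : (charDegree (χ : G → ℂ) : ℤ) + -1 * ((ctx.r * charDegree (θ : C → ℂ) : ℕ) : ℤ) =
          (charDegree (χ : G → ℂ) : ℤ) - ((ctx.r * charDegree (θ : C → ℂ) : ℕ) : ℤ) := by ring
      rw [← this]
      exact h3
    have h8 : p ∣ charDegree (χ : G → ℂ) - ctx.r * charDegree (θ : C → ℂ) := by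
      exact_mod_cast h7
    have h9 : charDegree (χ : G → ℂ) - ctx.r * charDegree (θ : C → ℂ) = 0 := by
      apply Nat.eq_zero_of_dvd_of_lt h8
      omega
    have h10 : charDegree (χ : G → ℂ) = ctx.r * charDegree (θ : C → ℂ) := by omega
    rw [h5, (irr_apply_one_eq_charDegree χ.2).1, h10]

end

end Cfsg.Agent.Lib.Helper7
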