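import Mathlib
import Cfsg.Agent.Lib.Helper8.DO21
import Cfsg.Agent.Lib.Helper7.BR1
import Cfsg.Agent.Lib.Helper7.BR2

set_option autoImplicit false
set_option maxHeartbeats 800000
set_option linter.unusedSectionVars false

namespace Cfsg.Agent.Lib.Helper7

open Cfsg Cfsg.Agent.Lib.Helper8
open scoped ComplexConjugate
open Cfsg.Agent.Lib.Helper1 Cfsg.Agent.Lib.Helper4

universe u

section

variable {G : Type u} [Group G] [Fintype G] {M : Ideal AlgInt} {p : ℕ} [Fact p.Prime]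
  {x : G} {C : Subgroup G} [Fintype C] {b : Set (IrrCharacter C)} {B : Set (IrrCharacter G)}
  {θ : IrrCharacter C}

/-- a character whose value at `x` is a natural number congruent to the degree, of degree less
than `p`, is constant on `x` -/
theorem br_eq_of_apply (χ : IrrCharacter G) (g : G) (m : ℕ) (hx : (χ : G → ℂ) g = m)
    (hdvd : (p : ℤ) ∣ (charDegree (χ : G → ℂ) : ℤ) - (m : ℤ))
    (hdeg : charDegree (χ : G → ℂ) < p) : (χ : G → ℂ) g = (χ : G → ℂ) 1 := by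
  have h4 := br_norm_irr_le χ g
  rw [hx, Complex.norm_natCast] at h4
  have h6 : m ≤ charDegree (χ : G → ℂ) := by exact_mod_cast h4
  have h7 : (p : ℤ) ∣ ((charDegree (χ : G → ℂ) - m : ℕ) : ℤ) := by
    rw [Nat.cast_sub h6]
    exact hdvd
  have h8 : p ∣ charDegree (χ : G → ℂ) - m := by exact_mod_cast h7
  have h9 : charDegree (χ : G → ℂ) - m = 0 := by
    apply Nat.eq_zero_of_dvd_of_lt h8
    omega
  have h10 : charDegree (χ : G → ℂ) = m := by omega
  rw [hx, (irr_apply_one_eq_charDegree χ.2).1, h10]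

/-- the number of members of a class -/
theorem br_card_class_eq (ctx : D1Ctx p M x C b B θ) (q : ctx.Q)
    [DecidablePred fun ξ : ctx.Bn => ctx.mkQ ξ = q] :
    (Finset.univ.filter (fun ξ : ctx.Bn => ctx.mkQ ξ = q)).card = ctx.e := by
  classical
  obtain ⟨ξ₀, rfl⟩ := ctx.mkQ_surj q
  rw [← ctx.card_class ξ₀]
  congr 1
  ext ξ
  simp only [Finset.mem_filter, Finset.mem_univ, true_and]
  exact ctx.mkQ_eq_iff ξ ξ₀

/-- if `e = p - 1` there is only one class -/
theorem br_class_univ (ctx : D1Ctx p M x C b B θ) (he : ctx.e = p - 1) (q : ctx.Q)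
    (ξ : ctx.Bn) : ctx.mkQ ξ = q := by
  classical
  have h1 := br_card_class_eq ctx q
  rw [he, ← ctx.card_Bn, ← Finset.card_univ] at h1
  have h2 := Finset.eq_of_subset_of_card_le (Finset.filter_subset _ _) h1.ge
  have h3 : ξ ∈ Finset.univ.filter (fun ξ : ctx.Bn => ctx.mkQ ξ = q) := by
    rw [h2]
    exact Finset.mem_univ _
  exact (Finset.mem_filter.1 h3).2

variable {ε : ℤ} {W : IrrCharacter G → ℤ}

/-- the corner case: one class, `ε = -1` -/
theorem br_exc_corner {ctx : D1Ctx p M x C b B θ} {a : ctx.Q → IrrCharacter G}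
    (S : ctx.Str ε W a) (q : ctx.Q) (he : ctx.e = p - 1) (hε : ε = -1)
    (hdeg : charDegree (a q : G → ℂ) < p) : (a q : G → ℂ) x = (a q : G → ℂ) 1 := by
  classical
  have : Fintype (IrrCharacter C) := Fintype.ofFinite _
  have : Fintype (mrN x) := Fintype.ofFinite _
  have hp : p.Prime := Fact.out
  have h1p : ¬ p ∣ 1 := fun h => hp.one_lt.ne' (Nat.dvd_one.1 h)
  have hz1 : ctx.z ≠ 1 := ctx.z_ne_one
  have hzmem : ctx.z ∈ Subgroup.zpowers ctx.z := Subgroup.mem_zpowers _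
  have hy1 : ¬ p ∣ orderOf (1 : C) := by
    rw [orderOf_one]
    exact h1p
  have h1 := ctx.card_T_mul_apply hzmem hz1 (S.mem q) hy1
  have h2 : ∀ n : mrN x, d1dEl C b (a q) ((conjAutOn C (n : G) (ctx.hNC n.2)).symm ctx.z) *
        (θ : C → ℂ) ((conjAutOn C (n : G) (ctx.hNC n.2)).symm 1) =
      (charDegree (θ : C → ℂ) : ℂ) := by
    intro n
    obtain ⟨k, hk, hk'⟩ := ctx.exists_pow_of_mem (ctx.conj_mem_zpowers n.2 hzmem)
      (ctx.conj_ne_one n.2 hz1)
    rw [hk', S.dEl_exc q hk, map_one, (irr_apply_one_eq_charDegree θ.2).1]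
    have h3 : ∑ ξ : ctx.Bn, (if ctx.mkQ ξ = q then d1om ctx.z ξ.1 ^ k else 0) =
        ∑ ξ : ctx.Bn, d1om ctx.z ξ.1 ^ k := by
      refine Finset.sum_congr rfl fun ξ _ => ?_
      rw [if_pos (br_class_univ ctx he q ξ)]
    have h4 : ∑ ξ : ctx.Bn, (by classical exact if ctx.mkQ ξ = q then d1om ctx.z ξ.1 ^ k else 0) =
        ∑ ξ : ctx.Bn, (if ctx.mkQ ξ = q then d1om ctx.z ξ.1 ^ k else 0) := by
      refine Finset.sum_congr rfl fun ξ _ => ?_
      congr
    rw [h4, h3, ctx.sum_Bn_om_pow hk, hε]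
    push_cast
    ring
  rw [Finset.sum_congr rfl (fun n _ => h2 n), Finset.sum_const, Finset.card_univ, nsmul_eq_mul,
    Fintype.card_eq_nat_card, ctx.card_N] at h1
  have hT : (Nat.card ctx.T : ℂ) ≠ 0 := Nat.cast_ne_zero.2 Nat.card_pos.ne'
  have h5 : (a q : G → ℂ) x = ((ctx.r * charDegree (θ : C → ℂ) : ℕ) : ℂ) := by
    apply mul_left_cancel₀ hT
    have h6 : ((ctx.z : C) : G) * ((1 : C) : G) = x := by
      show x * 1 = x
      rw [mul_one]
    rw [h6] at h1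
    rw [h1]
    push_cast
    ring
  apply br_eq_of_apply (a q) x _ h5 _ hdeg
  have h7 := S.exc_degree_mod q
  rw [← ctx.e_mul_r, he, hε] at h7
  have h8 : (charDegree (a q : G → ℂ) : ℤ) - ((ctx.r * charDegree (θ : C → ℂ) : ℕ) : ℤ) =
      ((charDegree (a q : G → ℂ) : ℤ) -
        -1 * (((p - 1) * ctx.r * charDegree (θ : C → ℂ) : ℕ) : ℤ)) -
      (p : ℤ) * ((ctx.r * charDegree (θ : C → ℂ) : ℕ) : ℤ) := by
    have h9 : ((p - 1 : ℕ) : ℤ) = (p : ℤ) - 1 := by
      rw [Nat.cast_sub hp.one_lt.le, Nat.cast_one]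
    push_cast
    rw [h9]
    ring
  rw [h8]
  exact dvd_sub h7 (dvd_mul_right _ _)


/-- if `ε = 1` a small exceptional character does not contain the canonical character -/
theorem br_exc_t_zero {ctx : D1Ctx p M x C b B θ} {a : ctx.Q → IrrCharacter G}
    (S : ctx.Str ε W a) (q : ctx.Q) (hε : ε = 1) (hdeg : charDegree (a q : G → ℂ) < p) :
    d1m C (a q) θ = 0 := by
  classical
  have : Fintype (IrrCharacter C) := Fintype.ofFinite _
  have hp : p.Prime := Fact.out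
  have hθpos := br_degree_theta_pos θ
  have hsum := br_sum_Bn_le ctx (fun ξ => d1m C (a q) ξ * charDegree (ξ : C → ℂ))
  rw [← br_degree_eq_sum C (a q)] at hsum
  by_contra ht
  have ht1 : 1 ≤ d1m C (a q) θ := Nat.one_le_iff_ne_zero.2 ht
  have h2 : ∀ ξ : ctx.Bn, 1 ≤ d1m C (a q) ξ.1 := by
    intro ξ
    have h := br_V_exc S q ξ
    rw [hε] at h
    split_ifs at h <;> omega
  have h3 : ∑ ξ : ctx.Bn, charDegree (θ : C → ℂ) ≤
      ∑ ξ : ctx.Bn, d1m C (a q) ξ.1 * charDegree (ξ.1 : C → ℂ) := by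
    refine Finset.sum_le_sum fun ξ _ => ?_
    rw [br_degree_mem_b ctx ξ.2.1]
    exact Nat.le_mul_of_pos_left _ (h2 ξ)
  rw [Finset.sum_const, Finset.card_univ, ctx.card_Bn, smul_eq_mul] at h3
  have h4 : charDegree (θ : C → ℂ) ≤ d1m C (a q) θ * charDegree (θ : C → ℂ) :=
    Nat.le_mul_of_pos_left _ ht1
  have h5 : p - 1 ≤ (p - 1) * charDegree (θ : C → ℂ) := Nat.le_mul_of_pos_right _ hθpos
  omega

/-- a small exceptional character which is not constant on `⟨x⟩`: `ε = 1` and the canonical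
character does not occur in the restriction -/
theorem br_exc_eps {ctx : D1Ctx p M x C b B θ} {a : ctx.Q → IrrCharacter G}
    (S : ctx.Str ε W a) (q : ctx.Q) (hdeg : 2 * charDegree (a q : G → ℂ) + 1 < p)
    (hne : (a q : G → ℂ) x ≠ (a q : G → ℂ) 1) : ε = 1 ∧ d1m C (a q) θ = 0 := by
  classical
  have : Fintype (IrrCharacter C) := Fintype.ofFinite _
  have hp : p.Prime := Fact.out
  have hθpos := br_degree_theta_pos θ
  obtain ⟨ξ₀, hξ₀⟩ := ctx.mkQ_surj q
  have hsum := br_sum_Bn_le ctx (fun ξ => d1m C (a q) ξ * charDegree (ξ : C → ℂ))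
  rw [← br_degree_eq_sum C (a q)] at hsum
  have hε1 : ε = 1 := by
    rcases S.hε with h1 | h1
    · exact h1
    exfalso
    by_cases ht : d1m C (a q) θ = 0
    · have h := br_V_exc S q ξ₀
      rw [if_pos hξ₀, ht, h1] at h
      omega
    have ht1 : 1 ≤ d1m C (a q) θ := Nat.one_le_iff_ne_zero.2 ht
    by_cases he : ctx.e = p - 1
    · exact hne (br_exc_corner S q he h1 (by omega))
    have he2 : 2 * ctx.e ≤ p - 1 := by
      obtain ⟨k, hk⟩ := ctx.e_dvd
      have hk0 : k ≠ 0 := by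
        rintro rfl
        have := hp.two_le
        omega
      have hk1 : k ≠ 1 := by
        rintro rfl
        rw [mul_one] at hk
        exact he hk.symm
      have hk2 : 2 ≤ k := by omega
      rw [hk, mul_comm]
      exact Nat.mul_le_mul_left _ hk2
    have h2 : ∀ ξ : ctx.Bn, ctx.mkQ ξ ≠ q → 1 ≤ d1m C (a q) ξ.1 := by
      intro ξ hξ
      have h := br_V_exc S q ξ
      rw [if_neg hξ] at h
      omega
    have h3 : ∑ ξ : ctx.Bn, (if ctx.mkQ ξ = q then 0 else charDegree (θ : C → ℂ)) ≤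
        ∑ ξ : ctx.Bn, d1m C (a q) ξ.1 * charDegree (ξ.1 : C → ℂ) := by
      refine Finset.sum_le_sum fun ξ _ => ?_
      split_ifs with h
      · exact Nat.zero_le _
      · rw [br_degree_mem_b ctx ξ.2.1]
        exact Nat.le_mul_of_pos_left _ (h2 ξ h)
    have h5 : ∑ ξ : ctx.Bn, (if ctx.mkQ ξ = q then 0 else charDegree (θ : C → ℂ)) +
        ∑ ξ : ctx.Bn, (if ctx.mkQ ξ = q then charDegree (θ : C → ℂ) else 0) =
        (p - 1) * charDegree (θ : C → ℂ) := by
      rw [← Finset.sum_add_distrib]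
      have : ∀ ξ : ctx.Bn, (if ctx.mkQ ξ = q then 0 else charDegree (θ : C → ℂ)) +
          (if ctx.mkQ ξ = q then charDegree (θ : C → ℂ) else 0) = charDegree (θ : C → ℂ) := by
        intro ξ
        split_ifs <;> simp
      rw [Finset.sum_congr rfl (fun ξ _ => this ξ), Finset.sum_const, Finset.card_univ,
        ctx.card_Bn, smul_eq_mul]
    have h6 : ∑ ξ : ctx.Bn, (if ctx.mkQ ξ = q then charDegree (θ : C → ℂ) else 0) =
        ctx.e * charDegree (θ : C → ℂ) := by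
      rw [← Finset.sum_filter, Finset.sum_const, br_card_class_eq ctx q, smul_eq_mul]
    have h7 : 2 * (ctx.e * charDegree (θ : C → ℂ)) ≤ (p - 1) * charDegree (θ : C → ℂ) := by
      rw [← mul_assoc]
      exact Nat.mul_le_mul_right _ he2
    have h8 : charDegree (θ : C → ℂ) ≤ d1m C (a q) θ * charDegree (θ : C → ℂ) :=
      Nat.le_mul_of_pos_left _ ht1
    have h9 : p - 1 ≤ (p - 1) * charDegree (θ : C → ℂ) := Nat.le_mul_of_pos_right _ hθpos
    omega
  exact ⟨hε1, br_exc_t_zero S q hε1 (by omega)⟩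

/-- the size of an orbit of the normalizer on a non-canonical character of `b` -/
theorem br_card_orbit (ctx : D1Ctx p M x C b B θ) [Fintype (IrrCharacter C)] (ξ₀ : ctx.Bn)
    [DecidablePred fun ξ : IrrCharacter C => ctx.Rel ξ ξ₀.1] :
    (Finset.univ.filter (fun ξ : IrrCharacter C => ctx.Rel ξ ξ₀.1)).card =
      C.relIndex (mrN x) := by
  classical
  have : Fintype (mrN x) := Fintype.ofFinite _
  have h1 := Finset.card_eq_sum_card_fiberwise (s := (Finset.univ : Finset (mrN x)))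
    (t := (Finset.univ : Finset (IrrCharacter C)))
    (f := fun n : mrN x => conjIrr C (n : G) (ctx.hNC n.2) ξ₀.1) (fun _ _ => Finset.mem_univ _)
  have h2 : ∀ ξ : IrrCharacter C,
      (Finset.univ.filter (fun n : mrN x => conjIrr C (n : G) (ctx.hNC n.2) ξ₀.1 = ξ)).card =
        if ctx.Rel ξ ξ₀.1 then Nat.card C else 0 :=
    fun ξ => ctx.card_conj_irr_eq ξ₀.2.1 ξ₀.2.2
  rw [Finset.sum_congr rfl (fun ξ _ => h2 ξ), ← Finset.sum_filter, Finset.sum_const,
    smul_eq_mul, Finset.card_univ, Fintype.card_eq_nat_card, ctx.card_N, ctx.card_T] at h1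
  have hC : 0 < Nat.card C := Nat.card_pos
  rw [← ctx.e_mul_r]
  have h3 : Nat.card C * (ctx.e * ctx.r) = Nat.card C *
      (Finset.univ.filter (fun ξ : IrrCharacter C => ctx.Rel ξ ξ₀.1)).card := by
    rw [← mul_assoc, h1, mul_comm]
  exact (Nat.eq_of_mul_eq_mul_left hC h3).symm

/-- the degree of a conjugate -/
theorem br_degree_of_rel (ctx : D1Ctx p M x C b B θ) (ξ₀ : ctx.Bn) {ξ : IrrCharacter C}
    (h : ctx.Rel ξ ξ₀.1) : charDegree (ξ : C → ℂ) = charDegree (θ : C → ℂ) := by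
  obtain ⟨n, hn, rfl⟩ := h
  rw [← br_degree_mem_b ctx ξ₀.2.1]
  unfold charDegree
  rw [conjIrr_apply_one]

/-- **the restriction of a small exceptional character to the centralizer** -/
theorem br_exc_restrict {ctx : D1Ctx p M x C b B θ} {a : ctx.Q → IrrCharacter G}
    (S : ctx.Str ε W a) (ξ₀ : ctx.Bn) (hε : ε = 1)
    (hdeg : charDegree (a (ctx.mkQ ξ₀) : G → ℂ) < p) :
    charDegree (a (ctx.mkQ ξ₀) : G → ℂ) = C.relIndex (mrN x) * charDegree (θ : C → ℂ) ∧
    (∀ ξ : IrrCharacter C, ctx.Rel ξ ξ₀.1 → d1m C (a (ctx.mkQ ξ₀)) ξ = 1) ∧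
    (∀ ξ : IrrCharacter C, ¬ ctx.Rel ξ ξ₀.1 → d1m C (a (ctx.mkQ ξ₀)) ξ = 0) := by
  classical
  have : Fintype (IrrCharacter C) := Fintype.ofFinite _
  have hp : p.Prime := Fact.out
  have ht := br_exc_t_zero S (ctx.mkQ ξ₀) hε hdeg
  have h1 : d1m C (a (ctx.mkQ ξ₀)) ξ₀.1 = 1 := by
    have h := br_V_exc S (ctx.mkQ ξ₀) ξ₀
    rw [if_pos rfl, ht, hε] at h
    omega
  have h2 : ∀ ξ : IrrCharacter C, ctx.Rel ξ ξ₀.1 → d1m C (a (ctx.mkQ ξ₀)) ξ = 1 := by
    rintro ξ ⟨n, hn, rfl⟩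
    rw [d1m_conjIrr, h1]
  have hcard := br_card_orbit ctx ξ₀
  have hdegsum := br_degree_eq_sum C (a (ctx.mkQ ξ₀))
  rw [← Finset.sum_filter_add_sum_filter_not Finset.univ (fun ξ : IrrCharacter C => ctx.Rel ξ ξ₀.1)]
    at hdegsum
  have h3 : ∑ ξ ∈ Finset.univ.filter (fun ξ : IrrCharacter C => ctx.Rel ξ ξ₀.1),
      d1m C (a (ctx.mkQ ξ₀)) ξ * charDegree (ξ : C → ℂ) =
      C.relIndex (mrN x) * charDegree (θ : C → ℂ) := by
    have : ∀ ξ ∈ Finset.univ.filter (fun ξ : IrrCharacter C => ctx.Rel ξ ξ₀.1),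
        d1m C (a (ctx.mkQ ξ₀)) ξ * charDegree (ξ : C → ℂ) = charDegree (θ : C → ℂ) := by
      intro ξ hξ
      rw [Finset.mem_filter] at hξ
      rw [h2 ξ hξ.2, one_mul, br_degree_of_rel ctx ξ₀ hξ.2]
    rw [Finset.sum_congr rfl this, Finset.sum_const, hcard, smul_eq_mul]
  rw [h3] at hdegsum
  set R := ∑ ξ ∈ Finset.univ.filter (fun ξ : IrrCharacter C => ¬ ctx.Rel ξ ξ₀.1),
      d1m C (a (ctx.mkQ ξ₀)) ξ * charDegree (ξ : C → ℂ) with hR
  have h4 := S.exc_degree_mod (ctx.mkQ ξ₀)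
  rw [hε, one_mul, hdegsum] at h4
  have h5 : (p : ℤ) ∣ (R : ℤ) := by
    have : ((C.relIndex (mrN x) * charDegree (θ : C → ℂ) + R : ℕ) : ℤ) -
        ((C.relIndex (mrN x) * charDegree (θ : C → ℂ) : ℕ) : ℤ) = (R : ℤ) := by
      push_cast
      ring
    rw [← this]
    exact h4
  have h6 : p ∣ R := by exact_mod_cast h5
  have h7 : R = 0 := by
    apply Nat.eq_zero_of_dvd_of_lt h6
    omega
  refine ⟨by omega, h2, ?_⟩
  intro ξ hξ
  rw [hR, Finset.sum_eq_zero_iff] at h7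
  have h8 := h7 ξ (Finset.mem_filter.2 ⟨Finset.mem_univ _, hξ⟩)
  rcases Nat.mul_eq_zero.1 h8 with h9 | h9
  · exact h9
  · exact absurd h9 (br_degree_theta_pos ξ).ne'

end

end Cfsg.Agent.Lib.Helper7
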