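import Mathlib
import Cfsg.Agent.Lib.Helper8.DO21
import Cfsg.Agent.Lib.Helper7.BR3

set_option autoImplicit false
set_option maxHeartbeats 800000
set_option linter.unusedSectionVars false

namespace Cfsg.Agent.Lib.Helper7

open Cfsg Cfsg.Agent.Lib.Helper8
open scoped ComplexConjugate
open Cfsg.Agent.Lib.Helper1 Cfsg.Agent.Lib.Helper4

universe u

section

variable {G : Type u} [Group G] [Fintype G] {M : Ideal AlgInt} {p : ℕ} [Fact p.Prime]
  {x : G} {C : Subgroup G} [Fintype C] {b : Set (IrrCharacter C)} {B : Set (IrrCharacter G)}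
  {θ : IrrCharacter C}

/-- the restriction pattern of a small character: the restriction of `χ` to `C` is the sum of the
`f` distinct members of `O`, all of degree `d` -/
structure BrPattern (C : Subgroup G) [Fintype C] (f d : ℕ) (χ : IrrCharacter G)
    (O : Finset (IrrCharacter C)) : Prop where
  card : O.card = f
  deg : ∀ ξ ∈ O, charDegree (ξ : C → ℂ) = d
  res : ∀ c : C, (χ : G → ℂ) c = ∑ ξ ∈ O, (ξ : C → ℂ) c

variable {ε : ℤ} {W : IrrCharacter G → ℤ}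

/-- the pattern of a small exceptional character -/
theorem br_pattern_of_restrict {ctx : D1Ctx p M x C b B θ} {a : ctx.Q → IrrCharacter G}
    (S : ctx.Str ε W a) (ξ₀ : ctx.Bn) (hε : ε = 1)
    (hdeg : charDegree (a (ctx.mkQ ξ₀) : G → ℂ) < p) [Fintype (IrrCharacter C)]
    [DecidablePred fun ξ : IrrCharacter C => ctx.Rel ξ ξ₀.1] :
    BrPattern C (C.relIndex (mrN x)) (charDegree (θ : C → ℂ)) (a (ctx.mkQ ξ₀))
      (Finset.univ.filter (fun ξ : IrrCharacter C => ctx.Rel ξ ξ₀.1)) := by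
  obtain ⟨_, h2, h3⟩ := br_exc_restrict S ξ₀ hε hdeg
  refine ⟨br_card_orbit ctx ξ₀, ?_, ?_⟩
  · intro ξ hξ
    exact br_degree_of_rel ctx ξ₀ (Finset.mem_filter.1 hξ).2
  · intro c
    rw [d1_restrict_expansion C (a (ctx.mkQ ξ₀)) c, Finset.sum_filter]
    refine Finset.sum_congr rfl fun ξ _ => ?_
    by_cases h : ctx.Rel ξ ξ₀.1
    · rw [if_pos h, h2 ξ h, Nat.cast_one, one_mul]
    · rw [if_neg h, h3 ξ h, Nat.cast_zero, zero_mul]

/-- the block of a character of degree less than `p` has positive defect -/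
theorem br_blockDefect_ne_zero (hdiv : p ∣ Nat.card G) {B : Set (IrrCharacter G)}
    {χ : IrrCharacter G} (hχ : χ ∈ B) (hdeg : charDegree (χ : G → ℂ) < p) :
    blockDefect p B ≠ 0 := by
  have hp : p.Prime := Fact.out
  unfold blockDefect
  have h1 : sInf ((fun χ : IrrCharacter G => (charDegree (χ : G → ℂ)).factorization p) '' B) = 0 := by
    apply Nat.eq_zero_of_le_zero
    rw [← Nat.factorization_eq_zero_of_lt hdeg]
    exact Nat.sInf_le ⟨χ, hχ, rfl⟩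
  rw [h1, Nat.sub_zero]
  exact (hp.factorization_pos_of_dvd Nat.card_pos.ne' hdiv).ne'

/-- Claim A, inside a given block -/
theorem br_claimA_aux {ctx : D1Ctx p M x C b B θ} {a : ctx.Q → IrrCharacter G}
    (S : ctx.Str ε W a) (hxC : x ∈ C) (χ₁ : IrrCharacter G) (hχB : χ₁ ∈ B)
    (hdeg : 2 * charDegree (χ₁ : G → ℂ) + 1 < p) (hne : (χ₁ : G → ℂ) x ≠ (χ₁ : G → ℂ) 1) :
    ∃ (d : ℕ) (O O' : Finset (IrrCharacter C)) (χ' : IrrCharacter G), 0 < d ∧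
      charDegree (χ₁ : G → ℂ) = C.relIndex (mrN x) * d ∧
      BrPattern C (C.relIndex (mrN x)) d χ₁ O ∧ BrPattern C (C.relIndex (mrN x)) d χ' O' ∧
      (∀ g : G, ¬ p ∣ orderOf g → (χ' : G → ℂ) g = (χ₁ : G → ℂ) g) ∧ χ' ≠ χ₁ ∧
      ∀ ξ ∈ O, ∀ ξ' ∈ O', d1om (⟨x, hxC⟩ : C) ξ ≠ d1om (⟨x, hxC⟩ : C) ξ' := by
  classical
  have : Fintype (IrrCharacter C) := Fintype.ofFinite _
  have hp : p.Prime := Fact.out
  -- χ₁ is exceptional
  have hexc : χ₁ ∈ Set.range a := by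
    by_contra h
    exact hne (br_nonexc_eq S hχB h (by omega))
  obtain ⟨q, rfl⟩ := hexc
  obtain ⟨hε, -⟩ := br_exc_eps S q hdeg hne
  obtain ⟨ξ₀, rfl⟩ := ctx.mkQ_surj q
  have hdeg' : charDegree (a (ctx.mkQ ξ₀) : G → ℂ) < p := by omega
  obtain ⟨hd, -, -⟩ := br_exc_restrict S ξ₀ hε hdeg'
  have hpat := br_pattern_of_restrict S ξ₀ hε hdeg'
  have hθpos := br_degree_theta_pos θ
  -- the second character
  have hf : C.relIndex (mrN x) < p - 1 := by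
    have : C.relIndex (mrN x) ≤ C.relIndex (mrN x) * charDegree (θ : C → ℂ) :=
      Nat.le_mul_of_pos_right _ hθpos
    omega
  have hz : ctx.z = (⟨x, hxC⟩ : C) := rfl
  obtain ⟨ξ₀', hξ₀'⟩ : ∃ ξ₀' : ctx.Bn, ∀ ξ ∈ Finset.univ.filter
      (fun ξ : IrrCharacter C => ctx.Rel ξ ξ₀.1), d1om ctx.z ξ ≠ d1om ctx.z ξ₀'.1 := by
    by_contra hcon
    push Not at hcon
    choose g hg hg' using hcon
    have hinj : Function.Injective
        (fun ξ' : ctx.Bn => (⟨g ξ', hg ξ'⟩ : {ξ // ξ ∈ Finset.univ.filter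
          (fun ξ : IrrCharacter C => ctx.Rel ξ ξ₀.1)})) := by
      intro ξ₁ ξ₂ h
      have h1 : g ξ₁ = g ξ₂ := congrArg Subtype.val h
      have h2 : d1om ctx.z ξ₁.1 = d1om ctx.z ξ₂.1 := by
        rw [← hg' ξ₁, ← hg' ξ₂, h1]
      exact Subtype.ext (d1om_injOn ctx.hM ctx.hzc ctx.hb ctx.hDb ξ₁.2.1 ξ₂.2.1 h2)
    have h3 := Fintype.card_le_of_injective _ hinj
    rw [ctx.card_Bn, Fintype.card_coe, hpat.card] at h3
    omega
  have hagree : ∀ g : G, ¬ p ∣ orderOf g →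
      (a (ctx.mkQ ξ₀') : G → ℂ) g = (a (ctx.mkQ ξ₀) : G → ℂ) g :=
    fun g hg => S.exc_agree _ _ hg
  have hdegeq : charDegree (a (ctx.mkQ ξ₀') : G → ℂ) = charDegree (a (ctx.mkQ ξ₀) : G → ℂ) := by
    unfold charDegree
    rw [hagree 1 (by rw [orderOf_one]; exact fun h => hp.one_lt.ne' (Nat.dvd_one.1 h))]
  have hpat' := br_pattern_of_restrict S ξ₀' hε (by omega)
  refine ⟨charDegree (θ : C → ℂ), _, _, a (ctx.mkQ ξ₀'), hθpos, hd, hpat, hpat', hagree, ?_, ?_⟩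
  · intro h
    have h1 := (ctx.mkQ_eq_iff ξ₀' ξ₀).1 (S.inj h)
    exact hξ₀' ξ₀'.1 (Finset.mem_filter.2 ⟨Finset.mem_univ _, h1⟩) rfl
  · intro ξ hξ ξ' hξ' h
    rw [Finset.mem_filter] at hξ hξ'
    obtain ⟨n', hn', hn'eq⟩ := hξ'.2
    have hinv : n'⁻¹ ∈ mrN x := Subgroup.inv_mem _ hn'
    obtain ⟨m, -, hm⟩ := ctx.exists_om_conj hinv
    have h1 : conjIrr C n'⁻¹ (ctx.hNC hinv) ξ' = ξ₀'.1 := by
      rw [← hn'eq]
      exact conjIrr_inv_conjIrr C n' (ctx.hNC hn') ξ₀'.1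
    have h2 : ctx.Rel (conjIrr C n'⁻¹ (ctx.hNC hinv) ξ) ξ₀.1 :=
      ctx.rel_trans ⟨n'⁻¹, hinv, rfl⟩ hξ.2
    apply hξ₀' _ (Finset.mem_filter.2 ⟨Finset.mem_univ _, h2⟩)
    rw [hm ξ, ← h1, hm ξ']
    exact congrArg (· ^ m) h

/-- **Claim A**: the structure of a small irreducible character which is not constant on `⟨x⟩` -/
theorem br_claimA (base : D1Base p M x C) (hxC : x ∈ C) (χ₁ : IrrCharacter G)
    (hdeg : 2 * charDegree (χ₁ : G → ℂ) + 1 < p) (hne : (χ₁ : G → ℂ) x ≠ (χ₁ : G → ℂ) 1) :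
    ∃ (d : ℕ) (O O' : Finset (IrrCharacter C)) (χ' : IrrCharacter G), 0 < d ∧
      charDegree (χ₁ : G → ℂ) = C.relIndex (mrN x) * d ∧
      BrPattern C (C.relIndex (mrN x)) d χ₁ O ∧ BrPattern C (C.relIndex (mrN x)) d χ' O' ∧
      (∀ g : G, ¬ p ∣ orderOf g → (χ' : G → ℂ) g = (χ₁ : G → ℂ) g) ∧ χ' ≠ χ₁ ∧
      ∀ ξ ∈ O, ∀ ξ' ∈ O', d1om (⟨x, hxC⟩ : C) ξ ≠ d1om (⟨x, hxC⟩ : C) ξ' := by
  classical
  have hp : p.Prime := Fact.out
  have hMp := isPModular_isPrime base.hM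
  have hdiv : p ∣ Nat.card G := by
    rw [← base.hx]
    exact orderOf_dvd_natCard x
  -- the block of χ₁
  have hB : IsPBlock M (blockOf M (χ₁ : G → ℂ)) := ⟨χ₁, rfl⟩
  have hχB : χ₁ ∈ blockOf M (χ₁ : G → ℂ) := sameBlock_refl hMp.ne_top _
  have hBP : IsDefectGroup p M (blockOf M (χ₁ : G → ℂ)) (Subgroup.zpowers x) := by
    rcases d1h_defect_zero_or base.hM base.hx base.hsq hB with h | h
    · exact absurd h (br_blockDefect_ne_zero hdiv hχB (by omega))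
    · exact h
  obtain ⟨b₁, θ₁, ctx⟩ := base.exists_ctx hB hBP
  obtain ⟨ε, W, a, S⟩ := ctx.exists_str
  exact br_claimA_aux S hxC χ₁ hχB hdeg hne

end

end Cfsg.Agent.Lib.Helper7
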