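import Mathlib
import Cfsg.Agent.Lib.Helper8.DO21
import Cfsg.Agent.Lib.Helper7.BR4

set_option autoImplicit false
set_option maxHeartbeats 800000
set_option linter.unusedSectionVars false

namespace Cfsg.Agent.Lib.Helper7

open Cfsg Cfsg.Agent.Lib.Helper8
open scoped ComplexConjugate
open Cfsg.Agent.Lib.Helper1 Cfsg.Agent.Lib.Helper4

universe u

section

variable {G : Type u} [Group G] [Fintype G] {C : Subgroup G} [Fintype C]

/-- the restriction of a character with a pattern, as a sum of irreducible characters -/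
theorem br_res_eq_sum {f d : ℕ} {χ : IrrCharacter G} {O : Finset (IrrCharacter C)}
    (h : BrPattern C f d χ O) :
    (fun c : C => (χ : G → ℂ) c) = ∑ ξ ∈ O, (ξ : C → ℂ) := by
  funext c
  rw [h.res c, Finset.sum_apply]

/-- the inner product of the restrictions of two characters with patterns -/
theorem br_inner_res {f d : ℕ} {χ χ' : IrrCharacter G} {O O' : Finset (IrrCharacter C)}
    (h : BrPattern C f d χ O) (h' : BrPattern C f d χ' O') :
    classInner (fun c : C => (χ : G → ℂ) c) (fun c : C => (χ' : G → ℂ) c) =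
      ((O ∩ O').card : ℂ) := by
  classical
  rw [br_res_eq_sum h, br_res_eq_sum h', classInner_sum_left]
  have h1 : ∀ ξ ∈ O, classInner (ξ : C → ℂ) (∑ ξ' ∈ O', (ξ' : C → ℂ)) =
      if ξ ∈ O' then 1 else 0 := by
    intro ξ _
    rw [classInner_sum_right]
    have h2 : ∀ ξ' ∈ O', classInner (ξ : C → ℂ) (ξ' : C → ℂ) = if ξ = ξ' then 1 else 0 := by
      intro ξ' _
      rw [classInner_irr ξ.2 ξ'.2]
      by_cases hh : ξ = ξ'
      · rw [if_pos hh, if_pos (congrArg Subtype.val hh)]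
      · rw [if_neg hh, if_neg (fun h3 => hh (Subtype.ext h3))]
    rw [Finset.sum_congr rfl h2, Finset.sum_ite_eq]
  rw [Finset.sum_congr rfl h1, Finset.sum_ite, Finset.sum_const_zero, add_zero, Finset.sum_const,
    nsmul_eq_mul, mul_one, Finset.filter_mem_eq_inter]

/-- values on powers of a central element -/
theorem br_pattern_pow {z : C} (hzc : ∀ c : C, z * c = c * z) {f d : ℕ} {χ : IrrCharacter G}
    {O : Finset (IrrCharacter C)} (h : BrPattern C f d χ O) (k : ℕ) :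
    (χ : G → ℂ) ((z : G) ^ k) = (d : ℂ) * ∑ ξ ∈ O, d1om z ξ ^ k := by
  have h1 : (z : G) ^ k = ((z ^ k : C) : G) := (Subgroup.coe_pow C z k).symm
  rw [h1, h.res, Finset.mul_sum]
  refine Finset.sum_congr rfl fun ξ hξ => ?_
  rw [d1om_pow_apply hzc ξ k, (irr_apply_one_eq_charDegree ξ.2).1, h.deg ξ hξ, mul_comm]

/-- orthogonality of distinct `p`-th roots of unity -/
theorem br_sum_root_mul_conj {p : ℕ} {ω₁ ω₂ : ℂ} (h1 : ω₁ ^ p = 1) (h2 : ω₂ ^ p = 1)
    (hne : ω₁ ≠ ω₂) (hc : conj ω₂ = ω₂⁻¹) :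
    ∑ k ∈ Finset.range p, ω₁ ^ k * conj (ω₂ ^ k) = 0 := by
  rcases Nat.eq_zero_or_pos p with rfl | hp
  · simp
  have h20 : ω₂ ≠ 0 := by
    intro h
    rw [h, zero_pow hp.ne'] at h2
    exact zero_ne_one h2
  have h3 : ∀ k : ℕ, ω₁ ^ k * conj (ω₂ ^ k) = (ω₁ * ω₂⁻¹) ^ k := by
    intro k
    rw [map_pow, hc, mul_pow]
  rw [Finset.sum_congr rfl (fun k _ => h3 k)]
  have h4 : ω₁ * ω₂⁻¹ ≠ 1 := by
    intro h
    apply hne
    field_simp at h
    exact h
  rw [geom_sum_eq h4, mul_pow, inv_pow, h1, h2]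
  simp

/-- the sum over `⟨x⟩` of `χ · conj χ'` vanishes when the patterns have disjoint `om`-values -/
theorem br_sum_pow_mul_conj {p : ℕ} {z : C} (hzc : ∀ c : C, z * c = c * z)
    (homp : ∀ ξ : IrrCharacter C, d1om z ξ ^ p = 1) {f d : ℕ} {χ χ' : IrrCharacter G}
    {O O' : Finset (IrrCharacter C)} (h : BrPattern C f d χ O) (h' : BrPattern C f d χ' O')
    (hdisj : ∀ ξ ∈ O, ∀ ξ' ∈ O', d1om z ξ ≠ d1om z ξ') :
    ∑ k ∈ Finset.range p, (χ : G → ℂ) ((z : G) ^ k) * conj ((χ' : G → ℂ) ((z : G) ^ k)) = 0 := by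
  have h1 : ∀ k : ℕ, (χ : G → ℂ) ((z : G) ^ k) * conj ((χ' : G → ℂ) ((z : G) ^ k)) =
      (d : ℂ) * (d : ℂ) * ∑ ξ ∈ O, ∑ ξ' ∈ O', d1om z ξ ^ k * conj (d1om z ξ' ^ k) := by
    intro k
    rw [br_pattern_pow hzc h k, br_pattern_pow hzc h' k, map_mul, map_sum, Complex.conj_natCast,
      ← Finset.sum_mul_sum]
    ring
  rw [Finset.sum_congr rfl (fun k _ => h1 k), ← Finset.mul_sum, Finset.sum_comm]
  have h2 : ∀ ξ ∈ O, ∑ k ∈ Finset.range p, ∑ ξ' ∈ O', d1om z ξ ^ k * conj (d1om z ξ' ^ k) = 0 := by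
    intro ξ hξ
    rw [Finset.sum_comm]
    refine Finset.sum_eq_zero fun ξ' hξ' => ?_
    exact br_sum_root_mul_conj (homp ξ) (homp ξ') (hdisj ξ hξ ξ' hξ') (d1om_conj hzc ξ')
  rw [Finset.sum_congr rfl h2, Finset.sum_const_zero, mul_zero]

end

end Cfsg.Agent.Lib.Helper7
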