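import Mathlib
import Cfsg.Agent.Lib.Helper8.DO21
import Cfsg.Agent.Lib.Helper8.DO18
import Cfsg.Agent.Lib.Helper7.BR5

set_option autoImplicit false
set_option maxHeartbeats 800000
set_option linter.unusedSectionVars false

namespace Cfsg.Agent.Lib.Helper7

open Cfsg Cfsg.Agent.Lib.Helper8
open scoped ComplexConjugate
open Cfsg.Agent.Lib.Helper1 Cfsg.Agent.Lib.Helper4

universe u

section

variable {G : Type u} [Group G] [Fintype G] {M : Ideal AlgInt} {p : ℕ} [Fact p.Prime]
  {x : G} {C : Subgroup G} [Fintype C] {b : Set (IrrCharacter C)} {B : Set (IrrCharacter G)}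
  {θ : IrrCharacter C}

/-- the sum of the characters of `b` vanishes at the `p`-singular elements of `C` -/
theorem br_sum_block_singular (ctx : D1Ctx p M x C b B θ) [Fintype (IrrCharacter C)]
    [DecidablePred (· ∈ b)] {c : C} (hc : p ∣ orderOf c) :
    ∑ η : IrrCharacter C, (if η ∈ b then (η : C → ℂ) c else 0) = 0 := by
  have hsqC : ¬ p ^ 2 ∣ Nat.card C := fun h =>
    ctx.hsq (h.trans (Subgroup.card_subgroup_dvd_card C))
  obtain ⟨u, y, hcuy, hu, hu1, -, hy, -, -⟩ := d1_decomp ctx.hz hsqC (ctx.hzc c).symm hc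
  obtain ⟨k, hk, rfl⟩ := ctx.exists_pow_of_mem hu hu1
  have h1 : ∀ η : IrrCharacter C, (if η ∈ b then (η : C → ℂ) c else 0) =
      (if η ∈ b then d1om ctx.z η ^ k else 0) * (θ : C → ℂ) y := by
    intro η
    by_cases hη : η ∈ b
    · rw [if_pos hη, if_pos hη, hcuy, d1om_pow_mul ctx.hzc η k y, ctx.apply_pRegular hη hy]
    · rw [if_neg hη, if_neg hη, zero_mul]
  rw [Finset.sum_congr rfl (fun η _ => h1 η), ← Finset.sum_mul,
    d1_sum_om_pow_eq_zero ctx.hM ctx.hzc ctx.hz ctx.hb ctx.hDb hk, zero_mul]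

variable {ε : ℤ} {W : IrrCharacter G → ℤ}

/-- the sum of the values of an exceptional character over the nontrivial powers of `x` -/
theorem br_exc_sum_pow {ctx : D1Ctx p M x C b B θ} {a : ctx.Q → IrrCharacter G}
    (S : ctx.Str ε W a) (q : ctx.Q) :
    (Nat.card ctx.T : ℂ) * ∑ k ∈ (Finset.range p).erase 0, (a q : G → ℂ) (x ^ k) =
      (Nat.card (mrN x) : ℂ) * (-(ε : ℂ) * (ctx.e : ℂ) * (charDegree (θ : C → ℂ) : ℂ)) := by
  classical
  have : Fintype (IrrCharacter C) := Fintype.ofFinite _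
  have : Fintype (mrN x) := Fintype.ofFinite _
  have hp : p.Prime := Fact.out
  have hy1 : ¬ p ∣ orderOf (1 : C) := by
    rw [orderOf_one]
    exact fun h => hp.one_lt.ne' (Nat.dvd_one.1 h)
  have hzmem : ctx.z ∈ Subgroup.zpowers ctx.z := Subgroup.mem_zpowers _
  rw [Finset.mul_sum]
  have h1 : ∀ k ∈ (Finset.range p).erase 0,
      (Nat.card ctx.T : ℂ) * (a q : G → ℂ) (x ^ k) =
      ∑ n : mrN x, d1dEl C b (a q) ((conjAutOn C (n : G) (ctx.hNC n.2)).symm (ctx.z ^ k)) *
        (charDegree (θ : C → ℂ) : ℂ) := by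
    intro k hk
    rw [Finset.mem_erase, Finset.mem_range] at hk
    have hk' : ¬ p ∣ k := D1Ctx.not_dvd_of_lt (Nat.pos_of_ne_zero hk.1) hk.2
    have h2 := ctx.card_T_mul_apply (Subgroup.npow_mem_zpowers ctx.z k) (ctx.z_pow_ne_one hk')
      (S.mem q) hy1
    simp only [map_one, OneMemClass.coe_one, mul_one, D1Ctx.coe_z_pow] at h2
    rw [h2, (irr_apply_one_eq_charDegree θ.2).1]
  rw [Finset.sum_congr rfl h1, Finset.sum_comm]
  have h3 : ∀ n : mrN x, ∑ k ∈ (Finset.range p).erase 0,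
      d1dEl C b (a q) ((conjAutOn C (n : G) (ctx.hNC n.2)).symm (ctx.z ^ k)) *
        (charDegree (θ : C → ℂ) : ℂ) =
      -(ε : ℂ) * (ctx.e : ℂ) * (charDegree (θ : C → ℂ) : ℂ) := by
    intro n
    obtain ⟨m, hm, hm'⟩ := ctx.exists_pow_of_mem (ctx.conj_mem_zpowers n.2 hzmem)
      (ctx.conj_ne_one n.2 ctx.z_ne_one)
    have h4 : ∀ k ∈ (Finset.range p).erase 0,
        d1dEl C b (a q) ((conjAutOn C (n : G) (ctx.hNC n.2)).symm (ctx.z ^ k)) =
        (ε : ℂ) * ∑ ξ : ctx.Bn,
          (if ctx.mkQ ξ = q then (d1om ctx.z ξ.1 ^ m) ^ k else 0) := by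
      intro k hk
      rw [Finset.mem_erase, Finset.mem_range] at hk
      have hk' : ¬ p ∣ k := D1Ctx.not_dvd_of_lt (Nat.pos_of_ne_zero hk.1) hk.2
      have hmk : ¬ p ∣ m * k := fun h => (hp.dvd_mul.1 h).elim hm hk'
      rw [map_pow, hm', ← pow_mul, S.dEl_exc q hmk]
      congr 1
      refine Finset.sum_congr rfl fun ξ _ => ?_
      rw [pow_mul]
    rw [← Finset.sum_mul, Finset.sum_congr rfl h4, ← Finset.mul_sum, Finset.sum_comm]
    have h5 : ∀ ξ : ctx.Bn, ∑ k ∈ (Finset.range p).erase 0,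
        (if ctx.mkQ ξ = q then (d1om ctx.z ξ.1 ^ m) ^ k else 0) =
        if ctx.mkQ ξ = q then (-1 : ℂ) else 0 := by
      intro ξ
      by_cases hξ : ctx.mkQ ξ = q
      · simp only [if_pos hξ]
        have hprim := d1om_isPrimitiveRoot ctx.hM ctx.hzc ctx.hz ctx.hb ctx.hDb ctx.hθ ctx.hker
          ξ.2.1 ξ.2.2
        have hcop : Nat.Coprime m p := ((Nat.Prime.coprime_iff_not_dvd hp).2 hm).symm
        have hprim' := hprim.pow_of_coprime m hcop
        have h6 := hprim'.geom_sum_eq_zero hp.one_lt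
        rw [← Finset.add_sum_erase _ _ (Finset.mem_range.2 hp.pos), pow_zero] at h6
        linear_combination h6
      · simp only [if_neg hξ, Finset.sum_const_zero]
    rw [Finset.sum_congr rfl (fun ξ _ => h5 ξ), ← Finset.sum_filter, Finset.sum_const,
      br_card_class_eq ctx q, nsmul_eq_mul]
    ring
  rw [Finset.sum_congr rfl (fun n _ => h3 n), Finset.sum_const, Finset.card_univ, nsmul_eq_mul,
    Fintype.card_eq_nat_card]

/-- the values of the nonexceptional characters of the principal block at the `p`-singular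
elements -/
theorem br_nonexc_apply_singular {ctx : D1Ctx p M x C b B (trivIrr C)}
    {a : ctx.Q → IrrCharacter G} (S : ctx.Str ε W a) {χ : IrrCharacter G} (hχ : χ ∈ B)
    (hχa : χ ∉ Set.range a) {g : G} (hg : p ∣ orderOf g) : (χ : G → ℂ) g = -(W χ : ℂ) := by
  classical
  have : Fintype (mrN x) := Fintype.ofFinite _
  obtain ⟨t, u, y, htg, hu, hu1, hy⟩ := ctx.exists_conj_decomp hg
  have hcl : (χ : G → ℂ) (t * g * t⁻¹) = (χ : G → ℂ) g := isClassFunction_irr χ.2 g t
  rw [← hcl, htg]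
  have h1 := S.nonexc_apply hχ hχa hu hu1 hy
  simp only [trivIrr_apply, Finset.sum_const, Finset.card_univ, nsmul_eq_mul, mul_one] at h1
  rw [Fintype.card_eq_nat_card, ctx.card_N, ctx.r_eq_of_triv] at h1
  have hT : (Nat.card ctx.T : ℂ) ≠ 0 := Nat.cast_ne_zero.2 Nat.card_pos.ne'
  apply mul_left_cancel₀ hT
  rw [h1]
  push_cast
  ring

/-- principal block: the sum of an exceptional character over the nontrivial powers of `x` -/
theorem br_principal_exc_sum_pow {ctx : D1Ctx p M x C b B (trivIrr C)}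
    {a : ctx.Q → IrrCharacter G} (S : ctx.Str ε W a) (q : ctx.Q) :
    ∑ k ∈ (Finset.range p).erase 0, (a q : G → ℂ) (x ^ k) =
      -(ε : ℂ) * (C.relIndex (mrN x) : ℂ) := by
  have h1 := br_exc_sum_pow S q
  rw [ctx.card_N, ctx.r_eq_of_triv, mul_one, charDegree_trivIrr, ctx.e_eq_of_triv] at h1
  have hT : (Nat.card ctx.T : ℂ) ≠ 0 := Nat.cast_ne_zero.2 Nat.card_pos.ne'
  apply mul_left_cancel₀ hT
  rw [h1]
  push_cast
  ring

/-- the members of the principal block of `C` are linear -/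
theorem br_principal_linear (ctx : D1Ctx p M x C b B (trivIrr C)) {η : IrrCharacter C}
    (hη : η ∈ b) : (η : C → ℂ) 1 = 1 := by
  rw [(irr_apply_one_eq_charDegree η.2).1, br_degree_mem_b ctx hη, charDegree_trivIrr,
    Nat.cast_one]

end

end Cfsg.Agent.Lib.Helper7
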