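import Mathlib
import Cfsg.Agent.Lib.Helper8.DO21
import Cfsg.Agent.Lib.Helper8.DO18
import Cfsg.Agent.Lib.Helper7.BR6

set_option autoImplicit false
set_option maxHeartbeats 800000
set_option linter.unusedSectionVars false

namespace Cfsg.Agent.Lib.Helper7

open Cfsg Cfsg.Agent.Lib.Helper8
open scoped ComplexConjugate
open Cfsg.Agent.Lib.Helper1 Cfsg.Agent.Lib.Helper4

universe u

section

variable {G : Type u} [Group G] [Fintype G]

/-- pointwise expansion of a class function -/
theorem br_expand_apply [Fintype (IrrCharacter G)] (Φ : G → ℂ) (hΦ : IsClassFunction G Φ)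
    (g : G) : Φ g = ∑ ζ : IrrCharacter G, classInner Φ (ζ : G → ℂ) * (ζ : G → ℂ) g := by
  have h := congrFun (class_function_expansion Φ hΦ) g
  rw [Finset.sum_apply] at h
  rw [h]
  refine Finset.sum_congr rfl fun ζ _ => ?_
  rw [Pi.smul_apply, smul_eq_mul]

/-- the multiplicities of the restriction of a class function -/
theorem br_expand_res (C : Subgroup G) [Fintype C] [Fintype (IrrCharacter G)] (Φ : G → ℂ)
    (hΦ : IsClassFunction G Φ) (ξ : IrrCharacter C) :
    classInner (fun c : C => Φ c) (ξ : C → ℂ) =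
      ∑ ζ : IrrCharacter G, classInner Φ (ζ : G → ℂ) * (d1m C ζ ξ : ℂ) := by
  have h1 : (fun c : C => Φ c) = ∑ ζ : IrrCharacter G,
      classInner Φ (ζ : G → ℂ) • (fun c : C => (ζ : G → ℂ) c) := by
    funext c
    rw [br_expand_apply Φ hΦ c, Finset.sum_apply]
    refine Finset.sum_congr rfl fun ζ _ => ?_
    rw [Pi.smul_apply, smul_eq_mul]
  rw [h1, classInner_sum_left]
  refine Finset.sum_congr rfl fun ζ _ => ?_
  rw [classInner_smul_left, d1m_spec]

/-- sums over powers of an element -/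
theorem br_expand_sum_pow [Fintype (IrrCharacter G)] (Φ : G → ℂ) (hΦ : IsClassFunction G Φ)
    (x : G) (s : Finset ℕ) :
    ∑ k ∈ s, Φ (x ^ k) =
      ∑ ζ : IrrCharacter G, classInner Φ (ζ : G → ℂ) * ∑ k ∈ s, (ζ : G → ℂ) (x ^ k) := by
  have h1 : ∀ k ∈ s, Φ (x ^ k) =
      ∑ ζ : IrrCharacter G, classInner Φ (ζ : G → ℂ) * (ζ : G → ℂ) (x ^ k) :=
    fun k _ => br_expand_apply Φ hΦ (x ^ k)
  calc ∑ k ∈ s, Φ (x ^ k) = ∑ k ∈ s, ∑ ζ : IrrCharacter G,
        classInner Φ (ζ : G → ℂ) * (ζ : G → ℂ) (x ^ k) := Finset.sum_congr rfl h1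
    _ = ∑ ζ : IrrCharacter G, ∑ k ∈ s, classInner Φ (ζ : G → ℂ) * (ζ : G → ℂ) (x ^ k) :=
        Finset.sum_comm
    _ = _ := Finset.sum_congr rfl fun ζ _ => (Finset.mul_sum _ _ _).symm

/-- the inner product of a function vanishing on the `p`-regular elements with a function which is
constant on the `p`-singular elements -/
theorem br_inner_of_vanish {p : ℕ} (Φ ψ : G → ℂ) (w : ℂ) (hw : conj w = w)
    (hΦ : ∀ g : G, ¬ p ∣ orderOf g → Φ g = 0) (hψ : ∀ g : G, p ∣ orderOf g → ψ g = w) :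
    classInner Φ ψ = w * classInner Φ (fun _ : G => (1 : ℂ)) := by
  have h1 : ∀ g ∈ (Finset.univ : Finset G), Φ g * conj (ψ g) = w * (Φ g * conj (1 : ℂ)) := by
    intro g _
    by_cases hg : p ∣ orderOf g
    · rw [hψ g hg, hw, map_one]
      ring
    · rw [hΦ g hg]
      ring
  unfold classInner
  rw [Finset.sum_congr rfl h1, ← Finset.mul_sum]
  ring

/-- `χ · conj χ'` is a character -/
theorem br_isCharacter_mul_conj (χ χ' : IrrCharacter G) :
    IsCharacter G (fun g => (χ : G → ℂ) g * conj ((χ' : G → ℂ) g)) :=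
  Cfsg.Agent.S4996.isCharacter_mul (isCharacter_of_irr χ.2)
    (isCharacter_of_irr (isIrrCharacter_conj χ'.2))

/-- the multiplicity of the trivial character in `χ · conj χ'` -/
theorem br_inner_mul_conj_one (χ χ' : IrrCharacter G) :
    classInner (fun g => (χ : G → ℂ) g * conj ((χ' : G → ℂ) g)) (fun _ : G => (1 : ℂ)) =
      classInner (χ : G → ℂ) (χ' : G → ℂ) := by
  unfold classInner
  congr 1
  refine Finset.sum_congr rfl fun g _ => ?_
  rw [map_one, mul_one]

end

end Cfsg.Agent.Lib.Helper7
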