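import Mathlib
import Cfsg.Agent.Lib.Helper8.DO21
import Cfsg.Agent.Lib.Helper8.DO18
import Cfsg.Agent.Lib.Helper7.BR7

set_option autoImplicit false
set_option maxHeartbeats 800000
set_option linter.unusedSectionVars false

namespace Cfsg.Agent.Lib.Helper7

open Cfsg Cfsg.Agent.Lib.Helper8
open scoped ComplexConjugate
open Cfsg.Agent.Lib.Helper1 Cfsg.Agent.Lib.Helper4

universe u

section

variable {G : Type u} [Group G] [Fintype G]

/-- `Ψ' = χ · conj χ'` -/
noncomputable def brPsi (χ χ' : IrrCharacter G) : G → ℂ :=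
  fun g => (χ : G → ℂ) g * conj ((χ' : G → ℂ) g)

/-- `D = χ · conj χ - χ · conj χ'` -/
noncomputable def brD (χ χ' : IrrCharacter G) : G → ℂ := brPsi χ χ - brPsi χ χ'

theorem brPsi_isCharacter (χ χ' : IrrCharacter G) : IsCharacter G (brPsi χ χ') :=
  br_isCharacter_mul_conj χ χ'

theorem brPsi_isClassFunction (χ χ' : IrrCharacter G) : IsClassFunction G (brPsi χ χ') :=
  isClassFunction_of_isCharacter (brPsi_isCharacter χ χ')

theorem brD_isClassFunction (χ χ' : IrrCharacter G) : IsClassFunction G (brD χ χ') :=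
  isClassFunction_sub (brPsi_isClassFunction χ χ) (brPsi_isClassFunction χ χ')

/-- the multiplicities in `Ψ'` -/
theorem brPsi_mult (χ χ' : IrrCharacter G) :
    ∃ m : IrrCharacter G → ℕ, ∀ ζ : IrrCharacter G,
      classInner (brPsi χ χ') (ζ : G → ℂ) = m ζ := by
  have h : ∀ ζ : IrrCharacter G, ∃ m : ℕ, classInner (brPsi χ χ') (ζ : G → ℂ) = m :=
    fun ζ => classInner_char_irr_nat (brPsi_isCharacter χ χ') ζ.2
  choose m hm using h
  exact ⟨m, hm⟩

theorem brD_inner (χ χ' : IrrCharacter G) (ζ : G → ℂ) :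
    classInner (brD χ χ') ζ = classInner (brPsi χ χ) ζ - classInner (brPsi χ χ') ζ :=
  classInner_sub_left _ _ _

/-- `[D, 1] = 1` -/
theorem brD_inner_one {χ χ' : IrrCharacter G} (hne : χ' ≠ χ) :
    classInner (brD χ χ') (fun _ : G => (1 : ℂ)) = 1 := by
  rw [brD_inner]
  unfold brPsi
  rw [br_inner_mul_conj_one, br_inner_mul_conj_one, classInner_irr_self χ.2,
    classInner_irr_ne χ.2 χ'.2 (fun h => hne (Subtype.ext h.symm)), sub_zero]

/-- `D` vanishes on the `p`-regular elements -/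
theorem brD_vanish {p : ℕ} {χ χ' : IrrCharacter G}
    (hagree : ∀ g : G, ¬ p ∣ orderOf g → (χ' : G → ℂ) g = (χ : G → ℂ) g) (g : G)
    (hg : ¬ p ∣ orderOf g) : brD χ χ' g = 0 := by
  unfold brD brPsi
  rw [Pi.sub_apply, hagree g hg, sub_self]

/-- `[a · conj b, 1] = [a, b]` -/
theorem br_inner_mul_conj_one' {H : Type u} [Group H] [Fintype H] (a b : H → ℂ) :
    classInner (fun h => a h * conj (b h)) (fun _ : H => (1 : ℂ)) = classInner a b := by
  unfold classInner
  congr 1
  refine Finset.sum_congr rfl fun g _ => ?_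
  rw [map_one, mul_one]

end

section

variable {G : Type u} [Group G] [Fintype G] {M : Ideal AlgInt} {p : ℕ} [Fact p.Prime]
  {x : G} {C : Subgroup G} [Fintype C] {b : Set (IrrCharacter C)} {B : Set (IrrCharacter G)}

variable {ε : ℤ} {W : IrrCharacter G → ℤ}

/-- (E1) the multiplicities of the nonexceptional characters of the principal block in `D` -/
theorem brD_inner_nonexc {ctx : D1Ctx p M x C b B (trivIrr C)} {a : ctx.Q → IrrCharacter G}
    (S : ctx.Str ε W a) {χ χ' : IrrCharacter G} (hne : χ' ≠ χ)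
    (hagree : ∀ g : G, ¬ p ∣ orderOf g → (χ' : G → ℂ) g = (χ : G → ℂ) g)
    {ψ : IrrCharacter G} (hψ : ψ ∈ B) (hψa : ψ ∉ Set.range a) :
    classInner (brD χ χ') (ψ : G → ℂ) = -(W ψ : ℂ) := by
  rw [br_inner_of_vanish (p := p) (brD χ χ') (ψ : G → ℂ) (-(W ψ : ℂ)) (by simp)
    (brD_vanish hagree) (fun g hg => br_nonexc_apply_singular S hψ hψa hg), brD_inner_one hne,
    mul_one]

variable {f d : ℕ} {O O' : Finset (IrrCharacter C)}

/-- (S3) the sum of `Ψ'` over `⟨x⟩` -/
theorem brPsi_sum_pow {θ : IrrCharacter C} (ctx : D1Ctx p M x C b B θ) {χ χ' : IrrCharacter G}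
    (h : BrPattern C f d χ O) (h' : BrPattern C f d χ' O')
    (hdisj : ∀ ξ ∈ O, ∀ ξ' ∈ O', d1om ctx.z ξ ≠ d1om ctx.z ξ') :
    ∑ k ∈ Finset.range p, brPsi χ χ' (x ^ k) = 0 :=
  br_sum_pow_mul_conj ctx.hzc ctx.om_pow_p h h' hdisj

/-- (E2) constituents of `Ψ'` have no trivial constituent on `⟨x⟩` -/
theorem brPsi_mult_sum_pow {θ : IrrCharacter C} (ctx : D1Ctx p M x C b B θ)
    {χ χ' : IrrCharacter G}
    (h : BrPattern C f d χ O) (h' : BrPattern C f d χ' O')
    (hdisj : ∀ ξ ∈ O, ∀ ξ' ∈ O', d1om ctx.z ξ ≠ d1om ctx.z ξ')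
    {m : IrrCharacter G → ℕ}
    (hm : ∀ ζ : IrrCharacter G, classInner (brPsi χ χ') (ζ : G → ℂ) = m ζ)
    (ζ : IrrCharacter G) (hζ : m ζ ≠ 0) :
    ∑ k ∈ Finset.range p, (ζ : G → ℂ) (x ^ k) = 0 := by
  classical
  have : Fintype (IrrCharacter G) := Fintype.ofFinite _
  have h1 := br_expand_sum_pow (brPsi χ χ') (brPsi_isClassFunction χ χ') x (Finset.range p)
  rw [brPsi_sum_pow ctx h h' hdisj] at h1
  have h2 : ∀ ζ : IrrCharacter G, ∃ e : ℕ,
      ∑ k ∈ Finset.range p, (ζ : G → ℂ) (x ^ k) = (p : ℂ) * (e : ℂ) :=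
    fun ζ => d1_sum_pow_eq ctx.hx ζ
  choose e he using h2
  have h3 : ∑ ζ : IrrCharacter G, m ζ * (p * e ζ) = 0 := by
    have : ((∑ ζ : IrrCharacter G, m ζ * (p * e ζ) : ℕ) : ℂ) = 0 := by
      rw [h1]
      push_cast
      refine Finset.sum_congr rfl fun ζ _ => ?_
      rw [hm ζ, he ζ]
    exact_mod_cast this
  rw [Finset.sum_eq_zero_iff] at h3
  have h4 := h3 ζ (Finset.mem_univ _)
  have hp : p.Prime := Fact.out
  have h5 : e ζ = 0 := by
    rcases Nat.mul_eq_zero.1 h4 with h6 | h6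
    · exact absurd h6 hζ
    · rcases Nat.mul_eq_zero.1 h6 with h7 | h7
      · exact absurd h7 hp.pos.ne'
      · exact h7
  rw [he ζ, h5, Nat.cast_zero, mul_zero]

/-- the restriction of `Ψ'` to `C` -/
theorem brPsi_res_inner_triv {χ χ' : IrrCharacter G}
    (h : BrPattern C f d χ O) (h' : BrPattern C f d χ' O') :
    classInner (fun c : C => brPsi χ χ' c) (trivIrr C : C → ℂ) = ((O ∩ O').card : ℂ) := by
  have h1 : (trivIrr C : C → ℂ) = fun _ : C => (1 : ℂ) := by
    funext c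
    exact trivIrr_apply c
  rw [h1, ← br_inner_res h h']
  exact br_inner_mul_conj_one' (fun c : C => (χ : G → ℂ) c) (fun c : C => (χ' : G → ℂ) c)

/-- (E3) constituents of `Ψ'` do not contain the trivial character of `C` -/
theorem brPsi_mult_triv {χ χ' : IrrCharacter G}
    (h : BrPattern C f d χ O) (h' : BrPattern C f d χ' O') (hdisj : Disjoint O O')
    {m : IrrCharacter G → ℕ}
    (hm : ∀ ζ : IrrCharacter G, classInner (brPsi χ χ') (ζ : G → ℂ) = m ζ)
    (ζ : IrrCharacter G) (hζ : m ζ ≠ 0) : d1m C ζ (trivIrr C) = 0 := by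
  classical
  have : Fintype (IrrCharacter G) := Fintype.ofFinite _
  have h1 := br_expand_res C (brPsi χ χ') (brPsi_isClassFunction χ χ') (trivIrr C)
  rw [brPsi_res_inner_triv h h', Finset.disjoint_iff_inter_eq_empty.1 hdisj, Finset.card_empty,
    Nat.cast_zero] at h1
  have h3 : ∑ ζ : IrrCharacter G, m ζ * d1m C ζ (trivIrr C) = 0 := by
    have : ((∑ ζ : IrrCharacter G, m ζ * d1m C ζ (trivIrr C) : ℕ) : ℂ) = 0 := by
      rw [h1]
      push_cast
      refine Finset.sum_congr rfl fun ζ _ => ?_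
      rw [hm ζ]
    exact_mod_cast this
  rw [Finset.sum_eq_zero_iff] at h3
  rcases Nat.mul_eq_zero.1 (h3 ζ (Finset.mem_univ _)) with h6 | h6
  · exact absurd h6 hζ
  · exact h6

/-- (E5) the multiplicity of the trivial character of `C` in `D` -/
theorem brD_res_inner_triv {χ χ' : IrrCharacter G}
    (h : BrPattern C f d χ O) (h' : BrPattern C f d χ' O') (hdisj : Disjoint O O')
    [Fintype (IrrCharacter G)] :
    ∑ ζ : IrrCharacter G, classInner (brD χ χ') (ζ : G → ℂ) * (d1m C ζ (trivIrr C) : ℂ) =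
      (f : ℂ) := by
  rw [← br_expand_res C (brD χ χ') (brD_isClassFunction χ χ') (trivIrr C)]
  have h1 : (fun c : C => brD χ χ' c) =
      (fun c : C => brPsi χ χ c) - (fun c : C => brPsi χ χ' c) := by
    funext c
    rfl
  rw [h1, classInner_sub_left, brPsi_res_inner_triv h h, brPsi_res_inner_triv h h',
    Finset.disjoint_iff_inter_eq_empty.1 hdisj, Finset.inter_self, h.card, Finset.card_empty,
    Nat.cast_zero, sub_zero]

/-- (E6) the sum of the multiplicities of the members of `b` in `D` -/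
theorem brD_res_inner_block {θ : IrrCharacter C} (ctx : D1Ctx p M x C b B θ)
    {χ χ' : IrrCharacter G}
    (hagree : ∀ g : G, ¬ p ∣ orderOf g → (χ' : G → ℂ) g = (χ : G → ℂ) g)
    [Fintype (IrrCharacter G)] [Fintype (IrrCharacter C)] [DecidablePred (· ∈ b)] :
    ∑ η : IrrCharacter C, (if η ∈ b then
      ∑ ζ : IrrCharacter G, classInner (brD χ χ') (ζ : G → ℂ) * (d1m C ζ η : ℂ) else 0) = 0 := by
  have h1 : ∀ η : IrrCharacter C, (if η ∈ b then
      ∑ ζ : IrrCharacter G, classInner (brD χ χ') (ζ : G → ℂ) * (d1m C ζ η : ℂ) else 0) =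
      (Nat.card C : ℂ)⁻¹ * ∑ c : C, brD χ χ' c * conj (if η ∈ b then (η : C → ℂ) c else 0) := by
    intro η
    by_cases hη : η ∈ b
    · rw [if_pos hη, ← br_expand_res C (brD χ χ') (brD_isClassFunction χ χ') η]
      unfold classInner
      congr 1
      refine Finset.sum_congr rfl fun c _ => ?_
      rw [if_pos hη]
    · rw [if_neg hη]
      simp only [if_neg hη, map_zero, mul_zero, Finset.sum_const_zero]
  rw [Finset.sum_congr rfl (fun η _ => h1 η), ← Finset.mul_sum, Finset.sum_comm]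
  have h2 : ∀ c : C, ∑ η : IrrCharacter C,
      brD χ χ' c * conj (if η ∈ b then (η : C → ℂ) c else 0) = 0 := by
    intro c
    rw [← Finset.mul_sum, ← map_sum]
    by_cases hc : p ∣ orderOf c
    · rw [br_sum_block_singular ctx hc, map_zero, mul_zero]
    · rw [brD_vanish hagree (c : G) (by rwa [Subgroup.orderOf_coe]), zero_mul]
  rw [Finset.sum_congr rfl (fun c _ => h2 c), Finset.sum_const_zero, mul_zero]

end

end Cfsg.Agent.Lib.Helper7
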