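import Mathlib
import Cfsg.Agent.Lib.Helper8.DO21
import Cfsg.Agent.Lib.Helper8.DO18
import Cfsg.Agent.Lib.Helper7.BR8

set_option autoImplicit false
set_option maxHeartbeats 800000
set_option linter.unusedSectionVars false

namespace Cfsg.Agent.Lib.Helper7

open Cfsg Cfsg.Agent.Lib.Helper8
open scoped ComplexConjugate
open Cfsg.Agent.Lib.Helper1 Cfsg.Agent.Lib.Helper4

universe u

section

/-- the multiplicity of a linear character `η` in `ξ · conj ξ'` -/
theorem br_inner_mul_conj_linear {H : Type u} [Group H] [Fintype H] (ξ ξ' η : IrrCharacter H)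
    (hη : (η : H → ℂ) 1 = 1) [Decidable ((ξ : H → ℂ) = fun c => (η : H → ℂ) c * (ξ' : H → ℂ) c)] :
    classInner (fun c => (ξ : H → ℂ) c * conj ((ξ' : H → ℂ) c)) (η : H → ℂ) =
      if (ξ : H → ℂ) = (fun c => (η : H → ℂ) c * (ξ' : H → ℂ) c) then 1 else 0 := by
  obtain ⟨φ, hφ⟩ := exists_hom_of_isIrrCharacter η.2 hη
  have hirr := isIrrCharacter_hom_mul φ ξ'.2
  have h1 : (fun c => (η : H → ℂ) c * (ξ' : H → ℂ) c) =
      fun g => ((φ g : ℂˣ) : ℂ) * (ξ' : H → ℂ) g := by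
    rw [hφ]
  have h2 : classInner (fun c => (ξ : H → ℂ) c * conj ((ξ' : H → ℂ) c)) (η : H → ℂ) =
      classInner (ξ : H → ℂ) (fun c => (η : H → ℂ) c * (ξ' : H → ℂ) c) := by
    unfold classInner
    congr 1
    refine Finset.sum_congr rfl fun c _ => ?_
    rw [map_mul]
    ring
  rw [h2]
  simp only [h1]
  rw [classInner_irr ξ.2 hirr]

variable {G : Type u} [Group G] [Fintype G] {M : Ideal AlgInt} {p : ℕ} [Fact p.Prime]
  {x : G} {C : Subgroup G} [Fintype C] {b : Set (IrrCharacter C)} {B : Set (IrrCharacter G)}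

variable {f d : ℕ} {O O' : Finset (IrrCharacter C)}

/-- a member of the principal block of `C` is determined by its product with an irreducible
character -/
theorem br_mul_cancel (ctx : D1Ctx p M x C b B (trivIrr C)) {η₁ η₂ : IrrCharacter C}
    (h1 : η₁ ∈ b) (h2 : η₂ ∈ b) (ξ ξ' : IrrCharacter C)
    (e1 : (ξ : C → ℂ) = fun c => (η₁ : C → ℂ) c * (ξ' : C → ℂ) c)
    (e2 : (ξ : C → ℂ) = fun c => (η₂ : C → ℂ) c * (ξ' : C → ℂ) c) : η₁ = η₂ := by
  apply d1om_injOn ctx.hM ctx.hzc ctx.hb ctx.hDb h1 h2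
  have h3 : (ξ' : C → ℂ) ctx.z ≠ 0 := by
    have h4 := d1om_pow_apply ctx.hzc ξ' 1
    rw [pow_one, pow_one] at h4
    rw [h4]
    apply mul_ne_zero (d1om_ne_zero ctx.hzc ξ')
    rw [(irr_apply_one_eq_charDegree ξ'.2).1]
    exact Nat.cast_ne_zero.2 (br_degree_theta_pos ξ').ne'
  have h5 : (η₁ : C → ℂ) ctx.z * (ξ' : C → ℂ) ctx.z = (η₂ : C → ℂ) ctx.z * (ξ' : C → ℂ) ctx.z := by
    have e1' := congrFun e1 ctx.z
    have e2' := congrFun e2 ctx.z
    rw [← e1', ← e2']
  have h6 := mul_right_cancel₀ h3 h5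
  unfold d1om
  rw [br_principal_linear ctx h1, br_principal_linear ctx h2, h6]

/-- (E4) the bound `f²` for the multiplicities of the principal block of `C` in `Ψ'` -/
theorem brPsi_block_bound (ctx : D1Ctx p M x C b B (trivIrr C)) {χ χ' : IrrCharacter G}
    (h : BrPattern C f d χ O) (h' : BrPattern C f d χ' O') {m : IrrCharacter G → ℕ}
    (hm : ∀ ζ : IrrCharacter G, classInner (brPsi χ χ') (ζ : G → ℂ) = m ζ)
    [Fintype (IrrCharacter G)] [Fintype (IrrCharacter C)] [DecidablePred (· ∈ b)] :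
    ∑ η : IrrCharacter C, (if η ∈ b then ∑ ζ : IrrCharacter G, m ζ * d1m C ζ η else 0) ≤
      f * f := by
  classical
  set N : IrrCharacter C → IrrCharacter C → IrrCharacter C → ℕ := fun ξ ξ' η =>
    if (ξ : C → ℂ) = (fun c => (η : C → ℂ) c * (ξ' : C → ℂ) c) then 1 else 0 with hN
  -- Step A
  have hres : (fun c : C => brPsi χ χ' c) =
      ∑ ξ ∈ O, ∑ ξ' ∈ O', (fun c : C => (ξ : C → ℂ) c * conj ((ξ' : C → ℂ) c)) := by
    funext c
    unfold brPsi
    rw [h.res, h'.res, map_sum, Finset.sum_mul_sum, Finset.sum_apply]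
    refine Finset.sum_congr rfl fun ξ _ => ?_
    rw [Finset.sum_apply]
  have hA : ∀ η : IrrCharacter C, η ∈ b →
      ∑ ζ : IrrCharacter G, m ζ * d1m C ζ η = ∑ ξ ∈ O, ∑ ξ' ∈ O', N ξ ξ' η := by
    intro η hη
    have h1 := br_expand_res C (brPsi χ χ') (brPsi_isClassFunction χ χ') η
    rw [hres, classInner_sum_left] at h1
    have h2 : ((∑ ζ : IrrCharacter G, m ζ * d1m C ζ η : ℕ) : ℂ) =
        ((∑ ξ ∈ O, ∑ ξ' ∈ O', N ξ ξ' η : ℕ) : ℂ) := by
      push_cast
      have h3 : ∑ ζ : IrrCharacter G, (m ζ : ℂ) * (d1m C ζ η : ℂ) =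
          ∑ ζ : IrrCharacter G, classInner (brPsi χ χ') (ζ : G → ℂ) * (d1m C ζ η : ℂ) :=
        Finset.sum_congr rfl fun ζ _ => by rw [hm ζ]
      rw [h3, ← h1]
      refine Finset.sum_congr rfl fun ξ _ => ?_
      rw [classInner_sum_left]
      refine Finset.sum_congr rfl fun ξ' _ => ?_
      rw [br_inner_mul_conj_linear ξ ξ' η (br_principal_linear ctx hη), hN]
      simp only
      split_ifs <;> simp
    exact_mod_cast h2
  have hB : ∀ η : IrrCharacter C, (if η ∈ b then ∑ ζ : IrrCharacter G, m ζ * d1m C ζ η else 0) =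
      ∑ ξ ∈ O, ∑ ξ' ∈ O', (if η ∈ b then N ξ ξ' η else 0) := by
    intro η
    by_cases hη : η ∈ b
    · simp only [if_pos hη]
      exact hA η hη
    · simp only [if_neg hη, Finset.sum_const_zero]
  rw [Finset.sum_congr rfl (fun η _ => hB η), Finset.sum_comm]
  have hC : ∀ ξ ∈ O, ∑ η : IrrCharacter C, ∑ ξ' ∈ O', (if η ∈ b then N ξ ξ' η else 0) ≤
      O'.card := by
    intro ξ _
    rw [Finset.sum_comm]
    calc ∑ ξ' ∈ O', ∑ η : IrrCharacter C, (if η ∈ b then N ξ ξ' η else 0)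
        ≤ ∑ ξ' ∈ O', 1 := by
          refine Finset.sum_le_sum fun ξ' _ => ?_
          have h4 : ∀ η : IrrCharacter C, (if η ∈ b then N ξ ξ' η else 0) =
              if (η ∈ b ∧ (ξ : C → ℂ) = fun c => (η : C → ℂ) c * (ξ' : C → ℂ) c) then 1 else 0 := by
            intro η
            rw [hN]
            simp only
            by_cases hη : η ∈ b
            · by_cases he : (ξ : C → ℂ) = fun c => (η : C → ℂ) c * (ξ' : C → ℂ) c
              · rw [if_pos hη, if_pos he, if_pos ⟨hη, he⟩]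
              · rw [if_pos hη, if_neg he, if_neg (fun hh => he hh.2)]
            · rw [if_neg hη, if_neg (fun hh => hη hh.1)]
          rw [Finset.sum_congr rfl (fun η _ => h4 η), Finset.sum_boole, Nat.cast_id]
          apply Finset.card_le_one.2
          intro η₁ hη₁ η₂ hη₂
          rw [Finset.mem_filter] at hη₁ hη₂
          exact br_mul_cancel ctx hη₁.2.1 hη₂.2.1 ξ ξ' hη₁.2.2 hη₂.2.2
      _ = O'.card := by rw [Finset.sum_const, smul_eq_mul, mul_one]
  calc ∑ ξ ∈ O, ∑ η : IrrCharacter C, ∑ ξ' ∈ O', (if η ∈ b then N ξ ξ' η else 0)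
      ≤ ∑ ξ ∈ O, O'.card := Finset.sum_le_sum hC
    _ = f * f := by rw [Finset.sum_const, smul_eq_mul, h.card, h'.card]

end

end Cfsg.Agent.Lib.Helper7
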