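import Mathlib
import Cfsg.Agent.Lib.Helper8.DO21
import Cfsg.Agent.Lib.Helper8.DO18
import Cfsg.Agent.Lib.Helper7.BR9

set_option autoImplicit false
set_option maxHeartbeats 800000
set_option linter.unusedSectionVars false

namespace Cfsg.Agent.Lib.Helper7

open Cfsg Cfsg.Agent.Lib.Helper8
open scoped ComplexConjugate
open Cfsg.Agent.Lib.Helper1 Cfsg.Agent.Lib.Helper4

universe u

section

variable {G : Type u} [Group G] [Fintype G] {M : Ideal AlgInt} {p : ℕ} [Fact p.Prime]
  {x : G} {C : Subgroup G} [Fintype C] {b : Set (IrrCharacter C)} {B : Set (IrrCharacter G)}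

variable {ε : ℤ} {W : IrrCharacter G → ℤ}

/-- principal block: the values of a nonexceptional character at the powers of `x` -/
theorem br_nonexc_pow_principal {ctx : D1Ctx p M x C b B (trivIrr C)}
    {a : ctx.Q → IrrCharacter G} (S : ctx.Str ε W a) {ψ : IrrCharacter G} (hψ : ψ ∈ B)
    (hψa : ψ ∉ Set.range a) {k : ℕ} (hk : ¬ p ∣ k) : (ψ : G → ℂ) (x ^ k) = -(W ψ : ℂ) := by
  rw [S.nonexc_apply_pow hψ hψa hk, ctx.r_eq_of_triv, charDegree_trivIrr]
  push_cast
  ring

/-- principal block: a nonexceptional character with `W = 1` and no trivial constituent on `⟨x⟩`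
has degree `p - 1` -/
theorem br_nonexc_degree_of_sum {ctx : D1Ctx p M x C b B (trivIrr C)}
    {a : ctx.Q → IrrCharacter G} (S : ctx.Str ε W a) {ψ : IrrCharacter G} (hψ : ψ ∈ B)
    (hψa : ψ ∉ Set.range a) (hW : W ψ = 1)
    (hsum : ∑ k ∈ Finset.range p, (ψ : G → ℂ) (x ^ k) = 0) :
    charDegree (ψ : G → ℂ) = p - 1 := by
  have hp : p.Prime := Fact.out
  rw [← Finset.add_sum_erase _ _ (Finset.mem_range.2 hp.pos), pow_zero,
    (irr_apply_one_eq_charDegree ψ.2).1] at hsum
  have h1 : ∀ k ∈ (Finset.range p).erase 0, (ψ : G → ℂ) (x ^ k) = -1 := by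
    intro k hk
    rw [Finset.mem_erase, Finset.mem_range] at hk
    rw [br_nonexc_pow_principal S hψ hψa
      (D1Ctx.not_dvd_of_lt (Nat.pos_of_ne_zero hk.1) hk.2), hW]
    push_cast
    ring
  rw [Finset.sum_congr rfl h1, Finset.sum_const, Finset.card_erase_of_mem
    (Finset.mem_range.2 hp.pos), Finset.card_range, nsmul_eq_mul] at hsum
  have h2 : ((charDegree (ψ : G → ℂ) : ℕ) : ℂ) = ((p - 1 : ℕ) : ℂ) := by
    linear_combination hsum
  exact_mod_cast h2

/-- principal block: an exceptional character with no trivial constituent on `⟨x⟩`, when `ε = 1`,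
has degree `f` -/
theorem br_exc_degree_of_sum {ctx : D1Ctx p M x C b B (trivIrr C)}
    {a : ctx.Q → IrrCharacter G} (S : ctx.Str ε W a) (q : ctx.Q) (hε : ε = 1)
    (hsum : ∑ k ∈ Finset.range p, (a q : G → ℂ) (x ^ k) = 0) :
    charDegree (a q : G → ℂ) = C.relIndex (mrN x) := by
  have hp : p.Prime := Fact.out
  rw [← Finset.add_sum_erase _ _ (Finset.mem_range.2 hp.pos), pow_zero,
    (irr_apply_one_eq_charDegree (a q).2).1, br_principal_exc_sum_pow S q, hε] at hsum
  have h2 : ((charDegree (a q : G → ℂ) : ℕ) : ℂ) = ((C.relIndex (mrN x) : ℕ) : ℂ) := by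
    push_cast at hsum ⊢
    linear_combination hsum
  exact_mod_cast h2

/-- principal block: the degree of a nonexceptional character with `W = -1` is `1` modulo `p` -/
theorem br_nonexc_degree_mod {ctx : D1Ctx p M x C b B (trivIrr C)}
    {a : ctx.Q → IrrCharacter G} (S : ctx.Str ε W a) {ψ : IrrCharacter G} (hψ : ψ ∈ B)
    (hψa : ψ ∉ Set.range a) (hW : W ψ = -1) :
    charDegree (ψ : G → ℂ) = 1 ∨ p + 1 ≤ charDegree (ψ : G → ℂ) := by
  have h1 := S.nonexc_degree hψ hψa
  rw [ctx.r_eq_of_triv, charDegree_trivIrr, hW] at h1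
  have hpos : 0 < charDegree (ψ : G → ℂ) := (irr_apply_one_eq_charDegree ψ.2).2
  have h2 : (p : ℤ) ∣ ((charDegree (ψ : G → ℂ) - 1 : ℕ) : ℤ) := by
    rw [Nat.cast_sub hpos]
    have : (charDegree (ψ : G → ℂ) : ℤ) + -1 * ((1 * 1 : ℕ) : ℤ) =
        (charDegree (ψ : G → ℂ) : ℤ) - ((1 : ℕ) : ℤ) := by
      push_cast
      ring
    rw [← this]
    exact h1
  have h3 : p ∣ charDegree (ψ : G → ℂ) - 1 := by exact_mod_cast h2
  by_cases h4 : charDegree (ψ : G → ℂ) - 1 = 0
  · left
    omega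
  · right
    have := Nat.le_of_dvd (Nat.pos_of_ne_zero h4) h3
    omega

end

end Cfsg.Agent.Lib.Helper7
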