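import Mathlib
import Cfsg.Agent.Lib.Helper8.DO21
import Cfsg.Agent.Lib.Helper8.DO18
import Cfsg.Agent.Lib.Helper7.BR10

set_option autoImplicit false
set_option maxHeartbeats 1600000
set_option linter.unusedSectionVars false

namespace Cfsg.Agent.Lib.Helper7

open Cfsg Cfsg.Agent.Lib.Helper8
open scoped ComplexConjugate
open Cfsg.Agent.Lib.Helper1 Cfsg.Agent.Lib.Helper4

universe u

section

/-- the final arithmetic -/
theorem br_arith {p f np nm L A : ℕ} (hp : p.Prime) (hf2 : 2 ≤ f) (h3f : 3 * f ≤ p - 1)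
    (hcard : np + nm = f) (hK1 : np * (p - 1) ≤ f * f) (hA : A ≤ f + np * (p - 1))
    (hL : L ≤ nm) (hAL : L + (nm - L) * (p + 1) ≤ A) : 2 ≤ L := by
  have hp2 := hp.two_le
  -- 3 np ≤ f
  have h1 : 3 * np ≤ f := by
    have h2 : np * (3 * f) ≤ f * f := (Nat.mul_le_mul_left np h3f).trans hK1
    have h3 : f * (3 * np) ≤ f * f := by
      calc f * (3 * np) = np * (3 * f) := by ring
        _ ≤ f * f := h2
    exact Nat.le_of_mul_le_mul_left h3 (by omega)
  -- nm - L ≤ np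
  have h4 : nm - L ≤ np := by
    by_contra hcon
    have h5 : np + 1 ≤ nm - L := by omega
    have h6 : (np + 1) * (p + 1) ≤ (nm - L) * (p + 1) := Nat.mul_le_mul_right _ h5
    have h7 : (np + 1) * (p + 1) = np * (p - 1) + 2 * np + p + 1 := by
      have : p = (p - 1) + 1 := by omega
      nlinarith
    omega
  by_contra hL2
  have hL1 : L ≤ 1 := by omega
  have hnp : np ≤ 1 := by omega
  rcases Nat.eq_zero_or_pos np with h0 | h0
  · omega
  · have hnp1 : np = 1 := by omega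
    subst hnp1
    have hf3 : f = 3 := by omega
    subst hf3
    have hp10 : p = 10 := by omega
    subst hp10
    exact absurd hp (by norm_num)

end

section

variable {G : Type u} [Group G] [Fintype G] {M : Ideal AlgInt} {p : ℕ} [Fact p.Prime]
  {x : G} {C : Subgroup G} [Fintype C] {b : Set (IrrCharacter C)} {B : Set (IrrCharacter G)}

variable {ε : ℤ} {W : IrrCharacter G → ℤ}

variable {f d : ℕ} {O O' : Finset (IrrCharacter C)}

/-- **the counting argument**: two distinct linear characters which are trivial on `x` -/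
theorem br_exists_linear {ctx : D1Ctx p M x C b B (trivIrr C)} {a : ctx.Q → IrrCharacter G}
    (S : ctx.Str ε W a) {χ χ' : IrrCharacter G} (h : BrPattern C f d χ O)
    (h' : BrPattern C f d χ' O') (hf : f = C.relIndex (mrN x))
    (hagree : ∀ g : G, ¬ p ∣ orderOf g → (χ' : G → ℂ) g = (χ : G → ℂ) g) (hne : χ' ≠ χ)
    (hdisj : ∀ ξ ∈ O, ∀ ξ' ∈ O', d1om ctx.z ξ ≠ d1om ctx.z ξ')
    (hf2 : 2 ≤ f) (h3f : 3 * f ≤ p - 1) :
    ∃ ψ₁ ψ₂ : IrrCharacter G, ψ₁ ≠ ψ₂ ∧ (ψ₁ : G → ℂ) 1 = 1 ∧ (ψ₁ : G → ℂ) x = 1 ∧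
      (ψ₂ : G → ℂ) 1 = 1 ∧ (ψ₂ : G → ℂ) x = 1 := by
  classical
  have : Fintype (IrrCharacter G) := Fintype.ofFinite _
  have : Fintype (IrrCharacter C) := Fintype.ofFinite _
  have hp : p.Prime := Fact.out
  have hOdisj : Disjoint O O' :=
    Finset.disjoint_left.2 (fun ξ hξ hξ' => hdisj ξ hξ ξ hξ' rfl)
  obtain ⟨m', hm'⟩ := brPsi_mult χ χ'
  obtain ⟨m, hm⟩ := brPsi_mult χ χ
  set δ : IrrCharacter G → ℤ := fun ζ => (m ζ : ℤ) - (m' ζ : ℤ) with hδdef
  have hδ : ∀ ζ : IrrCharacter G, classInner (brD χ χ') (ζ : G → ℂ) = ((δ ζ : ℤ) : ℂ) := by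
    intro ζ
    rw [brD_inner, hm, hm', hδdef]
    push_cast
    ring
  have hδm : ∀ ζ : IrrCharacter G, δ ζ < 0 → m' ζ ≠ 0 := by
    intro ζ h0 h1
    simp only [hδdef] at h0
    rw [h1] at h0
    have : (0 : ℤ) ≤ (m ζ : ℤ) := Int.natCast_nonneg _
    simp at h0
    omega
  set X := Finset.univ.filter (fun ψ : IrrCharacter G => ψ ∈ B ∧ ψ ∉ Set.range a) with hX
  have hXmem : ∀ ψ : IrrCharacter G, ψ ∈ X ↔ ψ ∈ B ∧ ψ ∉ Set.range a := by
    intro ψ
    rw [hX, Finset.mem_filter]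
    simp
  have hXcard : X.card = f := by
    rw [hX, S.card_filter_nonexc, ctx.e_eq_of_triv, hf]
  have hE1 : ∀ ψ ∈ X, δ ψ = - W ψ := by
    intro ψ hψ
    have h1 := brD_inner_nonexc S hne hagree ((hXmem ψ).1 hψ).1 ((hXmem ψ).1 hψ).2
    rw [hδ] at h1
    exact_mod_cast h1
  have hWX : ∀ ψ ∈ X, W ψ = 1 ∨ W ψ = -1 :=
    fun ψ hψ => S.hW ψ ((hXmem ψ).1 hψ).1 ((hXmem ψ).1 hψ).2
  have hW0 : ∀ ψ : IrrCharacter G, ψ ∉ X → W ψ = 0 := by
    intro ψ hψ
    by_cases hB : ψ ∈ B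
    · have : ψ ∈ Set.range a := by
        by_contra h1
        exact hψ ((hXmem ψ).2 ⟨hB, h1⟩)
      obtain ⟨q', rfl⟩ := this
      exact S.hWa q'
    · exact S.hW0 ψ hB
  set Xp := X.filter (fun ψ => W ψ = 1) with hXp
  set Xm := X.filter (fun ψ => W ψ = -1) with hXm
  have hfe : X.filter (fun ψ => ¬ W ψ = 1) = Xm := by
    rw [hXm]
    apply Finset.filter_congr
    intro ψ hψ
    rcases hWX ψ hψ with h1 | h1 <;> rw [h1] <;> norm_num
  have hXpm : Xp.card + Xm.card = f := by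
    rw [← hXcard, hXp, ← hfe, Finset.card_filter_add_card_filter_not]
  -- facts about X₊
  have hXpfacts : ∀ ψ ∈ Xp, m' ψ ≠ 0 ∧ charDegree (ψ : G → ℂ) = p - 1 ∧
      d1m C ψ (trivIrr C) = 0 ∧ ∀ ξ : ctx.Bn, d1m C ψ ξ.1 = 1 := by
    intro ψ hψ
    rw [hXp, Finset.mem_filter] at hψ
    obtain ⟨hψX, hW1⟩ := hψ
    have hψB := ((hXmem ψ).1 hψX).1
    have hψa := ((hXmem ψ).1 hψX).2
    have h1 : m' ψ ≠ 0 := by
      apply hδm
      rw [hE1 ψ hψX, hW1]
      norm_num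
    have h2 := brPsi_mult_sum_pow ctx h h' hdisj hm' ψ h1
    have h3 := brPsi_mult_triv h h' hOdisj hm' ψ h1
    refine ⟨h1, br_nonexc_degree_of_sum S hψB hψa hW1 h2, h3, ?_⟩
    intro ξ
    have h4 := br_V_nonexc S hψa ξ
    rw [h3, hW1] at h4
    omega
  -- (K1)
  have hK1 : Xp.card * (p - 1) ≤ f * f := by
    have h1 := brPsi_block_bound ctx h h' hm'
    have h2 : ∑ η : IrrCharacter C,
        (if η ∈ b then ∑ ζ : IrrCharacter G, m' ζ * d1m C ζ η else 0) =
        ∑ ζ : IrrCharacter G, m' ζ * ∑ η : IrrCharacter C,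
          (if η ∈ b then d1m C ζ η else 0) := by
      have h2a : ∀ η : IrrCharacter C,
          (if η ∈ b then ∑ ζ : IrrCharacter G, m' ζ * d1m C ζ η else 0) =
          ∑ ζ : IrrCharacter G, m' ζ * (if η ∈ b then d1m C ζ η else 0) := by
        intro η
        split_ifs <;> simp
      rw [Finset.sum_congr rfl (fun η _ => h2a η), Finset.sum_comm]
      refine Finset.sum_congr rfl fun ζ _ => ?_
      rw [Finset.mul_sum]
    rw [h2] at h1
    have h3 : ∑ ψ ∈ Xp, (p - 1) ≤ ∑ ζ : IrrCharacter G, m' ζ * ∑ η : IrrCharacter C,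
        (if η ∈ b then d1m C ζ η else 0) := by
      calc ∑ ψ ∈ Xp, (p - 1) ≤ ∑ ψ ∈ Xp, m' ψ * ∑ η : IrrCharacter C,
            (if η ∈ b then d1m C ψ η else 0) := by
            refine Finset.sum_le_sum fun ψ hψ => ?_
            obtain ⟨h4, -, -, h5⟩ := hXpfacts ψ hψ
            have h6 := br_sum_Bn_le ctx (fun η => if η ∈ b then d1m C ψ η else 0)
            have h7 : ∑ ξ : ctx.Bn, (if ξ.1 ∈ b then d1m C ψ ξ.1 else 0) = p - 1 := by
              have h7a : ∀ ξ : ctx.Bn, (if ξ.1 ∈ b then d1m C ψ ξ.1 else 0) = 1 := by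
                intro ξ
                rw [if_pos ξ.2.1, h5 ξ]
              rw [Finset.sum_congr rfl (fun ξ _ => h7a ξ), Finset.sum_const, Finset.card_univ,
                ctx.card_Bn, smul_eq_mul, mul_one]
            have h8 : 1 ≤ m' ψ := Nat.one_le_iff_ne_zero.2 h4
            have h9 : p - 1 ≤ ∑ η : IrrCharacter C, (if η ∈ b then d1m C ψ η else 0) := by
              omega
            exact h9.trans (Nat.le_mul_of_pos_left _ h8)
        _ ≤ _ := Finset.sum_le_sum_of_subset (Finset.subset_univ _)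
    rw [Finset.sum_const, smul_eq_mul] at h3
    exact h3.trans h1
  -- Step 5
  have hstep5 : ε = 1 → ∃ q : ctx.Q, m' (a q) ≠ 0 := by
    intro hε
    set F : IrrCharacter C → ℂ := fun η =>
      ∑ ζ : IrrCharacter G, ((δ ζ : ℤ) : ℂ) * (d1m C ζ η : ℂ) with hF
    have hE5 : F (trivIrr C) = (f : ℂ) := by
      have h1 := brD_res_inner_triv (f := f) h h' hOdisj
      rw [← h1]
      exact Finset.sum_congr rfl fun ζ _ => by rw [hδ ζ]
    have hE6 : ∑ η : IrrCharacter C, (if η ∈ b then F η else 0) = 0 := by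
      have h1 := brD_res_inner_block ctx hagree (χ := χ) (χ' := χ')
      refine Eq.trans ?_ h1
      refine Finset.sum_congr rfl fun η _ => ?_
      by_cases hη : η ∈ b
      · rw [if_pos hη, if_pos hη]
        exact Finset.sum_congr rfl fun ζ _ => by rw [hδ ζ]
      · rw [if_neg hη, if_neg hη]
    have hsplit := ctx.sum_b_eq F
    have hsplit' : ∑ η : IrrCharacter C, (if η ∈ b then F η else 0) =
        F (trivIrr C) + ∑ ξ : ctx.Bn, F ξ.1 := by
      rw [← hsplit]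
    rw [hE6, hE5] at hsplit'
    have hFξ : ∀ ξ : ctx.Bn, F ξ.1 = ((δ (a (ctx.mkQ ξ)) : ℤ) : ℂ) := by
      intro ξ
      have h1 : F ξ.1 - F (trivIrr C) =
          ∑ ζ : IrrCharacter G, ((δ ζ : ℤ) : ℂ) * ((ctx.V ξ.1 ζ : ℤ) : ℂ) := by
        rw [← Finset.sum_sub_distrib]
        refine Finset.sum_congr rfl fun ζ _ => ?_
        have h1a : ((ctx.V ξ.1 ζ : ℤ) : ℂ) =
            (d1m C ζ ξ.1 : ℂ) - (d1m C ζ (trivIrr C) : ℂ) := by
          unfold D1Ctx.V
          push_cast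
          ring
        rw [h1a]
        ring
      have h2 : ∑ ζ : IrrCharacter G, ((δ ζ : ℤ) : ℂ) * ((ctx.V ξ.1 ζ : ℤ) : ℂ) =
          -(f : ℂ) + ((δ (a (ctx.mkQ ξ)) : ℤ) : ℂ) := by
        have h3 : ∀ ζ : IrrCharacter G, ((δ ζ : ℤ) : ℂ) * ((ctx.V ξ.1 ζ : ℤ) : ℂ) =
            ((δ ζ * W ζ : ℤ) : ℂ) +
              (if ζ = a (ctx.mkQ ξ) then ((δ ζ : ℤ) : ℂ) else 0) := by
          intro ζ
          rw [S.V_eq ξ ζ, hε]
          split_ifs <;> push_cast <;> ring
        rw [Finset.sum_congr rfl (fun ζ _ => h3 ζ), Finset.sum_add_distrib,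
          Finset.sum_ite_eq', if_pos (Finset.mem_univ _)]
        congr 1
        have h4 : ∑ ζ : IrrCharacter G, δ ζ * W ζ = ∑ ζ ∈ X, δ ζ * W ζ := by
          symm
          apply Finset.sum_subset (Finset.subset_univ _)
          intro ζ _ hζ
          rw [hW0 ζ hζ, mul_zero]
        have h5 : ∑ ζ ∈ X, δ ζ * W ζ = ∑ ζ ∈ X, (-1 : ℤ) := by
          refine Finset.sum_congr rfl fun ζ hζ => ?_
          rw [hE1 ζ hζ]
          rcases hWX ζ hζ with h6 | h6 <;> rw [h6] <;> norm_num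
        rw [← Int.cast_sum, h4, h5, Finset.sum_const, hXcard]
        simp
      rw [h2, hE5] at h1
      linear_combination h1
    rw [Finset.sum_congr rfl (fun ξ _ => hFξ ξ)] at hsplit'
    have hsumZ : ∑ ξ : ctx.Bn, δ (a (ctx.mkQ ξ)) = -(f : ℤ) := by
      have h1 : ((∑ ξ : ctx.Bn, δ (a (ctx.mkQ ξ)) : ℤ) : ℂ) = ((-(f : ℤ) : ℤ) : ℂ) := by
        push_cast
        linear_combination -hsplit'
      exact_mod_cast h1
    by_contra hcon
    push Not at hcon
    have hnn : 0 ≤ ∑ ξ : ctx.Bn, δ (a (ctx.mkQ ξ)) := by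
      refine Finset.sum_nonneg fun ξ _ => ?_
      have h1 := hcon (ctx.mkQ ξ)
      simp only [hδdef]
      rw [h1]
      simp
    rw [hsumZ] at hnn
    omega
  -- the degree equation
  set A := ∑ ψ ∈ Xm, charDegree (ψ : G → ℂ) with hA
  set K := Xp.card * (p - 1) with hK
  have hdeg : ∀ q : ctx.Q, ε * (charDegree (a q : G → ℂ) : ℤ) = (A : ℤ) - (K : ℤ) := by
    intro q
    rw [S.exc_degree q]
    have h4 : ∑ ζ : IrrCharacter G, W ζ * (charDegree (ζ : G → ℂ) : ℤ) =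
        ∑ ζ ∈ X, W ζ * (charDegree (ζ : G → ℂ) : ℤ) := by
      symm
      apply Finset.sum_subset (Finset.subset_univ _)
      intro ζ _ hζ
      rw [hW0 ζ hζ, zero_mul]
    rw [h4, ← Finset.sum_filter_add_sum_filter_not X (fun ψ => W ψ = 1)]
    have h5 : ∑ ζ ∈ X.filter (fun ψ => W ψ = 1), W ζ * (charDegree (ζ : G → ℂ) : ℤ) =
        (K : ℤ) := by
      have h5a : ∀ ζ ∈ X.filter (fun ψ => W ψ = 1),
          W ζ * (charDegree (ζ : G → ℂ) : ℤ) = ((p - 1 : ℕ) : ℤ) := by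
        intro ζ hζ
        rw [(Finset.mem_filter.1 hζ).2, one_mul, (hXpfacts ζ hζ).2.1]
      rw [Finset.sum_congr rfl h5a, Finset.sum_const, nsmul_eq_mul, hK]
      push_cast
      rfl
    have h6 : ∑ ζ ∈ X.filter (fun ψ => ¬ W ψ = 1), W ζ * (charDegree (ζ : G → ℂ) : ℤ) =
        -(A : ℤ) := by
      rw [hfe, hA]
      push_cast
      rw [← Finset.sum_neg_distrib]
      refine Finset.sum_congr rfl fun ζ hζ => ?_
      rw [(Finset.mem_filter.1 hζ).2]
      ring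
    rw [h5, h6]
    ring
  have hAle : A ≤ f + K := by
    rcases S.hε with hε | hε
    · obtain ⟨q, hq⟩ := hstep5 hε
      have h1 := brPsi_mult_sum_pow ctx h h' hdisj hm' (a q) hq
      have h2 := br_exc_degree_of_sum S q hε h1
      have h3 := hdeg q
      rw [hε, one_mul, h2, ← hf] at h3
      omega
    · obtain ⟨q⟩ := ctx.nonempty_Q
      have h3 := hdeg q
      rw [hε] at h3
      have h4 : (0 : ℤ) ≤ (charDegree (a q : G → ℂ) : ℤ) := Int.natCast_nonneg _
      omega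
  -- the linear characters
  set XL := Xm.filter (fun ψ : IrrCharacter G => charDegree (ψ : G → ℂ) = 1) with hXL
  have hLle : XL.card ≤ Xm.card := by
    rw [hXL]
    exact Finset.card_filter_le _ _
  have hAL : XL.card + (Xm.card - XL.card) * (p + 1) ≤ A := by
    rw [hA, ← Finset.sum_filter_add_sum_filter_not Xm (fun ψ : IrrCharacter G => charDegree (ψ : G → ℂ) = 1)]
    have h1 : ∑ ψ ∈ Xm.filter (fun ψ : IrrCharacter G => charDegree (ψ : G → ℂ) = 1),
        charDegree (ψ : G → ℂ) = XL.card := by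
      rw [Finset.sum_congr rfl (fun ψ hψ => (Finset.mem_filter.1 hψ).2), Finset.sum_const,
        smul_eq_mul, mul_one]
    have h2 : (Xm.card - XL.card) * (p + 1) ≤
        ∑ ψ ∈ Xm.filter (fun ψ : IrrCharacter G => ¬ charDegree (ψ : G → ℂ) = 1), charDegree (ψ : G → ℂ) := by
      have hc : (Xm.filter (fun ψ : IrrCharacter G => ¬ charDegree (ψ : G → ℂ) = 1)).card =
          Xm.card - XL.card := by
        have := Finset.card_filter_add_card_filter_not (s := Xm)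
          (fun ψ : IrrCharacter G => charDegree (ψ : G → ℂ) = 1)
        rw [hXL]
        omega
      rw [← hc, ← smul_eq_mul, ← Finset.sum_const]
      refine Finset.sum_le_sum fun ψ hψ => ?_
      rw [Finset.mem_filter] at hψ
      have hψm := hψ.1
      rw [hXm, Finset.mem_filter] at hψm
      rcases br_nonexc_degree_mod S ((hXmem ψ).1 hψm.1).1 ((hXmem ψ).1 hψm.1).2 hψm.2
        with h3 | h3
      · exact absurd h3 hψ.2
      · exact h3
    rw [h1]
    omega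
  have hL2 := br_arith hp hf2 h3f hXpm hK1 hAle hLle hAL
  obtain ⟨ψ₁, hψ₁, ψ₂, hψ₂, hne12⟩ := Finset.one_lt_card.1 (by omega : 1 < XL.card)
  have key : ∀ ψ ∈ XL, (ψ : G → ℂ) 1 = 1 ∧ (ψ : G → ℂ) x = 1 := by
    intro ψ hψ
    rw [hXL, Finset.mem_filter] at hψ
    obtain ⟨hψm, hd1⟩ := hψ
    rw [hXm, Finset.mem_filter] at hψm
    refine ⟨by rw [(irr_apply_one_eq_charDegree ψ.2).1, hd1, Nat.cast_one], ?_⟩
    have h1 := br_nonexc_pow_principal S ((hXmem ψ).1 hψm.1).1 ((hXmem ψ).1 hψm.1).2 (k := 1)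
      (fun h => hp.one_lt.ne' (Nat.dvd_one.1 h))
    rw [pow_one, hψm.2] at h1
    rw [h1]
    push_cast
    ring
  exact ⟨ψ₁, ψ₂, hne12, (key ψ₁ hψ₁).1, (key ψ₁ hψ₁).2, (key ψ₂ hψ₂).1, (key ψ₂ hψ₂).2⟩

end

end Cfsg.Agent.Lib.Helper7
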