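import Mathlib
import Cfsg.Agent.Lib.Helper8.DO21
import Cfsg.Agent.Lib.Helper8.DO18
import Cfsg.Agent.Lib.Helper8.CD4
import Cfsg.Agent.Lib.Helper7.BR11

set_option autoImplicit false
set_option maxHeartbeats 800000
set_option linter.unusedSectionVars false

namespace Cfsg.Agent.Lib.Helper7

open Cfsg Cfsg.Agent.Lib.Helper8
open scoped ComplexConjugate
open Cfsg.Agent.Lib.Helper1 Cfsg.Agent.Lib.Helper4

universe u

section

variable {G : Type u} [Group G]

/-- a cyclic subgroup is normal as soon as all conjugates of its generator lie in it -/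
theorem br_zpowers_normal_of_conj {x : G} (h : ∀ g : G, g * x * g⁻¹ ∈ Subgroup.zpowers x) :
    (Subgroup.zpowers x).Normal := by
  constructor
  intro y hy g
  obtain ⟨i, rfl⟩ := Subgroup.mem_zpowers_iff.1 hy
  have h1 : g * x ^ i * g⁻¹ = (g * x * g⁻¹) ^ i := (conj_zpow).symm
  rw [h1]
  exact Subgroup.zpow_mem _ (h g) i

end

section

variable {G : Type u} [Group G] [Fintype G]

/-- if `x` acts as a scalar in every irreducible constituent of a faithful character, `x` is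
central -/
theorem br_central_of_norm [Fintype (IrrCharacter G)] {χ : G → ℂ} (m : IrrCharacter G → ℕ)
    (hχ : χ = ∑ ζ : IrrCharacter G, (m ζ : ℂ) • (ζ : G → ℂ))
    (hfaith : ∀ g : G, χ g = χ 1 → g = 1) (x : G)
    (hnorm : ∀ ζ : IrrCharacter G, m ζ ≠ 0 →
      ‖(ζ : G → ℂ) x‖ = (charDegree (ζ : G → ℂ) : ℝ)) (g : G) :
    g * x * g⁻¹ = x := by
  have h1 : ∀ ζ : IrrCharacter G, m ζ ≠ 0 →
      (ζ : G → ℂ) (x * g⁻¹ * x⁻¹ * g⁻¹⁻¹) = (ζ : G → ℂ) 1 := by
    intro ζ hζ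
    obtain ⟨n, ρ, _, hρ⟩ := ζ.2
    have h2 : (ζ : G → ℂ) 1 = n := by
      rw [← hρ, Representation.char_one]
      simp
    have h3 := (irr_apply_one_eq_charDegree ζ.2).1
    rw [h2] at h3
    have h4 : n = charDegree (ζ : G → ℂ) := by exact_mod_cast h3
    have h5 := hnorm ζ hζ
    rw [← h4, ← hρ] at h5
    have h6 := br_commutator_of_norm_eq ρ x h5 g⁻¹
    rw [hρ] at h6
    exact h6
  have h7 : χ (x * g⁻¹ * x⁻¹ * g⁻¹⁻¹) = χ 1 := by
    rw [hχ, Finset.sum_apply, Finset.sum_apply]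
    refine Finset.sum_congr rfl fun ζ _ => ?_
    rw [Pi.smul_apply, Pi.smul_apply]
    by_cases hζ : m ζ = 0
    · rw [hζ, Nat.cast_zero, zero_smul, zero_smul]
    · rw [h1 ζ hζ]
  have h8 := hfaith _ h7
  rw [inv_inv] at h8
  -- x g⁻¹ x⁻¹ g = 1
  have h9 : g * x * g⁻¹ = g * (x * g⁻¹ * x⁻¹ * g) * g⁻¹ * x := by group
  rw [h9, h8]
  group

/-- the degree of a constituent is at most the degree of the character -/
theorem br_degree_le_of_mult [Fintype (IrrCharacter G)] {χ : G → ℂ} (m : IrrCharacter G → ℕ)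
    (hχ : χ = ∑ ζ : IrrCharacter G, (m ζ : ℂ) • (ζ : G → ℂ)) (ζ : IrrCharacter G)
    (hζ : m ζ ≠ 0) : charDegree (ζ : G → ℂ) ≤ charDegree χ := by
  have h1 := apply_one_eq_sum_mult m hχ
  have h2 : charDegree χ = ∑ ζ : IrrCharacter G, m ζ * charDegree (ζ : G → ℂ) := by
    have h3 : charDegree χ = ⌊(χ 1).re⌋₊ := rfl
    rw [h3, h1, Complex.natCast_re, Nat.floor_natCast]
  rw [h2]
  calc charDegree (ζ : G → ℂ) ≤ m ζ * charDegree (ζ : G → ℂ) :=
        Nat.le_mul_of_pos_left _ (Nat.pos_of_ne_zero hζ)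
    _ ≤ _ := Finset.single_le_sum (f := fun ζ : IrrCharacter G => m ζ * charDegree (ζ : G → ℂ))
        (fun _ _ => Nat.zero_le _) (Finset.mem_univ ζ)

variable {C : Subgroup G} [Fintype C]

/-- a pattern with `f = 1`: the value at a central element has full norm -/
theorem br_norm_of_pattern_one {p : ℕ} (hp : p ≠ 0) {z : C} (hzc : ∀ c : C, z * c = c * z)
    (homp : ∀ ξ : IrrCharacter C, d1om z ξ ^ p = 1) {d : ℕ} {χ : IrrCharacter G}
    {O : Finset (IrrCharacter C)} (h : BrPattern C 1 d χ O) :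
    ‖(χ : G → ℂ) (z : G)‖ = (d : ℝ) := by
  obtain ⟨ξ₀, hξ₀⟩ := Finset.card_eq_one.1 h.card
  have h1 := br_pattern_pow hzc h 1
  rw [pow_one, hξ₀, Finset.sum_singleton, pow_one] at h1
  rw [h1, norm_mul, Complex.norm_natCast, Complex.norm_eq_one_of_pow_eq_one (homp ξ₀) hp, mul_one]

/-- the arithmetic of the inertial index -/
theorem br_three_mul_le {p f d : ℕ} (hf : f ∣ p - 1) (hd : 0 < d)
    (hdeg : 2 * (f * d) + 1 < p) : 3 * f ≤ p - 1 := by
  obtain ⟨k, hk⟩ := hf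
  have h1 : f ≤ f * d := Nat.le_mul_of_pos_right _ hd
  have hk3 : 3 ≤ k := by
    by_contra hcon
    have hk2 : k ≤ 2 := by omega
    have h2 : f * k ≤ f * 2 := Nat.mul_le_mul_left _ hk2
    omega
  calc 3 * f = f * 3 := by ring
    _ ≤ f * k := Nat.mul_le_mul_left _ hk3
    _ = p - 1 := hk.symm

end

end Cfsg.Agent.Lib.Helper7
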