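import Mathlib
import Cfsg.Agent.Lib.Helper8.DO21
import Cfsg.Agent.Lib.Helper8.DO18
import Cfsg.Agent.Lib.Helper8.DO23
import Cfsg.Agent.Lib.Helper8.CD4
import Cfsg.Agent.Lib.Helper8.TildeBlock
import Cfsg.Agent.S0148
import Cfsg.Agent.Lib.Helper7.BR12

set_option autoImplicit false
set_option maxHeartbeats 1600000
set_option linter.unusedSectionVars false

namespace Cfsg.Agent.Lib.Helper7

open Cfsg Cfsg.Agent.Lib.Helper8
open scoped ComplexConjugate
open Cfsg.Agent.Lib.Helper1 Cfsg.Agent.Lib.Helper4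

universe u

section

variable {G : Type u} [Group G] [Fintype G] {p : ℕ} [Fact p.Prime]

/-- if `⟨x⟩` is normal in a normal subgroup `K` containing `x`, it is normal in `G` -/
theorem br_normal_of_kernel {x : G} (hx : orderOf x = p) (hsq : ¬ p ^ 2 ∣ Nat.card G)
    (K : Subgroup G) [hKn : K.Normal] (hxK : x ∈ K)
    (hK : (Subgroup.zpowers (⟨x, hxK⟩ : K)).Normal) : (Subgroup.zpowers x).Normal := by
  have : Fintype K := Fintype.ofFinite _
  apply br_zpowers_normal_of_conj
  intro g
  have hsqK : ¬ p ^ 2 ∣ Nat.card K := fun h => hsq (h.trans (Subgroup.card_subgroup_dvd_card K))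
  have hxK' : orderOf (⟨x, hxK⟩ : K) = p := by
    rw [← hx]
    exact Subgroup.orderOf_mk x hxK
  set w : K := ⟨g * x * g⁻¹, hKn.conj_mem x hxK g⟩ with hw
  have hwN : w ∈ mrN (⟨x, hxK⟩ : K) := by
    show w ∈ Subgroup.normalizer ((Subgroup.zpowers (⟨x, hxK⟩ : K) : Subgroup K) : Set K)
    rw [Subgroup.normalizer_eq_top]
    exact Subgroup.mem_top _
  have hwo : orderOf w = p ^ 1 := by
    rw [pow_one, ← hx, ← Subgroup.orderOf_coe]
    show orderOf (g * x * g⁻¹) = orderOf x
    have := d1_orderOf_conj g⁻¹ x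
    rwa [inv_inv] at this
  have h1 := d1_mem_zpowers_of_mem_normalizer hxK' hsqK hwN ⟨1, hwo⟩
  obtain ⟨i, hi⟩ := Subgroup.mem_zpowers_iff.1 h1
  rw [Subgroup.mem_zpowers_iff]
  refine ⟨i, ?_⟩
  have h2 := congrArg (Subtype.val : K → G) hi
  rw [Subgroup.coe_zpow] at h2
  exact h2

end

section

/-- **Brauer's theorem**, in inductive form: if `p ∥ |G|` and `G` has a faithful character of
degree less than `(p - 1) / 2`, then the subgroups of order `p` are normal. -/
theorem br_main (n : ℕ) : ∀ (G : Type u) [Group G] [Fintype G], Nat.card G = n →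
    ∀ (p : ℕ) [Fact p.Prime] (x : G), orderOf x = p → ¬ p ^ 2 ∣ Nat.card G →
    ∀ χ : G → ℂ, IsCharacter G χ → (∀ g : G, χ g = χ 1 → g = 1) →
      2 * charDegree χ + 1 < p → (Subgroup.zpowers x).Normal := by
  induction n using Nat.strong_induction_on with
  | _ n ih =>
    intro G _ _ hn p _ x hx hsq χ hχ hfaith hdeg
    classical
    have : Fintype (IrrCharacter G) := Fintype.ofFinite _
    have hp : p.Prime := Fact.out
    obtain ⟨M, hM⟩ := exists_isPModular p
    have instC : Fintype (Subgroup.centralizer ((Subgroup.zpowers x : Subgroup G) : Set G)) :=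
      Fintype.ofFinite _
    have base : D1Base p M x
        (Subgroup.centralizer ((Subgroup.zpowers x : Subgroup G) : Set G)) :=
      ⟨hM, hx, hsq, fun t => d1_mem_centralizer_zpowers x t⟩
    have hxC : x ∈ Subgroup.centralizer ((Subgroup.zpowers x : Subgroup G) : Set G) :=
      (base.hC x).2 rfl
    have ctx₀ := d1_principal_ctx (M := M) hM hx hsq
    obtain ⟨m, hm, hχm⟩ := exists_nat_mult hχ
    by_cases hA : ∀ ζ : IrrCharacter G, m ζ ≠ 0 →
        ‖(ζ : G → ℂ) x‖ = (charDegree (ζ : G → ℂ) : ℝ)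
    · apply br_zpowers_normal_of_conj
      intro g
      rw [br_central_of_norm m hχm hfaith x hA g]
      exact Subgroup.mem_zpowers x
    · push Not at hA
      obtain ⟨ζ, hζm, hζn⟩ := hA
      have hζdeg : 2 * charDegree (ζ : G → ℂ) + 1 < p := by
        have := br_degree_le_of_mult m hχm ζ hζm
        omega
      have hζne : (ζ : G → ℂ) x ≠ (ζ : G → ℂ) 1 := by
        intro h
        apply hζn
        rw [h, (irr_apply_one_eq_charDegree ζ.2).1, Complex.norm_natCast]
      obtain ⟨d, O, O', χ', hd, hdegζ, hpat, hpat', hagree, hne, hdisj⟩ :=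
        br_claimA base hxC ζ hζdeg hζne
      have hfe := ctx₀.e_eq_of_triv
      have hfdvd : (Subgroup.centralizer ((Subgroup.zpowers x : Subgroup G) : Set G)).relIndex
          (mrN x) ∣ p - 1 := hfe ▸ ctx₀.e_dvd
      have hf1 : (Subgroup.centralizer ((Subgroup.zpowers x : Subgroup G) : Set G)).relIndex
          (mrN x) ≠ 1 := by
        intro h1
        apply hζn
        rw [h1] at hpat hdegζ
        have h2 := br_norm_of_pattern_one hp.ne_zero ctx₀.hzc ctx₀.om_pow_p hpat
        rw [hdegζ, one_mul]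
        exact h2
      have hf0 : (Subgroup.centralizer ((Subgroup.zpowers x : Subgroup G) : Set G)).relIndex
          (mrN x) ≠ 0 := by
        intro h0
        rw [h0, zero_mul] at hdegζ
        have := (irr_apply_one_eq_charDegree ζ.2).2
        omega
      have hf2 : 2 ≤ (Subgroup.centralizer ((Subgroup.zpowers x : Subgroup G) : Set G)).relIndex
          (mrN x) := by omega
      have h3f : 3 * (Subgroup.centralizer ((Subgroup.zpowers x : Subgroup G) : Set G)).relIndex
          (mrN x) ≤ p - 1 := br_three_mul_le hfdvd hd (by rw [← hdegζ]; exact hζdeg)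
      obtain ⟨ε₀, W₀, a₀, S₀⟩ := ctx₀.exists_str
      obtain ⟨ψ₁, ψ₂, hne12, h11, h1x, h21, h2x⟩ :=
        br_exists_linear S₀ hpat hpat' rfl hagree hne hdisj hf2 h3f
      obtain ⟨ψ, hψ1, hψx, g₀, hg₀⟩ : ∃ ψ : IrrCharacter G, (ψ : G → ℂ) 1 = 1 ∧
          (ψ : G → ℂ) x = 1 ∧ ∃ g₀ : G, (ψ : G → ℂ) g₀ ≠ 1 := by
        by_cases h : ∃ g₀ : G, (ψ₁ : G → ℂ) g₀ ≠ 1
        · exact ⟨ψ₁, h11, h1x, h⟩
        · push Not at h
          refine ⟨ψ₂, h21, h2x, ?_⟩
          by_contra h'
          push Not at h'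
          apply hne12
          apply Subtype.ext
          funext g
          rw [h g, h' g]
      obtain ⟨φ, hφ⟩ := exists_hom_of_isIrrCharacter ψ.2 hψ1
      have hxK : x ∈ φ.ker := by
        rw [MonoidHom.mem_ker]
        apply Units.ext
        have h1 := congrFun hφ x
        rw [hψx] at h1
        rw [Units.val_one]
        exact h1.symm
      have hKlt : Nat.card φ.ker < Nat.card G := by
        by_contra hcon
        have htop : φ.ker = ⊤ := Subgroup.eq_top_of_le_card _ (not_lt.1 hcon)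
        apply hg₀
        have h1 : g₀ ∈ φ.ker := htop ▸ Subgroup.mem_top g₀
        rw [MonoidHom.mem_ker] at h1
        rw [congrFun hφ g₀, h1, Units.val_one]
      have : Fintype φ.ker := Fintype.ofFinite _
      have hxK' : orderOf (⟨x, hxK⟩ : φ.ker) = p := by
        rw [← hx]
        exact Subgroup.orderOf_mk x hxK
      have hsqK : ¬ p ^ 2 ∣ Nat.card φ.ker :=
        fun h => hsq (h.trans (Subgroup.card_subgroup_dvd_card _))
      have hχK := Cfsg.Agent.S0148.isCharacter_restrict φ.ker hχ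
      have hdegK : charDegree (fun k : φ.ker => χ k) = charDegree χ := rfl
      have hKnormal := ih (Nat.card φ.ker) (hn ▸ hKlt) φ.ker rfl p ⟨x, hxK⟩ hxK' hsqK
        (fun k : φ.ker => χ k) hχK (fun k hk => Subtype.ext (hfaith k hk)) (by rw [hdegK]; exact hdeg)
      exact br_normal_of_kernel hx hsq φ.ker hxK hKnormal

end

end Cfsg.Agent.Lib.Helper7
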