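import Mathlib

set_option autoImplicit false

namespace Cfsg.Agent.Lib.Helper7

variable {G : Type*} [Group G]

/-- `cj g H = g H g⁻¹` -/
abbrev cj (g : G) (H : Subgroup G) : Subgroup G := H.map (MulAut.conj g).toMonoidHom

theorem cj_mul (a b : G) (H : Subgroup G) : cj (a * b) H = cj a (cj b H) := by
  unfold cj
  rw [Subgroup.map_map, map_mul]
  rfl

theorem cj_one (H : Subgroup G) : cj 1 H = H := by
  unfold cj
  rw [map_one]
  exact Subgroup.map_id H

theorem cj_inv_cj (a : G) (H : Subgroup G) : cj a⁻¹ (cj a H) = H := by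
  rw [← cj_mul, inv_mul_cancel, cj_one]

theorem cj_cj_inv (a : G) (H : Subgroup G) : cj a (cj a⁻¹ H) = H := by
  rw [← cj_mul, mul_inv_cancel, cj_one]

theorem cj_mono (g : G) {H K : Subgroup G} (h : H ≤ K) : cj g H ≤ cj g K :=
  Subgroup.map_mono h

theorem mem_cj (g x : G) (H : Subgroup G) : x ∈ cj g H ↔ g⁻¹ * x * g ∈ H := by
  constructor
  · rintro ⟨y, hy, rfl⟩
    have : g⁻¹ * (g * y * g⁻¹) * g = y := by group
    show g⁻¹ * (g * y * g⁻¹) * g ∈ H
    rw [this]; exact hy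
  · intro h
    refine ⟨g⁻¹ * x * g, h, ?_⟩
    show g * (g⁻¹ * x * g) * g⁻¹ = x
    group

theorem cj_le_of_mem {x : G} {H K : Subgroup G} (hx : x ∈ K) (h : H ≤ K) : cj x H ≤ K := by
  rintro _ ⟨y, hy, rfl⟩
  exact K.mul_mem (K.mul_mem hx (h hy)) (K.inv_mem hx)

theorem cj_eq_self_of_mem {x : G} {H : Subgroup G} (hx : x ∈ H) : cj x H = H := by
  apply le_antisymm (cj_le_of_mem hx le_rfl)
  intro y hy
  rw [mem_cj]
  exact H.mul_mem (H.mul_mem (H.inv_mem hx) hy) hx

theorem mem_normalizer_iff_cj {g : G} {H : Subgroup G} :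
    g ∈ Subgroup.normalizer (H : Set G) ↔ cj g H = H :=
  Subgroup.mem_normalizer_iff_map_conj_eq

theorem cj_sup (g : G) (H K : Subgroup G) : cj g (H ⊔ K) = cj g H ⊔ cj g K :=
  Subgroup.map_sup H K _

end Cfsg.Agent.Lib.Helper7

namespace Cfsg.Agent.Lib.Helper7

variable {G : Type*} [Group G]

theorem map_subtype_cj (A : Subgroup G) (a : A) (K : Subgroup A) :
    (cj a K).map A.subtype = cj (a : G) (K.map A.subtype) := by
  unfold cj
  rw [Subgroup.map_map, Subgroup.map_map]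
  congr 1

/-- pronormality of `H.subgroupOf A` in `A`, stated inside `G` -/
theorem pronormal_subgroupOf_iff (A H : Subgroup G) (hHA : H ≤ A) :
    (∀ a : A, ∃ x ∈ (H.subgroupOf A) ⊔ cj a (H.subgroupOf A),
      cj a (H.subgroupOf A) = cj x (H.subgroupOf A)) ↔
    ∀ a ∈ A, ∃ x ∈ H ⊔ cj a H, cj a H = cj x H := by
  have hΦ : (H.subgroupOf A).map A.subtype = H := Subgroup.map_subgroupOf_eq_of_le hHA
  have hinj := Subgroup.map_injective A.subtype_injective
  constructor
  · intro h a ha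
    obtain ⟨x, hx, hxe⟩ := h ⟨a, ha⟩
    refine ⟨(x : G), ?_, ?_⟩
    · have := Subgroup.mem_map_of_mem A.subtype hx
      rw [Subgroup.map_sup, map_subtype_cj, hΦ] at this
      exact this
    · have := congrArg (Subgroup.map A.subtype) hxe
      rw [map_subtype_cj, map_subtype_cj, hΦ] at this
      exact this
  · intro h a
    obtain ⟨x, hx, hxe⟩ := h (a : G) a.2
    have hxA : x ∈ A := (sup_le hHA (cj_le_of_mem a.2 hHA)) hx
    refine ⟨⟨x, hxA⟩, ?_, ?_⟩
    · rw [← Subgroup.mem_map_iff_mem A.subtype_injective, Subgroup.map_sup, map_subtype_cj, hΦ]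
      exact hx
    · apply hinj
      rw [map_subtype_cj, map_subtype_cj, hΦ]
      exact hxe

end Cfsg.Agent.Lib.Helper7
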