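import Mathlib

set_option autoImplicit false

namespace Cfsg.Agent.Lib.Helper7

/-- `[T : T ∩ R] = [RT : R]` for `T` normal. -/
theorem relIndex_eq_relIndex_sup_of_normal {G : Type*} [Group G] [Finite G] (R T : Subgroup G)
    [T.Normal] : R.relIndex T = R.relIndex (R ⊔ T) := by
  have e1 := Subgroup.relIndex_mul_relIndex ⊥ (R ⊓ T) T bot_le inf_le_right
  have e2 := Subgroup.relIndex_mul_relIndex ⊥ (R ⊓ T) R bot_le inf_le_left
  have e3 := Subgroup.relIndex_mul_relIndex ⊥ T (R ⊔ T) bot_le le_sup_right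
  have e4 := Subgroup.relIndex_mul_relIndex ⊥ R (R ⊔ T) bot_le le_sup_left
  simp only [Subgroup.relIndex_bot_left] at e1 e2 e3 e4
  have e5 : T.relIndex (R ⊔ T) = (R ⊓ T).relIndex R := by
    rw [Subgroup.relIndex_sup_right, Subgroup.inf_relIndex_left]
  rw [Subgroup.inf_relIndex_right] at e1
  have hRpos : 0 < Nat.card R := Nat.card_pos
  have : Nat.card R * R.relIndex T = Nat.card R * R.relIndex (R ⊔ T) := by
    rw [e4, ← e3, e5, ← e1, ← e2]
    ring
  exact Nat.eq_of_mul_eq_mul_left hRpos this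

/-- If `K ≤ H` is normalized by `H` (finite), then `[K : K ∩ S]` divides `[H : H ∩ S]`. -/
theorem relIndex_dvd_relIndex_of_normal {G : Type*} [Group G] (S K H : Subgroup G) [Finite H]
    (hKH : K ≤ H) (hn : H ≤ Subgroup.normalizer (K : Set G)) : S.relIndex K ∣ S.relIndex H := by
  haveI : (K.subgroupOf H).Normal := (Subgroup.normal_subgroupOf_iff_le_normalizer hKH).mpr hn
  have h1 : (S.subgroupOf H).relIndex (K.subgroupOf H) = S.relIndex K :=
    Subgroup.relIndex_subgroupOf hKH
  rw [← h1, relIndex_eq_relIndex_sup_of_normal]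
  exact Subgroup.relIndex_dvd_index_of_le le_sup_left

/-- If `N` is normalized by `H`, then `[NH : H]` divides `|N|`. -/
theorem relIndex_sup_dvd_card {G : Type*} [Group G] (N H : Subgroup G) [Finite (N ⊔ H : Subgroup G)]
    (hn : H ≤ Subgroup.normalizer (N : Set G)) : H.relIndex (N ⊔ H) ∣ Nat.card N := by
  set X := N ⊔ H with hX
  have hNX : N ≤ X := le_sup_left
  have hHX : H ≤ X := le_sup_right
  have hXn : X ≤ Subgroup.normalizer (N : Set G) := sup_le Subgroup.le_normalizer hn
  haveI : (N.subgroupOf X).Normal := (Subgroup.normal_subgroupOf_iff_le_normalizer hNX).mpr hXn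
  have h1 : (H.subgroupOf X).relIndex (N.subgroupOf X) = H.relIndex N :=
    Subgroup.relIndex_subgroupOf hNX
  have h2 := relIndex_eq_relIndex_sup_of_normal (H.subgroupOf X) (N.subgroupOf X)
  have h3 : H.subgroupOf X ⊔ N.subgroupOf X = ⊤ := by
    rw [← Subgroup.subgroupOf_sup hHX hNX, sup_comm, ← hX, Subgroup.subgroupOf_self]
  rw [h3, Subgroup.relIndex_top_right, h1] at h2
  have h4 : (H.subgroupOf X).index = H.relIndex X := rfl
  rw [← h4, ← h2]
  exact Subgroup.relIndex_dvd_card H N

end Cfsg.Agent.Lib.Helper7
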