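import Mathlib
import Cfsg.Agent.Lib.Helper7.Conj

set_option autoImplicit false

/-!
# Relative subnormality inside a fixed ambient group

`SubnIn S H` : `S` is subnormal in `H` (both subgroups of `G`), defined by an inductive
predicate staying inside `G`, with a bridge to Mathlib's `Subgroup.IsSubnormal`.
-/

namespace Cfsg.Agent.Lib.Helper7

variable {G : Type*} [Group G]

/-! ### more conjugation API -/

theorem cj_bot (g : G) : cj g (⊥ : Subgroup G) = ⊥ := Subgroup.map_bot _

theorem cj_eq_bot_iff (g : G) (H : Subgroup G) : cj g H = ⊥ ↔ H = ⊥ :=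
  Subgroup.map_eq_bot_iff_of_injective H (MulAut.conj g).injective

theorem card_cj (g : G) (H : Subgroup G) : Nat.card (cj g H) = Nat.card H :=
  Subgroup.card_map_of_injective (MulAut.conj g).injective

theorem normalizer_cj (g : G) (H : Subgroup G) :
    Subgroup.normalizer ((cj g H : Subgroup G) : Set G) = cj g (Subgroup.normalizer (H : Set G)) :=
  (Subgroup.map_equiv_normalizer_eq H (MulAut.conj g)).symm

theorem cj_inf (g : G) (H K : Subgroup G) : cj g (H ⊓ K) = cj g H ⊓ cj g K :=
  Subgroup.map_inf H K _ (MulAut.conj g).injective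

theorem cj_le_cj_iff (g : G) {H K : Subgroup G} : cj g H ≤ cj g K ↔ H ≤ K :=
  Subgroup.map_le_map_iff_of_injective (MulAut.conj g).injective

theorem cj_injective (g : G) : Function.Injective (cj g : Subgroup G → Subgroup G) :=
  Subgroup.map_injective (MulAut.conj g).injective

theorem cj_eq_of_mem_normalizer {g : G} {H N : Subgroup G} (hH : H ≤ Subgroup.normalizer (N : Set G))
    (hg : g ∈ H) : cj g N = N :=
  mem_normalizer_iff_cj.mp (hH hg)

theorem cj_lt_cj_iff (g : G) {H K : Subgroup G} : cj g H < cj g K ↔ H < K := by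
  rw [lt_iff_le_not_ge, lt_iff_le_not_ge, cj_le_cj_iff, cj_le_cj_iff]

theorem le_normalizer_cj {g : G} {S K : Subgroup G} (h : K ≤ Subgroup.normalizer (S : Set G)) :
    cj g K ≤ Subgroup.normalizer ((cj g S : Subgroup G) : Set G) := by
  rw [normalizer_cj]; exact cj_mono g h

/-- if a subgroup of a finite group is mapped into itself by conjugation then it is fixed -/
theorem cj_eq_of_le [Finite G] {g : G} {H : Subgroup G} (h : cj g H ≤ H) : cj g H = H :=
  Subgroup.eq_of_le_of_card_ge h (card_cj g H).ge

/-! ### the relative subnormality predicate -/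

/-- `SubnIn S H`: there is a chain `S = S₀ ⊴ S₁ ⊴ ⋯ ⊴ Sₙ = H`. -/
inductive SubnIn : Subgroup G → Subgroup G → Prop
  | refl (H : Subgroup G) : SubnIn H H
  | step (S K H : Subgroup G) : S ≤ K → K ≤ Subgroup.normalizer (S : Set G) → SubnIn K H → SubnIn S H

namespace SubnIn

theorem le {S H : Subgroup G} (h : SubnIn S H) : S ≤ H := by
  induction h with
  | refl H => exact le_rfl
  | step S K H hSK _ _ ih => exact hSK.trans ih

theorem of_normal {S H : Subgroup G} (hSH : S ≤ H) (hN : H ≤ Subgroup.normalizer (S : Set G)) :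
    SubnIn S H :=
  SubnIn.step S H H hSH hN (SubnIn.refl H)

theorem trans {S K H : Subgroup G} (h1 : SubnIn S K) (h2 : SubnIn K H) : SubnIn S H := by
  induction h1 with
  | refl _ => exact h2
  | step S K' _ hSK hN _ ih => exact SubnIn.step S K' H hSK hN (ih h2)

theorem conj {S H : Subgroup G} (h : SubnIn S H) (g : G) : SubnIn (cj g S) (cj g H) := by
  induction h with
  | refl H => exact SubnIn.refl _
  | step S K H hSK hN _ ih =>
    exact SubnIn.step _ (cj g K) _ (cj_mono g hSK) (le_normalizer_cj hN) ih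

theorem inf_right {S H : Subgroup G} (h : SubnIn S H) (L : Subgroup G) : SubnIn (S ⊓ L) (H ⊓ L) := by
  induction h with
  | refl H => exact SubnIn.refl _
  | step S K H hSK hN _ ih =>
    refine SubnIn.step _ (K ⊓ L) _ (inf_le_inf_right L hSK) ?_ ih
    intro x hx
    have hxK : x ∈ K := hx.1
    have hxL : x ∈ L := hx.2
    rw [mem_normalizer_iff_cj, cj_inf, cj_eq_self_of_mem hxL, mem_normalizer_iff_cj.mp (hN hxK)]

theorem of_le {S H L : Subgroup G} (h : SubnIn S H) (hSL : S ≤ L) (hLH : L ≤ H) : SubnIn S L := by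
  have := h.inf_right L
  rwa [inf_eq_left.mpr hSL, inf_eq_right.mpr hLH] at this

/-- a proper subnormal subgroup lies in a proper normal subgroup in which it is subnormal -/
theorem exists_normal_lt {S H : Subgroup G} (h : SubnIn S H) (hne : S ≠ H) :
    ∃ N : Subgroup G, S ≤ N ∧ N < H ∧ H ≤ Subgroup.normalizer (N : Set G) ∧ SubnIn S N := by
  induction h with
  | refl H => exact absurd rfl hne
  | step S K H hSK hN hKH ih =>
    by_cases hK : K = H
    · subst hK
      exact ⟨S, le_rfl, lt_of_le_of_ne hSK hne, hN, SubnIn.refl S⟩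
    · obtain ⟨N, hKN, hNH, hHN, hsub⟩ := ih hK
      exact ⟨N, hSK.trans hKN, hNH, hHN, SubnIn.step S K N hSK hN hsub⟩

/-- a proper subnormal subgroup is normal in a strictly larger subnormal subgroup -/
theorem exists_lt_normal {S H : Subgroup G} (h : SubnIn S H) (hne : S ≠ H) :
    ∃ K : Subgroup G, S < K ∧ K ≤ Subgroup.normalizer (S : Set G) ∧ SubnIn K H := by
  induction h with
  | refl H => exact absurd rfl hne
  | step S K H hSK hN hKH ih =>
    by_cases hK : S = K
    · subst hK
      exact ih hne
    · exact ⟨K, lt_of_le_of_ne hSK hK, hN, hKH⟩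

end SubnIn

/-! ### bridge to Mathlib -/

theorem SubnIn.isSubnormal_of_isSubnormal {S H : Subgroup G} (h : SubnIn S H) (hH : H.IsSubnormal) :
    S.IsSubnormal := by
  induction h with
  | refl H => exact hH
  | step S K H hSK hN _ ih =>
    exact Subgroup.IsSubnormal.step S K hSK (ih hH)
      ((Subgroup.normal_subgroupOf_iff_le_normalizer hSK).mpr hN)

theorem subnIn_top_iff {S : Subgroup G} : SubnIn S ⊤ ↔ S.IsSubnormal := by
  constructor
  · intro h; exact h.isSubnormal_of_isSubnormal Subgroup.IsSubnormal.top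
  · intro h
    induction h with
    | top => exact SubnIn.refl _
    | step H K hle _ hN ih =>
      exact SubnIn.step H K ⊤ hle ((Subgroup.normal_subgroupOf_iff_le_normalizer hle).mp hN) ih

/-- transport from a subgroup type -/
theorem SubnIn.map_subtype {K : Subgroup G} {S H : Subgroup K} (h : SubnIn S H) :
    SubnIn (S.map K.subtype) (H.map K.subtype) := by
  induction h with
  | refl H => exact SubnIn.refl _
  | step S L H hSL hN _ ih =>
    refine SubnIn.step _ (L.map K.subtype) _ (Subgroup.map_mono hSL) ?_ ih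
    rintro _ ⟨y, hy, rfl⟩
    rw [mem_normalizer_iff_cj]
    show cj ((y : G)) (S.map K.subtype) = _
    rw [← map_subtype_cj, mem_normalizer_iff_cj.mp (hN hy)]

theorem subnIn_of_isSubnormal_subgroupOf {S H : Subgroup G} (hSH : S ≤ H)
    (h : (S.subgroupOf H).IsSubnormal) : SubnIn S H := by
  have h1 : SubnIn (S.subgroupOf H) ⊤ := subnIn_top_iff.mpr h
  have h2 := h1.map_subtype
  rwa [Subgroup.map_subgroupOf_eq_of_le hSH, ← MonoidHom.range_eq_map, Subgroup.range_subtype] at h2

theorem SubnIn.isSubnormal_subgroupOf {S H : Subgroup G} (h : SubnIn S H) :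
    (S.subgroupOf H).IsSubnormal := by
  induction h with
  | refl H => rw [Subgroup.subgroupOf_self]; exact Subgroup.IsSubnormal.top
  | step S K H hSK hN hKH ih =>
    have hKle : K ≤ H := hKH.le
    have hle' : S.subgroupOf H ≤ K.subgroupOf H := Subgroup.comap_mono hSK
    refine Subgroup.IsSubnormal.step _ (K.subgroupOf H) hle' ih ?_
    rw [Subgroup.normal_subgroupOf_iff_le_normalizer hle']
    intro x hx
    have hxK : (x : G) ∈ K := hx
    have hx' := hN hxK
    rw [Subgroup.mem_normalizer_iff] at hx' ⊢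
    intro h
    exact hx' (h : G)

theorem subnIn_iff {S H : Subgroup G} : SubnIn S H ↔ S ≤ H ∧ (S.subgroupOf H).IsSubnormal :=
  ⟨fun h => ⟨h.le, h.isSubnormal_subgroupOf⟩, fun h => subnIn_of_isSubnormal_subgroupOf h.1 h.2⟩

end Cfsg.Agent.Lib.Helper7
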