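import Mathlib
import Cfsg.Prelude.Def_Local
import Cfsg.Agent.Lib.Helper7.Conj
import Cfsg.Agent.Lib.Helper7.Wielandt1
import Cfsg.Agent.Lib.Helper7.IndexLemmas
import Cfsg.Agent.Lib.Lead.CoprimeTools2

set_option autoImplicit false

open scoped Pointwise

namespace Cfsg.Agent.Lib.Helper7

section basics

variable {G : Type*} [Group G]

theorem conj_smul_eq_cj (g : G) (H : Subgroup G) : MulAut.conj g • H = cj g H := rfl

/-- index of the image of `B` over the image of `A` divides the index of `B` over `A`. -/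
theorem relIndex_map_map_dvd {G' : Type*} [Group G'] (f : G →* G') (A B : Subgroup G) :
    (A.map f).relIndex (B.map f) ∣ A.relIndex B := by
  rw [← Subgroup.relIndex_comap, Subgroup.comap_map_eq]
  exact Subgroup.relIndex_dvd_of_le_left B le_sup_left

/-- quotients of `p`-solvable groups are `p`-solvable. -/
theorem isPSolvable_quotient {p : ℕ} [Fact p.Prime] (hG : Cfsg.IsPSolvable p G) (N : Subgroup G)
    [N.Normal] : Cfsg.IsPSolvable p (G ⧸ N) := by
  obtain ⟨n, H, h0, hn, hmono, hnormal, hfac⟩ := hG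
  refine ⟨n, fun i => (H i).map (QuotientGroup.mk' N), ?_, ?_, ?_, ?_, ?_⟩
  · simp only [h0, Subgroup.map_bot]
  · simp only [hn]
    exact Subgroup.map_top_of_surjective _ (QuotientGroup.mk'_surjective N)
  · intro i j hij
    exact Subgroup.map_mono (hmono hij)
  · intro i
    exact (hnormal i).map _ (QuotientGroup.mk'_surjective N)
  · intro i
    have hd := relIndex_map_map_dvd (QuotientGroup.mk' N) (H i.castSucc) (H i.succ)
    rcases hfac i with ⟨m, hm⟩ | hc
    · left
      rw [hm] at hd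
      obtain ⟨k, -, hk⟩ := (Nat.dvd_prime_pow (Fact.out : p.Prime)).mp hd
      exact ⟨k, hk⟩
    · right
      exact Nat.Coprime.coprime_dvd_left hd hc

/-- a nontrivial `p`-solvable group has a nontrivial normal subgroup that is a `p`-group or a
`p'`-group. -/
theorem exists_normal_of_isPSolvable {p : ℕ} [Nontrivial G] (hG : Cfsg.IsPSolvable p G) :
    ∃ N : Subgroup G, N.Normal ∧ N ≠ ⊥ ∧
      ((∃ m : ℕ, Nat.card N = p ^ m) ∨ (Nat.card N).Coprime p) := by
  classical
  obtain ⟨n, H, h0, hn, hmono, hnormal, hfac⟩ := hG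
  have hex : ∃ k : ℕ, ∃ h : k < n + 1, H ⟨k, h⟩ ≠ ⊥ := by
    refine ⟨n, Nat.lt_succ_self n, ?_⟩
    have : (⟨n, Nat.lt_succ_self n⟩ : Fin (n + 1)) = Fin.last n := rfl
    rw [this, hn]
    exact top_ne_bot
  set k := Nat.find hex with hk
  obtain ⟨hklt, hkne⟩ := Nat.find_spec hex
  have hk0 : k ≠ 0 := by
    intro h
    apply hkne
    have : (⟨Nat.find hex, hklt⟩ : Fin (n + 1)) = 0 := by
      apply Fin.ext
      exact h
    rw [this, h0]
  obtain ⟨j, hj⟩ : ∃ j, k = j + 1 := Nat.exists_eq_succ_of_ne_zero hk0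
  have hjn : j < n := by omega
  have hjbot : H (⟨j, hjn⟩ : Fin n).castSucc = ⊥ := by
    by_contra hne
    have := Nat.find_min' hex ⟨(by omega : j < n + 1), hne⟩
    omega
  have hsucc : (⟨j, hjn⟩ : Fin n).succ = ⟨Nat.find hex, hklt⟩ := by
    apply Fin.ext
    simp only [Fin.val_succ]
    omega
  refine ⟨H (⟨j, hjn⟩ : Fin n).succ, hnormal _, ?_, ?_⟩
  · rw [hsucc]; exact hkne
  · have := hfac ⟨j, hjn⟩
    rw [hjbot, Subgroup.relIndex_bot_left] at this
    exact this

/-- a normal `p'`-subgroup lies in every subgroup of `p`-power index. -/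
theorem le_of_coprime_of_index_pow [Finite G] {p : ℕ} [hp : Fact p.Prime] (N H : Subgroup G)
    [N.Normal] (hN : (Nat.card N).Coprime p) (hH : ∃ n : ℕ, H.index = p ^ n) : N ≤ H := by
  obtain ⟨n, hn⟩ := hH
  have h1 : H.relIndex (N ⊔ H) ∣ Nat.card N :=
    relIndex_sup_dvd_card N H (by rw [Subgroup.normalizer_eq_top_iff.mpr inferInstance]; exact le_top)
  have h2 : H.relIndex (N ⊔ H) ∣ H.index := Subgroup.relIndex_dvd_index_of_le le_sup_right
  rw [hn] at h2
  obtain ⟨k, -, hk⟩ := (Nat.dvd_prime_pow hp.out).mp h2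
  have h3 : H.relIndex (N ⊔ H) = 1 := by
    rw [hk] at h1 ⊢
    have : (p ^ k).Coprime p := Nat.Coprime.coprime_dvd_left h1 hN
    rcases Nat.eq_zero_or_pos k with h | h
    · rw [h, pow_zero]
    · exfalso
      have h4 : p ∣ p ^ k := dvd_pow_self p h.ne'
      exact hp.out.one_lt.ne' (Nat.eq_one_of_dvd_coprimes this h4 dvd_rfl)
  rw [Subgroup.relIndex_eq_one] at h3
  exact le_sup_left.trans h3

end basics

end Cfsg.Agent.Lib.Helper7

namespace Cfsg.Agent.Lib.Helper7

open Cfsg.Agent.Lib.Lead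

section hallp

/-- `H` is a `p`-complement: order prime to `p`, index a power of `p`. -/
def IsPCompl (p : ℕ) {G : Type*} [Group G] (H : Subgroup G) : Prop :=
  (Nat.card H).Coprime p ∧ ∃ n : ℕ, H.index = p ^ n

/-- existence, conjugacy and dominance of `p`-complements. -/
def HallP (p : ℕ) (G : Type*) [Group G] : Prop :=
  (∃ H : Subgroup G, IsPCompl p H) ∧
  (∀ H₁ H₂ : Subgroup G, IsPCompl p H₁ → IsPCompl p H₂ → ∃ g : G, H₂ = cj g H₁) ∧
  (∀ U : Subgroup G, (Nat.card U).Coprime p → ∃ H : Subgroup G, IsPCompl p H ∧ U ≤ H)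

variable {G : Type*} [Group G] [Finite G] {p : ℕ} [hp : Fact p.Prime]

theorem isPCompl_cj {H : Subgroup G} (h : IsPCompl p H) (g : G) : IsPCompl p (cj g H) := by
  refine ⟨by rw [card_cj]; exact h.1, ?_⟩
  obtain ⟨n, hn⟩ := h.2
  refine ⟨n, ?_⟩
  have h1 := (cj g H).card_mul_index
  have h2 := H.card_mul_index
  rw [card_cj, ← h2] at h1
  rw [← hn]
  exact Nat.eq_of_mul_eq_mul_left Nat.card_pos h1

theorem isPCompl_comap (N : Subgroup G) [N.Normal] (hN : (Nat.card N).Coprime p)
    {X : Subgroup (G ⧸ N)} (hX : IsPCompl p X) : IsPCompl p (X.comap (QuotientGroup.mk' N)) := by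
  refine ⟨?_, ?_⟩
  · rw [card_comap_mk]
    exact Nat.Coprime.mul_left hX.1 hN
  · obtain ⟨n, hn⟩ := hX.2
    exact ⟨n, by rw [Subgroup.index_comap_of_surjective _ (QuotientGroup.mk'_surjective N), hn]⟩

theorem isPCompl_map_of_le (N : Subgroup G) [N.Normal] {H : Subgroup G} (hH : IsPCompl p H)
    (hNH : N ≤ H) : IsPCompl p (H.map (QuotientGroup.mk' N)) := by
  refine ⟨?_, ?_⟩
  · have := card_map_mk_of_le N H hNH
    exact Nat.Coprime.coprime_dvd_left (Dvd.intro _ this) hH.1
  · obtain ⟨n, hn⟩ := hH.2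
    refine ⟨n, ?_⟩
    rw [Subgroup.index_map, QuotientGroup.ker_mk', sup_eq_left.mpr hNH,
      MonoidHom.range_eq_top.mpr (QuotientGroup.mk'_surjective N), Subgroup.index_top, mul_one, hn]

/-- lifting through a normal `p'`-subgroup. -/
theorem hallP_of_quotient_coprime (N : Subgroup G) [N.Normal] (hN : (Nat.card N).Coprime p)
    (h : HallP p (G ⧸ N)) : HallP p G := by
  obtain ⟨⟨X, hX⟩, hC, hD⟩ := h
  refine ⟨⟨_, isPCompl_comap N hN hX⟩, ?_, ?_⟩
  · intro H₁ H₂ h1 h2
    have hN1 : N ≤ H₁ := le_of_coprime_of_index_pow N H₁ hN h1.2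
    have hN2 : N ≤ H₂ := le_of_coprime_of_index_pow N H₂ hN h2.2
    obtain ⟨gq, hg⟩ := hC _ _ (isPCompl_map_of_le N h1 hN1) (isPCompl_map_of_le N h2 hN2)
    obtain ⟨g, rfl⟩ := QuotientGroup.mk'_surjective N gq
    refine ⟨g, ?_⟩
    have h3 : (cj g H₁).map (QuotientGroup.mk' N) = H₂.map (QuotientGroup.mk' N) := by
      rw [hg, ← conj_smul_eq_cj, map_conj_smul]
      rfl
    have h4 := congrArg (Subgroup.comap (QuotientGroup.mk' N)) h3
    rw [comap_map_mk, comap_map_mk] at h4
    have hN1' : N ≤ cj g H₁ := by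
      intro x hx
      rw [mem_cj]
      exact hN1 (by
        have := (inferInstance : N.Normal).conj_mem x hx g⁻¹
        rwa [inv_inv] at this)
    rw [sup_eq_left.mpr hN1', sup_eq_left.mpr hN2] at h4
    exact h4.symm
  · intro U hU
    have hU' : (Nat.card (U.map (QuotientGroup.mk' N))).Coprime p := by
      have := card_map_mk_mul N U
      exact Nat.Coprime.coprime_dvd_left (Dvd.intro _ this) hU
    obtain ⟨Y, hY, hUY⟩ := hD _ hU'
    refine ⟨_, isPCompl_comap N hN hY, ?_⟩
    exact (Subgroup.le_comap_map _ U).trans (Subgroup.comap_mono hUY)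

end hallp

end Cfsg.Agent.Lib.Helper7

namespace Cfsg.Agent.Lib.Helper7

open Cfsg.Agent.Lib.Lead

section hallp2

variable {G : Type*} [Group G] [Finite G] {p : ℕ} [hp : Fact p.Prime]

theorem coprime_card_of_pow {N U : Subgroup G} {m : ℕ} (hN : Nat.card N = p ^ m)
    (hU : (Nat.card U).Coprime p) : (Nat.card U).Coprime (Nat.card N) := by
  rw [hN]; exact Nat.Coprime.pow_right _ hU

theorem isPCompl_map_of_pgroup (N : Subgroup G) [N.Normal] {m : ℕ} (hN : Nat.card N = p ^ m)
    {H : Subgroup G} (hH : IsPCompl p H) : IsPCompl p (H.map (QuotientGroup.mk' N)) := by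
  have hdisj : H ⊓ N = ⊥ := Subgroup.inf_eq_bot_of_coprime (coprime_card_of_pow hN hH.1)
  refine ⟨by rw [card_map_mk_of_inf_eq_bot N H hdisj]; exact hH.1, ?_⟩
  obtain ⟨n, hn⟩ := hH.2
  have h1 : (H.map (QuotientGroup.mk' N)).index ∣ p ^ n := by
    rw [Subgroup.index_map, QuotientGroup.ker_mk',
      MonoidHom.range_eq_top.mpr (QuotientGroup.mk'_surjective N), Subgroup.index_top, mul_one,
      ← hn]
    exact Subgroup.index_dvd_of_le le_sup_left
  obtain ⟨k, -, hk⟩ := (Nat.dvd_prime_pow hp.out).mp h1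
  exact ⟨k, hk⟩

/-- complement of a normal `p`-subgroup in the preimage of a `p`-complement of the quotient. -/
theorem exists_isPCompl_le_comap (N : Subgroup G) [N.Normal] {m : ℕ} (hN : Nat.card N = p ^ m)
    {X : Subgroup (G ⧸ N)} (hX : IsPCompl p X) :
    ∃ B : Subgroup G, IsPCompl p B ∧ B ≤ X.comap (QuotientGroup.mk' N) ∧
      Nat.card B = Nat.card X := by
  set K := X.comap (QuotientGroup.mk' N) with hK
  have hNK : N ≤ K := by
    intro x hx
    rw [hK, Subgroup.mem_comap]
    have : (QuotientGroup.mk' N) x = 1 := (QuotientGroup.eq_one_iff x).mpr hx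
    rw [this]; exact X.one_mem
  have hKN : K ≤ Subgroup.normalizer (N : Set G) := by
    rw [Subgroup.normalizer_eq_top_iff.mpr inferInstance]; exact le_top
  have hKcard : Nat.card X * Nat.card N = Nat.card K := (card_comap_mk N X).symm
  obtain ⟨B, hBK, hBcard⟩ := sz_exists_internal N K hNK hKN (Nat.card X) hKcard
    (by rw [hN]; exact Nat.Coprime.pow_right _ hX.1)
  refine ⟨B, ⟨by rw [hBcard]; exact hX.1, ?_⟩, hBK, hBcard⟩
  obtain ⟨n, hn⟩ := hX.2
  refine ⟨n + m, ?_⟩
  have h1 := B.card_mul_index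
  have h2 := card_quotient_mul N
  have h3 := X.card_mul_index
  rw [hBcard, ← h2, ← h3, hn, hN] at h1
  have h4 : Nat.card X * (p ^ (n + m)) = Nat.card X * p ^ n * p ^ m := by ring
  rw [← h4] at h1
  exact Nat.eq_of_mul_eq_mul_left Nat.card_pos h1

/-- lifting through a normal `p`-subgroup. -/
theorem hallP_of_quotient_pgroup (N : Subgroup G) [N.Normal] {m : ℕ} (hN : Nat.card N = p ^ m)
    (h : HallP p (G ⧸ N)) : HallP p G := by
  obtain ⟨⟨X, hX⟩, hC, hD⟩ := h
  have hNp : IsPGroup p N := IsPGroup.of_card hN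
  have hNsolv : Group.IsSolvable N := by
    haveI := hNp.isNilpotent
    infer_instance
  have hnorm : ∀ L : Subgroup G, L ≤ Subgroup.normalizer (N : Set G) := by
    intro L
    rw [Subgroup.normalizer_eq_top_iff.mpr inferInstance]; exact le_top
  refine ⟨?_, ?_, ?_⟩
  · obtain ⟨B, hB, -, -⟩ := exists_isPCompl_le_comap N hN hX
    exact ⟨B, hB⟩
  · intro H₁ H₂ h1 h2
    obtain ⟨gq, hg⟩ := hC _ _ (isPCompl_map_of_pgroup N hN h1) (isPCompl_map_of_pgroup N hN h2)
    obtain ⟨g, rfl⟩ := QuotientGroup.mk'_surjective N gq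
    have h1' : IsPCompl p (cj g H₁) := isPCompl_cj h1 g
    have h3 : (cj g H₁).map (QuotientGroup.mk' N) = H₂.map (QuotientGroup.mk' N) := by
      rw [hg, ← conj_smul_eq_cj, map_conj_smul]
      rfl
    have h4 := congrArg (Subgroup.comap (QuotientGroup.mk' N)) h3
    rw [comap_map_mk, comap_map_mk] at h4
    have hd1 : cj g H₁ ⊓ N = ⊥ := Subgroup.inf_eq_bot_of_coprime (coprime_card_of_pow hN h1'.1)
    have hd2 : H₂ ⊓ N = ⊥ := Subgroup.inf_eq_bot_of_coprime (coprime_card_of_pow hN h2.1)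
    have hc1 := card_sup_of_disjoint (cj g H₁) N (hnorm _) hd1
    have hc2 := card_sup_of_disjoint H₂ N (hnorm _) hd2
    have hcardeq : Nat.card H₂ = Nat.card (cj g H₁) := by
      rw [h4] at hc1
      rw [hc1] at hc2
      exact (Nat.eq_of_mul_eq_mul_right Nat.card_pos hc2).symm
    obtain ⟨x, -, hx⟩ := sz_conj_internal N (cj g H₁ ⊔ N) (cj g H₁) H₂ le_sup_right (hnorm _)
      le_sup_left (h4 ▸ le_sup_left) hc1.symm hcardeq (coprime_card_of_pow hN h1'.1)
      (Or.inl hNsolv)
    refine ⟨x * g, ?_⟩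
    rw [cj_mul, ← hx, conj_smul_eq_cj]
  · intro U hU
    have hU' : (Nat.card (U.map (QuotientGroup.mk' N))).Coprime p := by
      have := card_map_mk_mul N U
      exact Nat.Coprime.coprime_dvd_left (Dvd.intro _ this) hU
    obtain ⟨Y, hY, hUY⟩ := hD _ hU'
    obtain ⟨B, hB, hBK, hBcard⟩ := exists_isPCompl_le_comap N hN hY
    set K := Y.comap (QuotientGroup.mk' N) with hK
    have hNK : N ≤ K := by
      intro x hx
      rw [hK, Subgroup.mem_comap]
      have : (QuotientGroup.mk' N) x = 1 := (QuotientGroup.eq_one_iff x).mpr hx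
      rw [this]; exact Y.one_mem
    have hUK : U ≤ K := (Subgroup.le_comap_map _ U).trans (Subgroup.comap_mono hUY)
    have hdB : B ⊓ N = ⊥ := Subgroup.inf_eq_bot_of_coprime (coprime_card_of_pow hN hB.1)
    have hdU : U ⊓ N = ⊥ := Subgroup.inf_eq_bot_of_coprime (coprime_card_of_pow hN hU)
    -- K = B ⊔ N
    have hKeq : B ⊔ N = K := by
      apply Subgroup.eq_of_le_of_card_ge (sup_le hBK hNK)
      rw [card_sup_of_disjoint B N (hnorm _) hdB, hBcard, card_comap_mk]
    -- Dedekind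
    have hded : (B ⊓ (U ⊔ N)) ⊔ N = U ⊔ N := by
      apply le_antisymm (sup_le inf_le_right le_sup_right)
      intro l hl
      have hlK : l ∈ ((B ⊔ N : Subgroup G) : Set G) := by
        rw [hKeq]; exact sup_le hUK hNK hl
      rw [Subgroup.mul_normal B N] at hlK
      obtain ⟨b, hb, n, hn, rfl⟩ := Set.mem_mul.mp hlK
      have hbL : b ∈ U ⊔ N := by
        have := (U ⊔ N).mul_mem hl ((U ⊔ N).inv_mem ((le_sup_right : N ≤ U ⊔ N) hn))
        simpa using this
      exact Subgroup.mul_mem_sup ⟨hb, hbL⟩ hn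
    have hdB1 : (B ⊓ (U ⊔ N)) ⊓ N = ⊥ := by
      rw [eq_bot_iff, ← hdB]
      exact inf_le_inf_right N inf_le_left
    have hc1 := card_sup_of_disjoint (B ⊓ (U ⊔ N)) N (hnorm _) hdB1
    have hc2 := card_sup_of_disjoint U N (hnorm _) hdU
    rw [hded] at hc1
    have hcardeq : Nat.card U = Nat.card (B ⊓ (U ⊔ N) : Subgroup G) := by
      rw [hc1] at hc2
      exact (Nat.eq_of_mul_eq_mul_right Nat.card_pos hc2).symm
    have hcop1 : (Nat.card (B ⊓ (U ⊔ N) : Subgroup G)).Coprime (Nat.card N) := by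
      rw [← hcardeq]; exact coprime_card_of_pow hN hU
    obtain ⟨x, -, hx⟩ := sz_conj_internal N (U ⊔ N) (B ⊓ (U ⊔ N)) U le_sup_right (hnorm _)
      inf_le_right le_sup_left hc1.symm hcardeq hcop1 (Or.inl hNsolv)
    refine ⟨cj x B, isPCompl_cj hB x, ?_⟩
    rw [← hx, conj_smul_eq_cj]
    exact cj_mono x inf_le_left

end hallp2

end Cfsg.Agent.Lib.Helper7

namespace Cfsg.Agent.Lib.Helper7

section main

universe u

theorem hallP_of_isPSolvable_aux (p : ℕ) [hp : Fact p.Prime] (n : ℕ) :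
    ∀ (G : Type u) [Group G] [Finite G], Nat.card G = n → Cfsg.IsPSolvable p G → HallP p G := by
  induction n using Nat.strong_induction_on with
  | _ n ih =>
    intro G _ _ hn hG
    rcases subsingleton_or_nontrivial G with hs | hnt
    · -- trivial group
      have htop : IsPCompl p (⊤ : Subgroup G) := by
        refine ⟨?_, 0, by simp⟩
        rw [Subgroup.card_top, Nat.card_unique]
        exact Nat.coprime_one_left p
      refine ⟨⟨⊤, htop⟩, ?_, ?_⟩
      · intro H₁ H₂ _ _
        exact ⟨1, Subsingleton.elim _ _⟩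
      · intro U _
        exact ⟨⊤, htop, le_top⟩
    · obtain ⟨N, hNn, hNne, hN⟩ := exists_normal_of_isPSolvable hG
      haveI := hNn
      have hlt : Nat.card (G ⧸ N) < n := by
        have h1 := Cfsg.Agent.Lib.Lead.card_quotient_mul N
        have h2 : 1 < Nat.card N := by
          have hnt : Nontrivial N := (Subgroup.nontrivial_iff_ne_bot N).mpr hNne
          exact Finite.one_lt_card
        have h3 : 0 < Nat.card (G ⧸ N) := Nat.card_pos
        rw [← hn, ← h1]
        nlinarith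
      have hq := ih _ hlt (G ⧸ N) rfl (isPSolvable_quotient hG N)
      rcases hN with ⟨m, hm⟩ | hcop
      · exact hallP_of_quotient_pgroup N hm hq
      · exact hallP_of_quotient_coprime N hcop hq

/-- Hall's theorem for `p`-solvable groups: `p`-complements exist, are conjugate and
contain every `p'`-subgroup up to conjugacy. -/
theorem hallP_of_isPSolvable {G : Type u} [Group G] [Finite G] (p : ℕ) [Fact p.Prime]
    (hG : Cfsg.IsPSolvable p G) : HallP p G :=
  hallP_of_isPSolvable_aux p _ G rfl hG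

end main

end Cfsg.Agent.Lib.Helper7
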