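import Mathlib
import Cfsg.Agent.Lib.Helper7.Wielandt1

set_option autoImplicit false

/-!
# A minimal normal subgroup normalizes every subnormal subgroup (relative version)
-/

namespace Cfsg.Agent.Lib.Helper7

variable {G : Type*} [Group G]

theorem card_lt_of_lt [Finite G] {N H : Subgroup G} (h : N < H) : Nat.card N < Nat.card H := by
  by_contra hcon
  push Not at hcon
  exact h.ne (Subgroup.eq_of_le_of_card_ge h.le hcon)

/-- `M` is a minimal nontrivial `H`-invariant subgroup of `H`. -/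
def IsMinNormalIn (M H : Subgroup G) : Prop :=
  M ≤ H ∧ H ≤ Subgroup.normalizer (M : Set G) ∧ M ≠ ⊥ ∧
    ∀ X : Subgroup G, X ≤ M → H ≤ Subgroup.normalizer (X : Set G) → X = ⊥ ∨ X = M

theorem IsMinNormalIn.conj {M H : Subgroup G} (h : IsMinNormalIn M H) (g : G) :
    IsMinNormalIn (cj g M) (cj g H) := by
  obtain ⟨h1, h2, h3, h4⟩ := h
  refine ⟨cj_mono g h1, le_normalizer_cj h2, ?_, ?_⟩
  · rw [Ne, cj_eq_bot_iff]; exact h3
  · intro X hX hHX
    have hX' : cj g⁻¹ X ≤ M := by
      have := cj_mono g⁻¹ hX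
      rwa [cj_inv_cj] at this
    have hHX' : H ≤ Subgroup.normalizer ((cj g⁻¹ X : Subgroup G) : Set G) := by
      have := le_normalizer_cj (g := g⁻¹) hHX
      rwa [cj_inv_cj] at this
    rcases h4 _ hX' hHX' with h | h
    · left
      rwa [cj_eq_bot_iff] at h
    · right
      rw [← h, cj_cj_inv]

theorem exists_isMinNormalIn_le [Finite G] (M H : Subgroup G) (hMH : M ≤ H)
    (hHM : H ≤ Subgroup.normalizer (M : Set G)) (hM : M ≠ ⊥) :
    ∃ M₁ : Subgroup G, M₁ ≤ M ∧ IsMinNormalIn M₁ H := by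
  let 𝒮 : Set (Subgroup G) := {X | X ≤ M ∧ H ≤ Subgroup.normalizer (X : Set G) ∧ X ≠ ⊥}
  have hne : 𝒮.Nonempty := ⟨M, le_rfl, hHM, hM⟩
  obtain ⟨M₁, ⟨h1, h2, h3⟩, hmin⟩ := WellFounded.has_min (wellFounded_lt (α := Subgroup G)) 𝒮 hne
  refine ⟨M₁, h1, h1.trans hMH, h2, h3, ?_⟩
  intro X hX hHX
  by_cases hXb : X = ⊥
  · exact Or.inl hXb
  · right
    have hXS : X ∈ 𝒮 := ⟨hX.trans h1, hHX, hXb⟩
    have := hmin X hXS
    exact (eq_or_lt_of_le hX).resolve_right this

theorem minNormalIn_le_normalizer_aux [Finite G] (n : ℕ) :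
    ∀ (H S M : Subgroup G), Nat.card H = n → SubnIn S H → IsMinNormalIn M H →
      M ≤ Subgroup.normalizer (S : Set G) := by
  induction n using Nat.strong_induction_on with
  | _ n ih =>
  intro H S M hcard hS hM
  obtain ⟨hMH, hHM, hM1, hMmin⟩ := hM
  by_cases hSH : S = H
  · subst hSH; exact hMH.trans Subgroup.le_normalizer
  obtain ⟨N, hSN, hNH, hHN, hSsub⟩ := hS.exists_normal_lt hSH
  by_cases hMN : M ⊓ N = ⊥
  · have hcomm : ⁅M, N⁆ ≤ M ⊓ N := by
      apply le_inf
      · exact (Subgroup.le_normalizer_iff_commutator_le_left).mp (hNH.le.trans hHM)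
      · exact (Subgroup.le_normalizer_iff_commutator_le_right).mp (hMH.trans hHN)
    rw [hMN, le_bot_iff, Subgroup.commutator_eq_bot_iff_le_centralizer] at hcomm
    exact hcomm.trans ((Subgroup.centralizer_le (SetLike.coe_subset_coe.mpr hSN)).trans
      (Subgroup.centralizer_le_normalizer _))
  · have hinv : H ≤ Subgroup.normalizer ((M ⊓ N : Subgroup G) : Set G) := by
      intro x hx
      rw [mem_normalizer_iff_cj, cj_inf, cj_eq_of_mem_normalizer hHM hx,
        cj_eq_of_mem_normalizer hHN hx]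
    have hMleN : M ≤ N := by
      have h1 : M ⊓ N = M := (hMmin (M ⊓ N) inf_le_left hinv).resolve_left hMN
      exact h1 ▸ inf_le_right
    obtain ⟨M₁, hM₁M, hM₁⟩ := exists_isMinNormalIn_le M N hMleN (hNH.le.trans hHM) hM1
    have hcardN : Nat.card N < n := hcard ▸ card_lt_of_lt hNH
    have key : ∀ h ∈ H, cj h M₁ ≤ Subgroup.normalizer (S : Set G) := by
      intro h hh
      have h1 : IsMinNormalIn (cj h M₁) N := by
        have := hM₁.conj h
        rwa [cj_eq_of_mem_normalizer hHN hh] at this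
      exact ih _ hcardN N S (cj h M₁) rfl hSsub h1
    set T := ⨆ h : H, cj (h : G) M₁ with hT
    have hTM : T ≤ M := iSup_le fun h =>
      (cj_mono _ hM₁M).trans (cj_eq_of_mem_normalizer hHM h.2).le
    have hTne : T ≠ ⊥ := by
      intro hb
      have h1 : cj ((1 : H) : G) M₁ ≤ T := le_iSup (fun h : H => cj (h : G) M₁) 1
      rw [hb, le_bot_iff, cj_eq_bot_iff] at h1
      exact hM₁.2.2.1 h1
    have hTinv : H ≤ Subgroup.normalizer (T : Set G) := by
      intro x hx
      rw [mem_normalizer_iff_cj]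
      apply cj_eq_of_le
      rw [hT]
      unfold cj
      rw [Subgroup.map_iSup]
      apply iSup_le
      intro h
      have h2 : cj x (cj (h : G) M₁) = cj (((⟨x, hx⟩ * h : H)) : G) M₁ := by
        rw [← cj_mul]; rfl
      exact h2.le.trans (le_iSup (fun h : H => cj (h : G) M₁) (⟨x, hx⟩ * h))
    have hTeq : T = M := (hMmin T hTM hTinv).resolve_left hTne
    rw [← hTeq]
    exact iSup_le fun h => key h h.2

/-- **Isaacs 2.6 (relative form).** A minimal `H`-invariant subgroup of `H` normalizes every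
subnormal subgroup of `H`. -/
theorem IsMinNormalIn.le_normalizer [Finite G] {H S M : Subgroup G} (hM : IsMinNormalIn M H)
    (hS : SubnIn S H) : M ≤ Subgroup.normalizer (S : Set G) :=
  minNormalIn_le_normalizer_aux _ H S M rfl hS hM

/-- **Isaacs 2.6.** A minimal normal subgroup of a finite group normalizes every subnormal
subgroup. -/
theorem minNormal_le_normalizer_of_isSubnormal [Finite G] {S M : Subgroup G} (hMn : M.Normal)
    (hM1 : M ≠ ⊥) (hMmin : ∀ X : Subgroup G, X.Normal → X ≤ M → X = ⊥ ∨ X = M)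
    (hS : S.IsSubnormal) : M ≤ Subgroup.normalizer (S : Set G) := by
  apply IsMinNormalIn.le_normalizer (H := ⊤) _ (subnIn_top_iff.mpr hS)
  refine ⟨le_top, ?_, hM1, ?_⟩
  · rw [Subgroup.normalizer_eq_top_iff.mpr hMn]
  · intro X hX hXn
    exact hMmin X (Subgroup.normalizer_eq_top_iff.mp (top_le_iff.mp hXn)) hX

end Cfsg.Agent.Lib.Helper7
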