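import Mathlib
import Cfsg.Agent.Lib.Helper7.Wielandt2

set_option autoImplicit false

/-!
# Wielandt's join theorem for finite groups
-/

namespace Cfsg.Agent.Lib.Helper7

universe u

theorem isSubnormal_sup_aux (n : ℕ) :
    ∀ (G : Type u) [Group G] [Finite G], Nat.card G = n → ∀ A B : Subgroup G,
      A.IsSubnormal → B.IsSubnormal → (A ⊔ B).IsSubnormal := by
  induction n using Nat.strong_induction_on with
  | _ n ih =>
  intro G _ _ hcard A B hA hB
  by_cases htriv : (⊤ : Subgroup G) = ⊥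
  · have h1 : A ⊔ B = ⊤ := by
      rw [htriv]; exact le_bot_iff.mp (htriv ▸ le_top)
    rw [h1]; exact Subgroup.IsSubnormal.top
  have hnorm : (⊤ : Subgroup G) ≤ Subgroup.normalizer ((⊤ : Subgroup G) : Set G) := Subgroup.le_normalizer
  obtain ⟨M, -, hM⟩ := exists_isMinNormalIn_le (⊤ : Subgroup G) ⊤ le_rfl hnorm htriv
  have hMn : M.Normal := Subgroup.normalizer_eq_top_iff.mp (top_le_iff.mp hM.2.1)
  have hcardQ : Nat.card (G ⧸ M) < n := by
    have h1 := Subgroup.card_eq_card_quotient_mul_card_subgroup M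
    have h2 : 1 < Nat.card M := (Subgroup.one_lt_card_iff_ne_bot M).mpr hM.2.2.1
    have h3 : 0 < Nat.card (G ⧸ M) := Nat.card_pos
    rw [← hcard, h1]
    nlinarith
  have hsurj : Function.Surjective (QuotientGroup.mk' M) := QuotientGroup.mk'_surjective M
  have hAB' := ih _ hcardQ (G ⧸ M) rfl (A.map (QuotientGroup.mk' M)) (B.map (QuotientGroup.mk' M))
    (hA.map hsurj) (hB.map hsurj)
  have h1 : ((A ⊔ B) ⊔ M).IsSubnormal := by
    have := hAB'.comap (QuotientGroup.mk' M)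
    rwa [← Subgroup.map_sup, Subgroup.comap_map_eq, QuotientGroup.ker_mk'] at this
  have hMA := hM.le_normalizer (subnIn_top_iff.mpr hA)
  have hMB := hM.le_normalizer (subnIn_top_iff.mpr hB)
  have hN : (A ⊔ B) ⊔ M ≤ Subgroup.normalizer ((A ⊔ B : Subgroup G) : Set G) := by
    apply sup_le Subgroup.le_normalizer
    intro m hm
    rw [mem_normalizer_iff_cj, cj_sup, mem_normalizer_iff_cj.mp (hMA hm),
      mem_normalizer_iff_cj.mp (hMB hm)]
  exact Subgroup.IsSubnormal.step (A ⊔ B) ((A ⊔ B) ⊔ M) le_sup_left h1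
    ((Subgroup.normal_subgroupOf_iff_le_normalizer le_sup_left).mpr hN)

/-- **Wielandt's join theorem.** In a finite group the join of two subnormal subgroups is
subnormal. -/
theorem isSubnormal_sup {G : Type u} [Group G] [Finite G] {A B : Subgroup G}
    (hA : A.IsSubnormal) (hB : B.IsSubnormal) : (A ⊔ B).IsSubnormal :=
  isSubnormal_sup_aux _ G rfl A B hA hB

variable {G : Type u} [Group G]

/-- relative join theorem -/
theorem SubnIn.sup [Finite G] {A B H : Subgroup G} (hA : SubnIn A H) (hB : SubnIn B H) :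
    SubnIn (A ⊔ B) H := by
  rw [subnIn_iff] at hA hB ⊢
  refine ⟨sup_le hA.1 hB.1, ?_⟩
  rw [Subgroup.subgroupOf_sup hA.1 hB.1]
  exact isSubnormal_sup hA.2 hB.2

theorem SubnIn.bot (H : Subgroup G) : SubnIn ⊥ H :=
  SubnIn.of_normal bot_le (by
    intro x _
    rw [mem_normalizer_iff_cj, cj_bot])

theorem SubnIn.sSup [Finite G] (𝒮 : Set (Subgroup G)) (H : Subgroup G) (h : ∀ U ∈ 𝒮, SubnIn U H) :
    SubnIn (sSup 𝒮) H := by
  have hfin : 𝒮.Finite := Set.toFinite 𝒮
  induction 𝒮, hfin using Set.Finite.induction_on with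
  | empty => rw [sSup_empty]; exact SubnIn.bot H
  | insert ha hs ih =>
    rw [sSup_insert]
    exact SubnIn.sup (h _ (Set.mem_insert _ _)) (ih (fun U hU => h U (Set.mem_insert_of_mem _ hU)))

theorem SubnIn.iSup [Finite G] {ι : Sort*} (f : ι → Subgroup G) (H : Subgroup G)
    (h : ∀ i, SubnIn (f i) H) : SubnIn (⨆ i, f i) H := by
  apply SubnIn.sSup
  rintro U ⟨i, rfl⟩
  exact h i

theorem isSubnormal_sSup [Finite G] (𝒮 : Set (Subgroup G)) (h : ∀ U ∈ 𝒮, U.IsSubnormal) :
    (sSup 𝒮).IsSubnormal :=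
  subnIn_top_iff.mp (SubnIn.sSup 𝒮 ⊤ (fun U hU => subnIn_top_iff.mpr (h U hU)))

theorem isSubnormal_iSup [Finite G] {ι : Sort*} (f : ι → Subgroup G) (h : ∀ i, (f i).IsSubnormal) :
    (⨆ i, f i).IsSubnormal :=
  subnIn_top_iff.mp (SubnIn.iSup f ⊤ (fun i => subnIn_top_iff.mpr (h i)))

end Cfsg.Agent.Lib.Helper7
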