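import Mathlib
import Cfsg.Agent.Lib.Helper7.Wielandt3

set_option autoImplicit false

/-!
# The join of all subnormal subgroups contained in a given subgroup
-/

namespace Cfsg.Agent.Lib.Helper7

variable {G : Type*} [Group G]

/-- the join of all subnormal subgroups of `G` contained in `M` -/
def bigSub (M : Subgroup G) : Subgroup G :=
  sSup {U : Subgroup G | U.IsSubnormal ∧ U ≤ M}

theorem bigSub_le (M : Subgroup G) : bigSub M ≤ M :=
  sSup_le fun _ hU => hU.2

theorem le_bigSub {M U : Subgroup G} (h1 : U.IsSubnormal) (h2 : U ≤ M) :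
    U ≤ bigSub M := le_sSup ⟨h1, h2⟩

theorem bigSub_isSubnormal [Finite G] (M : Subgroup G) :
    (bigSub M).IsSubnormal :=
  isSubnormal_sSup _ fun _ hU => hU.1

theorem cj_isSubnormal {U : Subgroup G} (h : U.IsSubnormal) (g : G) :
    (cj g U).IsSubnormal :=
  h.map (MulAut.conj g).surjective

theorem le_normalizer_bigSub [Finite G] (M : Subgroup G) :
    M ≤ Subgroup.normalizer (bigSub M : Set G) := by
  intro m hm
  rw [mem_normalizer_iff_cj]
  apply cj_eq_of_le
  unfold cj
  rw [Subgroup.map_le_iff_le_comap]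
  apply sSup_le
  intro U hU
  rw [← Subgroup.map_le_iff_le_comap]
  exact le_bigSub (cj_isSubnormal hU.1 m) (cj_le_of_mem hm hU.2)

/-- For a proper subgroup `M`, the normalizer of `bigSub M` is never exactly `M`. -/
theorem normalizer_bigSub_ne [Finite G] (M : Subgroup G) (hM : M ≠ ⊤) :
    Subgroup.normalizer (bigSub M : Set G) ≠ M := by
  intro hNM
  have hLsub : SubnIn (bigSub M) ⊤ := subnIn_top_iff.mpr (bigSub_isSubnormal M)
  have hLtop : bigSub M ≠ ⊤ := by
    intro h
    apply hM
    rw [eq_top_iff, ← h]; exact bigSub_le M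
  obtain ⟨K, hLK, hKN, hK⟩ := hLsub.exists_lt_normal hLtop
  have hKM : K ≤ M := hNM ▸ hKN
  have : K ≤ bigSub M := le_bigSub (subnIn_top_iff.mp hK) hKM
  exact absurd hLK (not_lt_of_ge this)

/-- if `M` is maximal, the join of the subnormal subgroups inside `M` is normal in `G` -/
theorem bigSub_normal_of_isCoatom [Finite G] (M : Subgroup G) (hM : IsCoatom M) :
    (bigSub M).Normal := by
  by_contra hLn
  have hNL : Subgroup.normalizer (bigSub M : Set G) ≠ ⊤ :=
    fun h => hLn (Subgroup.normalizer_eq_top_iff.mp h)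
  apply normalizer_bigSub_ne M hM.1
  rcases eq_or_lt_of_le (le_normalizer_bigSub M) with h | h
  · exact h.symm
  · exact absurd (hM.2 _ h) hNL

end Cfsg.Agent.Lib.Helper7
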