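import Mathlib
import Cfsg.Agent.Lib.Helper7.Wielandt4

set_option autoImplicit false

/-!
# Wielandt's zipper lemma and subnormality criterion (relative versions)
-/

namespace Cfsg.Agent.Lib.Helper7

variable {G : Type*} [Group G]

theorem SubnIn.exists_conj_normalizing_aux [Finite G] (n : ℕ) :
    ∀ (K S : Subgroup G), Nat.card K = n → SubnIn S K → ¬ K ≤ Subgroup.normalizer (S : Set G) →
      ∃ x ∈ K, cj x S ≠ S ∧ cj x S ≤ Subgroup.normalizer (S : Set G) ∧
        S ≤ Subgroup.normalizer ((cj x S : Subgroup G) : Set G) := by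
  induction n using Nat.strong_induction_on with
  | _ n ih =>
  intro K S hcard hS hKS
  have hSK : S ≠ K := by
    rintro rfl
    exact hKS Subgroup.le_normalizer
  obtain ⟨N, hSN, hNK, hKN, hSsub⟩ := hS.exists_normal_lt hSK
  by_cases hNS : N ≤ Subgroup.normalizer (S : Set G)
  · obtain ⟨x, hxK, hxS⟩ := SetLike.not_le_iff_exists.mp hKS
    refine ⟨x, hxK, ?_, ?_, ?_⟩
    · intro h
      exact hxS (mem_normalizer_iff_cj.mpr h)
    · calc cj x S ≤ cj x N := cj_mono x hSN
        _ = N := cj_eq_of_mem_normalizer hKN hxK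
        _ ≤ _ := hNS
    · calc S ≤ N := hSN
        _ = cj x N := (cj_eq_of_mem_normalizer hKN hxK).symm
        _ ≤ cj x (Subgroup.normalizer (S : Set G)) := cj_mono x hNS
        _ = _ := (normalizer_cj x S).symm
  · obtain ⟨x, hxN, h1, h2, h3⟩ := ih _ (hcard ▸ card_lt_of_lt hNK) N S rfl hSsub hNS
    exact ⟨x, hNK.le hxN, h1, h2, h3⟩

/-- a subnormal, non-normal subgroup `S` of `K` has a conjugate `S^x ≠ S` (`x ∈ K`) such that
`S` and `S^x` normalize each other. -/
theorem SubnIn.exists_conj_normalizing [Finite G] {K S : Subgroup G} (hS : SubnIn S K)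
    (hKS : ¬ K ≤ Subgroup.normalizer (S : Set G)) :
    ∃ x ∈ K, cj x S ≠ S ∧ cj x S ≤ Subgroup.normalizer (S : Set G) ∧
      S ≤ Subgroup.normalizer ((cj x S : Subgroup G) : Set G) :=
  SubnIn.exists_conj_normalizing_aux _ K S rfl hS hKS

/-- `M` is a maximal proper subgroup of `L`. -/
def MaxIn (M L : Subgroup G) : Prop := M < L ∧ ∀ X : Subgroup G, M ≤ X → X < L → X = M

theorem exists_maxIn_ge [Finite G] {X L : Subgroup G} (h : X < L) : ∃ M, X ≤ M ∧ MaxIn M L := by
  let 𝒮 : Set (Subgroup G) := {Y | X ≤ Y ∧ Y < L}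
  have hne : 𝒮.Nonempty := ⟨X, le_rfl, h⟩
  obtain ⟨M, ⟨h1, h2⟩, hmax⟩ := WellFounded.has_min (wellFounded_gt (α := Subgroup G)) 𝒮 hne
  refine ⟨M, h1, h2, ?_⟩
  intro Y hMY hYL
  have hY : Y ∈ 𝒮 := ⟨h1.trans hMY, hYL⟩
  have := hmax Y hY
  exact ((eq_or_lt_of_le hMY).resolve_right this).symm

theorem maxIn_top_iff {M : Subgroup G} : MaxIn M ⊤ ↔ IsCoatom M := by
  constructor
  · rintro ⟨h1, h2⟩
    refine ⟨h1.ne, ?_⟩
    intro X hX
    by_contra hne
    have := h2 X hX.le (lt_top_iff_ne_top.mpr hne)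
    exact hX.ne this.symm
  · rintro ⟨h1, h2⟩
    refine ⟨lt_top_iff_ne_top.mpr h1, ?_⟩
    intro X hMX hX
    by_contra hne
    exact hX.ne (h2 X (lt_of_le_of_ne hMX (Ne.symm hne)))

theorem zipper_aux [Finite G] (L : Subgroup G) (d : ℕ) :
    ∀ S : Subgroup G, Nat.card L - Nat.card S = d → S ≤ L → ¬ SubnIn S L →
      (∀ H : Subgroup G, S ≤ H → H < L → SubnIn S H) →
      ∀ M K : Subgroup G, MaxIn M L → MaxIn K L → S ≤ M → S ≤ K → M = K := by
  induction d using Nat.strong_induction_on with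
  | _ d ih =>
  intro S hd hSL hns hprop
  -- the normalizer of `S` in `L` is proper
  have hLS : ¬ L ≤ Subgroup.normalizer (S : Set G) := fun h => hns (SubnIn.of_normal hSL h)
  have hNlt : L ⊓ Subgroup.normalizer (S : Set G) < L := by
    refine lt_of_le_of_ne inf_le_left ?_
    intro h
    exact hLS (h ▸ inf_le_right)
  obtain ⟨M₀, hNM₀, hM₀⟩ := exists_maxIn_ge hNlt
  have key : ∀ K : Subgroup G, MaxIn K L → S ≤ K → K = M₀ := by
    intro K hK hSK
    have hSsubK : SubnIn S K := hprop K hSK hK.1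
    by_cases hKS : K ≤ Subgroup.normalizer (S : Set G)
    · have hKM₀ : K ≤ M₀ := (le_inf hK.1.le hKS).trans hNM₀
      exact (hK.2 M₀ hKM₀ hM₀.1).symm
    · obtain ⟨x, hxK, hx1, hx2, hx3⟩ := hSsubK.exists_conj_normalizing hKS
      have hxL : x ∈ L := hK.1.le hxK
      set T := S ⊔ cj x S with hT
      have hTK : T ≤ K := sup_le hSK (cj_le_of_mem hxK hSK)
      have hTL : T ≤ L := hTK.trans hK.1.le
      have hTN : T ≤ Subgroup.normalizer (S : Set G) := sup_le Subgroup.le_normalizer hx2
      have hTM₀ : T ≤ M₀ := (le_inf hTL hTN).trans hNM₀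
      have hST : S < T := by
        refine lt_of_le_of_ne le_sup_left ?_
        intro h
        have : cj x S ≤ S := by
          calc cj x S ≤ T := le_sup_right
            _ = S := h.symm
        exact hx1 (cj_eq_of_le this)
      have hSsubT : SubnIn S T := SubnIn.of_normal le_sup_left hTN
      have hTns : ¬ SubnIn T L := fun h => hns (hSsubT.trans h)
      have hTprop : ∀ H : Subgroup G, T ≤ H → H < L → SubnIn T H := by
        intro H hTH hHL
        have h1 : SubnIn S H := hprop H (le_sup_left.trans hTH) hHL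
        have h2 : SubnIn (cj x S) H := by
          have hle : S ≤ cj x⁻¹ H := by
            have := cj_mono x⁻¹ (le_sup_right.trans hTH : cj x S ≤ H)
            rwa [cj_inv_cj] at this
          have hlt : cj x⁻¹ H < L := by
            have := (cj_lt_cj_iff x⁻¹).mpr hHL
            rwa [cj_eq_self_of_mem (L.inv_mem hxL)] at this
          have := (hprop _ hle hlt).conj x
          rwa [cj_cj_inv] at this
        exact SubnIn.sup h1 h2
      have hcardlt : Nat.card L - Nat.card T < d := by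
        have h1 : Nat.card S < Nat.card T := card_lt_of_lt hST
        have h2 : Nat.card T ≤ Nat.card L := Subgroup.card_le_of_le hTL
        omega
      exact ih _ hcardlt T rfl hTL hTns hTprop K M₀ hK hM₀ hTK hTM₀
  intro M K hM hK hSM hSK
  rw [key M hM hSM, key K hK hSK]

/-- **Wielandt's zipper lemma (relative form).** -/
theorem zipper [Finite G] {L S : Subgroup G} (hSL : S ≤ L) (hns : ¬ SubnIn S L)
    (hprop : ∀ H : Subgroup G, S ≤ H → H < L → SubnIn S H)
    {M K : Subgroup G} (hM : MaxIn M L) (hK : MaxIn K L) (hSM : S ≤ M) (hSK : S ≤ K) : M = K :=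
  zipper_aux L _ S rfl hSL hns hprop M K hM hK hSM hSK

theorem wielandt_aux [Finite G] (n : ℕ) :
    ∀ H A : Subgroup G, Nat.card H = n → A ≤ H → (∀ x ∈ H, SubnIn A (A ⊔ cj x A)) →
      SubnIn A H := by
  induction n using Nat.strong_induction_on with
  | _ n ih =>
  intro H A hcard hAH h
  by_contra hns
  have hprop : ∀ K : Subgroup G, A ≤ K → K < H → SubnIn A K := fun K hAK hKH =>
    ih _ (hcard ▸ card_lt_of_lt hKH) K A rfl hAK (fun x hx => h x (hKH.le hx))
  have hAltH : A < H := by
    refine lt_of_le_of_ne hAH ?_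
    rintro rfl
    exact hns (SubnIn.refl _)
  obtain ⟨M, hAM, hM⟩ := exists_maxIn_ge hAltH
  have hconj : ∀ x ∈ H, cj x A ≤ M := by
    intro x hx
    have hle : A ⊔ cj x A ≤ H := sup_le hAH (cj_le_of_mem hx hAH)
    have hlt : A ⊔ cj x A < H := by
      refine lt_of_le_of_ne hle ?_
      intro heq
      exact hns (heq ▸ h x hx)
    obtain ⟨M', hM'le, hM'⟩ := exists_maxIn_ge hlt
    have : M' = M := zipper hAH hns hprop hM' hM (le_sup_left.trans hM'le) hAM
    exact this ▸ (le_sup_right.trans hM'le)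
  set C := ⨆ x : H, cj (x : G) A with hC
  have hCM : C ≤ M := iSup_le fun x => hconj x x.2
  have hCH : C < H := lt_of_le_of_lt hCM hM.1
  have hAC : A ≤ C := by
    have h1 : cj ((1 : H) : G) A ≤ C := le_iSup (fun x : H => cj (x : G) A) 1
    have h2 : cj ((1 : H) : G) A = A := cj_one A
    rwa [h2] at h1
  have hHC : H ≤ Subgroup.normalizer (C : Set G) := by
    intro x hx
    rw [mem_normalizer_iff_cj]
    apply cj_eq_of_le
    rw [hC]
    unfold cj
    rw [Subgroup.map_iSup]
    apply iSup_le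
    intro y
    have h2 : cj x (cj (y : G) A) = cj (((⟨x, hx⟩ * y : H)) : G) A := by
      rw [← cj_mul]; rfl
    exact h2.le.trans (le_iSup (fun y : H => cj (y : G) A) (⟨x, hx⟩ * y))
  have h1 : SubnIn A C := hprop C hAC hCH
  have h2 : SubnIn C H := SubnIn.of_normal hCH.le hHC
  exact hns (h1.trans h2)

/-- **Wielandt's subnormality criterion (relative form).** -/
theorem wielandt_criterion_rel [Finite G] {H A : Subgroup G} (hAH : A ≤ H)
    (h : ∀ x ∈ H, SubnIn A (A ⊔ cj x A)) : SubnIn A H :=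
  wielandt_aux _ H A rfl hAH h

/-- **Wielandt's subnormality criterion.** A subgroup subnormal in its join with each of its
conjugates is subnormal. -/
theorem wielandt_criterion [Finite G] {A : Subgroup G} (h : ∀ x : G, SubnIn A (A ⊔ cj x A)) :
    A.IsSubnormal :=
  subnIn_top_iff.mp (wielandt_criterion_rel le_top (fun x _ => h x))

/-- absolute zipper lemma -/
theorem zipper_top [Finite G] {S : Subgroup G} (hns : ¬ S.IsSubnormal)
    (hprop : ∀ H : Subgroup G, S ≤ H → H ≠ ⊤ → SubnIn S H)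
    {M K : Subgroup G} (hM : IsCoatom M) (hK : IsCoatom K) (hSM : S ≤ M) (hSK : S ≤ K) : M = K :=
  zipper (L := ⊤) le_top (fun h => hns (subnIn_top_iff.mp h))
    (fun H hSH hH => hprop H hSH hH.ne) (maxIn_top_iff.mpr hM) (maxIn_top_iff.mpr hK) hSM hSK

end Cfsg.Agent.Lib.Helper7
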