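import Mathlib
import Cfsg.Agent.Lib.Helper7.Wielandt5
import Cfsg.Agent.Lib.Helper4.PiCore
import Cfsg.Agent.S0064
import Cfsg.Agent.S3743

set_option autoImplicit false

/-!
# Baer's theorem and the Baer–Suzuki theorem
-/

namespace Cfsg.Agent.Lib.Helper7

variable {G : Type*} [Group G]

/-- **Baer.** If the join of `A` with each of its conjugates is nilpotent then `A` is subnormal
and lies in the Fitting subgroup. -/
theorem baer [Finite G] {A : Subgroup G} (h : ∀ g : G, Group.IsNilpotent ↥(A ⊔ cj g A)) :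
    A.IsSubnormal ∧ A ≤ Cfsg.fittingSubgroup G := by
  have h1 : ∀ g : G, SubnIn A (A ⊔ cj g A) := fun g =>
    subnIn_of_isSubnormal_subgroupOf le_sup_left ((Cfsg.Agent.S0064.result.mp (h g)) _)
  have hA : A.IsSubnormal := wielandt_criterion h1
  have hAA : A ⊔ cj 1 A = A := by rw [cj_one, sup_idem]
  have hnil : Group.IsNilpotent ↥A := by
    have := h 1
    rwa [hAA] at this
  exact ⟨hA, (Cfsg.Agent.S3743.result A hA).1 hnil⟩

theorem isPGroup_piCore_singleton [Finite G] (p : ℕ) [Fact p.Prime] :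
    IsPGroup p (Cfsg.piCore {p} G) := by
  have hpi := Cfsg.Agent.Lib.Helper4.isPiNum_card_piCore (G := G) {p}
  have hcard : Nat.card (Cfsg.piCore {p} G) =
      p ^ (Nat.card (Cfsg.piCore {p} G)).primeFactorsList.length := by
    apply Nat.eq_prime_pow_of_unique_prime_dvd Nat.card_pos.ne'
    intro d hd hdn
    exact hpi d hd hdn
  exact IsPGroup.of_card hcard

/-- a subnormal `p`-subgroup lies in `O_p(G)` (as the `{p}`-core) -/
theorem le_piCore_singleton_of_isSubnormal [Finite G] {p : ℕ} [Fact p.Prime] {X : Subgroup G}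
    (hX : X.IsSubnormal) (hp : IsPGroup p X) : X ≤ Cfsg.piCore {p} G := by
  apply (Cfsg.Agent.S3743.result X hX).2 {p}
  intro q hq hqd
  obtain ⟨k, hk⟩ := IsPGroup.iff_card.mp hp
  rw [hk] at hqd
  have := (Nat.prime_dvd_prime_iff_eq hq (Fact.out : p.Prime)).mp (hq.dvd_of_dvd_pow hqd)
  rw [this]; exact Set.mem_singleton _

/-- **Baer–Suzuki.** A `p`-subgroup generating a `p`-group with each of its conjugates lies in
a normal `p`-subgroup. -/
theorem baer_suzuki [Finite G] {p : ℕ} [Fact p.Prime] (X : Subgroup G)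
    (h : ∀ g : G, IsPGroup p ↥(X ⊔ cj g X)) :
    X.IsSubnormal ∧ X ≤ Cfsg.piCore {p} G := by
  have h1 : ∀ g : G, Group.IsNilpotent ↥(X ⊔ cj g X) := fun g => (h g).isNilpotent
  have hX : X.IsSubnormal := (baer h1).1
  have hXX : X ⊔ cj 1 X = X := by rw [cj_one, sup_idem]
  have hp : IsPGroup p X := by
    have := h 1
    rwa [hXX] at this
  exact ⟨hX, le_piCore_singleton_of_isSubnormal hX hp⟩

end Cfsg.Agent.Lib.Helper7
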