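import Mathlib

/-!
# A finite `p`-group acting in characteristic `p` fixes a nonzero vector

Helper file for S4414 (weight-orbit argument).
-/

namespace Cfsg.Agent.Lib.Helper7.WtOrb

open Subgroup MulAction

/-- A finite `p`-subgroup `T` of `G`, acting `K`-linearly (`char K = p`) on `M` and leaving a
nonzero subspace `N` invariant, fixes a nonzero vector of `N`. -/
theorem exists_fixed_ne_zero {K M G : Type*} [Field K] [AddCommGroup M] [Module K M] [Group G]
    (p : ℕ) [hp : Fact p.Prime] [CharP K p] (ρ : Representation K G M) (T : Subgroup G) [Finite T]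
    (hT : IsPGroup p T) (N : Submodule K M) (hN : N ≠ ⊥)
    (hinv : ∀ t ∈ T, ∀ v ∈ N, ρ t v ∈ N) :
    ∃ v ∈ N, v ≠ 0 ∧ ∀ t ∈ T, ρ t v = v := by
  classical
  obtain ⟨w, hwN, hw0⟩ := (Submodule.ne_bot_iff N).mp hN
  -- every element of `M` is killed by `p`
  have hpM : ∀ a : M, p • a = 0 := by
    intro a
    rw [← Nat.cast_smul_eq_nsmul K p a, CharP.cast_eq_zero K p, zero_smul]
  set s : Set M := Set.range (fun t : T => ρ (t : G) w) with hs
  have hsfin : s.Finite := Set.finite_range _
  set A : AddSubgroup M := AddSubgroup.closure s with hA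
  have hwA : w ∈ A := by
    apply AddSubgroup.subset_closure
    exact ⟨⟨1, T.one_mem⟩, by simp⟩
  have hAN : ∀ a ∈ A, a ∈ N := by
    intro a ha
    have : A ≤ N.toAddSubgroup := by
      rw [hA, AddSubgroup.closure_le]
      rintro _ ⟨t, rfl⟩
      exact hinv t t.2 w hwN
    exact this ha
  -- `A` is finite
  haveI : Finite s := hsfin
  haveI hfg : AddGroup.FG A := AddGroup.closure_finite_fg s
  have htors : IsAddTorsion A := by
    intro a
    rw [isOfFinAddOrder_iff_nsmul_eq_zero]
    refine ⟨p, hp.out.pos, ?_⟩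
    apply Subtype.ext
    simpa using hpM a
  haveI hAfin : Finite A := AddCommGroup.finite_of_fg_isAddTorsion A htors
  -- `T` acts on `A`
  have hAinv : ∀ t : T, ∀ a ∈ A, ρ (t : G) a ∈ A := by
    intro t a ha
    induction ha using AddSubgroup.closure_induction with
    | mem x hx =>
      obtain ⟨t', rfl⟩ := hx
      apply AddSubgroup.subset_closure
      refine ⟨t * t', ?_⟩
      simp [map_mul]
    | zero => simp [A.zero_mem]
    | add x y _ _ hx hy => rw [map_add]; exact A.add_mem hx hy
    | neg x _ hx => rw [map_neg]; exact A.neg_mem hx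
  letI : MulAction T A :=
    { smul := fun t a => ⟨ρ (t : G) a, hAinv t a a.2⟩
      one_smul := fun a => by
        apply Subtype.ext
        change ρ ((1 : T) : G) (a : M) = a
        simp
      mul_smul := fun t t' a => by
        apply Subtype.ext
        change ρ ((t * t' : T) : G) (a : M) = ρ (t : G) (ρ (t' : G) (a : M))
        simp [map_mul] }
  have hsmul : ∀ (t : T) (a : A), ((t • a : A) : M) = ρ (t : G) (a : M) := fun _ _ => rfl
  have hmod := hT.card_modEq_card_fixedPoints (α := A)
  -- `p ∣ card A`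
  have hpA : p ∣ Nat.card A := by
    have h1 : addOrderOf (⟨w, hwA⟩ : A) = p := by
      apply addOrderOf_eq_prime
      · apply Subtype.ext
        simpa using hpM w
      · intro h
        exact hw0 (congrArg Subtype.val h)
    rw [← h1]
    exact addOrderOf_dvd_natCard _
  have hpF : p ∣ Nat.card (fixedPoints T A) := by
    have := (Nat.modEq_zero_iff_dvd.mpr hpA).symm.trans hmod
    exact (Nat.modEq_zero_iff_dvd.mp this.symm)
  -- `0` is a fixed point, so there is another one
  have h0 : (0 : A) ∈ fixedPoints T A := by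
    intro t
    apply Subtype.ext
    rw [hsmul]
    simp
  haveI : Finite (fixedPoints T A) := Subtype.finite
  have hcard : 1 < Nat.card (fixedPoints T A) := by
    have hpos : 0 < Nat.card (fixedPoints T A) := Nat.card_pos_iff.mpr ⟨⟨⟨0, h0⟩⟩, inferInstance⟩
    have := Nat.le_of_dvd hpos hpF
    exact lt_of_lt_of_le hp.out.one_lt this
  obtain ⟨⟨a, ha⟩, ⟨b, hb⟩, hab⟩ := Finite.one_lt_card_iff_nontrivial.mp hcard |>.exists_pair_ne
  -- one of `a`, `b` is nonzero
  have key : ∀ c : A, c ∈ fixedPoints T A → c ≠ 0 → ∃ v ∈ N, v ≠ 0 ∧ ∀ t ∈ T, ρ t v = v := by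
    intro c hc hc0
    refine ⟨(c : M), hAN _ c.2, fun h => hc0 (Subtype.ext h), ?_⟩
    intro t ht
    have := hc ⟨t, ht⟩
    have h2 := congrArg Subtype.val this
    rwa [hsmul] at h2
  by_cases ha0 : a = 0
  · have hb0 : b ≠ 0 := by
      intro hb0
      apply hab
      apply Subtype.ext
      simp [ha0, hb0]
    exact key b hb hb0
  · exact key a ha ha0

end Cfsg.Agent.Lib.Helper7.WtOrb
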