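import Mathlib
import Cfsg.Agent.Lib.Helper7.WtOrbA

/-!
# Weight-orbit argument: abstract core

A `K`-linear representation `ρ` of `G` on `M` (`char K = 2`) together with a decomposition
`M = ⨁ W i` into nonzero subspaces permuted by `G` compatibly with an action on the finite index
set `ι`.  If `T ≤ G` is a finite `2`-group and `x ∈ G` satisfies `x ^ q = 1` (`q` an odd prime) and
acts on `ι` without fixed points, then the fixed space of `T` is not contained in a line, and if
it is contained in a plane then `x` does not normalise it.
-/

namespace Cfsg.Agent.Lib.Helper7.WtOrb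

open Subgroup MulAction Module

section Comp

variable {K M ι : Type*} [Field K] [AddCommGroup M] [Module K M] [DecidableEq ι]

/-- The component of a vector in the `i`-th summand of an internal direct sum. -/
noncomputable def comp (W : ι → Submodule K M) (h : DirectSum.IsInternal W) (i : ι) : M →ₗ[K] M :=
  letI := h.chooseDecomposition
  (W i).subtype ∘ₗ (DirectSum.component K ι (fun i => W i) i) ∘ₗ
    (DirectSum.decomposeLinearEquiv W).toLinearMap

theorem comp_apply (W : ι → Submodule K M) (h : DirectSum.IsInternal W) (i : ι) (v : M) :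
    comp W h i v = letI := h.chooseDecomposition; ((DirectSum.decompose W v i : W i) : M) := rfl

theorem comp_mem (W : ι → Submodule K M) (h : DirectSum.IsInternal W) (i : ι) (v : M) :
    comp W h i v ∈ W i := by
  rw [comp_apply]
  exact Submodule.coe_mem _

theorem comp_of_mem_same (W : ι → Submodule K M) (h : DirectSum.IsInternal W) {i : ι} {v : M}
    (hv : v ∈ W i) : comp W h i v = v := by
  rw [comp_apply]
  letI := h.chooseDecomposition
  exact DirectSum.decompose_of_mem_same W hv

theorem comp_of_mem_ne (W : ι → Submodule K M) (h : DirectSum.IsInternal W) {i j : ι} {v : M}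
    (hv : v ∈ W j) (hji : j ≠ i) : comp W h i v = 0 := by
  rw [comp_apply]
  letI := h.chooseDecomposition
  exact DirectSum.decompose_of_mem_ne W hv hji

theorem eq_zero_of_comp_eq_zero (W : ι → Submodule K M) (h : DirectSum.IsInternal W) {v : M}
    (hv : ∀ i, comp W h i v = 0) : v = 0 := by
  letI := h.chooseDecomposition
  have h1 : DirectSum.decompose W v = 0 := by
    apply DFinsupp.ext
    intro i
    apply Subtype.ext
    have := hv i
    rw [comp_apply] at this
    simpa using this
  have := congrArg (DirectSum.decompose W).symm h1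
  simpa using this

theorem exists_comp_ne_zero (W : ι → Submodule K M) (h : DirectSum.IsInternal W) {v : M}
    (hv : v ≠ 0) : ∃ i, comp W h i v ≠ 0 := by
  by_contra hcon
  push Not at hcon
  exact hv (eq_zero_of_comp_eq_zero W h hcon)

/-- A subspace spanned by some of the summands is killed by the other components. -/
theorem comp_eq_zero_of_mem_biSup (W : ι → Submodule K M) (h : DirectSum.IsInternal W)
    (O : Set ι) {i : ι} (hi : i ∉ O) {v : M} (hv : v ∈ ⨆ j ∈ O, W j) : comp W h i v = 0 := by
  have hle : (⨆ j ∈ O, W j) ≤ LinearMap.ker (comp W h i) := by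
    apply iSup₂_le
    intro j hj w hw
    rw [LinearMap.mem_ker]
    apply comp_of_mem_ne W h hw
    rintro rfl
    exact hi hj
  exact LinearMap.mem_ker.mp (hle hv)

end Comp

section Equivariant

variable {K M G ι : Type*} [Field K] [AddCommGroup M] [Module K M] [Group G] [MulAction G ι]
  [DecidableEq ι]

theorem comp_equivariant (ρ : Representation K G M) (W : ι → Submodule K M)
    (h : DirectSum.IsInternal W) (hmap : ∀ g i v, v ∈ W i → ρ g v ∈ W (g • i))
    (g : G) (i : ι) (v : M) : comp W h (g • i) (ρ g v) = ρ g (comp W h i v) := by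
  have htop : ⨆ j, W j = ⊤ := h.submodule_iSup_eq_top
  have hle : (⊤ : Submodule K M) ≤
      LinearMap.eqLocus ((comp W h (g • i)) ∘ₗ (ρ g)) ((ρ g) ∘ₗ (comp W h i)) := by
    rw [← htop]
    apply iSup_le
    intro j w hw
    rw [LinearMap.mem_eqLocus]
    simp only [LinearMap.comp_apply]
    by_cases hji : j = i
    · subst hji
      rw [comp_of_mem_same W h hw, comp_of_mem_same W h (hmap g j w hw)]
    · rw [comp_of_mem_ne W h hw hji, map_zero]
      apply comp_of_mem_ne W h (hmap g j w hw)
      intro hh
      exact hji (MulAction.injective g hh)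
  have := hle (Submodule.mem_top (x := v))
  rw [LinearMap.mem_eqLocus] at this
  simpa using this

theorem rho_injective (ρ : Representation K G M) (g : G) : Function.Injective (ρ g) := by
  intro a b hab
  have := congrArg (ρ g⁻¹) hab
  simpa [← Module.End.mul_apply, ← map_mul] using this

/-- The support of `ρ g v` is the translate of the support of `v`. -/
theorem supp_image (ρ : Representation K G M) (W : ι → Submodule K M)
    (h : DirectSum.IsInternal W) (hmap : ∀ g i v, v ∈ W i → ρ g v ∈ W (g • i))
    (g : G) (v : M) :
    {j | comp W h j (ρ g v) ≠ 0} = (fun j => g • j) '' {j | comp W h j v ≠ 0} := by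
  ext j
  simp only [Set.mem_setOf_eq, Set.mem_image]
  constructor
  · intro hj
    refine ⟨g⁻¹ • j, ?_, by simp⟩
    intro h0
    apply hj
    have := comp_equivariant ρ W h hmap g (g⁻¹ • j) v
    rw [smul_inv_smul] at this
    rw [this, h0, map_zero]
  · rintro ⟨k, hk, rfl⟩
    rw [comp_equivariant ρ W h hmap]
    intro h0
    apply hk
    apply rho_injective ρ g
    rw [h0, map_zero]

end Equivariant

section Free

variable {G ι : Type*} [Group G] [MulAction G ι]

/-- An element `x` with `x ^ q = 1` acting without fixed points on a finite invariant set `A`: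
then `q ∣ |A|`. -/
theorem free_dvd_ncard [Finite ι] (q : ℕ) [Fact q.Prime] (x : G) (hxq : x ^ q = 1)
    (hfree : ∀ j : ι, x • j ≠ j) (A : Set ι) (hA : ∀ j ∈ A, x • j ∈ A) : q ∣ A.ncard := by
  classical
  haveI : Fintype A := Fintype.ofFinite A
  let f : Function.End A := fun j => ⟨x • (j : ι), hA _ j.2⟩
  have hpow : ∀ (k : ℕ) (j : A), (((f ^ k) j : A) : ι) = x ^ k • (j : ι) := by
    intro k
    induction k with
    | zero => intro j; simp only [pow_zero, one_smul]; rfl
    | succ k ih =>
      intro j
      rw [pow_succ', pow_succ', mul_smul]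
      change ((f ((f ^ k) j) : A) : ι) = _
      change x • (((f ^ k) j : A) : ι) = _
      rw [ih]
  have hf : f ^ q ^ 1 = 1 := by
    rw [pow_one]
    funext j
    apply Subtype.ext
    rw [hpow, hxq, one_smul]
    rfl
  have hmod := Equiv.Perm.card_fixedPoints_modEq (p := q) (n := 1) hf
  have hempty : Fintype.card (Function.fixedPoints f) = 0 := by
    rw [Fintype.card_eq_zero_iff]
    refine ⟨fun ⟨j, hj⟩ => ?_⟩
    have : (f j : ι) = (j : ι) := congrArg Subtype.val hj
    exact hfree _ this
  rw [hempty] at hmod
  have h1 : Fintype.card A = A.ncard := by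
    rw [← Nat.card_eq_fintype_card, Nat.card_coe_set_eq]
  rw [← h1]
  exact (Nat.modEq_zero_iff_dvd.mp hmod)

end Free

end Cfsg.Agent.Lib.Helper7.WtOrb
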