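import Mathlib
import Cfsg.Agent.Lib.Helper7.WtOrbB

/-!
# Weight-orbit argument: the two core conclusions
-/

namespace Cfsg.Agent.Lib.Helper7.WtOrb

open Subgroup MulAction Module

section Core

variable {K M G ι : Type*} [Field K] [AddCommGroup M] [Module K M] [Group G] [MulAction G ι]
  [DecidableEq ι]

theorem orbit_ncard_two_pow [Finite ι] (T : Subgroup G) [Finite T] (hT : IsPGroup 2 T) (i : ι) :
    ∃ c : ℕ, (orbit T i).ncard = 2 ^ c := by
  have h1 : (stabilizer T i).index = (orbit T i).ncard := MulAction.index_stabilizer T i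
  have h2 : (stabilizer T i).index ∣ Nat.card T := Subgroup.index_dvd_card _
  obtain ⟨a, ha⟩ := IsPGroup.iff_card.mp hT
  rw [ha, h1] at h2
  obtain ⟨c, _, hc⟩ := (Nat.dvd_prime_pow Nat.prime_two).mp h2
  exact ⟨c, hc⟩

theorem orbit_vector [CharP K 2] [Finite ι]
    (ρ : Representation K G M) (W : ι → Submodule K M) (h : DirectSum.IsInternal W)
    (hne : ∀ i, W i ≠ ⊥) (hmap : ∀ g i v, v ∈ W i → ρ g v ∈ W (g • i))
    (T : Subgroup G) [Finite T] (hT : IsPGroup 2 T) (i : ι) :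
    ∃ v : M, v ≠ 0 ∧ (∀ t ∈ T, ρ t v = v) ∧ {j | comp W h j v ≠ 0} = orbit T i := by
  set N : Submodule K M := ⨆ j ∈ orbit T i, W j with hN
  have hNne : N ≠ ⊥ := by
    intro hbot
    apply hne i
    rw [eq_bot_iff, ← hbot]
    exact le_biSup W (mem_orbit_self i)
  have hinv : ∀ t ∈ T, ∀ v ∈ N, ρ t v ∈ N := by
    intro t ht v hv
    have hle : N ≤ N.comap (ρ t) := by
      apply iSup₂_le
      intro j hj w hw
      rw [Submodule.mem_comap]
      have h1 : ρ t w ∈ W (t • j) := hmap t j w hw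
      have h2 : t • j ∈ orbit T i := by
        obtain ⟨s, rfl⟩ := hj
        refine ⟨⟨t, ht⟩ * s, ?_⟩
        simp only [mul_smul]
        rfl
      exact (le_biSup W h2) h1
    exact hle hv
  haveI : Fact (Nat.Prime 2) := ⟨Nat.prime_two⟩
  obtain ⟨v, hvN, hv0, hfix⟩ := exists_fixed_ne_zero 2 ρ T hT N hNne hinv
  refine ⟨v, hv0, hfix, ?_⟩
  have hsub : {j | comp W h j v ≠ 0} ⊆ orbit T i := by
    intro j hj
    by_contra hjO
    exact hj (comp_eq_zero_of_mem_biSup W h (orbit T i) hjO hvN)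
  apply Set.Subset.antisymm hsub
  intro j hj
  obtain ⟨i₀, hi₀⟩ := exists_comp_ne_zero W h hv0
  have hi₀O : i₀ ∈ orbit T i := hsub hi₀
  have hj' : j ∈ orbit T i₀ := by
    rw [MulAction.orbit_eq_iff.mpr hi₀O]; exact hj
  obtain ⟨t, rfl⟩ := hj'
  have h3 : ρ (t : G) v = v := hfix t t.2
  have h4 : comp W h ((t : G) • i₀) v = ρ (t : G) (comp W h i₀ v) := by
    have := comp_equivariant ρ W h hmap (t : G) i₀ v
    rwa [h3] at this
  show comp W h ((t : G) • i₀) v ≠ 0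
  rw [h4]
  intro h0
  apply hi₀
  apply rho_injective ρ (t : G)
  rw [h0, map_zero]

theorem comb_false [Finite ι] (q : ℕ) [Fact q.Prime] (hq2 : q ≠ 2) (x : G) (hxq : x ^ q = 1)
    (hfree : ∀ j : ι, x • j ≠ j) (O₁ O₂ : Set ι) (hdisj : Disjoint O₁ O₂)
    (hne₁ : O₁.Nonempty) (hne₂ : O₂.Nonempty)
    (hc₁ : ∃ c, O₁.ncard = 2 ^ c) (hc₂ : ∃ c, O₂.ncard = 2 ^ c)
    (h₁ : (fun j => x • j) '' O₁ = O₁ ∨ (fun j => x • j) '' O₁ = O₂ ∨
      (fun j => x • j) '' O₁ = O₁ ∪ O₂)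
    (h₂ : (fun j => x • j) '' O₂ = O₁ ∨ (fun j => x • j) '' O₂ = O₂ ∨
      (fun j => x • j) '' O₂ = O₁ ∪ O₂) : False := by
  have hodd : ∀ c : ℕ, ¬ q ∣ 2 ^ c := by
    intro c hc
    have hq : q.Prime := Fact.out
    have := hq.dvd_of_dvd_pow hc
    exact hq2 ((Nat.prime_dvd_prime_iff_eq hq Nat.prime_two).mp this)
  have himg : ∀ O : Set ι, ((fun j => x • j) '' O).ncard = O.ncard := fun O =>
    Set.ncard_image_of_injective O (MulAction.injective x)
  have hun : (O₁ ∪ O₂).ncard = O₁.ncard + O₂.ncard := Set.ncard_union_eq hdisj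
  obtain ⟨c₁, hc₁⟩ := hc₁
  obtain ⟨c₂, hc₂⟩ := hc₂
  have hpos₁ : O₁.ncard ≠ 0 := by rw [hc₁]; positivity
  have hpos₂ : O₂.ncard ≠ 0 := by rw [hc₂]; positivity
  have inv_of_eq : ∀ O O' : Set ι, (fun j => x • j) '' O = O' → ∀ j ∈ O, x • j ∈ O' := by
    intro O O' hO j hj
    rw [← hO]
    exact ⟨j, hj, rfl⟩
  rcases h₁ with h₁ | h₁ | h₁
  · have := free_dvd_ncard q x hxq hfree O₁ (inv_of_eq _ _ h₁)
    rw [hc₁] at this
    exact hodd _ this
  · rcases h₂ with h₂ | h₂ | h₂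
    · have hA : ∀ j ∈ O₁ ∪ O₂, x • j ∈ O₁ ∪ O₂ := by
        rintro j (hj | hj)
        · exact Or.inr (inv_of_eq _ _ h₁ j hj)
        · exact Or.inl (inv_of_eq _ _ h₂ j hj)
      have hd := free_dvd_ncard q x hxq hfree (O₁ ∪ O₂) hA
      have h12 : O₂.ncard = O₁.ncard := by rw [← h₁, himg]
      rw [hun, h12, hc₁, ← two_mul, ← pow_succ'] at hd
      exact hodd _ hd
    · have := free_dvd_ncard q x hxq hfree O₂ (inv_of_eq _ _ h₂)
      rw [hc₂] at this
      exact hodd _ this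
    · have := himg O₂
      rw [h₂, hun] at this
      omega
  · have := himg O₁
    rw [h₁, hun] at this
    omega

theorem two_orbits [Finite ι] [Nonempty ι] (T : Subgroup G) [Finite T] (hT : IsPGroup 2 T)
    (q : ℕ) [Fact q.Prime] (hq2 : q ≠ 2) (x : G) (hxq : x ^ q = 1) (hfree : ∀ j : ι, x • j ≠ j) :
    ∃ i₀ i₁ : ι, i₁ ∉ orbit T i₀ := by
  by_contra hcon
  push Not at hcon
  have i₀ : ι := Classical.arbitrary ι
  have huniv : orbit T i₀ = Set.univ := Set.eq_univ_of_forall (hcon i₀)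
  obtain ⟨c, hc⟩ := orbit_ncard_two_pow T hT i₀
  have hd := free_dvd_ncard q x hxq hfree (Set.univ : Set ι) (fun _ _ => Set.mem_univ _)
  rw [← huniv, hc] at hd
  have hq : q.Prime := Fact.out
  have := hq.dvd_of_dvd_pow hd
  exact hq2 ((Nat.prime_dvd_prime_iff_eq hq Nat.prime_two).mp this)

/-- The fixed space of `T` is not contained in a line. -/
theorem core_A [CharP K 2] [Finite ι] [Nonempty ι]
    (ρ : Representation K G M) (W : ι → Submodule K M) (h : DirectSum.IsInternal W)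
    (hne : ∀ i, W i ≠ ⊥) (hmap : ∀ g i v, v ∈ W i → ρ g v ∈ W (g • i))
    (T : Subgroup G) [Finite T] (hT : IsPGroup 2 T)
    (q : ℕ) [Fact q.Prime] (hq2 : q ≠ 2) (x : G) (hxq : x ^ q = 1) (hfree : ∀ j : ι, x • j ≠ j)
    (e : M) (hle : ∀ v, (∀ t ∈ T, ρ t v = v) → v ∈ Submodule.span K {e}) : False := by
  obtain ⟨i₀, i₁, hi⟩ := two_orbits T hT q hq2 x hxq hfree
  obtain ⟨v₁, hv₁0, hv₁fix, hv₁S⟩ := orbit_vector ρ W h hne hmap T hT i₀
  obtain ⟨v₂, hv₂0, hv₂fix, hv₂S⟩ := orbit_vector ρ W h hne hmap T hT i₁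
  obtain ⟨c₁, rfl⟩ := Submodule.mem_span_singleton.mp (hle v₁ hv₁fix)
  obtain ⟨c₂, rfl⟩ := Submodule.mem_span_singleton.mp (hle v₂ hv₂fix)
  have h1 : comp W h i₀ (c₁ • e) ≠ 0 := by
    have : i₀ ∈ {j | comp W h j (c₁ • e) ≠ 0} := by rw [hv₁S]; exact mem_orbit_self i₀
    exact this
  have h2 : comp W h i₀ e ≠ 0 := by
    intro h0
    apply h1
    rw [map_smul, h0, smul_zero]
  have hc₂ : c₂ ≠ 0 := by
    rintro rfl
    exact hv₂0 (zero_smul _ _)
  have h3 : i₀ ∈ {j | comp W h j (c₂ • e) ≠ 0} := by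
    show comp W h i₀ (c₂ • e) ≠ 0
    rw [map_smul]
    exact smul_ne_zero hc₂ h2
  rw [hv₂S] at h3
  exact hi (MulAction.mem_orbit_symm.mp h3)

/-- If the fixed space of `T` is contained in a plane, then `x` does not normalise it. -/
theorem core_B [CharP K 2] [Finite ι] [Nonempty ι]
    (ρ : Representation K G M) (W : ι → Submodule K M) (h : DirectSum.IsInternal W)
    (hne : ∀ i, W i ≠ ⊥) (hmap : ∀ g i v, v ∈ W i → ρ g v ∈ W (g • i))
    (T : Subgroup G) [Finite T] (hT : IsPGroup 2 T)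
    (q : ℕ) [Fact q.Prime] (hq2 : q ≠ 2) (x : G) (hxq : x ^ q = 1) (hfree : ∀ j : ι, x • j ≠ j)
    (a b : M) (hle : ∀ v, (∀ t ∈ T, ρ t v = v) → v ∈ Submodule.span K {a, b})
    (hnorm : ∀ v, (∀ t ∈ T, ρ t v = v) → ∀ t ∈ T, ρ t (ρ x v) = ρ x v) : False := by
  obtain ⟨i₀, i₁, hi⟩ := two_orbits T hT q hq2 x hxq hfree
  obtain ⟨v₁, hv₁0, hv₁fix, hv₁S⟩ := orbit_vector ρ W h hne hmap T hT i₀
  obtain ⟨v₂, hv₂0, hv₂fix, hv₂S⟩ := orbit_vector ρ W h hne hmap T hT i₁
  set O₁ : Set ι := orbit T i₀ with hO₁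
  set O₂ : Set ι := orbit T i₁ with hO₂
  have hdisj : Disjoint O₁ O₂ := by
    rw [Set.disjoint_left]
    intro j hj₁ hj₂
    apply hi
    have e1 : orbit T j = orbit T i₀ := MulAction.orbit_eq_iff.mpr hj₁
    have e2 : orbit T j = orbit T i₁ := MulAction.orbit_eq_iff.mpr hj₂
    rw [hO₁, ← e1, e2]
    exact mem_orbit_self i₁
  have hz₁ : ∀ j, j ∉ O₁ → comp W h j v₁ = 0 := by
    intro j hj
    by_contra h0
    apply hj
    rw [← hv₁S]
    exact h0
  have hz₂ : ∀ j, j ∉ O₂ → comp W h j v₂ = 0 := by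
    intro j hj
    by_contra h0
    apply hj
    rw [← hv₂S]
    exact h0
  have hn₁ : ∀ j, j ∈ O₁ → comp W h j v₁ ≠ 0 := by
    intro j hj
    rw [← hv₁S] at hj
    exact hj
  have hn₂ : ∀ j, j ∈ O₂ → comp W h j v₂ ≠ 0 := by
    intro j hj
    rw [← hv₂S] at hj
    exact hj
  have hi₀O : i₀ ∈ O₁ := mem_orbit_self i₀
  have hi₁O : i₁ ∈ O₂ := mem_orbit_self i₁
  -- linear independence
  have hli : LinearIndependent K ![v₁, v₂] := by
    rw [LinearIndependent.pair_iff]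
    intro s t hst
    constructor
    · have := congrArg (comp W h i₀) hst
      rw [map_add, map_smul, map_smul, map_zero,
        hz₂ i₀ (fun hh => Set.disjoint_left.mp hdisj hi₀O hh), smul_zero, add_zero] at this
      exact (smul_eq_zero.mp this).resolve_right (hn₁ i₀ hi₀O)
    · have := congrArg (comp W h i₁) hst
      rw [map_add, map_smul, map_smul, map_zero,
        hz₁ i₁ (fun hh => Set.disjoint_left.mp hdisj hh hi₁O), smul_zero, zero_add] at this
      exact (smul_eq_zero.mp this).resolve_right (hn₂ i₁ hi₁O)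
  -- the plane is spanned by `v₁, v₂`
  have hspan : Submodule.span K (Set.range ![v₁, v₂]) = Submodule.span K {a, b} := by
    haveI : FiniteDimensional K (Submodule.span K ({a, b} : Set M)) :=
      FiniteDimensional.span_of_finite K (Set.toFinite _)
    apply Submodule.eq_of_le_of_finrank_le
    · rw [Submodule.span_le]
      rintro _ ⟨k, rfl⟩
      fin_cases k
      · exact hle v₁ hv₁fix
      · exact hle v₂ hv₂fix
    · rw [finrank_span_eq_card hli, Fintype.card_fin]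
      classical
      calc finrank K (Submodule.span K ({a, b} : Set M))
          ≤ ({a, b} : Set M).toFinset.card := finrank_span_le_card _
        _ ≤ 2 := by
            have : ({a, b} : Set M).toFinset = {a, b} := by ext; simp
            rw [this]
            exact Finset.card_le_two
  have key : ∀ v, (∀ t ∈ T, ρ t v = v) → ∃ s t : K, s • v₁ + t • v₂ = v := by
    intro v hv
    have h1 := hle v hv
    rw [← hspan] at h1
    have h2 : Set.range ![v₁, v₂] = {v₁, v₂} := by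
      ext z
      simp only [Set.mem_range, Set.mem_insert_iff, Set.mem_singleton_iff]
      constructor
      · rintro ⟨k, rfl⟩
        fin_cases k
        · left; rfl
        · right; rfl
      · rintro (rfl | rfl)
        · exact ⟨0, rfl⟩
        · exact ⟨1, rfl⟩
    rw [h2] at h1
    exact Submodule.mem_span_pair.mp h1
  -- supports of fixed vectors
  have hcases : ∀ v, (∀ t ∈ T, ρ t v = v) → v ≠ 0 →
      ({j | comp W h j v ≠ 0} = O₁ ∨ {j | comp W h j v ≠ 0} = O₂ ∨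
        {j | comp W h j v ≠ 0} = O₁ ∪ O₂) := by
    intro v hv hv0
    obtain ⟨s, t, rfl⟩ := key v hv
    have hsupp : ∀ j, comp W h j (s • v₁ + t • v₂) ≠ 0 ↔
        ((s ≠ 0 ∧ j ∈ O₁) ∨ (t ≠ 0 ∧ j ∈ O₂)) := by
      intro j
      rw [map_add, map_smul, map_smul]
      by_cases hj₁ : j ∈ O₁
      · have hj₂ : j ∉ O₂ := fun hh => Set.disjoint_left.mp hdisj hj₁ hh
        rw [hz₂ j hj₂, smul_zero, add_zero]
        simp [hj₁, hj₂, hn₁ j hj₁]
      · by_cases hj₂ : j ∈ O₂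
        · rw [hz₁ j hj₁, smul_zero, zero_add]
          simp [hj₁, hj₂, hn₂ j hj₂]
        · rw [hz₁ j hj₁, hz₂ j hj₂]
          simp [hj₁, hj₂]
    by_cases hs : s = 0
    · by_cases ht : t = 0
      · exfalso
        apply hv0
        rw [hs, ht, zero_smul, zero_smul, add_zero]
      · right; left
        ext j
        rw [Set.mem_setOf_eq, hsupp]
        simp [hs, ht]
    · by_cases ht : t = 0
      · left
        ext j
        rw [Set.mem_setOf_eq, hsupp]
        simp [hs, ht]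
      · right; right
        ext j
        rw [Set.mem_setOf_eq, hsupp]
        simp [hs, ht]
  have hx₁ : (fun j => x • j) '' O₁ = O₁ ∨ (fun j => x • j) '' O₁ = O₂ ∨
      (fun j => x • j) '' O₁ = O₁ ∪ O₂ := by
    have h1 := supp_image ρ W h hmap x v₁
    rw [hv₁S] at h1
    rw [← h1]
    apply hcases _ (hnorm v₁ hv₁fix)
    intro h0
    apply hv₁0
    apply rho_injective ρ x
    rw [h0, map_zero]
  have hx₂ : (fun j => x • j) '' O₂ = O₁ ∨ (fun j => x • j) '' O₂ = O₂ ∨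
      (fun j => x • j) '' O₂ = O₁ ∪ O₂ := by
    have h1 := supp_image ρ W h hmap x v₂
    rw [hv₂S] at h1
    rw [← h1]
    apply hcases _ (hnorm v₂ hv₂fix)
    intro h0
    apply hv₂0
    apply rho_injective ρ x
    rw [h0, map_zero]
  exact comb_false q hq2 x hxq hfree O₁ O₂ hdisj ⟨i₀, hi₀O⟩ ⟨i₁, hi₁O⟩
    (orbit_ncard_two_pow T hT i₀) (orbit_ncard_two_pow T hT i₁) hx₁ hx₂

end Core

end Cfsg.Agent.Lib.Helper7.WtOrb
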