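import Mathlib
import Cfsg.Agent.Lib.Helper7.WtOrbC

/-!
# Weight spaces of an abelian normal subgroup of invertible order

`V ≤ G` abelian and normal, `|V|` invertible in the algebraically closed field `K`.  The module
`M` is the direct sum of the joint eigenspaces `wt ρ V χ` (`χ : V → K`), and `G` permutes them.
-/

namespace Cfsg.Agent.Lib.Helper7.WtOrb

open Subgroup MulAction Module Polynomial
open scoped commutatorElement

section Weights

variable {K M G : Type*} [Field K] [AddCommGroup M] [Module K M] [Group G]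

/-- The joint eigenspace of `V` with eigenvalue function `χ`. -/
def wt (ρ : Representation K G M) (V : Subgroup G) (χ : V → K) : Submodule K M :=
  ⨅ y : V, Module.End.eigenspace (ρ (y : G)) (χ y)

theorem mem_wt (ρ : Representation K G M) (V : Subgroup G) (χ : V → K) (v : M) :
    v ∈ wt ρ V χ ↔ ∀ y : V, ρ (y : G) v = χ y • v := by
  simp only [wt, Submodule.mem_iInf, Module.End.mem_eigenspace_iff]

theorem rho_commute (ρ : Representation K G M) (V : Subgroup G)
    (hab : ∀ a ∈ V, ∀ b ∈ V, a * b = b * a) (a b : V) :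
    Commute (ρ (a : G)) (ρ (b : G)) := by
  show ρ (a : G) * ρ (b : G) = ρ (b : G) * ρ (a : G)
  rw [← map_mul, ← map_mul, hab a a.2 b b.2]

theorem rho_semisimple (ρ : Representation K G M) (V : Subgroup G) [Finite V]
    (hVK : ((Nat.card V : ℕ) : K) ≠ 0) (y : V) : Module.End.IsSemisimple (ρ (y : G)) := by
  have hsq : Squarefree ((X : K[X]) ^ (Nat.card V) - C 1) :=
    (separable_X_pow_sub_C (1 : K) hVK one_ne_zero).squarefree
  apply Module.End.isSemisimple_of_squarefree_aeval_eq_zero hsq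
  have h1 : y ^ Nat.card V = 1 := pow_card_eq_one'
  have h2 : (ρ (y : G)) ^ Nat.card V = 1 := by
    rw [← map_pow, ← Subgroup.coe_pow, h1, Subgroup.coe_one, map_one]
  simp [h2]

theorem maxGen_eq (ρ : Representation K G M) (V : Subgroup G) [Finite V]
    (hVK : ((Nat.card V : ℕ) : K) ≠ 0) (y : V) (μ : K) :
    Module.End.maxGenEigenspace (ρ (y : G)) μ = Module.End.eigenspace (ρ (y : G)) μ :=
  (rho_semisimple ρ V hVK y).isFinitelySemisimple.maxGenEigenspace_eq_eigenspace μ

theorem wt_eq (ρ : Representation K G M) (V : Subgroup G) [Finite V]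
    (hVK : ((Nat.card V : ℕ) : K) ≠ 0) (χ : V → K) :
    wt ρ V χ = ⨅ y : V, Module.End.maxGenEigenspace (ρ (y : G)) (χ y) := by
  unfold wt
  congr 1
  funext y
  rw [maxGen_eq ρ V hVK]

theorem wt_indep (ρ : Representation K G M) (V : Subgroup G) [Finite V]
    (hab : ∀ a ∈ V, ∀ b ∈ V, a * b = b * a) (hVK : ((Nat.card V : ℕ) : K) ≠ 0) :
    iSupIndep (wt ρ V) := by
  have h := Module.End.independent_iInf_maxGenEigenspace_of_forall_mapsTo
    (fun y : V => ρ (y : G))
    (fun i j φ => Module.End.mapsTo_maxGenEigenspace_of_comm (rho_commute ρ V hab j i) φ)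
  have : wt ρ V = fun χ : V → K => ⨅ y : V, Module.End.maxGenEigenspace (ρ (y : G)) (χ y) := by
    funext χ
    exact wt_eq ρ V hVK χ
  rw [this]
  exact h

theorem wt_iSup [IsAlgClosed K] [FiniteDimensional K M]
    (ρ : Representation K G M) (V : Subgroup G) [Finite V]
    (hab : ∀ a ∈ V, ∀ b ∈ V, a * b = b * a) (hVK : ((Nat.card V : ℕ) : K) ≠ 0) :
    ⨆ χ : V → K, wt ρ V χ = ⊤ := by
  have h := Module.End.iSup_iInf_maxGenEigenspace_eq_top_of_iSup_maxGenEigenspace_eq_top_of_commute
    (fun y : V => ρ (y : G))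
    (fun i j _ => rho_commute ρ V hab i j)
    (fun i => Module.End.iSup_maxGenEigenspace_eq_top _)
  have : wt ρ V = fun χ : V → K => ⨅ y : V, Module.End.maxGenEigenspace (ρ (y : G)) (χ y) := by
    funext χ
    exact wt_eq ρ V hVK χ
  rw [this]
  exact h

/-- The action of `G` on eigenvalue functions of a normal subgroup `V`. -/
def twist (V : Subgroup G) [V.Normal] (g : G) (χ : V → K) : V → K :=
  fun y => χ (MulAut.conjNormal g⁻¹ y)

theorem twist_one (V : Subgroup G) [V.Normal] (χ : V → K) : twist V 1 χ = χ := by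
  funext y
  simp [twist]

theorem twist_mul (V : Subgroup G) [V.Normal] (g h : G) (χ : V → K) :
    twist V (g * h) χ = twist V g (twist V h χ) := by
  funext y
  simp only [twist, mul_inv_rev, map_mul, MulAut.mul_apply]

theorem twist_map (ρ : Representation K G M) (V : Subgroup G) [V.Normal] (g : G) (χ : V → K)
    (v : M) (hv : v ∈ wt ρ V χ) : ρ g v ∈ wt ρ V (twist V g χ) := by
  rw [mem_wt] at hv ⊢
  intro y
  have h1 : (y : G) * g = g * ((MulAut.conjNormal g⁻¹ y : V) : G) := by
    rw [MulAut.conjNormal_apply]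
    group
  have h2 : ρ (y : G) (ρ g v) = ρ g (ρ ((MulAut.conjNormal g⁻¹ y : V) : G) v) := by
    rw [← Module.End.mul_apply, ← map_mul, h1, map_mul, Module.End.mul_apply]
  rw [h2, hv, map_smul]
  rfl

/-- If a subgroup `Q` fixes the eigenvalue function `χ` and `⁅V, Q⁆ = V`, then `V` acts trivially
on the weight space of `χ`. -/
theorem wt_fixed_of_twist_fixed (ρ : Representation K G M) (V : Subgroup G) [V.Normal]
    (Q : Subgroup G) (hcomm : ⁅V, Q⁆ = V) (χ : V → K) (hχ : wt ρ V χ ≠ ⊥)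
    (hfix : ∀ g ∈ Q, twist V g χ = χ) :
    ∀ v ∈ wt ρ V χ, ∀ y ∈ V, ρ y v = v := by
  obtain ⟨v₀, hv₀, hv₀0⟩ := (Submodule.ne_bot_iff _).mp hχ
  have hv₀' := (mem_wt ρ V χ v₀).mp hv₀
  -- `χ y⁻¹ * χ y = 1`
  have hinv : ∀ y : V, χ y⁻¹ * χ y = 1 := by
    intro y
    have h1 : ρ ((y⁻¹ : V) : G) (ρ (y : G) v₀) = v₀ := by
      rw [← Module.End.mul_apply, ← map_mul]
      simp
    rw [hv₀' y, map_smul, hv₀' y⁻¹, smul_smul] at h1
    have h2 : (χ y * χ y⁻¹ - 1) • v₀ = 0 := by rw [sub_smul, h1, one_smul, sub_self]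
    have h3 := (smul_eq_zero.mp h2).resolve_right hv₀0
    rw [mul_comm]
    exact sub_eq_zero.mp h3
  let N : Subgroup G :=
    { carrier := {c | ∀ v ∈ wt ρ V χ, ρ c v = v}
      one_mem' := fun v _ => by simp
      mul_mem' := fun {a b} ha hb v hv => by
        rw [map_mul, Module.End.mul_apply, hb v hv, ha v hv]
      inv_mem' := fun {a} ha v hv => by
        have := ha v hv
        have h2 : ρ a⁻¹ (ρ a v) = v := by
          rw [← Module.End.mul_apply, ← map_mul]; simp
        rw [this] at h2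
        exact h2 }
  have hle : ⁅V, Q⁆ ≤ N := by
    rw [Subgroup.commutator_le]
    intro y hy g hg v hv
    have hv' := (mem_wt ρ V χ v).mp hv
    -- `⁅y, g⁆ = y * (g * y⁻¹ * g⁻¹)`
    have h1 : ⁅y, g⁆ = y * ((MulAut.conjNormal g (⟨y, hy⟩⁻¹ : V) : V) : G) := by
      rw [MulAut.conjNormal_apply, commutatorElement_def]
      simp only [Subgroup.coe_inv]
      group
    have h2 : χ (MulAut.conjNormal g (⟨y, hy⟩⁻¹ : V)) = χ (⟨y, hy⟩⁻¹ : V) := by
      have := congrFun (hfix g⁻¹ (Q.inv_mem hg)) (⟨y, hy⟩⁻¹ : V)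
      simpa [twist] using this
    show ρ ⁅y, g⁆ v = v
    rw [h1, map_mul, Module.End.mul_apply, hv' _, map_smul, h2]
    have h3 := hv' ⟨y, hy⟩
    simp only at h3
    rw [h3, smul_smul, hinv, one_smul]
  rw [hcomm] at hle
  intro v hv y hy
  exact hle hy v hv

end Weights

end Cfsg.Agent.Lib.Helper7.WtOrb
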