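import Mathlib
import Cfsg.Agent.Lib.Helper7.WtOrbD

/-!
# Weight-orbit argument over an algebraically closed field of characteristic `2`
-/

namespace Cfsg.Agent.Lib.Helper7.WtOrb

open Subgroup MulAction Module

section KVersion

variable {K M G : Type*} [Field K] [AddCommGroup M] [Module K M] [Group G]

/-- The index type: eigenvalue functions with nonzero weight space. -/
abbrev WtIdx (ρ : Representation K G M) (V : Subgroup G) : Type _ :=
  {χ : V → K // wt ρ V χ ≠ ⊥}

theorem twist_ne_bot (ρ : Representation K G M) (V : Subgroup G) [V.Normal] (g : G) (χ : V → K)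
    (hχ : wt ρ V χ ≠ ⊥) : wt ρ V (twist V g χ) ≠ ⊥ := by
  obtain ⟨v, hv, hv0⟩ := (Submodule.ne_bot_iff _).mp hχ
  rw [Submodule.ne_bot_iff]
  refine ⟨ρ g v, twist_map ρ V g χ v hv, ?_⟩
  intro h0
  apply hv0
  apply rho_injective ρ g
  rw [h0, map_zero]

/-- `G` acts on the set of weights. -/
noncomputable instance wtIdxAction (ρ : Representation K G M) (V : Subgroup G) [V.Normal] :
    MulAction G (WtIdx ρ V) where
  smul g i := ⟨twist V g i.1, twist_ne_bot ρ V g i.1 i.2⟩
  one_smul i := Subtype.ext (twist_one V i.1)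
  mul_smul g h i := Subtype.ext (twist_mul V g h i.1)

theorem wtIdx_smul_val (ρ : Representation K G M) (V : Subgroup G) [V.Normal] (g : G)
    (i : WtIdx ρ V) : (g • i).1 = twist V g i.1 := rfl

theorem K_setup [IsAlgClosed K] [CharP K 2] [FiniteDimensional K M] [Nontrivial M]
    (ρ : Representation K G M) (V : Subgroup G) [V.Normal] [Finite V]
    (hab : ∀ a ∈ V, ∀ b ∈ V, a * b = b * a) (hVodd : Odd (Nat.card V))
    (hVfix : ∀ v : M, (∀ y ∈ V, ρ y v = v) → v = 0)
    (x : G) (hcomm : ⁅V, zpowers x⁆ = V) :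
    Finite (WtIdx ρ V) ∧ Nonempty (WtIdx ρ V) ∧
    iSupIndep (fun i : WtIdx ρ V => wt ρ V i.1) ∧ (⨆ i : WtIdx ρ V, wt ρ V i.1) = ⊤ ∧
    (∀ i : WtIdx ρ V, x • i ≠ i) := by
  have hVK : ((Nat.card V : ℕ) : K) ≠ 0 := by
    rw [Ne, CharP.cast_eq_zero_iff K 2]
    intro h2
    exact (Nat.not_even_iff_odd.mpr hVodd) (even_iff_two_dvd.mpr h2)
  have hind := wt_indep ρ V hab hVK
  have htop := wt_iSup ρ V hab hVK
  refine ⟨?_, ?_, ?_, ?_, ?_⟩
  · exact (Submodule.finite_ne_bot_of_iSupIndep hind).to_subtype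
  · by_contra hempty
    rw [not_nonempty_iff] at hempty
    have hall : ∀ χ : V → K, wt ρ V χ = ⊥ := by
      intro χ
      by_contra h
      exact hempty.false ⟨χ, h⟩
    have : (⨆ χ : V → K, wt ρ V χ) = ⊥ := by simp [hall]
    rw [htop] at this
    exact top_ne_bot this
  · exact hind.comp Subtype.val_injective
  · rw [← htop]
    exact iSup_ne_bot_subtype (wt ρ V)
  · intro i hi
    have hx : twist V x i.1 = i.1 := congrArg Subtype.val hi
    have hstab : zpowers x ≤ stabilizer G i := by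
      rw [zpowers_le]
      exact hi
    have hfix : ∀ g ∈ zpowers x, twist V g i.1 = i.1 := by
      intro g hg
      have := hstab hg
      exact congrArg Subtype.val (MulAction.mem_stabilizer_iff.mp this)
    have h1 := wt_fixed_of_twist_fixed ρ V (zpowers x) hcomm i.1 i.2 hfix
    apply i.2
    rw [eq_bot_iff]
    intro v hv
    rw [Submodule.mem_bot]
    exact hVfix v (fun y hy => h1 v hv y hy)

/-- The fixed space of a `2`-subgroup is not contained in a line. -/
theorem K_core_A [IsAlgClosed K] [CharP K 2] [FiniteDimensional K M] [Nontrivial M]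
    (ρ : Representation K G M) (V : Subgroup G) [V.Normal] [Finite V]
    (hab : ∀ a ∈ V, ∀ b ∈ V, a * b = b * a) (hVodd : Odd (Nat.card V))
    (hVfix : ∀ v : M, (∀ y ∈ V, ρ y v = v) → v = 0)
    (T : Subgroup G) [Finite T] (hT : IsPGroup 2 T)
    (q : ℕ) [Fact q.Prime] (hq2 : q ≠ 2) (x : G) (hxq : x ^ q = 1) (hcomm : ⁅V, zpowers x⁆ = V)
    (e : M) (hle : ∀ v, (∀ t ∈ T, ρ t v = v) → v ∈ Submodule.span K {e}) : False := by
  classical
  obtain ⟨hfin, hnon, hind, htop, hfree⟩ := K_setup ρ V hab hVodd hVfix x hcomm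
  haveI := hfin
  haveI := hnon
  have hint : DirectSum.IsInternal (fun i : WtIdx ρ V => wt ρ V i.1) :=
    DirectSum.isInternal_submodule_of_iSupIndep_of_iSup_eq_top hind htop
  exact core_A ρ (fun i : WtIdx ρ V => wt ρ V i.1) hint (fun i => i.2)
    (fun g i v hv => twist_map ρ V g i.1 v hv) T hT q hq2 x hxq hfree e hle

/-- If the fixed space of a `2`-subgroup is contained in a plane, `x` does not normalise it. -/
theorem K_core_B [IsAlgClosed K] [CharP K 2] [FiniteDimensional K M] [Nontrivial M]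
    (ρ : Representation K G M) (V : Subgroup G) [V.Normal] [Finite V]
    (hab : ∀ a ∈ V, ∀ b ∈ V, a * b = b * a) (hVodd : Odd (Nat.card V))
    (hVfix : ∀ v : M, (∀ y ∈ V, ρ y v = v) → v = 0)
    (T : Subgroup G) [Finite T] (hT : IsPGroup 2 T)
    (q : ℕ) [Fact q.Prime] (hq2 : q ≠ 2) (x : G) (hxq : x ^ q = 1) (hcomm : ⁅V, zpowers x⁆ = V)
    (a b : M) (hle : ∀ v, (∀ t ∈ T, ρ t v = v) → v ∈ Submodule.span K {a, b})
    (hnorm : ∀ v, (∀ t ∈ T, ρ t v = v) → ∀ t ∈ T, ρ t (ρ x v) = ρ x v) : False := by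
  classical
  obtain ⟨hfin, hnon, hind, htop, hfree⟩ := K_setup ρ V hab hVodd hVfix x hcomm
  haveI := hfin
  haveI := hnon
  have hint : DirectSum.IsInternal (fun i : WtIdx ρ V => wt ρ V i.1) :=
    DirectSum.isInternal_submodule_of_iSupIndep_of_iSup_eq_top hind htop
  exact core_B ρ (fun i : WtIdx ρ V => wt ρ V i.1) hint (fun i => i.2)
    (fun g i v hv => twist_map ρ V g i.1 v hv) T hT q hq2 x hxq hfree a b hle hnorm

end KVersion

end Cfsg.Agent.Lib.Helper7.WtOrb
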