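import Mathlib
import Cfsg.Prelude.Def_Blocks
import Cfsg.Prelude.Def_Local
import Cfsg.Prelude.Def_Solvable

set_option autoImplicit false

/-!
# Brauer–Leonard: abelian Sylow subgroup with Frobenius-type normalizer, group theory

`P` is an abelian Sylow `p`-subgroup of `G`, `N = N_G(P)`, `C = C_G(P)` and
`C_G(y) ∩ N = C` for every non-identity `y ∈ P`.
-/

namespace Cfsg.Agent.Lib.Helper7.BL

open Cfsg Subgroup

variable {G : Type*} [Group G]

/-- The hypotheses. -/
structure Hyp (p : ℕ) (P : Sylow p G) : Prop where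
  hab : ∀ a ∈ (P : Subgroup G), ∀ b ∈ (P : Subgroup G), a * b = b * a
  hfrob : ∀ y : G, y ∈ (P : Subgroup G) → y ≠ 1 →
    Subgroup.centralizer ({y} : Set G) ⊓ Subgroup.normalizer ((P : Subgroup G) : Set G)
      = Subgroup.centralizer ((P : Subgroup G) : Set G)

variable {p : ℕ} {P : Sylow p G}

theorem Hyp.P_le_C (h : Hyp p P) :
    (P : Subgroup G) ≤ Subgroup.centralizer ((P : Subgroup G) : Set G) := by
  intro a ha
  rw [Subgroup.mem_centralizer_iff]
  intro b hb
  exact h.hab b hb a ha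

theorem C_le_N (P : Sylow p G) : Subgroup.centralizer ((P : Subgroup G) : Set G) ≤
    Subgroup.normalizer ((P : Subgroup G) : Set G) :=
  Subgroup.centralizer_le_normalizer _

theorem Hyp.P_le_cent (h : Hyp p P) {y : G} (hy : y ∈ (P : Subgroup G)) :
    (P : Subgroup G) ≤ Subgroup.centralizer ({y} : Set G) := by
  intro a ha
  rw [Subgroup.mem_centralizer_singleton_iff]
  exact h.hab a ha y hy

/-- fusion in `P` is controlled by the normalizer. -/
theorem Hyp.fusion [Fact p.Prime] [Finite G] (h : Hyp p P) (u : G) (hu : u ∈ (P : Subgroup G))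
    (g : G) (hg : g * u * g⁻¹ ∈ (P : Subgroup G)) :
    ∃ n ∈ Subgroup.normalizer ((P : Subgroup G) : Set G), n * u * n⁻¹ = g * u * g⁻¹ := by
  haveI : IsMulCommutative P := ⟨⟨fun a b => Subtype.ext (h.hab a a.2 b b.2)⟩⟩
  have hg' : (g⁻¹)⁻¹ * u * g⁻¹ ∈ P := by rw [inv_inv]; exact hg
  obtain ⟨n, hn, hnu⟩ := P.conj_eq_normalizer_conj_of_mem u g⁻¹ hu hg'
  refine ⟨n⁻¹, inv_mem hn, ?_⟩
  rw [inv_inv] at hnu ⊢
  exact hnu.symm

/-- the intersection of the normalizer with the centralizer of a non-identity element. -/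
theorem Hyp.card_inf [Finite G] (h : Hyp p P) {y : G} (hy : y ∈ (P : Subgroup G)) (hy1 : y ≠ 1) :
    Nat.card ↥(Subgroup.normalizer ((P : Subgroup G) : Set G) ⊓ Subgroup.centralizer ({y} : Set G))
      = Nat.card ↥(Subgroup.centralizer ((P : Subgroup G) : Set G)) := by
  rw [inf_comm, h.hfrob y hy hy1]

end Cfsg.Agent.Lib.Helper7.BL
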