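import Mathlib
import Cfsg.Prelude.Def_Characters
import Cfsg.Agent.Lib.Helper1.LinearChar
import Cfsg.Agent.Lib.Helper1.CharFound4
import Cfsg.Agent.Lib.Helper4.AbelianIrr

set_option autoImplicit false

/-!
# Linear characters of a finite abelian group as homomorphisms
-/

namespace Cfsg.Agent.Lib.Helper7.BL

open Cfsg
open Cfsg.Agent.Lib.Helper1 Cfsg.Agent.Lib.Helper4
open scoped ComplexConjugate

variable {A : Type*} [Group A]

/-- the function underlying a homomorphism to the units of `ℂ`. -/
def homFun (ψ : A →* ℂˣ) : A → ℂ := fun a => ((ψ a : ℂˣ) : ℂ)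

theorem homFun_apply (ψ : A →* ℂˣ) (a : A) : homFun ψ a = ((ψ a : ℂˣ) : ℂ) := rfl

theorem homFun_irr (ψ : A →* ℂˣ) : IsIrrCharacter A (homFun ψ) := isIrrCharacter_of_hom ψ

theorem homFun_injective : Function.Injective (homFun : (A →* ℂˣ) → A → ℂ) := by
  intro ψ ψ' h
  ext a
  exact congrFun h a

theorem homFun_one : homFun (1 : A →* ℂˣ) = fun _ => (1 : ℂ) := by
  funext a
  simp [homFun]

/-- the irreducible character attached to a homomorphism. -/
def homIrr (ψ : A →* ℂˣ) : IrrCharacter A := ⟨homFun ψ, homFun_irr ψ⟩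

theorem homIrr_injective : Function.Injective (homIrr : (A →* ℂˣ) → IrrCharacter A) := by
  intro ψ ψ' h
  apply homFun_injective
  exact congrArg Subtype.val h

theorem homIrr_surjective (hcomm : ∀ a b : A, a * b = b * a) :
    Function.Surjective (homIrr : (A →* ℂˣ) → IrrCharacter A) := by
  intro μ
  obtain ⟨φ, hφ⟩ := exists_hom_of_comm hcomm μ.2
  exact ⟨φ, Subtype.ext hφ.symm⟩

/-- the bijection between homomorphisms and irreducible characters. -/
noncomputable def homEquiv (hcomm : ∀ a b : A, a * b = b * a) : (A →* ℂˣ) ≃ IrrCharacter A :=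
  Equiv.ofBijective homIrr ⟨homIrr_injective, homIrr_surjective hcomm⟩

theorem homEquiv_apply (hcomm : ∀ a b : A, a * b = b * a) (ψ : A →* ℂˣ) :
    ((homEquiv hcomm ψ : IrrCharacter A) : A → ℂ) = homFun ψ := rfl

theorem finite_hom [Finite A] (hcomm : ∀ a b : A, a * b = b * a) : Finite (A →* ℂˣ) :=
  Finite.of_equiv _ (homEquiv hcomm).symm

theorem card_hom [Finite A] (hcomm : ∀ a b : A, a * b = b * a) :
    Nat.card (A →* ℂˣ) = Nat.card A := by
  rw [Nat.card_congr (homEquiv hcomm), card_irr_eq_card_conjClasses]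
  apply Nat.card_congr
  refine Equiv.symm (Equiv.ofBijective ConjClasses.mk ⟨?_, ConjClasses.mk_surjective⟩)
  intro a b hab
  rw [ConjClasses.mk_eq_mk_iff_isConj, isConj_iff] at hab
  obtain ⟨c, hc'⟩ := hab
  rw [← hc', hcomm c a, mul_assoc, mul_inv_cancel, mul_one]

/-- expansion of a function on a finite abelian group in terms of homomorphisms. -/
theorem hom_expansion [Fintype A] [Fintype (A →* ℂˣ)] (hcomm : ∀ a b : A, a * b = b * a)
    (f : A → ℂ) : f = ∑ ψ : A →* ℂˣ, classInner f (homFun ψ) • homFun ψ := by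
  classical
  haveI : Fintype (IrrCharacter A) := Fintype.ofFinite _
  have hcf : IsClassFunction A f := by
    intro a b
    have : b * a * b⁻¹ = a := by rw [hcomm b a, mul_assoc, mul_inv_cancel, mul_one]
    rw [this]
  have h1 := class_function_expansion f hcf
  rw [← Equiv.sum_comp (homEquiv hcomm)] at h1
  exact h1

/-- orthogonality of homomorphisms. -/
theorem hom_orth [Fintype A] (ψ ψ' : A →* ℂˣ) :
    classInner (homFun ψ) (homFun ψ') = if ψ = ψ' then 1 else 0 := by
  split_ifs with h
  · rw [h]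
    exact classInner_irr_self (homFun_irr ψ')
  · apply classInner_irr_ne (homFun_irr ψ) (homFun_irr ψ')
    intro heq
    exact h (homFun_injective heq)

end Cfsg.Agent.Lib.Helper7.BL
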