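import Mathlib
import Cfsg.Agent.Lib.Helper7.BL1
import Cfsg.Agent.Lib.Helper7.BL4

set_option autoImplicit false

/-!
# Brauer–Leonard: the action of the normalizer on the linear characters of `P`
-/

namespace Cfsg.Agent.Lib.Helper7.BL

open Cfsg Subgroup

variable {G : Type*} [Group G]

/-- conjugation by an element of the normalizer, as an endomorphism of `K`. -/
def conjK (K : Subgroup G) (n : ↥(Subgroup.normalizer (K : Set G))) : ↥K →* ↥K where
  toFun w := ⟨(n : G) * w * (n : G)⁻¹, (Subgroup.mem_normalizer_iff.mp n.2 w).mp w.2⟩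
  map_one' := by
    apply Subtype.ext
    simp
  map_mul' a b := by
    apply Subtype.ext
    simp only [Subgroup.coe_mul]
    group

theorem conjK_apply (K : Subgroup G) (n : ↥(Subgroup.normalizer (K : Set G))) (w : ↥K) :
    ((conjK K n w : ↥K) : G) = (n : G) * w * (n : G)⁻¹ := rfl

theorem conjK_one (K : Subgroup G) : conjK K 1 = MonoidHom.id _ := by
  ext w
  simp [conjK_apply]

theorem conjK_mul (K : Subgroup G) (n n' : ↥(Subgroup.normalizer (K : Set G))) :
    conjK K (n * n') = (conjK K n).comp (conjK K n') := by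
  ext w
  simp only [conjK_apply, MonoidHom.comp_apply, Subgroup.coe_mul]
  group

/-- the action of the normalizer on the homomorphisms `K →* ℂˣ`: `(n • ψ) w = ψ (n⁻¹ w n)`. -/
@[reducible] def actHom (K : Subgroup G) : MulAction ↥(Subgroup.normalizer (K : Set G)) (↥K →* ℂˣ) where
  smul n ψ := ψ.comp (conjK K n⁻¹)
  one_smul ψ := by
    show ψ.comp (conjK K (1 : ↥(Subgroup.normalizer (K : Set G)))⁻¹) = ψ
    rw [inv_one, conjK_one]
    rfl
  mul_smul n n' ψ := by
    show ψ.comp (conjK K (n * n')⁻¹) = (ψ.comp (conjK K n'⁻¹)).comp (conjK K n⁻¹)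
    rw [mul_inv_rev, conjK_mul]
    rfl

theorem actHom_apply (K : Subgroup G) (n : ↥(Subgroup.normalizer (K : Set G))) (ψ : ↥K →* ℂˣ)
    (w : ↥K) :
    (letI := actHom K; n • ψ) w = ψ (conjK K n⁻¹ w) := rfl

/-- the relation of the statement is the orbit relation. -/
theorem rel_iff_smul (K : Subgroup G) (ψ ψ' : ↥K →* ℂˣ) :
    (∃ n : G, n ∈ Subgroup.normalizer (K : Set G) ∧
      ∀ w w' : ↥K, (w' : G) = n * w * n⁻¹ → ψ' w' = ψ w) ↔
    ∃ n : ↥(Subgroup.normalizer (K : Set G)), ψ' = (letI := actHom K; n • ψ) := by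
  constructor
  · rintro ⟨n, hn, h⟩
    refine ⟨⟨n, hn⟩, ?_⟩
    ext w'
    rw [actHom_apply]
    have h1 := h (conjK K (⟨n, hn⟩ : ↥(Subgroup.normalizer (K : Set G)))⁻¹ w') w' (by
      rw [conjK_apply]
      simp only [Subgroup.coe_inv, inv_inv]
      group)
    rw [h1]
  · rintro ⟨n, rfl⟩
    refine ⟨n, n.2, ?_⟩
    intro w w' hw
    rw [actHom_apply]
    congr 2
    apply Subtype.ext
    rw [conjK_apply, hw]
    simp only [Subgroup.coe_inv, inv_inv]
    group

variable {p : ℕ} {P : Sylow p G}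

/-- the stabilizer of a non-principal linear character of `P` is the centralizer of `P`. -/
theorem Hyp.stab [Finite G] (h : Hyp p P) {ψ : ↥(P : Subgroup G) →* ℂˣ} (hψ : ψ ≠ 1)
    (n : ↥(Subgroup.normalizer ((P : Subgroup G) : Set G)))
    (hn : (letI := actHom (P : Subgroup G); n • ψ) = ψ) :
    (n : G) ∈ Subgroup.centralizer ((P : Subgroup G) : Set G) := by
  by_contra hnC
  apply hψ
  -- the map w ↦ n⁻¹ w n w⁻¹ is injective on P
  let f : ↥(P : Subgroup G) → ↥(P : Subgroup G) := fun w => conjK (P : Subgroup G) n⁻¹ w * w⁻¹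
  have hfinj : Function.Injective f := by
    intro a b hab
    by_contra hne
    have h1 : ((f a : ↥(P : Subgroup G)) : G) = ((f b : ↥(P : Subgroup G)) : G) := by rw [hab]
    simp only [f, Subgroup.coe_mul, conjK_apply, Subgroup.coe_inv, inv_inv] at h1
    -- n⁻¹ a n a⁻¹ = n⁻¹ b n b⁻¹
    set c : G := (b : G)⁻¹ * (a : G) with hc
    have hcP : c ∈ (P : Subgroup G) := (P : Subgroup G).mul_mem ((P : Subgroup G).inv_mem b.2) a.2
    have hc1 : c ≠ 1 := by
      intro h0
      apply hne
      apply Subtype.ext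
      have : (a : G) = (b : G) * c := by rw [hc]; group
      rw [this, h0, mul_one]
    have hcomm : c * (n : G) = (n : G) * c := by
      have h2 : (a : G) * (n : G) * (a : G)⁻¹ = (b : G) * (n : G) * (b : G)⁻¹ := by
        have h3 : (n : G) * ((n : G)⁻¹ * (a : G) * (n : G) * (a : G)⁻¹)
            = (n : G) * ((n : G)⁻¹ * (b : G) * (n : G) * (b : G)⁻¹) := by rw [h1]
        have e1 : (n : G) * ((n : G)⁻¹ * (a : G) * (n : G) * (a : G)⁻¹) = (a : G) * (n : G) * (a : G)⁻¹ := by
          group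
        have e2 : (n : G) * ((n : G)⁻¹ * (b : G) * (n : G) * (b : G)⁻¹) = (b : G) * (n : G) * (b : G)⁻¹ := by
          group
        rw [e1, e2] at h3
        exact h3
      have h4 : c * (n : G) * c⁻¹ = (n : G) := by
        rw [hc]
        have : (b : G)⁻¹ * (a : G) * (n : G) * ((b : G)⁻¹ * (a : G))⁻¹
            = (b : G)⁻¹ * ((a : G) * (n : G) * (a : G)⁻¹) * (b : G) := by group
        rw [this, h2]
        group
      calc c * (n : G) = (c * (n : G) * c⁻¹) * c := by group
        _ = (n : G) * c := by rw [h4]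
    apply hnC
    rw [← h.hfrob c hcP hc1]
    exact ⟨Subgroup.mem_centralizer_singleton_iff.mpr hcomm.symm, n.2⟩
  have hfsurj : Function.Surjective f := Finite.injective_iff_surjective.mp hfinj
  ext k
  obtain ⟨w, rfl⟩ := hfsurj k
  have h1 : ψ (conjK (P : Subgroup G) n⁻¹ w) = ψ w := by
    have := DFunLike.congr_fun hn w
    rw [actHom_apply] at this
    exact this
  simp only [f, map_mul, map_inv, h1, mul_inv_cancel, MonoidHom.one_apply]

end Cfsg.Agent.Lib.Helper7.BL
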