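import Mathlib
import Cfsg.Agent.Lib.Helper7.BL5

set_option autoImplicit false

/-!
# Brauer–Leonard: counting the orbits of the normalizer on the linear characters of `P`
-/

namespace Cfsg.Agent.Lib.Helper7.BL

open Cfsg Subgroup

attribute [local instance] actHom

variable {G : Type*} [Group G]

theorem smul_of_mem_centralizer (K : Subgroup G) (n : ↥(Subgroup.normalizer (K : Set G)))
    (hn : (n : G) ∈ Subgroup.centralizer (K : Set G)) (ψ : ↥K →* ℂˣ) : n • ψ = ψ := by
  ext w
  rw [actHom_apply]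
  congr 2
  apply Subtype.ext
  rw [conjK_apply]
  simp only [Subgroup.coe_inv, inv_inv]
  have h1 := Subgroup.mem_centralizer_iff.mp hn (w : G) w.2
  rw [mul_assoc, h1]
  group

theorem smul_one_hom (K : Subgroup G) (n : ↥(Subgroup.normalizer (K : Set G))) :
    n • (1 : ↥K →* ℂˣ) = 1 := by
  ext w
  rw [actHom_apply]
  rfl

theorem orbit_one_hom (K : Subgroup G) :
    MulAction.orbit ↥(Subgroup.normalizer (K : Set G)) (1 : ↥K →* ℂˣ) = {1} := by
  ext ψ
  constructor
  · rintro ⟨n, rfl⟩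
    exact smul_one_hom K n
  · intro h
    rw [Set.mem_singleton_iff] at h
    rw [h]
    exact MulAction.mem_orbit_self _

variable {p : ℕ} {P : Sylow p G}

theorem Hyp.stabilizer_eq [Finite G] (h : Hyp p P) {ψ : ↥(P : Subgroup G) →* ℂˣ} (hψ : ψ ≠ 1) :
    MulAction.stabilizer ↥(Subgroup.normalizer ((P : Subgroup G) : Set G)) ψ =
      (Subgroup.centralizer ((P : Subgroup G) : Set G)).subgroupOf
        (Subgroup.normalizer ((P : Subgroup G) : Set G)) := by
  ext n
  rw [MulAction.mem_stabilizer_iff, Subgroup.mem_subgroupOf]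
  constructor
  · intro hn
    exact h.stab hψ n hn
  · intro hn
    exact smul_of_mem_centralizer _ n hn ψ

theorem Hyp.ncard_orbit [Finite G] (h : Hyp p P) {ψ : ↥(P : Subgroup G) →* ℂˣ} (hψ : ψ ≠ 1) :
    (MulAction.orbit ↥(Subgroup.normalizer ((P : Subgroup G) : Set G)) ψ).ncard =
      (Subgroup.centralizer ((P : Subgroup G) : Set G)).relIndex
        (Subgroup.normalizer ((P : Subgroup G) : Set G)) := by
  rw [← MulAction.index_stabilizer, h.stabilizer_eq hψ]
  rfl

/-- the number of elements of the normalizer carrying `ψ₃ ≠ 1` to `ψ₁`. -/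
theorem Hyp.card_fiber [Finite G] (h : Hyp p P) {ψ₃ : ↥(P : Subgroup G) →* ℂˣ} (hψ : ψ₃ ≠ 1)
    (ψ₁ : ↥(P : Subgroup G) →* ℂˣ) [Decidable (ψ₁ ∈ MulAction.orbit
      ↥(Subgroup.normalizer ((P : Subgroup G) : Set G)) ψ₃)] :
    Nat.card {x : ↥(Subgroup.normalizer ((P : Subgroup G) : Set G)) // x • ψ₃ = ψ₁} =
      if ψ₁ ∈ MulAction.orbit ↥(Subgroup.normalizer ((P : Subgroup G) : Set G)) ψ₃ then
        Nat.card ↥(Subgroup.centralizer ((P : Subgroup G) : Set G)) else 0 := by
  split_ifs with hmem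
  · obtain ⟨n₀, rfl⟩ := hmem
    have e : {x : ↥(Subgroup.normalizer ((P : Subgroup G) : Set G)) // x • ψ₃ = n₀ • ψ₃} ≃
        ↥(MulAction.stabilizer ↥(Subgroup.normalizer ((P : Subgroup G) : Set G)) ψ₃) :=
      { toFun := fun x => ⟨n₀⁻¹ * x.1, by
          rw [MulAction.mem_stabilizer_iff, mul_smul, x.2, inv_smul_smul]⟩
        invFun := fun s => ⟨n₀ * s.1, by
          rw [mul_smul, MulAction.mem_stabilizer_iff.mp s.2]⟩
        left_inv := fun x => by
          apply Subtype.ext
          simp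
        right_inv := fun s => by
          apply Subtype.ext
          simp }
    rw [Nat.card_congr e, h.stabilizer_eq hψ]
    exact Nat.card_congr (Subgroup.subgroupOfEquivOfLe (C_le_N P)).toEquiv
  · rw [Nat.card_eq_zero]
    left
    constructor
    rintro ⟨x, hx⟩
    exact hmem ⟨x, hx⟩

theorem card_fiber_one (K : Subgroup G) (ψ₁ : ↥K →* ℂˣ) [Decidable (ψ₁ = 1)] :
    Nat.card {x : ↥(Subgroup.normalizer (K : Set G)) // x • (1 : ↥K →* ℂˣ) = ψ₁} =
      if ψ₁ = 1 then Nat.card ↥(Subgroup.normalizer (K : Set G)) else 0 := by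
  split_ifs with h1
  · subst h1
    apply Nat.card_congr
    exact
      { toFun := fun x => x.1
        invFun := fun x => ⟨x, smul_one_hom K x⟩
        left_inv := fun x => rfl
        right_inv := fun x => rfl }
  · rw [Nat.card_eq_zero]
    left
    constructor
    rintro ⟨x, hx⟩
    rw [smul_one_hom] at hx
    exact h1 hx.symm

/-- the index set: the non-trivial orbits. -/
def Idx (K : Subgroup G) : Type _ :=
  {ω : MulAction.orbitRel.Quotient ↥(Subgroup.normalizer (K : Set G)) (↥K →* ℂˣ) //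
    ω ≠ Quotient.mk'' 1}

theorem mk_ne_one (K : Subgroup G) {ψ : ↥K →* ℂˣ} (hψ : ψ ≠ 1) :
    (Quotient.mk'' ψ : MulAction.orbitRel.Quotient ↥(Subgroup.normalizer (K : Set G))
      (↥K →* ℂˣ)) ≠ Quotient.mk'' 1 := by
  intro h
  rw [← MulAction.orbitRel.Quotient.mem_orbit, MulAction.orbitRel.Quotient.orbit_mk,
    orbit_one_hom] at h
  exact hψ h

/-- the orbit of a non-principal linear character. -/
def idxOf (K : Subgroup G) (ψ : ↥K →* ℂˣ) (hψ : ψ ≠ 1) : Idx K := ⟨Quotient.mk'' ψ, mk_ne_one K hψ⟩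

/-- a representative. -/
noncomputable def rep (K : Subgroup G) (i : Idx K) : ↥K →* ℂˣ := Quotient.out i.1

theorem mk_rep (K : Subgroup G) (i : Idx K) :
    (Quotient.mk'' (rep K i) : MulAction.orbitRel.Quotient ↥(Subgroup.normalizer (K : Set G))
      (↥K →* ℂˣ)) = i.1 := Quotient.out_eq' i.1

theorem rep_ne_one (K : Subgroup G) (i : Idx K) : rep K i ≠ 1 := by
  intro h
  apply i.2
  rw [← mk_rep, h]

theorem idxOf_rep (K : Subgroup G) (i : Idx K) : idxOf K (rep K i) (rep_ne_one K i) = i :=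
  Subtype.ext (mk_rep K i)

theorem idxOf_eq_iff (K : Subgroup G) {ψ ψ' : ↥K →* ℂˣ} (hψ : ψ ≠ 1) (hψ' : ψ' ≠ 1) :
    idxOf K ψ hψ = idxOf K ψ' hψ' ↔
      ψ ∈ MulAction.orbit ↥(Subgroup.normalizer (K : Set G)) ψ' := by
  rw [← MulAction.orbitRel.Quotient.orbit_mk, MulAction.orbitRel.Quotient.mem_orbit]
  constructor
  · intro h
    exact congrArg Subtype.val h
  · intro h
    exact Subtype.ext h

theorem Hyp.card_idx [Finite G] (h : Hyp p P) :
    Nat.card (Idx (P : Subgroup G)) *
      (Subgroup.centralizer ((P : Subgroup G) : Set G)).relIndex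
        (Subgroup.normalizer ((P : Subgroup G) : Set G)) + 1 = Nat.card ↥(P : Subgroup G) := by
  classical
  have hcomm : ∀ a b : ↥(P : Subgroup G), a * b = b * a :=
    fun a b => Subtype.ext (h.hab a a.2 b b.2)
  have : Finite (↥(P : Subgroup G) →* ℂˣ) := finite_hom hcomm
  haveI : Fintype (MulAction.orbitRel.Quotient ↥(Subgroup.normalizer ((P : Subgroup G) : Set G))
    (↥(P : Subgroup G) →* ℂˣ)) := Fintype.ofFinite _
  rw [← card_hom hcomm, Nat.card_congr (MulAction.selfEquivSigmaOrbits'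
    ↥(Subgroup.normalizer ((P : Subgroup G) : Set G)) (↥(P : Subgroup G) →* ℂˣ)), Nat.card_sigma]
  set ω₀ : MulAction.orbitRel.Quotient ↥(Subgroup.normalizer ((P : Subgroup G) : Set G))
    (↥(P : Subgroup G) →* ℂˣ) := Quotient.mk'' 1 with hω₀
  rw [← Finset.add_sum_erase _ _ (Finset.mem_univ ω₀)]
  have h0 : Nat.card ↥(ω₀.orbit) = 1 := by
    rw [hω₀, MulAction.orbitRel.Quotient.orbit_mk, orbit_one_hom]
    simp
  have h1 : ∀ ω ∈ Finset.univ.erase ω₀, Nat.card ↥(ω.orbit) =
      (Subgroup.centralizer ((P : Subgroup G) : Set G)).relIndex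
        (Subgroup.normalizer ((P : Subgroup G) : Set G)) := by
    intro ω hω
    have hne : ω ≠ ω₀ := (Finset.mem_erase.mp hω).1
    induction ω using Quotient.inductionOn' with
    | h ψ =>
      have hψ : ψ ≠ 1 := by
        intro h1
        apply hne
        rw [h1]
      rw [MulAction.orbitRel.Quotient.orbit_mk, ← h.ncard_orbit hψ]
      rfl
  rw [Finset.sum_congr rfl h1, h0, Finset.sum_const, smul_eq_mul, add_comm]
  congr 2
  rw [Finset.card_erase_of_mem (Finset.mem_univ _), Finset.card_univ]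
  unfold Idx
  rw [Nat.card_eq_fintype_card, Fintype.card_subtype_compl, Fintype.card_subtype_eq]

end Cfsg.Agent.Lib.Helper7.BL
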