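import Mathlib
import Cfsg.Agent.Lib.Helper7.BL6
import Cfsg.Agent.Lib.Helper2.TIFN

set_option autoImplicit false

/-!
# Brauer–Leonard: the multiplicities of the linear characters of `P` in the restrictions
-/

namespace Cfsg.Agent.Lib.Helper7.BL

open Cfsg Subgroup
open Cfsg.Agent.Lib.Helper1 Cfsg.Agent.Lib.Helper4
open scoped ComplexConjugate

attribute [local instance] actHom

variable {G : Type*} [Group G]

/-- conjugation by an element of the normalizer as a bijection of `K`. -/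
def conjEquiv (K : Subgroup G) (n : ↥(Subgroup.normalizer (K : Set G))) : ↥K ≃ ↥K where
  toFun := conjK K n
  invFun := conjK K n⁻¹
  left_inv w := by
    have := conjK_mul K n⁻¹ n
    rw [inv_mul_cancel, conjK_one] at this
    exact (DFunLike.congr_fun this w).symm
  right_inv w := by
    have := conjK_mul K n n⁻¹
    rw [mul_inv_cancel, conjK_one] at this
    exact (DFunLike.congr_fun this w).symm

theorem conjEquiv_apply (K : Subgroup G) (n : ↥(Subgroup.normalizer (K : Set G))) (w : ↥K) :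
    conjEquiv K n w = conjK K n w := rfl

/-- the multiplicity of `ψ` in the restriction of `χ` to `K`. -/
noncomputable def mu (K : Subgroup G) (χ : G → ℂ) (ψ : ↥K →* ℂˣ) : ℂ :=
  (Nat.card ↥K : ℂ)⁻¹ * ∑ᶠ y : ↥K, χ (y : G) * homFun ψ y⁻¹

theorem homFun_inv [Finite G] (K : Subgroup G) (ψ : ↥K →* ℂˣ) (y : ↥K) :
    homFun ψ y⁻¹ = conj (homFun ψ y) := by
  haveI : Fintype ↥K := Fintype.ofFinite _
  exact isCharacter_inv (isCharacter_of_irr (homFun_irr ψ)) y

theorem mu_eq_classInner [Finite G] (K : Subgroup G) [Fintype ↥K] (χ : G → ℂ) (ψ : ↥K →* ℂˣ) :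
    mu K χ ψ = classInner (fun y : ↥K => χ (y : G)) (homFun ψ) := by
  unfold mu
  rw [classInner_def, finsum_eq_sum_of_fintype]
  congr 1
  refine Finset.sum_congr rfl fun y _ => ?_
  rw [homFun_inv]

theorem mu_int [Finite G] (K : Subgroup G) (χ : IrrCharacter G) (ψ : ↥K →* ℂˣ) :
    ∃ n : ℤ, mu K (χ : G → ℂ) ψ = n := by
  haveI : Fintype ↥K := Fintype.ofFinite _
  rw [mu_eq_classInner]
  exact classInner_genChar_int
    (Cfsg.Agent.Lib.Helper2.TIFN.isGenChar_restrict K (isGenChar_of_irr χ.2))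
    (isGenChar_of_irr (homFun_irr ψ))

/-- the multiplicity as an integer. -/
noncomputable def muZ [Finite G] (K : Subgroup G) (χ : IrrCharacter G) (ψ : ↥K →* ℂˣ) : ℤ :=
  Classical.choose (mu_int K χ ψ)

theorem muZ_spec [Finite G] (K : Subgroup G) (χ : IrrCharacter G) (ψ : ↥K →* ℂˣ) :
    mu K (χ : G → ℂ) ψ = (muZ K χ ψ : ℂ) := Classical.choose_spec (mu_int K χ ψ)

/-- invariance under the normalizer. -/
theorem mu_smul (K : Subgroup G) {χ : G → ℂ} (hχ : IsClassFunction G χ)
    (n : ↥(Subgroup.normalizer (K : Set G))) (ψ : ↥K →* ℂˣ) : mu K χ (n • ψ) = mu K χ ψ := by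
  unfold mu
  congr 1
  rw [← finsum_comp_equiv (conjEquiv K n)]
  refine finsum_congr fun y => ?_
  rw [conjEquiv_apply, conjK_apply, hχ]
  congr 1
  rw [homFun_apply, homFun_apply, actHom_apply]
  congr 2
  rw [← map_inv, ← MonoidHom.comp_apply, ← conjK_mul, inv_mul_cancel, conjK_one]
  rfl

theorem muZ_smul [Finite G] (K : Subgroup G) (χ : IrrCharacter G)
    (n : ↥(Subgroup.normalizer (K : Set G))) (ψ : ↥K →* ℂˣ) : muZ K χ (n • ψ) = muZ K χ ψ := by
  have h := mu_smul K (isClassFunction_of_isCharacter (isCharacter_of_irr χ.2)) n ψ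
  rw [muZ_spec, muZ_spec] at h
  exact_mod_cast h

/-- the multiplicities of the principal character. -/
theorem mu_triv [Finite G] (K : Subgroup G) (ψ : ↥K →* ℂˣ) [Decidable (ψ = 1)] :
    mu K (fun _ : G => (1 : ℂ)) ψ = if ψ = 1 then 1 else 0 := by
  classical
  haveI : Fintype ↥K := Fintype.ofFinite _
  rw [mu_eq_classInner]
  have : (fun y : ↥K => (1 : ℂ)) = homFun (1 : ↥K →* ℂˣ) := homFun_one.symm
  rw [this, hom_orth]
  by_cases h : ψ = 1
  · rw [if_pos h, if_pos h.symm]
  · rw [if_neg h, if_neg (Ne.symm h)]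

end Cfsg.Agent.Lib.Helper7.BL
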