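import Mathlib

/-!
# S3067 endgame, abstract form (helper7)

If every element of `X` factors as `c * c' * d` with `c ∈ C_X(t)`, `c' ∈ C_X(t')`,
`d ∈ C_X(t * t')` (the dihedral lemma (L)), `t, t'` commute with `a`, and `C_X(t), C_X(t')`
centralise `a`, then `t * t'` commutes with every `X`-conjugate of `a`.
-/

namespace Cfsg.Agent.Lib.Helper7.GlEnd1

theorem endgame_commute_conj {Gam : Type*} [Group Gam] (X : Subgroup Gam) (a t t' : Gam)
    (hL : ∀ x ∈ X, ∃ c ∈ X, ∃ c' ∈ X, ∃ d ∈ X,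
      Commute c t ∧ Commute c' t' ∧ Commute d (t * t') ∧ x = c * c' * d)
    (hta : Commute t a) (ht'a : Commute t' a)
    (hCt : ∀ x ∈ X, Commute x t → Commute x a)
    (hCt' : ∀ x ∈ X, Commute x t' → Commute x a)
    {o : Gam} (ho : o ∈ X) : Commute (t * t') (o⁻¹ * a * o) := by
  obtain ⟨c, hc, c', hc', d, hd, hct, hct', hds, rfl⟩ := hL o ho
  have hca : Commute c a := hCt c hc hct
  have hc'a : Commute c' a := hCt' c' hc' hct'
  have hsa : Commute (t * t') a := hta.mul_left ht'a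
  have e : (c * c' * d)⁻¹ * a * (c * c' * d) = d⁻¹ * a * d := by
    have h1 : (c * c')⁻¹ * a * (c * c') = a := by
      have : Commute (c * c') a := hca.mul_left hc'a
      rw [mul_assoc, ← this.eq, ← mul_assoc, inv_mul_cancel, one_mul]
    calc (c * c' * d)⁻¹ * a * (c * c' * d)
        = d⁻¹ * ((c * c')⁻¹ * a * (c * c')) * d := by group
      _ = d⁻¹ * a * d := by rw [h1]
  rw [e]
  have hsd : Commute (t * t') d := hds.symm
  exact (hsd.inv_right.mul_right hsa).mul_right hsd

theorem endgame_commute_conj' {Gam : Type*} [Group Gam] (X : Subgroup Gam) (a t t' : Gam)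
    (hL : ∀ x ∈ X, ∃ c ∈ X, ∃ c' ∈ X, ∃ d ∈ X,
      Commute c t ∧ Commute c' t' ∧ Commute d (t * t') ∧ x = c * c' * d)
    (hta : Commute t a) (ht'a : Commute t' a)
    (hCt : ∀ x ∈ X, Commute x t → Commute x a)
    (hCt' : ∀ x ∈ X, Commute x t' → Commute x a)
    {o : Gam} (ho : o ∈ X) : Commute (t * t') (o * a * o⁻¹) := by
  have := endgame_commute_conj X a t t' hL hta ht'a hCt hCt' (X.inv_mem ho)
  simpa using this

end Cfsg.Agent.Lib.Helper7.GlEnd1
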