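import Mathlib
import Cfsg.Agent.Lib.Helper8.ZS7
import Cfsg.Agent.Lib.Helper2.GlFix1
import Cfsg.Agent.Lib.Helper7.GlEnd1

/-!
# S3067: step (R1) (Z*-step) and the ENDGAME, standalone in the ambient-group language (helper7)

`Gam` ambient group, `G ≤ Gam` normalised by `a`, points = `G`-conjugates `g⁻¹ * a * g` of `a`,
`K` = `G`-conjugates `g * tau * g⁻¹` of `tau`.
-/

namespace Cfsg.Agent.Lib.Helper7.GlEnd2

open Subgroup

universe u

/-- `[t, G]` as a subgroup of the ambient group. -/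
def tComm {Gam : Type u} [Group Gam] (G : Subgroup Gam) (t : Gam) : Subgroup Gam :=
  Subgroup.closure {x : Gam | ∃ g ∈ G, x = t * g * t⁻¹ * g⁻¹}

theorem tComm_le {Gam : Type u} [Group Gam] (G : Subgroup Gam) {t : Gam} (ht : t ∈ G) :
    tComm G t ≤ G := by
  rw [tComm, Subgroup.closure_le]
  rintro x ⟨g, hg, rfl⟩
  exact G.mul_mem (G.mul_mem (G.mul_mem ht hg) (G.inv_mem ht)) (G.inv_mem hg)

theorem conj_mem_closure_of_gens {Gam : Type u} [Group Gam] (S : Set Gam) (h : Gam)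
    (hS : ∀ x ∈ S, h * x * h⁻¹ ∈ Subgroup.closure S) :
    ∀ x ∈ Subgroup.closure S, h * x * h⁻¹ ∈ Subgroup.closure S := by
  intro x hx
  induction hx using Subgroup.closure_induction with
  | mem y hy => exact hS y hy
  | one => simp
  | mul x y _ _ hx hy =>
    have e : h * (x * y) * h⁻¹ = (h * x * h⁻¹) * (h * y * h⁻¹) := by group
    rw [e]; exact Subgroup.mul_mem _ hx hy
  | inv x _ hx =>
    have e : h * x⁻¹ * h⁻¹ = (h * x * h⁻¹)⁻¹ := by group
    rw [e]; exact Subgroup.inv_mem _ hx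

theorem tComm_conj_mem {Gam : Type u} [Group Gam] (G : Subgroup Gam) (t : Gam) {h : Gam}
    (hh : h ∈ G) : ∀ x ∈ tComm G t, h * x * h⁻¹ ∈ tComm G t := by
  apply conj_mem_closure_of_gens
  rintro x ⟨g, hg, rfl⟩
  have e : h * (t * g * t⁻¹ * g⁻¹) * h⁻¹
      = (t * h * t⁻¹ * h⁻¹)⁻¹ * (t * (h * g) * t⁻¹ * (h * g)⁻¹) := by group
  rw [e]
  exact Subgroup.mul_mem _ (Subgroup.inv_mem _ (Subgroup.subset_closure ⟨h, hh, rfl⟩))
    (Subgroup.subset_closure ⟨h * g, G.mul_mem hh hg, rfl⟩)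

theorem tComm_conj_a_mem {Gam : Type u} [Group Gam] (G : Subgroup Gam) (t a : Gam)
    (hn : ∀ g ∈ G, a * g * a⁻¹ ∈ G) (hta : Commute t a) :
    ∀ x ∈ tComm G t, a * x * a⁻¹ ∈ tComm G t := by
  apply conj_mem_closure_of_gens
  rintro x ⟨g, hg, rfl⟩
  refine Subgroup.subset_closure ⟨a * g * a⁻¹, hn g hg, ?_⟩
  have h1 : a * t = t * a := hta.eq.symm
  have h2 : a * t⁻¹ = t⁻¹ * a := (hta.inv_left.eq).symm
  calc a * (t * g * t⁻¹ * g⁻¹) * a⁻¹ = (a * t) * g * t⁻¹ * g⁻¹ * a⁻¹ := by group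
    _ = t * a * g * t⁻¹ * g⁻¹ * a⁻¹ := by rw [h1]
    _ = t * a * g * (a⁻¹ * (a * t⁻¹)) * g⁻¹ * a⁻¹ := by group
    _ = t * a * g * (a⁻¹ * (t⁻¹ * a)) * g⁻¹ * a⁻¹ := by rw [h2]
    _ = t * (a * g * a⁻¹) * t⁻¹ * (a * g * a⁻¹)⁻¹ := by group

/-- **(R1)**, Z*-step: if `t ∈ G` is an involution centralised by `a` with `C_G(t) ≤ C(a)` and `t`
is isolated in `G`, then `[G, a]` has odd order. -/
theorem r1_odd_of_isolated {Gam : Type u} [Group Gam] (G : Subgroup Gam) [Finite G] (a t : Gam)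
    (hn : ∀ g ∈ G, a * g * a⁻¹ ∈ G) (htG : t ∈ G) (hto : orderOf t = 2) (hta : Commute t a)
    (hCt : ∀ c ∈ G, Commute c t → Commute c a)
    (hiso : ∀ g ∈ G, Commute t (g * t * g⁻¹) → g * t * g⁻¹ = t) :
    Odd (Nat.card (Subgroup.closure {x : Gam | ∃ g ∈ G, x = g * a * g⁻¹ * a⁻¹})) := by
  have hti : t * t = 1 := by rw [← pow_two, ← hto, pow_orderOf_eq_one]
  have htinv : t⁻¹ = t := inv_eq_of_mul_eq_one_right hti
  let u : G := ⟨t, htG⟩
  have hu : Cfsg.IsIsolatedInvolution u := by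
    refine ⟨?_, ?_⟩
    · rw [← hto]; exact Subgroup.orderOf_mk t htG
    · intro g hc
      have h1 : Commute t ((g : Gam) * t * (g : Gam)⁻¹) := by
        have := congrArg Subtype.val hc.eq
        have h2 : t * ((g : Gam) * t * (g : Gam)⁻¹) = (g : Gam) * t * (g : Gam)⁻¹ * t := by
          simpa [u] using this
        exact h2
      have := hiso g g.2 h1
      exact Subtype.ext (by simpa [u] using this)
  obtain ⟨N, -, hNodd, hNc⟩ := Cfsg.Agent.Lib.Helper8.zstar_isolated hu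
  have hN0le : tComm G t ≤ N.map G.subtype := by
    rw [tComm, Subgroup.closure_le]
    rintro x ⟨g, hg, rfl⟩
    exact ⟨u * ⟨g, hg⟩ * u⁻¹ * (⟨g, hg⟩ : G)⁻¹, hNc ⟨g, hg⟩, by simp [u]⟩
  have : Finite (N.map G.subtype) := Finite.of_injective
    (fun x : N.map G.subtype => (⟨x.1, by
      obtain ⟨y, _, hy⟩ := x.2
      rw [← hy]; exact y.2⟩ : G))
    (fun x y h => Subtype.ext (by simpa using congrArg Subtype.val h))
  have : Finite (tComm G t) := Finite.of_injective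
    (fun x : tComm G t => (⟨x.1, hN0le x.2⟩ : N.map G.subtype))
    (fun x y h => Subtype.ext (by simpa using congrArg Subtype.val h))
  have hN0odd : Odd (Nat.card (tComm G t)) := by
    have h1 : Nat.card (tComm G t) ∣ Nat.card (N.map G.subtype) := Subgroup.card_dvd_of_le hN0le
    rw [Subgroup.card_map_of_injective G.subtype_injective] at h1
    exact hNodd.of_dvd_nat h1
  have key : ∀ g ∈ G, g * a * g⁻¹ * a⁻¹ ∈ tComm G t := by
    intro g hg
    have hy : t * g * t⁻¹ * g⁻¹ ∈ tComm G t := Subgroup.subset_closure ⟨g, hg, rfl⟩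
    have he : g * t * g⁻¹ = t * (t * g * t⁻¹ * g⁻¹) := by
      calc g * t * g⁻¹ = (t * t) * g * t * g⁻¹ := by rw [hti, one_mul]
        _ = t * (t * g * t * g⁻¹) := by group
        _ = t * (t * g * t⁻¹ * g⁻¹) := by rw [htinv]
    have hee : g * t * g⁻¹ * (g * t * g⁻¹) = 1 := by
      calc g * t * g⁻¹ * (g * t * g⁻¹) = g * (t * t) * g⁻¹ := by group
        _ = 1 := by rw [hti]; group
    obtain ⟨c, hc, -, hce⟩ := Cfsg.Agent.Lib.Helper2.GlFix.involution_coset_conj hN0odd hti hy he hee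
      (Commute.one_left t) (Commute.one_left _)
    have hcG : c ∈ G := tComm_le G htG hc
    have hcg : Commute (c * g) t := by
      have : c * g * t = t * (c * g) := by
        calc c * g * t = c * (g * t * g⁻¹) * g := by group
          _ = c * (c⁻¹ * t * c) * g := by rw [hce]
          _ = t * (c * g) := by group
      exact this
    have hcga : Commute (c * g) a := hCt _ (G.mul_mem hcG hg) hcg
    have e : g * a * g⁻¹ * a⁻¹ = c⁻¹ * (a * c * a⁻¹) := by
      calc g * a * g⁻¹ * a⁻¹ = c⁻¹ * ((c * g) * a) * (c * g)⁻¹ * c * a⁻¹ := by group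
        _ = c⁻¹ * (a * (c * g)) * (c * g)⁻¹ * c * a⁻¹ := by rw [hcga.eq]
        _ = c⁻¹ * (a * c * a⁻¹) := by group
    rw [e]
    exact Subgroup.mul_mem _ (Subgroup.inv_mem _ hc) (tComm_conj_a_mem G t a hn hta c hc)
  have hle : Subgroup.closure {x : Gam | ∃ g ∈ G, x = g * a * g⁻¹ * a⁻¹} ≤ tComm G t := by
    rw [Subgroup.closure_le]
    rintro x ⟨g, hg, rfl⟩
    exact key g hg
  exact hN0odd.of_dvd_nat (Subgroup.card_dvd_of_le hle)

/-- **(R1)**, contrapositive form: in a counterexample every `t ∈ K ∩ C(a)` commutes with another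
conjugate of itself. -/
theorem r1_exists_commuting {Gam : Type u} [Group Gam] (G : Subgroup Gam) [Finite G] (a t : Gam)
    (hn : ∀ g ∈ G, a * g * a⁻¹ ∈ G) (htG : t ∈ G) (hto : orderOf t = 2) (hta : Commute t a)
    (hCt : ∀ c ∈ G, Commute c t → Commute c a)
    (hnot : ¬ Odd (Nat.card (Subgroup.closure {x : Gam | ∃ g ∈ G, x = g * a * g⁻¹ * a⁻¹}))) :
    ∃ g ∈ G, g * t * g⁻¹ ≠ t ∧ Commute t (g * t * g⁻¹) := by
  by_contra hcon
  push Not at hcon
  apply hnot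
  apply r1_odd_of_isolated G a t hn htG hto hta hCt
  intro g hg hc
  by_contra hne
  exact hcon g hg hne hc

/-- **ENDGAME**: (S1) + (S5) + line transitivity + (L) + `core_G(F) = 1` + (E1) + (R1) are
contradictory in a counterexample. -/
theorem endgame_false {Gam : Type u} [Group Gam] (G : Subgroup Gam) [Finite G] (a tau : Gam)
    (hn : ∀ g ∈ G, a * g * a⁻¹ ∈ G) (htauG : tau ∈ G) (htau : orderOf tau = 2)
    (hC : ∀ c ∈ G, Commute c tau → Commute c a)
    (hE1 : ∀ t ∈ G, (∃ g ∈ G, t = g * tau * g⁻¹) → Commute t a →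
      ∀ c ∈ G, Commute c t → Commute c a)
    (hS1 : ∀ b, (∃ g ∈ G, b = g⁻¹ * a * g) → b ≠ a →
      Odd (Nat.card ↥(Subgroup.closure {a, b} ⊓ G)))
    (hS5 : ∀ t ∈ G, (∃ g ∈ G, t = g * tau * g⁻¹) → Commute t a →
      ∀ b, (∃ g ∈ G, b = g⁻¹ * a * g) → b ≠ a →
      ∀ x ∈ Subgroup.closure {a, b} ⊓ G, t * x * t⁻¹ ∈ Subgroup.closure {a, b} ⊓ G)
    (hline : ∀ b, (∃ g ∈ G, b = g⁻¹ * a * g) → b ≠ a →
      ∃ o ∈ Subgroup.closure {a, b} ⊓ G, b = o⁻¹ * a * o)
    (hcore : ∀ s ∈ G, (∀ g ∈ G, Commute s (g⁻¹ * a * g)) → s = 1)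
    (hnot : ¬ Odd (Nat.card (Subgroup.closure {x : Gam | ∃ g ∈ G, x = g * a * g⁻¹ * a⁻¹}))) :
    False := by
  have hti : tau * tau = 1 := by rw [← pow_two, ← htau, pow_orderOf_eq_one]
  have htaua : Commute tau a := hC tau htauG (Commute.refl tau)
  obtain ⟨g, hg, hne, hcomm⟩ := r1_exists_commuting G a tau hn htauG htau htaua hC hnot
  set t' := g * tau * g⁻¹ with ht'def
  have ht'G : t' ∈ G := G.mul_mem (G.mul_mem hg htauG) (G.inv_mem hg)
  have ht'K : ∃ g ∈ G, t' = g * tau * g⁻¹ := ⟨g, hg, rfl⟩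
  have ht'a : Commute t' a := hC t' ht'G hcomm.symm
  have ht'i : t' * t' = 1 := by
    calc t' * t' = g * (tau * tau) * g⁻¹ := by rw [ht'def]; group
      _ = 1 := by rw [hti]; group
  have hsG : tau * t' ∈ G := G.mul_mem htauG ht'G
  have hs1 : tau * t' ≠ 1 := by
    intro h
    apply hne
    have h1 : t' = tau⁻¹ := (eq_inv_of_mul_eq_one_right h)
    rw [h1]
    exact inv_eq_of_mul_eq_one_right hti
  apply hs1
  apply hcore _ hsG
  intro h hh
  by_cases hb : h⁻¹ * a * h = a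
  · rw [hb]; exact htaua.mul_left ht'a
  · have hbP : ∃ g ∈ G, h⁻¹ * a * h = g⁻¹ * a * g := ⟨h, hh, rfl⟩
    obtain ⟨o, ho, hbo⟩ := hline _ hbP hb
    have hodd := hS1 _ hbP hb
    have hle : Subgroup.closure {a, h⁻¹ * a * h} ⊓ G ≤ G := inf_le_right
    have : Finite ↥(Subgroup.closure {a, h⁻¹ * a * h} ⊓ G) := Finite.of_injective
      (fun x : ↥(Subgroup.closure {a, h⁻¹ * a * h} ⊓ G) => (⟨x.1, hle x.2⟩ : G))
      (fun x y hxy => Subtype.ext (by simpa using congrArg Subtype.val hxy))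
    have hN := hS5 tau htauG ⟨1, G.one_mem, by simp⟩ htaua _ hbP hb
    have hN' := hS5 t' ht'G ht'K ht'a _ hbP hb
    rw [hbo]
    apply Cfsg.Agent.Lib.Helper7.GlEnd1.endgame_commute_conj _ a tau t' ?_ htaua ht'a ?_ ?_ ho
    · intro x hx
      exact Cfsg.Agent.Lib.Helper2.GlFix.four_group_factor hodd hti ht'i hcomm hN hN' hx
    · intro x hx hxt
      exact hC x (hle hx) hxt
    · intro x hx hxt
      exact hE1 t' ht'G ht'K ht'a x (hle hx) hxt

end Cfsg.Agent.Lib.Helper7.GlEnd2
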