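import Mathlib
import Cfsg.Agent.Lib.Helper1.GC0
import Cfsg.Agent.Lib.Helper7.GlEnd2

/-!
# S3067: (R1) and ENDGAME in the language of `Helper1.GC0` (stub shapes)  (helper7)
-/

set_option autoImplicit false

namespace Cfsg.Agent.Lib.Helper7.GlEnd3

open Cfsg.Agent.Lib.Helper1.GC

universe u
variable {Γ : Type u} [Group Γ] [Finite Γ] {G : Subgroup Γ} {a τ : Γ} {r : ℕ}

/-- oddness of `closure {g a g⁻¹ a⁻¹}` gives `Concl`. -/
theorem concl_of_odd (h : Hyp G a τ r)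
    (hodd : Odd (Nat.card (Subgroup.closure {x : Γ | ∃ g ∈ G, x = g * a * g⁻¹ * a⁻¹}))) :
    Concl G a := by
  refine ⟨_, ?_, hodd, ?_⟩
  · rw [Subgroup.closure_le]
    rintro x ⟨g, hg, rfl⟩
    have := h.norm_inv g⁻¹ (G.inv_mem hg)
    have e : g * a * g⁻¹ * a⁻¹ = g * (a * g⁻¹ * a⁻¹) := by group
    rw [e]
    exact G.mul_mem hg this
  · intro g hg
    have hk : a⁻¹ * g⁻¹ * a ∈ G := h.hnorm g⁻¹ (G.inv_mem hg)
    have e : g⁻¹ * a⁻¹ * g * a = ((a⁻¹ * g⁻¹ * a) * a * (a⁻¹ * g⁻¹ * a)⁻¹ * a⁻¹)⁻¹ := by group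
    rw [e]
    exact Subgroup.inv_mem _ (Subgroup.subset_closure ⟨_, hk, rfl⟩)

theorem not_odd_of_minCE (h : MinCE G a τ r) :
    ¬ Odd (Nat.card (Subgroup.closure {x : Γ | ∃ g ∈ G, x = g * a * g⁻¹ * a⁻¹})) :=
  fun hodd => h.nc (concl_of_odd h.hyp hodd)

/-- **(R1)** Z*: every `t ∈ K_a` commutes with another element of `K_a` (stub shape). -/
theorem R1 (h : MinCE G a τ r) {t : Γ} (ht : IsK G τ t) (hta : Commute t a) :
    ∃ t', IsK G τ t' ∧ Commute t' a ∧ t' ≠ t ∧ Commute t t' := by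
  have htG : t ∈ G := ht.mem h.hyp
  obtain ⟨g, hg, hne, hc⟩ := Cfsg.Agent.Lib.Helper7.GlEnd2.r1_exists_commuting G a t
    h.hyp.norm_inv htG (ht.orderOf h.hyp) hta
    (fun c hc hct => h.hyp.cent_le ht hta hc hct) (not_odd_of_minCE h)
  have hK : IsK G τ (g * t * g⁻¹) := by
    have := ht.conj (G.inv_mem hg)
    rwa [inv_inv] at this
  refine ⟨g * t * g⁻¹, hK, ?_, hne, hc⟩
  exact h.hyp.cent_le ht hta (hK.mem h.hyp) hc.symm

/-- **ENDGAME** (stub shape, with (R0), (S1), (S5) as explicit hypotheses in stub shapes). -/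
theorem endgame (h : MinCE G a τ r)
    (hR0 : ∀ N : Subgroup Γ, N ≤ G → (∀ g ∈ G, ∀ x ∈ N, g⁻¹ * x * g ∈ N) →
      (∀ x ∈ N, Commute x a) → N = ⊥)
    (hS1 : ∀ b : Γ, IsPt G a b → b ≠ a → Odd (Nat.card (Lam0 G a b)))
    (hS5 : ∀ t b : Γ, IsK G τ t → Commute t a → IsPt G a b → b ≠ a →
      (∀ x ∈ Lam0 G a b, t⁻¹ * x * t ∈ Lam0 G a b) ∧ ∃ x ∈ Lam0 G a b, b = x⁻¹ * a * x) :
    False := by
  have hK : ∀ t : Γ, (∃ g ∈ G, t = g * τ * g⁻¹) → IsK G τ t := by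
    rintro t ⟨g, hg, rfl⟩
    exact ⟨g⁻¹, G.inv_mem hg, by rw [inv_inv]⟩
  apply Cfsg.Agent.Lib.Helper7.GlEnd2.endgame_false G a τ h.hyp.norm_inv h.hyp.hτG h.hyp.hτ
    h.hyp.hcent
  · intro t _ htK hta c hc hct
    exact h.hyp.cent_le (hK t htK) hta hc hct
  · intro b hb hba
    exact hS1 b hb hba
  · intro t _ htK hta b hb hba x hx
    have htK' := hK t htK
    have := (hS5 t b htK' hta hb hba).1 x hx
    rw [htK'.inv_eq h.hyp] at this
    rw [htK'.inv_eq h.hyp]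
    exact this
  · intro b hb hba
    exact (hS5 τ b (IsK.tau G τ) h.hyp.tau_comm hb hba).2
  · -- core = 1 from (R0)
    intro s hsG hs
    let N : Subgroup Γ :=
      { carrier := {s | s ∈ G ∧ ∀ g ∈ G, Commute s (g⁻¹ * a * g)}
        mul_mem' := fun {x y} hx hy => ⟨G.mul_mem hx.1 hy.1, fun g hg => (hx.2 g hg).mul_left (hy.2 g hg)⟩
        one_mem' := ⟨G.one_mem, fun g _ => Commute.one_left _⟩
        inv_mem' := fun {x} hx => ⟨G.inv_mem hx.1, fun g hg => (hx.2 g hg).inv_left⟩ }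
    have hN : N = ⊥ := by
      apply hR0 N
      · intro x hx; exact hx.1
      · intro g hg x hx
        refine ⟨G.mul_mem (G.mul_mem (G.inv_mem hg) hx.1) hg, ?_⟩
        intro k hk
        have h1 := hx.2 (k * g⁻¹) (G.mul_mem hk (G.inv_mem hg))
        have e := h1.eq
        show g⁻¹ * x * g * (k⁻¹ * a * k) = k⁻¹ * a * k * (g⁻¹ * x * g)
        calc g⁻¹ * x * g * (k⁻¹ * a * k) = g⁻¹ * (x * ((k * g⁻¹)⁻¹ * a * (k * g⁻¹))) * g := by group
          _ = g⁻¹ * (((k * g⁻¹)⁻¹ * a * (k * g⁻¹)) * x) * g := by rw [e]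
          _ = k⁻¹ * a * k * (g⁻¹ * x * g) := by group
      · intro x hx
        have := hx.2 1 G.one_mem
        simpa using this
    have hsN : s ∈ N := ⟨hsG, hs⟩
    rw [hN, Subgroup.mem_bot] at hsN
    exact hsN
  · exact not_odd_of_minCE h

end Cfsg.Agent.Lib.Helper7.GlEnd3
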