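import Mathlib
import Cfsg.Agent.Lib.Helper1.LW.Basic

/-!
# Livingstone–Wagner swarm (S0746), package B-III: `common_fix_six`
-/

set_option autoImplicit false

namespace Cfsg.Agent.Lib.Helper1.LW

variable {α : Type*} [Fintype α] [DecidableEq α] {G : Subgroup (Equiv.Perm α)}

/-- two fixed-point-free involutions of `Fin 4` commute -/
theorem biii_fin4 : ∀ p q : Equiv.Perm (Fin 4), p * p = 1 → q * q = 1 → (∀ x, p x ≠ x) →
    (∀ x, q x ≠ x) → p * q = q * p := by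
  decide

/-- two fixed-point-free involutions of a four-element type commute -/
theorem biii_card4 {β : Type*} [Fintype β] [DecidableEq β] (hβ : Fintype.card β = 4)
    (p q : Equiv.Perm β) (hp : p * p = 1) (hq : q * q = 1) (hpf : ∀ x, p x ≠ x)
    (hqf : ∀ x, q x ≠ x) : p * q = q * p := by
  let e : β ≃ Fin 4 := Fintype.equivFinOfCardEq hβ
  let φ : Equiv.Perm β ≃* Equiv.Perm (Fin 4) := e.permCongrHom
  have hφ : ∀ (r : Equiv.Perm β) (y : Fin 4), φ r y = e (r (e.symm y)) := fun r y => rfl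
  have h1 : φ p * φ q = φ q * φ p := by
    apply biii_fin4
    · rw [← map_mul, hp, map_one]
    · rw [← map_mul, hq, map_one]
    · intro y hy
      rw [hφ] at hy
      apply hpf (e.symm y)
      apply e.injective
      rw [hy, Equiv.apply_symm_apply]
    · intro y hy
      rw [hφ] at hy
      apply hqf (e.symm y)
      apply e.injective
      rw [hy, Equiv.apply_symm_apply]
  apply φ.injective
  rw [map_mul, map_mul, h1]

variable {Γ : Finset α}

/-- a double transposition of a five-set fixes exactly one of its points -/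
theorem biii_dt_fixed (hΓ : Γ.card + 1 = 6) {u : Equiv.Perm α} (hu : IsDT G Γ u) :
    ∃ e ∈ Γ, u e = e ∧ ∀ x ∈ Γ, u x = x → x = e := by
  obtain ⟨-, -, -, h4⟩ := hu
  have h1 : (Γ.filter (fun x => u x = x)).card = 1 := by
    have := Finset.card_filter_add_card_filter_not (s := Γ) (fun x => u x = x)
    simp only [ne_eq] at h4
    omega
  obtain ⟨e, he⟩ := Finset.card_eq_one.mp h1
  have hmem : ∀ x, x ∈ Γ.filter (fun x => u x = x) ↔ x = e := by
    intro x
    rw [he, Finset.mem_singleton]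
  refine ⟨e, ?_, ?_, ?_⟩
  · exact (Finset.mem_filter.mp ((hmem e).mpr rfl)).1
  · exact (Finset.mem_filter.mp ((hmem e).mpr rfl)).2
  · intro x hx hux
    exact (hmem x).mp (Finset.mem_filter.mpr ⟨hx, hux⟩)

/-- the involution property, pointwise -/
theorem biii_invol {u : Equiv.Perm α} (hu : u * u = 1) (x : α) : u (u x) = x := by
  have := congrArg (fun f : Equiv.Perm α => f x) hu
  simpa using this

/-- two double transpositions with the same fixed point in `Γ` commute on `Γ` -/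
theorem biii_comm_on (hΓ : Γ.card + 1 = 6) {u u' : Equiv.Perm α} (hu : IsDT G Γ u)
    (hu' : IsDT G Γ u') {e : α} (he : e ∈ Γ) (hue : u e = e) (hu'e : u' e = e) :
    ∀ x ∈ Γ, u (u' x) = u' (u x) := by
  -- general facts for a DT fixing `e`
  have key : ∀ v : Equiv.Perm α, IsDT G Γ v → v e = e →
      (∀ x, v x ∈ Γ.erase e ↔ x ∈ Γ.erase e) ∧ (∀ x ∈ Γ.erase e, v x ≠ x) := by
    intro v hv hve
    obtain ⟨e', he', hve', huniq⟩ := biii_dt_fixed hΓ hv
    have hee' : e = e' := huniq e he hve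
    have hinv := biii_invol hv.2.1
    constructor
    · intro x
      simp only [Finset.mem_erase]
      constructor
      · rintro ⟨h1, h2⟩
        refine ⟨?_, ?_⟩
        · rintro rfl
          exact h1 hve
        · have := hv.2.2.1 _ h2
          rwa [hinv] at this
      · rintro ⟨h1, h2⟩
        refine ⟨?_, hv.2.2.1 _ h2⟩
        intro h3
        apply h1
        apply v.injective
        rw [h3, hve]
    · intro x hx hvx
      have hx' := Finset.mem_erase.mp hx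
      apply hx'.1
      rw [hee']
      exact huniq x hx'.2 hvx
  obtain ⟨hst, hfp⟩ := key u hu hue
  obtain ⟨hst', hfp'⟩ := key u' hu' hu'e
  have hcard : Fintype.card {x // x ∈ Γ.erase e} = 4 := by
    rw [Fintype.card_coe, Finset.card_erase_of_mem he]
    omega
  let p : Equiv.Perm {x // x ∈ Γ.erase e} := u.subtypePerm hst
  let q : Equiv.Perm {x // x ∈ Γ.erase e} := u'.subtypePerm hst'
  have hp : p * p = 1 := by
    ext x
    simp only [Equiv.Perm.mul_apply, Equiv.Perm.one_apply]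
    exact biii_invol hu.2.1 x
  have hq : q * q = 1 := by
    ext x
    simp only [Equiv.Perm.mul_apply, Equiv.Perm.one_apply]
    exact biii_invol hu'.2.1 x
  have hpf : ∀ x, p x ≠ x := by
    intro x hx
    exact hfp x x.2 (congrArg Subtype.val hx)
  have hqf : ∀ x, q x ≠ x := by
    intro x hx
    exact hfp' x x.2 (congrArg Subtype.val hx)
  have hpq := biii_card4 hcard p q hp hq hpf hqf
  intro x hx
  by_cases hxe : x = e
  · rw [hxe, hu'e, hue, hu'e]
  · have hxm : x ∈ Γ.erase e := Finset.mem_erase.mpr ⟨hxe, hx⟩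
    have := congrArg (fun f : Equiv.Perm {x // x ∈ Γ.erase e} => ((f ⟨x, hxm⟩ : _) : α)) hpq
    exact this

/-- the element produced by `BK.dt_exists` is a double transposition -/
theorem biii_isDT (h : Cfg G 6) (hΓ : Γ.card + 1 = 6) {a b c d : α} (ha : a ∈ Γ) (hb : b ∈ Γ)
    (hc : c ∈ Γ) (hd : d ∈ Γ) (hab : a ≠ b) (hac : a ≠ c) (had : a ≠ d) (hbc : b ≠ c)
    (hbd : b ≠ d) (hcd : c ≠ d) {g : Equiv.Perm α} (hg : g ∈ G)
    (hfix : FixOn g (Γ \ {a, b, c, d})) (hs1 : Swaps g a b) (hs2 : Swaps g c d) :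
    IsDT G Γ g := by
  have hcases : ∀ x ∈ Γ, x = a ∨ x = b ∨ x = c ∨ x = d ∨ g x = x := by
    intro x hx
    by_cases h1 : x ∈ ({a, b, c, d} : Finset α)
    · simp only [Finset.mem_insert, Finset.mem_singleton] at h1
      tauto
    · right; right; right; right
      exact hfix x (Finset.mem_sdiff.mpr ⟨hx, h1⟩)
  have hgg : g * g = 1 := by
    apply h.eq_one_of_fixOn (G.mul_mem hg hg) (S := Γ) (by omega)
    intro x hx
    rw [Equiv.Perm.mul_apply]
    rcases hcases x hx with rfl | rfl | rfl | rfl | h1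
    · rw [hs1.1, hs1.2]
    · rw [hs1.2, hs1.1]
    · rw [hs2.1, hs2.2]
    · rw [hs2.2, hs2.1]
    · rw [h1, h1]
  refine ⟨hg, hgg, ?_, ?_⟩
  · intro x hx
    rcases hcases x hx with rfl | rfl | rfl | rfl | h1
    · rw [hs1.1]; exact hb
    · rw [hs1.2]; exact ha
    · rw [hs2.1]; exact hd
    · rw [hs2.2]; exact hc
    · rw [h1]; exact hx
  · have hset : Γ.filter (fun x => g x ≠ x) = {a, b, c, d} := by
      ext x
      simp only [Finset.mem_filter, Finset.mem_insert, Finset.mem_singleton]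
      constructor
      · rintro ⟨hx, hgx⟩
        rcases hcases x hx with h1 | h1 | h1 | h1 | h1
        · exact Or.inl h1
        · exact Or.inr (Or.inl h1)
        · exact Or.inr (Or.inr (Or.inl h1))
        · exact Or.inr (Or.inr (Or.inr h1))
        · exact absurd h1 hgx
      · rintro (rfl | rfl | rfl | rfl)
        · exact ⟨ha, by rw [hs1.1]; exact hab.symm⟩
        · exact ⟨hb, by rw [hs1.2]; exact hab⟩
        · exact ⟨hc, by rw [hs2.1]; exact hcd.symm⟩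
        · exact ⟨hd, by rw [hs2.2]; exact hcd⟩
    rw [hset, Finset.card_insert_of_notMem, Finset.card_insert_of_notMem,
      Finset.card_insert_of_notMem, Finset.card_singleton]
    · simp [hcd]
    · simp [hbc, hbd]
    · simp [hab, hac, had]

/-- conjugating a double transposition by an element stabilising `Γ` -/
theorem biii_conj {u g : Equiv.Perm α} (hu : IsDT G Γ u) (hg : g ∈ G)
    (hgΓ : ∀ x ∈ Γ, g x ∈ Γ) (hgΓ' : ∀ x ∈ Γ, g⁻¹ x ∈ Γ) : IsDT G Γ (g * u * g⁻¹) := by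
  obtain ⟨huG, huu, huΓ, hu4⟩ := hu
  refine ⟨G.mul_mem (G.mul_mem hg huG) (G.inv_mem hg), ?_, ?_, ?_⟩
  · have : g * u * g⁻¹ * (g * u * g⁻¹) = g * (u * u) * g⁻¹ := by group
    rw [this, huu]
    group
  · intro x hx
    simp only [Equiv.Perm.mul_apply]
    exact hgΓ _ (huΓ _ (hgΓ' x hx))
  · have hset : Γ.filter (fun x => (g * u * g⁻¹) x ≠ x) =
        (Γ.filter (fun x => u x ≠ x)).image g := by
      ext x
      rw [Finset.mem_filter, Finset.mem_image]
      constructor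
      · rintro ⟨hx, hne⟩
        refine ⟨g⁻¹ x, Finset.mem_filter.mpr ⟨hgΓ' x hx, ?_⟩, by simp⟩
        intro h1
        apply hne
        simp only [Equiv.Perm.mul_apply]
        rw [h1]
        simp
      · rintro ⟨y, hy, rfl⟩
        obtain ⟨hy, hne⟩ := Finset.mem_filter.mp hy
        refine ⟨hgΓ y hy, ?_⟩
        intro h1
        apply hne
        apply g.injective
        simpa using h1
    rw [hset, Finset.card_image_of_injective _ g.injective, hu4]

/-- the numerical contradiction for `k = 6` -/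
theorem biii_numerics (n r s : ℕ) (hrs : s * r + 6 = n + 2) (hr : 2 ≤ r)
    (hr2 : r * (n + 1 - 6) ∣ Nat.factorial 6) (hn : 2 * 6 ≤ n) (heven : Even (n - 6))
    (h3 : 3 ∣ s) : False := by
  have hfac : Nat.factorial 6 = 720 := by decide
  rw [hfac] at hr2
  obtain ⟨m, hm⟩ : ∃ m, m = n + 1 - 6 := ⟨_, rfl⟩
  rw [← hm] at hr2
  have hm720 : m ∣ 720 := Dvd.dvd.trans (Dvd.intro_left r rfl) hr2
  have hm1 : m + 1 = s * r := by omega
  have hsr_even : Even (s * r) := by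
    obtain ⟨t, ht⟩ := heven
    exact ⟨t + 1, by omega⟩
  have h3' : 3 ∣ s * r := Dvd.dvd.mul_right h3 r
  have hm6 : m % 6 = 5 := by
    obtain ⟨t, ht⟩ := hsr_even
    obtain ⟨w, hw⟩ := h3'
    omega
  have hm7 : 7 ≤ m := by omega
  obtain ⟨c, hc⟩ := hm720
  have hc1 : 1 ≤ c := by
    rcases Nat.eq_zero_or_pos c with h0 | h0
    · rw [h0] at hc; omega
    · exact h0
  have hc102 : c ≤ 102 := by
    by_contra hcon
    push Not at hcon
    have : 7 * 103 ≤ m * c := Nat.mul_le_mul hm7 hcon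
    omega
  interval_cases c <;> omega

/-- naming the elements of a five-set -/
theorem biii_five (hΓ : Γ.card = 5) {d e : α} (hd : d ∈ Γ) (he : e ∈ Γ) (hde : d ≠ e) :
    ∃ a b c, a ∈ Γ ∧ b ∈ Γ ∧ c ∈ Γ ∧ a ≠ b ∧ a ≠ c ∧ b ≠ c ∧ a ≠ d ∧ a ≠ e ∧ b ≠ d ∧ b ≠ e ∧
      c ≠ d ∧ c ≠ e ∧ ∀ x ∈ Γ, x = a ∨ x = b ∨ x = c ∨ x = d ∨ x = e := by
  have he' : e ∈ Γ.erase d := Finset.mem_erase.mpr ⟨hde.symm, he⟩
  have h3 : ((Γ.erase d).erase e).card = 3 := by
    rw [Finset.card_erase_of_mem he', Finset.card_erase_of_mem hd, hΓ]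
  obtain ⟨a, b, c, hab, hac, hbc, hset⟩ := Finset.card_eq_three.mp h3
  have hmem : ∀ x, x ∈ (Γ.erase d).erase e ↔ x = a ∨ x = b ∨ x = c := by
    intro x
    rw [hset]
    simp
  have hmem' : ∀ x, (x = a ∨ x = b ∨ x = c) → x ≠ e ∧ x ≠ d ∧ x ∈ Γ := by
    intro x hx
    have := (hmem x).mpr hx
    rw [Finset.mem_erase, Finset.mem_erase] at this
    exact ⟨this.1, this.2.1, this.2.2⟩
  obtain ⟨ha1, ha2, ha3⟩ := hmem' a (Or.inl rfl)
  obtain ⟨hb1, hb2, hb3⟩ := hmem' b (Or.inr (Or.inl rfl))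
  obtain ⟨hc1, hc2, hc3⟩ := hmem' c (Or.inr (Or.inr rfl))
  refine ⟨a, b, c, ha3, hb3, hc3, hab, hac, hbc, ha2, ha1, hb2, hb1, hc2, hc1, ?_⟩
  intro x hx
  by_cases hxd : x = d
  · exact Or.inr (Or.inr (Or.inr (Or.inl hxd)))
  · by_cases hxe : x = e
    · exact Or.inr (Or.inr (Or.inr (Or.inr hxe)))
    · have : x ∈ (Γ.erase d).erase e :=
        Finset.mem_erase.mpr ⟨hxe, Finset.mem_erase.mpr ⟨hxd, hx⟩⟩
      rcases (hmem x).mp this with h1 | h1 | h1
      · exact Or.inl h1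
      · exact Or.inr (Or.inl h1)
      · exact Or.inr (Or.inr (Or.inl h1))

/-- Package B-III. -/
theorem common_fix_six {r s : ℕ} (h : Cfg G 6) (w : WK G 6) (sk : SK G 6) (nk : NK G 6 r s)
    (bk : BK G 6) (heven : Even (Fintype.card α - 6)) :
    ∀ Γ : Finset α, Γ.card + 1 = 6 → ∃ δ, δ ∉ Γ ∧ ∀ g, IsDT G Γ g → g δ = δ := by
  intro Γ hΓ
  by_contra hcon
  push Not at hcon
  have hcard5 : Γ.card = 5 := by omega
  have lemA : ∀ u u' : Equiv.Perm α, IsDT G Γ u → IsDT G Γ u' → ∀ e ∈ Γ, u e = e → u' e = e →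
      ∀ δ, δ ∉ Γ → u δ = δ → u' δ = δ := by
    intro u u' hu hu' e he hue hu'e δ hδ huδ
    exact bk.dt_comm Γ hΓ u u' hu hu' (biii_comm_on hΓ hu hu' he hue hu'e) δ hδ huδ
  -- a first double transposition
  obtain ⟨d', hd'⟩ : Γ.Nonempty := Finset.card_pos.mp (by omega)
  obtain ⟨e', he'⟩ : (Γ.erase d').Nonempty := Finset.card_pos.mp (by
    rw [Finset.card_erase_of_mem hd']; omega)
  have he'Γ : e' ∈ Γ := Finset.mem_of_mem_erase he'
  have hd'e' : d' ≠ e' := (Finset.ne_of_mem_erase he').symm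
  obtain ⟨a', b', c', ha', hb', hc', hab', hac', hbc', -, hae', -, hbe', -, hce', -⟩ :=
    biii_five hcard5 hd' he'Γ hd'e'
  obtain ⟨u₀, hu₀G, hu₀fix, hu₀s1, hu₀s2⟩ :=
    bk.dt_exists Γ hΓ a' ha' b' hb' c' hc' e' he'Γ hab' hac' hae' hbc' hbe' hce'
  have hu₀ : IsDT G Γ u₀ :=
    biii_isDT h hΓ ha' hb' hc' he'Γ hab' hac' hae' hbc' hbe' hce' hu₀G hu₀fix hu₀s1 hu₀s2
  obtain ⟨d, hdΓ, hu₀d, -⟩ := biii_dt_fixed hΓ hu₀
  obtain ⟨δ₀, hδ₀, hu₀δ₀, -⟩ := bk.dt_fix Γ hΓ u₀ hu₀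
  -- a second one, not fixing `δ₀`
  obtain ⟨u₁, hu₁, hu₁δ₀⟩ := hcon δ₀ hδ₀
  obtain ⟨e, heΓ, hu₁e, -⟩ := biii_dt_fixed hΓ hu₁
  obtain ⟨δ₁, hδ₁, hu₁δ₁, -⟩ := bk.dt_fix Γ hΓ u₁ hu₁
  have hde : d ≠ e := by
    rintro rfl
    exact hu₁δ₀ (lemA u₀ u₁ hu₀ hu₁ d hdΓ hu₀d hu₁e δ₀ hδ₀ hu₀δ₀)
  have hδ01 : δ₀ ≠ δ₁ := by
    rintro rfl
    exact hu₁δ₀ hu₁δ₁
  -- the three-cycle
  obtain ⟨a, b, c, ha, hb, hc, hab, hac, hbc, had, hae, hbd, hbe, hcd, hce, hall⟩ :=
    biii_five hcard5 hdΓ heΓ hde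
  obtain ⟨g₁, hg₁G, hg₁fix, hg₁ab, hg₁de⟩ :=
    bk.dt_exists Γ hΓ a ha b hb d hdΓ e heΓ hab had hae hbd hbe hde
  obtain ⟨g₂, hg₂G, hg₂fix, hg₂bc, hg₂de⟩ :=
    bk.dt_exists Γ hΓ b hb c hc d hdΓ e heΓ hbc hbd hbe hcd hce hde
  have hg₁c : g₁ c = c := by
    apply hg₁fix c
    rw [Finset.mem_sdiff]
    refine ⟨hc, ?_⟩
    simp only [Finset.mem_insert, Finset.mem_singleton]
    rintro (h1 | h1 | h1 | h1)
    · exact hac h1.symm
    · exact hbc h1.symm
    · exact hcd h1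
    · exact hce h1
  have hg₂a : g₂ a = a := by
    apply hg₂fix a
    rw [Finset.mem_sdiff]
    refine ⟨ha, ?_⟩
    simp only [Finset.mem_insert, Finset.mem_singleton]
    rintro (h1 | h1 | h1 | h1)
    · exact hab h1
    · exact hac h1
    · exact had h1
    · exact hae h1
  obtain ⟨g, hgdef⟩ : ∃ g, g = g₁ * g₂ := ⟨_, rfl⟩
  have hgG : g ∈ G := by rw [hgdef]; exact G.mul_mem hg₁G hg₂G
  have hga : g a = b := by rw [hgdef, Equiv.Perm.mul_apply, hg₂a, hg₁ab.1]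
  have hgb : g b = c := by rw [hgdef, Equiv.Perm.mul_apply, hg₂bc.1, hg₁c]
  have hgc : g c = a := by rw [hgdef, Equiv.Perm.mul_apply, hg₂bc.2, hg₁ab.2]
  have hgd : g d = d := by rw [hgdef, Equiv.Perm.mul_apply, hg₂de.1, hg₁de.2]
  have hge : g e = e := by rw [hgdef, Equiv.Perm.mul_apply, hg₂de.2, hg₁de.1]
  have hgΓ : ∀ x ∈ Γ, g x ∈ Γ := by
    intro x hx
    rcases hall x hx with rfl | rfl | rfl | rfl | rfl
    · rw [hga]; exact hb
    · rw [hgb]; exact hc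
    · rw [hgc]; exact ha
    · rw [hgd]; exact hdΓ
    · rw [hge]; exact heΓ
  have hg3 : g * g * g = 1 := by
    apply h.eq_one_of_fixOn (G.mul_mem (G.mul_mem hgG hgG) hgG) (S := Γ) (by omega)
    intro x hx
    simp only [Equiv.Perm.mul_apply]
    rcases hall x hx with rfl | rfl | rfl | rfl | rfl
    · rw [hga, hgb, hgc]
    · rw [hgb, hgc, hga]
    · rw [hgc, hga, hgb]
    · rw [hgd, hgd, hgd]
    · rw [hge, hge, hge]
  have hginv : g⁻¹ = g * g := (eq_inv_of_mul_eq_one_left hg3).symm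
  have hgΓ' : ∀ x ∈ Γ, g⁻¹ x ∈ Γ := by
    intro x hx
    rw [hginv, Equiv.Perm.mul_apply]
    exact hgΓ _ (hgΓ _ hx)
  have hg1 : g ≠ 1 := by
    intro h1
    rw [h1] at hga
    exact hab hga
  -- `g` fixes the outer fixed points
  have fixδ : ∀ (u : Equiv.Perm α) (δ z : α), IsDT G Γ u → z ∈ Γ → u z = z → g z = z → δ ∉ Γ →
      u δ = δ → g δ = δ := by
    intro u δ z hu hz huz hgz hδ huδ
    have hu' : IsDT G Γ (g * u * g⁻¹) := biii_conj hu hgG hgΓ hgΓ'
    have hginvz : g⁻¹ z = z := by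
      rw [Equiv.Perm.inv_eq_iff_eq, hgz]
    have hu'z : (g * u * g⁻¹) z = z := by
      simp only [Equiv.Perm.mul_apply]
      rw [hginvz, huz, hgz]
    have hu'δ : (g * u * g⁻¹) δ = δ := lemA u _ hu hu' z hz huz hu'z δ hδ huδ
    have hu'gδ : (g * u * g⁻¹) (g δ) = g δ := by
      simp only [Equiv.Perm.mul_apply]
      rw [show g⁻¹ (g δ) = δ from by simp, huδ]
    have hgδ : g δ ∉ Γ := by
      intro hmem
      apply hδ
      have := hgΓ' _ hmem
      rwa [show g⁻¹ (g δ) = δ from by simp] at this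
    obtain ⟨δ', -, -, huniq⟩ := bk.dt_fix Γ hΓ _ hu'
    rw [huniq (g δ) hgδ hu'gδ]
    exact (huniq δ hδ hu'δ).symm
  have hgδ₀ : g δ₀ = δ₀ := fixδ u₀ δ₀ d hu₀ hdΓ hu₀d hgd hδ₀ hu₀δ₀
  have hgδ₁ : g δ₁ = δ₁ := fixδ u₁ δ₁ e hu₁ heΓ hu₁e hge hδ₁ hu₁δ₁
  -- `g` fixes four points, so `g ^ s = 1`
  have hdδ₀ : d ≠ δ₀ := fun h1 => hδ₀ (h1 ▸ hdΓ)
  have hdδ₁ : d ≠ δ₁ := fun h1 => hδ₁ (h1 ▸ hdΓ)
  have heδ₀ : e ≠ δ₀ := fun h1 => hδ₀ (h1 ▸ heΓ)
  have heδ₁ : e ≠ δ₁ := fun h1 => hδ₁ (h1 ▸ heΓ)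
  have hΓ0card : ({d, e, δ₀, δ₁} : Finset α).card + 2 = 6 := by
    rw [Finset.card_insert_of_notMem, Finset.card_insert_of_notMem,
      Finset.card_insert_of_notMem, Finset.card_singleton]
    · simp [hδ01]
    · simp [heδ₀, heδ₁]
    · simp [hde, hdδ₀, hdδ₁]
  have hΓ0fix : FixOn g ({d, e, δ₀, δ₁} : Finset α) := by
    intro x hx
    simp only [Finset.mem_insert, Finset.mem_singleton] at hx
    rcases hx with rfl | rfl | rfl | rfl
    · exact hgd
    · exact hge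
    · exact hgδ₀
    · exact hgδ₁
  have hpow : g ^ s = 1 := nk.hpow g hgG _ hΓ0card hΓ0fix
  have hord : orderOf g = 3 := by
    haveI : Fact (Nat.Prime 3) := ⟨Nat.prime_three⟩
    apply orderOf_eq_prime _ hg1
    rw [pow_three', hg3]
  have h3s : 3 ∣ s := by
    rw [← hord]
    exact orderOf_dvd_of_pow_eq_one hpow
  exact biii_numerics (Fintype.card α) r s nk.hrs nk.hr nk.hr2 h.hkn heven h3s

end Cfsg.Agent.Lib.Helper1.LW
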