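import Mathlib
import Cfsg.Agent.Lib.Lead.MixCfg

/-!
# S4017, package P2 (part): the fields `pdvd`, `nloc`, `dih`, `inv_conj` of `CfgB`

`notes/S4017_paper_lead.md`, §1.1, §1.6, §1.7.
-/

set_option autoImplicit false

namespace Cfsg.Agent.Lib.Helper7.Mix

open Cfsg.Agent.Lib.Lead.Mix

universe u

variable {G : Type u} [Group G] [Finite G] {p a : ℕ} {Q : Subgroup G} {w : G}

/-- `Q` has at least two non-identity elements -/
theorem cfg_exists_two (h : Cfg G p a Q w) : ∃ x ∈ Q, ∃ y ∈ Q, x ≠ 1 ∧ y ≠ 1 ∧ x ≠ y := by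
  classical
  have h4 : 4 ≤ Nat.card Q := by
    rw [h.Qcard]
    calc 4 = 2 ^ 2 := by norm_num
      _ ≤ 2 ^ a := Nat.pow_le_pow_right (by norm_num) h.ha
  haveI : Fintype Q := Fintype.ofFinite Q
  rw [Nat.card_eq_fintype_card] at h4
  have h1 : 1 < Fintype.card Q := by omega
  obtain ⟨x, hx⟩ := Fintype.exists_ne_of_one_lt_card h1 (1 : Q)
  have h2 : 2 < Fintype.card Q := by omega
  obtain ⟨y, hy1, hy2⟩ : ∃ y : Q, y ≠ 1 ∧ y ≠ x := by
    by_contra hcon
    push_neg at hcon
    have : Fintype.card Q ≤ 2 := by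
      have hsub : (Finset.univ : Finset Q) ⊆ {1, x} := by
        intro y _
        by_cases hy : y = 1
        · simp [hy]
        · simp [hcon y hy]
      calc Fintype.card Q = (Finset.univ : Finset Q).card := rfl
        _ ≤ ({1, x} : Finset Q).card := Finset.card_le_card hsub
        _ ≤ 2 := Finset.card_le_two
    omega
  refine ⟨x, x.2, y, y.2, ?_, ?_, ?_⟩
  · intro h0; exact hx (Subtype.ext h0)
  · intro h0; exact hy1 (Subtype.ext h0)
  · intro h0; exact hy2 (Subtype.ext h0.symm)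

/-- `w ≠ 1` -/
theorem cfg_w_ne_one (h : Cfg G p a Q w) : w ≠ 1 := by
  intro hw
  obtain ⟨x, hx, y, hy, hx1, hy1, hxy⟩ := cfg_exists_two h
  obtain ⟨i, hi⟩ := h.wtr x hx hx1 y hy hy1
  rw [hw] at hi
  simp at hi
  exact hxy hi

/-- (1.1) `p` divides `|G|` -/
theorem cfg_pdvd (h : Cfg G p a Q w) : p ∣ Nat.card G := by
  obtain ⟨k, hk⟩ := h.wp
  have hk0 : k ≠ 0 := by
    rintro rfl
    rw [pow_zero, orderOf_eq_one_iff] at hk
    exact cfg_w_ne_one h hk
  have h1 : p ∣ orderOf w := by rw [hk]; exact dvd_pow_self p hk0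
  exact h1.trans (orderOf_dvd_natCard w)

/-- (1.1) normalizers of proper non-trivial subgroups are proper -/
theorem cfg_nloc (h : Cfg G p a Q w) (X : Subgroup G) (hX1 : X ≠ ⊥) (hX2 : X ≠ ⊤) :
    Subgroup.normalizer (X : Set G) ≠ ⊤ := by
  intro htop
  have hn : X.Normal := Subgroup.normalizer_eq_top_iff.mp htop
  rcases h.simp X hn with h1 | h1
  · exact hX1 h1
  · exact hX2 h1

/-- the `2`-part of `|G|` is `2 ^ a` -/
theorem cfg_factorization (h : Cfg G p a Q w) : (Nat.card G).factorization 2 = a := by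
  have hG0 : Nat.card G ≠ 0 := Nat.card_pos.ne'
  have h1 : 2 ^ a ∣ Nat.card G := by
    rw [← h.Qcard]; exact Subgroup.card_subgroup_dvd_card Q
  have h2 : a ≤ (Nat.card G).factorization 2 :=
    (Nat.Prime.pow_dvd_iff_le_factorization Nat.prime_two hG0).mp h1
  have h3 : ¬ a + 1 ≤ (Nat.card G).factorization 2 := fun hle =>
    h.Gcard ((Nat.Prime.pow_dvd_iff_le_factorization Nat.prime_two hG0).mpr hle)
  omega

/-- every `2`-element is conjugate into `Q` -/
theorem cfg_conj_mem (h : Cfg G p a Q w) (x : G) (hx : ∃ k : ℕ, orderOf x = 2 ^ k) :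
    ∃ g : G, g * x * g⁻¹ ∈ Q := by
  haveI : Fact (Nat.Prime 2) := ⟨Nat.prime_two⟩
  have hQc : Nat.card Q = 2 ^ (Nat.card G).factorization 2 := by
    rw [cfg_factorization h, h.Qcard]
  let QS : Sylow 2 G := Sylow.ofCard Q hQc
  have hz : IsPGroup 2 (Subgroup.zpowers x) := by
    obtain ⟨k, hk⟩ := hx
    apply IsPGroup.of_card (n := k)
    rw [Nat.card_zpowers, hk]
  obtain ⟨S, hS⟩ := hz.exists_le_sylow
  obtain ⟨g, hg⟩ := MulAction.exists_smul_eq G S QS
  refine ⟨g, ?_⟩
  have hxS : x ∈ (S : Subgroup G) := hS (Subgroup.mem_zpowers x)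
  have h1 : g * x * g⁻¹ ∈ ((g • S : Sylow 2 G) : Subgroup G) := by
    rw [Sylow.coe_subgroup_smul]
    exact ⟨x, hxS, by simp [MulAut.smul_def, MulAut.conj_apply]⟩
  rw [hg] at h1
  exact h1

/-- (1.7) every involution is conjugate into `Q` -/
theorem cfg_inv_conj (h : Cfg G p a Q w) (s : G) (hs1 : s ≠ 1) (hs2 : s ^ 2 = 1) :
    ∃ g : G, g * s * g⁻¹ ∈ Q := by
  apply cfg_conj_mem h s
  refine ⟨1, ?_⟩
  rw [pow_one]
  exact orderOf_eq_prime hs2 hs1

/-- there is no element of order `4` -/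
theorem cfg_no_order_four (h : Cfg G p a Q w) (d : G) (hd : orderOf d = 4) : False := by
  obtain ⟨g, hg⟩ := cfg_conj_mem h d ⟨2, by rw [hd]; norm_num⟩
  have h1 := h.Qexp _ hg
  have h2 : (g * d * g⁻¹) ^ 2 = g * d ^ 2 * g⁻¹ := by
    rw [pow_two, pow_two]; group
  rw [h2] at h1
  have h3 : d ^ 2 = 1 := by
    have : d ^ 2 = g⁻¹ * (g * d ^ 2 * g⁻¹) * g := by group
    rw [this, h1]; group
  have := orderOf_dvd_of_pow_eq_one h3
  rw [hd] at this
  omega

/-- (1.6) the product of two involutions has order `p ^ j` or `2 p ^ j` -/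
theorem cfg_dih (h : Cfg G p a Q w) (s t : G) (hs1 : s ≠ 1) (ht1 : t ≠ 1) (hs2 : s ^ 2 = 1)
    (ht2 : t ^ 2 = 1) : ∃ j : ℕ, orderOf (s * t) = p ^ j ∨ orderOf (s * t) = 2 * p ^ j := by
  set n := orderOf (s * t) with hn
  have hn0 : n ≠ 0 := (orderOf_pos (s * t)).ne'
  have hsinv : s⁻¹ = s := by
    rw [inv_eq_iff_mul_eq_one, ← pow_two]; exact hs2
  have htinv : t⁻¹ = t := by
    rw [inv_eq_iff_mul_eq_one, ← pow_two]; exact ht2
  -- `t` inverts `s t`
  have hinv : t * (s * t) * t⁻¹ = (s * t)⁻¹ := by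
    rw [mul_inv_rev, hsinv, htinv]
    calc t * (s * t) * t = t * s * (t * t) := by group
      _ = t * s := by rw [← pow_two, ht2, mul_one]
  have hto : orderOf t = 2 := orderOf_eq_prime ht2 ht1
  -- every prime divisor of `n` is `2` or `p`
  have hprime : ∀ r : ℕ, r.Prime → r ∣ n → r = 2 ∨ r = p := by
    intro r hr hrn
    by_contra hcon
    push_neg at hcon
    set c := (s * t) ^ (n / r) with hc
    have hco : orderOf c = r := by
      rw [hc, orderOf_pow_of_dvd (by
        intro h0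
        have := Nat.div_eq_zero_iff.mp h0
        rcases this with h1 | h1
        · exact hr.ne_zero h1
        · exact absurd (Nat.le_of_dvd (Nat.pos_of_ne_zero hn0) hrn) (by omega)) (Nat.div_dvd_of_dvd hrn),
        ← hn, Nat.div_div_self hrn hn0]
    have hc1 : c ≠ 1 := by
      intro h1
      rw [h1, orderOf_one] at hco
      exact hr.one_lt.ne hco
    have htc : t * c * t⁻¹ = c⁻¹ := by
      rw [hc]
      have : t * (s * t) ^ (n / r) * t⁻¹ = (t * (s * t) * t⁻¹) ^ (n / r) := by
        rw [conj_pow]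
      rw [this, hinv, inv_pow]
    set X : Subgroup G := Subgroup.zpowers c with hX
    have hXbot : X ≠ ⊥ := by
      intro hb
      have : c ∈ X := Subgroup.mem_zpowers c
      rw [hb, Subgroup.mem_bot] at this
      exact hc1 this
    have hXcard : Nat.card X = r := by rw [hX, Nat.card_zpowers, hco]
    have htN : t ∈ Subgroup.normalizer (X : Set G) := by
      rw [Subgroup.mem_normalizer_iff]
      have key : ∀ y : G, y ∈ X → t * y * t⁻¹ ∈ X := by
        intro y hy
        obtain ⟨k, rfl⟩ := Subgroup.mem_zpowers_iff.mp hy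
        have : t * c ^ k * t⁻¹ = (t * c * t⁻¹) ^ k := by rw [conj_zpow]
        rw [this, htc]
        exact X.zpow_mem (X.inv_mem (Subgroup.mem_zpowers c)) k
      intro y
      constructor
      · exact key y
      · intro hy
        have := key _ hy
        have e : t * (t * y * t⁻¹) * t⁻¹ = y := by
          rw [htinv]
          calc t * (t * y * t) * t = (t * t) * y * (t * t) := by group
            _ = y := by rw [← pow_two, ht2, one_mul, mul_one]
        rwa [e] at this
    set N : Subgroup G := Subgroup.normalizer (X : Set G) with hN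
    have h2N : 2 ∣ Nat.card N := by
      have : orderOf (⟨t, htN⟩ : N) = 2 := by
        rw [← Subgroup.orderOf_coe]; exact hto
      rw [← this]; exact orderOf_dvd_natCard _
    have hrN : r ∣ Nat.card N := by
      have : Nat.card X ∣ Nat.card N := Subgroup.card_dvd_of_le Subgroup.le_normalizer
      rwa [hXcard] at this
    have hXtop : X ≠ ⊤ := by
      intro htop
      have h2G : 2 ∣ Nat.card G := hto ▸ orderOf_dvd_natCard t
      have : Nat.card X = Nat.card G := by rw [htop, Subgroup.card_top]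
      rw [hXcard] at this
      rw [← this] at h2G
      exact hcon.1 ((Nat.prime_dvd_prime_iff_eq Nat.prime_two hr).mp h2G).symm
    have hNtop : N ≠ ⊤ := cfg_nloc h X hXbot hXtop
    rcases h.prop N hNtop h2N r hr hrN with h1 | h1
    · exact hcon.1 h1
    · exact hcon.2 h1
  -- `n = 2 ^ i * m`, `m` odd
  obtain ⟨i, m, hm, hnm⟩ := Nat.exists_eq_two_pow_mul_odd hn0
  have hm0 : m ≠ 0 := by
    rintro rfl
    simp at hm
  have hmp : m = p ^ m.primeFactorsList.length := by
    apply Nat.eq_prime_pow_of_unique_prime_dvd hm0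
    intro d hd hdm
    rcases hprime d hd (hnm ▸ Dvd.dvd.mul_left hdm _) with h1 | h1
    · exfalso
      rw [h1] at hdm
      exact (Nat.not_even_iff_odd.mpr hm) (even_iff_two_dvd.mpr hdm)
    · exact h1
  have hi : i ≤ 1 := by
    by_contra hi
    push_neg at hi
    have h4 : 4 ∣ n := by
      rw [hnm]
      have : (4 : ℕ) = 2 ^ 2 := by norm_num
      rw [this]
      exact Dvd.dvd.mul_right (pow_dvd_pow 2 hi) _
    have hd4 : orderOf ((s * t) ^ (n / 4)) = 4 := by
      rw [orderOf_pow_of_dvd (by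
        intro h0
        have := Nat.div_eq_zero_iff.mp h0
        rcases this with h1 | h1
        · omega
        · exact absurd (Nat.le_of_dvd (Nat.pos_of_ne_zero hn0) h4) (by omega)) (Nat.div_dvd_of_dvd h4),
        ← hn, Nat.div_div_self h4 hn0]
    exact cfg_no_order_four h _ hd4
  refine ⟨m.primeFactorsList.length, ?_⟩
  interval_cases i
  · left
    rw [hnm, pow_zero, one_mul]
    exact hmp
  · right
    rw [hnm, pow_one, ← hmp]

end Cfsg.Agent.Lib.Helper7.Mix
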