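import Mathlib
import Cfsg.Agent.Lib.Helper5.SylTor6

set_option autoImplicit false

namespace Cfsg.Agent.Lib.Helper7.CarveL5Aux

open Module Cfsg.Agent.Lib.Helper5 Cfsg.Agent.Lib.Helper5.SylTor

universe u

/-- an isometry `T` with `T ^ r = 1` of a nondegenerate alternating space of dimension `2n` gives
a symplectic matrix `x` with `x ^ r = 1` and `rank (x - 1) = rank (T - 1)`. -/
theorem exists_sp_of_isometry {F : Type u} [Field F] {W : Type*} [AddCommGroup W] [Module F W]
    [FiniteDimensional F W]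
    (B : LinearMap.BilinForm F W) (hB : B.IsAlt) (hnd : ∀ x, (∀ y, B x y = 0) → x = 0)
    {n : ℕ} (hdim : finrank F W = 2 * n) (T : W →ₗ[F] W)
    (hpres : ∀ x y, B (T x) (T y) = B x y) (r : ℕ) (hT : T ^ r = 1) :
    ∃ x : Matrix.symplecticGroup (Fin n) F, x ^ r = 1 ∧
      finrank F (LinearMap.range
        (Matrix.toLin' (x : Matrix (Fin n ⊕ Fin n) (Fin n ⊕ Fin n) F) - 1)) =
        finrank F (LinearMap.range (T - 1)) := by
  classical
  obtain ⟨m, b, hm, hb⟩ := AltForm.exists_symplectic_basis hB hnd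
  obtain rfl : m = n := by omega
  have hgram : LinearMap.BilinForm.toMatrix b B = Matrix.J (Fin m) F := by
    ext x y
    rw [LinearMap.BilinForm.toMatrix_apply, hb]
  have hmem : LinearMap.toMatrix b b T ∈ Matrix.symplecticGroup (Fin m) F := by
    rw [SymplecticGroup.mem_iff']
    have h1 := LinearMap.BilinForm.toMatrix_comp b b B T T
    have h2 : B.comp T T = B := by
      ext x y
      simp [hpres]
    rw [h2, hgram] at h1
    exact h1.symm
  refine ⟨⟨LinearMap.toMatrix b b T, hmem⟩, ?_, ?_⟩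
  · apply Subtype.ext
    rw [SubmonoidClass.coe_pow]
    show (LinearMap.toMatrix b b T) ^ r = 1
    rw [LinearMap.toMatrix_pow, hT, LinearMap.toMatrix_one]
  · show finrank F (LinearMap.range (Matrix.toLin' (LinearMap.toMatrix b b T) - 1)) = _
    have h1 : Matrix.toLin' (LinearMap.toMatrix b b T) - 1 =
        (LinearMap.toMatrix b b T - 1).mulVecLin := by
      rw [← Matrix.toLin'_apply', map_sub, Matrix.toLin'_one]
      rfl
    rw [h1]
    have h2 := Matrix.rank_eq_finrank_range_toLin (LinearMap.toMatrix b b T - 1) b b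
    rw [map_sub, Matrix.toLin_toMatrix, Matrix.toLin_one] at h2
    exact h2


/-- the model: `L × (Fin k → F × F)` with `T = (mult by ζ) × id`. -/
theorem exists_model {F : Type u} [Field F] [Fintype F] (d h r : ℕ) (hh : 1 ≤ h)
    (hhd : h ≤ d) (hr : r.Prime) (hrq : r ∣ Fintype.card F ^ h + 1) :
    ∃ (W : Type u) (_ : AddCommGroup W) (_ : Module F W) (_ : FiniteDimensional F W)
      (B : LinearMap.BilinForm F W) (T : W →ₗ[F] W), B.IsAlt ∧
      (∀ x, (∀ y, B x y = 0) → x = 0) ∧ finrank F W = 2 * d ∧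
      (∀ x y, B (T x) (T y) = B x y) ∧ T ^ r = 1 ∧
      finrank F (LinearMap.range (T - 1)) = 2 * h := by
  classical
  obtain ⟨p, hp⟩ := CharP.exists F
  have : Fact p.Prime := ⟨CharP.char_is_prime F p⟩
  have : Fact r.Prime := ⟨hr⟩
  have : NeZero (2 * h) := ⟨by omega⟩
  let L := FiniteField.Extension F p (2 * h)
  have : Fintype L := Fintype.ofFinite L
  have hfin : finrank F L = 2 * h := FiniteField.finrank_extension F p (2 * h)
  have hq1 : 1 ≤ Fintype.card F ^ h := Nat.one_le_pow _ _ Fintype.card_pos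
  have hLcard : Nat.card L = Fintype.card F ^ (2 * h) := by
    rw [FiniteField.natCard_extension, Nat.card_eq_fintype_card]
  have hunits : Nat.card Lˣ = (Fintype.card F ^ h - 1) * (Fintype.card F ^ h + 1) := by
    rw [Nat.card_units, hLcard, two_mul, pow_add]
    have h2 : 1 ≤ Fintype.card F ^ h * Fintype.card F ^ h := Nat.mul_pos hq1 hq1
    zify [hq1, h2]
    ring
  have hrdvd : r ∣ Nat.card Lˣ := by
    rw [hunits]
    exact hrq.mul_left _
  obtain ⟨ζ, hζ⟩ := exists_prime_orderOf_dvd_card' r hrdvd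
  have hζr : ζ ^ r = 1 := by
    rw [← hζ]
    exact pow_orderOf_eq_one ζ
  have hζ1 : ζ ≠ 1 := by
    intro h1
    rw [h1, orderOf_one] at hζ
    exact hr.one_lt.ne hζ
  have hnorm : ((ζ : Lˣ) : L) * sig F L h ((ζ : Lˣ) : L) = 1 := by
    obtain ⟨k, hk⟩ := hrq
    have h3 : ζ ^ (Fintype.card F ^ h + 1) = 1 := by rw [hk, pow_mul, hζr, one_pow]
    rw [sig_apply, ← pow_succ']
    have := congrArg (fun u : Lˣ => (u : L)) h3
    simpa using this
  obtain ⟨ε, hε0, hε⟩ := exists_eps (F := F) (L := L) hh hfin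
  let τ : L ≃ₗ[F] L := DistribMulAction.toModuleAut F L ζ
  have hτ : ∀ x : L, τ x = (ζ : L) * x := by
    intro x
    simp [τ, Units.smul_def]
  let T : (L × (Fin (d - h) → F × F)) →ₗ[F] (L × (Fin (d - h) → F × F)) :=
    LinearMap.prodMap τ.toLinearMap LinearMap.id
  have hTapp : ∀ x : L × (Fin (d - h) → F × F), T x = ((ζ : L) * x.1, x.2) := by
    intro x
    simp [T, hτ]
  have hTpow : ∀ k : ℕ, ∀ x : L × (Fin (d - h) → F × F), (T ^ k) x = ((ζ : L) ^ k * x.1, x.2) := by
    intro k
    induction k with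
    | zero => intro x; simp
    | succ k ih =>
      intro x
      rw [pow_succ, Module.End.mul_apply, ih, hTapp, pow_succ, mul_assoc]
  refine ⟨L × (Fin (d - h) → F × F), inferInstance, inferInstance, inferInstance,
    prodForm (nsForm (F := F) h ε) (piForm (d - h) (hypForm F F)), T,
    prodForm_isAlt (nsForm_isAlt hfin hε) (piForm_isAlt _ (hypForm_isAlt F F)),
    prodForm_nondeg (nsForm_nondeg hε0) (piForm_nondeg _ (hypForm_nondeg F F)), ?_, ?_, ?_, ?_⟩
  · rw [Module.finrank_prod, hfin, Module.finrank_pi_fintype]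
    simp only [Module.finrank_prod, Finset.sum_const, Finset.card_univ, Fintype.card_fin,
      smul_eq_mul, Module.finrank_self]
    omega
  · intro x y
    rw [prodForm_apply, prodForm_apply, hTapp, hTapp]
    have := nsForm_pres (F := F) h ε ζ hnorm x.1 y.1
    rw [show (DistribMulAction.toModuleAut F L ζ) x.1 = (ζ : L) * x.1 from hτ x.1,
      show (DistribMulAction.toModuleAut F L ζ) y.1 = (ζ : L) * y.1 from hτ y.1] at this
    rw [this]
  · apply LinearMap.ext
    intro x
    rw [hTpow, ← Units.val_pow_eq_pow_val, hζr, Units.val_one, one_mul]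
    rfl
  · have hz : ((ζ : Lˣ) : L) - 1 ≠ 0 := by
      intro h0
      apply hζ1
      apply Units.ext
      rw [Units.val_one]
      exact sub_eq_zero.1 h0
    have hrange : LinearMap.range (T - 1) =
        LinearMap.range (LinearMap.inl F L (Fin (d - h) → F × F)) := by
      apply le_antisymm
      · rintro _ ⟨x, rfl⟩
        refine ⟨((ζ : L) - 1) * x.1, ?_⟩
        rw [LinearMap.sub_apply, hTapp, Module.End.one_apply, LinearMap.inl_apply]
        apply Prod.ext
        · show ((ζ : L) - 1) * x.1 = (ζ : L) * x.1 - x.1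
          rw [sub_one_mul]
        · simp
      · rintro _ ⟨y, rfl⟩
        refine ⟨((((ζ : L) - 1)⁻¹ * y), 0), ?_⟩
        rw [LinearMap.sub_apply, hTapp, Module.End.one_apply, LinearMap.inl_apply]
        apply Prod.ext
        · show (ζ : L) * (((ζ : L) - 1)⁻¹ * y) - ((ζ : L) - 1)⁻¹ * y = y
          rw [← sub_one_mul, mul_inv_cancel_left₀ hz]
        · simp
    rw [hrange, LinearMap.finrank_range_of_inj LinearMap.inl_injective, hfin]

end Cfsg.Agent.Lib.Helper7.CarveL5Aux

namespace Cfsg.Agent.Lib.Carve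

universe u

variable {F : Type u} [Field F]

namespace L5
theorem exists_elt [Fintype F] {q : ℕ} (hq : Fintype.card F = q) (d h r : ℕ) (hh : 1 ≤ h)
    (hhd : h ≤ d) (hr : r.Prime) (hrq : r ∣ q ^ h + 1) (hr2 : r ≠ 2) :
    ∃ x : Matrix.symplecticGroup (Fin d) F, x ^ r = 1 ∧
      Module.finrank F (LinearMap.range
        (Matrix.toLin' (x : Matrix (Fin d ⊕ Fin d) (Fin d ⊕ Fin d) F) - 1)) = 2 * h := by
  subst hq
  obtain ⟨W, i1, i2, i3, B, T, hB, hnd, hdim, hpres, hT, hrk⟩ :=
    Cfsg.Agent.Lib.Helper7.CarveL5Aux.exists_model (F := F) d h r hh hhd hr hrq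
  obtain ⟨x, hx, hxr⟩ :=
    Cfsg.Agent.Lib.Helper7.CarveL5Aux.exists_sp_of_isometry B hB hnd hdim T hpres r hT
  exact ⟨x, hx, hxr.trans hrk⟩
end L5

end Cfsg.Agent.Lib.Carve
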