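import Mathlib

set_option autoImplicit false

namespace Cfsg.Agent.Lib.Helper7

/-- Burnside's orbit counting lemma in `Nat.card` form. -/
theorem burnside_nat (K Ω : Type*) [Group K] [Fintype K] [MulAction K Ω] [Finite Ω] :
    ∑ k : K, Nat.card (MulAction.fixedBy Ω k) =
      Nat.card (MulAction.orbitRel.Quotient K Ω) * Nat.card K := by
  classical
  haveI := Fintype.ofFinite Ω
  have := MulAction.sum_card_fixedBy_eq_card_orbits_mul_card_group K Ω
  simp only [← Nat.card_eq_fintype_card] at this
  exact this

/-- number of orbits of a transitive action on a nonempty set is one -/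
theorem card_orbits_of_pretransitive (K Ω : Type*) [Group K] [MulAction K Ω]
    [MulAction.IsPretransitive K Ω] [Nonempty Ω] :
    Nat.card (MulAction.orbitRel.Quotient K Ω) = 1 := by
  have : Subsingleton (MulAction.orbitRel.Quotient K Ω) :=
    (MulAction.pretransitive_iff_subsingleton_quotient K Ω).mp inferInstance
  have : Nonempty (MulAction.orbitRel.Quotient K Ω) := by
    obtain ⟨ω⟩ := (inferInstance : Nonempty Ω)
    exact ⟨Quotient.mk'' ω⟩
  exact Nat.card_unique

end Cfsg.Agent.Lib.Helper7
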