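import Mathlib
import Cfsg.Prelude.Def_Characters
import Cfsg.Prelude.Def_Classical
import Cfsg.Agent.Lib.Helper1.SUMin.GeoDefs
import Cfsg.Agent.Lib.Helper2.UT18
import Cfsg.Agent.Lib.Lead.SURField

set_option autoImplicit false

/-! S2334 / S2335, package PK-G2d: commutators in the Heisenberg groups `Qc i`. -/

namespace Cfsg.Agent.Lib.Helper1.SUMin

open Module Cfsg Cfsg.Agent.Lib.Helper2 Cfsg.Agent.Lib.Helper2.IsomDecomp Cfsg.Agent.Lib.Helper2.UT
  Cfsg.Agent.Lib.Helper5.PSLCoset Cfsg.Agent.Lib.Helper1.SUR Cfsg.Agent.Lib.Helper1.SUT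

section G2d
variable {F : Type*} [Field F] {σ : F ≃+* F} {V : Type*} [AddCommGroup V] [Module F V]
  {H : V → V → F}

theorem g2d_sum_left (h : IsHerm σ H) {ι : Type*} (s : Finset ι) (g : ι → V) (w : V) :
    H (∑ j ∈ s, g j) w = ∑ j ∈ s, H (g j) w := by
  classical
  induction s using Finset.induction_on with
  | empty => rw [Finset.sum_empty, Finset.sum_empty, h.zero_left]
  | insert a s ha ih => rw [Finset.sum_insert ha, Finset.sum_insert ha, h.add_left, ih]

theorem g2d_sum_right (h : IsHerm σ H) {ι : Type*} (s : Finset ι) (g : ι → V) (w : V) :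
    H w (∑ j ∈ s, g j) = ∑ j ∈ s, H w (g j) := by
  classical
  induction s using Finset.induction_on with
  | empty => rw [Finset.sum_empty, Finset.sum_empty, h.zero_right]
  | insert a s ha ih => rw [Finset.sum_insert ha, Finset.sum_insert ha, h.add_right, ih]

/-- every skew element is of the form `l - σ l` (any field) -/
theorem g2d_exists_sub_eq (hσ : orderOf σ = 2) (a : F) (ha : σ a = -a) : ∃ l : F, l - σ l = a := by
  obtain ⟨x0, hx0⟩ := exists_trace_ne_zero hσ
  have hss := sigma_sigma_of_order hσ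
  have ht : σ (x0 + σ x0) = x0 + σ x0 := by rw [map_add, hss, add_comm]
  refine ⟨a * x0 / (x0 + σ x0), ?_⟩
  rw [map_div₀, map_mul, ha, ht]
  field_simp
  ring

variable (h : IsHerm σ H) {m : ℕ} {e f : ℕ → V} (hp : HPairs H m e f)
  (hee : ∀ i j, H (e i) (e j) = 0)

include h hp in
/-- projection of a vector into `V_{i+1}` along the pairs `j ≤ i` -/
theorem g2d_exists_perp (i : ℕ) (hi : i < m) {z : V} (hz : PerpC H e f i z) (w : V) :
    ∃ w' : V, PerpC H e f i w' ∧ H z w' = H z w := by
  classical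
  refine ⟨w - ∑ j ∈ Finset.range (i + 1), (H w (f j) • e j + H w (e j) • f j), ?_, ?_⟩
  · intro k hk
    have hkm : k < m := lt_of_le_of_lt hk hi
    have hkr : k ∈ Finset.range (i + 1) := Finset.mem_range.2 (by omega)
    constructor
    · rw [h.sub_left, g2d_sum_left h, Finset.sum_eq_single k]
      · rw [h.add_left, h.smul_left, h.smul_left, hp.ee k k hkm hkm, hp.fe k k hkm hkm, if_pos rfl]
        ring
      · intro j hj hjk
        have hjm : j < m := lt_of_lt_of_le (Finset.mem_range.1 hj) (by omega)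
        rw [h.add_left, h.smul_left, h.smul_left, hp.ee j k hjm hkm, hp.fe j k hjm hkm,
          if_neg hjk]
        ring
      · intro hk'; exact absurd hkr hk'
    · rw [h.sub_left, g2d_sum_left h, Finset.sum_eq_single k]
      · rw [h.add_left, h.smul_left, h.smul_left, hp.ff k k hkm hkm, hp.ef k k hkm hkm, if_pos rfl]
        ring
      · intro j hj hjk
        have hjm : j < m := lt_of_lt_of_le (Finset.mem_range.1 hj) (by omega)
        rw [h.add_left, h.smul_left, h.smul_left, hp.ff j k hjm hkm, hp.ef j k hjm hkm,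
          if_neg hjk]
        ring
      · intro hk'; exact absurd hkr hk'
  · rw [h.sub_right, g2d_sum_right h, Finset.sum_eq_zero, sub_zero]
    intro j hj
    have hji : j ≤ i := by have := Finset.mem_range.1 hj; omega
    rw [h.add_right, h.smul_right, h.smul_right, (hz j hji).1, (hz j hji).2, mul_zero, mul_zero,
      add_zero]

include hp in
/-- full commutators: for `g = E(z,c)`, `z ≠ 0`, and `x = E(z',c')`:
`x⁻¹ g x = g * tv(e_i, H(z,z') - H(z',z))`, and `z'` can be chosen in `V_{i+1}` with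
`H(z,z') - H(z',z)` any prescribed skew element -/
theorem Qc_commutator (hσ : orderOf σ = 2) (hnd : ∀ v, (∀ w, H v w = 0) → v = 0) (i : ℕ)
    (hi : i < m) {g : V ≃ₗ[F] V} (hg : g ∈ Qc h hee f i)
    (hne : ∀ c, σ c = -c → g ≠ zc h hee i c) {c : F} (hc : σ c = -c) :
    ∃ x ∈ Qc h hee f i, x⁻¹ * g * x = g * zc h hee i c := by
  have hss := sigma_sigma_of_order hσ
  obtain ⟨z, c₀, hz, hpz, hc₀, rfl⟩ := (mem_Qc h hee).1 hg
  -- `z ≠ 0`
  have hz0 : z ≠ 0 := by
    intro h0
    subst h0
    have hsk : σ c₀ = -c₀ := by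
      rw [h.zero_left, add_zero] at hc₀
      exact eq_neg_of_add_eq_zero_right hc₀
    apply hne c₀ hsk
    unfold zc
    rw [← eich_zero_eq_tv]
  -- a vector of `V_{i+1}` not orthogonal to `z`
  obtain ⟨w, hw⟩ : ∃ w, H z w ≠ 0 := by
    by_contra hcon
    apply hz0
    apply hnd
    intro w
    by_contra hw
    exact hcon ⟨w, hw⟩
  obtain ⟨w', hpw', hzw'⟩ := g2d_exists_perp h hp i hi hpz w
  obtain ⟨l, hl⟩ := g2d_exists_sub_eq hσ c hc
  set α := H z w with hα
  set z' := (σ (l / α)) • w' with hz'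
  have hpz' : PerpC H e f i z' := perpC_smul h _ hpw'
  have hzz' : H z z' = l := by
    rw [hz', h.smul_right, hss, hzw']
    field_simp
  have hz'z : H z' z = σ l := by rw [h.symm z z', hzz']
  have hz'e : H z' (e i) = 0 := (hpz' i le_rfl).1
  have hfix : σ (-(H z' z')) = -(H z' z') := by rw [map_neg, ← h.symm z' z']
  obtain ⟨c', hc'⟩ := exists_trace_eq hσ (-(H z' z')) hfix
  refine ⟨eich h (e i) z' c' (hee i i) hz'e, (mem_Qc h hee).2 ⟨z', c', hz'e, hpz', ?_, rfl⟩, ?_⟩
  · rw [hc']; ring
  · have key : eich h (e i) z c₀ (hee i i) hz * eich h (e i) z' c' (hee i i) hz'e =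
        eich h (e i) z' c' (hee i i) hz'e * (eich h (e i) z c₀ (hee i i) hz * zc h hee i c) := by
      unfold zc
      rw [← eich_zero_eq_tv, eich_mul, eich_mul, eich_mul]
      refine eich_congr h _ _ rfl ?_ ?_
      · rw [add_zero, add_comm]
      · rw [h.zero_left, hz'z, add_zero, hzz', ← hl]
        ring
    rw [mul_assoc, key, ← mul_assoc, inv_mul_cancel, one_mul]

end G2d

end Cfsg.Agent.Lib.Helper1.SUMin
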