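import Mathlib
import Cfsg.Prelude.Def_Characters
import Cfsg.Prelude.Def_Classical
import Cfsg.Agent.Lib.Helper1.SUMin.GeoDefs
import Cfsg.Agent.Lib.Helper2.UT18
import Cfsg.Agent.Lib.Lead.SURField
import Cfsg.Agent.Lib.Helper6.SUMinCard

set_option autoImplicit false

/-! S2334 / S2335, package PK-G2e: the order of the Heisenberg groups `Qc i`. -/

namespace Cfsg.Agent.Lib.Helper1.SUMin

open Module Cfsg Cfsg.Agent.Lib.Helper2 Cfsg.Agent.Lib.Helper2.IsomDecomp Cfsg.Agent.Lib.Helper2.UT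
  Cfsg.Agent.Lib.Helper5.PSLCoset Cfsg.Agent.Lib.Helper1.SUR Cfsg.Agent.Lib.Helper1.SUT

section G2e
variable {F : Type*} [Field F] {σ : F ≃+* F} {V : Type*} [AddCommGroup V] [Module F V]
  {H : V → V → F} (h : IsHerm σ H) {m : ℕ} {e f : ℕ → V} (hp : HPairs H m e f)
  (hee : ∀ i j, H (e i) (e j) = 0)

/-- the functionals `H(·, e_j)`, `H(·, f_j)`, `j ≤ i` -/
noncomputable def g2ePhi (e f : ℕ → V) (i : ℕ) : V →ₗ[F] ((Fin (i + 1) ⊕ Fin (i + 1)) → F) :=
  LinearMap.pi (fun j => Sum.elim (fun j : Fin (i + 1) => h.toDual (e j))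
    (fun j : Fin (i + 1) => h.toDual (f j)) j)

theorem g2e_mem_ker (e f : ℕ → V) (i : ℕ) (z : V) :
    z ∈ LinearMap.ker (g2ePhi h e f i) ↔ PerpC H e f i z := by
  rw [LinearMap.mem_ker]
  constructor
  · intro hz j hj
    have h1 := congrFun hz (Sum.inl ⟨j, by omega⟩)
    have h2 := congrFun hz (Sum.inr ⟨j, by omega⟩)
    simp only [g2ePhi, LinearMap.pi_apply, Sum.elim_inl, Sum.elim_inr, IsHerm.toDual_apply,
      Pi.zero_apply] at h1 h2
    exact ⟨h1, h2⟩
  · intro hz
    funext j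
    rcases j with j | j
    · simp only [g2ePhi, LinearMap.pi_apply, Sum.elim_inl, IsHerm.toDual_apply, Pi.zero_apply]
      exact (hz j (by have := j.2; omega)).1
    · simp only [g2ePhi, LinearMap.pi_apply, Sum.elim_inr, IsHerm.toDual_apply, Pi.zero_apply]
      exact (hz j (by have := j.2; omega)).2

theorem g2e_finrank_ker [FiniteDimensional F V] (e f : ℕ → V) (i : ℕ) :
    finrank F V - 2 * i - 2 ≤ finrank F (LinearMap.ker (g2ePhi h e f i)) := by
  have h1 := LinearMap.finrank_range_add_finrank_ker (g2ePhi h e f i)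
  have h2 : finrank F (LinearMap.range (g2ePhi h e f i)) ≤ 2 * (i + 1) := by
    calc finrank F (LinearMap.range (g2ePhi h e f i))
        ≤ finrank F ((Fin (i + 1) ⊕ Fin (i + 1)) → F) := Submodule.finrank_le _
      _ = 2 * (i + 1) := by
        rw [Module.finrank_fintype_fun_eq_card, Fintype.card_sum, Fintype.card_fin]; ring
  omega

include hp in
/-- `|Q_i| ≥ q · q^(2(n-2i-2))` -/
theorem card_Qc_ge [Fintype F] [FiniteDimensional F V] (hσ : orderOf σ = 2) {q : ℕ}
    (hF : Fintype.card F = q ^ 2) (i : ℕ) (hi : i < m) :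
    q * (q ^ (finrank F V - 2 * i - 2)) ^ 2 ≤ Nat.card (Qc h hee f i) := by
  classical
  have hss := sigma_sigma_of_order hσ
  haveI : Finite V := Module.finite_of_finite F
  haveI : Finite (V ≃ₗ[F] V) :=
    Finite.of_injective (fun g : V ≃ₗ[F] V => (g : V → V)) DFunLike.coe_injective
  set W := LinearMap.ker (g2ePhi h e f i) with hW
  have hmem : ∀ z : V, z ∈ W ↔ PerpC H e f i z := g2e_mem_ker h e f i
  have hdim : finrank F V - 2 * i - 2 ≤ finrank F W := g2e_finrank_ker h e f i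
  have hcardW : Nat.card W = (q ^ 2) ^ finrank F W := by
    rw [Module.natCard_eq_pow_finrank (K := F) (V := W), Nat.card_eq_fintype_card, hF]
  -- a solution of `c + σ c = -H z z`
  have hc0 : ∀ z : V, ∃ c : F, c + σ c = -(H z z) := fun z =>
    exists_trace_eq hσ _ (by rw [map_neg, ← h.symm z z])
  choose c0 hc0' using hc0
  have hei : ∀ p : W × skewS σ, H (p.1 : V) (e i) = 0 := fun p =>
    (((hmem _).1 p.1.2) i le_rfl).1
  -- the injection
  let ι : W × skewS σ → Qc h hee f i := fun p =>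
    ⟨eich h (e i) (p.1 : V) (c0 p.1 + (p.2 : F)) (hee i i) (hei p),
      (mem_Qc h hee).2 ⟨(p.1 : V), c0 p.1 + (p.2 : F), hei p, (hmem _).1 p.1.2, by
        rw [map_add, skewS_prop]
        linear_combination hc0' (p.1 : V), rfl⟩⟩
  have hfe : H (f i) (e i) = 1 := by rw [hp.fe i i hi hi, if_pos rfl]
  have hef : H (e i) (f i) = 1 := by rw [hp.ef i i hi hi, if_pos rfl]
  have hinj : Function.Injective ι := by
    intro p p' hpp
    have h1 : eich h (e i) (p.1 : V) (c0 p.1 + (p.2 : F)) (hee i i) (hei p) =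
        eich h (e i) (p'.1 : V) (c0 p'.1 + (p'.2 : F)) (hee i i) (hei p') :=
      congrArg Subtype.val hpp
    have h2 := congrArg (fun g : V ≃ₗ[F] V => g (f i)) h1
    simp only [eich_apply] at h2
    have hz : H (p.1 : V) (f i) = 0 := (((hmem _).1 p.1.2) i le_rfl).2
    have hz' : H (p'.1 : V) (f i) = 0 := (((hmem _).1 p'.1.2) i le_rfl).2
    have hfz : H (f i) (p.1 : V) = 0 := by rw [h.symm (p.1 : V) (f i), hz, map_zero]
    have hfz' : H (f i) (p'.1 : V) = 0 := by rw [h.symm (p'.1 : V) (f i), hz', map_zero]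
    simp only [hfe, hfz, hfz', one_smul, zero_smul, mul_one, sub_zero] at h2
    -- `z + c e_i = z' + c' e_i`
    have h3 : (p.1 : V) + (c0 p.1 + (p.2 : F)) • e i = (p'.1 : V) + (c0 p'.1 + (p'.2 : F)) • e i := by
      have e1 : f i + (p.1 : V) + (c0 p.1 + (p.2 : F)) • e i - f i =
          f i + (p'.1 : V) + (c0 p'.1 + (p'.2 : F)) • e i - f i := by rw [h2]
      have e2 : ∀ (a b : V), f i + a + b - f i = a + b := fun a b => by abel
      rw [e2, e2] at e1
      exact e1
    have h4 : H ((p.1 : V) + (c0 p.1 + (p.2 : F)) • e i) (f i) =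
        H ((p'.1 : V) + (c0 p'.1 + (p'.2 : F)) • e i) (f i) := by rw [h3]
    rw [h.add_left, h.add_left, h.smul_left, h.smul_left, hz, hz', hef, mul_one, mul_one,
      zero_add, zero_add] at h4
    rw [h4] at h3
    have h5 : (p.1 : V) = (p'.1 : V) := add_right_cancel h3
    have h6 : p.1 = p'.1 := Subtype.ext h5
    rw [h6] at h4
    have h7 : (p.2 : F) = (p'.2 : F) := add_left_cancel h4
    exact Prod.ext h6 (Subtype.ext h7)
  have hq1 : 1 ≤ q ^ 2 := by
    rw [← hF]; exact Fintype.card_pos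
  calc q * (q ^ (finrank F V - 2 * i - 2)) ^ 2
      = (q ^ 2) ^ (finrank F V - 2 * i - 2) * q := by ring
    _ ≤ (q ^ 2) ^ finrank F W * q :=
        Nat.mul_le_mul_right _ (Nat.pow_le_pow_right hq1 hdim)
    _ = Nat.card (W × skewS σ) := by
        rw [Nat.card_prod, hcardW, Nat.card_eq_fintype_card, card_skewS hσ hF]
    _ ≤ Nat.card (Qc h hee f i) := Nat.card_le_card_of_injective ι hinj

end G2e

end Cfsg.Agent.Lib.Helper1.SUMin
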