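import Mathlib
import Cfsg.Prelude
import Cfsg.Agent.Lib.Helper1.SUR.Defs
import Cfsg.Agent.Lib.Helper2.UT13
import Cfsg.Agent.Lib.Lead.SU3Tr

set_option autoImplicit false
set_option linter.unusedSectionVars false
set_option linter.unusedVariables false

/-! # S2282 package PK-FRAME: Witt frames from Gram relations, and a frame for `hermForm` -/

namespace Cfsg.Agent.Lib.Helper1.SUR

open Module Cfsg.Agent.Lib.Helper2 Cfsg.Agent.Lib.Helper2.IsomDecomp Cfsg.Agent.Lib.Helper2.UT
  Cfsg.Agent.Lib.Helper5.PSLCoset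

variable {F : Type*} [Field F] {σ : F ≃+* F} {V : Type*} [AddCommGroup V] [Module F V]
  {H : V → V → F}

theorem frame_of_gram [FiniteDimensional F V] (h : IsHerm σ H)
    (hnd : ∀ v, (∀ w, H v w = 0) → v = 0) (m : ℕ) (hdim : finrank F V = 2 * m + 1)
    (e f : ℕ → V) (d : V)
    (ee : ∀ i j, i < m → j < m → H (e i) (e j) = 0)
    (ff : ∀ i j, i < m → j < m → H (f i) (f j) = 0)
    (ef : ∀ i j, i < m → j < m → H (e i) (f j) = if i = j then 1 else 0)
    (dd : H d d = 1) (ed : ∀ i, i < m → H (e i) d = 0) (fd : ∀ i, i < m → H (f i) d = 0) :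
    Frame H m e f d := by
  classical
  have fe : ∀ i j, i < m → j < m → H (f i) (e j) = if i = j then 1 else 0 := by
    intro i j hi hj
    rw [h.symm (e j) (f i), ef j i hj hi]
    by_cases hij : i = j
    · subst hij
      rw [if_pos rfl, map_one]
    · rw [if_neg hij, if_neg (Ne.symm hij), map_zero]
  have de : ∀ i, i < m → H d (e i) = 0 := by
    intro i hi
    rw [h.symm (e i) d, ed i hi, map_zero]
  have df : ∀ i, i < m → H d (f i) = 0 := by
    intro i hi
    rw [h.symm (f i) d, fd i hi, map_zero]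
  refine ⟨ee, ff, ef, fe, dd, ed, de, fd, df, ?_⟩
  -- the two maps
  obtain ⟨Ψ, hΨ⟩ : ∃ Ψ : ((Fin m → F) × (Fin m → F) × F) →ₗ[F] V,
      ∀ t, Ψ t = ∑ i : Fin m, t.1 i • e i + (∑ i : Fin m, t.2.1 i • f i + t.2.2 • d) := by
    refine ⟨(Fintype.linearCombination F (fun i : Fin m => e i)).coprod
      ((Fintype.linearCombination F (fun i : Fin m => f i)).coprod
        (LinearMap.toSpanSingleton F V d)), ?_⟩
    intro t
    rw [LinearMap.coprod_apply, LinearMap.coprod_apply, Fintype.linearCombination_apply,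
      Fintype.linearCombination_apply, LinearMap.toSpanSingleton_apply]
  obtain ⟨Φ, hΦ⟩ : ∃ Φ : V →ₗ[F] ((Fin m → F) × (Fin m → F) × F),
      ∀ x, Φ x = (fun i : Fin m => H x (f i), fun i : Fin m => H x (e i), H x d) := by
    refine ⟨(LinearMap.pi fun i : Fin m => h.toDual (f i)).prod
      ((LinearMap.pi fun i : Fin m => h.toDual (e i)).prod (h.toDual d)), ?_⟩
    intro x
    rfl
  -- `H (Ψ t) w`
  have hHΨ : ∀ t w, H (Ψ t) w = ∑ i : Fin m, t.1 i * H (e i) w +
      (∑ i : Fin m, t.2.1 i * H (f i) w + t.2.2 * H d w) := by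
    intro t w
    rw [hΨ]
    have := map_add (h.toDual w) (∑ i : Fin m, t.1 i • e i)
      (∑ i : Fin m, t.2.1 i • f i + t.2.2 • d)
    rw [IsHerm.toDual_apply, IsHerm.toDual_apply, IsHerm.toDual_apply] at this
    rw [this]
    have h2 := map_add (h.toDual w) (∑ i : Fin m, t.2.1 i • f i) (t.2.2 • d)
    rw [IsHerm.toDual_apply, IsHerm.toDual_apply, IsHerm.toDual_apply] at h2
    rw [h2, h.smul_left]
    have h3 : ∀ (c : Fin m → F) (b : ℕ → V),
        H (∑ i : Fin m, c i • b i) w = ∑ i : Fin m, c i * H (b i) w := by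
      intro c b
      have := map_sum (h.toDual w) (fun i : Fin m => c i • b i) Finset.univ
      rw [IsHerm.toDual_apply] at this
      rw [this]
      apply Finset.sum_congr rfl
      intro i _
      rw [IsHerm.toDual_apply, h.smul_left]
    rw [h3, h3]
  have hleft : ∀ t, Φ (Ψ t) = t := by
    intro t
    rw [hΦ]
    obtain ⟨a, b, c⟩ := t
    refine Prod.ext ?_ (Prod.ext ?_ ?_)
    · funext j
      show H (Ψ (a, b, c)) (f j) = a j
      rw [hHΨ]
      simp only []
      rw [df j j.isLt, mul_zero, add_zero, Finset.sum_eq_single j, ef j j j.isLt j.isLt,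
        if_pos rfl, mul_one, Finset.sum_eq_zero, add_zero]
      · intro i _
        rw [ff i j i.isLt j.isLt, mul_zero]
      · intro i _ hij
        rw [ef i j i.isLt j.isLt, if_neg (fun hh => hij (Fin.ext hh)), mul_zero]
      · intro hj
        exact absurd (Finset.mem_univ j) hj
    · funext j
      show H (Ψ (a, b, c)) (e j) = b j
      rw [hHΨ]
      simp only []
      rw [de j j.isLt, mul_zero, add_zero, Finset.sum_eq_zero, zero_add,
        Finset.sum_eq_single j, fe j j j.isLt j.isLt, if_pos rfl, mul_one]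
      · intro i _ hij
        rw [fe i j i.isLt j.isLt, if_neg (fun hh => hij (Fin.ext hh)), mul_zero]
      · intro hj
        exact absurd (Finset.mem_univ j) hj
      · intro i _
        rw [ee i j i.isLt j.isLt, mul_zero]
    · show H (Ψ (a, b, c)) d = c
      rw [hHΨ]
      simp only []
      rw [dd, mul_one, Finset.sum_eq_zero, Finset.sum_eq_zero, zero_add, zero_add]
      · intro i _
        rw [fd i i.isLt, mul_zero]
      · intro i _
        rw [ed i i.isLt, mul_zero]
  have hinj : Function.Injective Ψ := Function.LeftInverse.injective hleft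
  have hfin : finrank F ((Fin m → F) × (Fin m → F) × F) = finrank F V := by
    rw [hdim, Module.finrank_prod, Module.finrank_prod, Module.finrank_fintype_fun_eq_card,
      Fintype.card_fin, Module.finrank_self]
    omega
  have hsurj : Function.Surjective Ψ :=
    (LinearMap.injective_iff_surjective_of_finrank_eq_finrank hfin).mp hinj
  intro x
  obtain ⟨t, rfl⟩ := hsurj x
  have h1 : Ψ (Φ (Ψ t)) = Ψ t := by rw [hleft]
  rw [hΨ (Φ (Ψ t)), hΦ] at h1
  simp only [] at h1
  rw [← Fin.sum_univ_eq_sum_range (fun i => H (Ψ t) (f i) • e i + H (Ψ t) (e i) • f i) m,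
    Finset.sum_add_distrib, add_assoc]
  exact h1.symm

/-! ### a frame for the standard Hermitian form -/

section std

variable {K : Type*} [Field K] [Fintype K] {q : ℕ}

/-- the standard basis vectors, indexed by `ℕ` (zero out of range) -/
def stdV (n : ℕ) (k : ℕ) : Fin n → K := fun x => if x.val = k then 1 else 0

theorem stdV_orth (n : ℕ) (hq : q ≠ 0) (a b : ℕ) (ha : a < n) :
    Cfsg.hermForm n K q (stdV n a) (stdV n b) = if a = b then 1 else 0 := by
  unfold Cfsg.hermForm
  rw [Finset.sum_eq_single (⟨a, ha⟩ : Fin n)]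
  · unfold stdV
    simp only []
    rw [if_pos trivial, one_mul]
    by_cases hab : a = b
    · rw [if_pos hab, one_pow]
    · rw [if_neg hab, zero_pow hq]
  · intro x _ hx
    unfold stdV
    rw [if_neg (fun hh => hx (Fin.ext hh)), zero_mul]
  · intro hh
    exact absurd (Finset.mem_univ _) hh

theorem std_pair_form {τ : K ≃+* K} (n : ℕ) (hq : q ≠ 0) (h : IsHerm τ (Cfsg.hermForm n K q))
    (i j : ℕ) (hi : 2 * i + 1 < n) (a b c d' : K) :
    Cfsg.hermForm n K q (a • stdV n (2 * i) + b • stdV n (2 * i + 1))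
      (c • stdV n (2 * j) + d' • stdV n (2 * j + 1)) =
      if i = j then a * τ c + b * τ d' else 0 := by
  rw [h.add_left, h.add_right, h.add_right, h.smul_left, h.smul_left, h.smul_left, h.smul_left,
    h.smul_right, h.smul_right, h.smul_right, h.smul_right,
    stdV_orth n hq (2 * i) (2 * j) (by omega), stdV_orth n hq (2 * i) (2 * j + 1) (by omega),
    stdV_orth n hq (2 * i + 1) (2 * j) hi, stdV_orth n hq (2 * i + 1) (2 * j + 1) hi]
  by_cases hij : i = j
  · subst hij
    rw [if_pos rfl, if_pos rfl, if_pos rfl, if_neg (by omega), if_neg (by omega)]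
    ring
  · rw [if_neg hij, if_neg (by omega), if_neg (by omega), if_neg (by omega), if_neg (by omega)]
    ring

theorem std_pair_last {τ : K ≃+* K} (n : ℕ) (hq : q ≠ 0) (h : IsHerm τ (Cfsg.hermForm n K q))
    (i k : ℕ) (hi : 2 * i + 1 < n) (hk : 2 * i + 1 < k) (a b : K) :
    Cfsg.hermForm n K q (a • stdV n (2 * i) + b • stdV n (2 * i + 1)) (stdV n k) = 0 := by
  rw [h.add_left, h.smul_left, h.smul_left, stdV_orth n hq (2 * i) k (by omega),
    stdV_orth n hq (2 * i + 1) k hi, if_neg (by omega), if_neg (by omega)]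
  ring

end std

theorem exists_frame {F : Type*} [Field F] [Fintype F] {q : ℕ} (hF : Fintype.card F = q ^ 2)
    (m : ℕ) : ∃ (e f : ℕ → (Fin (2 * m + 1) → F)) (d : Fin (2 * m + 1) → F),
      Frame (Cfsg.hermForm (2 * m + 1) F q) m e f d := by
  classical
  obtain ⟨σ, hσ, hσq⟩ := HermDecomp.exists_sigma hF
  have hσ2 := WittHerm.sigma_sigma hσ
  have hq2 : 2 ≤ q := Cfsg.Agent.Lib.SU3Tr.two_le_q hF
  have hq0 : q ≠ 0 := by omega
  have h := GUIsom.isHerm_hermForm (2 * m + 1) q σ hσ2 hσq
  have hnd : ∀ v : Fin (2 * m + 1) → F,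
      (∀ w, Cfsg.hermForm (2 * m + 1) F q v w = 0) → v = 0 :=
    fun v hv => GUIsom.hermForm_nondeg (2 * m + 1) q hq0 v hv
  obtain ⟨ω, ρ, hω, hρ, hρ1, hω0⟩ := Cfsg.Agent.Lib.SU3Tr.exists_two hF hσq
  have hωσ : ω * σ ω = -1 := by rw [hσq, ← pow_succ', hω]
  have hρσ : ρ * σ ρ = 1 := by rw [hσq, ← pow_succ', hρ]
  have hσρ1 : σ ρ ≠ 1 := by
    intro hh
    apply hρ1
    have := congrArg σ hh
    rwa [hσ2, map_one] at this
  have hne : 1 - σ ρ ≠ 0 := sub_ne_zero.mpr (Ne.symm hσρ1)
  obtain ⟨l, hl⟩ : ∃ l : F, σ l * (1 - σ ρ) = 1 := by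
    refine ⟨σ (1 - σ ρ)⁻¹, ?_⟩
    rw [hσ2, inv_mul_cancel₀ hne]
  refine ⟨fun i => (1 : F) • stdV (2 * m + 1) (2 * i) + ω • stdV (2 * m + 1) (2 * i + 1),
    fun i => l • stdV (2 * m + 1) (2 * i) + (l * (ω * ρ)) • stdV (2 * m + 1) (2 * i + 1),
    stdV (2 * m + 1) (2 * m), ?_⟩
  apply frame_of_gram h hnd m (by rw [Module.finrank_fin_fun])
  · intro i j hi hj
    rw [std_pair_form (2 * m + 1) hq0 h i j (by omega)]
    split_ifs
    · rw [map_one]; linear_combination hωσ
    · rfl
  · intro i j hi hj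
    rw [std_pair_form (2 * m + 1) hq0 h i j (by omega)]
    split_ifs
    · rw [map_mul, map_mul]
      linear_combination (l * σ l * ρ * σ ρ) * hωσ - (l * σ l) * hρσ
    · rfl
  · intro i j hi hj
    rw [std_pair_form (2 * m + 1) hq0 h i j (by omega)]
    split_ifs
    · rw [map_mul, map_mul]
      linear_combination hl + (σ l * σ ρ) * hωσ
    · rfl
  · exact (stdV_orth (2 * m + 1) hq0 (2 * m) (2 * m) (by omega)).trans (if_pos rfl)
  · intro i hi
    exact std_pair_last (2 * m + 1) hq0 h i (2 * m) (by omega) (by omega) _ _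
  · intro i hi
    exact std_pair_last (2 * m + 1) hq0 h i (2 * m) (by omega) (by omega) _ _

end Cfsg.Agent.Lib.Helper1.SUR
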