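import Mathlib
import Cfsg.Prelude
import Cfsg.Agent.Lib.Helper1.SUR.Defs

set_option autoImplicit false
set_option linter.unusedSectionVars false
set_option linter.unusedVariables false

/-! # S2282 package PK-U: the regular unipotent element `uel` of a Witt frame -/

namespace Cfsg.Agent.Lib.Helper1.SUR

open Module Cfsg.Agent.Lib.Helper2 Cfsg.Agent.Lib.Helper2.IsomDecomp Cfsg.Agent.Lib.Helper2.UT
  Cfsg.Agent.Lib.Helper5.PSLCoset

variable {F : Type*} [Field F] {σ : F ≃+* F} {V : Type*} [AddCommGroup V] [Module F V]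
  {H : V → V → F}

theorem pku_neg_right (h : IsHerm σ H) (x z : V) : H x (-z) = -H x z := by
  rw [h.symm (-z) x, h.neg_left, map_neg, ← h.symm]

section PKU
variable (h : IsHerm σ H) {m : ℕ} {e f : ℕ → V} {d : V} (fr : Frame H m e f d)

theorem xel_apply (k : ℕ) (hk : k + 1 < m) (x : V) :
    xel h fr k x = x - H x (e k) • f (k + 1) + H x (f (k + 1)) • e k := by
  unfold xel
  rw [dif_pos hk, eich_apply, pku_neg_right h]
  module

theorem xel_fix (k : ℕ) (x : V) (h1 : k + 1 < m → H x (e k) = 0)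
    (h2 : k + 1 < m → H x (f (k + 1)) = 0) : xel h fr k x = x := by
  by_cases hk : k + 1 < m
  · rw [xel_apply h fr k hk, h1 hk, h2 hk]
    simp
  · unfold xel
    rw [dif_neg hk]
    rfl

theorem uLevi_succ_apply (k : ℕ) (x : V) :
    uLevi h fr (k + 1) x = xel h fr k (uLevi h fr k x) := rfl

theorem uLevi_fix (k : ℕ) (x : V)
    (hx : ∀ i, i < k → i + 1 < m → H x (e i) = 0 ∧ H x (f (i + 1)) = 0) :
    uLevi h fr k x = x := by
  induction k with
  | zero => rfl
  | succ k ih =>
    rw [uLevi_succ_apply, ih (fun i hi him => hx i (by omega) him)]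
    exact xel_fix h fr k x (fun hk => (hx k (by omega) hk).1) (fun hk => (hx k (by omega) hk).2)

theorem uLevi_e_zero (hm : 1 ≤ m) (k : ℕ) : uLevi h fr k (e 0) = e 0 := by
  apply uLevi_fix
  intro i _ him
  refine ⟨fr.ee 0 i (by omega) (by omega), ?_⟩
  rw [fr.ef 0 (i + 1) (by omega) him, if_neg (by omega)]

theorem uLevi_d (k : ℕ) : uLevi h fr k d = d := by
  apply uLevi_fix
  intro i _ him
  exact ⟨fr.de i (by omega), fr.df (i + 1) him⟩

theorem uLevi_f_ge (k j : ℕ) (hkj : k ≤ j) (hj : j < m) : uLevi h fr k (f j) = f j := by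
  apply uLevi_fix
  intro i hi him
  refine ⟨?_, fr.ff j (i + 1) hj him⟩
  rw [fr.fe j i hj (by omega), if_neg (by omega)]

theorem uLevi_e_ge (k j : ℕ) (hkj : k ≤ j) (hj : j + 1 < m) :
    uLevi h fr k (e (j + 1)) = e (j + 1) := by
  apply uLevi_fix
  intro i hi him
  refine ⟨fr.ee (j + 1) i hj (by omega), ?_⟩
  rw [fr.ef (j + 1) (i + 1) hj him, if_neg (by omega)]

theorem uLevi_e_lt (k j : ℕ) (hjk : j < k) (hk : k + 1 ≤ m) :
    uLevi h fr k (e (j + 1)) = e (j + 1) + e j := by
  induction k with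
  | zero => omega
  | succ k ih =>
    rw [uLevi_succ_apply]
    by_cases hjk' : j < k
    · rw [ih hjk' (by omega), map_add]
      rw [xel_fix h fr k (e (j + 1)) (fun hk' => fr.ee (j + 1) k (by omega) (by omega))
        (fun hk' => by rw [fr.ef (j + 1) (k + 1) (by omega) hk', if_neg (by omega)])]
      rw [xel_fix h fr k (e j) (fun hk' => fr.ee j k (by omega) (by omega))
        (fun hk' => by rw [fr.ef j (k + 1) (by omega) hk', if_neg (by omega)])]
    · have hjeq : j = k := by omega
      subst hjeq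
      rw [uLevi_e_ge h fr j j le_rfl (by omega), xel_apply h fr j (by omega),
        fr.ee (j + 1) j (by omega) (by omega), fr.ef (j + 1) (j + 1) (by omega) (by omega),
        if_pos rfl]
      simp

theorem uLevi_f_pair (k j : ℕ) (hjk : j < k) (hk : k + 1 ≤ m) :
    uLevi h fr k (f j + f (j + 1)) = f j := by
  induction k with
  | zero => omega
  | succ k ih =>
    rw [uLevi_succ_apply]
    by_cases hjk' : j < k
    · rw [ih hjk' (by omega)]
      exact xel_fix h fr k (f j)
        (fun hk' => by rw [fr.fe j k (by omega) (by omega), if_neg (by omega)])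
        (fun hk' => fr.ff j (k + 1) (by omega) hk')
    · have hjeq : j = k := by omega
      subst hjeq
      rw [map_add, uLevi_f_ge h fr j j le_rfl (by omega),
        uLevi_f_ge h fr j (j + 1) (by omega) (by omega), map_add,
        xel_apply h fr j (by omega), xel_apply h fr j (by omega),
        fr.fe j j (by omega) (by omega), if_pos rfl, fr.ff j (j + 1) (by omega) (by omega),
        fr.fe (j + 1) j (by omega) (by omega), if_neg (by omega),
        fr.ff (j + 1) (j + 1) (by omega) (by omega)]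
      module

theorem qel_apply (hm : 1 ≤ m) (a c : F) (x : V) :
    qel h fr hm a c x = x + H x (e (m - 1)) • (a • d) - H x (a • d) • e (m - 1) +
      (c * H x (e (m - 1))) • e (m - 1) := by
  unfold qel
  rw [eich_apply]

theorem qel_fix (hm : 1 ≤ m) (a c : F) (x : V) (h1 : H x (e (m - 1)) = 0) (h2 : H x d = 0) :
    qel h fr hm a c x = x := by
  rw [qel_apply, h.smul_right, h1, h2]
  simp

theorem uel_apply (hm : 1 ≤ m) (a c : F) (x : V) :
    uel h fr hm a c x = qel h fr hm a c (uLevi h fr (m - 1) x) := rfl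

/-! ### membership and determinant -/

theorem xel_mem_isom (k : ℕ) : xel h fr k ∈ isom H := by
  unfold xel
  by_cases hk : k + 1 < m
  · rw [dif_pos hk]
    apply eich_mem_isom
    rw [h.neg_left, pku_neg_right h, fr.ff (k + 1) (k + 1) hk hk]
    simp
  · rw [dif_neg hk]
    exact (isom H).one_mem

theorem uLevi_mem_isom (k : ℕ) : uLevi h fr k ∈ isom H := by
  induction k with
  | zero => exact (isom H).one_mem
  | succ k ih => exact (isom H).mul_mem (xel_mem_isom h fr k) ih

theorem det_xel (k : ℕ) : LinearEquiv.det (xel h fr k) = 1 := by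
  unfold xel
  by_cases hk : k + 1 < m
  · rw [dif_pos hk]
    exact det_eich _ _ _ _ _ _
  · rw [dif_neg hk]
    exact map_one _

theorem det_uLevi (k : ℕ) : LinearEquiv.det (uLevi h fr k) = 1 := by
  induction k with
  | zero => exact map_one _
  | succ k ih =>
    show LinearEquiv.det (xel h fr k * uLevi h fr k) = 1
    rw [map_mul, det_xel, ih, one_mul]

theorem uel_mem_isom (hm : 1 ≤ m) {a c : F} (hc : c + σ c + a * σ a = 0) :
    uel h fr hm a c ∈ isom H := by
  unfold uel
  refine (isom H).mul_mem ?_ (uLevi_mem_isom h fr _)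
  unfold qel
  apply eich_mem_isom
  rw [h.smul_left, h.smul_right, fr.dd, mul_one]
  exact hc

theorem det_uel (hm : 1 ≤ m) (a c : F) : LinearEquiv.det (uel h fr hm a c) = 1 := by
  unfold uel qel
  rw [map_mul, det_eich, det_uLevi, one_mul]

/-! ### the action on the frame -/

theorem uel_e_zero (hm : 1 ≤ m) (a c : F) : uel h fr hm a c (e 0) = e 0 := by
  rw [uel_apply, uLevi_e_zero h fr hm]
  exact qel_fix h fr hm a c _ (fr.ee 0 (m - 1) (by omega) (by omega)) (fr.ed 0 (by omega))

theorem uel_e_succ (hm : 1 ≤ m) (a c : F) (j : ℕ) (hj : j + 1 < m) :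
    uel h fr hm a c (e (j + 1)) = e (j + 1) + e j := by
  rw [uel_apply, uLevi_e_lt h fr (m - 1) j (by omega) (by omega), map_add,
    qel_fix h fr hm a c _ (fr.ee (j + 1) (m - 1) (by omega) (by omega)) (fr.ed (j + 1) hj),
    qel_fix h fr hm a c _ (fr.ee j (m - 1) (by omega) (by omega)) (fr.ed j (by omega))]

theorem uel_d (hm : 1 ≤ m) (a c : F) : uel h fr hm a c d = d - σ a • e (m - 1) := by
  rw [uel_apply, uLevi_d, qel_apply, fr.de (m - 1) (by omega), h.smul_right, fr.dd]
  simp

theorem uel_f_last (hm : 1 ≤ m) (a c : F) :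
    uel h fr hm a c (f (m - 1)) = f (m - 1) + a • d + c • e (m - 1) := by
  rw [uel_apply, uLevi_f_ge h fr (m - 1) (m - 1) le_rfl (by omega), qel_apply,
    fr.fe (m - 1) (m - 1) (by omega) (by omega), if_pos rfl, h.smul_right,
    fr.fd (m - 1) (by omega)]
  simp

theorem uel_f_pair (hm : 1 ≤ m) (a c : F) (j : ℕ) (hj : j + 1 < m) :
    uel h fr hm a c (f j + f (j + 1)) = f j := by
  rw [uel_apply, uLevi_f_pair h fr (m - 1) j (by omega) (by omega)]
  apply qel_fix h fr hm a c _ _ (fr.fd j (by omega))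
  rw [fr.fe j (m - 1) (by omega) (by omega), if_neg (by omega)]

theorem uel_inv_f (hm : 1 ≤ m) (a c : F) (j : ℕ) (hj : j + 1 < m) :
    (uel h fr hm a c)⁻¹ (f j) = f j + f (j + 1) := by
  conv_lhs => rw [← uel_f_pair h fr hm a c j hj]
  rw [← LinearEquiv.mul_apply, inv_mul_cancel]
  rfl

end PKU

/-! ### nilpotency: an abstract computation -/

section nil

variable {m : ℕ} {e f : ℕ → V} {d : V}

theorem pku_pow_kill (N : V →ₗ[F] V) (k0 k : ℕ) (hk : k0 ≤ k) (y : V) (hy : (N ^ k0) y = 0) :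
    (N ^ k) y = 0 := by
  obtain ⟨t, rfl⟩ := Nat.exists_eq_add_of_le hk
  rw [add_comm, pow_add, Module.End.mul_apply, hy, map_zero]

theorem pku_pow_succ_apply (N : V →ₗ[F] V) (k : ℕ) (y : V) : (N ^ (k + 1)) y = (N ^ k) (N y) := by
  rw [pow_succ, Module.End.mul_apply]

/-- the abstract computation behind `uel_isNilpotent` and `uel_pow_ne_zero` -/
theorem pku_nil_core (fr : Frame H m e f d) (hm : 1 ≤ m) (N : V →ₗ[F] V) (a c s : F)
    (N1 : N (e 0) = 0) (N2 : ∀ j, j + 1 < m → N (e (j + 1)) = e j)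
    (N3 : N d = -(s • e (m - 1))) (N4 : N (f (m - 1)) = a • d + c • e (m - 1))
    (N5 : ∀ j, j + 1 < m → N (f j) = -(f (j + 1)) - N (f (j + 1))) :
    N ^ (2 * m + 1) = 0 ∧ (N ^ (2 * m)) (f 0) = ((-1) ^ m * (a * s)) • e 0 := by
  -- the `e`'s
  have K1 : ∀ j, j < m → (N ^ (j + 1)) (e j) = 0 ∧ (N ^ j) (e j) = e 0 := by
    intro j
    induction j with
    | zero =>
      intro _
      exact ⟨by rw [pow_one, N1], by rw [pow_zero]; rfl⟩
    | succ j ih =>
      intro hj
      obtain ⟨h1, h2⟩ := ih (by omega)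
      exact ⟨by rw [pku_pow_succ_apply, N2 j hj, h1], by rw [pku_pow_succ_apply, N2 j hj, h2]⟩
  have hlast : m - 1 + 1 = m := by omega
  have K1a : (N ^ m) (e (m - 1)) = 0 := by
    have := (K1 (m - 1) (by omega)).1
    rwa [hlast] at this
  have K1b : (N ^ (m - 1)) (e (m - 1)) = e 0 := (K1 (m - 1) (by omega)).2
  -- `d`
  have K2 : (N ^ (m + 1)) d = 0 := by
    rw [pku_pow_succ_apply, N3, map_neg, map_smul, K1a, smul_zero, neg_zero]
  -- `f_{m-1}`
  have K3 : (N ^ (m + 2)) (f (m - 1)) = 0 := by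
    rw [pku_pow_succ_apply, N4, map_add, map_smul, map_smul, K2,
      pku_pow_kill N m (m + 1) (by omega) _ K1a, smul_zero, smul_zero, add_zero]
  -- the other `f`'s
  have K4 : ∀ i, i < m → (N ^ (m + 2 + i)) (f (m - 1 - i)) = 0 := by
    intro i
    induction i with
    | zero => intro _; exact K3
    | succ i ih =>
      intro hi
      have h1 := ih (by omega)
      have hidx : m - 1 - (i + 1) + 1 = m - 1 - i := by omega
      have e1 : m + 2 + (i + 1) = (m + 2 + i) + 1 := by omega
      rw [e1, pku_pow_succ_apply, N5 (m - 1 - (i + 1)) (by omega), hidx, map_sub, map_neg, h1,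
        ← pku_pow_succ_apply, pku_pow_kill N (m + 2 + i) (m + 2 + i + 1) (by omega) _ h1]
      simp
  have K6 : (N ^ (m + 1)) (f (m - 1)) = (-(a * s)) • e 0 := by
    have hNd : (N ^ m) d = (-s) • e 0 := by
      conv_lhs => rw [← hlast]
      rw [pku_pow_succ_apply, N3, map_neg, map_smul, K1b, neg_smul]
    rw [pku_pow_succ_apply, N4, map_add, map_smul, map_smul, K1a, smul_zero, add_zero, hNd,
      smul_smul]
    congr 1
    ring
  have K7 : ∀ i, i < m →
      (N ^ (m + 1 + i)) (f (m - 1 - i)) = ((-1) ^ i : F) • (N ^ (m + 1)) (f (m - 1)) := by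
    intro i
    induction i with
    | zero => intro _; simp
    | succ i ih =>
      intro hi
      have h1 := ih (by omega)
      have h0 := K4 i (by omega)
      have hidx : m - 1 - (i + 1) + 1 = m - 1 - i := by omega
      have e1 : m + 1 + (i + 1) = (m + 1 + i) + 1 := by omega
      have e2 : m + 1 + i + 1 = m + 2 + i := by omega
      rw [e1, pku_pow_succ_apply, N5 (m - 1 - (i + 1)) (by omega), hidx, map_sub, map_neg, h1,
        ← pku_pow_succ_apply, e2, h0, sub_zero, pow_succ (-1 : F) i, mul_neg_one, neg_smul]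
  refine ⟨?_, ?_⟩
  · apply LinearMap.ext
    intro x
    rw [fr.expand x, map_add, map_sum, map_smul,
      pku_pow_kill N (m + 1) (2 * m + 1) (by omega) _ K2, smul_zero, add_zero,
      LinearMap.zero_apply]
    apply Finset.sum_eq_zero
    intro i hi
    have him : i < m := Finset.mem_range.mp hi
    rw [map_add, map_smul, map_smul,
      pku_pow_kill N (i + 1) (2 * m + 1) (by omega) _ (K1 i him).1, smul_zero, zero_add]
    have h4 := K4 (m - 1 - i) (by omega)
    have hidx : m - 1 - (m - 1 - i) = i := by omega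
    rw [hidx] at h4
    rw [pku_pow_kill N (m + 2 + (m - 1 - i)) (2 * m + 1) (by omega) _ h4, smul_zero]
  · have h7 := K7 (m - 1) (by omega)
    have hidx : m - 1 - (m - 1) = 0 := by omega
    have e1 : m + 1 + (m - 1) = 2 * m := by omega
    rw [hidx, e1, K6, smul_smul] at h7
    rw [h7]
    congr 1
    have : ((-1 : F)) ^ m = (-1) ^ (m - 1) * (-1) := by
      rw [← pow_succ, hlast]
    rw [this]
    ring

end nil

section PKU2
variable (h : IsHerm σ H) {m : ℕ} {e f : ℕ → V} {d : V} (fr : Frame H m e f d)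

theorem uel_nil_data (hm : 1 ≤ m) (a c : F) :
    (((uel h fr hm a c : V ≃ₗ[F] V) : V →ₗ[F] V) - 1) ^ (2 * m + 1) = 0 ∧
      ((((uel h fr hm a c : V ≃ₗ[F] V) : V →ₗ[F] V) - 1) ^ (2 * m)) (f 0) =
        ((-1) ^ m * (a * σ a)) • e 0 := by
  have hN : ∀ x, (((uel h fr hm a c : V ≃ₗ[F] V) : V →ₗ[F] V) - 1) x =
      uel h fr hm a c x - x := fun x => rfl
  apply pku_nil_core fr hm _ a c (σ a)
  · rw [hN, uel_e_zero, sub_self]
  · intro j hj
    rw [hN, uel_e_succ h fr hm a c j hj, add_sub_cancel_left]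
  · rw [hN, uel_d]
    abel
  · rw [hN, uel_f_last]
    abel
  · intro j hj
    rw [hN, hN]
    have key := uel_f_pair h fr hm a c j hj
    rw [map_add] at key
    rw [eq_sub_of_add_eq key]
    abel

theorem uel_isNilpotent (hm : 1 ≤ m) {a c : F} (hc : c + σ c + a * σ a = 0) :
    IsNilpotent (((uel h fr hm a c : V ≃ₗ[F] V) : V →ₗ[F] V) - 1) :=
  ⟨2 * m + 1, (uel_nil_data h fr hm a c).1⟩

theorem uel_pow_ne_zero (hm : 1 ≤ m) {a c : F} (hc : c + σ c + a * σ a = 0) (ha : a ≠ 0) :
    (((uel h fr hm a c : V ≃ₗ[F] V) : V →ₗ[F] V) - 1) ^ (2 * m) ≠ 0 := by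
  intro h0
  have h1 := (uel_nil_data h fr hm a c).2
  rw [h0, LinearMap.zero_apply] at h1
  have h2 : H 0 (f 0) = H (((-1) ^ m * (a * σ a)) • e 0) (f 0) := by rw [← h1]
  rw [h.zero_left, h.smul_left, fr.ef 0 0 (by omega) (by omega), if_pos rfl, mul_one] at h2
  have hsa : σ a ≠ 0 := fun hs => ha ((map_eq_zero σ).mp hs)
  have : ((-1 : F)) ^ m * (a * σ a) ≠ 0 :=
    mul_ne_zero (pow_ne_zero _ (neg_ne_zero.mpr one_ne_zero)) (mul_ne_zero ha hsa)
  exact this h2.symm

end PKU2

end Cfsg.Agent.Lib.Helper1.SUR
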