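import Mathlib
import Cfsg.Agent.Lib.Lead.SchDefs

/-!
# S4395, package LA0: coordinates on an irreducible module

`(V, T)` an `IrrMod`: the subring `K` of `End V` generated by `T` is a finite field of
characteristic `p`, and `k ↦ k v₀` is an additive isomorphism `K ≃+ V` carrying multiplication by
`ζ := T` to `T`.
-/

set_option autoImplicit false
set_option linter.deprecated false

universe u

namespace Cfsg.Agent.Lib.Lead.Sch

section
variable {V : Type u} [AddCommGroup V] [Finite V] (p q : ℕ) [Fact p.Prime] [Fact q.Prime]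

/-- LA0: coordinates. -/
theorem coord (hpq : p ≠ q) (T : V ≃+ V) (h : IrrMod p q V T) :
    ∃ (K : Type u) (_ : Field K) (_ : Finite K) (ζ : K) (e : K ≃+ V),
      CharP K p ∧ ζ ^ q = 1 ∧ ζ ≠ 1 ∧ (∀ k, e (ζ * k) = T (e k)) ∧
        ∀ S : Subring K, ζ ∈ S → S = ⊤ := by
  classical
  -- the endomorphism `t`
  let t : AddMonoid.End V := T.toAddMonoidHom
  have ht : ∀ v, t v = T v := fun v => rfl
  let K₀ : Subring (AddMonoid.End V) := Subring.closure {t}
  have hcomm : ∀ x ∈ ({t} : Set (AddMonoid.End V)), ∀ y ∈ ({t} : Set (AddMonoid.End V)),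
      x * y = y * x := by
    intro x hx y hy
    rw [Set.mem_singleton_iff] at hx hy
    rw [hx, hy]
  letI : CommRing K₀ := Subring.closureCommRingOfComm hcomm
  have hfin : Finite (AddMonoid.End V) := by
    apply Finite.of_injective (fun f : AddMonoid.End V => (f : V → V))
    exact DFunLike.coe_injective
  haveI : Finite K₀ := Finite.of_injective (fun k : K₀ => (k : AddMonoid.End V)) Subtype.val_injective
  let ζ : K₀ := ⟨t, Subring.subset_closure rfl⟩
  -- elements of `K₀` commute with `t`
  have hct : ∀ k : K₀, ∀ v : V, (k : AddMonoid.End V) (T v) = T ((k : AddMonoid.End V) v) := by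
    intro k v
    have h1 : k * ζ = ζ * k := mul_comm k ζ
    have h2 : ((k * ζ : K₀) : AddMonoid.End V) v = ((ζ * k : K₀) : AddMonoid.End V) v := by rw [h1]
    exact h2
  obtain ⟨v₀, hv₀⟩ := h.ne_one
  have hv₀0 : v₀ ≠ 0 := by
    intro h0
    apply hv₀
    rw [h0, map_zero]
  -- nonzero elements are injective
  have hinj : ∀ k : K₀, k ≠ 0 → ∀ v : V, (k : AddMonoid.End V) v = 0 → v = 0 := by
    intro k hk v hv
    have hker := h.irr (AddMonoidHom.ker (k : AddMonoid.End V)) (by
      intro w hw
      change (k : AddMonoid.End V) w = 0 at hw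
      change (k : AddMonoid.End V) (T w) = 0
      rw [hct k w, hw, map_zero])
    rcases hker with hbot | htop
    · have : v ∈ AddMonoidHom.ker (k : AddMonoid.End V) := hv
      rw [hbot, AddSubgroup.mem_bot] at this
      exact this
    · exfalso
      apply hk
      apply Subtype.ext
      apply AddMonoidHom.ext
      intro w
      have : w ∈ AddMonoidHom.ker (k : AddMonoid.End V) := by rw [htop]; trivial
      exact this
  haveI : Nontrivial K₀ := by
    refine ⟨⟨1, 0, ?_⟩⟩
    intro h10
    apply hv₀0
    have : ((1 : K₀) : AddMonoid.End V) v₀ = ((0 : K₀) : AddMonoid.End V) v₀ := by rw [h10]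
    exact this
  haveI : NoZeroDivisors K₀ := by
    refine ⟨?_⟩
    intro a b hab
    by_contra hcon
    push Not at hcon
    apply hcon.2
    apply Subtype.ext
    apply AddMonoidHom.ext
    intro w
    apply hinj a hcon.1
    have : ((a * b : K₀) : AddMonoid.End V) w = ((0 : K₀) : AddMonoid.End V) w := by rw [hab]
    exact this
  haveI : IsDomain K₀ := NoZeroDivisors.to_isDomain K₀
  letI : Field K₀ := (Finite.isField_of_domain K₀).toField
  -- the map `e`
  let e₀ : K₀ →+ V :=
    { toFun := fun k => (k : AddMonoid.End V) v₀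
      map_zero' := rfl
      map_add' := fun a b => rfl }
  have he₀ : ∀ k : K₀, e₀ k = (k : AddMonoid.End V) v₀ := fun k => rfl
  have he₀inj : Function.Injective e₀ := by
    rw [injective_iff_map_eq_zero]
    intro k hk
    by_contra hk0
    exact hv₀0 (hinj k hk0 v₀ hk)
  have he₀surj : Function.Surjective e₀ := by
    have hr := h.irr (AddMonoidHom.range e₀) (by
      rintro _ ⟨k, rfl⟩
      refine ⟨ζ * k, ?_⟩
      rfl)
    rcases hr with hbot | htop
    · exfalso
      apply hv₀0
      have : v₀ ∈ AddMonoidHom.range e₀ := ⟨1, rfl⟩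
      rw [hbot, AddSubgroup.mem_bot] at this
      exact this
    · intro v
      have : v ∈ AddMonoidHom.range e₀ := by rw [htop]; trivial
      exact this
  let e : K₀ ≃+ V := AddEquiv.ofBijective e₀ ⟨he₀inj, he₀surj⟩
  refine ⟨K₀, inferInstance, inferInstance, ζ, e, ?_, ?_, ?_, ?_, ?_⟩
  · -- characteristic
    have hp0 : ((p : ℕ) : K₀) = 0 := by
      apply Subtype.ext
      apply AddMonoidHom.ext
      intro w
      have h1 : (((p : ℕ) : K₀) : AddMonoid.End V) = ((p : ℕ) : AddMonoid.End V) := by
        simp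
      rw [h1]
      exact (AddMonoid.End.natCast_apply p w).trans (h.exp w)
    exact ringChar.of_eq (CharP.ringChar_of_prime_eq_zero (Fact.out : p.Prime) hp0)
  · -- ζ ^ q = 1
    apply Subtype.ext
    apply AddMonoidHom.ext
    intro w
    have h1 : ((ζ ^ q : K₀) : AddMonoid.End V) = t ^ q := by simp [ζ]
    rw [h1]
    exact (congrFun (AddMonoid.End.coe_pow V t q) w).trans (h.pow w)
  · -- ζ ≠ 1
    intro h1
    apply hv₀
    have : ((ζ : K₀) : AddMonoid.End V) v₀ = ((1 : K₀) : AddMonoid.End V) v₀ := by rw [h1]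
    exact this
  · intro k
    rfl
  · intro S hS
    rw [eq_top_iff]
    intro k _
    have hle : K₀ ≤ S.map K₀.subtype := by
      apply Subring.closure_le.mpr
      intro x hx
      rw [Set.mem_singleton_iff] at hx
      rw [hx]
      exact ⟨ζ, hS, rfl⟩
    obtain ⟨k', hk', hkk'⟩ := hle k.2
    have : k' = k := Subtype.ext hkk'
    rw [← this]
    exact hk'

end

end Cfsg.Agent.Lib.Lead.Sch
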