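import Mathlib
import Cfsg.Agent.Lib.Lead.SchDefs
import Cfsg.Agent.Lib.Helper7.SchLA0

/-!
# S4395, package LA1: the order of an irreducible module

A finite field `K` of characteristic `p` generated (as a ring) by an element `ζ` of order `q` has
`p ^ ord_q(p)` elements; hence so has every `IrrMod`.
-/

set_option autoImplicit false

universe u

open Polynomial

namespace Cfsg.Agent.Lib.Lead.Sch

section
variable {V : Type u} [AddCommGroup V] [Finite V] (p q : ℕ) [Fact p.Prime] [Fact q.Prime]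

/-- `p` has positive order modulo `q`. -/
theorem ordp_pos (hpq : p ≠ q) : 0 < orderOf (p : ZMod q) := by
  have hcop : Nat.Coprime p q := (Nat.coprime_primes Fact.out Fact.out).mpr hpq
  have h1 : ((ZMod.unitOfCoprime p hcop : (ZMod q)ˣ) : ZMod q) = (p : ZMod q) :=
    ZMod.coe_unitOfCoprime p hcop
  rw [← h1, orderOf_units]
  exact orderOf_pos _

/-- `p ^ ord_q(p) = 1 + q * m`. -/
theorem exists_pow_ordp_eq (hpq : p ≠ q) : ∃ m : ℕ, p ^ orderOf (p : ZMod q) = 1 + q * m := by
  have h1 : ((p ^ orderOf (p : ZMod q) : ℕ) : ZMod q) = ((1 : ℕ) : ZMod q) := by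
    push_cast
    exact pow_orderOf_eq_one _
  have h2 := (ZMod.natCast_eq_natCast_iff _ _ _).mp h1
  have h3 : 1 ≤ p ^ orderOf (p : ZMod q) := Nat.one_le_pow _ _ (Fact.out : p.Prime).pos
  have h4 := (Nat.modEq_iff_dvd' h3).mp h2.symm
  obtain ⟨m, hm⟩ := h4
  exact ⟨m, by omega⟩

/-- LA1 (field level). -/
theorem field_card (hpq : p ≠ q) {K : Type u} [Field K] [Finite K] [CharP K p] (ζ : K)
    (hζq : ζ ^ q = 1) (hζ1 : ζ ≠ 1) (hgen : ∀ S : Subring K, ζ ∈ S → S = ⊤) :
    Nat.card K = p ^ orderOf (p : ZMod q) := by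
  classical
  haveI : Fintype K := Fintype.ofFinite K
  have hp : p.Prime := Fact.out
  obtain ⟨d, -, hd⟩ := FiniteField.card K p
  rw [Nat.card_eq_fintype_card, hd]
  have hζ0 : ζ ≠ 0 := by
    intro h0
    rw [h0, zero_pow (Fact.out : q.Prime).ne_zero] at hζq
    exact zero_ne_one hζq
  have hord : orderOf ζ = q := orderOf_eq_prime hζq hζ1
  -- `q ∣ p ^ d - 1`
  have h1 : q ∣ p ^ (d : ℕ) - 1 := by
    rw [← hord, ← hd]
    exact orderOf_dvd_of_pow_eq_one (FiniteField.pow_card_sub_one_eq_one ζ hζ0)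
  have hpd1 : 1 ≤ p ^ (d : ℕ) := Nat.one_le_pow _ _ hp.pos
  have h2 : (p : ZMod q) ^ (d : ℕ) = 1 := by
    have : ((p ^ (d : ℕ) : ℕ) : ZMod q) = ((1 : ℕ) : ZMod q) := by
      rw [ZMod.natCast_eq_natCast_iff]
      exact ((Nat.modEq_iff_dvd' hpd1).mpr h1).symm
    push_cast at this
    exact this
  have h3 : orderOf (p : ZMod q) ∣ (d : ℕ) := orderOf_dvd_of_pow_eq_one h2
  have ha := ordp_pos p q hpq
  -- Frobenius fixed points
  obtain ⟨m, hm⟩ := exists_pow_ordp_eq p q hpq
  have hζfix : ζ ^ p ^ orderOf (p : ZMod q) = ζ := by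
    rw [hm, pow_add, pow_mul, hζq, one_pow, pow_one, mul_one]
  have hS := hgen (RingHom.eqLocus (iterateFrobenius K p (orderOf (p : ZMod q))) (RingHom.id K))
    (by
      show (iterateFrobenius K p (orderOf (p : ZMod q))) ζ = RingHom.id K ζ
      rw [iterateFrobenius_def]
      exact hζfix)
  have hall : ∀ k : K, k ^ p ^ orderOf (p : ZMod q) = k := by
    intro k
    have : k ∈ RingHom.eqLocus (iterateFrobenius K p (orderOf (p : ZMod q))) (RingHom.id K) := by
      rw [hS]; trivial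
    have h4 : (iterateFrobenius K p (orderOf (p : ZMod q))) k = RingHom.id K k := this
    rw [iterateFrobenius_def] at h4
    exact h4
  -- count roots
  have hne : (X ^ p ^ orderOf (p : ZMod q) - X : K[X]) ≠ 0 :=
    FiniteField.X_pow_card_pow_sub_X_ne_zero K ha.ne' hp.one_lt
  have hdeg : (X ^ p ^ orderOf (p : ZMod q) - X : K[X]).natDegree = p ^ orderOf (p : ZMod q) :=
    FiniteField.X_pow_card_pow_sub_X_natDegree_eq K ha.ne' hp.one_lt
  have hsub : (Finset.univ : Finset K) ⊆ (X ^ p ^ orderOf (p : ZMod q) - X : K[X]).roots.toFinset := by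
    intro k _
    rw [Multiset.mem_toFinset, mem_roots hne, IsRoot.def, eval_sub, eval_pow, eval_X, hall k,
      sub_self]
  have hle : p ^ (d : ℕ) ≤ p ^ orderOf (p : ZMod q) := by
    calc p ^ (d : ℕ) = (Finset.univ : Finset K).card := by rw [Finset.card_univ, hd]
      _ ≤ (X ^ p ^ orderOf (p : ZMod q) - X : K[X]).roots.toFinset.card := Finset.card_le_card hsub
      _ ≤ Multiset.card (X ^ p ^ orderOf (p : ZMod q) - X : K[X]).roots := Multiset.toFinset_card_le _
      _ ≤ (X ^ p ^ orderOf (p : ZMod q) - X : K[X]).natDegree := card_roots' _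
      _ = p ^ orderOf (p : ZMod q) := hdeg
  have hda : (d : ℕ) ≤ orderOf (p : ZMod q) := (Nat.pow_le_pow_iff_right hp.one_lt).mp hle
  have had : orderOf (p : ZMod q) ≤ (d : ℕ) := Nat.le_of_dvd d.pos h3
  rw [le_antisymm hda had]

/-- LA1. -/
theorem irr_card (hpq : p ≠ q) (T : V ≃+ V) (h : IrrMod p q V T) :
    Nat.card V = p ^ orderOf (p : ZMod q) := by
  obtain ⟨K, hF, hfin, ζ, e, hchar, hζq, hζ1, -, hgen⟩ := coord p q hpq T h
  rw [← Nat.card_congr e.toEquiv]
  exact field_card p q hpq ζ hζq hζ1 hgen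

end

end Cfsg.Agent.Lib.Lead.Sch
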