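import Mathlib

set_option autoImplicit false

/-!
# S5639 (subfield groups are maximal in `SL_n`): definitions and basic calculus

`tvm a v φ = 1 + a • v φᵀ` (a transvection when `φ ⬝ᵥ v = 0`), `Mm M A` = "the matrix `A` is the matrix of an element
of `M`", rational vectors / matrices w.r.t. a subfield `F₀`.
-/

namespace Cfsg.Agent.Lib.Helper7.Subf

open Matrix

variable {F : Type*} [Field F] {n : ℕ}

/-- the matrix `1 + a • v φᵀ` -/
def tvm (a : F) (v φ : Fin n → F) : Matrix (Fin n) (Fin n) F := 1 + a • vecMulVec v φ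

/-- `A` is the matrix of an element of `M` -/
def Mm (M : Subgroup (GL (Fin n) F)) (A : Matrix (Fin n) (Fin n) F) : Prop :=
  ∃ g ∈ M, (g : Matrix (Fin n) (Fin n) F) = A

/-- rational vectors: all coordinates in `F₀` -/
def Rat (F₀ : Subfield F) (v : Fin n → F) : Prop := ∀ i, v i ∈ F₀

/-- rational matrices: all entries in `F₀` -/
def RatMat (F₀ : Subfield F) (A : Matrix (Fin n) (Fin n) F) : Prop := ∀ i j, A i j ∈ F₀

/-- `M` contains the rational transvections -/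
def HasRatTv (F₀ : Subfield F) (M : Subgroup (GL (Fin n) F)) : Prop :=
  ∀ v φ : Fin n → F, Rat F₀ v → Rat F₀ φ → φ ⬝ᵥ v = 0 → Mm M (tvm 1 v φ)

/-- the coefficient set of `M`: the `a` with `1 + a • v φᵀ ∈ M` for ALL rational incident pairs -/
def AA (F₀ : Subfield F) (M : Subgroup (GL (Fin n) F)) : Set F :=
  {a | ∀ v φ : Fin n → F, Rat F₀ v → Rat F₀ φ → φ ⬝ᵥ v = 0 → Mm M (tvm a v φ)}

/-- the root groups of `M` at rational incident pairs are rational -/
def SS (F₀ : Subfield F) (M : Subgroup (GL (Fin n) F)) : Prop :=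
  ∀ (a : F) (v φ : Fin n → F), Rat F₀ v → Rat F₀ φ → v ≠ 0 → φ ≠ 0 → φ ⬝ᵥ v = 0 →
    Mm M (tvm a v φ) → a ∈ F₀

/-- `A` is a non-zero scalar multiple of a rational matrix -/
def InN (F₀ : Subfield F) (A : Matrix (Fin n) (Fin n) F) : Prop :=
  ∃ c : F, c ≠ 0 ∧ RatMat F₀ (c • A)

/-- two vectors are independent: some 2×2 minor does not vanish -/
def Indep (φ₁ φ₂ : Fin n → F) : Prop := ∃ i j, φ₁ i * φ₂ j - φ₁ j * φ₂ i ≠ 0

/-! ## rank one matrices -/

theorem vmv_mul (v φ v' φ' : Fin n → F) :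
    vecMulVec v φ * vecMulVec v' φ' = (φ ⬝ᵥ v') • vecMulVec v φ' := by
  ext i j
  simp only [Matrix.mul_apply, vecMulVec_apply, Matrix.smul_apply, smul_eq_mul, dotProduct]
  rw [Finset.sum_mul]
  refine Finset.sum_congr rfl (fun k _ => ?_)
  ring

theorem vmv_mulVec (v φ x : Fin n → F) : vecMulVec v φ *ᵥ x = (φ ⬝ᵥ x) • v := by
  ext i
  simp only [mulVec, vecMulVec_apply, dotProduct, Pi.smul_apply, smul_eq_mul]
  rw [Finset.sum_mul]
  refine Finset.sum_congr rfl (fun k _ => ?_)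
  ring

theorem vecMul_vmv (v φ x : Fin n → F) : x ᵥ* vecMulVec v φ = (x ⬝ᵥ v) • φ := by
  ext i
  simp only [vecMul, vecMulVec_apply, dotProduct, Pi.smul_apply, smul_eq_mul]
  rw [Finset.sum_mul]
  refine Finset.sum_congr rfl (fun k _ => ?_)
  ring

theorem tvm_mulVec (a : F) (v φ x : Fin n → F) : tvm a v φ *ᵥ x = x + (a * (φ ⬝ᵥ x)) • v := by
  rw [tvm, add_mulVec, one_mulVec, smul_mulVec, vmv_mulVec, smul_smul]

theorem tvm_zero (v φ : Fin n → F) : tvm (0 : F) v φ = 1 := by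
  rw [tvm, zero_smul, add_zero]

theorem tvm_mul_tvm (a b : F) (v φ : Fin n → F) (h : φ ⬝ᵥ v = 0) :
    tvm a v φ * tvm b v φ = tvm (a + b) v φ := by
  simp only [tvm]
  rw [add_mul, mul_add, mul_add, one_mul, mul_one, one_mul, smul_mul_smul_comm, vmv_mul, h, zero_smul,
    smul_zero, add_zero, add_smul]
  abel

theorem tvm_smul_left (a c : F) (v φ : Fin n → F) : tvm a (c • v) φ = tvm (a * c) v φ := by
  simp only [tvm]
  congr 1
  ext i j
  simp only [Matrix.smul_apply, vecMulVec_apply, Pi.smul_apply, smul_eq_mul]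
  ring

theorem tvm_smul_right (a c : F) (v φ : Fin n → F) : tvm a v (c • φ) = tvm (a * c) v φ := by
  simp only [tvm]
  congr 1
  ext i j
  simp only [Matrix.smul_apply, vecMulVec_apply, Pi.smul_apply, smul_eq_mul]
  ring

/-! ## `Mm` -/

theorem Mm.one (M : Subgroup (GL (Fin n) F)) : Mm M 1 := ⟨1, M.one_mem, rfl⟩

theorem Mm.mul {M : Subgroup (GL (Fin n) F)} {A B : Matrix (Fin n) (Fin n) F} (hA : Mm M A)
    (hB : Mm M B) : Mm M (A * B) := by
  obtain ⟨g, hg, rfl⟩ := hA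
  obtain ⟨h, hh, rfl⟩ := hB
  exact ⟨g * h, M.mul_mem hg hh, rfl⟩

theorem Mm.of_mem {M : Subgroup (GL (Fin n) F)} {g : GL (Fin n) F} (hg : g ∈ M) :
    Mm M (g : Matrix (Fin n) (Fin n) F) := ⟨g, hg, rfl⟩

/-- an element of `M` with a known two-sided inverse matrix -/
theorem Mm.inv_of_mul_eq_one {M : Subgroup (GL (Fin n) F)} {A B : Matrix (Fin n) (Fin n) F}
    (hA : Mm M A) (hAB : A * B = 1) : Mm M B := by
  obtain ⟨g, hg, rfl⟩ := hA
  refine ⟨g⁻¹, M.inv_mem hg, ?_⟩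
  have h1 : ((g⁻¹ : GL (Fin n) F) : Matrix (Fin n) (Fin n) F) * (g : Matrix (Fin n) (Fin n) F) = 1 := by
    rw [← Units.val_mul, inv_mul_cancel, Units.val_one]
  calc ((g⁻¹ : GL (Fin n) F) : Matrix (Fin n) (Fin n) F)
      = ((g⁻¹ : GL (Fin n) F) : Matrix (Fin n) (Fin n) F) * ((g : Matrix (Fin n) (Fin n) F) * B) := by
        rw [hAB, mul_one]
    _ = B := by rw [← mul_assoc, h1, one_mul]

/-- the commutator of `1 + A` and `1 + B` when `A² = B² = BA = 0` is `1 + AB` -/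
theorem Mm.comm {M : Subgroup (GL (Fin n) F)} {A B : Matrix (Fin n) (Fin n) F}
    (hA : A * A = 0) (hB : B * B = 0) (hBA : B * A = 0) (h1 : Mm M (1 + A)) (h2 : Mm M (1 + B)) :
    Mm M (1 + A * B) := by
  have i1 : Mm M (1 - A) := h1.inv_of_mul_eq_one (by
    rw [mul_sub, add_mul, add_mul, one_mul, mul_one, one_mul, hA]; abel)
  have i2 : Mm M (1 - B) := h2.inv_of_mul_eq_one (by
    rw [mul_sub, add_mul, add_mul, one_mul, mul_one, one_mul, hB]; abel)
  have h := ((h1.mul h2).mul i1).mul i2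
  have hABA : A * B * A = 0 := by rw [mul_assoc, hBA, mul_zero]
  have hBAB : B * A * B = 0 := by rw [hBA, zero_mul]
  have e : (1 + A) * (1 + B) * (1 - A) * (1 - B) = 1 + A * B := by
    have e1 : (1 + A) * (1 + B) * (1 - A) = 1 + B + A * B := by
      simp only [add_mul, mul_add, mul_sub, one_mul, mul_one, hA, hBA, hABA]
      abel
    rw [e1]
    simp only [add_mul, mul_sub, one_mul, mul_one, hB, mul_assoc, mul_zero]
    abel
  rwa [e] at h

/-- conjugating by an element of `M` -/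
theorem Mm.conj {M : Subgroup (GL (Fin n) F)} {A : Matrix (Fin n) (Fin n) F} (hA : Mm M A)
    {g : GL (Fin n) F} (hg : g ∈ M) :
    Mm M ((g : Matrix (Fin n) (Fin n) F) * A * ((g⁻¹ : GL (Fin n) F) : Matrix (Fin n) (Fin n) F)) :=
  ((Mm.of_mem hg).mul hA).mul (Mm.of_mem (M.inv_mem hg))

theorem conj_tvm (g : GL (Fin n) F) (a : F) (v φ : Fin n → F) :
    (g : Matrix (Fin n) (Fin n) F) * tvm a v φ * ((g⁻¹ : GL (Fin n) F) : Matrix (Fin n) (Fin n) F) =
      tvm a ((g : Matrix (Fin n) (Fin n) F) *ᵥ v)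
        (φ ᵥ* ((g⁻¹ : GL (Fin n) F) : Matrix (Fin n) (Fin n) F)) := by
  have h1 : (g : Matrix (Fin n) (Fin n) F) * ((g⁻¹ : GL (Fin n) F) : Matrix (Fin n) (Fin n) F) = 1 := by
    rw [← Units.val_mul, mul_inv_cancel, Units.val_one]
  simp only [tvm]
  rw [mul_add, add_mul, mul_one, h1]
  congr 1
  rw [Matrix.mul_smul, Matrix.smul_mul, mul_vecMulVec, vecMulVec_mul]

/-- the basic commutator of two transvections -/
theorem Mm.comm_tvm {M : Subgroup (GL (Fin n) F)} {a b : F} {v φ v' φ' : Fin n → F}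
    (h1 : φ ⬝ᵥ v = 0) (h2 : φ' ⬝ᵥ v' = 0) (h3 : φ' ⬝ᵥ v = 0)
    (hM1 : Mm M (tvm a v φ)) (hM2 : Mm M (tvm b v' φ')) :
    Mm M (tvm (a * b * (φ ⬝ᵥ v')) v φ') := by
  have h := Mm.comm (M := M) (A := a • vecMulVec v φ) (B := b • vecMulVec v' φ')
    (by rw [smul_mul_smul_comm, vmv_mul, h1, zero_smul, smul_zero])
    (by rw [smul_mul_smul_comm, vmv_mul, h2, zero_smul, smul_zero])
    (by rw [smul_mul_smul_comm, vmv_mul, h3, zero_smul, smul_zero]) hM1 hM2
  rw [smul_mul_smul_comm, vmv_mul, smul_smul] at h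
  exact h

/-! ## rational objects -/

theorem Rat.add {F₀ : Subfield F} {v w : Fin n → F} (hv : Rat F₀ v) (hw : Rat F₀ w) : Rat F₀ (v + w) :=
  fun i => F₀.add_mem (hv i) (hw i)

theorem Rat.smul {F₀ : Subfield F} {c : F} (hc : c ∈ F₀) {v : Fin n → F} (hv : Rat F₀ v) :
    Rat F₀ (c • v) := fun i => F₀.mul_mem hc (hv i)

theorem Rat.neg {F₀ : Subfield F} {v : Fin n → F} (hv : Rat F₀ v) : Rat F₀ (-v) :=
  fun i => F₀.neg_mem (hv i)

theorem Rat.sub {F₀ : Subfield F} {v w : Fin n → F} (hv : Rat F₀ v) (hw : Rat F₀ w) : Rat F₀ (v - w) :=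
  fun i => F₀.sub_mem (hv i) (hw i)

theorem Rat.zero (F₀ : Subfield F) : Rat F₀ (0 : Fin n → F) := fun _ => F₀.zero_mem

theorem Rat.single (F₀ : Subfield F) (i : Fin n) {c : F} (hc : c ∈ F₀) :
    Rat F₀ (Pi.single i c : Fin n → F) := by
  intro j
  by_cases h : j = i
  · subst h; rw [Pi.single_eq_same]; exact hc
  · rw [Pi.single_eq_of_ne h]; exact F₀.zero_mem

theorem Rat.dot {F₀ : Subfield F} {v w : Fin n → F} (hv : Rat F₀ v) (hw : Rat F₀ w) : v ⬝ᵥ w ∈ F₀ :=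
  F₀.sum_mem (fun i _ => F₀.mul_mem (hv i) (hw i))

theorem RatMat.mulVec {F₀ : Subfield F} {A : Matrix (Fin n) (Fin n) F} (hA : RatMat F₀ A)
    {v : Fin n → F} (hv : Rat F₀ v) : Rat F₀ (A *ᵥ v) :=
  fun i => by
    simp only [Matrix.mulVec, dotProduct]
    exact F₀.sum_mem (fun j _ => F₀.mul_mem (hA i j) (hv j))

theorem RatMat.mul {F₀ : Subfield F} {A B : Matrix (Fin n) (Fin n) F} (hA : RatMat F₀ A)
    (hB : RatMat F₀ B) : RatMat F₀ (A * B) :=
  fun i j => by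
    rw [Matrix.mul_apply]
    exact F₀.sum_mem (fun k _ => F₀.mul_mem (hA i k) (hB k j))

theorem RatMat.one (F₀ : Subfield F) : RatMat F₀ (1 : Matrix (Fin n) (Fin n) F) := by
  intro i j
  by_cases h : i = j
  · subst h; rw [Matrix.one_apply_eq]; exact F₀.one_mem
  · rw [Matrix.one_apply_ne h]; exact F₀.zero_mem

theorem ratMat_tvm {F₀ : Subfield F} {a : F} (ha : a ∈ F₀) {v φ : Fin n → F} (hv : Rat F₀ v)
    (hφ : Rat F₀ φ) : RatMat F₀ (tvm a v φ) := by
  intro i j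
  rw [tvm, Matrix.add_apply, Matrix.smul_apply, vecMulVec_apply]
  exact F₀.add_mem (RatMat.one F₀ i j) (F₀.mul_mem ha (F₀.mul_mem (hv i) (hφ j)))

end Cfsg.Agent.Lib.Helper7.Subf
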