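import Cfsg.Agent.Lib.Helper2.WG.Defs3
import Cfsg.Agent.Lib.Helper2.Symp4

set_option autoImplicit false
set_option linter.unusedSectionVars false
set_option linter.unusedSimpArgs false

namespace Cfsg.Agent.Lib.Helper2.WG

open Matrix Cfsg Cfsg.Agent.H9SpF Cfsg.Agent.Lib.Helper6.Siegel Cfsg.Agent.Lib.Helper1.SUMin
open scoped ComplexConjugate

universe u

/-!
PK-R3 of the S2524 swarm: the Levi elements `xE`, `hT`, `wG` and the Heisenberg group `ηE` of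
`Sp (m+1)`.  Auxiliary lemmas carry the prefix `r3_`: a calculus of bordered matrices
`r3_bordM a r c M = [[a, rᵀ], [c, M]]`, the block forms of `xE`, `hT`, `qE`, `ιG`, `wG`, and the explicit
action `r3_ιG_conj_ηE` of `Sp m` on the Heisenberg group.
-/

section R3aux

variable {F : Type u} [Field F] {m : ℕ}

/-- the bordered matrix `[[a, rᵀ], [c, M]]` -/
def r3_bordM (a : F) (r c : Fin m → F) (M : Matrix (Fin m) (Fin m) F) :
    Matrix (Fin (m + 1)) (Fin (m + 1)) F :=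
  Matrix.of fun i j => Fin.cases (Fin.cases a r j) (fun i' => Fin.cases (c i') (fun j' => M i' j') j) i

@[simp] theorem r3_bordM_zero_zero (a : F) (r c : Fin m → F) (M : Matrix (Fin m) (Fin m) F) :
    r3_bordM a r c M 0 0 = a := rfl
@[simp] theorem r3_bordM_zero_succ (a : F) (r c : Fin m → F) (M : Matrix (Fin m) (Fin m) F)
    (j : Fin m) : r3_bordM a r c M 0 j.succ = r j := rfl
@[simp] theorem r3_bordM_succ_zero (a : F) (r c : Fin m → F) (M : Matrix (Fin m) (Fin m) F)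
    (i : Fin m) : r3_bordM a r c M i.succ 0 = c i := rfl
@[simp] theorem r3_bordM_succ_succ (a : F) (r c : Fin m → F) (M : Matrix (Fin m) (Fin m) F)
    (i j : Fin m) : r3_bordM a r c M i.succ j.succ = M i j := rfl

theorem r3_bordM_mul (a a' : F) (r c r' c' : Fin m → F) (M M' : Matrix (Fin m) (Fin m) F) :
    r3_bordM a r c M * r3_bordM a' r' c' M' =
      r3_bordM (a * a' + r ⬝ᵥ c') (a • r' + r ᵥ* M') (a' • c + M *ᵥ c') (vecMulVec c r' + M * M') := by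
  ext i j
  rw [Matrix.mul_apply, Fin.sum_univ_succ]
  refine Fin.cases ?_ (fun i' => ?_) i <;> refine Fin.cases ?_ (fun j' => ?_) j <;>
    simp [dotProduct, Matrix.vecMul, Matrix.mulVec, Matrix.mul_apply, vecMulVec_apply, mul_comm]

theorem r3_bordM_add (a a' : F) (r c r' c' : Fin m → F) (M M' : Matrix (Fin m) (Fin m) F) :
    r3_bordM a r c M + r3_bordM a' r' c' M' = r3_bordM (a + a') (r + r') (c + c') (M + M') := by
  ext i j
  refine Fin.cases ?_ (fun i' => ?_) i <;> refine Fin.cases ?_ (fun j' => ?_) j <;> simp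

theorem r3_bordM_transpose (a : F) (r c : Fin m → F) (M : Matrix (Fin m) (Fin m) F) :
    (r3_bordM a r c M)ᵀ = r3_bordM a c r Mᵀ := by
  ext i j
  refine Fin.cases ?_ (fun i' => ?_) i <;> refine Fin.cases ?_ (fun j' => ?_) j <;> simp

theorem r3_bordM_one : r3_bordM (1 : F) (0 : Fin m → F) 0 1 = 1 := by
  ext i j
  refine Fin.cases ?_ (fun i' => ?_) i <;> refine Fin.cases ?_ (fun j' => ?_) j <;>
    simp [Matrix.one_apply, Fin.succ_ne_zero, Ne.symm (Fin.succ_ne_zero _)]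

theorem r3_bordM_zero : r3_bordM (0 : F) (0 : Fin m → F) 0 0 = 0 := by
  ext i j
  refine Fin.cases ?_ (fun i' => ?_) i <;> refine Fin.cases ?_ (fun j' => ?_) j <;> simp

theorem r3_bordM_neg (a : F) (r c : Fin m → F) (M : Matrix (Fin m) (Fin m) F) :
    -r3_bordM a r c M = r3_bordM (-a) (-r) (-c) (-M) := by
  ext i j
  refine Fin.cases ?_ (fun i' => ?_) i <;> refine Fin.cases ?_ (fun j' => ?_) j <;> simp

theorem r3_bordM_inj {a a' : F} {r c r' c' : Fin m → F} {M M' : Matrix (Fin m) (Fin m) F}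
    (h : r3_bordM a r c M = r3_bordM a' r' c' M') : a = a' ∧ r = r' ∧ c = c' ∧ M = M' := by
  refine ⟨?_, ?_, ?_, ?_⟩
  · simpa using congrFun (congrFun h 0) 0
  · funext j
    simpa using congrFun (congrFun h 0) j.succ
  · funext i
    simpa using congrFun (congrFun h i.succ) 0
  · ext i j
    simpa using congrFun (congrFun h i.succ) j.succ

theorem browM_eq_r3_bordM (x : Fin m → F) : browM x = r3_bordM 1 x 0 1 := by
  ext i j
  refine Fin.cases ?_ (fun i' => ?_) i <;> refine Fin.cases ?_ (fun j' => ?_) j <;>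
    simp [browM, Matrix.one_apply]

theorem bdiagM_eq_r3_bordM (u : F) : (bdiagM u : Matrix (Fin (m + 1)) (Fin (m + 1)) F) = r3_bordM u 0 0 1 := by
  ext i j
  refine Fin.cases ?_ (fun i' => ?_) i <;> refine Fin.cases ?_ (fun j' => ?_) j <;>
    simp [bdiagM, Matrix.one_apply]

theorem bsym_eq_r3_bordM (s : F) (v : Fin m → F) (S' : Matrix (Fin m) (Fin m) F) :
    bsym s v S' = r3_bordM s v v S' := rfl

/-- `dsumM` in bordered block form -/
theorem r3_dsumM_fromBlocks (a b c d : Matrix (Fin 1) (Fin 1) F) (A B C D : Matrix (Fin m) (Fin m) F) :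
    dsumM (fromBlocks a b c d) (fromBlocks A B C D) =
      fromBlocks (r3_bordM (a 0 0) 0 0 A) (r3_bordM (b 0 0) 0 0 B) (r3_bordM (c 0 0) 0 0 C)
        (r3_bordM (d 0 0) 0 0 D) := by
  ext i j
  unfold dsumM
  rw [Matrix.reindex_apply, Matrix.submatrix_apply]
  rcases i with i | i <;> rcases j with j | j <;>
    refine Fin.cases ?_ (fun i' => ?_) i <;> refine Fin.cases ?_ (fun j' => ?_) j <;>
    simp [eIdx]

theorem r3_xE_coe (x : Fin m → F) :
    ((xE x : Sp (m + 1) F) : Matrix (Fin (m + 1) ⊕ Fin (m + 1)) (Fin (m + 1) ⊕ Fin (m + 1)) F) =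
      fromBlocks (r3_bordM 1 x 0 1) 0 0 (r3_bordM 1 0 (-x) 1) := by
  show levM (browM x) (browM (-x)) = _
  unfold levM
  rw [browM_eq_r3_bordM, browM_eq_r3_bordM, r3_bordM_transpose, Matrix.transpose_one]

theorem r3_hT_coe (u : Fˣ) :
    ((hT u : Sp (m + 1) F) : Matrix (Fin (m + 1) ⊕ Fin (m + 1)) (Fin (m + 1) ⊕ Fin (m + 1)) F) =
      fromBlocks (r3_bordM (u : F) 0 0 1) 0 0 (r3_bordM ((u⁻¹ : Fˣ) : F) 0 0 1) := by
  show levM (bdiagM (u : F)) (bdiagM ((u⁻¹ : Fˣ) : F)) = _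
  unfold levM
  rw [bdiagM_eq_r3_bordM, bdiagM_eq_r3_bordM, r3_bordM_transpose, Matrix.transpose_one]

theorem r3_qE_coe (s : F) (v : Fin m → F) (S' : symAdd m F) :
    ((qE s v S' : Sp (m + 1) F) : Matrix (Fin (m + 1) ⊕ Fin (m + 1)) (Fin (m + 1) ⊕ Fin (m + 1)) F) =
      fromBlocks 1 (r3_bordM s v v S'.1) 0 1 := rfl

theorem r3_ιG_coe (g : Sp m F) :
    ((ιG g : Sp (m + 1) F) : Matrix (Fin (m + 1) ⊕ Fin (m + 1)) (Fin (m + 1) ⊕ Fin (m + 1)) F) =
      fromBlocks (r3_bordM 1 0 0 g.1.toBlocks₁₁) (r3_bordM 0 0 0 g.1.toBlocks₁₂)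
        (r3_bordM 0 0 0 g.1.toBlocks₂₁) (r3_bordM 1 0 0 g.1.toBlocks₂₂) := by
  show dsumM (1 : Sp 1 F).1 g.1 = _
  have h1 : ((1 : Sp 1 F).1 : Matrix (Fin 1 ⊕ Fin 1) (Fin 1 ⊕ Fin 1) F) = fromBlocks 1 0 0 1 := by
    rw [Matrix.fromBlocks_one]; rfl
  rw [h1]
  conv_lhs => rw [← Matrix.fromBlocks_toBlocks g.1]
  rw [r3_dsumM_fromBlocks]
  simp


/-! ### basic group-level lemmas -/

theorem r3_browGL_add (x x' : Fin m → F) : browGL (x + x') = browGL x * browGL x' := by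
  apply Units.ext
  show browM (x + x') = browM x * browM x'
  rw [browM_mul]

theorem r3_browGL_zero : browGL (0 : Fin m → F) = 1 := by
  apply Units.ext
  show browM (0 : Fin m → F) = 1
  rw [browM_zero]

theorem r3_bdiagGL_mul (u u' : Fˣ) : (bdiagGL (u * u') : GL (Fin (m + 1)) F) = bdiagGL u * bdiagGL u' := by
  apply Units.ext
  show bdiagM ((u * u' : Fˣ) : F) = bdiagM (u : F) * bdiagM (u' : F)
  rw [bdiagM_mul, Units.val_mul]

theorem r3_bdiagGL_one : (bdiagGL (1 : Fˣ) : GL (Fin (m + 1)) F) = 1 := by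
  apply Units.ext
  show bdiagM ((1 : Fˣ) : F) = 1
  rw [Units.val_one, bdiagM_one]

theorem r3_qE_mul (s t : F) (v y : Fin m → F) (S' T' : symAdd m F) :
    qE s v S' * qE t y T' = qE (s + t) (v + y) (S' + T') := by
  apply Subtype.ext
  rw [Submonoid.coe_mul, r3_qE_coe, r3_qE_coe, r3_qE_coe, Matrix.fromBlocks_multiply]
  simp only [Matrix.mul_zero, Matrix.zero_mul, zero_add, add_zero, Matrix.mul_one, Matrix.one_mul]
  rw [r3_bordM_add, add_comm t s, add_comm y v]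
  congr 2
  show T'.1 + S'.1 = S'.1 + T'.1
  rw [add_comm]

theorem r3_qE_zero : qE (0 : F) (0 : Fin m → F) 0 = 1 := by
  apply Subtype.ext
  rw [r3_qE_coe]
  show fromBlocks 1 (r3_bordM (0 : F) (0 : Fin m → F) 0 0) 0 1 = 1
  rw [r3_bordM_zero, Matrix.fromBlocks_one]

theorem r3_qE_inv (s : F) (v : Fin m → F) (S' : symAdd m F) : (qE s v S')⁻¹ = qE (-s) (-v) (-S') := by
  rw [inv_eq_iff_mul_eq_one, r3_qE_mul, add_neg_cancel, add_neg_cancel, add_neg_cancel, r3_qE_zero]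

theorem r3_qE_congr {s s' : F} {v v' : Fin m → F} {S' T' : symAdd m F} (hs : s = s') (hv : v = v')
    (hS : S' = T') : qE s v S' = qE s' v' T' := by
  subst hs; subst hv; subst hS; rfl

theorem r3_qE_inj {s s' : F} {v v' : Fin m → F} {S' T' : symAdd m F} (h : qE s v S' = qE s' v' T') :
    s = s' ∧ v = v' ∧ S' = T' := by
  have h1 := congrArg Subtype.val h
  rw [r3_qE_coe, r3_qE_coe, Matrix.fromBlocks_inj] at h1
  obtain ⟨h2, h3, -, h4⟩ := r3_bordM_inj h1.2.1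
  exact ⟨h2, h3, Subtype.ext h4⟩

end R3aux

/-! ## PK-R3 -/
section R3

variable {F : Type u} [Field F] [Fintype F] {m : ℕ}

theorem xE_add (x x' : Fin m → F) : (xE (x + x') : Sp (m + 1) F) = xE x * xE x' := by
  unfold xE
  rw [r3_browGL_add, map_mul]

theorem xE_zero : (xE (0 : Fin m → F) : Sp (m + 1) F) = 1 := by
  unfold xE
  rw [r3_browGL_zero, map_one]

theorem hT_mul (u u' : Fˣ) : (hT (u * u') : Sp (m + 1) F) = hT u * hT u' := by
  unfold hT
  rw [r3_bdiagGL_mul, map_mul]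

theorem hT_one : (hT (1 : Fˣ) : Sp (m + 1) F) = 1 := by
  unfold hT
  rw [r3_bdiagGL_one, map_one]

theorem xE_conj_qE (x : Fin m → F) (t : F) (v : Fin m → F) (S' : symAdd m F) :
    xE x * qE t v S' * (xE x)⁻¹ =
      qE (t + 2 * (x ⬝ᵥ v) + x ⬝ᵥ S'.1 *ᵥ x) (v + S'.1 *ᵥ x) S' := by
  unfold xE qE
  rw [lev_conj_siegHom]
  apply congrArg siegHom
  apply Subtype.ext
  rw [congT_val]
  show browM x * bsym t v S'.1 * (browM x)ᵀ = bsym _ _ S'.1
  have hS : S'.1ᵀ = S'.1 := mem_symAdd.1 S'.2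
  have h1 : x ᵥ* S'.1 = S'.1 *ᵥ x := by
    rw [← Matrix.mulVec_transpose, hS]
  rw [browM_eq_r3_bordM, bsym_eq_r3_bordM, bsym_eq_r3_bordM, r3_bordM_transpose, r3_bordM_mul, r3_bordM_mul]
  simp only [one_mul, mul_one, one_smul, Matrix.one_mulVec, Matrix.vecMul_one, smul_zero, zero_add,
    Matrix.transpose_one, Matrix.one_mul, Matrix.mul_one, add_zero]
  have e1 : vecMulVec (0 : Fin m → F) v = 0 := by
    ext i j; simp [vecMulVec_apply]
  have e2 : vecMulVec v (0 : Fin m → F) = 0 := by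
    ext i j; simp [vecMulVec_apply]
  rw [e1, e2, zero_add, zero_add, h1]
  congr 1
  rw [add_dotProduct, dotProduct_comm v x, Matrix.dotProduct_mulVec, h1]
  ring


theorem hT_conj_qE (u : Fˣ) (t : F) (v : Fin m → F) (S' : symAdd m F) :
    hT u * qE t v S' * (hT u)⁻¹ = qE ((u : F) ^ 2 * t) ((u : F) • v) S' := by
  unfold hT qE
  rw [lev_conj_siegHom]
  apply congrArg siegHom
  apply Subtype.ext
  rw [congT_val]
  show bdiagM (u : F) * bsym t v S'.1 * (bdiagM (u : F))ᵀ = bsym _ _ S'.1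
  rw [bdiagM_eq_r3_bordM, bsym_eq_r3_bordM, bsym_eq_r3_bordM, r3_bordM_transpose, r3_bordM_mul, r3_bordM_mul]
  have e1 : vecMulVec (0 : Fin m → F) v = 0 := by
    ext i j; simp [vecMulVec_apply]
  have e2 : vecMulVec v (0 : Fin m → F) = 0 := by
    ext i j; simp [vecMulVec_apply]
  simp only [e1, e2, one_mul, mul_one, one_smul, Matrix.one_mulVec, Matrix.vecMul_one, smul_zero,
    zero_add, Matrix.transpose_one, Matrix.one_mul, Matrix.mul_one, add_zero, zero_dotProduct,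
    dotProduct_zero, Matrix.zero_vecMul, Matrix.mulVec_zero, Matrix.vecMul_zero]
  congr 1
  ring

theorem hT_conj_xE (u : Fˣ) (x : Fin m → F) :
    hT u * xE x * (hT u)⁻¹ = (xE ((u : F) • x) : Sp (m + 1) F) := by
  unfold hT xE
  rw [← map_inv, ← map_mul, ← map_mul]
  apply congrArg
  rw [mul_inv_eq_iff_eq_mul]
  apply Units.ext
  show bdiagM (u : F) * browM x = browM ((u : F) • x) * bdiagM (u : F)
  rw [bdiagM_eq_r3_bordM, browM_eq_r3_bordM, browM_eq_r3_bordM, r3_bordM_mul, r3_bordM_mul]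
  simp only [one_mul, mul_one, one_smul, Matrix.one_mulVec, Matrix.vecMul_one, smul_zero,
    zero_add, Matrix.one_mul, Matrix.mul_one, add_zero, zero_dotProduct,
    dotProduct_zero, Matrix.zero_vecMul, Matrix.mulVec_zero, Matrix.vecMul_zero]
  congr 1
  ext i j; simp [vecMulVec_apply]


theorem r3_vecMulVec_zero_left (v : Fin m → F) : vecMulVec (0 : Fin m → F) v = 0 := by
  ext i j; simp [vecMulVec_apply]

theorem r3_vecMulVec_zero_right (v : Fin m → F) : vecMulVec v (0 : Fin m → F) = 0 := by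
  ext i j; simp [vecMulVec_apply]

theorem r3_wG_coe : ((wG : Sp (m + 1) F) : Matrix (Fin (m + 1) ⊕ Fin (m + 1)) (Fin (m + 1) ⊕ Fin (m + 1)) F) =
      fromBlocks (r3_bordM 1 0 0 0) (r3_bordM 0 0 0 (-1)) (r3_bordM 0 0 0 1) (r3_bordM 1 0 0 0) := by
  unfold wG
  rw [r3_ιG_coe]
  have : ((SymplecticGroup.symJ (Fin m) F : Sp m F) : Matrix (Fin m ⊕ Fin m) (Fin m ⊕ Fin m) F) =
      fromBlocks 0 (-1) 1 0 := rfl
  rw [this]
  simp

theorem wG_conj_yE (v : Fin m → F) : wG * yE v * wG⁻¹ = (xE (-v) : Sp (m + 1) F) := by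
  rw [mul_inv_eq_iff_eq_mul]
  apply Subtype.ext
  unfold yE
  rw [Submonoid.coe_mul, Submonoid.coe_mul, r3_wG_coe, r3_qE_coe, r3_xE_coe, Matrix.fromBlocks_multiply,
    Matrix.fromBlocks_multiply]
  simp only [r3_bordM_mul, r3_bordM_add, r3_vecMulVec_zero_left, r3_vecMulVec_zero_right,
    one_mul, mul_one, one_smul, Matrix.one_mulVec, Matrix.vecMul_one, smul_zero,
    zero_add, Matrix.one_mul, Matrix.mul_one, add_zero, zero_dotProduct,
    dotProduct_zero, Matrix.zero_vecMul, Matrix.mulVec_zero, Matrix.vecMul_zero, Matrix.mul_zero,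
    Matrix.zero_mul, zero_smul, mul_zero, zero_mul, Matrix.zero_mulVec, neg_neg]
  have e : -v ᵥ* (-1 : Matrix (Fin m) (Fin m) F) = v := by
    rw [Matrix.vecMul_neg, Matrix.neg_vecMul, neg_neg, Matrix.vecMul_one]
  rw [e]
  rfl


theorem comm_xE_yE (x v : Fin m → F) :
    xE x * yE v * (xE x)⁻¹ * (yE v)⁻¹ = (zE (2 * (x ⬝ᵥ v)) : Sp (m + 1) F) := by
  unfold yE zE
  rw [xE_conj_qE, r3_qE_inv, r3_qE_mul]
  apply r3_qE_congr
  · have : ((0 : symAdd m F) : Matrix (Fin m) (Fin m) F) = 0 := rfl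
    rw [this, Matrix.zero_mulVec, dotProduct_zero]
    ring
  · have : ((0 : symAdd m F) : Matrix (Fin m) (Fin m) F) = 0 := rfl
    rw [this, Matrix.zero_mulVec, add_zero, add_neg_cancel]
  · rw [neg_zero, add_zero]

/-- the long root element is in the image of `ιK` -/
theorem r3_zE_eq_ιK (t : F) : (zE t : Sp (m + 1) F) = ιK (zE (m := 0) t, 1) := by
  apply Subtype.ext
  unfold zE
  rw [ιK_coe, r3_qE_coe]
  show _ = dsumM (qE (m := 0) t 0 0).1 (1 : Sp m F).1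
  rw [r3_qE_coe]
  have h1 : ((1 : Sp m F).1 : Matrix (Fin m ⊕ Fin m) (Fin m ⊕ Fin m) F) = fromBlocks 1 0 0 1 := by
    rw [Matrix.fromBlocks_one]; rfl
  rw [h1, r3_dsumM_fromBlocks]
  have h0 : ((0 : symAdd m F) : Matrix (Fin m) (Fin m) F) = 0 := rfl
  simp only [Matrix.one_apply_eq, Matrix.zero_apply, r3_bordM_zero_zero, r3_bordM_one, r3_bordM_zero, h0]

/-- the torus element is in the image of `ιK` -/
theorem r3_hT_eq_ιK (u : Fˣ) : (hT u : Sp (m + 1) F) = ιK (hT (m := 0) u, 1) := by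
  apply Subtype.ext
  rw [ιK_coe, r3_hT_coe]
  show _ = dsumM (hT (m := 0) u).1 (1 : Sp m F).1
  rw [r3_hT_coe]
  have h1 : ((1 : Sp m F).1 : Matrix (Fin m ⊕ Fin m) (Fin m ⊕ Fin m) F) = fromBlocks 1 0 0 1 := by
    rw [Matrix.fromBlocks_one]; rfl
  rw [h1, r3_dsumM_fromBlocks]
  simp only [Matrix.one_apply_eq, Matrix.zero_apply, r3_bordM_zero_zero, r3_bordM_one, r3_bordM_zero]

theorem ιG_comm_zE (g : Sp m F) (t : F) : (ιG g : Sp (m + 1) F) * zE t = zE t * ιG g := by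
  rw [r3_zE_eq_ιK, ιG_apply, ← map_mul, ← map_mul]
  apply congrArg
  ext <;> simp

theorem ιG_comm_hT (g : Sp m F) (u : Fˣ) : (ιG g : Sp (m + 1) F) * hT u = hT u * ιG g := by
  rw [r3_hT_eq_ιK, ιG_apply, ← map_mul, ← map_mul]
  apply congrArg
  ext <;> simp


theorem r3_symAdd_zero_val : ((0 : symAdd m F) : Matrix (Fin m) (Fin m) F) = 0 := rfl

theorem r3_ηE_eq (x v : Fin m → F) (t : F) : (ηE x v t : Sp (m + 1) F) = xE x * qE t v 0 := by
  unfold ηE yE zE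
  rw [mul_assoc, r3_qE_mul]
  congr 1
  apply r3_qE_congr
  · rw [zero_add]
  · rw [add_zero]
  · rw [add_zero]

/-- moving `xE` to the left of a Siegel element of the Heisenberg group -/
theorem r3_qE_mul_xE (x : Fin m → F) (t : F) (v : Fin m → F) :
    qE t v 0 * xE x = xE x * qE (t - 2 * (x ⬝ᵥ v)) v (0 : symAdd m F) := by
  have h := xE_conj_qE (-x) t v (0 : symAdd m F)
  rw [r3_symAdd_zero_val, Matrix.zero_mulVec, dotProduct_zero, add_zero, add_zero] at h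
  have hx : (xE (-x) : Sp (m + 1) F) = (xE x)⁻¹ := by
    rw [eq_inv_iff_mul_eq_one, ← xE_add, neg_add_cancel, xE_zero]
  rw [hx, inv_inv] at h
  have h2 : qE t v 0 * xE x = xE x * ((xE x)⁻¹ * qE t v 0 * xE x) := by group
  rw [h2, h]
  congr 1
  apply r3_qE_congr _ rfl rfl
  rw [neg_dotProduct]
  ring

theorem ηE_mul (x v x' v' : Fin m → F) (t t' : F) :
    ηE x v t * ηE x' v' t' = ηE (x + x') (v + v') (t + t' - 2 * (x' ⬝ᵥ v)) := by
  rw [r3_ηE_eq, r3_ηE_eq, r3_ηE_eq, xE_add]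
  have h : xE x * qE t v 0 * (xE x' * qE t' v' 0) = xE x * (qE t v 0 * xE x') * qE t' v' 0 := by
    group
  rw [h, r3_qE_mul_xE, ← mul_assoc, mul_assoc (xE x * xE x'), r3_qE_mul]
  congr 1
  apply r3_qE_congr _ rfl (add_zero _)
  ring

theorem ηE_injective : Function.Injective
    (fun p : (Fin m → F) × (Fin m → F) × F => (ηE p.1 p.2.1 p.2.2 : Sp (m + 1) F)) := by
  rintro ⟨x, v, t⟩ ⟨x', v', t'⟩ h
  simp only at h
  rw [r3_ηE_eq, r3_ηE_eq] at h
  have h1 := congrArg Subtype.val h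
  rw [Submonoid.coe_mul, Submonoid.coe_mul, r3_xE_coe, r3_xE_coe, r3_qE_coe, r3_qE_coe, Matrix.fromBlocks_multiply,
    Matrix.fromBlocks_multiply, Matrix.fromBlocks_inj] at h1
  simp only [Matrix.mul_one, Matrix.mul_zero, add_zero] at h1
  obtain ⟨-, hx, -, -⟩ := r3_bordM_inj h1.1
  subst hx
  have h2 := mul_left_cancel h
  obtain ⟨ht, hv, -⟩ := r3_qE_inj h2
  subst ht; subst hv
  rfl

theorem zE_comm_ηE (r : F) (x v : Fin m → F) (t : F) : zE r * ηE x v t = ηE x v t * zE r := by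
  rw [r3_ηE_eq]
  unfold zE
  rw [← mul_assoc, r3_qE_mul_xE, mul_assoc, mul_assoc, r3_qE_mul, r3_qE_mul]
  congr 1
  apply r3_qE_congr
  · rw [dotProduct_zero]; ring
  · rw [add_comm]
  · rw [add_comm]


/-- the symplectic relations in block form -/
theorem r3_sp_rel (g : Sp m F) :
    g.1.toBlocks₂₁ᵀ * g.1.toBlocks₁₁ = g.1.toBlocks₁₁ᵀ * g.1.toBlocks₂₁ ∧
    g.1.toBlocks₁₁ᵀ * g.1.toBlocks₂₂ - g.1.toBlocks₂₁ᵀ * g.1.toBlocks₁₂ = 1 ∧
    g.1.toBlocks₂₂ᵀ * g.1.toBlocks₁₁ - g.1.toBlocks₁₂ᵀ * g.1.toBlocks₂₁ = 1 ∧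
    g.1.toBlocks₂₂ᵀ * g.1.toBlocks₁₂ = g.1.toBlocks₁₂ᵀ * g.1.toBlocks₂₂ := by
  have h := SymplecticGroup.mem_iff'.1 g.2
  rw [← Matrix.fromBlocks_toBlocks g.1] at h
  unfold Matrix.J at h
  rw [Matrix.fromBlocks_transpose, Matrix.fromBlocks_multiply, Matrix.fromBlocks_multiply,
    Matrix.fromBlocks_inj] at h
  simp only [Matrix.mul_zero, Matrix.mul_one, Matrix.mul_neg, zero_add, add_zero, Matrix.neg_mul] at h
  obtain ⟨h1, h2, h3, h4⟩ := h
  refine ⟨add_neg_eq_zero.1 h1, ?_, ?_, add_neg_eq_zero.1 h4⟩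
  · rw [← neg_neg (1 : Matrix (Fin m) (Fin m) F), ← h2]
    abel
  · rw [sub_eq_add_neg]
    exact h3

/-- the action of `Sp m` on the Heisenberg group, explicitly -/
theorem r3_ιG_mul_ηE (g : Sp m F) (x v : Fin m → F) (t : F) :
    ιG g * ηE x v t =
      ηE (g.1.toBlocks₂₂ *ᵥ x - g.1.toBlocks₂₁ *ᵥ v) (g.1.toBlocks₁₁ *ᵥ v - g.1.toBlocks₁₂ *ᵥ x)
        (t + x ⬝ᵥ v - (g.1.toBlocks₂₂ *ᵥ x - g.1.toBlocks₂₁ *ᵥ v) ⬝ᵥ
          (g.1.toBlocks₁₁ *ᵥ v - g.1.toBlocks₁₂ *ᵥ x)) * ιG g := by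
  obtain ⟨r1, r2, r3, r4⟩ := r3_sp_rel g
  apply Subtype.ext
  rw [r3_ηE_eq, r3_ηE_eq, Submonoid.coe_mul, Submonoid.coe_mul, Submonoid.coe_mul, Submonoid.coe_mul,
    r3_ιG_coe, r3_xE_coe, r3_xE_coe, r3_qE_coe, r3_qE_coe]
  generalize g.1.toBlocks₁₁ = A at *
  generalize g.1.toBlocks₁₂ = B at *
  generalize g.1.toBlocks₂₁ = C at *
  generalize g.1.toBlocks₂₂ = D at *
  rw [Matrix.fromBlocks_multiply, Matrix.fromBlocks_multiply, Matrix.fromBlocks_multiply,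
    Matrix.fromBlocks_multiply]
  simp only [r3_bordM_mul, r3_bordM_add, r3_vecMulVec_zero_left, r3_vecMulVec_zero_right, r3_symAdd_zero_val,
    one_mul, mul_one, one_smul, Matrix.one_mulVec, Matrix.vecMul_one, smul_zero,
    zero_add, Matrix.one_mul, Matrix.mul_one, add_zero, zero_dotProduct,
    dotProduct_zero, Matrix.zero_vecMul, Matrix.mulVec_zero, Matrix.vecMul_zero, Matrix.mul_zero,
    Matrix.zero_mul, zero_smul, mul_zero, zero_mul, Matrix.zero_mulVec, neg_neg]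
  have e1 : (D *ᵥ x - C *ᵥ v) ᵥ* A + (A *ᵥ v - B *ᵥ x) ᵥ* C = x := by
    rw [Matrix.sub_vecMul, Matrix.sub_vecMul, Matrix.vecMul_mulVec, Matrix.vecMul_mulVec,
      Matrix.vecMul_mulVec, Matrix.vecMul_mulVec, r1]
    have : x ᵥ* (Dᵀ * A) - v ᵥ* (Aᵀ * C) + (v ᵥ* (Aᵀ * C) - x ᵥ* (Bᵀ * C)) =
        x ᵥ* (Dᵀ * A - Bᵀ * C) := by
      rw [Matrix.vecMul_sub]; abel
    rw [this, r3, Matrix.vecMul_one]
  have e2 : (D *ᵥ x - C *ᵥ v) ᵥ* B + (A *ᵥ v - B *ᵥ x) ᵥ* D = v := by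
    rw [Matrix.sub_vecMul, Matrix.sub_vecMul, Matrix.vecMul_mulVec, Matrix.vecMul_mulVec,
      Matrix.vecMul_mulVec, Matrix.vecMul_mulVec, r4]
    have : x ᵥ* (Bᵀ * D) - v ᵥ* (Cᵀ * B) + (v ᵥ* (Aᵀ * D) - x ᵥ* (Bᵀ * D)) =
        v ᵥ* (Aᵀ * D - Cᵀ * B) := by
      rw [Matrix.vecMul_sub]; abel
    rw [this, r2, Matrix.vecMul_one]
  have e4 : A *ᵥ v + B *ᵥ -x = A *ᵥ v - B *ᵥ x := by
    rw [Matrix.mulVec_neg, sub_eq_add_neg]
  have e5 : C *ᵥ v + D *ᵥ -x = -(D *ᵥ x - C *ᵥ v) := by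
    rw [Matrix.mulVec_neg]; abel
  rw [e1, e2, e4, e5, sub_add_cancel]


theorem r3_ιG_conj_ηE (g : Sp m F) (x v : Fin m → F) (t : F) :
    ιG g * ηE x v t * (ιG g)⁻¹ =
      ηE (g.1.toBlocks₂₂ *ᵥ x - g.1.toBlocks₂₁ *ᵥ v) (g.1.toBlocks₁₁ *ᵥ v - g.1.toBlocks₁₂ *ᵥ x)
        (t + x ⬝ᵥ v - (g.1.toBlocks₂₂ *ᵥ x - g.1.toBlocks₂₁ *ᵥ v) ⬝ᵥ
          (g.1.toBlocks₁₁ *ᵥ v - g.1.toBlocks₁₂ *ᵥ x)) := by
  rw [r3_ιG_mul_ηE, mul_assoc, mul_inv_cancel, mul_one]

/-- the vector of the natural module of `Sp m` attached to an element of the Heisenberg group -/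
def r3_hvec (x v : Fin m → F) : Fin m ⊕ Fin m → F := Sum.elim v (-x)

theorem r3_hvec_eq_zero {x v : Fin m → F} : r3_hvec x v = 0 ↔ (x = 0 ∧ v = 0) := by
  constructor
  · intro h
    constructor
    · funext i
      have := congrFun h (Sum.inr i)
      simpa [r3_hvec] using this
    · funext i
      have := congrFun h (Sum.inl i)
      simpa [r3_hvec] using this
  · rintro ⟨rfl, rfl⟩
    funext i
    rcases i with i | i <;> simp [r3_hvec]

theorem r3_mulVec_hvec (g : Sp m F) (x v : Fin m → F) :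
    g.1 *ᵥ r3_hvec x v =
      r3_hvec (g.1.toBlocks₂₂ *ᵥ x - g.1.toBlocks₂₁ *ᵥ v) (g.1.toBlocks₁₁ *ᵥ v - g.1.toBlocks₁₂ *ᵥ x) := by
  conv_lhs => rw [← Matrix.fromBlocks_toBlocks g.1]
  rw [Matrix.fromBlocks_mulVec]
  unfold r3_hvec
  funext i
  rcases i with i | i
  · simp only [Sum.elim_inl]
    have : (Sum.elim v (-x) : Fin m ⊕ Fin m → F) ∘ Sum.inl = v := rfl
    have h2 : (Sum.elim v (-x) : Fin m ⊕ Fin m → F) ∘ Sum.inr = -x := rfl
    rw [this, h2, Matrix.mulVec_neg, sub_eq_add_neg]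
  · simp only [Sum.elim_inr]
    have : (Sum.elim v (-x) : Fin m ⊕ Fin m → F) ∘ Sum.inl = v := rfl
    have h2 : (Sum.elim v (-x) : Fin m ⊕ Fin m → F) ∘ Sum.inr = -x := rfl
    rw [this, h2, Matrix.mulVec_neg]
    simp only [Pi.add_apply, Pi.neg_apply, Pi.sub_apply]
    ring

theorem r3_hvec_inj {x v x' v' : Fin m → F} (h : r3_hvec x v = r3_hvec x' v') : x = x' ∧ v = v' := by
  constructor
  · funext i
    have := congrFun h (Sum.inr i)
    simpa [r3_hvec] using this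
  · funext i
    have := congrFun h (Sum.inl i)
    simpa [r3_hvec] using this

/-- conjugation by `Sp m` preserves the Heisenberg group and acts on `H₁/Z` as on the natural module -/
theorem ιG_conj_ηE (g : Sp m F) (x v : Fin m → F) (t : F) :
    ∃ (x' v' : Fin m → F) (t' : F), ιG g * ηE x v t * (ιG g)⁻¹ = ηE x' v' t' ∧
      ((x' = 0 ∧ v' = 0) ↔ (x = 0 ∧ v = 0)) := by
  refine ⟨_, _, _, r3_ιG_conj_ηE g x v t, ?_⟩
  rw [← r3_hvec_eq_zero, ← r3_hvec_eq_zero, ← r3_mulVec_hvec]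
  constructor
  · intro h
    have h2 := Cfsg.Agent.Lib.Helper1.SpBasic.inv_mulVec_mulVec g (r3_hvec x v)
    rw [h, Matrix.mulVec_zero] at h2
    exact h2.symm
  · intro h
    rw [h, Matrix.mulVec_zero]

theorem r3_exists_partner (w : Fin m ⊕ Fin m → F) (hw : w ≠ 0) :
    ∃ z, Cfsg.sympForm m F w z = 1 := by
  obtain ⟨a, ha⟩ : ∃ a, w a ≠ 0 := by
    by_contra hcon
    exact hw (funext fun a => by
      by_contra ha
      exact hcon ⟨a, ha⟩)
  rcases a with j | j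
  · refine ⟨(-(w (Sum.inl j))⁻¹) • Pi.single (Sum.inr j) 1, ?_⟩
    rw [Cfsg.Agent.Lib.Helper2.Symp.sympForm_smul_right,
      Cfsg.Agent.Lib.Helper2.Symp.sympForm_single_inr]
    field_simp
  · refine ⟨((w (Sum.inr j))⁻¹) • Pi.single (Sum.inl j) 1, ?_⟩
    rw [Cfsg.Agent.Lib.Helper2.Symp.sympForm_smul_right,
      Cfsg.Agent.Lib.Helper2.Symp.sympForm_single_inl]
    field_simp

/-- `Sp m` is transitive on `H₁/Z ∖ 1` -/
theorem ιG_transitive (x v x' v' : Fin m → F) (h : ¬ (x = 0 ∧ v = 0)) (h' : ¬ (x' = 0 ∧ v' = 0)) :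
    ∃ (g : Sp m F) (t' : F), ιG g * ηE x v 0 * (ιG g)⁻¹ = ηE x' v' t' := by
  rw [← r3_hvec_eq_zero] at h h'
  obtain ⟨z, hz⟩ := r3_exists_partner _ h
  obtain ⟨z', hz'⟩ := r3_exists_partner _ h'
  obtain ⟨g, -, hg⟩ := Cfsg.Agent.Lib.Helper2.Symp.exists_move_first _ z _ z' hz hz'
  rw [r3_mulVec_hvec] at hg
  obtain ⟨e1, e2⟩ := r3_hvec_inj hg
  have key := r3_ιG_conj_ηE g x v 0
  rw [e1, e2] at key
  exact ⟨g, _, key⟩

end R3

end Cfsg.Agent.Lib.Helper2.WG
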