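import Mathlib

set_option autoImplicit false

/-!
# Higman–Kreknin–Kostrikin: shared definitions

Light-weight definitions used by all the packages of the proof of S3779
(a finite group with a fixed-point-free automorphism of prime order `p`
has class at most `ξ(p)`).

* `brk A B` : additive span of the brackets `⁅a, b⁆`, `a ∈ A`, `b ∈ B`, in a Lie ring;
* `der R n`, `lcs R n` : derived series / lower central series of an additive subgroup;
* `PGrading n L` : a `ZMod n`-grading of the Lie ring `L`, given by projections, with trivial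
  zero component;
* `GrLie Λ` : an `ℕ`-graded family of bi-additive maps `Λ i → Λ j → Λ (i+j+1)` satisfying the
  Lie ring axioms (the index equation is carried as a hypothesis, so no casts appear).
-/

namespace Cfsg.Agent.Lib.Helper7.Hkk

universe u

section Core

variable {L : Type*} [LieRing L]

/-- the additive span of all brackets `⁅a, b⁆` with `a ∈ A`, `b ∈ B` -/
def brk (A B : AddSubgroup L) : AddSubgroup L :=
  AddSubgroup.closure {z | ∃ a ∈ A, ∃ b ∈ B, ⁅a, b⁆ = z}

/-- derived series of an additive subgroup of a Lie ring -/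
def der (R : AddSubgroup L) : ℕ → AddSubgroup L
  | 0 => R
  | n + 1 => brk (der R n) (der R n)

/-- lower central series of an additive subgroup of a Lie ring (index `0` is `R` itself) -/
def lcs (R : AddSubgroup L) : ℕ → AddSubgroup L
  | 0 => R
  | n + 1 => brk (lcs R n) R

end Core

/-- A `ZMod n`-grading of a Lie ring by additive projections, with zero component trivial. -/
structure PGrading (n : ℕ) [NeZero n] (L : Type*) [LieRing L] where
  /-- the projection onto the component of residue `i` -/
  π : ZMod n → L →+ L
  idem : ∀ i j x, π i (π j x) = if i = j then π j x else 0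
  sum : ∀ x, ∑ i, π i x = x
  zero : ∀ x, π 0 x = 0
  lie : ∀ i j x y, π (i + j) ⁅π i x, π j y⁆ = ⁅π i x, π j y⁆

/-- An `ℕ`-graded Lie ring datum: bi-additive maps `Λ i → Λ j → Λ n` for `i + j + 1 = n`
(so the piece `Λ i` has "weight" `i + 1`) satisfying the Lie ring axioms. -/
structure GrLie (Λ : ℕ → Type u) [∀ n, AddCommGroup (Λ n)] where
  /-- the graded bracket -/
  B : ∀ i j n : ℕ, i + j + 1 = n → Λ i → Λ j → Λ n
  add_left : ∀ i j n h (a a' : Λ i) (b : Λ j),
    B i j n h (a + a') b = B i j n h a b + B i j n h a' b
  add_right : ∀ i j n h (a : Λ i) (b b' : Λ j),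
    B i j n h a (b + b') = B i j n h a b + B i j n h a b'
  self : ∀ i n h (a : Λ i), B i i n h a a = 0
  skew : ∀ i j n h h' (a : Λ i) (b : Λ j), B i j n h a b = - B j i n h' b a
  jac : ∀ (i j k ij jk ik n : ℕ) (hij : i + j + 1 = ij) (hjk : j + k + 1 = jk)
    (hik : i + k + 1 = ik) (h1 : ij + k + 1 = n) (h2 : i + jk + 1 = n) (h3 : j + ik + 1 = n)
    (a : Λ i) (b : Λ j) (c : Λ k),
    B i jk n h2 a (B j k jk hjk b c) =
      B ij k n h1 (B i j ij hij a b) c + B j ik n h3 b (B i k ik hik a c)

end Cfsg.Agent.Lib.Helper7.Hkk
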