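import Mathlib
import Cfsg.Agent.Lib.Helper7.HkkDefs

set_option autoImplicit false

/-! # HKK: glue lemmas (transfer along an injective Lie map, coprimality, stabilisation of the
lower central series) -/

namespace Cfsg.Agent.Lib.Helper7.Hkk

namespace Glue

theorem brk_mono {L : Type*} [LieRing L] {A A' B B' : AddSubgroup L} (hA : A ≤ A') (hB : B ≤ B') :
    brk A B ≤ brk A' B' := by
  apply AddSubgroup.closure_mono
  rintro z ⟨a, ha, b, hb, rfl⟩
  exact ⟨a, hA ha, b, hB hb, rfl⟩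

theorem map_brk_le {L L' : Type*} [LieRing L] [LieRing L'] (ι : L →+ L')
    (hι : ∀ x y, ι ⁅x, y⁆ = ⁅ι x, ι y⁆) (A B : AddSubgroup L) :
    (brk A B).map ι ≤ brk (A.map ι) (B.map ι) := by
  rw [brk, AddMonoidHom.map_closure]
  apply AddSubgroup.closure_mono
  rintro _ ⟨z, ⟨a, ha, b, hb, rfl⟩, rfl⟩
  exact ⟨ι a, ⟨a, ha, rfl⟩, ι b, ⟨b, hb, rfl⟩, (hι a b).symm⟩

theorem map_lcs_le {L L' : Type*} [LieRing L] [LieRing L'] (ι : L →+ L')
    (hι : ∀ x y, ι ⁅x, y⁆ = ⁅ι x, ι y⁆) (n : ℕ) :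
    (lcs (⊤ : AddSubgroup L) n).map ι ≤ lcs (⊤ : AddSubgroup L') n := by
  induction n with
  | zero => exact le_top
  | succ n ih =>
    exact le_trans (map_brk_le ι hι _ _) (brk_mono ih le_top)

theorem lcs_eq_bot_of_injective {L L' : Type*} [LieRing L] [LieRing L'] (ι : L →+ L')
    (hinj : Function.Injective ι) (hι : ∀ x y, ι ⁅x, y⁆ = ⁅ι x, ι y⁆) (n : ℕ)
    (h : lcs (⊤ : AddSubgroup L') n = ⊥) : lcs (⊤ : AddSubgroup L) n = ⊥ := by
  have h1 := map_lcs_le ι hι n
  rw [h, le_bot_iff] at h1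
  exact (AddSubgroup.map_eq_bot_iff_of_injective _ hinj).1 h1

theorem card_coprime_of_fpf {G : Type*} [Group G] [Finite G] {p : ℕ} (hp : p.Prime) (α : G ≃* G)
    (hα : orderOf α = p) (hfpf : ∀ g : G, α g = g → g = 1) : Nat.Coprime (Nat.card G) p := by
  haveI : Fact p.Prime := ⟨hp⟩
  let H : Subgroup (MulAut G) := Subgroup.zpowers α
  have hH : IsPGroup p H := by
    apply IsPGroup.of_card (n := 1)
    rw [pow_one, Nat.card_zpowers, hα]
  have hmod := hH.card_modEq_card_fixedPoints G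
  have hfix : MulAction.fixedPoints H G = {1} := by
    ext g
    simp only [MulAction.mem_fixedPoints, Set.mem_singleton_iff]
    constructor
    · intro h
      exact hfpf g (h ⟨α, Subgroup.mem_zpowers α⟩)
    · rintro rfl h
      exact map_one h.1
  rw [hfix] at hmod
  have h1 : Nat.card (({1} : Set G)) = 1 := by simp
  rw [h1] at hmod
  rw [Nat.coprime_comm, hp.coprime_iff_not_dvd]
  intro hdvd
  have h0 : Nat.card G ≡ 0 [MOD p] := (Nat.modEq_zero_iff_dvd).2 hdvd
  have h10 : 1 ≡ 0 [MOD p] := hmod.symm.trans h0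
  have : p ∣ 1 := (Nat.modEq_zero_iff_dvd).1 h10
  exact hp.one_lt.ne' (Nat.dvd_one.1 this)

theorem lcs_eq_bot_of_le_succ {G : Type*} [Group G] (hnil : Group.IsNilpotent G) (N : ℕ)
    (h : (⊤ : Subgroup G).lowerCentralSeries N ≤ (⊤ : Subgroup G).lowerCentralSeries (N + 1)) :
    (⊤ : Subgroup G).lowerCentralSeries N = ⊥ := by
  have heq : (⊤ : Subgroup G).lowerCentralSeries (N + 1) = (⊤ : Subgroup G).lowerCentralSeries N :=
    le_antisymm (Subgroup.lowerCentralSeries_antitone _ (Nat.le_succ N)) h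
  have hall : ∀ k, (⊤ : Subgroup G).lowerCentralSeries (N + k) =
      (⊤ : Subgroup G).lowerCentralSeries N := by
    intro k
    induction k with
    | zero => rfl
    | succ k ih =>
      rw [← add_assoc, Subgroup.lowerCentralSeries_succ, ih, ← Subgroup.lowerCentralSeries_succ, heq]
  obtain ⟨c, hc⟩ := Subgroup.nilpotent_iff_lowerCentralSeries.1 hnil
  rw [eq_bot_iff, ← hc, ← hall c]
  exact Subgroup.lowerCentralSeries_antitone _ (Nat.le_add_left c N)

end Glue

end Cfsg.Agent.Lib.Helper7.Hkk
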