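import Mathlib
import Cfsg.Agent.Lib.Helper7.HkkDefs

set_option autoImplicit false

/-! # HKK package P1: Kreknin's theorem

A Lie ring with a `ZMod n`-grading whose zero component is trivial is solvable of derived
length at most `2 ^ (n - 1) - 1`. -/

namespace Cfsg.Agent.Lib.Helper7.Hkk

namespace K

variable {L : Type*} [LieRing L]

theorem lie_mem_brk {A B : AddSubgroup L} {a b : L} (ha : a ∈ A) (hb : b ∈ B) :
    ⁅a, b⁆ ∈ brk A B :=
  AddSubgroup.subset_closure ⟨a, ha, b, hb, rfl⟩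

theorem brk_le {A B C : AddSubgroup L} : brk A B ≤ C ↔ ∀ a ∈ A, ∀ b ∈ B, ⁅a, b⁆ ∈ C := by
  constructor
  · intro h a ha b hb
    exact h (lie_mem_brk ha hb)
  · intro h
    rw [brk, AddSubgroup.closure_le]
    rintro z ⟨a, ha, b, hb, rfl⟩
    exact h a ha b hb

theorem brk_mono {A A' B B' : AddSubgroup L} (hA : A ≤ A') (hB : B ≤ B') :
    brk A B ≤ brk A' B' :=
  brk_le.2 fun a ha b hb => lie_mem_brk (hA ha) (hB hb)

/-- closed under the bracket -/
def LieClosed (R : AddSubgroup L) : Prop := ∀ x ∈ R, ∀ y ∈ R, ⁅x, y⁆ ∈ R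

theorem lieClosed_top : LieClosed (⊤ : AddSubgroup L) := fun _ _ _ _ => AddSubgroup.mem_top _

theorem lieClosed_bot : LieClosed (⊥ : AddSubgroup L) := by
  intro x hx y _
  rw [AddSubgroup.mem_bot] at hx
  subst hx
  simp

theorem brk_self_le {R : AddSubgroup L} (hR : LieClosed R) : brk R R ≤ R :=
  brk_le.2 hR

theorem lieClosed_brk_self {R : AddSubgroup L} (hR : LieClosed R) : LieClosed (brk R R) :=
  fun _ hx _ hy => lie_mem_brk (brk_self_le hR hx) (brk_self_le hR hy)

theorem der_succ (R : AddSubgroup L) (n : ℕ) : der R (n + 1) = brk (der R n) (der R n) := rfl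

theorem der_zero (R : AddSubgroup L) : der R 0 = R := rfl

theorem lieClosed_der {R : AddSubgroup L} (hR : LieClosed R) : ∀ n, LieClosed (der R n)
  | 0 => hR
  | n + 1 => lieClosed_brk_self (lieClosed_der hR n)

theorem der_succ_le {R : AddSubgroup L} (hR : LieClosed R) (n : ℕ) : der R (n + 1) ≤ der R n :=
  brk_self_le (lieClosed_der hR n)

theorem der_le {R : AddSubgroup L} (hR : LieClosed R) : ∀ n, der R n ≤ R
  | 0 => le_rfl
  | n + 1 => le_trans (der_succ_le hR n) (der_le hR n)

theorem der_add (R : AddSubgroup L) (a : ℕ) : ∀ b, der R (a + b) = der (der R a) b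
  | 0 => rfl
  | b + 1 => by
    rw [← add_assoc, der_succ, der_succ, der_add R a b]

/-- the smallest additive subgroup closed under brackets containing `S` -/
def lieCl (S : Set L) : AddSubgroup L := sInf {K : AddSubgroup L | S ⊆ K ∧ LieClosed K}

theorem subset_lieCl (S : Set L) : S ⊆ lieCl S := by
  intro x hx
  show x ∈ lieCl S
  rw [lieCl, AddSubgroup.mem_sInf]
  intro K hK
  exact hK.1 hx

theorem lieCl_le {S : Set L} {K : AddSubgroup L} (hS : S ⊆ K) (hK : LieClosed K) : lieCl S ≤ K :=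
  sInf_le ⟨hS, hK⟩

theorem lieClosed_lieCl (S : Set L) : LieClosed (lieCl S) := by
  intro x hx y hy
  rw [lieCl, AddSubgroup.mem_sInf] at hx hy ⊢
  intro K hK
  exact hK.2 x (hx K hK) y (hy K hK)

section Graded

variable {n : ℕ} [NeZero n] (gr : PGrading n L)

/-- stable under all the projections -/
def Stable (R : AddSubgroup L) : Prop := ∀ j, ∀ x ∈ R, gr.π j x ∈ R

theorem stable_top : Stable gr (⊤ : AddSubgroup L) := fun _ _ _ => AddSubgroup.mem_top _

theorem pi_lie (i l j : ZMod n) (a b : L) :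
    gr.π j ⁅gr.π i a, gr.π l b⁆ = if j = i + l then ⁅gr.π i a, gr.π l b⁆ else 0 := by
  rw [← gr.lie i l a b, gr.idem]

theorem pi_lie_hom {i l : ZMod n} {a b : L} (ha : gr.π i a = a) (hb : gr.π l b = b) (j : ZMod n) :
    gr.π j ⁅a, b⁆ = if j = i + l then ⁅a, b⁆ else 0 := by
  have := pi_lie gr i l j a b
  rwa [ha, hb] at this

/-- for `g` homogeneous of residue `ρ`: `π_j ⁅r, g⁆ = ⁅π_{j-ρ} r, g⁆` -/
theorem pi_lie_right {ρ : ZMod n} {g : L} (hg : gr.π ρ g = g) (j : ZMod n) (r : L) :
    gr.π j ⁅r, g⁆ = ⁅gr.π (j - ρ) r, g⁆ := by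
  conv_lhs => rw [← gr.sum r, sum_lie, map_sum]
  have h1 : ∀ i : ZMod n, gr.π j ⁅gr.π i r, g⁆ = if i = j - ρ then ⁅gr.π i r, g⁆ else 0 := by
    intro i
    have := pi_lie_hom gr (gr.idem i i r |>.trans (by simp)) hg j
    rw [this]
    by_cases h : j = i + ρ
    · rw [if_pos h, if_pos (by rw [h]; ring)]
    · rw [if_neg h, if_neg (fun h' => h (by rw [h']; ring))]
  rw [Finset.sum_congr rfl (fun i _ => h1 i), Finset.sum_ite_eq' Finset.univ (j - ρ)]
  simp

theorem stable_brk {A B : AddSubgroup L} (hA : Stable gr A) (hB : Stable gr B) :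
    Stable gr (brk A B) := by
  intro j x hx
  refine AddSubgroup.closure_induction (p := fun x _ => gr.π j x ∈ brk A B) ?_ ?_ ?_ ?_ hx
  · rintro z ⟨a, ha, b, hb, rfl⟩
    conv => arg 2; rw [← gr.sum b, lie_sum, map_sum]
    refine AddSubgroup.sum_mem _ fun l _ => ?_
    rw [pi_lie_right gr (gr.idem l l b |>.trans (by simp)) j a]
    exact lie_mem_brk (hA _ a ha) (hB _ b hb)
  · simp
  · intro x y _ _ hx hy
    rw [map_add]
    exact add_mem hx hy
  · intro x _ hx
    rw [map_neg]
    exact neg_mem hx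

theorem stable_der {R : AddSubgroup L} (hR : Stable gr R) : ∀ m, Stable gr (der R m)
  | 0 => hR
  | m + 1 => stable_brk gr (stable_der hR m) (stable_der hR m)

/-- homogeneous elements of `R` of residue (value) `> k` -/
def letters (R : AddSubgroup L) (k : ℕ) : Set L :=
  {x | x ∈ R ∧ ∃ j : ZMod n, k < j.val ∧ gr.π j x = x}

/-- the Lie subring generated by the homogeneous elements of `R` of residue `> k` -/
def gen (R : AddSubgroup L) (k : ℕ) : AddSubgroup L := lieCl (letters gr R k)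

/-- span of the brackets `⁅r, g⁆`, `r ∈ R`, `g` a letter -/
def tspan (R : AddSubgroup L) (k : ℕ) : AddSubgroup L :=
  AddSubgroup.closure {z | ∃ r ∈ R, ∃ g ∈ letters gr R k, ⁅r, g⁆ = z}

/-- Claim A -/
theorem claimA {R : AddSubgroup L} (hRc : LieClosed R) (k : ℕ) :
    ∀ b ∈ gen gr R k, b ∈ R ∧ ∀ a ∈ R, ⁅a, b⁆ ∈ tspan gr R k := by
  let K : AddSubgroup L :=
    { carrier := {b | b ∈ R ∧ ∀ a ∈ R, ⁅a, b⁆ ∈ tspan gr R k}
      zero_mem' := ⟨zero_mem _, fun a _ => by simp⟩
      add_mem' := by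
        rintro x y ⟨hx, hx'⟩ ⟨hy, hy'⟩
        refine ⟨add_mem hx hy, fun a ha => ?_⟩
        rw [lie_add]
        exact add_mem (hx' a ha) (hy' a ha)
      neg_mem' := by
        rintro x ⟨hx, hx'⟩
        refine ⟨neg_mem hx, fun a ha => ?_⟩
        rw [lie_neg]
        exact neg_mem (hx' a ha) }
  have hK : LieClosed K := by
    rintro b1 ⟨h1, h1'⟩ b2 ⟨h2, h2'⟩
    refine ⟨hRc b1 h1 b2 h2, fun a ha => ?_⟩
    have e : ⁅a, ⁅b1, b2⁆⁆ = ⁅⁅a, b1⁆, b2⁆ - ⁅⁅a, b2⁆, b1⁆ := by
      rw [leibniz_lie a b1 b2, ← lie_skew b1 ⁅a, b2⁆]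
      abel
    rw [e]
    exact sub_mem (h2' _ (hRc a ha b1 h1)) (h1' _ (hRc a ha b2 h2))
  have hS : letters gr R k ⊆ K := by
    intro g hg
    exact ⟨hg.1, fun a ha => AddSubgroup.subset_closure ⟨a, ha, g, hg, rfl⟩⟩
  intro b hb
  exact lieCl_le hS hK hb

theorem letters_mono (R : AddSubgroup L) {k k' : ℕ} (h : k ≤ k') :
    letters gr R k' ⊆ letters gr R k := by
  rintro x ⟨hx, j, hj, hjx⟩
  exact ⟨hx, j, lt_of_le_of_lt h hj, hjx⟩

/-- Claim B -/
theorem claimB {R : AddSubgroup L} (hRs : Stable gr R) (k : ℕ) (j : ZMod n)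
    (hj : j.val = k + 1) {r g : L} (hr : r ∈ R) (hg : g ∈ letters gr R k) :
    gr.π j ⁅r, g⁆ ∈ gen gr R (k + 1) := by
  obtain ⟨hgR, ρ, hρ, hgρ⟩ := hg
  rw [pi_lie_right gr hgρ j r]
  by_cases h0 : j - ρ = 0
  · rw [h0, gr.zero]
    simp
  · have hne : ρ ≠ j := fun h => h0 (by rw [h]; ring)
    have hρ' : k + 1 < ρ.val := by
      have : ρ.val ≠ j.val := fun h => hne (ZMod.val_injective n h)
      omega
    have hgl : g ∈ letters gr R (k + 1) := ⟨hgR, ρ, hρ', hgρ⟩
    set i := j - ρ with hi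
    have hsum : i + ρ = j := by rw [hi]; ring
    have hval : (i.val + ρ.val) % n = j.val := by rw [← ZMod.val_add, hsum]
    have hρn : ρ.val < n := ZMod.val_lt ρ
    have hin : i.val < n := ZMod.val_lt i
    have hival : k + 1 < i.val := by
      by_cases hlt : i.val + ρ.val < n
      · rw [Nat.mod_eq_of_lt hlt] at hval
        omega
      · have h2 : (i.val + ρ.val) % n = i.val + ρ.val - n := by
          rw [Nat.mod_eq_sub_mod (by omega), Nat.mod_eq_of_lt (by omega)]
        rw [h2] at hval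
        omega
    have hil : gr.π i r ∈ letters gr R (k + 1) :=
      ⟨hRs i r hr, i, hival, (gr.idem i i r).trans (by simp)⟩
    exact lieClosed_lieCl _ _ (subset_lieCl _ hil) _ (subset_lieCl _ hgl)

/-- Kreknin's claim `K k` -/
theorem claimK : ∀ k : ℕ, ∀ R : AddSubgroup L, Stable gr R → LieClosed R →
    der R (2 ^ k - 1) ≤ gen gr R k := by
  intro k
  induction k with
  | zero =>
    intro R hRs hRc x hx
    simp only [pow_zero, Nat.sub_self, der_zero] at hx
    rw [← gr.sum x]
    refine AddSubgroup.sum_mem _ fun j _ => ?_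
    by_cases hj : j = 0
    · rw [hj, gr.zero]
      exact zero_mem _
    · refine subset_lieCl _ ⟨hRs j x hx, j, ?_, (gr.idem j j x).trans (by simp)⟩
      exact Nat.pos_of_ne_zero fun h => hj ((ZMod.val_eq_zero j).1 h)
  | succ k ih =>
    intro R hRs hRc
    obtain ⟨m, hm⟩ : ∃ m, 2 ^ k = m + 1 := ⟨2 ^ k - 1, by have := Nat.one_le_two_pow (n := k); omega⟩
    have e1 : 2 ^ (k + 1) - 1 = (m + 1) + m := by rw [pow_succ, hm]; omega
    have e2 : 2 ^ k - 1 = m := by omega
    rw [e1, der_add]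
    rw [e2] at ih
    set N := der R (m + 1) with hN
    have hNs : Stable gr N := stable_der gr hRs _
    have hNc : LieClosed N := lieClosed_der hRc _
    have hNR : N ≤ R := der_le hRc _
    refine le_trans (ih N hNs hNc) ?_
    refine lieCl_le ?_ (lieClosed_lieCl _)
    rintro x ⟨hxN, j, hj, hjx⟩
    by_cases hj' : k + 1 < j.val
    · exact subset_lieCl _ ⟨hNR hxN, j, hj', hjx⟩
    · have hjv : j.val = k + 1 := by omega
      -- every element of `N`, projected to degree `j`, lies in `gen R (k+1)`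
      have hT : ∀ t ∈ tspan gr R k, gr.π j t ∈ gen gr R (k + 1) := by
        intro t ht
        refine AddSubgroup.closure_induction (p := fun t _ => gr.π j t ∈ gen gr R (k + 1))
          ?_ ?_ ?_ ?_ ht
        · rintro z ⟨r, hr, g, hg, rfl⟩
          exact claimB gr hRs k j hjv hr hg
        · simp
        · intro x y _ _ hx hy
          rw [map_add]
          exact add_mem hx hy
        · intro x _ hx
          rw [map_neg]
          exact neg_mem hx
      have hall : ∀ y ∈ N, gr.π j y ∈ gen gr R (k + 1) := by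
        intro y hy
        rw [hN, der_succ] at hy
        refine AddSubgroup.closure_induction (p := fun t _ => gr.π j t ∈ gen gr R (k + 1))
          ?_ ?_ ?_ ?_ hy
        · rintro z ⟨a, ha, b, hb, rfl⟩
          have hbg : b ∈ gen gr R k := ih R hRs hRc hb
          exact hT _ ((claimA gr hRc k b hbg).2 a (der_le hRc _ ha))
        · simp
        · intro x y _ _ hx hy
          rw [map_add]
          exact add_mem hx hy
        · intro x _ hx
          rw [map_neg]
          exact neg_mem hx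
      rw [← hjx]
      exact hall x hxN

end Graded

end K

open K in
/-- **Kreknin's theorem** (package P1): a `ZMod n`-graded Lie ring with trivial zero component
is solvable of derived length at most `2 ^ (n - 1) - 1`. -/
theorem kreknin {n : ℕ} [NeZero n] {L : Type*} [LieRing L] (gr : PGrading n L) :
    der (⊤ : AddSubgroup L) (2 ^ (n - 1) - 1) = ⊥ := by
  rw [eq_bot_iff]
  refine le_trans (claimK gr (n - 1) ⊤ (stable_top gr) lieClosed_top) ?_
  refine lieCl_le ?_ lieClosed_bot
  rintro x ⟨_, j, hj, _⟩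
  have := ZMod.val_lt j
  omega

end Cfsg.Agent.Lib.Helper7.Hkk
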