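import Mathlib
import Cfsg.Agent.Lib.Helper2.PSeries

set_option autoImplicit false

/-!
# Relative `p`-series between normal subgroups

`PSer p k A B`: there is a series of normal subgroups of `G` from `A` to `B` whose factors are
alternately `p'`-groups and `p`-groups, with `k` factors of `p`-type.
-/

namespace Cfsg.Agent.Lib.Helper7.PSer

open Cfsg

variable {G : Type*} [Group G]

/-- a relative `p`-series with `k` factors of `p`-type -/
def PSer (p k : ℕ) (A B : Subgroup G) : Prop :=
  ∃ V : ℕ → Subgroup G, V 0 = A ∧ V (2 * k + 1) = B ∧ (∀ i, (V i).Normal) ∧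
    (∀ i, V i ≤ V (i + 1)) ∧
    (∀ i, Even i → ((V i).relIndex (V (i + 1))).Coprime p) ∧
    (∀ i, ¬ Even i → ∃ m : ℕ, (V i).relIndex (V (i + 1)) = p ^ m)

theorem mono_of_succ {V : ℕ → Subgroup G} (h : ∀ i, V i ≤ V (i + 1)) {i j : ℕ} (hij : i ≤ j) :
    V i ≤ V j := by
  induction j with
  | zero =>
    have : i = 0 := by omega
    rw [this]
  | succ j ih =>
    rcases Nat.lt_or_ge i (j + 1) with h1 | h1
    · exact (ih (by omega)).trans (h j)
    · have : i = j + 1 := by omega
      rw [this]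

/-! ### index lemmas -/

theorem relIndex_dvd_of_le_right' {X K₁ K₂ : Subgroup G} [X.Normal] (h : K₁ ≤ K₂) [Finite G] :
    X.relIndex K₁ ∣ X.relIndex K₂ := by
  have h1 := Subgroup.relIndex_ker (QuotientGroup.mk' X) (K := K₁)
  have h2 := Subgroup.relIndex_ker (QuotientGroup.mk' X) (K := K₂)
  rw [QuotientGroup.ker_mk'] at h1 h2
  rw [h1, h2]
  exact Subgroup.card_dvd_of_le (Subgroup.map_mono h)

theorem relIndex_sup_of_le {M N K : Subgroup G} [M.Normal] (h : N ≤ M) :
    M.relIndex (K ⊔ N) = M.relIndex K := by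
  have h1 := Subgroup.relIndex_ker (QuotientGroup.mk' M) (K := K ⊔ N)
  have h2 := Subgroup.relIndex_ker (QuotientGroup.mk' M) (K := K)
  rw [QuotientGroup.ker_mk'] at h1 h2
  rw [h1, h2, Subgroup.map_sup]
  have : N.map (QuotientGroup.mk' M) = ⊥ := by
    rw [Subgroup.map_eq_bot_iff, QuotientGroup.ker_mk']
    exact h
  rw [this, sup_bot_eq]

/-- the basic divisibility for restricting a series to a subsection -/
theorem relIndex_restrict_dvd [Finite G] {X Y C D : Subgroup G} [X.Normal] [Y.Normal] [C.Normal]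
    [D.Normal] (hXY : X ≤ Y) :
    ((X ⊓ D) ⊔ C).relIndex ((Y ⊓ D) ⊔ C) ∣ X.relIndex Y := by
  have h1 : ((X ⊓ D) ⊔ C).relIndex ((Y ⊓ D) ⊔ C) = ((X ⊓ D) ⊔ C).relIndex (Y ⊓ D) :=
    relIndex_sup_of_le le_sup_right
  have h2 : ((X ⊓ D) ⊔ C).relIndex (Y ⊓ D) ∣ (X ⊓ D).relIndex (Y ⊓ D) :=
    Subgroup.relIndex_dvd_of_le_left _ le_sup_left
  have h3 : (X ⊓ D).relIndex (Y ⊓ D) = X.relIndex (Y ⊓ D) := by
    have : X ⊓ D = X ⊓ (Y ⊓ D) := by
      rw [← inf_assoc, inf_eq_left.mpr hXY]
    rw [this, Subgroup.inf_relIndex_right]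
  have h4 : X.relIndex (Y ⊓ D) ∣ X.relIndex Y := relIndex_dvd_of_le_right' inf_le_left
  rw [h1]
  exact h2.trans (h3 ▸ h4)

theorem relIndex_dvd_of_between [Finite G] {A C D B : Subgroup G} (hAC : A ≤ C) (hCD : C ≤ D)
    (hDB : D ≤ B) : C.relIndex D ∣ A.relIndex B := by
  have h1 := Subgroup.relIndex_mul_relIndex A C B hAC (hCD.trans hDB)
  have h2 := Subgroup.relIndex_mul_relIndex C D B hCD hDB
  rw [← h1, ← h2]
  exact Dvd.dvd.mul_left (Dvd.intro _ rfl) _

/-! ### basic constructions -/

/-- the upper `p`-series gives a relative series of the whole group -/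
theorem of_pLengthLE [Finite G] {p k : ℕ} [Fact p.Prime] (h : PLengthLE p k G) :
    PSer p k (⊥ : Subgroup G) ⊤ := by
  refine ⟨fun i => (upperPSeries p G i).1, rfl, h, fun i => (upperPSeries p G i).2,
    fun i => Cfsg.Agent.Lib.Helper4.upperPSeries_le_succ p i, ?_, ?_⟩
  · intro i hi
    exact Cfsg.Agent.Lib.Helper2.PSeries.relIndex_upperPSeries_even i hi
  · intro i hi
    exact Cfsg.Agent.Lib.Helper2.PSeries.relIndex_upperPSeries_odd i hi

/-- a relative series of the whole group bounds the `p`-length -/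
theorem pLengthLE_of [Finite G] {p k : ℕ} [Fact p.Prime] (h : PSer p k (⊥ : Subgroup G) ⊤) :
    PLengthLE p k G := by
  obtain ⟨V, hV0, hVk, hVn, -, hev, hodd⟩ := h
  unfold PLengthLE
  rw [eq_top_iff, ← hVk]
  exact Cfsg.Agent.Lib.Helper2.PSeries.le_upperPSeries V hV0 hVn hev hodd (2 * k + 1)

/-- restriction of a relative series to a subsection -/
theorem restrict [Finite G] {p k : ℕ} [hp : Fact p.Prime] {A B C D : Subgroup G} (h : PSer p k A B)
    [C.Normal] [D.Normal] (hAC : A ≤ C) (hCD : C ≤ D) (hDB : D ≤ B) : PSer p k C D := by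
  obtain ⟨V, hV0, hVk, hVn, hmono, hev, hodd⟩ := h
  refine ⟨fun i => (V i ⊓ D) ⊔ C, ?_, ?_, ?_, ?_, ?_, ?_⟩
  · show (V 0 ⊓ D) ⊔ C = C
    rw [hV0]
    exact sup_eq_right.mpr (inf_le_left.trans hAC)
  · show (V (2 * k + 1) ⊓ D) ⊔ C = D
    rw [hVk, inf_eq_right.mpr hDB]
    exact sup_eq_left.mpr hCD
  · intro i
    haveI := hVn i
    show ((V i ⊓ D) ⊔ C).Normal
    infer_instance
  · intro i
    exact sup_le_sup_right (inf_le_inf_right _ (hmono i)) _
  · intro i hi
    haveI := hVn i
    haveI := hVn (i + 1)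
    exact Nat.Coprime.coprime_dvd_left (relIndex_restrict_dvd (hmono i)) (hev i hi)
  · intro i hi
    haveI := hVn i
    haveI := hVn (i + 1)
    obtain ⟨m, hm⟩ := hodd i hi
    have := relIndex_restrict_dvd (C := C) (D := D) (hmono i)
    rw [hm] at this
    obtain ⟨j, -, hj⟩ := (Nat.dvd_prime_pow hp.out).mp this
    exact ⟨j, hj⟩

/-- a `p'`-section has a series with no factor of `p`-type -/
theorem of_coprime {p : ℕ} {A B : Subgroup G} [A.Normal] [B.Normal] (hAB : A ≤ B)
    (h : (A.relIndex B).Coprime p) : PSer p 0 A B := by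
  refine ⟨fun i => if i = 0 then A else B, by simp, by simp, ?_, ?_, ?_, ?_⟩
  · intro i
    by_cases hi : i = 0
    · simp only [hi, if_true]; infer_instance
    · simp only [hi, if_false]; infer_instance
  · intro i
    by_cases hi : i = 0
    · simp [hi, hAB]
    · simp [hi]
  · intro i _
    by_cases hi : i = 0
    · simp only [hi, if_true]
      simpa using h
    · simp [hi, Subgroup.relIndex_self]
  · intro i hi
    have hi0 : i ≠ 0 := by
      rintro rfl
      exact hi (by simp)
    exact ⟨0, by simp [hi0, Subgroup.relIndex_self]⟩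

/-- a `p`-section has a series with one factor of `p`-type -/
theorem of_pow {p : ℕ} {A B : Subgroup G} [A.Normal] [B.Normal] (hAB : A ≤ B) {m : ℕ}
    (h : A.relIndex B = p ^ m) : PSer p 1 A B := by
  refine ⟨fun i => if i ≤ 1 then A else B, by simp, by simp, ?_, ?_, ?_, ?_⟩
  · intro i
    by_cases hi : i ≤ 1
    · simp only [hi, if_true]; infer_instance
    · simp only [hi, if_false]; infer_instance
  · intro i
    by_cases hi : i + 1 ≤ 1
    · have : i ≤ 1 := by omega
      simp [hi, this]
    · by_cases hi' : i ≤ 1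
      · simp [hi, hi', hAB]
      · simp [hi, hi']
  · intro i hi
    by_cases hi0 : i = 0
    · simp [hi0, Subgroup.relIndex_self]
    · have h2 : ¬ i ≤ 1 := by
        intro h1
        have : i = 1 := by omega
        rw [this] at hi
        exact absurd hi (by decide)
      have h3 : ¬ i + 1 ≤ 1 := by omega
      simp [h2, h3, Subgroup.relIndex_self]
  · intro i hi
    by_cases hi1 : i = 1
    · exact ⟨m, by simp [hi1, h]⟩
    · have hi0 : i ≠ 0 := by
        rintro rfl
        exact hi (by simp)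
      have h2 : ¬ i ≤ 1 := by omega
      have h3 : ¬ i + 1 ≤ 1 := by omega
      exact ⟨0, by simp [h2, h3, Subgroup.relIndex_self]⟩

/-- concatenation of relative series -/
theorem concat [Finite G] {p a b : ℕ} {A B C : Subgroup G} (h1 : PSer p a A B) (h2 : PSer p b B C) :
    PSer p (a + b) A C := by
  obtain ⟨V, hV0, hVa, hVn, hVmono, hVev, hVodd⟩ := h1
  obtain ⟨W, hW0, hWb, hWn, hWmono, hWev, hWodd⟩ := h2
  have hVB : V (2 * a) ≤ W 1 := by
    have h1 : V (2 * a) ≤ V (2 * a + 1) := hVmono _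
    rw [hVa, ← hW0] at h1
    exact h1.trans (hWmono 0)
  refine ⟨fun i => if i ≤ 2 * a then V i else W (i - 2 * a), by simp [hV0], ?_, ?_, ?_, ?_, ?_⟩
  · have h1 : ¬ 2 * (a + b) + 1 ≤ 2 * a := by omega
    have h2 : 2 * (a + b) + 1 - 2 * a = 2 * b + 1 := by omega
    simp only [h1, if_false, h2, hWb]
  · intro i
    by_cases hi : i ≤ 2 * a
    · simp only [hi, if_true]; exact hVn i
    · simp only [hi, if_false]; exact hWn _
  · intro i
    by_cases hi : i + 1 ≤ 2 * a
    · have : i ≤ 2 * a := by omega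
      simp only [hi, this, if_true]
      exact hVmono i
    · by_cases hi' : i ≤ 2 * a
      · have hia : i = 2 * a := by omega
        have h3 : i + 1 - 2 * a = 1 := by omega
        simp only [hi, hi', if_true, if_false, h3]
        rw [hia]; exact hVB
      · have h3 : i + 1 - 2 * a = (i - 2 * a) + 1 := by omega
        simp only [hi, hi', if_false, h3]
        exact hWmono _
  · intro i hev
    by_cases hi : i + 1 ≤ 2 * a
    · have : i ≤ 2 * a := by omega
      simp only [hi, this, if_true]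
      exact hVev i hev
    · by_cases hi' : i ≤ 2 * a
      · have hia : i = 2 * a := by omega
        have h3 : i + 1 - 2 * a = 1 := by omega
        simp only [hi, hi', if_true, if_false, h3]
        rw [hia]
        -- `[W 1 : V (2a)] = [B : V (2a)] [W 1 : B]`
        have hle1 : V (2 * a) ≤ B := hVa ▸ hVmono (2 * a)
        have hle2 : B ≤ W 1 := hW0 ▸ hWmono 0
        rw [← Subgroup.relIndex_mul_relIndex _ _ _ hle1 hle2]
        refine Nat.Coprime.mul_left ?_ ?_
        · have := hVev (2 * a) ⟨a, by ring⟩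
          rwa [hVa] at this
        · have := hWev 0 (by simp)
          rwa [hW0] at this
      · have h3 : i + 1 - 2 * a = (i - 2 * a) + 1 := by omega
        simp only [hi, hi', if_false, h3]
        apply hWev
        obtain ⟨r, hr⟩ := hev
        exact ⟨r - a, by omega⟩
  · intro i hodd
    by_cases hi : i + 1 ≤ 2 * a
    · have : i ≤ 2 * a := by omega
      simp only [hi, this, if_true]
      exact hVodd i hodd
    · by_cases hi' : i ≤ 2 * a
      · exfalso
        have hia : i = 2 * a := by omega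
        exact hodd ⟨a, by omega⟩
      · have h3 : i + 1 - 2 * a = (i - 2 * a) + 1 := by omega
        simp only [hi, hi', if_false, h3]
        apply hWodd
        rintro ⟨r, hr⟩
        exact hodd ⟨r + a, by omega⟩

/-- dropping the first two terms of a series -/
theorem drop_two {p k : ℕ} {B : Subgroup G} {V : ℕ → Subgroup G} (hVk : V (2 * (k + 1) + 1) = B)
    (hVn : ∀ i, (V i).Normal) (hmono : ∀ i, V i ≤ V (i + 1))
    (hev : ∀ i, Even i → ((V i).relIndex (V (i + 1))).Coprime p)
    (hodd : ∀ i, ¬ Even i → ∃ m : ℕ, (V i).relIndex (V (i + 1)) = p ^ m) :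
    PSer p k (V 2) B := by
  refine ⟨fun i => V (i + 2), rfl, ?_, fun i => hVn _, fun i => hmono _, ?_, ?_⟩
  · show V (2 * k + 1 + 2) = B
    rw [← hVk]
    congr 1
  · intro i hi
    apply hev
    obtain ⟨r, hr⟩ := hi
    exact ⟨r + 1, by omega⟩
  · intro i hi
    apply hodd
    rintro ⟨r, hr⟩
    exact hi ⟨r - 1, by omega⟩

end Cfsg.Agent.Lib.Helper7.PSer
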