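import Mathlib

set_option autoImplicit false

namespace Cfsg.Agent.Lib.Helper7

/-- class equation for one class: `|g^G| * |C_G(g)| = |G|`. -/
theorem ncard_cls_mul_card_centralizer {G : Type*} [Group G] [Finite G] (g : G) :
    Set.ncard {y : G | IsConj g y} * Nat.card (Subgroup.centralizer ({g} : Set G)) = Nat.card G := by
  have h1 : {y : G | IsConj g y} = MulAction.orbit (ConjAct G) g := by
    ext y
    rw [ConjAct.mem_orbit_conjAct]
    exact ⟨fun h => h.symm, fun h => h.symm⟩
  rw [h1, ← MulAction.index_stabilizer, Subgroup.nat_card_centralizer_nat_card_stabilizer,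
    Subgroup.index_mul_card]
  rfl

end Cfsg.Agent.Lib.Helper7
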