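import Mathlib

set_option autoImplicit false

/-!
# Geometric sums and their `p`-adic valuations
-/

namespace Cfsg.Agent.Lib.Helper7.Meta

/-- the geometric sum `1 + σ + ⋯ + σ^(k-1)` -/
def gs (σ k : ℕ) : ℕ := ∑ s ∈ Finset.range k, σ ^ s

theorem gs_zero (σ : ℕ) : gs σ 0 = 0 := by simp [gs]

theorem gs_succ (σ k : ℕ) : gs σ (k + 1) = 1 + σ * gs σ k := by
  unfold gs
  rw [Finset.sum_range_succ', Finset.mul_sum, pow_zero, add_comm]
  congr 1
  apply Finset.sum_congr rfl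
  intro s _
  rw [pow_succ, mul_comm]

theorem gs_succ' (σ k : ℕ) : gs σ (k + 1) = gs σ k + σ ^ k := by
  unfold gs
  rw [Finset.sum_range_succ]

theorem gs_one_left (k : ℕ) : gs 1 k = k := by
  simp [gs]

theorem gs_one_right (σ : ℕ) : gs σ 1 = 1 := by
  simp [gs]

theorem gs_pos (σ : ℕ) {k : ℕ} (hk : k ≠ 0) : 0 < gs σ k := by
  obtain ⟨j, rfl⟩ := Nat.exists_eq_succ_of_ne_zero hk
  rw [gs_succ]
  omega

theorem gs_mul_add_one (σ k : ℕ) : gs σ k * (σ - 1) + 1 = σ ^ k ∨ σ = 0 := by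
  rcases Nat.eq_zero_or_pos σ with h | h
  · exact Or.inr h
  left
  induction k with
  | zero => simp [gs_zero]
  | succ k ih =>
    rw [gs_succ', add_mul, pow_succ]
    have h1 : σ ^ k * (σ - 1) = σ ^ k * σ - σ ^ k := by
      rw [Nat.mul_sub, mul_one]
    have h2 : σ ^ k ≤ σ ^ k * σ := Nat.le_mul_of_pos_right _ h
    have h3 : 1 ≤ σ ^ k := Nat.one_le_pow _ _ h
    omega

theorem gs_add (σ j l : ℕ) : gs σ (j + l) = gs σ j + σ ^ j * gs σ l := by
  induction l with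
  | zero => simp [gs_zero]
  | succ l ih =>
    rw [← add_assoc, gs_succ', ih, gs_succ', pow_add]
    ring

variable {p : ℕ} [hp : Fact p.Prime]

theorem padicValNat_gs (hp2 : p ≠ 2) {σ : ℕ} (hσ : σ % p = 1) {k : ℕ} (hk : k ≠ 0) :
    padicValNat p (gs σ k) = padicValNat p k := by
  by_cases h1 : σ = 1
  · rw [h1, gs_one_left]
  have hσ2 : 1 < σ := by
    rcases Nat.lt_or_ge 1 σ with h | h
    · exact h
    · exfalso
      interval_cases σ
      · simp at hσ
      · exact h1 rfl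
  have hodd : Odd p := hp.out.odd_of_ne_two hp2
  have hdvd : p ∣ σ - 1 := by
    have : (σ - 1) % p = 0 := by
      have h2 := Nat.sub_mod_eq_zero_of_mod_eq (m := σ) (n := 1) (k := p) (by
        rw [hσ, Nat.one_mod_eq_one.mpr hp.out.one_lt.ne'])
      exact h2
    exact Nat.dvd_of_mod_eq_zero this
  have hnd : ¬ p ∣ σ := by
    intro h
    have := Nat.mod_eq_zero_of_dvd h
    omega
  have hlte := padicValNat.pow_sub_pow hodd hσ2 hdvd hnd hk
  rw [one_pow] at hlte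
  have hgs : gs σ k * (σ - 1) + 1 = σ ^ k := by
    rcases gs_mul_add_one σ k with h | h
    · exact h
    · omega
  have hgs' : σ ^ k - 1 = gs σ k * (σ - 1) := by omega
  rw [hgs', padicValNat.mul (gs_pos σ hk).ne' (by omega)] at hlte
  omega

theorem pow_dvd_gs_iff (hp2 : p ≠ 2) {σ : ℕ} (hσ : σ % p = 1) (e k : ℕ) :
    p ^ e ∣ gs σ k ↔ p ^ e ∣ k := by
  by_cases hk : k = 0
  · rw [hk, gs_zero]
  rw [padicValNat_dvd_iff_le (gs_pos σ hk).ne', padicValNat_dvd_iff_le hk, padicValNat_gs hp2 hσ hk]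

end Cfsg.Agent.Lib.Helper7.Meta
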