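import Mathlib
import Cfsg.Agent.Lib.Helper7.Conj
import Cfsg.Prelude.Def_KGroupFacts

set_option autoImplicit false

namespace Cfsg.Agent.Lib.Helper7

open scoped commutatorElement

section gens

variable {Γ : Type*} [Group Γ]

/-- If a generating set commutes pairwise modulo the normal subgroup `C`, then `Γ' ≤ C`. -/
theorem commutator_le_of_generators (C : Subgroup Γ) [C.Normal] (S : Set Γ)
    (hS : Subgroup.closure S = ⊤) (h : ∀ s ∈ S, ∀ t ∈ S, ⁅s, t⁆ ∈ C) : commutator Γ ≤ C := by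
  have comm_iff : ∀ g h : Γ, ⁅g, h⁆ ∈ C ↔
      (QuotientGroup.mk' C g) * (QuotientGroup.mk' C h) = (QuotientGroup.mk' C h) * (QuotientGroup.mk' C g) := by
    intro g h
    rw [← commutatorElement_eq_one_iff_mul_comm, ← map_commutatorElement, QuotientGroup.mk'_apply,
      QuotientGroup.eq_one_iff]
  have h1 : ∀ s ∈ S, ∀ g : Γ, ⁅s, g⁆ ∈ C := by
    intro s hs g
    have hle : Subgroup.closure S ≤
        (Subgroup.centralizer {(QuotientGroup.mk' C s)}).comap (QuotientGroup.mk' C) := by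
      rw [Subgroup.closure_le]
      intro t ht
      rw [SetLike.mem_coe, Subgroup.mem_comap, Subgroup.mem_centralizer_iff]
      intro x hx
      rw [Set.mem_singleton_iff] at hx
      rw [hx]
      exact (comm_iff s t).mp (h s hs t ht)
    have hg : g ∈ (Subgroup.centralizer {(QuotientGroup.mk' C s)}).comap (QuotientGroup.mk' C) := by
      apply hle; rw [hS]; exact Subgroup.mem_top g
    rw [Subgroup.mem_comap, Subgroup.mem_centralizer_iff] at hg
    exact (comm_iff s g).mpr (hg _ rfl)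
  have h2 : ∀ g k : Γ, ⁅g, k⁆ ∈ C := by
    intro g k
    have hle : Subgroup.closure S ≤
        (Subgroup.centralizer {(QuotientGroup.mk' C k)}).comap (QuotientGroup.mk' C) := by
      rw [Subgroup.closure_le]
      intro t ht
      rw [SetLike.mem_coe, Subgroup.mem_comap, Subgroup.mem_centralizer_iff]
      intro x hx
      rw [Set.mem_singleton_iff] at hx
      rw [hx]
      have := (comm_iff t k).mp (h1 t ht k)
      exact this.symm
    have hg : g ∈ (Subgroup.centralizer {(QuotientGroup.mk' C k)}).comap (QuotientGroup.mk' C) := by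
      apply hle; rw [hS]; exact Subgroup.mem_top g
    rw [Subgroup.mem_comap, Subgroup.mem_centralizer_iff] at hg
    exact (comm_iff g k).mpr (hg _ rfl).symm
  rw [commutator_def, Subgroup.commutator_le]
  intro g _ k _
  exact h2 g k

end gens

section core

variable {Γ : Type*} [Group Γ] (K : Subgroup Γ) (hK : K ≤ Subgroup.center Γ) (α ξ k : Γ)
  (hk : k ∈ K) (hrel : ξ * α * ξ⁻¹ = α⁻¹ * k) (hgen : Subgroup.closure {α, ξ} ⊔ K = ⊤)

include hK hk in
theorem k_comm (g : Γ) : g * k = k * g :=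
  Subgroup.mem_center_iff.mp (hK hk) g

include hK hk hrel in
theorem conj_pow_rel (N : ℕ) : ξ * α ^ N * ξ⁻¹ = (α⁻¹) ^ N * k ^ N := by
  have h1 : ξ * α ^ N * ξ⁻¹ = (ξ * α * ξ⁻¹) ^ N := by
    rw [conj_pow]
  rw [h1, hrel]
  have hc : Commute α⁻¹ k := k_comm K hK k hk α⁻¹
  exact hc.mul_pow N

include hK hk hrel in
/-- if `ξ` commutes with `α ^ N` then `α ^ (2N) = k ^ N`. -/
theorem rel_two_mul (N : ℕ) (hcomm : ξ * α ^ N = α ^ N * ξ) : α ^ (2 * N) = k ^ N := by
  have h1 := conj_pow_rel K hK α ξ k hk hrel N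
  have h2 : ξ * α ^ N * ξ⁻¹ = α ^ N := by rw [hcomm]; group
  rw [h2] at h1
  have h3 : α ^ N * α ^ N = k ^ N := by
    calc α ^ N * α ^ N = α ^ N * ((α⁻¹) ^ N * k ^ N) := by rw [← h1]
      _ = k ^ N := by rw [← mul_assoc, inv_pow, mul_inv_cancel, one_mul]
  rw [two_mul, pow_add, h3]

include hK hk in
theorem c_pow (i : ℕ) : (α * α * k⁻¹) ^ i = α ^ (2 * i) * (k⁻¹) ^ i := by
  have hk' : k⁻¹ ∈ Subgroup.center Γ := (Subgroup.center Γ).inv_mem (hK hk)
  have hc : Commute (α * α) k⁻¹ := Subgroup.mem_center_iff.mp hk' (α * α)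
  rw [hc.mul_pow, ← pow_two, ← pow_mul]

include hK hk hrel hgen in
theorem commutator_le_zpowers : commutator Γ ≤ Subgroup.zpowers (α * α * k⁻¹) := by
  set c := α * α * k⁻¹ with hc
  have hkc : ∀ g : Γ, g * k = k * g := k_comm K hK k hk
  have hkc' : ∀ g : Γ, g * k⁻¹ = k⁻¹ * g := by
    intro g
    have := hkc g
    calc g * k⁻¹ = k⁻¹ * (k * g) * k⁻¹ := by group
      _ = k⁻¹ * (g * k) * k⁻¹ := by rw [this]
      _ = k⁻¹ * g := by group
  -- conjugates of c
  have hαc : α * c * α⁻¹ = c := by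
    rw [hc]
    calc α * (α * α * k⁻¹) * α⁻¹ = α * α * (α * k⁻¹) * α⁻¹ := by group
      _ = α * α * (k⁻¹ * α) * α⁻¹ := by rw [hkc' α]
      _ = α * α * k⁻¹ := by group
  have hξc : ξ * c * ξ⁻¹ = c⁻¹ := by
    have e1 : ξ * c * ξ⁻¹ = (ξ * α * ξ⁻¹) * (ξ * α * ξ⁻¹) * (ξ * k⁻¹ * ξ⁻¹) := by
      rw [hc]; group
    have e2 : ξ * k⁻¹ * ξ⁻¹ = k⁻¹ := by rw [hkc' ξ]; group
    rw [e1, hrel, e2, hc]
    calc (α⁻¹ * k) * (α⁻¹ * k) * k⁻¹ = α⁻¹ * k * α⁻¹ := by group
      _ = k * α⁻¹ * α⁻¹ := by rw [hkc α⁻¹]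
      _ = (α * α * k⁻¹)⁻¹ := by group
  have hKc : ∀ z ∈ K, z * c * z⁻¹ = c := by
    intro z hz
    have := Subgroup.mem_center_iff.mp (hK hz) c
    rw [← this]; group
  -- normality
  have hnorm : (Subgroup.zpowers c).Normal := by
    rw [← Subgroup.normalizer_eq_top_iff, eq_top_iff, ← hgen, sup_le_iff, Subgroup.closure_le]
    refine ⟨?_, ?_⟩
    · intro g hg
      rw [SetLike.mem_coe, mem_normalizer_iff_cj]
      unfold cj
      rw [MonoidHom.map_zpowers]
      rcases hg with rfl | hg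
      · show Subgroup.zpowers (g * c * g⁻¹) = _
        rw [hαc]
      · rw [Set.mem_singleton_iff] at hg
        subst hg
        show Subgroup.zpowers (g * c * g⁻¹) = _
        rw [hξc, Subgroup.zpowers_inv]
    · intro z hz
      rw [mem_normalizer_iff_cj]
      unfold cj
      rw [MonoidHom.map_zpowers]
      show Subgroup.zpowers (z * c * z⁻¹) = _
      rw [hKc z hz]
  -- generators commute modulo C
  have hS : Subgroup.closure (({α, ξ} : Set Γ) ∪ (K : Set Γ)) = ⊤ := by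
    rw [Subgroup.closure_union, Subgroup.closure_eq, hgen]
  have hαξ : ⁅α, ξ⁆ = c := by
    rw [commutatorElement_def]
    have e1 : α * ξ * α⁻¹ * ξ⁻¹ = α * (ξ * α * ξ⁻¹)⁻¹ := by group
    rw [e1, hrel, hc]
    calc α * (α⁻¹ * k)⁻¹ = α * k⁻¹ * α := by group
      _ = k⁻¹ * α * α := by rw [hkc' α]
      _ = k⁻¹ * (α * α) := by group
      _ = α * α * k⁻¹ := by rw [← hkc' (α * α)]
  have hcen : ∀ z ∈ K, ∀ g : Γ, ⁅z, g⁆ = 1 ∧ ⁅g, z⁆ = 1 := by
    intro z hz g
    have := Subgroup.mem_center_iff.mp (hK hz) g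
    constructor
    · rw [commutatorElement_eq_one_iff_mul_comm, this]
    · rw [commutatorElement_eq_one_iff_mul_comm, this]
  apply commutator_le_of_generators (Subgroup.zpowers c) _ hS
  intro s hs t ht
  rcases hs with hs | hs
  · rcases ht with ht | ht
    · rcases hs with rfl | hs
      · rcases ht with rfl | ht
        · rw [commutatorElement_self]; exact Subgroup.one_mem _
        · rw [Set.mem_singleton_iff] at ht; subst ht
          rw [hαξ]; exact Subgroup.mem_zpowers c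
      · rw [Set.mem_singleton_iff] at hs; subst hs
        rcases ht with rfl | ht
        · rw [← commutatorElement_inv, hαξ]
          exact Subgroup.inv_mem _ (Subgroup.mem_zpowers c)
        · rw [Set.mem_singleton_iff] at ht; subst ht
          rw [commutatorElement_self]; exact Subgroup.one_mem _
    · rw [(hcen t ht s).2]; exact Subgroup.one_mem _
  · rw [(hcen s hs t).1]; exact Subgroup.one_mem _

end core

section stem

open Cfsg

variable {Γ : Type*} {Q : Type*} [Group Γ] [Group Q] [Finite Γ]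

/-- The basic analysis of a stem extension of a group generated by `a, x` with `x a x⁻¹ = a⁻¹`. -/
theorem stem_analysis (σ : Γ →* Q) (hσ : Cfsg.IsStemExtension σ) (a x : Q)
    (hQ : Subgroup.closure {a, x} = ⊤) (hrelQ : x * a * x⁻¹ = a⁻¹) :
    ∃ α ξ k : Γ, σ α = a ∧ σ ξ = x ∧ k ∈ σ.ker ∧ ξ * α * ξ⁻¹ = α⁻¹ * k ∧
      (∀ z ∈ σ.ker, ∃ i : ℕ, z = α ^ (2 * i) * (k⁻¹) ^ i ∧ (a * a) ^ i = 1) ∧
      (∀ N : ℕ, ξ * α ^ N = α ^ N * ξ → α ^ (2 * N) = k ^ N) := by
  obtain ⟨hsurj, hcen, hcomm⟩ := hσ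
  obtain ⟨α, hα⟩ := hsurj a
  obtain ⟨ξ, hξ⟩ := hsurj x
  set k := α * (ξ * α * ξ⁻¹) with hkdef
  have hk : k ∈ σ.ker := by
    rw [MonoidHom.mem_ker, hkdef]
    simp only [map_mul, map_inv, hα, hξ, hrelQ]
    group
  have hrel : ξ * α * ξ⁻¹ = α⁻¹ * k := by rw [hkdef]; group
  have hgen : Subgroup.closure {α, ξ} ⊔ σ.ker = ⊤ := by
    rw [eq_top_iff]
    intro g _
    have h1 : σ g ∈ (Subgroup.closure {α, ξ}).map σ := by
      rw [MonoidHom.map_closure, Set.image_pair, hα, hξ, hQ]; exact Subgroup.mem_top _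
    obtain ⟨w, hw, hwg⟩ := h1
    have h2 : w⁻¹ * g ∈ σ.ker := by
      rw [MonoidHom.mem_ker, map_mul, map_inv, hwg]; group
    have : g = w * (w⁻¹ * g) := by group
    rw [this]
    exact Subgroup.mul_mem _ (Subgroup.mem_sup_left hw) (Subgroup.mem_sup_right h2)
  refine ⟨α, ξ, k, hα, hξ, hk, hrel, ?_, ?_⟩
  · intro z hz
    have hz' : z ∈ Subgroup.zpowers (α * α * k⁻¹) :=
      commutator_le_zpowers σ.ker hcen α ξ k hk hrel hgen (hcomm hz)
    rw [← mem_powers_iff_mem_zpowers] at hz'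
    obtain ⟨i, hi⟩ := hz'
    refine ⟨i, ?_, ?_⟩
    · rw [← hi]
      exact c_pow σ.ker hcen α k hk i
    · have := congrArg σ hi
      rw [MonoidHom.mem_ker.mp hz] at this
      rw [← this]
      simp only [map_pow, map_mul, map_inv, hα, MonoidHom.mem_ker.mp hk, inv_one, mul_one]
  · intro N hN
    exact rel_two_mul σ.ker hcen α ξ k hk hrel N hN

end stem

section mult

open Cfsg

universe u

/-- trivial multiplier from "every finite stem extension has trivial kernel". -/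
theorem hasCyclicSchurMultiplier_one {Q : Type u} [Group Q] [Finite Q]
    (h : ∀ (Γ : Type u) [Group Γ] [Finite Γ] (σ : Γ →* Q), Cfsg.IsStemExtension σ → σ.ker = ⊥) :
    Cfsg.HasCyclicSchurMultiplier Q 1 := by
  refine ⟨⟨Q, inferInstance, inferInstance, MonoidHom.id Q, ⟨Function.surjective_id, ?_, ?_⟩, ?_⟩, ?_⟩
  · rw [MonoidHom.ker_id]; exact bot_le
  · rw [MonoidHom.ker_id]; exact bot_le
  · rw [MonoidHom.ker_id]
    haveI : Unique (Multiplicative (ZMod 1)) := by
      show Unique (Multiplicative (Fin 1))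
      infer_instance
    exact ⟨MulEquiv.ofUnique⟩
  · intro Γ _ _ σ hσ
    refine ⟨1, ?_⟩
    intro ⟨z, hz⟩
    refine ⟨1, ?_⟩
    apply Subtype.ext
    rw [h Γ σ hσ, Subgroup.mem_bot] at hz
    simp [hz]

end mult

end Cfsg.Agent.Lib.Helper7
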