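import Mathlib
import Cfsg.Agent.Lib.Helper7.Meta1
import Cfsg.Agent.Lib.Helper7.StemCore
import Cfsg.Agent.Lib.Helper7.ClassCount

set_option autoImplicit false

/-!
# Finite `p`-groups (`p` odd) with cyclic derived subgroup
-/

namespace Cfsg.Agent.Lib.Helper7.Meta

open scoped commutatorElement

variable {G : Type*} [Group G]

/-- a finite `p`-group (`p` odd) whose derived subgroup is cyclic, generated by `c` of order
`p ^ n` -/
structure CycDer (p : ℕ) (G : Type*) [Group G] (c : G) (n : ℕ) : Prop where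
  odd : p ≠ 2
  pgroup : IsPGroup p G
  comm : commutator G = Subgroup.zpowers c
  order : orderOf c = p ^ n

section general

/-- the preimage of the centre of `G ⧸ K` -/
def cdep (K : Subgroup G) [K.Normal] : Subgroup G :=
  (Subgroup.center (G ⧸ K)).comap (QuotientGroup.mk' K)

theorem mem_cdep {K : Subgroup G} [K.Normal] {g : G} : g ∈ cdep K ↔ ∀ y : G, ⁅g, y⁆ ∈ K := by
  unfold cdep
  rw [Subgroup.mem_comap, Subgroup.mem_center_iff]
  constructor
  · intro h y
    have h1 := h (QuotientGroup.mk' K y)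
    rw [← QuotientGroup.eq_one_iff, ← QuotientGroup.mk'_apply, map_commutatorElement,
      commutatorElement_eq_one_iff_mul_comm]
    exact h1.symm
  · intro h q
    obtain ⟨y, rfl⟩ := QuotientGroup.mk'_surjective K q
    have h1 := h y
    rw [← QuotientGroup.eq_one_iff, ← QuotientGroup.mk'_apply, map_commutatorElement,
      commutatorElement_eq_one_iff_mul_comm] at h1
    exact h1.symm

instance cdep_normal (K : Subgroup G) [K.Normal] : (cdep K).Normal := by
  unfold cdep
  infer_instance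

theorem index_centralizer_eq [Finite G] (g : G) :
    (Subgroup.centralizer ({g} : Set G)).index = Set.ncard {y : G | IsConj g y} := by
  have h1 := ncard_cls_mul_card_centralizer g
  have h2 := Subgroup.index_mul_card (Subgroup.centralizer ({g} : Set G))
  have hpos : 0 < Nat.card (Subgroup.centralizer ({g} : Set G)) := Nat.card_pos
  rw [← h2] at h1
  exact (Nat.eq_of_mul_eq_mul_right hpos h1).symm

/-- the class of an element of `cdep K` has at most `|K|` elements -/
theorem index_centralizer_le_of_mem_cdep [Finite G] {K : Subgroup G} [K.Normal] {g : G}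
    (hg : g ∈ cdep K) : (Subgroup.centralizer ({g} : Set G)).index ≤ Nat.card K := by
  rw [index_centralizer_eq]
  have hsub : {y : G | IsConj g y} ⊆ (fun k : G => k * g) '' (K : Set G) := by
    intro y hy
    obtain ⟨u, hu⟩ := isConj_iff.mp hy
    refine ⟨⁅u, g⁆, ?_, ?_⟩
    · have := mem_cdep.mp hg u
      have h2 : ⁅u, g⁆ = (⁅g, u⁆)⁻¹ := (commutatorElement_inv g u).symm
      rw [SetLike.mem_coe, h2]
      exact K.inv_mem this
    · show ⁅u, g⁆ * g = y
      rw [commutatorElement_def, ← hu]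
      group
  calc Set.ncard {y : G | IsConj g y} ≤ Set.ncard ((fun k : G => k * g) '' (K : Set G)) :=
        Set.ncard_le_ncard hsub (Set.toFinite _)
    _ ≤ Set.ncard (K : Set G) := Set.ncard_image_le (Set.toFinite _)
    _ = Nat.card K := rfl

/-- a lower bound for the class size: the conjugates by powers of `y` -/
theorem le_index_centralizer [Finite G] (g y : G) (q : ℕ)
    (h : ∀ k : ℕ, ⁅y ^ k, g⁆ = 1 → q ∣ k) : q ≤ (Subgroup.centralizer ({g} : Set G)).index := by
  rcases Nat.eq_zero_or_pos q with hq | hq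
  · rw [hq]; exact Nat.zero_le _
  have hinj : Function.Injective
      (fun k : Fin q => (QuotientGroup.mk (y ^ (k : ℕ)) : G ⧸ Subgroup.centralizer ({g} : Set G))) := by
    intro k l hkl
    simp only at hkl
    rw [QuotientGroup.eq] at hkl
    -- `y^(-k) y^l` centralizes `g`
    have key : ∀ a b : ℕ, a ≤ b → (y ^ a)⁻¹ * y ^ b ∈ Subgroup.centralizer ({g} : Set G) →
        a < q → b < q → a = b := by
      intro a b hab hmem ha hb
      have h1 : (y ^ a)⁻¹ * y ^ b = y ^ (b - a) := by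
        have : y ^ b = y ^ a * y ^ (b - a) := by rw [← pow_add]; congr 1; omega
        rw [this]; group
      rw [h1, Subgroup.mem_centralizer_singleton_iff] at hmem
      have h2 : ⁅y ^ (b - a), g⁆ = 1 := by
        rw [commutatorElement_eq_one_iff_mul_comm]
        exact hmem
      have h3 := h _ h2
      have h4 : b - a < q := by omega
      have h5 : b - a = 0 := Nat.eq_zero_of_dvd_of_lt h3 h4
      omega
    rcases Nat.le_total (k : ℕ) (l : ℕ) with hle | hle
    · exact Fin.ext (key k l hle hkl k.2 l.2)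
    · have hkl' : (y ^ (l : ℕ))⁻¹ * y ^ (k : ℕ) ∈ Subgroup.centralizer ({g} : Set G) := by
        have := Subgroup.inv_mem _ hkl
        simpa [mul_inv_rev] using this
      exact Fin.ext (key l k hle hkl' l.2 k.2).symm
  have := Nat.card_le_card_of_injective _ hinj
  rw [Nat.card_eq_fintype_card, Fintype.card_fin] at this
  exact this

end general

namespace CycDer

variable {p : ℕ} {c : G} {n : ℕ}

theorem comm_mem (h : CycDer p G c n) (x y : G) : ⁅x, y⁆ ∈ Subgroup.zpowers c := by
  rw [← h.comm]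
  exact Subgroup.commutator_mem_commutator (Subgroup.mem_top x) (Subgroup.mem_top y)

theorem conj_c_mem (h : CycDer p G c n) (x : G) : x * c * x⁻¹ ∈ Subgroup.zpowers c := by
  haveI : (Subgroup.zpowers c).Normal := h.comm ▸ (inferInstance : (commutator G).Normal)
  exact Subgroup.Normal.conj_mem inferInstance c (Subgroup.mem_zpowers c) x

variable [hp : Fact p.Prime]

/-- conjugation acts on the derived subgroup as a power map with exponent `≡ 1 (mod p)` -/
theorem exists_action [Finite G] (h : CycDer p G c n) (x : G) :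
    ∃ σ : ℕ, σ % p = 1 ∧ ∀ z ∈ Subgroup.zpowers c, x * z * x⁻¹ = z ^ σ := by
  have hp1 : 1 % p = 1 := Nat.one_mod_eq_one.mpr hp.out.one_lt.ne'
  by_cases hc1 : c = 1
  · refine ⟨1, hp1, ?_⟩
    intro z hz
    rw [hc1, Subgroup.zpowers_one_eq_bot, Subgroup.mem_bot] at hz
    rw [hz]; simp
  have hmem := h.conj_c_mem x
  rw [← mem_powers_iff_mem_zpowers] at hmem
  obtain ⟨σ, hσ⟩ := (Submonoid.mem_powers_iff _ _).mp hmem
  have hconj : ∀ z ∈ Subgroup.zpowers c, x * z * x⁻¹ = z ^ σ := by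
    intro z hz
    obtain ⟨k, rfl⟩ := Subgroup.mem_zpowers_iff.mp hz
    rw [← zpow_natCast, ← zpow_mul, mul_comm, zpow_mul, zpow_natCast, hσ]
    exact (conj_zpow (a := x) (b := c) (i := k)).symm ▸ rfl
  refine ⟨σ, ?_, hconj⟩
  -- iterate
  have hiter : ∀ k : ℕ, x ^ k * c * (x ^ k)⁻¹ = c ^ σ ^ k := by
    intro k
    induction k with
    | zero => simp
    | succ k ih =>
      have h1 : x ^ (k + 1) * c * (x ^ (k + 1))⁻¹ = x * (x ^ k * c * (x ^ k)⁻¹) * x⁻¹ := by
        rw [pow_succ']; group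
      rw [h1, ih, hconj _ (Subgroup.pow_mem _ (Subgroup.mem_zpowers c) _), ← pow_mul, pow_succ]
  obtain ⟨f, hf⟩ := h.pgroup x
  have h2 := hiter (p ^ f)
  rw [hf] at h2
  simp only [one_mul, inv_one, mul_one] at h2
  -- `c ^ (σ ^ p ^ f) = c`
  have hn : n ≠ 0 := by
    intro hn0
    apply hc1
    have := h.order
    rw [hn0, pow_zero, orderOf_eq_one_iff] at this
    exact this
  have h3 : (σ ^ p ^ f) ≡ 1 [MOD orderOf c] := by
    rw [← pow_eq_pow_iff_modEq, pow_one]
    exact h2.symm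
  have h4 : (σ ^ p ^ f) ≡ 1 [MOD p] := by
    apply h3.of_dvd
    rw [h.order]
    exact dvd_pow_self p hn
  have h5 : ((σ : ZMod p)) ^ p ^ f = 1 := by
    have := (ZMod.natCast_eq_natCast_iff _ _ _).mpr h4
    push_cast at this
    exact this
  rw [ZMod.pow_card_pow] at h5
  have h6 : (σ : ZMod p) = ((1 : ℕ) : ZMod p) := by rw [h5]; simp
  have h7 := (ZMod.natCast_eq_natCast_iff' _ _ _).mp h6
  rw [h7, hp1]

/-- every subgroup of the derived subgroup is normal -/
theorem normal_of_le [Finite G] (h : CycDer p G c n) {H : Subgroup G}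
    (hH : H ≤ Subgroup.zpowers c) : H.Normal := by
  constructor
  intro z hz x
  obtain ⟨σ, -, hσ⟩ := h.exists_action x
  rw [hσ z (hH hz)]
  exact H.pow_mem hz σ

/-- the commutator power formula -/
theorem comm_pow_left [Finite G] (h : CycDer p G c n) (x y : G) :
    ∃ σ : ℕ, σ % p = 1 ∧ ∀ k : ℕ, ⁅x ^ k, y⁆ = ⁅x, y⁆ ^ gs σ k := by
  obtain ⟨σ, hσ1, hσ⟩ := h.exists_action x
  refine ⟨σ, hσ1, ?_⟩
  intro k
  induction k with
  | zero => simp [gs_zero]
  | succ k ih =>
    have h1 : ⁅x ^ (k + 1), y⁆ = x * ⁅x ^ k, y⁆ * x⁻¹ * ⁅x, y⁆ := by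
      simp only [commutatorElement_def, pow_succ']
      group
    rw [h1, ih, hσ _ (Subgroup.pow_mem _ (h.comm_mem x y) _), ← pow_mul, ← pow_succ, gs_succ]
    congr 1
    ring

theorem comm_pow_right [Finite G] (h : CycDer p G c n) (x y : G) :
    ∃ τ : ℕ, τ % p = 1 ∧ ∀ k : ℕ, ⁅x, y ^ k⁆ = ⁅x, y⁆ ^ gs τ k := by
  obtain ⟨τ, hτ1, hτ⟩ := h.comm_pow_left y x
  refine ⟨τ, hτ1, ?_⟩
  intro k
  rw [← commutatorElement_inv (y ^ k) x, hτ k, ← commutatorElement_inv y x, inv_pow]

theorem orderOf_comm [Finite G] (h : CycDer p G c n) (x y : G) :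
    ∃ f : ℕ, orderOf ⁅x, y⁆ = p ^ f :=
  (IsPGroup.iff_orderOf.mp h.pgroup ⁅x, y⁆)

/-- `[x^k, y] = 1` iff the order of `[x, y]` divides `k` -/
theorem comm_pow_left_eq_one_iff [Finite G] (h : CycDer p G c n) (x y : G) (k : ℕ) :
    ⁅x ^ k, y⁆ = 1 ↔ orderOf ⁅x, y⁆ ∣ k := by
  obtain ⟨σ, hσ1, hσ⟩ := h.comm_pow_left x y
  obtain ⟨f, hf⟩ := h.orderOf_comm x y
  rw [hσ k, ← orderOf_dvd_iff_pow_eq_one, hf]
  exact pow_dvd_gs_iff h.odd hσ1 f k

theorem comm_pow_right_eq_one_iff [Finite G] (h : CycDer p G c n) (x y : G) (k : ℕ) :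
    ⁅x, y ^ k⁆ = 1 ↔ orderOf ⁅x, y⁆ ∣ k := by
  obtain ⟨σ, hσ1, hσ⟩ := h.comm_pow_right x y
  obtain ⟨f, hf⟩ := h.orderOf_comm x y
  rw [hσ k, ← orderOf_dvd_iff_pow_eq_one, hf]
  exact pow_dvd_gs_iff h.odd hσ1 f k

/-- the class size is at least the order of any commutator -/
theorem orderOf_comm_le_index [Finite G] (h : CycDer p G c n) (g y : G) :
    orderOf ⁅y, g⁆ ≤ (Subgroup.centralizer ({g} : Set G)).index :=
  le_index_centralizer g y _ fun k hk => (h.comm_pow_left_eq_one_iff y g k).mp hk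

end CycDer

end Cfsg.Agent.Lib.Helper7.Meta
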