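import Mathlib
import Cfsg.Agent.Lib.Helper7.Meta2

set_option autoImplicit false

/-!
# Depth subgroups and two-generator groups with cyclic derived subgroup
-/

namespace Cfsg.Agent.Lib.Helper7.Meta

open scoped commutatorElement

variable {G : Type*} [Group G]

theorem relIndex_le_index' [Finite G] (H K : Subgroup G) : H.relIndex K ≤ H.index := by
  have h1 : H.relIndex (⊤ : Subgroup G) ≠ 0 := by
    rw [Subgroup.relIndex_top_right]
    exact Subgroup.index_ne_zero_of_finite
  have := Subgroup.relIndex_le_of_le_right (H := H) (le_top : K ≤ ⊤) h1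
  rwa [Subgroup.relIndex_top_right] at this

/-- relative version of the lower bound for the class size -/
theorem le_relIndex_centralizer [Finite G] (g y : G) (q : ℕ)
    (h : ∀ k : ℕ, ⁅y ^ k, g⁆ = 1 → q ∣ k) :
    q ≤ (Subgroup.centralizer ({g} : Set G)).relIndex (Subgroup.zpowers y) := by
  rcases Nat.eq_zero_or_pos q with hq | hq
  · rw [hq]; exact Nat.zero_le _
  set Y := Subgroup.zpowers y
  set C := (Subgroup.centralizer ({g} : Set G)).subgroupOf Y
  have hinj : Function.Injective
      (fun k : Fin q => (QuotientGroup.mk (⟨y ^ (k : ℕ), Subgroup.pow_mem _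
        (Subgroup.mem_zpowers y) _⟩ : Y) : Y ⧸ C)) := by
    intro k l hkl
    simp only at hkl
    rw [QuotientGroup.eq, Subgroup.mem_subgroupOf] at hkl
    have hkl' : (y ^ (k : ℕ))⁻¹ * y ^ (l : ℕ) ∈ Subgroup.centralizer ({g} : Set G) := by
      simpa using hkl
    have key : ∀ a b : ℕ, a ≤ b → (y ^ a)⁻¹ * y ^ b ∈ Subgroup.centralizer ({g} : Set G) →
        a < q → b < q → a = b := by
      intro a b hab hmem ha hb
      have h1 : (y ^ a)⁻¹ * y ^ b = y ^ (b - a) := by
        have : y ^ b = y ^ a * y ^ (b - a) := by rw [← pow_add]; congr 1; omega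
        rw [this]; group
      rw [h1, Subgroup.mem_centralizer_singleton_iff] at hmem
      have h2 : ⁅y ^ (b - a), g⁆ = 1 := by
        rw [commutatorElement_eq_one_iff_mul_comm]
        exact hmem
      have h3 := h _ h2
      have h4 : b - a < q := by omega
      have h5 : b - a = 0 := Nat.eq_zero_of_dvd_of_lt h3 h4
      omega
    rcases Nat.le_total (k : ℕ) (l : ℕ) with hle | hle
    · exact Fin.ext (key k l hle hkl' k.2 l.2)
    · have hkl'' : (y ^ (l : ℕ))⁻¹ * y ^ (k : ℕ) ∈ Subgroup.centralizer ({g} : Set G) := by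
        have := Subgroup.inv_mem _ hkl'
        simpa [mul_inv_rev] using this
      exact Fin.ext (key l k hle hkl'' l.2 k.2).symm
  have := Nat.card_le_card_of_injective _ hinj
  rw [Nat.card_eq_fintype_card, Fintype.card_fin] at this
  exact this

namespace CycDer

variable {p : ℕ} [hp : Fact p.Prime] {c : G} {n : ℕ}

/-- the subgroup of index `p ^ e` of the derived subgroup -/
def K (c : G) (p e : ℕ) : Subgroup G := Subgroup.zpowers (c ^ p ^ e)

omit hp in
theorem K_le (c : G) (p e : ℕ) : K c p e ≤ Subgroup.zpowers c :=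
  Subgroup.zpowers_le.mpr (Subgroup.pow_mem _ (Subgroup.mem_zpowers c) _)

theorem K_normal [Finite G] (h : CycDer p G c n) (e : ℕ) : (K c p e).Normal :=
  h.normal_of_le (K_le c p e)

theorem card_K [Finite G] (h : CycDer p G c n) {e : ℕ} (he : e ≤ n) :
    Nat.card (K c p e) = p ^ (n - e) := by
  unfold K
  rw [Nat.card_zpowers, orderOf_pow, h.order, Nat.gcd_eq_right (pow_dvd_pow p he),
    Nat.pow_div he hp.out.pos]

theorem K_eq_bot (h : CycDer p G c n) : K c p n = ⊥ := by
  unfold K
  rw [Subgroup.zpowers_eq_bot, ← h.order, pow_orderOf_eq_one]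

theorem mem_K_iff [Finite G] (h : CycDer p G c n) {e : ℕ} (he : e ≤ n) {w : G}
    (hw : w ∈ Subgroup.zpowers c) : w ∈ K c p e ↔ orderOf w ∣ p ^ (n - e) := by
  constructor
  · intro hwK
    have h1 : orderOf (⟨w, hwK⟩ : K c p e) ∣ Nat.card (K c p e) := orderOf_dvd_natCard _
    rw [h.card_K he, ← Subgroup.orderOf_coe] at h1
    exact h1
  · intro hord
    rw [← mem_powers_iff_mem_zpowers] at hw
    obtain ⟨k, rfl⟩ := (Submonoid.mem_powers_iff _ _).mp hw
    rw [orderOf_dvd_iff_pow_eq_one, ← pow_mul, ← orderOf_dvd_iff_pow_eq_one, h.order] at hord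
    -- `p^n ∣ k p^(n-e)`, hence `p^e ∣ k`
    have h2 : p ^ e ∣ k := by
      have h3 : p ^ (n - e) * p ^ e ∣ p ^ (n - e) * k := by
        rw [← pow_add, Nat.sub_add_cancel he, mul_comm]
        exact hord
      exact (Nat.mul_dvd_mul_iff_left (pow_pos hp.out.pos _)).mp h3
    obtain ⟨j, rfl⟩ := h2
    unfold K
    rw [pow_mul]
    exact Subgroup.pow_mem _ (Subgroup.mem_zpowers _) _

/-- class size criterion for the depth subgroups -/
theorem mem_cdep_iff_index [Finite G] (h : CycDer p G c n) {e : ℕ} (he : e ≤ n) (g : G) :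
    haveI := h.K_normal e
    g ∈ cdep (K c p e) ↔ (Subgroup.centralizer ({g} : Set G)).index ≤ p ^ (n - e) := by
  haveI := h.K_normal e
  constructor
  · intro hg
    rw [← h.card_K he]
    exact index_centralizer_le_of_mem_cdep hg
  · intro hidx
    rw [mem_cdep]
    intro y
    by_contra hy
    rw [h.mem_K_iff he (h.comm_mem g y)] at hy
    obtain ⟨f, hf⟩ := h.orderOf_comm g y
    have h1 : n - e < f := by
      by_contra hle
      push Not at hle
      exact hy (hf ▸ pow_dvd_pow p hle)
    have h2 : orderOf ⁅y, g⁆ = p ^ f := by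
      rw [← commutatorElement_inv g y, orderOf_inv, hf]
    have h3 := h.orderOf_comm_le_index g y
    rw [h2] at h3
    have h4 : p ^ (n - e) < p ^ f := Nat.pow_lt_pow_right hp.out.one_lt h1
    omega

theorem cdep_K_eq_center [Finite G] (h : CycDer p G c n) :
    haveI := h.K_normal n
    cdep (K c p n) = Subgroup.center G := by
  haveI := h.K_normal n
  ext g
  rw [mem_cdep, Subgroup.mem_center_iff]
  constructor
  · intro hg y
    have := hg y
    rw [h.K_eq_bot, Subgroup.mem_bot, commutatorElement_eq_one_iff_mul_comm] at this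
    exact this.symm
  · intro hg y
    rw [h.K_eq_bot, Subgroup.mem_bot, commutatorElement_eq_one_iff_mul_comm]
    exact (hg y).symm

/-- in a two-generator group the commutator of the generators generates the derived subgroup -/
theorem zpowers_comm_of_closure [Finite G] (h : CycDer p G c n) {x y : G}
    (hxy : Subgroup.closure {x, y} = ⊤) : Subgroup.zpowers ⁅x, y⁆ = Subgroup.zpowers c := by
  apply le_antisymm
  · exact Subgroup.zpowers_le.mpr (h.comm_mem x y)
  · haveI : (Subgroup.zpowers ⁅x, y⁆).Normal :=
      h.normal_of_le (Subgroup.zpowers_le.mpr (h.comm_mem x y))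
    rw [← h.comm]
    apply commutator_le_of_generators _ {x, y} hxy
    intro s hs t ht
    have hs' : s = x ∨ s = y := by simpa using hs
    have ht' : t = x ∨ t = y := by simpa using ht
    rcases hs' with hs' | hs' <;> rcases ht' with ht' | ht' <;> rw [hs', ht']
    · rw [commutatorElement_self x]; exact Subgroup.one_mem _
    · exact Subgroup.mem_zpowers _
    · rw [← commutatorElement_inv x y]
      exact Subgroup.inv_mem _ (Subgroup.mem_zpowers _)
    · rw [commutatorElement_self y]; exact Subgroup.one_mem _

theorem orderOf_comm_of_closure [Finite G] (h : CycDer p G c n) {x y : G}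
    (hxy : Subgroup.closure {x, y} = ⊤) : orderOf ⁅x, y⁆ = p ^ n := by
  rw [← Nat.card_zpowers, h.zpowers_comm_of_closure hxy, Nat.card_zpowers, h.order]

theorem index_centralizer_le [Finite G] (h : CycDer p G c n) (g : G) :
    (Subgroup.centralizer ({g} : Set G)).index ≤ p ^ n := by
  have := (h.mem_cdep_iff_index (Nat.zero_le n) g).mp (by
    haveI := h.K_normal 0
    rw [mem_cdep]
    intro y
    have : K c p 0 = Subgroup.zpowers c := by unfold K; rw [pow_zero, pow_one]
    rw [this]
    exact h.comm_mem g y)
  simpa using this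

/-- the index of the centre of a two-generator group -/
theorem index_center [Finite G] (h : CycDer p G c n) {x y : G}
    (hxy : Subgroup.closure {x, y} = ⊤) : (Subgroup.center G).index = p ^ (2 * n) := by
  set Cx := Subgroup.centralizer ({x} : Set G)
  set Cy := Subgroup.centralizer ({y} : Set G)
  have hZ : Subgroup.center G = Cy ⊓ Cx := by
    apply le_antisymm
    · intro g hg
      rw [Subgroup.mem_center_iff] at hg
      refine Subgroup.mem_inf.mpr ⟨?_, ?_⟩
      · rw [Subgroup.mem_centralizer_singleton_iff]; exact (hg y).symm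
      · rw [Subgroup.mem_centralizer_singleton_iff]; exact (hg x).symm
    · intro g hg
      obtain ⟨hgy, hgx⟩ := Subgroup.mem_inf.mp hg
      rw [Subgroup.mem_centralizer_singleton_iff] at hgy hgx
      rw [Subgroup.mem_center_iff]
      have hle : Subgroup.closure {x, y} ≤ Subgroup.centralizer ({g} : Set G) := by
        rw [Subgroup.closure_le]
        intro s hs
        rcases hs with rfl | hs
        · rw [SetLike.mem_coe, Subgroup.mem_centralizer_singleton_iff]; exact hgx.symm
        · rw [Set.mem_singleton_iff] at hs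
          rw [hs, SetLike.mem_coe, Subgroup.mem_centralizer_singleton_iff]; exact hgy.symm
      intro z
      have hz : z ∈ Subgroup.centralizer ({g} : Set G) := hle (hxy ▸ Subgroup.mem_top z)
      rw [Subgroup.mem_centralizer_singleton_iff] at hz
      exact hz
  have hord : orderOf ⁅x, y⁆ = p ^ n := h.orderOf_comm_of_closure hxy
  have hord' : orderOf ⁅y, x⁆ = p ^ n := by
    rw [← commutatorElement_inv x y, orderOf_inv, hord]
  have hCx : Cx.index = p ^ n := by
    apply le_antisymm (h.index_centralizer_le x)
    rw [← hord']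
    exact h.orderOf_comm_le_index x y
  have hrel : Cy.relIndex Cx = p ^ n := by
    apply le_antisymm
    · exact (relIndex_le_index' Cy Cx).trans (h.index_centralizer_le y)
    · have h1 : p ^ n ≤ Cy.relIndex (Subgroup.zpowers x) := by
        rw [← hord]
        exact le_relIndex_centralizer y x _ fun k hk => (h.comm_pow_left_eq_one_iff x y k).mp hk
      have hxCx : Subgroup.zpowers x ≤ Cx := by
        rw [Subgroup.zpowers_le, Subgroup.mem_centralizer_singleton_iff]
      have h2 : Cy.relIndex Cx ≠ 0 := by
        unfold Subgroup.relIndex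
        exact Subgroup.index_ne_zero_of_finite
      exact h1.trans (Subgroup.relIndex_le_of_le_right hxCx h2)
  rw [hZ, ← Subgroup.relIndex_mul_index (inf_le_right : Cy ⊓ Cx ≤ Cx), Subgroup.inf_relIndex_right,
    hrel, hCx, ← pow_add]
  congr 1
  ring

end CycDer

end Cfsg.Agent.Lib.Helper7.Meta
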