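import Mathlib
import Cfsg.Agent.Lib.Helper7.Meta3
import Cfsg.Prelude.Def_OddOrderLocal

set_option autoImplicit false

/-!
# Metacyclic `p`-groups: explicit data
-/

namespace Cfsg.Agent.Lib.Helper7.Meta

open scoped commutatorElement

variable {G : Type*} [Group G]

theorem comm_of_isCyclic {H : Type*} [Group H] (h : IsCyclic H) : IsMulCommutative H := by
  obtain ⟨x, hx⟩ := h.exists_generator
  refine ⟨⟨fun a b => ?_⟩⟩
  obtain ⟨i, rfl⟩ := Subgroup.mem_zpowers_iff.mp (hx a)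
  obtain ⟨j, rfl⟩ := Subgroup.mem_zpowers_iff.mp (hx b)
  rw [← zpow_add, ← zpow_add, add_comm]

/-- a subgroup of a cyclic subgroup is generated by one element -/
theorem exists_zpowers_eq_of_le {H N : Subgroup G} (hN : IsCyclic N) (hHN : H ≤ N) :
    ∃ c : G, H = Subgroup.zpowers c := by
  haveI := hN
  haveI : IsCyclic (H.subgroupOf N) := Subgroup.isCyclic _
  haveI : IsCyclic H :=
    isCyclic_of_surjective (Subgroup.subgroupOfEquivOfLe hHN) (Subgroup.subgroupOfEquivOfLe hHN).surjective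
  obtain ⟨g, hg⟩ := IsCyclic.exists_generator (α := H)
  refine ⟨(g : G), ?_⟩
  apply le_antisymm
  · intro x hx
    obtain ⟨k, hk⟩ := Subgroup.mem_zpowers_iff.mp (hg ⟨x, hx⟩)
    have := congrArg Subtype.val hk
    simp only [Subgroup.coe_zpow] at this
    rw [← this]
    exact Subgroup.zpow_mem_zpowers _ k
  · exact Subgroup.zpowers_le.mpr g.2

/-- explicit data of a metacyclic `p`-group (`p` odd) -/
structure MCData (p : ℕ) (G : Type*) [Group G] (a b c : G) (n : ℕ) : Prop where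
  cd : CycDer p G c n
  gen : Subgroup.closure {a, b} = ⊤
  normal : (Subgroup.zpowers a).Normal
  rep : ∀ g : G, ∃ i j : ℕ, g = a ^ i * b ^ j
  c_mem : c ∈ Subgroup.zpowers a

theorem exists_mcData [Finite G] {p : ℕ} [hp : Fact p.Prime] (hp2 : p ≠ 2) (hG : IsPGroup p G)
    (hmc : Cfsg.IsMetacyclic G) : ∃ (a b c : G) (n : ℕ), MCData p G a b c n := by
  obtain ⟨N, hNn, hNc, hQc⟩ := hmc
  haveI := hNn
  obtain ⟨a, hNa⟩ := exists_zpowers_eq_of_le hNc (le_refl N)
  haveI := hQc
  obtain ⟨bq, hbq⟩ := IsCyclic.exists_monoid_generator (α := G ⧸ N)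
  obtain ⟨b, rfl⟩ := QuotientGroup.mk_surjective bq
  have hrep : ∀ g : G, ∃ i j : ℕ, g = a ^ i * b ^ j := by
    intro g
    obtain ⟨j, hj⟩ := (Submonoid.mem_powers_iff _ _).mp (hbq (QuotientGroup.mk g))
    have h1 : g * (b ^ j)⁻¹ ∈ N := by
      rw [← QuotientGroup.eq_one_iff, QuotientGroup.mk_mul, QuotientGroup.mk_inv,
        QuotientGroup.mk_pow, hj, mul_inv_cancel]
    rw [hNa, ← mem_powers_iff_mem_zpowers] at h1
    obtain ⟨i, hi⟩ := (Submonoid.mem_powers_iff _ _).mp h1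
    refine ⟨i, j, ?_⟩
    rw [hi, inv_mul_cancel_right]
  have hgen : Subgroup.closure {a, b} = ⊤ := by
    rw [eq_top_iff]
    intro g _
    obtain ⟨i, j, rfl⟩ := hrep g
    have ha : a ∈ Subgroup.closure ({a, b} : Set G) :=
      Subgroup.subset_closure (Set.mem_insert a {b})
    have hb : b ∈ Subgroup.closure ({a, b} : Set G) :=
      Subgroup.subset_closure (Set.mem_insert_of_mem a (Set.mem_singleton b))
    exact Subgroup.mul_mem _ (Subgroup.pow_mem _ ha _) (Subgroup.pow_mem _ hb _)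
  have hcomm : commutator G ≤ N := by
    rw [← Subgroup.Normal.quotient_commutative_iff_commutator_le]
    exact comm_of_isCyclic hQc
  obtain ⟨c, hc⟩ := exists_zpowers_eq_of_le hNc hcomm
  obtain ⟨n, hn⟩ := IsPGroup.iff_orderOf.mp hG c
  refine ⟨a, b, c, n, ⟨hp2, hG, hc, hn⟩, hgen, hNa ▸ hNn, hrep, ?_⟩
  rw [← hNa]
  exact hcomm (hc ▸ Subgroup.mem_zpowers c)

/-- the order of the derived subgroup -/
theorem CycDer.card_commutator {p : ℕ} {c : G} {n : ℕ} (h : CycDer p G c n) :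
    Nat.card (commutator G) = p ^ n := by
  rw [h.comm, Nat.card_zpowers, h.order]

end Cfsg.Agent.Lib.Helper7.Meta
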