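import Mathlib
import Cfsg.Agent.Lib.Helper7.Meta4

set_option autoImplicit false

/-!
# Quotients by subgroups of the derived subgroup; power subgroups
-/

namespace Cfsg.Agent.Lib.Helper7.Meta

open scoped commutatorElement

variable {G : Type*} [Group G]

namespace CycDer

variable {p : ℕ} [hp : Fact p.Prime] {c : G} {n : ℕ}

/-- the quotient by the subgroup of index `p^e` of the derived subgroup -/
theorem quotient [Finite G] (h : CycDer p G c n) {e : ℕ} (he : e ≤ n) :
    haveI := h.K_normal e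
    CycDer p (G ⧸ K c p e) (QuotientGroup.mk c : G ⧸ K c p e) e := by
  haveI := h.K_normal e
  refine ⟨h.odd, h.pgroup.to_quotient _, ?_, ?_⟩
  · have h1 : commutator (G ⧸ K c p e) = (commutator G).map (QuotientGroup.mk' (K c p e)) := by
      rw [commutator_def, commutator_def, Subgroup.map_commutator,
        Subgroup.map_top_of_surjective _ (QuotientGroup.mk'_surjective _)]
    rw [h1, h.comm, MonoidHom.map_zpowers]
    rfl
  · have hmk : ∀ k : ℕ, (QuotientGroup.mk c : G ⧸ K c p e) ^ k = 1 ↔ c ^ k ∈ K c p e := by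
      intro k
      rw [← QuotientGroup.mk_pow, QuotientGroup.eq_one_iff]
    rcases Nat.eq_zero_or_pos e with he0 | he0
    · subst he0
      rw [pow_zero, orderOf_eq_one_iff, QuotientGroup.eq_one_iff]
      unfold K
      rw [pow_zero, pow_one]
      exact Subgroup.mem_zpowers c
    · obtain ⟨e', rfl⟩ : ∃ e', e = e' + 1 := ⟨e - 1, by omega⟩
      apply orderOf_eq_prime_pow
      · rw [hmk, h.mem_K_iff he (Subgroup.pow_mem _ (Subgroup.mem_zpowers c) _), orderOf_pow,
          h.order, Nat.gcd_eq_right (pow_dvd_pow p (by omega : e' ≤ n)),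
          Nat.pow_div (by omega) hp.out.pos, Nat.pow_dvd_pow_iff_le_right hp.out.one_lt]
        omega
      · rw [hmk]
        exact Subgroup.mem_zpowers _

/-- the index of the depth subgroups in a two-generator group -/
theorem index_cdep [Finite G] (h : CycDer p G c n) {x y : G}
    (hxy : Subgroup.closure {x, y} = ⊤) {e : ℕ} (he : e ≤ n) :
    haveI := h.K_normal e
    (cdep (K c p e)).index = p ^ (2 * e) := by
  haveI := h.K_normal e
  unfold cdep
  rw [Subgroup.index_comap_of_surjective _ (QuotientGroup.mk'_surjective _)]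
  apply (h.quotient he).index_center (x := QuotientGroup.mk x) (y := QuotientGroup.mk y)
  have h1 := MonoidHom.map_closure (QuotientGroup.mk' (K c p e)) {x, y}
  rw [hxy, Subgroup.map_top_of_surjective _ (QuotientGroup.mk'_surjective _), Set.image_pair] at h1
  exact h1.symm

end CycDer

/-- the subgroup generated by the `k`-th powers -/
def agemo (G : Type*) [Group G] (k : ℕ) : Subgroup G :=
  Subgroup.closure {x : G | ∃ y : G, y ^ k = x}

instance agemo_normal (k : ℕ) : (agemo G k).Normal := by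
  constructor
  intro x hx g
  have h1 : (agemo G k).map (MulAut.conj g).toMonoidHom ≤ agemo G k := by
    unfold agemo
    rw [MonoidHom.map_closure, Subgroup.closure_le]
    rintro _ ⟨z, ⟨y, rfl⟩, rfl⟩
    apply Subgroup.subset_closure
    refine ⟨g * y * g⁻¹, ?_⟩
    simp [conj_pow]
  apply h1
  exact ⟨x, hx, by simp⟩

theorem pow_mem_agemo (k : ℕ) (y : G) : y ^ k ∈ agemo G k :=
  Subgroup.subset_closure ⟨y, rfl⟩

/-- the power subgroups of a metacyclic group have small index -/
theorem index_agemo_le [Finite G] {a b : G} (hrep : ∀ g : G, ∃ i j : ℕ, g = a ^ i * b ^ j)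
    (q : ℕ) (hq : 0 < q) : (agemo G q).index ≤ q * q := by
  have hsurj : Function.Surjective
      (fun ij : Fin q × Fin q => (QuotientGroup.mk (a ^ (ij.1 : ℕ) * b ^ (ij.2 : ℕ)) : G ⧸ agemo G q)) := by
    intro x
    obtain ⟨g, rfl⟩ := QuotientGroup.mk_surjective x
    obtain ⟨i, j, rfl⟩ := hrep g
    refine ⟨(⟨i % q, Nat.mod_lt _ hq⟩, ⟨j % q, Nat.mod_lt _ hq⟩), ?_⟩
    simp only
    have ha : (QuotientGroup.mk a : G ⧸ agemo G q) ^ q = 1 := by
      rw [← QuotientGroup.mk_pow, QuotientGroup.eq_one_iff]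
      exact pow_mem_agemo q a
    have hb : (QuotientGroup.mk b : G ⧸ agemo G q) ^ q = 1 := by
      rw [← QuotientGroup.mk_pow, QuotientGroup.eq_one_iff]
      exact pow_mem_agemo q b
    rw [QuotientGroup.mk_mul, QuotientGroup.mk_mul, QuotientGroup.mk_pow, QuotientGroup.mk_pow,
      QuotientGroup.mk_pow, QuotientGroup.mk_pow, ← pow_eq_pow_mod i ha, ← pow_eq_pow_mod j hb]
  have := Nat.card_le_card_of_surjective _ hsurj
  rw [Nat.card_prod, Nat.card_fin] at this
  exact this

namespace CycDer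

variable {p : ℕ} [hp : Fact p.Prime] {c : G} {n : ℕ}

theorem agemo_le_cdep [Finite G] (h : CycDer p G c n) (s : ℕ) :
    haveI := h.K_normal s
    agemo G (p ^ s) ≤ cdep (K c p s) := by
  haveI := h.K_normal s
  unfold agemo
  rw [Subgroup.closure_le]
  rintro _ ⟨y, rfl⟩
  rw [SetLike.mem_coe, mem_cdep]
  intro z
  obtain ⟨σ, hσ1, hσ⟩ := h.comm_pow_left y z
  rw [hσ]
  obtain ⟨j, hj⟩ := (pow_dvd_gs_iff h.odd hσ1 s (p ^ s)).mpr dvd_rfl
  have hw := h.comm_mem y z
  rw [← mem_powers_iff_mem_zpowers] at hw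
  obtain ⟨k, hk⟩ := (Submonoid.mem_powers_iff _ _).mp hw
  rw [hj, ← hk, ← pow_mul, mul_comm k, mul_assoc, pow_mul]
  exact Subgroup.pow_mem _ (Subgroup.mem_zpowers _) _

end CycDer

/-- the power subgroups are the depth subgroups -/
theorem MCData.agemo_eq_cdep [Finite G] {p : ℕ} [hp : Fact p.Prime] {a b c : G} {n : ℕ}
    (hd : MCData p G a b c n) {s : ℕ} (hs : s ≤ n) :
    haveI := hd.cd.K_normal s
    agemo G (p ^ s) = cdep (CycDer.K c p s) := by
  haveI := hd.cd.K_normal s
  have hle := hd.cd.agemo_le_cdep s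
  have h1 := index_agemo_le hd.rep (p ^ s) (pow_pos hp.out.pos s)
  have h2 := hd.cd.index_cdep hd.gen hs
  have h3 := Subgroup.relIndex_mul_index hle
  have h4 : (agemo G (p ^ s)).relIndex (cdep (CycDer.K c p s)) = 1 := by
    have hpos : 0 < p ^ (2 * s) := pow_pos hp.out.pos _
    have h5 : p ^ s * p ^ s = p ^ (2 * s) := by rw [← pow_add]; congr 1; omega
    rw [h2] at h3
    have h6 : (agemo G (p ^ s)).relIndex (cdep (CycDer.K c p s)) * p ^ (2 * s) ≤ p ^ (2 * s) := by
      rw [h3, ← h5]; exact h1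
    have h7 : (agemo G (p ^ s)).relIndex (cdep (CycDer.K c p s)) ≠ 0 := by
      unfold Subgroup.relIndex
      exact Subgroup.index_ne_zero_of_finite
    have h8 : (agemo G (p ^ s)).relIndex (cdep (CycDer.K c p s)) ≤ 1 :=
      Nat.le_of_mul_le_mul_right (by rwa [one_mul]) hpos
    omega
  exact le_antisymm hle (Subgroup.relIndex_eq_one.mp h4)

end Cfsg.Agent.Lib.Helper7.Meta
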