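import Mathlib
import Cfsg.Agent.Lib.Helper7.Meta5
import Cfsg.Prelude.Def_BaumannBlocks

set_option autoImplicit false

/-!
# The measure `|X| * |C(X)|` in a `p`-group with cyclic derived subgroup (`p` odd)
-/

namespace Cfsg.Agent.Lib.Helper7.Meta

open scoped commutatorElement

variable {G : Type*} [Group G]

theorem card_eq_relIndex_mul [Finite G] {H K : Subgroup G} (h : H ≤ K) :
    Nat.card K = H.relIndex K * Nat.card H := by
  have h1 := Subgroup.card_mul_index (H.subgroupOf K)
  have h2 : Nat.card (H.subgroupOf K) = Nat.card H :=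
    Nat.card_congr (Subgroup.subgroupOfEquivOfLe h).toEquiv
  rw [h2] at h1
  unfold Subgroup.relIndex
  rw [← h1, mul_comm]

/-- in a `p`-group, between `X < Y` there is a subgroup in which `X` has index `p` -/
theorem exists_relIndex_eq_prime [Finite G] {p : ℕ} [hp : Fact p.Prime] (hG : IsPGroup p G)
    {X Y : Subgroup G} (hXY : X < Y) :
    ∃ X₁ : Subgroup G, X ≤ X₁ ∧ X₁ ≤ Y ∧ X.relIndex X₁ = p := by
  have hYp : IsPGroup p Y := hG.to_subgroup Y
  obtain ⟨l, hl⟩ := IsPGroup.iff_card.mp hYp
  have hHp : IsPGroup p (X.subgroupOf Y) := hYp.to_subgroup _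
  obtain ⟨k, hk⟩ := IsPGroup.iff_card.mp hHp
  have hXcard : Nat.card (X.subgroupOf Y) = Nat.card X :=
    Nat.card_congr (Subgroup.subgroupOfEquivOfLe hXY.le).toEquiv
  have hkl : k < l := by
    by_contra hle
    push Not at hle
    have h1 : Nat.card Y ≤ Nat.card X := by
      rw [← hXcard, hk, hl]
      exact Nat.pow_le_pow_right hp.out.pos hle
    have h2 : X = Y := by
      apply Subgroup.eq_of_le_of_card_ge hXY.le h1
    exact hXY.ne h2
  have hdvd : p ^ (k + 1) ∣ Nat.card Y := by
    rw [hl]
    exact pow_dvd_pow p hkl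
  obtain ⟨K', hK', hle⟩ := Sylow.exists_subgroup_card_pow_succ hdvd hk
  refine ⟨K'.map Y.subtype, ?_, ?_, ?_⟩
  · intro x hx
    refine ⟨⟨x, hXY.le hx⟩, hle ?_, rfl⟩
    rw [Subgroup.mem_subgroupOf]
    exact hx
  · rintro _ ⟨y, -, rfl⟩
    exact y.2
  · have hX1 : X ≤ K'.map Y.subtype := by
      intro x hx
      refine ⟨⟨x, hXY.le hx⟩, hle ?_, rfl⟩
      rw [Subgroup.mem_subgroupOf]
      exact hx
    have h1 := card_eq_relIndex_mul hX1
    have h2 : Nat.card (K'.map Y.subtype) = p ^ (k + 1) := by
      rw [Subgroup.card_map_of_injective Y.subtype_injective, hK']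
    rw [h2, ← hXcard, hk, pow_succ, mul_comm] at h1
    exact (Nat.eq_of_mul_eq_mul_right (pow_pos hp.out.pos k) h1).symm

namespace CycDer

variable {p : ℕ} [hp : Fact p.Prime] {c : G} {n : ℕ}

/-- adjoining one step of index `p` shrinks the centralizer by a factor at most `p` -/
theorem card_centralizer_le_mul [Finite G] (h : CycDer p G c n) {X X₁ : Subgroup G}
    (hle : X ≤ X₁) (hidx : X.relIndex X₁ = p) :
    Nat.card (Subgroup.centralizer (X : Set G)) ≤
      p * Nat.card (Subgroup.centralizer (X₁ : Set G)) := by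
  have hpp : p.Prime := hp.out
  -- an element outside `X`
  obtain ⟨x, hx1, hxX⟩ : ∃ x ∈ X₁, x ∉ X := by
    by_contra hcon
    push Not at hcon
    have : X₁ ≤ X := hcon
    have h1 := Subgroup.relIndex_eq_one.mpr this
    rw [hidx] at h1
    exact hpp.one_lt.ne' h1
  -- `X` is normal in `X₁`
  have hX1p : IsPGroup p X₁ := h.pgroup.to_subgroup X₁
  have hnorm : (X.subgroupOf X₁).Normal := by
    apply Subgroup.normal_of_index_eq_minFac_card
    change X.relIndex X₁ = _
    rw [hidx]
    obtain ⟨l, hl⟩ := IsPGroup.iff_card.mp hX1p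
    rw [hl]
    have hl0 : l ≠ 0 := by
      rintro rfl
      rw [pow_zero] at hl
      have h1 := card_eq_relIndex_mul hle
      rw [hl, hidx] at h1
      have : p ∣ 1 := Dvd.intro _ h1.symm
      exact hpp.one_lt.ne' (Nat.dvd_one.mp this)
    exact (hpp.pow_minFac hl0).symm
  -- `x ^ p ∈ X`
  have hxp : x ^ p ∈ X := by
    have h1 : ((QuotientGroup.mk (⟨x, hx1⟩ : X₁) : X₁ ⧸ X.subgroupOf X₁)) ^ p = 1 := by
      have h2 : Nat.card (X₁ ⧸ X.subgroupOf X₁) = p := by
        rw [← Subgroup.index_eq_card]; exact hidx
      rw [← h2]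
      exact pow_card_eq_one'
    rw [← QuotientGroup.mk_pow, QuotientGroup.eq_one_iff, Subgroup.mem_subgroupOf] at h1
    simpa using h1
  -- `X₁` is generated by `X` and `x`
  have hgen : X₁ ≤ X ⊔ Subgroup.zpowers x := by
    set T := X ⊔ Subgroup.zpowers x with hT
    have hXT : X ≤ T := le_sup_left
    have hTX1 : T ≤ X₁ := sup_le hle (Subgroup.zpowers_le.mpr hx1)
    have h1 := Subgroup.relIndex_mul_relIndex X T X₁ hXT hTX1
    rw [hidx] at h1
    have h2 : X.relIndex T ≠ 1 := by
      intro h3
      have h4 : T ≤ X := Subgroup.relIndex_eq_one.mp h3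
      exact hxX (h4 (Subgroup.mem_sup_right (Subgroup.mem_zpowers x)))
    have h3 : X.relIndex T = p := by
      rcases (Nat.dvd_prime hpp).mp (Dvd.intro _ h1) with h4 | h4
      · exact absurd h4 h2
      · exact h4
    rw [h3] at h1
    have h4 : T.relIndex X₁ = 1 := by
      have : p * T.relIndex X₁ = p * 1 := by rw [h1, mul_one]
      exact Nat.eq_of_mul_eq_mul_left hpp.pos this
    exact Subgroup.relIndex_eq_one.mp h4
  set CX := Subgroup.centralizer (X : Set G) with hCX
  set CX1 := Subgroup.centralizer (X₁ : Set G) with hCX1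
  have hCle : CX1 ≤ CX := Subgroup.centralizer_le hle
  -- elements of `C(X)` commuting with `x` centralize `X₁`
  have hmemC : ∀ y ∈ CX, y * x = x * y → y ∈ CX1 := by
    intro y hy hyx
    have h1 : X ⊔ Subgroup.zpowers x ≤ Subgroup.centralizer ({y} : Set G) := by
      apply sup_le
      · intro u hu
        rw [Subgroup.mem_centralizer_singleton_iff]
        exact hy u hu
      · rw [Subgroup.zpowers_le, Subgroup.mem_centralizer_singleton_iff]
        exact hyx.symm
    intro u hu
    have := h1 (hgen hu)
    rw [Subgroup.mem_centralizer_singleton_iff] at this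
    exact this
  -- the relative index is at most `p`
  have hrel : CX1.relIndex CX ≤ p := by
    classical
    letI : Fintype (Subgroup.zpowers c) := Fintype.ofFinite _
    have hcyc : IsCyclic (Subgroup.zpowers c) := inferInstance
    have hcount := IsCyclic.card_pow_eq_one_le (α := Subgroup.zpowers c) hpp.pos
    have hcard2 : Nat.card {a : Subgroup.zpowers c // a ^ p = 1} ≤ p := by
      rw [Nat.card_eq_fintype_card, Fintype.card_subtype]
      exact hcount
    have hval : ∀ y : CX, (⟨⁅x, (y : G)⁆, h.comm_mem x y⟩ : Subgroup.zpowers c) ^ p = 1 := by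
      intro y
      apply Subtype.ext
      rw [Subgroup.coe_pow, Subgroup.coe_one]
      change ⁅x, (y : G)⁆ ^ p = 1
      rw [← orderOf_dvd_iff_pow_eq_one, ← h.comm_pow_left_eq_one_iff x y p,
        commutatorElement_eq_one_iff_mul_comm]
      exact (y.2 _ hxp)
    let g : CX ⧸ CX1.subgroupOf CX → {a : Subgroup.zpowers c // a ^ p = 1} :=
      fun q => ⟨⟨⁅x, ((Quotient.out q : CX) : G)⁆, h.comm_mem x _⟩, hval _⟩
    have hinj : Function.Injective g := by
      intro q q' hqq
      have h1 : ⁅x, ((Quotient.out q : CX) : G)⁆ = ⁅x, ((Quotient.out q' : CX) : G)⁆ := by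
        have := congrArg (fun a => ((a : Subgroup.zpowers c) : G)) (congrArg Subtype.val hqq)
        exact this
      set y := (Quotient.out q : CX) with hy
      set y' := (Quotient.out q' : CX) with hy'
      have h2 : ((y⁻¹ * y' : CX) : G) * x = x * ((y⁻¹ * y' : CX) : G) := by
        rw [commutatorElement_def, commutatorElement_def] at h1
        have h3 : (y : G) * x⁻¹ * (y : G)⁻¹ = (y' : G) * x⁻¹ * (y' : G)⁻¹ := by
          have := congrArg (fun t => x⁻¹ * t) h1
          simpa [mul_assoc] using this
        have h4 : ((y : G)⁻¹ * (y' : G)) * x⁻¹ = x⁻¹ * ((y : G)⁻¹ * (y' : G)) := by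
          have := congrArg (fun t => (y : G)⁻¹ * t * (y' : G)) h3
          simp only [mul_assoc, inv_mul_cancel_left, inv_mul_cancel, mul_one] at this
          rw [mul_assoc, ← this]
        have h5 : x * ((y : G)⁻¹ * (y' : G)) = ((y : G)⁻¹ * (y' : G)) * x := by
          have := congrArg (fun t => x * t * x) h4
          simp only [mul_assoc, inv_mul_cancel, mul_one, mul_inv_cancel_left] at this
          rw [mul_assoc]
          exact this
        rw [Subgroup.coe_mul, Subgroup.coe_inv]
        exact h5.symm
      have h3 : (QuotientGroup.mk y : CX ⧸ CX1.subgroupOf CX) = QuotientGroup.mk y' := by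
        rw [QuotientGroup.eq, Subgroup.mem_subgroupOf]
        exact hmemC _ (y⁻¹ * y').2 h2
      have h4 : (QuotientGroup.mk y : CX ⧸ CX1.subgroupOf CX) = q := Quotient.out_eq q
      have h5 : (QuotientGroup.mk y' : CX ⧸ CX1.subgroupOf CX) = q' := Quotient.out_eq q'
      rw [← h4, ← h5, h3]
    have := Nat.card_le_card_of_injective g hinj
    unfold Subgroup.relIndex
    rw [Subgroup.index_eq_card]
    exact this.trans hcard2
  rw [card_eq_relIndex_mul hCle]
  exact Nat.mul_le_mul_right _ hrel

/-- the measure `|X| * |C(X)|` is monotone -/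
theorem measure_mono [Finite G] (h : CycDer p G c n) {X Y : Subgroup G} (hXY : X ≤ Y) :
    Nat.card X * Nat.card (Subgroup.centralizer (X : Set G)) ≤
      Nat.card Y * Nat.card (Subgroup.centralizer (Y : Set G)) := by
  induction X using WellFoundedGT.induction with
  | ind X ih =>
    rcases eq_or_lt_of_le hXY with heq | hlt
    · rw [heq]
    · obtain ⟨X₁, hXX₁, hX₁Y, hidx⟩ := exists_relIndex_eq_prime h.pgroup hlt
      have hlt1 : X < X₁ := by
        refine lt_of_le_of_ne hXX₁ ?_
        intro heq
        rw [← heq, Subgroup.relIndex_self] at hidx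
        exact hp.out.one_lt.ne hidx
      have h1 := ih X₁ hlt1 hX₁Y
      have h2 := h.card_centralizer_le_mul hXX₁ hidx
      have h3 := card_eq_relIndex_mul hXX₁
      rw [hidx] at h3
      calc Nat.card X * Nat.card (Subgroup.centralizer (X : Set G))
          ≤ Nat.card X * (p * Nat.card (Subgroup.centralizer (X₁ : Set G))) :=
            Nat.mul_le_mul_left _ h2
        _ = Nat.card X₁ * Nat.card (Subgroup.centralizer (X₁ : Set G)) := by
            rw [h3]; ring
        _ ≤ _ := h1

theorem measure_le [Finite G] (h : CycDer p G c n) (X : Subgroup G) :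
    Nat.card X * Nat.card (Subgroup.centralizer (X : Set G)) ≤
      Nat.card G * Nat.card (Subgroup.center G) := by
  have := h.measure_mono (le_top : X ≤ ⊤)
  rw [Subgroup.card_top, Subgroup.coe_top, Subgroup.centralizer_univ] at this
  exact this

theorem measure_eq_of_center_le [Finite G] (h : CycDer p G c n) {R : Subgroup G}
    (hR : Subgroup.center G ≤ R) :
    Nat.card R * Nat.card (Subgroup.centralizer (R : Set G)) =
      Nat.card G * Nat.card (Subgroup.center G) := by
  apply le_antisymm (h.measure_le R)
  have := h.measure_mono hR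
  have h2 : Subgroup.centralizer ((Subgroup.center G : Subgroup G) : Set G) = ⊤ := by
    rw [Subgroup.centralizer_eq_top_iff_subset]
  rw [h2, Subgroup.card_top, mul_comm] at this
  exact this

theorem center_le_of_measure_eq [Finite G] (h : CycDer p G c n) {R : Subgroup G}
    (hR : Nat.card R * Nat.card (Subgroup.centralizer (R : Set G)) =
      Nat.card G * Nat.card (Subgroup.center G)) : Subgroup.center G ≤ R := by
  set T := R ⊔ Subgroup.center G with hT
  have hC : Subgroup.centralizer (T : Set G) = Subgroup.centralizer (R : Set G) := by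
    apply le_antisymm
    · exact Subgroup.centralizer_le (show (R : Set G) ⊆ (T : Set G) from
        (le_sup_left : R ≤ T))
    · intro y hy
      have h1 : T ≤ Subgroup.centralizer ({y} : Set G) := by
        apply sup_le
        · intro u hu
          rw [Subgroup.mem_centralizer_singleton_iff]
          exact hy u hu
        · intro u hu
          rw [Subgroup.mem_centralizer_singleton_iff]
          exact (Subgroup.mem_center_iff.mp hu y).symm
      intro u hu
      have := h1 hu
      rw [Subgroup.mem_centralizer_singleton_iff] at this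
      exact this
  have h1 := h.measure_le T
  rw [hC, ← hR] at h1
  have hpos : 0 < Nat.card (Subgroup.centralizer (R : Set G)) := Nat.card_pos
  have h2 : Nat.card T ≤ Nat.card R := Nat.le_of_mul_le_mul_right h1 hpos
  have h3 : R = T := Subgroup.eq_of_le_of_card_ge le_sup_left h2
  rw [h3]
  exact le_sup_right

theorem maxCentralizerProduct_eq [Finite G] (h : CycDer p G c n) :
    Cfsg.maxCentralizerProduct G = Nat.card G * Nat.card (Subgroup.center G) := by
  unfold Cfsg.maxCentralizerProduct
  apply le_antisymm
  · apply csSup_le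
    · exact ⟨_, ⊥, rfl⟩
    · rintro k ⟨R, rfl⟩
      exact h.measure_le R
  · apply le_csSup
    · refine ⟨Nat.card G * Nat.card (Subgroup.center G), ?_⟩
      rintro k ⟨R, rfl⟩
      exact h.measure_le R
    · exact ⟨⊤, h.measure_eq_of_center_le le_top⟩

theorem isCentralizerLarge_iff [Finite G] (h : CycDer p G c n) (R : Subgroup G) :
    Cfsg.IsCentralizerLarge R ↔ Subgroup.center G ≤ R := by
  unfold Cfsg.IsCentralizerLarge
  rw [h.maxCentralizerProduct_eq]
  exact ⟨h.center_le_of_measure_eq, h.measure_eq_of_center_le⟩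

end CycDer

end Cfsg.Agent.Lib.Helper7.Meta
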