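import Mathlib
import Cfsg.Agent.Lib.Helper7.Meta6

set_option autoImplicit false

/-!
# Subgroups of metacyclic `p`-groups; maximal subgroups
-/

namespace Cfsg.Agent.Lib.Helper7.Meta

open scoped commutatorElement

universe u

/-- subgroups of metacyclic groups are metacyclic -/
theorem isMetacyclic_subgroup {G : Type u} [Group G] (hmc : Cfsg.IsMetacyclic G)
    (R : Subgroup G) : Cfsg.IsMetacyclic ↥R := by
  obtain ⟨N, hNn, hNc, hQc⟩ := hmc
  haveI := hNn
  haveI := hNc
  haveI := hQc
  refine ⟨N.subgroupOf R, inferInstance, ?_, ?_⟩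
  · let f : N.subgroupOf R →* N :=
      { toFun := fun x => ⟨x.1.1, Subgroup.mem_subgroupOf.mp x.2⟩
        map_one' := rfl
        map_mul' := fun _ _ => rfl }
    apply isCyclic_of_injective f
    intro x y hxy
    apply Subtype.ext
    apply Subtype.ext
    exact congrArg (fun t : N => (t : G)) hxy
  · let φ : R ⧸ N.subgroupOf R →* G ⧸ N :=
      QuotientGroup.map (N.subgroupOf R) N R.subtype (fun x hx => hx)
    apply isCyclic_of_injective φ
    rw [injective_iff_map_eq_one]
    intro q hq
    obtain ⟨x, rfl⟩ := QuotientGroup.mk_surjective q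
    have h1 : φ (QuotientGroup.mk x) = QuotientGroup.mk (x : G) := rfl
    rw [h1, QuotientGroup.eq_one_iff] at hq
    rw [QuotientGroup.eq_one_iff, Subgroup.mem_subgroupOf]
    exact hq

variable {G : Type*} [Group G]

/-- in a `p`-group every proper subgroup lies in a subgroup of index `p` -/
theorem exists_index_eq_prime_of_ne_top [Finite G] {p : ℕ} [hp : Fact p.Prime]
    (hG : IsPGroup p G) {X : Subgroup G} (hX : X ≠ ⊤) :
    ∃ M : Subgroup G, X ≤ M ∧ M.index = p := by
  induction X using WellFoundedGT.induction with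
  | ind X ih =>
    obtain ⟨X₁, hXX₁, -, hidx⟩ := exists_relIndex_eq_prime hG (lt_top_iff_ne_top.mpr hX)
    by_cases hX₁ : X₁ = ⊤
    · refine ⟨X, le_rfl, ?_⟩
      rw [hX₁, Subgroup.relIndex_top_right] at hidx
      exact hidx
    · have hlt1 : X < X₁ := by
        refine lt_of_le_of_ne hXX₁ ?_
        intro heq
        rw [← heq, Subgroup.relIndex_self] at hidx
        exact hp.out.one_lt.ne hidx
      obtain ⟨M, hM1, hM2⟩ := ih X₁ hlt1 hX₁
      exact ⟨M, hXX₁.trans hM1, hM2⟩

theorem le_sup_zpowers_of_relIndex_prime {p : ℕ} [hp : Fact p.Prime] {X X₁ : Subgroup G}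
    (hle : X ≤ X₁) (hidx : X.relIndex X₁ = p) {x : G} (hx1 : x ∈ X₁) (hxX : x ∉ X) :
    X₁ ≤ X ⊔ Subgroup.zpowers x := by
  have hpp : p.Prime := hp.out
  set T := X ⊔ Subgroup.zpowers x with hT
  have hXT : X ≤ T := le_sup_left
  have hTX1 : T ≤ X₁ := sup_le hle (Subgroup.zpowers_le.mpr hx1)
  have h1 := Subgroup.relIndex_mul_relIndex X T X₁ hXT hTX1
  rw [hidx] at h1
  have h2 : X.relIndex T ≠ 1 := by
    intro h3
    have h4 : T ≤ X := Subgroup.relIndex_eq_one.mp h3
    exact hxX (h4 (Subgroup.mem_sup_right (Subgroup.mem_zpowers x)))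
  have h3 : X.relIndex T = p := by
    rcases (Nat.dvd_prime hpp).mp (Dvd.intro _ h1) with h4 | h4
    · exact absurd h4 h2
    · exact h4
  rw [h3] at h1
  have h4 : T.relIndex X₁ = 1 := by
    have : p * T.relIndex X₁ = p * 1 := by rw [h1, mul_one]
    exact Nat.eq_of_mul_eq_mul_left hpp.pos this
  exact Subgroup.relIndex_eq_one.mp h4

/-- a subgroup of index `p` of a `p`-group is normal and contains all `p`-th powers -/
theorem normal_of_index_eq_prime [Finite G] {p : ℕ} [hp : Fact p.Prime] (hG : IsPGroup p G)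
    {M : Subgroup G} (hM : M.index = p) : M.Normal := by
  apply Subgroup.normal_of_index_eq_minFac_card
  rw [hM]
  obtain ⟨l, hl⟩ := IsPGroup.iff_card.mp hG
  rw [hl]
  have hl0 : l ≠ 0 := by
    rintro rfl
    rw [pow_zero] at hl
    have h1 := Subgroup.card_mul_index M
    rw [hl, hM] at h1
    have : p ∣ 1 := Dvd.intro_left _ h1
    exact hp.out.one_lt.ne' (Nat.dvd_one.mp this)
  exact (hp.out.pow_minFac hl0).symm

theorem agemo_le_of_index_eq_prime [Finite G] {p : ℕ} [hp : Fact p.Prime] (hG : IsPGroup p G)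
    {M : Subgroup G} (hM : M.index = p) : agemo G p ≤ M := by
  haveI := normal_of_index_eq_prime hG hM
  unfold agemo
  rw [Subgroup.closure_le]
  rintro _ ⟨y, rfl⟩
  rw [SetLike.mem_coe, ← QuotientGroup.eq_one_iff, QuotientGroup.mk_pow]
  have h2 : Nat.card (G ⧸ M) = p := by
    rw [← Subgroup.index_eq_card]; exact hM
  rw [← h2]
  exact pow_card_eq_one'

namespace MCData

variable {p : ℕ} [hp : Fact p.Prime] {a b c : G} {n : ℕ}

theorem cdep_le_of_index [Finite G] (hd : MCData p G a b c n) (hn : 1 ≤ n)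
    {M : Subgroup G} (hM : M.index = p) :
    haveI := hd.cd.K_normal 1
    cdep (CycDer.K c p 1) ≤ M := by
  haveI := hd.cd.K_normal 1
  have h1 := hd.agemo_eq_cdep hn
  rw [pow_one] at h1
  rw [← h1]
  exact agemo_le_of_index_eq_prime hd.cd.pgroup hM

/-- the derived subgroup of a subgroup of index `p` -/
theorem commutator_le_of_index [Finite G] (hd : MCData p G a b c n) (hn : 1 ≤ n)
    {M : Subgroup G} (hM : M.index = p) : ⁅M, M⁆ ≤ CycDer.K c p 1 := by
  haveI := hd.cd.K_normal 1
  have hpp : p.Prime := hp.out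
  set D := cdep (CycDer.K c p 1) with hD
  have hDM : D ≤ M := hd.cdep_le_of_index hn hM
  have hDidx : D.index = p ^ 2 := by
    have := hd.cd.index_cdep hd.gen hn
    rw [mul_one] at this
    exact this
  have hrel : D.relIndex M = p := by
    have h1 := Subgroup.relIndex_mul_index hDM
    rw [hM, hDidx, pow_two] at h1
    exact Nat.eq_of_mul_eq_mul_right hpp.pos h1
  obtain ⟨g, hgM, hgD⟩ : ∃ g ∈ M, g ∉ D := by
    by_contra hcon
    push Not at hcon
    have : M ≤ D := hcon
    have h1 := Subgroup.relIndex_eq_one.mpr this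
    rw [hrel] at h1
    exact hpp.one_lt.ne' h1
  have hgen : M ≤ D ⊔ Subgroup.zpowers g :=
    le_sup_zpowers_of_relIndex_prime hDM hrel hgM hgD
  -- commuting modulo `K`
  set π := QuotientGroup.mk' (CycDer.K c p 1) with hπ
  have hcent : ∀ d ∈ D, ∀ y : G, π y * π d = π d * π y := by
    intro d hd' y
    have := mem_cdep.mp hd' y
    rw [← QuotientGroup.eq_one_iff] at this
    have h2 : π ⁅d, y⁆ = 1 := this
    rw [map_commutatorElement, commutatorElement_eq_one_iff_mul_comm] at h2
    exact h2.symm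
  have hstep : ∀ u : G, π g * π u = π u * π g → ∀ v ∈ M, π v * π u = π u * π v := by
    intro u hu v hv
    have hle : D ⊔ Subgroup.zpowers g ≤
        (Subgroup.centralizer ({π u} : Set (G ⧸ CycDer.K c p 1))).comap π := by
      apply sup_le
      · intro d hd'
        rw [Subgroup.mem_comap, Subgroup.mem_centralizer_singleton_iff]
        exact (hcent d hd' u).symm
      · rw [Subgroup.zpowers_le, Subgroup.mem_comap, Subgroup.mem_centralizer_singleton_iff]
        exact hu
    have := hle (hgen hv)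
    rw [Subgroup.mem_comap, Subgroup.mem_centralizer_singleton_iff] at this
    exact this
  have hg_all : ∀ u ∈ M, π g * π u = π u * π g := by
    intro u hu
    exact (hstep g rfl u hu).symm
  rw [Subgroup.commutator_le]
  intro u hu v hv
  rw [← QuotientGroup.eq_one_iff]
  change π ⁅u, v⁆ = 1
  rw [map_commutatorElement, commutatorElement_eq_one_iff_mul_comm]
  exact (hstep u (hg_all u hu) v hv).symm

end MCData

end Cfsg.Agent.Lib.Helper7.Meta
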