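import Mathlib
import Cfsg.Agent.Lib.Lead.CoprimeSylow2
import Cfsg.Agent.Lib.Lead.HallThm4
import Cfsg.Agent.Lib.Lead.HallTools

set_option autoImplicit false

namespace Cfsg.Agent.Lib.Helper7

open scoped Pointwise commutatorElement
open Cfsg.Agent.Lib.Lead

universe u

section
variable {G : Type u} [Group G] [Finite G]

/-- Hall subgroups of a solvable subgroup `K` are conjugate in `K`. -/
theorem hall_conj_in_subgroup (K : Subgroup G) (hsolv : Group.IsSolvable K) (m n : ℕ)
    (hK : Nat.card K = m * n) (hmn : m.Coprime n) (P Q : Subgroup G) (hPK : P ≤ K) (hQK : Q ≤ K)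
    (hP : Nat.card P = m) (hQ : Nat.card Q = m) : ∃ k ∈ K, MulAut.conj k • P = Q := by
  have h := (hallProp_of_solvable K m n hK hmn).1 (P.subgroupOf K) (Q.subgroupOf K)
    ((card_subgroupOf_of_le hPK).trans hP) ((card_subgroupOf_of_le hQK).trans hQ)
  exact conj_of_conj_subgroupOf hPK hQK h

/-- Dominance for Hall subgroups of a solvable subgroup `K`. -/
theorem hall_dominate_in_subgroup (K : Subgroup G) (hsolv : Group.IsSolvable K) (m n : ℕ)
    (hK : Nat.card K = m * n) (hmn : m.Coprime n) (U : Subgroup G) (hUK : U ≤ K)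
    (hU : (Nat.card U).Coprime n) : ∃ P : Subgroup G, P ≤ K ∧ Nat.card P = m ∧ U ≤ P := by
  obtain ⟨H, hH, hUH⟩ := (hallProp_of_solvable K m n hK hmn).2 (U.subgroupOf K)
    (by rw [card_subgroupOf_of_le hUK]; exact hU)
  refine ⟨H.map K.subtype, Subgroup.map_subtype_le H, (card_map_subtype K H).trans hH, ?_⟩
  have := Subgroup.map_mono (f := K.subtype) hUH
  rwa [map_subtype_subgroupOf_of_le hUK] at this

/-- The Frattini-argument count for coprime action, for a conjugacy class of subgroups of `K`. -/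
theorem coprime_frattini_count_gen (A K : Subgroup G) (hAK : A ≤ Subgroup.normalizer (K : Set G))
    (hcop : (Nat.card A).Coprime (Nat.card K)) (m : ℕ)
    (hconj : ∀ P Q : Subgroup G, P ≤ K → Q ≤ K → Nat.card P = m → Nat.card Q = m →
      ∃ k ∈ K, MulAut.conj k • P = Q)
    (P : Subgroup G) (hPK : P ≤ K) (hP : Nat.card P = m) :
    Nat.card ((A ⊔ K) ⊓ Subgroup.normalizer (P : Set G) : Subgroup G) =
      Nat.card A * Nat.card (K ⊓ Subgroup.normalizer (P : Set G) : Subgroup G) := by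
  set Γ := A ⊔ K with hΓ
  set L := Γ ⊓ Subgroup.normalizer (P : Set G) with hL
  set M := K ⊓ Subgroup.normalizer (P : Set G) with hM
  have hΓK : Γ ≤ Subgroup.normalizer (K : Set G) := sup_le hAK Subgroup.le_normalizer
  have hdisj : A ⊓ K = ⊥ := (Subgroup.disjoint_of_coprime_natCard hcop).eq_bot
  have hΓcard : Nat.card Γ = Nat.card A * Nat.card K := card_sup_of_disjoint A K hAK hdisj
  have hLK : L ≤ Subgroup.normalizer (K : Set G) := inf_le_left.trans hΓK
  have hLK' : L ⊓ K = M := by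
    rw [hL, hM, inf_assoc, inf_comm (Subgroup.normalizer (P : Set G)) K, ← inf_assoc,
      inf_eq_right.mpr (le_sup_right : K ≤ Γ)]
  have hsup : L ⊔ K = Γ := by
    apply le_antisymm (sup_le inf_le_left le_sup_right)
    intro γ hγ
    have h1 : MulAut.conj γ • P ≤ K := by
      have : MulAut.conj γ • K = K := (mem_normalizer_iff_conj_smul γ K).mp (hΓK hγ)
      rw [← this]
      exact Subgroup.pointwise_smul_le_pointwise_smul_iff.mpr hPK
    obtain ⟨k, hk, hkP⟩ := hconj P (MulAut.conj γ • P) hPK h1 hP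
      ((card_conj_smul γ P).trans hP)
    have h2 : k⁻¹ * γ ∈ Subgroup.normalizer (P : Set G) := by
      rw [mem_normalizer_iff_conj_smul, map_mul, mul_smul, ← hkP, ← mul_smul, ← map_mul,
        inv_mul_cancel, map_one, one_smul]
    have h3 : k⁻¹ * γ ∈ Γ := Γ.mul_mem (Γ.inv_mem (Subgroup.mem_sup_right hk)) hγ
    have : γ = (k⁻¹ * γ) * ((k⁻¹ * γ)⁻¹ * k * (k⁻¹ * γ)) := by group
    rw [this]
    refine Subgroup.mul_mem _ (Subgroup.mem_sup_left ⟨h3, h2⟩) (Subgroup.mem_sup_right ?_)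
    have := (Subgroup.mem_normalizer_iff.mp (hΓK (Γ.inv_mem h3)) k).mp hk
    simpa using this
  have h4 := card_sup_mul_card_inf L K hLK
  rw [hsup, hLK', hΓcard] at h4
  have hKpos : 0 < Nat.card K := Nat.card_pos
  have : Nat.card K * (Nat.card L) = Nat.card K * (Nat.card A * Nat.card M) := by
    rw [mul_comm (Nat.card K) (Nat.card L), ← h4]; ring
  exact Nat.eq_of_mul_eq_mul_left hKpos this

theorem coprime_invariant_exists_gen (A K : Subgroup G)
    (hAK : A ≤ Subgroup.normalizer (K : Set G))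
    (hcop : (Nat.card A).Coprime (Nat.card K)) (hsolv : Group.IsSolvable A ∨ Group.IsSolvable K)
    (m : ℕ)
    (hconj : ∀ P Q : Subgroup G, P ≤ K → Q ≤ K → Nat.card P = m → Nat.card Q = m →
      ∃ k ∈ K, MulAut.conj k • P = Q)
    (P : Subgroup G) (hPK : P ≤ K) (hP : Nat.card P = m) :
    ∃ x ∈ K, A ≤ Subgroup.normalizer ((MulAut.conj x • P : Subgroup G) : Set G) := by
  obtain ⟨hML, hLM⟩ := coprime_LM_facts A K P hAK
  have hcount := coprime_frattini_count_gen A K hAK hcop m hconj P hPK hP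
  have hMK : K ⊓ Subgroup.normalizer (P : Set G) ≤ K := inf_le_left
  have hcopM : (Nat.card A).Coprime (Nat.card (K ⊓ Subgroup.normalizer (P : Set G) : Subgroup G)) :=
    Nat.Coprime.coprime_dvd_right (Subgroup.card_dvd_of_le hMK) hcop
  obtain ⟨B, hBL, hBcard⟩ := sz_exists_internal _ _ hML hLM (Nat.card A) hcount.symm hcopM
  obtain ⟨x, hxK, hx⟩ := coprime_conj_complement A K hAK hcop hsolv B (hBL.trans inf_le_left) hBcard
  refine ⟨x⁻¹, K.inv_mem hxK, ?_⟩
  intro y hy
  rw [conj_smul_mem_normalizer_iff, inv_inv]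
  apply (hBL _).2
  rw [← hx]
  exact ⟨y, hy, by simp [MulAut.smul_def]⟩

theorem coprime_invariant_conj_gen (A K : Subgroup G)
    (hAK : A ≤ Subgroup.normalizer (K : Set G))
    (hcop : (Nat.card A).Coprime (Nat.card K)) (hsolv : Group.IsSolvable A ∨ Group.IsSolvable K)
    (m : ℕ)
    (hconj : ∀ P Q : Subgroup G, P ≤ K → Q ≤ K → Nat.card P = m → Nat.card Q = m →
      ∃ k ∈ K, MulAut.conj k • P = Q)
    (P Q : Subgroup G) (hPK : P ≤ K) (hQK : Q ≤ K) (hP : Nat.card P = m)
    (hQ : Nat.card Q = m)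
    (hAP : A ≤ Subgroup.normalizer (P : Set G)) (hAQ : A ≤ Subgroup.normalizer (Q : Set G)) :
    ∃ c ∈ K ⊓ Subgroup.centralizer (A : Set G), MulAut.conj c • P = Q := by
  obtain ⟨hML, hLM⟩ := coprime_LM_facts A K P hAK
  have hcount := coprime_frattini_count_gen A K hAK hcop m hconj P hPK hP
  have hMK : K ⊓ Subgroup.normalizer (P : Set G) ≤ K := inf_le_left
  have hcopM : (Nat.card A).Coprime (Nat.card (K ⊓ Subgroup.normalizer (P : Set G) : Subgroup G)) :=
    Nat.Coprime.coprime_dvd_right (Subgroup.card_dvd_of_le hMK) hcop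
  obtain ⟨k, hk, hkP⟩ := hconj P Q hPK hQK hP hQ
  have hA1Γ : MulAut.conj k⁻¹ • A ≤ A ⊔ K :=
    Subgroup.conj_smul_le_of_le le_sup_left ⟨k⁻¹, Subgroup.mem_sup_right (K.inv_mem hk)⟩
  have hA1N : MulAut.conj k⁻¹ • A ≤ Subgroup.normalizer (P : Set G) := by
    intro y hy
    rw [mem_conj_smul_iff', inv_inv] at hy
    have h1 := hAQ hy
    rw [← hkP, conj_smul_mem_normalizer_iff] at h1
    have e : k⁻¹ * (k * y * k⁻¹) * k = y := by group
    rwa [e] at h1
  have hsolvM : Group.IsSolvable (K ⊓ Subgroup.normalizer (P : Set G) : Subgroup G) ∨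
      Group.IsSolvable A := by
    rcases hsolv with h | h
    · exact Or.inr h
    · exact Or.inl (isSolvable_of_le hMK)
  obtain ⟨x, hxM, hx⟩ := sz_conj_internal _ _ A (MulAut.conj k⁻¹ • A) hML hLM
    (le_inf le_sup_left hAP) (le_inf hA1Γ hA1N) hcount.symm (card_conj_smul _ _) hcopM hsolvM
  have hdisj : A ⊓ K = ⊥ := (Subgroup.disjoint_of_coprime_natCard hcop).eq_bot
  have hcK : k * x ∈ K := K.mul_mem hk hxM.1
  have hcA : MulAut.conj (k * x) • A = A := by
    rw [map_mul, mul_smul, hx, ← mul_smul, ← map_mul, mul_inv_cancel, map_one, one_smul]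
  refine ⟨k * x, ⟨hcK, ?_⟩, ?_⟩
  · apply mem_centralizer_of_mem_normalizer A K hAK hdisj _ hcK
    intro a ha
    rw [← hcA]
    exact ⟨a, ha, by simp [MulAut.smul_def, mul_assoc]⟩
  · rw [map_mul, mul_smul, (mem_normalizer_iff_conj_smul x P).mp hxM.2, hkP]

/-- (a): an `A`-invariant Hall subgroup of order `m` exists. -/
theorem coprime_hall_exists (A K : Subgroup G) (hAK : A ≤ Subgroup.normalizer (K : Set G))
    (hcop : (Nat.card A).Coprime (Nat.card K)) (hsolv : Group.IsSolvable K) (m n : ℕ)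
    (hK : Nat.card K = m * n) (hmn : m.Coprime n) :
    ∃ H : Subgroup G, H ≤ K ∧ Nat.card H = m ∧ A ≤ Subgroup.normalizer (H : Set G) := by
  obtain ⟨P, hPK, hP, -⟩ := hall_dominate_in_subgroup K hsolv m n hK hmn ⊥ bot_le (by simp)
  obtain ⟨x, hxK, hx⟩ := coprime_invariant_exists_gen A K hAK hcop (Or.inr hsolv) m
    (fun P Q hPK hQK hP hQ => hall_conj_in_subgroup K hsolv m n hK hmn P Q hPK hQK hP hQ) P hPK hP
  refine ⟨MulAut.conj x • P, ?_, (card_conj_smul x P).trans hP, hx⟩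
  have : MulAut.conj x • K = K :=
    (mem_normalizer_iff_conj_smul x K).mp (Subgroup.le_normalizer hxK)
  rw [← this]
  exact Subgroup.pointwise_smul_le_pointwise_smul_iff.mpr hPK

/-- (b): `A`-invariant Hall subgroups of order `m` are conjugate under `C_K(A)`. -/
theorem coprime_hall_conj (A K : Subgroup G) (hAK : A ≤ Subgroup.normalizer (K : Set G))
    (hcop : (Nat.card A).Coprime (Nat.card K)) (hsolv : Group.IsSolvable K) (m n : ℕ)
    (hK : Nat.card K = m * n) (hmn : m.Coprime n)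
    (P Q : Subgroup G) (hPK : P ≤ K) (hQK : Q ≤ K) (hP : Nat.card P = m)
    (hQ : Nat.card Q = m)
    (hAP : A ≤ Subgroup.normalizer (P : Set G)) (hAQ : A ≤ Subgroup.normalizer (Q : Set G)) :
    ∃ c ∈ K ⊓ Subgroup.centralizer (A : Set G), MulAut.conj c • P = Q :=
  coprime_invariant_conj_gen A K hAK hcop (Or.inr hsolv) m
    (fun P Q hPK hQK hP hQ => hall_conj_in_subgroup K hsolv m n hK hmn P Q hPK hQK hP hQ)
    P Q hPK hQK hP hQ hAP hAQ

end

end Cfsg.Agent.Lib.Helper7
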