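import Mathlib

set_option autoImplicit false

/-! # π-closed groups: basic lemmas -/

namespace Cfsg.Agent.Lib.Helper7.PiClosed

universe u

/-- `x` is a π-element. -/
def IsPiElt {G : Type u} [Group G] (π : Set ℕ) (x : G) : Prop :=
  ∀ p : ℕ, p.Prime → p ∣ orderOf x → p ∈ π

/-- The π-elements form a subgroup. -/
def PiClosed (π : Set ℕ) (G : Type u) [Group G] : Prop :=
  ∃ K : Subgroup G, ∀ x : G, x ∈ K ↔ ∀ p : ℕ, p.Prime → p ∣ orderOf x → p ∈ π

/-- Element form of π'-homogeneity, restricted to `r`-subgroups. -/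
def Hom' (π : Set ℕ) (G : Type u) [Group G] : Prop :=
  ∀ r : ℕ, r.Prime → r ∉ π → ∀ R : Subgroup G, IsPGroup r R →
    ∀ q : ℕ, q.Prime → q ∈ π → ∀ x : G, x ∈ Subgroup.normalizer (R : Set G) →
      (∃ k : ℕ, orderOf x = q ^ k) → x ∈ Subgroup.centralizer (R : Set G)

variable {G : Type u} [Group G]

theorem PiClosed.of_mulEquiv {H : Type u} [Group H] (π : Set ℕ) (e : G ≃* H)
    (h : PiClosed π H) : PiClosed π G := by
  obtain ⟨T, hT⟩ := h
  refine ⟨T.comap e.toMonoidHom, fun x => ?_⟩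
  rw [Subgroup.mem_comap]
  have : orderOf (e.toMonoidHom x) = orderOf x := MulEquiv.orderOf_eq e x
  rw [hT, this]

/-- Lemma D. -/
theorem PiClosed.of_quotient [Finite G] (π : Set ℕ) (L : Subgroup G) [L.Normal]
    (hL : ∀ p : ℕ, p.Prime → p ∣ Nat.card L → p ∈ π) (h : PiClosed π (G ⧸ L)) :
    PiClosed π G := by
  obtain ⟨T, hT⟩ := h
  refine ⟨T.comap (QuotientGroup.mk' L), fun x => ?_⟩
  rw [Subgroup.mem_comap, hT]
  constructor
  · intro hx p hp hpx
    set n := orderOf (QuotientGroup.mk' L x) with hn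
    have hxn : x ^ n ∈ L := by
      have : (QuotientGroup.mk' L x) ^ n = 1 := pow_orderOf_eq_one _
      rw [← map_pow] at this
      exact (QuotientGroup.eq_one_iff _).1 this
    have hk : orderOf (x ^ n) ∣ Nat.card L := by
      have : orderOf (⟨x ^ n, hxn⟩ : L) ∣ Nat.card L := orderOf_dvd_natCard _
      rwa [← Subgroup.orderOf_coe] at this
    have : orderOf x ∣ n * orderOf (x ^ n) := by
      apply orderOf_dvd_of_pow_eq_one
      rw [pow_mul]; exact pow_orderOf_eq_one _
    have h2 := (Nat.Prime.dvd_mul hp).1 (hpx.trans this)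
    rcases h2 with h2 | h2
    · exact hx p hp h2
    · exact hL p hp (h2.trans hk)
  · intro hx p hp hpx
    exact hx p hp (hpx.trans (orderOf_map_dvd _ x))

/-- A subgroup containing, for every prime, a subgroup of `K` of index prime to it,
contains `K`. -/
theorem le_of_forall_sylow [Finite G] (K H : Subgroup G)
    (h : ∀ r : ℕ, r.Prime → ∃ R : Subgroup G, R ≤ K ∧ R ≤ H ∧ ¬ r ∣ R.relIndex K) : K ≤ H := by
  rw [← Subgroup.relIndex_eq_one, Nat.eq_one_iff_not_exists_prime_dvd]
  intro r hr hdvd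
  obtain ⟨R, hRK, hRH, hR⟩ := h r hr
  apply hR
  have h1 : (H ⊓ K).relIndex K ∣ R.relIndex K :=
    Subgroup.relIndex_dvd_of_le_left K (le_inf hRH hRK)
  rw [Subgroup.inf_relIndex_right] at h1
  exact hdvd.trans h1

theorem sylow_map_relIndex [Finite G] (K : Subgroup G) (r : ℕ) [Fact r.Prime] (P : Sylow r K) :
    ¬ r ∣ ((P : Subgroup K).map K.subtype).relIndex K := by
  have : ((P : Subgroup K).map K.subtype).relIndex K = (P : Subgroup K).index := by
    unfold Subgroup.relIndex
    congr 1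
    unfold Subgroup.subgroupOf
    exact Subgroup.comap_map_eq_self_of_injective K.subtype_injective _
  rw [this]
  exact P.not_dvd_index

/-- In a finite group, an element of `q`-power order normalizing `R` lies in `C(R)` as soon as
`q` does not divide `|N(R) : C(R)|`. -/
theorem mem_centralizer_of_not_dvd [Finite G] (R : Subgroup G) (q : ℕ) (hq : q.Prime)
    (hqi : ¬ q ∣ (Subgroup.centralizer (R : Set G)).relIndex (Subgroup.normalizer (R : Set G)))
    (x : G) (hx : x ∈ Subgroup.normalizer (R : Set G)) (hxq : ∃ k : ℕ, orderOf x = q ^ k) :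
    x ∈ Subgroup.centralizer (R : Set G) := by
  set N := Subgroup.normalizer (R : Set G) with hN
  set C := Subgroup.centralizer (R : Set G) with hC
  haveI : (C.subgroupOf N).Normal := by
    refine ⟨fun c hc n => ?_⟩
    rw [Subgroup.mem_subgroupOf] at hc ⊢
    rw [hC, Subgroup.mem_centralizer_iff] at hc ⊢
    intro h hh
    have hn : (n : G) ∈ N := n.2
    have h1 : (n : G)⁻¹ * h * (n : G) ∈ (R : Set G) := by
      have := (Subgroup.mem_normalizer_iff'.1 hn ((n : G)⁻¹ * h)).2
      simp only [SetLike.mem_coe] at this ⊢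
      have h2 := (Subgroup.mem_normalizer_iff.1 (N.inv_mem hn) h).1 hh
      simpa using h2
    have h2 := hc _ h1
    simp only [Subgroup.coe_mul, Subgroup.coe_inv]
    have h3 : h * (n : G) * (c : G) = (n : G) * (c : G) * ((n : G)⁻¹ * h * (n : G)) := by
      rw [mul_assoc (n : G), ← h2]; group
    calc h * ((n : G) * (c : G) * (n : G)⁻¹) = (h * (n : G) * (c : G)) * (n : G)⁻¹ := by group
      _ = ((n : G) * (c : G) * ((n : G)⁻¹ * h * (n : G))) * (n : G)⁻¹ := by rw [h3]
      _ = (n : G) * (c : G) * (n : G)⁻¹ * h := by group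
  have h1 : (⟨x, hx⟩ : N) ^ (C.subgroupOf N).index ∈ C.subgroupOf N := Subgroup.pow_index_mem _ _
  rw [Subgroup.mem_subgroupOf] at h1
  simp only [Subgroup.coe_pow] at h1
  obtain ⟨k, hk⟩ := hxq
  have hcop : Nat.Coprime (C.subgroupOf N).index (orderOf x) := by
    rw [hk]
    apply Nat.Coprime.pow_right
    rw [Nat.coprime_comm]
    exact (Nat.Prime.coprime_iff_not_dvd hq).2 hqi
  obtain ⟨m, hm⟩ := exists_pow_eq_self_of_coprime hcop
  rw [← hm]
  exact C.pow_mem h1 m

/-- The hypothesis of the statements implies the element form. -/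
theorem hom'_of_hhom [Finite G] (π : Set ℕ)
    (hhom : ∀ H : Subgroup G, H ≠ ⊥ → (∀ p : ℕ, p.Prime → p ∣ Nat.card ↥H → p ∉ π) →
      ∀ p : ℕ, p.Prime → p ∣ (Subgroup.centralizer (H : Set G)).relIndex
        (Subgroup.normalizer (H : Set G)) → p ∉ π) : Hom' π G := by
  intro r hr hrπ R hR q hq hqπ x hx hxq
  by_cases hRb : R = ⊥
  · subst hRb
    rw [Subgroup.mem_centralizer_iff]
    intro y hy
    have : y = 1 := by simpa using hy
    rw [this]; simp
  · apply mem_centralizer_of_not_dvd R q hq _ x hx hxq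
    intro hdvd
    refine hhom R hRb ?_ q hq hdvd hqπ
    intro p hp hpR hpπ
    haveI : Fact r.Prime := ⟨hr⟩
    obtain ⟨n, hn⟩ := IsPGroup.iff_card.1 hR
    rw [hn] at hpR
    have := (Nat.prime_dvd_prime_iff_eq hp hr).1 (hp.dvd_of_dvd_pow hpR)
    exact hrπ (this ▸ hpπ)

/-- The element form passes to subgroups. -/
theorem Hom'.subgroup (π : Set ℕ) (h : Hom' π G) (H : Subgroup G) : Hom' π H := by
  intro r hr hrπ R hR q hq hqπ x hx hxq
  have h1 := h r hr hrπ (R.map H.subtype) (hR.map _) q hq hqπ (x : G) ?_ ?_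
  · rw [Subgroup.mem_centralizer_iff] at h1 ⊢
    intro y hy
    have := h1 (y : G) ⟨y, hy, rfl⟩
    exact Subtype.ext (by simpa using this)
  · rw [Subgroup.mem_normalizer_iff] at hx ⊢
    intro y
    constructor
    · rintro ⟨z, hz, rfl⟩
      exact ⟨x * z * x⁻¹, (hx z).1 hz, by simp⟩
    · rintro ⟨z, hz, hzz⟩
      have hy : y ∈ H := by
        have h2 : (x : G)⁻¹ * (z : G) * (x : G) ∈ H := (x⁻¹ * z * x).2
        have hzz' : (z : G) = (x : G) * y * (x : G)⁻¹ := hzz
        rw [hzz'] at h2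
        have : y = (x : G)⁻¹ * ((x : G) * y * (x : G)⁻¹) * (x : G) := by group
        rw [this]; exact h2
      refine ⟨⟨y, hy⟩, ?_, rfl⟩
      show (⟨y, hy⟩ : H) ∈ R
      rw [hx ⟨y, hy⟩]
      have : x * ⟨y, hy⟩ * x⁻¹ = z := Subtype.ext (by simpa using hzz.symm)
      rw [this]; exact hz
  · obtain ⟨k, hk⟩ := hxq
    exact ⟨k, by rw [Subgroup.orderOf_coe]; exact hk⟩

end Cfsg.Agent.Lib.Helper7.PiClosed
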