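import Mathlib
import Cfsg.Agent.Lib.Helper7.CoprimeHall
import Cfsg.Agent.Lib.Helper2.MinNormal

set_option autoImplicit false

namespace Cfsg.Agent.Lib.Helper7

open scoped Pointwise commutatorElement
open Cfsg.Agent.Lib.Lead

universe u

section
variable {Y : Type u} [Group Y] [Finite Y]

/-- a nontrivial solvable normal subgroup contains a nontrivial normal subgroup of prime power
order -/
theorem exists_normal_prime_pow_le (G : Subgroup Y) [hGn : G.Normal] (hsolv : Group.IsSolvable G)
    (hG : G ≠ ⊥) :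
    ∃ M : Subgroup Y, M.Normal ∧ M ≠ ⊥ ∧ M ≤ G ∧ ∃ p d : ℕ, p.Prime ∧ Nat.card M = p ^ d := by
  classical
  let S : Set (Subgroup Y) := {N | N.Normal ∧ N ≠ ⊥ ∧ N ≤ G}
  obtain ⟨M, hM, hmin⟩ := Set.exists_min_image S (fun N => Nat.card N) (Set.toFinite S)
    ⟨G, hGn, hG, le_rfl⟩
  obtain ⟨hMn, hM1, hMG⟩ := hM
  have hmin' : ∀ B : Subgroup Y, B.Normal → B ≤ M → B = ⊥ ∨ B = M := by
    intro B hB hBM
    by_cases hB1 : B = ⊥
    · exact Or.inl hB1
    · exact Or.inr (Subgroup.eq_of_le_of_card_ge hBM (hmin B ⟨hB, hB1, hBM.trans hMG⟩))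
  haveI := hMn
  have hMsolv : Group.IsSolvable M := isSolvable_of_le hMG
  have hcomm : IsMulCommutative M := by
    rw [← Subgroup.commutator_self_eq_bot_iff]
    rcases hmin' ⁅M, M⁆ inferInstance (Subgroup.commutator_le_self M) with h | h
    · exact h
    · exfalso
      haveI : Nontrivial M := (Subgroup.nontrivial_iff_ne_bot M).mpr hM1
      have h1 : commutator M < ⊤ := IsSolvable.commutator_lt_top_of_nontrivial M
      apply h1.ne
      apply Subgroup.map_injective M.subtype_injective
      rw [commutator_def, Subgroup.map_commutator, ← MonoidHom.range_eq_map, Subgroup.range_subtype]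
      exact h
  obtain ⟨p, hp, -, d, -, hd⟩ :=
    Cfsg.Agent.Lib.Helper2.exists_prime_pow_of_minNormal_abelian M hM1 hmin' hcomm
  exact ⟨M, hMn, hM1, hMG, p, d, hp, hd⟩

end

end Cfsg.Agent.Lib.Helper7

namespace Cfsg.Agent.Lib.Helper7

open scoped Pointwise commutatorElement
open Cfsg.Agent.Lib.Lead

universe u

section
variable {Y : Type u} [Group Y] [Finite Y]

theorem le_normalizer_sup {A U M : Subgroup Y} (hU : A ≤ Subgroup.normalizer (U : Set Y))
    (hM : A ≤ Subgroup.normalizer (M : Set Y)) : A ≤ Subgroup.normalizer ((U ⊔ M : Subgroup Y) : Set Y) := by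
  intro a ha
  rw [mem_normalizer_iff_conj_smul, Subgroup.smul_sup,
    (mem_normalizer_iff_conj_smul a U).mp (hU ha), (mem_normalizer_iff_conj_smul a M).mp (hM ha)]

/-- the normal-complement case of (c) -/
theorem coprime_hall_dominate_split (A H₁ M U : Subgroup Y) [M.Normal]
    (hAH : A ≤ Subgroup.normalizer (H₁ : Set Y))
    (hcop : (Nat.card A).Coprime (Nat.card H₁)) (hsolv : Group.IsSolvable H₁) (m : ℕ)
    (hH₁ : Nat.card H₁ = m * Nat.card M) (hmM : m.Coprime (Nat.card M)) (hMH : M ≤ H₁)
    (hUH : U ≤ H₁) (hAU : A ≤ Subgroup.normalizer (U : Set Y))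
    (hU : (Nat.card U).Coprime (Nat.card M)) :
    ∃ H : Subgroup Y, H ≤ H₁ ∧ Nat.card H = m ∧ A ≤ Subgroup.normalizer (H : Set Y) ∧ U ≤ H := by
  obtain ⟨K, hKH, hK, hAK⟩ := coprime_hall_exists A H₁ hAH hcop hsolv m (Nat.card M) hH₁ hmM
  have hMtop : Subgroup.normalizer (M : Set Y) = ⊤ := Subgroup.normalizer_eq_top M
  have hAM : A ≤ Subgroup.normalizer (M : Set Y) := by rw [hMtop]; exact le_top
  have hUM : U ≤ Subgroup.normalizer (M : Set Y) := by rw [hMtop]; exact le_top
  set W := U ⊔ M with hW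
  have hWH : W ≤ H₁ := sup_le hUH hMH
  have hAW : A ≤ Subgroup.normalizer (W : Set Y) := le_normalizer_sup hAU hAM
  have hdisj : U ⊓ M = ⊥ := (Subgroup.disjoint_of_coprime_natCard hU).eq_bot
  have hWcard : Nat.card W = Nat.card U * Nat.card M := card_sup_of_disjoint U M hUM hdisj
  have hWsolv : Group.IsSolvable W := isSolvable_of_le hWH
  set U₁ := W ⊓ K with hU₁
  have hAU₁ : A ≤ Subgroup.normalizer (U₁ : Set Y) :=
    (le_inf hAW hAK).trans Subgroup.inf_normalizer_le_normalizer_inf
  have hMpos : 0 < Nat.card M := Nat.card_pos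
  have hKpos : 0 < Nat.card K := Nat.card_pos
  -- |U₁| = |U|
  have hU₁card : Nat.card U₁ = Nat.card U := by
    apply Nat.dvd_antisymm
    · have h1 : Nat.card U₁ ∣ Nat.card U * Nat.card M := by
        rw [← hWcard]; exact Subgroup.card_dvd_of_le inf_le_left
      have h2 : (Nat.card U₁).Coprime (Nat.card M) := by
        apply Nat.Coprime.coprime_dvd_left (Subgroup.card_dvd_of_le (inf_le_right : U₁ ≤ K))
        rw [hK]; exact hmM
      exact h2.dvd_of_dvd_mul_right h1
    · -- |W : W ⊓ K| ≤ |H₁ : K| = |M|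
      have h3 : K.relIndex H₁ = Nat.card M := by
        have := (K.subgroupOf H₁).card_mul_index
        rw [card_subgroupOf_of_le hKH, hK, hH₁] at this
        by_cases hm0 : m = 0
        · rw [hm0] at hK
          exact absurd hK Nat.card_pos.ne'
        · exact Nat.eq_of_mul_eq_mul_left (Nat.pos_of_ne_zero hm0) this
      have h4 : K.relIndex W ≤ K.relIndex H₁ :=
        Subgroup.relIndex_le_of_le_right hWH (by rw [h3]; exact hMpos.ne')
      have h5 : Nat.card U₁ * K.relIndex W = Nat.card W := by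
        have := ((K ⊓ W).subgroupOf W).card_mul_index
        rw [card_subgroupOf_of_le inf_le_right] at this
        have e : ((K ⊓ W).subgroupOf W).index = K.relIndex W := by
          change (K ⊓ W).relIndex W = _
          exact Subgroup.inf_relIndex_right K W
        rw [e, inf_comm] at this
        exact this
      have h6 : Nat.card U * Nat.card M ≤ Nat.card U₁ * Nat.card M := by
        rw [← hWcard, ← h5]
        exact Nat.mul_le_mul_left _ (h4.trans h3.le)
      have h7 : Nat.card U ≤ Nat.card U₁ := Nat.le_of_mul_le_mul_right h6 hMpos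
      have h8 : Nat.card U₁ ∣ Nat.card U := by
        have h1 : Nat.card U₁ ∣ Nat.card U * Nat.card M := by
          rw [← hWcard]; exact Subgroup.card_dvd_of_le inf_le_left
        have h2 : (Nat.card U₁).Coprime (Nat.card M) := by
          apply Nat.Coprime.coprime_dvd_left (Subgroup.card_dvd_of_le (inf_le_right : U₁ ≤ K))
          rw [hK]; exact hmM
        exact h2.dvd_of_dvd_mul_right h1
      have h9 : Nat.card U₁ = Nat.card U :=
        le_antisymm (Nat.le_of_dvd Nat.card_pos h8) h7
      rw [h9]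
  have hcopW : (Nat.card A).Coprime (Nat.card W) :=
    Nat.Coprime.coprime_dvd_right (Subgroup.card_dvd_of_le hWH) hcop
  obtain ⟨c, ⟨hcW, hcA⟩, hc⟩ := coprime_hall_conj A W hAW hcopW hWsolv (Nat.card U) (Nat.card M)
    hWcard hU U₁ U inf_le_left le_sup_left hU₁card rfl hAU₁ hAU
  refine ⟨MulAut.conj c • K, ?_, (card_conj_smul c K).trans hK, ?_, ?_⟩
  · have : MulAut.conj c • H₁ = H₁ :=
      (mem_normalizer_iff_conj_smul c H₁).mp (Subgroup.le_normalizer (hWH hcW))
    rw [← this]
    exact Subgroup.pointwise_smul_le_pointwise_smul_iff.mpr hKH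
  · intro a ha
    rw [conj_smul_mem_normalizer_iff]
    have e : c⁻¹ * a * c = a := by
      have := Subgroup.mem_centralizer_iff.mp hcA a ha
      rw [mul_assoc, this, ← mul_assoc, inv_mul_cancel, one_mul]
    rw [e]; exact hAK ha
  · rw [← hc]
    exact Subgroup.pointwise_smul_le_pointwise_smul_iff.mpr inf_le_right

end

end Cfsg.Agent.Lib.Helper7
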