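import Mathlib
import Cfsg.Agent.Lib.Helper7.CoprimeHall2
import Cfsg.Prelude.Def_OddOrderLocal

set_option autoImplicit false

namespace Cfsg.Agent.Lib.Helper7

open scoped Pointwise commutatorElement
open Cfsg.Agent.Lib.Lead

universe u

/-- (c) for a normal subgroup, by induction on the order of the ambient group -/
theorem coprime_hall_dominate_aux (N : ℕ) : ∀ (Y : Type u) [Group Y] [Finite Y], Nat.card Y = N →
    ∀ (A G : Subgroup Y), G.Normal → (Nat.card A).Coprime (Nat.card G) → Group.IsSolvable G →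
    ∀ m n : ℕ, Nat.card G = m * n → m.Coprime n →
    ∀ U : Subgroup Y, U ≤ G → A ≤ Subgroup.normalizer (U : Set Y) → (Nat.card U).Coprime n →
    ∃ H : Subgroup Y, H ≤ G ∧ Nat.card H = m ∧ A ≤ Subgroup.normalizer (H : Set Y) ∧ U ≤ H := by
  induction N using Nat.strong_induction_on with
  | _ N ih =>
  intro Y _ _ hYN A G hGn hcop hsolv m n hG hmn U hUG hAU hUn
  haveI := hGn
  by_cases hG1 : G = ⊥
  · refine ⟨G, le_rfl, ?_, ?_, hUG⟩
    · rw [hG1, Subgroup.card_bot] at hG
      rw [hG1, Subgroup.card_bot]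
      exact (Nat.eq_one_of_mul_eq_one_right hG.symm).symm
    · rw [Subgroup.normalizer_eq_top G]; exact le_top
  obtain ⟨M, hMn, hM1, hMG, p, d, hp, hMcard⟩ := exists_normal_prime_pow_le G hsolv hG1
  haveI := hMn
  set f := QuotientGroup.mk' M with hf
  have hfs : Function.Surjective f := QuotientGroup.mk'_surjective M
  have hMpos : 0 < Nat.card M := Nat.card_pos
  have hMne1 : Nat.card M ≠ 1 := by rwa [Ne, Subgroup.card_eq_one]
  have hQcard : Nat.card (Y ⧸ M) < N := by
    have h1 := card_quotient_mul M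
    rw [hYN] at h1
    have hQpos : 0 < Nat.card (Y ⧸ M) := Nat.card_pos
    have : 2 ≤ Nat.card M := by omega
    nlinarith
  have hGbar_n : (G.map f).Normal := Subgroup.Normal.map hGn f hfs
  have hAbar : Nat.card (A.map f) ∣ Nat.card A := ⟨_, (card_map_mk_mul M A).symm⟩
  have hGbar : Nat.card (G.map f) * Nat.card M = Nat.card G := card_map_mk_of_le M G hMG
  have hUbar : Nat.card (U.map f) ∣ Nat.card U := ⟨_, (card_map_mk_mul M U).symm⟩
  have hcop' : (Nat.card (A.map f)).Coprime (Nat.card (G.map f)) :=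
    Nat.Coprime.coprime_dvd_left hAbar (Nat.Coprime.coprime_dvd_right ⟨_, hGbar.symm⟩ hcop)
  have hsolv' : Group.IsSolvable (G.map f) :=
    solvable_of_surjective (f.subgroupMap_surjective G)
  have hUG' : U.map f ≤ G.map f := Subgroup.map_mono hUG
  have hAU' : A.map f ≤ Subgroup.normalizer ((U.map f : Subgroup (Y ⧸ M)) : Set (Y ⧸ M)) := by
    refine le_trans (Subgroup.map_mono hAU) (Subgroup.le_normalizer_map f)
  -- pull back a solution from the quotient
  have pull : ∀ (m' n' : ℕ), Nat.card (G.map f) = m' * n' → m'.Coprime n' →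
      (Nat.card U).Coprime n' →
      ∃ H₁ : Subgroup Y, H₁ ≤ G ∧ Nat.card H₁ = m' * Nat.card M ∧
        A ≤ Subgroup.normalizer (H₁ : Set Y) ∧ U ≤ H₁ ∧ M ≤ H₁ := by
    intro m' n' h1 h2 h3
    obtain ⟨Hb, hHbG, hHbcard, hAHb, hUHb⟩ := ih _ hQcard (Y ⧸ M) rfl (A.map f) (G.map f) hGbar_n
      hcop' hsolv' m' n' h1 h2 (U.map f) hUG' hAU' (Nat.Coprime.coprime_dvd_left hUbar h3)
    refine ⟨Hb.comap f, ?_, ?_, ?_, ?_, ?_⟩
    · have := Subgroup.comap_mono (f := f) hHbG
      rw [comap_map_mk M G, sup_eq_left.mpr hMG] at this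
      exact this
    · rw [card_comap_mk, hHbcard]
    · intro a ha
      have h4 : f a ∈ Subgroup.normalizer (Hb : Set (Y ⧸ M)) := hAHb (Subgroup.mem_map_of_mem f ha)
      exact Subgroup.le_normalizer_comap f (Subgroup.mem_comap.mpr h4)
    · exact (Subgroup.le_comap_map f U).trans (Subgroup.comap_mono hUHb)
    · intro x hx
      rw [Subgroup.mem_comap]
      have : f x = 1 := (QuotientGroup.eq_one_iff x).mpr hx
      rw [this]; exact Hb.one_mem
  have hMdvd : Nat.card M ∣ m * n := by rw [← hG]; exact Subgroup.card_dvd_of_le hMG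
  by_cases hpm : p ∣ m
  · -- |M| divides m
    have hpn : ¬ p ∣ n := fun h => hp.one_lt.ne' (Nat.eq_one_of_dvd_coprimes hmn hpm h)
    have hMn' : (Nat.card M).Coprime n := by
      rw [hMcard]; exact Nat.Coprime.pow_left d ((Nat.Prime.coprime_iff_not_dvd hp).mpr hpn)
    obtain ⟨m', hm'⟩ : Nat.card M ∣ m := hMn'.dvd_of_dvd_mul_right hMdvd
    have h1 : Nat.card (G.map f) = m' * n := by
      have : Nat.card (G.map f) * Nat.card M = m' * n * Nat.card M := by
        rw [hGbar, hG, hm']; ring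
      exact Nat.eq_of_mul_eq_mul_right hMpos this
    have h2 : m'.Coprime n := Nat.Coprime.coprime_dvd_left ⟨_, (by rw [hm']; ring)⟩ hmn
    obtain ⟨H₁, hH₁G, hH₁card, hAH₁, hUH₁, -⟩ := pull m' n h1 h2 hUn
    exact ⟨H₁, hH₁G, by rw [hH₁card, hm']; ring, hAH₁, hUH₁⟩
  · -- |M| divides n
    have hMm' : (Nat.card M).Coprime m := by
      rw [hMcard]; exact Nat.Coprime.pow_left d ((Nat.Prime.coprime_iff_not_dvd hp).mpr hpm)
    obtain ⟨n', hn'⟩ : Nat.card M ∣ n := hMm'.dvd_of_dvd_mul_left hMdvd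
    have h1 : Nat.card (G.map f) = m * n' := by
      have : Nat.card (G.map f) * Nat.card M = m * n' * Nat.card M := by
        rw [hGbar, hG, hn']; ring
      exact Nat.eq_of_mul_eq_mul_right hMpos this
    have h2 : m.Coprime n' := Nat.Coprime.coprime_dvd_right ⟨_, (by rw [hn']; ring)⟩ hmn
    have h3 : (Nat.card U).Coprime n' :=
      Nat.Coprime.coprime_dvd_right ⟨_, (by rw [hn']; ring)⟩ hUn
    obtain ⟨H₁, hH₁G, hH₁card, hAH₁, hUH₁, hMH₁⟩ := pull m n' h1 h2 h3
    have hcopH₁ : (Nat.card A).Coprime (Nat.card H₁) :=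
      Nat.Coprime.coprime_dvd_right (Subgroup.card_dvd_of_le hH₁G) hcop
    have hUM : (Nat.card U).Coprime (Nat.card M) :=
      Nat.Coprime.coprime_dvd_right ⟨_, hn'⟩ hUn
    obtain ⟨H, hHH₁, hHcard, hAH, hUH⟩ := coprime_hall_dominate_split A H₁ M U hAH₁ hcopH₁
      (isSolvable_of_le hH₁G) m hH₁card hMm'.symm hMH₁ hUH₁ hAU hUM
    exact ⟨H, hHH₁.trans hH₁G, hHcard, hAH, hUH⟩

end Cfsg.Agent.Lib.Helper7

namespace Cfsg.Agent.Lib.Helper7

open scoped Pointwise commutatorElement
open Cfsg.Agent.Lib.Lead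

universe u

section
variable {X : Type u} [Group X] [Finite X]

/-- (c): every `A`-invariant subgroup of order coprime to `n` lies in an `A`-invariant Hall
subgroup of order `m`. -/
theorem coprime_hall_dominate (A G : Subgroup X) (hAG : A ≤ Subgroup.normalizer (G : Set X))
    (hcop : (Nat.card A).Coprime (Nat.card G)) (hsolv : Group.IsSolvable G) (m n : ℕ)
    (hG : Nat.card G = m * n) (hmn : m.Coprime n) (U : Subgroup X) (hUG : U ≤ G)
    (hAU : A ≤ Subgroup.normalizer (U : Set X)) (hUn : (Nat.card U).Coprime n) :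
    ∃ H : Subgroup X, H ≤ G ∧ Nat.card H = m ∧ A ≤ Subgroup.normalizer (H : Set X) ∧ U ≤ H := by
  set L := A ⊔ G with hL
  have hLG : L ≤ Subgroup.normalizer (G : Set X) := sup_le hAG Subgroup.le_normalizer
  have hAL : A ≤ L := le_sup_left
  have hGL : G ≤ L := le_sup_right
  have hUL : U ≤ L := hUG.trans hGL
  haveI hGn : (G.subgroupOf L).Normal := Subgroup.normal_subgroupOf_of_le_normalizer hLG
  have hsolv' : Group.IsSolvable (G.subgroupOf L) :=
    solvable_of_solvable_injective (f := (Subgroup.subgroupOfEquivOfLe hGL).toMonoidHom)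
      (Subgroup.subgroupOfEquivOfLe hGL).injective
  have hAU' : A.subgroupOf L ≤ Subgroup.normalizer ((U.subgroupOf L : Subgroup L) : Set L) := by
    intro a ha
    rw [Subgroup.mem_subgroupOf] at ha
    have h1 := hAU ha
    rw [Subgroup.mem_normalizer_iff] at h1 ⊢
    intro h
    rw [Subgroup.mem_subgroupOf, Subgroup.mem_subgroupOf]
    simpa using h1 (h : X)
  obtain ⟨H', hH'G, hH'card, hAH', hUH'⟩ := coprime_hall_dominate_aux _ L rfl (A.subgroupOf L)
    (G.subgroupOf L) hGn (by rw [card_subgroupOf_of_le hAL, card_subgroupOf_of_le hGL]; exact hcop)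
    hsolv' m n (by rw [card_subgroupOf_of_le hGL]; exact hG) hmn (U.subgroupOf L)
    (by intro x hx; exact hUG hx) hAU' (by rw [card_subgroupOf_of_le hUL]; exact hUn)
  refine ⟨H'.map L.subtype, ?_, (card_map_subtype L H').trans hH'card, ?_, ?_⟩
  · rintro x ⟨h, hh, rfl⟩
    exact hH'G hh
  · intro a ha
    have h1 : (⟨a, hAL ha⟩ : L) ∈ Subgroup.normalizer (H' : Set L) := hAH' (by
      rw [Subgroup.mem_subgroupOf]; exact ha)
    exact Subgroup.le_normalizer_map L.subtype ⟨_, h1, rfl⟩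
  · intro u hu
    exact ⟨⟨u, hUL hu⟩, hUH' (by rw [Subgroup.mem_subgroupOf]; exact hu), rfl⟩

end

/-- splitting a positive number into its `π`-part and `π'`-part -/
theorem exists_pi_split (π : Set ℕ) (N : ℕ) (hN : N ≠ 0) :
    ∃ m n : ℕ, N = m * n ∧ m.Coprime n ∧ (∀ p : ℕ, p.Prime → p ∣ m → p ∈ π) ∧
      (∀ p : ℕ, p.Prime → p ∣ n → p ∉ π) := by
  induction N using Nat.recOnPrimeCoprime with
  | zero => exact absurd rfl hN
  | prime_pow p k hp =>
    by_cases hpπ : p ∈ π
    · refine ⟨p ^ k, 1, by simp, by simp, ?_, ?_⟩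
      · intro q hq hqd
        rwa [(Nat.prime_dvd_prime_iff_eq hq hp).mp (hq.dvd_of_dvd_pow hqd)]
      · intro q hq hqd
        exact absurd (Nat.dvd_one.mp hqd) hq.one_lt.ne'
    · refine ⟨1, p ^ k, by simp, by simp, ?_, ?_⟩
      · intro q hq hqd
        exact absurd (Nat.dvd_one.mp hqd) hq.one_lt.ne'
      · intro q hq hqd
        rwa [(Nat.prime_dvd_prime_iff_eq hq hp).mp (hq.dvd_of_dvd_pow hqd)]
  | coprime a b ha hb hab iha ihb =>
    obtain ⟨m₁, n₁, e₁, c₁, hm₁, hn₁⟩ := iha (by omega)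
    obtain ⟨m₂, n₂, e₂, c₂, hm₂, hn₂⟩ := ihb (by omega)
    have hab' : (m₁ * n₁).Coprime (m₂ * n₂) := by rw [← e₁, ← e₂]; exact hab
    refine ⟨m₁ * m₂, n₁ * n₂, by rw [e₁, e₂]; ring, ?_, ?_, ?_⟩
    · apply Nat.Coprime.mul_left
      · apply Nat.Coprime.mul_right c₁
        exact Nat.Coprime.coprime_dvd_left (Dvd.intro _ rfl)
          (Nat.Coprime.coprime_dvd_right (Dvd.intro_left _ rfl) hab')
      · apply Nat.Coprime.mul_right _ c₂
        exact (Nat.Coprime.coprime_dvd_left (Dvd.intro_left _ rfl)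
          (Nat.Coprime.coprime_dvd_right (Dvd.intro _ rfl) hab')).symm
    · intro q hq hqd
      rcases (Nat.Prime.dvd_mul hq).mp hqd with h | h
      · exact hm₁ q hq h
      · exact hm₂ q hq h
    · intro q hq hqd
      rcases (Nat.Prime.dvd_mul hq).mp hqd with h | h
      · exact hn₁ q hq h
      · exact hn₂ q hq h

section
variable {X : Type u} [Group X] [Finite X]

/-- Hall `π`-subgroups of `G` are the subgroups of `G` of order the `π`-part of `|G|`. -/
theorem isPiHallOf_iff (π : Set ℕ) (G : Subgroup X) (m n : ℕ) (hG : Nat.card G = m * n)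
    (hmn : m.Coprime n) (hm : ∀ p : ℕ, p.Prime → p ∣ m → p ∈ π)
    (hn : ∀ p : ℕ, p.Prime → p ∣ n → p ∉ π) (H : Subgroup X) :
    Cfsg.IsPiHallOf π H G ↔ H ≤ G ∧ Nat.card H = m := by
  have hGpos : 0 < Nat.card G := Nat.card_pos
  have hmpos : 0 < m := Nat.pos_of_ne_zero (by rintro rfl; simp at hG; omega)
  have hnpos : 0 < n := Nat.pos_of_ne_zero (by rintro rfl; simp at hG; omega)
  constructor
  · rintro ⟨hHG, hπ, hidx⟩
    refine ⟨hHG, ?_⟩
    have h1 : Nat.card H * H.relIndex G = m * n := by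
      have := (H.subgroupOf G).card_mul_index
      rw [card_subgroupOf_of_le hHG] at this
      rw [← hG]; exact this
    have h2 : (Nat.card H).Coprime n :=
      Nat.coprime_of_dvd (fun k hk hkH hkn => hn k hk hkn (hπ k hk hkH))
    have h3 : (H.relIndex G).Coprime m :=
      Nat.coprime_of_dvd (fun k hk hkr hkm => hidx k hk (hm k hk hkm) hkr)
    have h4 : Nat.card H ∣ m := h2.dvd_of_dvd_mul_right ⟨_, h1.symm⟩
    have h5 : H.relIndex G ∣ n := h3.dvd_of_dvd_mul_left ⟨_, (by rw [← h1]; ring)⟩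
    exact (nat_eq_of_dvd_mul_eq h4 h5 h1 hmpos hnpos).1
  · rintro ⟨hHG, hHm⟩
    have h1 : H.relIndex G = n := by
      have := (H.subgroupOf G).card_mul_index
      rw [card_subgroupOf_of_le hHG, hHm, hG] at this
      exact Nat.eq_of_mul_eq_mul_left hmpos this
    refine ⟨hHG, ?_, ?_⟩
    · intro p hp hpd
      rw [hHm] at hpd
      exact hm p hp hpd
    · intro p hp hpπ hpd
      rw [h1] at hpd
      exact hn p hp hpd hpπ

end

end Cfsg.Agent.Lib.Helper7
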