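import Mathlib
import Cfsg.Prelude.Def_Transfer
import Cfsg.Agent.Lib.Lead.PComplement
import Cfsg.Agent.Lib.Helper4.NPC

set_option autoImplicit false

/-!
# Groups with cyclic Sylow `p`-subgroups all of whose `p'`-subgroups are abelian

Basic definitions and inheritance of the hypothesis by subgroups and by quotients modulo normal
`p'`-subgroups.
-/

namespace Cfsg.Agent.Lib.Helper7.CycAb

universe u

/-- Sylow `p`-subgroups are cyclic, subgroups of order prime to `p` are abelian -/
def Hyp (p : ℕ) (G : Type u) [Group G] : Prop :=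
  (∀ P : Sylow p G, IsCyclic (P : Subgroup G)) ∧
    ∀ H : Subgroup G, ¬ p ∣ Nat.card H → IsMulCommutative H

/-- `G` has a normal `p`-complement or a normal Sylow `p`-subgroup -/
def Concl (p : ℕ) (G : Type u) [Group G] : Prop :=
  Cfsg.HasNormalPComplement p G ∨ ∀ P : Sylow p G, (P : Subgroup G).Normal

variable {G : Type u} [Group G]

theorem comm_of {H : Subgroup G} (h : IsMulCommutative H) {a b : G} (ha : a ∈ H) (hb : b ∈ H) :
    a * b = b * a := by
  have := h.is_comm.comm (⟨a, ha⟩ : H) ⟨b, hb⟩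
  exact congrArg (fun t : H => (t : G)) this

theorem isMulCommutative_of {H : Subgroup G} (h : ∀ a ∈ H, ∀ b ∈ H, a * b = b * a) :
    IsMulCommutative H :=
  ⟨⟨fun x y => Subtype.ext (h x x.2 y y.2)⟩⟩

/-- a `p`-subgroup of a group satisfying `Hyp` is cyclic -/
theorem Hyp.isCyclic_of_isPGroup [Finite G] {p : ℕ} [Fact p.Prime] (h : Hyp p G) {Q : Subgroup G}
    (hQ : IsPGroup p Q) : IsCyclic Q := by
  obtain ⟨P, hP⟩ := hQ.exists_le_sylow
  haveI := h.1 P
  exact isCyclic_of_injective (Subgroup.inclusion hP) (Subgroup.inclusion_injective hP)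

theorem Hyp.subgroup [Finite G] {p : ℕ} [Fact p.Prime] (h : Hyp p G) (H : Subgroup G) : Hyp p H := by
  constructor
  · intro Q
    have h1 : IsPGroup p ((Q : Subgroup H).map H.subtype) := Q.isPGroup'.map _
    haveI := h.isCyclic_of_isPGroup h1
    exact isCyclic_of_injective
      ((Q : Subgroup H).equivMapOfInjective H.subtype H.subtype_injective).toMonoidHom
      ((Q : Subgroup H).equivMapOfInjective H.subtype H.subtype_injective).injective
  · intro K hK
    have h1 : Nat.card (K.map H.subtype) = Nat.card K :=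
      (Nat.card_congr (K.equivMapOfInjective H.subtype H.subtype_injective).toEquiv).symm
    have h2 := h.2 (K.map H.subtype) (by rw [h1]; exact hK)
    apply isMulCommutative_of
    intro a ha b hb
    apply Subtype.ext
    exact comm_of h2 (Subgroup.mem_map_of_mem _ ha) (Subgroup.mem_map_of_mem _ hb)

theorem Hyp.quotient [Finite G] {p : ℕ} [Fact p.Prime] (h : Hyp p G) (N : Subgroup G) [N.Normal]
    (hN : ¬ p ∣ Nat.card N) : Hyp p (G ⧸ N) := by
  constructor
  · intro Q
    obtain ⟨P, rfl⟩ := Sylow.mapSurjective_surjective (QuotientGroup.mk'_surjective N) p Q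
    haveI := h.1 P
    rw [Sylow.coe_mapSurjective]
    exact isCyclic_of_surjective ((QuotientGroup.mk' N).subgroupMap (P : Subgroup G))
      (MonoidHom.subgroupMap_surjective _ _)
  · intro K hK
    have hcard : Nat.card (K.comap (QuotientGroup.mk' N)) = Nat.card N * Nat.card K :=
      QuotientGroup.card_preimage_mk N (K : Set (G ⧸ N))
    have hH : ¬ p ∣ Nat.card (K.comap (QuotientGroup.mk' N)) := by
      rw [hcard]; exact Nat.Prime.not_dvd_mul Fact.out hN hK
    have hc := h.2 _ hH
    apply isMulCommutative_of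
    intro a ha b hb
    obtain ⟨a', rfl⟩ := QuotientGroup.mk'_surjective N a
    obtain ⟨b', rfl⟩ := QuotientGroup.mk'_surjective N b
    have := comm_of hc (show a' ∈ K.comap (QuotientGroup.mk' N) from ha)
      (show b' ∈ K.comap (QuotientGroup.mk' N) from hb)
    rw [← map_mul, ← map_mul, this]

/-- a normal `p`-complement of `G ⧸ N`, `N` a normal `p'`-subgroup, lifts to `G` -/
theorem hasNormalPComplement_of_quotient [Finite G] {p : ℕ} [Fact p.Prime] (N : Subgroup G)
    [N.Normal] (hN : ¬ p ∣ Nat.card N) (h : Cfsg.HasNormalPComplement p (G ⧸ N)) :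
    Cfsg.HasNormalPComplement p G := by
  have hp : p.Prime := Fact.out
  obtain ⟨Q, K, hKn, hc⟩ := h
  have h1 : Nat.card K * Nat.card (Q : Subgroup (G ⧸ N)) = Nat.card (G ⧸ N) := hc.card_mul_card
  have h2 : Nat.card (Q : Subgroup (G ⧸ N)) * (Q : Subgroup (G ⧸ N)).index = Nat.card (G ⧸ N) :=
    Subgroup.card_mul_index _
  have h3 : Nat.card K * K.index = Nat.card (G ⧸ N) := Subgroup.card_mul_index _
  have h4 : Nat.card K = (Q : Subgroup (G ⧸ N)).index := by
    have : Nat.card (Q : Subgroup (G ⧸ N)) * Nat.card K =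
        Nat.card (Q : Subgroup (G ⧸ N)) * (Q : Subgroup (G ⧸ N)).index := by rw [h2, mul_comm, h1]
    exact Nat.eq_of_mul_eq_mul_left Nat.card_pos this
  have h5 : K.index = Nat.card (Q : Subgroup (G ⧸ N)) := by
    have : Nat.card K * K.index = Nat.card K * Nat.card (Q : Subgroup (G ⧸ N)) := by rw [h3, h1]
    exact Nat.eq_of_mul_eq_mul_left Nat.card_pos this
  obtain ⟨k, hk⟩ := (IsPGroup.iff_card).mp Q.isPGroup'
  have hcard : Nat.card (K.comap (QuotientGroup.mk' N)) = Nat.card N * Nat.card K :=
    QuotientGroup.card_preimage_mk N (K : Set (G ⧸ N))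
  apply Cfsg.Agent.Lib.Helper4.hasNormalPComplement_of_normal_coprime (K.comap (QuotientGroup.mk' N))
    (hKn.comap _) ?_ k ?_
  · rw [hcard, Nat.coprime_comm, Nat.Prime.coprime_iff_not_dvd hp]
    apply Nat.Prime.not_dvd_mul hp hN
    rw [h4]
    exact Q.not_dvd_index
  · rw [Subgroup.index_comap_of_surjective _ (QuotientGroup.mk'_surjective N), h5, hk]

end Cfsg.Agent.Lib.Helper7.CycAb
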