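import Mathlib
import Cfsg.Agent.Lib.Helper7.CycAb1
import Cfsg.Agent.Lib.Helper7.Meta4

set_option autoImplicit false

/-!
# `p'`-automorphisms of cyclic `p`-groups
-/

namespace Cfsg.Agent.Lib.Helper7.CycAb

universe u

variable {G : Type u} [Group G]

/-- conjugation by `g` acts on a cyclic subgroup it normalizes as a power map -/
theorem exists_zpow_of_normalizes {P : Subgroup G} (hc : IsCyclic P) {g : G}
    (hg : g ∈ Subgroup.normalizer (P : Set G)) :
    ∃ k : ℤ, ∀ x ∈ P, g * x * g⁻¹ = x ^ k := by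
  obtain ⟨⟨c, hcP⟩, hgen⟩ := hc.exists_generator
  have h1 : g * c * g⁻¹ ∈ P := (Subgroup.mem_normalizer_iff.mp hg c).mp hcP
  have h2 := hgen ⟨g * c * g⁻¹, h1⟩
  obtain ⟨k, hk⟩ := Subgroup.mem_zpowers_iff.mp h2
  have hk' : c ^ k = g * c * g⁻¹ := by
    have := congrArg (fun t : P => (t : G)) hk
    simpa using this
  refine ⟨k, fun x hx => ?_⟩
  obtain ⟨i, hi⟩ := Subgroup.mem_zpowers_iff.mp (hgen ⟨x, hx⟩)
  have hi' : c ^ i = x := by
    have := congrArg (fun t : P => (t : G)) hi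
    simpa using this
  rw [← hi']
  have : g * c ^ i * g⁻¹ = (g * c * g⁻¹) ^ i := by
    rw [← MulAut.conj_apply, map_zpow, MulAut.conj_apply]
  rw [this, ← hk', ← zpow_mul, ← zpow_mul, mul_comm]

theorem conj_pow_eq {P : Subgroup G} {g : G} (hg : g ∈ Subgroup.normalizer (P : Set G)) {k : ℤ}
    (hk : ∀ x ∈ P, g * x * g⁻¹ = x ^ k) (j : ℕ) :
    ∀ x ∈ P, g ^ j * x * (g ^ j)⁻¹ = x ^ (k ^ j) := by
  induction j with
  | zero => intro x _; simp
  | succ j ih =>
    intro x hx
    have h1 : g ^ (j + 1) * x * (g ^ (j + 1))⁻¹ = g * (g ^ j * x * (g ^ j)⁻¹) * g⁻¹ := by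
      rw [pow_succ']; group
    rw [h1, ih x hx, hk _ (Subgroup.zpow_mem _ hx _), ← zpow_mul, pow_succ]

/-- a `p'`-element normalizing a cyclic `p`-subgroup either centralizes it or acts without fixed
points, in which case every element is a commutator -/
theorem cyc_aut [Finite G] {p : ℕ} [hp : Fact p.Prime] {P : Subgroup G} (hc : IsCyclic P)
    (hP : IsPGroup p P) {g : G} (hg : g ∈ Subgroup.normalizer (P : Set G))
    (hcop : (orderOf g).Coprime p) :
    g ∈ Subgroup.centralizer (P : Set G) ∨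
      ((∀ x ∈ P, g * x * g⁻¹ = x → x = 1) ∧ ∀ y ∈ P, ∃ x ∈ P, y = g * x * g⁻¹ * x⁻¹) := by
  obtain ⟨k, hk⟩ := exists_zpow_of_normalizes hc hg
  obtain ⟨a, ha⟩ := (IsPGroup.iff_card).mp hP
  by_cases hdiv : (p : ℤ) ∣ k - 1
  · left
    have h1 : (p : ℤ) ^ (a + 1) ∣ k ^ p ^ a - 1 ^ p ^ a := dvd_sub_pow_of_dvd_sub hdiv a
    rw [one_pow] at h1
    have h2 : ((p ^ a : ℕ) : ℤ) ∣ k ^ p ^ a - 1 := by
      refine dvd_trans ?_ h1
      rw [Nat.cast_pow, pow_succ]
      exact dvd_mul_right _ _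
    have h3 : ∀ x ∈ P, g ^ p ^ a * x * (g ^ p ^ a)⁻¹ = x := by
      intro x hx
      rw [conj_pow_eq hg hk (p ^ a) x hx]
      have h4 : (orderOf x : ℤ) ∣ k ^ p ^ a - 1 := by
        refine dvd_trans ?_ h2
        rw [← ha]
        have := Subgroup.orderOf_dvd_natCard P hx
        exact_mod_cast this
      have h5 : x ^ (k ^ p ^ a - 1) = 1 := orderOf_dvd_iff_zpow_eq_one.mp h4
      calc x ^ (k ^ p ^ a) = x ^ (k ^ p ^ a - 1 + 1) := by rw [sub_add_cancel]
        _ = x := by rw [zpow_add, h5, one_mul, zpow_one]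
    obtain ⟨m, hm⟩ := exists_pow_eq_self_of_coprime (x := g) (n := p ^ a)
      ((Nat.Coprime.pow_left a hcop.symm))
    rw [Subgroup.mem_centralizer_iff]
    intro x hx
    have h6 : ∀ m : ℕ, (g ^ p ^ a) ^ m * x * ((g ^ p ^ a) ^ m)⁻¹ = x := by
      intro m
      induction m with
      | zero => simp
      | succ m ih =>
        have : (g ^ p ^ a) ^ (m + 1) * x * ((g ^ p ^ a) ^ (m + 1))⁻¹ =
            g ^ p ^ a * ((g ^ p ^ a) ^ m * x * ((g ^ p ^ a) ^ m)⁻¹) * (g ^ p ^ a)⁻¹ := by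
          rw [pow_succ']; group
        rw [this, ih, h3 x hx]
    have h7 := h6 m
    rw [hm] at h7
    calc x * g = (g * x * g⁻¹) * g := by rw [h7]
      _ = g * x := by group
  · right
    have key : ∀ x ∈ P, x ^ (k - 1) = 1 → x = 1 := by
      intro x hx h1
      have h2 : (orderOf x : ℤ) ∣ k - 1 := orderOf_dvd_iff_zpow_eq_one.mpr h1
      obtain ⟨j, hj⟩ := hP ⟨x, hx⟩
      have hj' : x ^ p ^ j = 1 := by
        have := congrArg (fun t : P => (t : G)) hj
        simpa using this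
      obtain ⟨i, -, hi⟩ := (Nat.dvd_prime_pow hp.out).mp (orderOf_dvd_of_pow_eq_one hj')
      rcases Nat.eq_zero_or_pos i with h0 | h0
      · rw [h0, pow_zero] at hi
        exact orderOf_eq_one_iff.mp hi
      · exfalso
        apply hdiv
        refine dvd_trans ?_ h2
        rw [hi]
        exact_mod_cast dvd_pow_self p h0.ne'
    have hcomm : IsMulCommutative P := Cfsg.Agent.Lib.Helper7.Meta.comm_of_isCyclic hc
    have hform : ∀ x ∈ P, g * x * g⁻¹ * x⁻¹ = x ^ (k - 1) := by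
      intro x hx
      rw [hk x hx, zpow_sub, zpow_one]
    constructor
    · intro x hx hfix
      apply key x hx
      rw [← hform x hx, hfix, mul_inv_cancel]
    · let f : P → P := fun x => ⟨g * (x : G) * g⁻¹ * (x : G)⁻¹, by
        rw [hform _ x.2]; exact Subgroup.zpow_mem _ x.2 _⟩
      have hinj : Function.Injective f := by
        intro x y hxy
        have h1 : (x : G) ^ (k - 1) = (y : G) ^ (k - 1) := by
          have := congrArg (fun t : P => (t : G)) hxy
          simp only [f] at this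
          rwa [hform _ x.2, hform _ y.2] at this
        have h2 : Commute (x : G) ((y : G)⁻¹) := comm_of hcomm x.2 (P.inv_mem y.2)
        have h3 : ((x : G) * (y : G)⁻¹) ^ (k - 1) = 1 := by
          rw [h2.mul_zpow, inv_zpow, h1, mul_inv_cancel]
        have h4 := key _ (P.mul_mem x.2 (P.inv_mem y.2)) h3
        apply Subtype.ext
        exact mul_inv_eq_one.mp h4
      have hsurj : Function.Surjective f := Finite.injective_iff_surjective.mp hinj
      intro y hy
      obtain ⟨x, hx⟩ := hsurj ⟨y, hy⟩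
      refine ⟨x, x.2, ?_⟩
      have := congrArg (fun t : P => (t : G)) hx
      simpa [f] using this.symm

end Cfsg.Agent.Lib.Helper7.CycAb
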