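import Mathlib

set_option autoImplicit false

namespace Cfsg.Agent.Lib.Helper7

namespace CM

open scoped commutatorElement Pointwise

variable {G : Type*} [Group G]

/-- the image of a maximal subgroup containing `N` is maximal in `G ⧸ N` -/
theorem isCoatom_map_mk (N : Subgroup G) [N.Normal] {M : Subgroup G} (hNM : N ≤ M)
    (hM : IsCoatom M) : IsCoatom (M.map (QuotientGroup.mk' N)) := by
  have hsurj : Function.Surjective (QuotientGroup.mk' N) := QuotientGroup.mk'_surjective N
  have hker : (QuotientGroup.mk' N).ker ≤ M := by rw [QuotientGroup.ker_mk']; exact hNM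
  have hcm : (M.map (QuotientGroup.mk' N)).comap (QuotientGroup.mk' N) = M :=
    Subgroup.comap_map_eq_self hker
  refine ⟨?_, ?_⟩
  · intro h
    apply hM.1
    rw [← hcm, h, Subgroup.comap_top]
  · intro H hH
    have h1 : M ≤ H.comap (QuotientGroup.mk' N) := by
      rw [← hcm]; exact Subgroup.comap_mono hH.le
    have h2 : M ≠ H.comap (QuotientGroup.mk' N) := by
      intro h
      apply hH.ne
      rw [h, Subgroup.map_comap_eq_self_of_surjective hsurj]
    have h3 := hM.2 _ (lt_of_le_of_ne h1 h2)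
    rw [← Subgroup.map_comap_eq_self_of_surjective hsurj H, h3,
      Subgroup.map_top_of_surjective _ hsurj]

theorem comap_map_mk (N : Subgroup G) [N.Normal] {M : Subgroup G} (hNM : N ≤ M) :
    (M.map (QuotientGroup.mk' N)).comap (QuotientGroup.mk' N) = M := by
  apply Subgroup.comap_map_eq_self
  rw [QuotientGroup.ker_mk']; exact hNM

theorem mem_map_mk_iff (N : Subgroup G) [N.Normal] {M : Subgroup G} (hNM : N ≤ M) (g : G) :
    (QuotientGroup.mk' N) g ∈ M.map (QuotientGroup.mk' N) ↔ g ∈ M := by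
  rw [← Subgroup.mem_comap, comap_map_mk N hNM]

/-- a normal maximal subgroup of a finite group has prime index -/
theorem index_prime_of_normal_coatom [Finite G] {M : Subgroup G} [M.Normal] (hM : IsCoatom M) :
    M.index.Prime := by
  have hne : Nat.card (G ⧸ M) ≠ 1 := by
    intro h
    apply hM.1
    rw [← Subgroup.index_eq_one]; exact h
  obtain ⟨p, hp, hpd⟩ := Nat.exists_prime_and_dvd hne
  haveI : Fact p.Prime := ⟨hp⟩
  obtain ⟨u, hu⟩ := exists_prime_orderOf_dvd_card' p hpd
  have hsurj : Function.Surjective (QuotientGroup.mk' M) := QuotientGroup.mk'_surjective M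
  set H := (Subgroup.zpowers u).comap (QuotientGroup.mk' M) with hH
  have h1 : M ≤ H := by
    intro m hm
    rw [hH, Subgroup.mem_comap]
    have : (QuotientGroup.mk' M) m = 1 := (QuotientGroup.eq_one_iff m).mpr hm
    rw [this]; exact one_mem _
  have h2 : M ≠ H := by
    intro h
    obtain ⟨g, rfl⟩ := hsurj u
    have hg : g ∈ H := by
      rw [hH, Subgroup.mem_comap]; exact Subgroup.mem_zpowers _
    rw [← h] at hg
    have h3 : (QuotientGroup.mk' M) g = 1 := (QuotientGroup.eq_one_iff g).mpr hg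
    rw [h3, orderOf_one] at hu
    exact hp.one_lt.ne hu
  have h3 := hM.2 _ (lt_of_le_of_ne h1 h2)
  have h4 : Subgroup.zpowers u = ⊤ := by
    rw [← Subgroup.map_comap_eq_self_of_surjective hsurj (Subgroup.zpowers u), ← hH, h3,
      Subgroup.map_top_of_surjective _ hsurj]
  have h5 : Nat.card (G ⧸ M) = p := by
    rw [← hu, ← Nat.card_zpowers, h4, Subgroup.card_top]
  show Nat.card (G ⧸ M) |>.Prime
  rw [h5]; exact hp

/-- commutators lie in a normal maximal subgroup -/
theorem commutator_mem_of_normal_coatom [Finite G] {M : Subgroup G} [M.Normal] (hM : IsCoatom M)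
    (g h : G) : ⁅g, h⁆ ∈ M := by
  have hp := index_prime_of_normal_coatom hM
  haveI : Fact M.index.Prime := ⟨hp⟩
  haveI : IsCyclic (G ⧸ M) := isCyclic_of_prime_card (p := M.index) rfl
  rw [← QuotientGroup.eq_one_iff, commutatorElement_def]
  simp only [QuotientGroup.mk_mul, QuotientGroup.mk_inv]
  have hc : ∀ u v : G ⧸ M, u * v = v * u := fun u v => IsCyclic.commGroup.mul_comm u v
  rw [hc (g : G ⧸ M) (h : G ⧸ M)]
  group

/-- class two power identity -/
theorem commute_pow_of_central_commutator {x g : G} (hc : ∀ y : G, ⁅x, g⁆ * y = y * ⁅x, g⁆)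
    (n : ℕ) (h : x * g ^ n = g ^ n * x) : x ^ n * g = g * x ^ n := by
  set c := ⁅x, g⁆ with hcdef
  have hxg : x * g = c * g * x := by rw [hcdef, commutatorElement_def]; group
  have h1 : ∀ k : ℕ, x * g ^ k = c ^ k * g ^ k * x := by
    intro k
    induction k with
    | zero => simp
    | succ k ih =>
      have hck : ∀ y : G, c ^ k * y = y * c ^ k := fun y =>
        ((Commute.pow_left (show Commute c y from hc y) k)).eq
      calc x * g ^ (k + 1) = (x * g ^ k) * g := by rw [pow_succ]; group
        _ = c ^ k * g ^ k * (x * g) := by rw [ih]; group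
        _ = c ^ k * g ^ k * (c * g * x) := by rw [hxg]
        _ = c ^ k * (g ^ k * c) * g * x := by group
        _ = c ^ k * (c * g ^ k) * g * x := by rw [hc (g ^ k)]
        _ = c ^ (k + 1) * g ^ (k + 1) * x := by rw [pow_succ, pow_succ]; group
  have h2 : ∀ k : ℕ, x ^ k * g = c ^ k * g * x ^ k := by
    intro k
    induction k with
    | zero => simp
    | succ k ih =>
      calc x ^ (k + 1) * g = x ^ k * (x * g) := by rw [pow_succ]; group
        _ = x ^ k * (c * g * x) := by rw [hxg]
        _ = (x ^ k * c) * g * x := by group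
        _ = (c * x ^ k) * g * x := by rw [hc (x ^ k)]
        _ = c * (x ^ k * g) * x := by group
        _ = c * (c ^ k * g * x ^ k) * x := by rw [ih]
        _ = c ^ (k + 1) * g * x ^ (k + 1) := by rw [pow_succ, pow_succ]; rw [← hc (c ^ k)]; group
  have h3 : c ^ n = 1 := by
    have := h1 n
    rw [h] at this
    have h4 : g ^ n * x = c ^ n * (g ^ n * x) := by rw [← mul_assoc]; exact this
    exact (mul_eq_right.mp h4.symm)
  rw [h2 n, h3, one_mul]

/-- if `L` is a nontrivial normal `r`-subgroup, `M` a nontrivial maximal subgroup that is a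
`p`-group with `p ≠ r`, then every maximal `q`-subgroup with `q ≠ p` equals `L` -/
theorem coatom_eq_of_pgroups [Finite G] {p q r : ℕ} (hp : p.Prime) (hq : q.Prime) (hr : r.Prime)
    (hpq : p ≠ q) (hpr : p ≠ r) {L M W : Subgroup G} [L.Normal] (hL : IsPGroup r L) (hL1 : L ≠ ⊥)
    (hM : IsCoatom M) (hMp : IsPGroup p M) (hM1 : M ≠ ⊥) (hW : IsCoatom W) (hWq : IsPGroup q W) :
    W = L := by
  haveI : Fact p.Prime := ⟨hp⟩
  haveI : Fact q.Prime := ⟨hq⟩
  haveI : Fact r.Prime := ⟨hr⟩
  have hLM : L ⊓ M = ⊥ := by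
    rw [← disjoint_iff]
    exact IsPGroup.disjoint_of_ne r p (Ne.symm hpr) L M hL hMp
  have hLnM : ¬ L ≤ M := by
    intro h
    apply hL1
    rw [← hLM]; exact le_antisymm (le_inf le_rfl h) inf_le_left
  have hsup : M ⊔ L = ⊤ := by
    apply hM.2
    apply lt_of_le_of_ne le_sup_left
    intro h
    apply hLnM
    rw [h]; exact le_sup_right
  -- the quotient by L is a p-group
  have hquot : ∀ g : G, ∃ k : ℕ, g ^ p ^ k ∈ L := by
    intro g
    have hg : g ∈ M ⊔ L := by rw [hsup]; trivial
    have hset : ((M ⊔ L : Subgroup G) : Set G) = (M : Set G) * (L : Set G) :=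
      Subgroup.mul_normal M L
    have hg' : g ∈ (M : Set G) * (L : Set G) := by rw [← hset]; exact hg
    obtain ⟨m, hm, l, hl, rfl⟩ := Set.mem_mul.mp hg'
    obtain ⟨k, hk⟩ := hMp ⟨m, hm⟩
    refine ⟨k, ?_⟩
    rw [← QuotientGroup.eq_one_iff]
    have h1 : ((m * l : G) : G ⧸ L) = (m : G ⧸ L) := by
      rw [QuotientGroup.mk_mul, (QuotientGroup.eq_one_iff l).mpr hl, mul_one]
    rw [QuotientGroup.mk_pow, h1, ← QuotientGroup.mk_pow]
    have : m ^ p ^ k = 1 := congrArg Subtype.val hk
    rw [this]; rfl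
  have hWL : W ≤ L := by
    intro u hu
    obtain ⟨k, hk⟩ := hquot u
    obtain ⟨j, hj⟩ := hWq ⟨u, hu⟩
    have hj' : u ^ q ^ j = 1 := congrArg Subtype.val hj
    have hcop : Nat.Coprime (p ^ k) (q ^ j) :=
      Nat.Coprime.pow _ _ ((Nat.coprime_primes hp hq).mpr hpq)
    rw [← QuotientGroup.eq_one_iff] at hk ⊢
    have h1 : orderOf (u : G ⧸ L) ∣ p ^ k := by
      apply orderOf_dvd_of_pow_eq_one
      rw [← QuotientGroup.mk_pow]; exact hk
    have h2 : orderOf (u : G ⧸ L) ∣ q ^ j := by
      apply orderOf_dvd_of_pow_eq_one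
      rw [← QuotientGroup.mk_pow, hj']; rfl
    have h3 : orderOf (u : G ⧸ L) ∣ 1 := by
      rw [← hcop]; exact Nat.dvd_gcd h1 h2
    exact orderOf_eq_one_iff.mp (Nat.dvd_one.mp h3)
  have hLtop : L ≠ ⊤ := by
    intro h
    apply hM1
    rw [← hLM, h, top_inf_eq]
  rcases eq_or_lt_of_le hWL with h | h
  · exact h
  · exact absurd (hW.2 _ h) hLtop

end CM

end Cfsg.Agent.Lib.Helper7
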