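import Mathlib
import Cfsg.Agent.Lib.Helper7.CM1

set_option autoImplicit false

namespace Cfsg.Agent.Lib.Helper7

namespace CM

variable {G : Type*} [Group G]

/-- centralizers of noncentral elements are maximal subgroups -/
def IsCM (G : Type*) [Group G] : Prop :=
  ∀ x : G, x ∉ Subgroup.center G → IsCoatom (Subgroup.centralizer ({x} : Set G))

/-- centralizer of an element -/
abbrev Cen (x : G) : Subgroup G := Subgroup.centralizer ({x} : Set G)

theorem mem_Cen {x g : G} : g ∈ Cen x ↔ g * x = x * g := Subgroup.mem_centralizer_singleton_iff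

theorem self_mem_Cen (x : G) : x ∈ Cen x := mem_Cen.mpr rfl

theorem center_le_Cen (x : G) : Subgroup.center G ≤ Cen x := by
  intro z hz
  rw [mem_Cen]
  exact ((Subgroup.mem_center_iff.mp hz) x).symm

theorem Cen_ne_top {x : G} (hx : x ∉ Subgroup.center G) : Cen x ≠ ⊤ := by
  intro h
  apply hx
  have := Subgroup.centralizer_eq_top_iff_subset.mp h
  exact this (Set.mem_singleton x)

theorem Cen_eq_of_le (h : IsCM G) {x y : G} (hx : x ∉ Subgroup.center G)
    (hy : y ∉ Subgroup.center G) (hle : Cen x ≤ Cen y) : Cen x = Cen y := by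
  rcases eq_or_lt_of_le hle with h1 | h1
  · exact h1
  · exact absurd ((h x hx).2 _ h1) (Cen_ne_top hy)

theorem Cen_mul_central (x : G) {z : G} (hz : z ∈ Subgroup.center G) : Cen (x * z) = Cen x := by
  ext g
  rw [mem_Cen, mem_Cen]
  have h1 : ∀ y : G, y * z = z * y := fun y => Subgroup.mem_center_iff.mp hz y
  constructor
  · intro h
    have : g * x * z = x * g * z := by
      calc g * x * z = g * (x * z) := by group
        _ = x * z * g := h
        _ = x * (z * g) := by group
        _ = x * (g * z) := by rw [h1 g]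
        _ = x * g * z := by group
    exact mul_right_cancel this
  · intro h
    calc g * (x * z) = g * x * z := by group
      _ = x * g * z := by rw [h]
      _ = x * (g * z) := by group
      _ = x * (z * g) := by rw [h1 g]
      _ = x * z * g := by group

theorem Cen_le_Cen_pow (x : G) (k : ℕ) : Cen x ≤ Cen (x ^ k) := by
  intro g hg
  rw [mem_Cen] at hg ⊢
  exact ((show Commute g x from hg).pow_right k).eq

theorem Cen_pow (h : IsCM G) {x : G} {k : ℕ} (hx : x ∉ Subgroup.center G)
    (hxk : x ^ k ∉ Subgroup.center G) : Cen (x ^ k) = Cen x :=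
  (Cen_eq_of_le h hx hxk (Cen_le_Cen_pow x k)).symm

theorem key_iff (h : IsCM G) {x : G} (hx : x ∉ Subgroup.center G) {a b : G}
    (haA : a ∈ Subgroup.centralizer (Cen x : Set G)) (haZ : a ∉ Subgroup.center G)
    (hbM : b ∈ Cen x) (hbA : b ∉ Subgroup.centralizer (Cen x : Set G)) (k : ℕ) :
    a ^ k ∈ Subgroup.center G ↔ b ^ k ∈ Subgroup.center G := by
  have hCa : Cen x = Cen a := by
    apply Cen_eq_of_le h hx haZ
    intro m hm
    rw [mem_Cen]
    exact (Subgroup.mem_centralizer_iff.mp haA) m hm
  have hne : ∀ c : G, c ∉ Subgroup.centralizer (Cen x : Set G) → Cen c ≠ Cen x := by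
    intro c hc hcc
    apply hc
    rw [Subgroup.mem_centralizer_iff]
    intro m hm
    have : m ∈ Cen c := by rw [hcc]; exact hm
    exact mem_Cen.mp this
  have hZA : ∀ z : G, z ∈ Subgroup.center G → z ∈ Subgroup.centralizer (Cen x : Set G) := by
    intro z hz
    rw [Subgroup.mem_centralizer_iff]
    intro m _
    exact Subgroup.mem_center_iff.mp hz m
  have hbZ : b ∉ Subgroup.center G := fun hb => hbA (hZA b hb)
  have hab : Commute a b := ((Subgroup.mem_centralizer_iff.mp haA) b hbM).symm
  set c := a * b with hc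
  have hcA : c ∉ Subgroup.centralizer (Cen x : Set G) := by
    intro hcA
    apply hbA
    have : b = a⁻¹ * c := by rw [hc]; group
    rw [this]
    exact Subgroup.mul_mem _ (Subgroup.inv_mem _ haA) hcA
  have hcZ : c ∉ Subgroup.center G := fun h0 => hcA (hZA c h0)
  have hck : c ^ k = a ^ k * b ^ k := hab.mul_pow k
  constructor
  · intro ha
    by_contra hb
    have hck' : c ^ k = b ^ k * a ^ k := by rw [hck]; exact ((hab.pow_pow k k)).eq
    have hckZ : c ^ k ∉ Subgroup.center G := by
      intro h0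
      apply hb
      have : b ^ k = (a ^ k)⁻¹ * c ^ k := by rw [hck]; group
      rw [this]
      exact Subgroup.mul_mem _ (Subgroup.inv_mem _ ha) h0
    have h1 : Cen c = Cen b := by
      rw [← Cen_pow h hcZ hckZ, hck', Cen_mul_central _ ha, Cen_pow h hbZ hb]
    have h2 : Cen b ≤ Cen a := by
      intro g hg
      have hgc : g ∈ Cen c := by rw [h1]; exact hg
      rw [mem_Cen] at hg hgc ⊢
      have hg' : g * b⁻¹ = b⁻¹ * g := by
        have : b⁻¹ * (g * b) * b⁻¹ = b⁻¹ * (b * g) * b⁻¹ := by rw [hg]
        calc g * b⁻¹ = b⁻¹ * (b * g) * b⁻¹ := by group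
          _ = b⁻¹ * (g * b) * b⁻¹ := by rw [hg]
          _ = b⁻¹ * g := by group
      calc g * a = g * (a * b) * b⁻¹ := by group
        _ = a * b * g * b⁻¹ := by rw [hgc]
        _ = a * b * (g * b⁻¹) := by group
        _ = a * b * (b⁻¹ * g) := by rw [hg']
        _ = a * g := by group
    rw [← hCa] at h2
    exact hne b hbA (Cen_eq_of_le h hbZ hx h2)
  · intro hb
    by_contra ha
    have hckZ : c ^ k ∉ Subgroup.center G := by
      intro h0
      apply ha
      have : a ^ k = c ^ k * (b ^ k)⁻¹ := by rw [hck]; group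
      rw [this]
      exact Subgroup.mul_mem _ h0 (Subgroup.inv_mem _ hb)
    have h1 : Cen c = Cen x := by
      rw [← Cen_pow h hcZ hckZ, hck, Cen_mul_central _ hb, Cen_pow h haZ ha, hCa]
    exact hne c hcA h1

/-- a nonabelian centralizer in a CM-group has prime exponent modulo the center -/
theorem exists_prime_exponent [Finite G] (h : IsCM G) {x : G} (hx : x ∉ Subgroup.center G)
    (hna : ∃ u ∈ Cen x, ∃ v ∈ Cen x, u * v ≠ v * u) :
    ∃ p : ℕ, p.Prime ∧ ∀ g ∈ Cen x, g ^ p ∈ Subgroup.center G := by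
  obtain ⟨u, hu, v, hv, huv⟩ := hna
  have huA : u ∉ Subgroup.centralizer (Cen x : Set G) := by
    intro h0
    exact huv ((Subgroup.mem_centralizer_iff.mp h0) v hv).symm
  have hxA : x ∈ Subgroup.centralizer (Cen x : Set G) := by
    rw [Subgroup.mem_centralizer_iff]
    intro m hm
    exact mem_Cen.mp hm
  set n := orderOf ((x : G) : G ⧸ Subgroup.center G) with hn
  have hnpos : 0 < n := orderOf_pos _
  have hn1 : n ≠ 1 := by
    intro h0
    apply hx
    rw [hn, orderOf_eq_one_iff, QuotientGroup.eq_one_iff] at h0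
    exact h0
  have hpow : ∀ k : ℕ, x ^ k ∈ Subgroup.center G ↔ n ∣ k := by
    intro k
    rw [hn, orderOf_dvd_iff_pow_eq_one, ← QuotientGroup.mk_pow, QuotientGroup.eq_one_iff]
  have hp : n.minFac.Prime := Nat.minFac_prime hn1
  set p := n.minFac with hpdef
  obtain ⟨m, hm⟩ : p ∣ n := Nat.minFac_dvd n
  have hmpos : 0 < m := by
    rcases Nat.eq_zero_or_pos m with h0 | h0
    · rw [h0, mul_zero] at hm; omega
    · exact h0
  have hxp : x ^ p ∈ Subgroup.center G := by
    by_contra hy
    have hyA : x ^ p ∈ Subgroup.centralizer (Cen x : Set G) := Subgroup.pow_mem _ hxA p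
    have h1 : (x ^ p) ^ m ∈ Subgroup.center G := by
      rw [← pow_mul, ← hm, hpow]
    have h2 := (key_iff h hx hyA hy hu huA m).mp h1
    have h3 := (key_iff h hx hxA hx hu huA m).mpr h2
    rw [hpow] at h3
    have h4 := Nat.le_of_dvd hmpos h3
    have h5 : 2 ≤ p := hp.two_le
    have h6 : 2 * m ≤ p * m := Nat.mul_le_mul_right m h5
    omega
  have hup : u ^ p ∈ Subgroup.center G := (key_iff h hx hxA hx hu huA p).mp hxp
  refine ⟨p, hp, ?_⟩
  intro g hg
  by_cases hgA : g ∈ Subgroup.centralizer (Cen x : Set G)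
  · by_cases hgZ : g ∈ Subgroup.center G
    · exact Subgroup.pow_mem _ hgZ p
    · exact (key_iff h hx hgA hgZ hu huA p).mpr hup
  · exact (key_iff h hx hxA hx hg hgA p).mp hxp

end CM

end Cfsg.Agent.Lib.Helper7
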