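import Mathlib

set_option autoImplicit false

/-! Abstract norm computation: if commuting automorphisms `γ, δ` of an abelian group have
`γ ^ p = 1` and the norms of `γ` and of all `δ γ^i` at `c` lie in a subgroup fixed by `δ`,
then `c ^ p` lies in that subgroup. -/

namespace Cfsg.Agent.Lib.Helper7.TwoCS

section abstract

variable {A : Type*} [CommGroup A]

/-- the norm `c · φ(c) ⋯ φ^{p-1}(c)` -/
def Nm (p : ℕ) (φ : MulAut A) (c : A) : A := ∏ k ∈ Finset.range p, (φ ^ k) c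

theorem pow_apply_fixed (δ : MulAut A) {ζ : A} (h : δ ζ = ζ) (k : ℕ) : (δ ^ k) ζ = ζ := by
  induction k with
  | zero => simp
  | succ n ih => rw [pow_succ, MulAut.mul_apply, h, ih]

theorem reindex {p : ℕ} (hp : p.Prime) (φ : MulAut A) (hφ : φ ^ p = 1) {k : ℕ} (hk1 : 1 ≤ k)
    (hkp : k < p) (c : A) :
    ∏ i ∈ Finset.range p, (φ ^ (i * k)) c = Nm p φ c := by
  unfold Nm
  have hcop : Nat.Coprime k p := by
    rw [Nat.coprime_comm, Nat.Prime.coprime_iff_not_dvd hp]
    intro h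
    exact absurd (Nat.le_of_dvd (by omega) h) (by omega)
  obtain ⟨k', -, hk'⟩ := Nat.exists_mul_mod_eq_one_of_coprime hcop hp.one_lt
  have hpos : 0 < p := hp.pos
  have hmod : ∀ n : ℕ, φ ^ n = φ ^ (n % p) := fun n => pow_eq_pow_mod n hφ
  refine Finset.prod_nbij' (fun i => (i * k) % p) (fun j => (j * k') % p) ?_ ?_ ?_ ?_ ?_
  · intro i _
    exact Finset.mem_range.mpr (Nat.mod_lt _ hpos)
  · intro j _
    exact Finset.mem_range.mpr (Nat.mod_lt _ hpos)
  · intro i hi
    have hi' := Finset.mem_range.mp hi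
    show ((i * k) % p * k') % p = i
    rw [Nat.mod_mul_mod, mul_assoc]
    calc (i * (k * k')) % p = ((i % p) * ((k * k') % p)) % p := Nat.mul_mod _ _ _
      _ = (i * 1) % p := by rw [hk', Nat.mod_eq_of_lt hi']
      _ = i := by rw [mul_one, Nat.mod_eq_of_lt hi']
  · intro j hj
    have hj' := Finset.mem_range.mp hj
    show ((j * k') % p * k) % p = j
    rw [Nat.mod_mul_mod, mul_assoc, mul_comm k' k]
    calc (j * (k * k')) % p = ((j % p) * ((k * k') % p)) % p := Nat.mul_mod _ _ _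
      _ = (j * 1) % p := by rw [hk', Nat.mod_eq_of_lt hj']
      _ = j := by rw [mul_one, Nat.mod_eq_of_lt hj']
  · intro i _
    show (φ ^ (i * k)) c = (φ ^ ((i * k) % p)) c
    rw [← hmod]

theorem norm_trick {p : ℕ} (hp : p.Prime) (γ δ : MulAut A) (hcomm : Commute δ γ) (hγ : γ ^ p = 1)
    (Zs : Subgroup A) (hδ : ∀ ζ ∈ Zs, δ ζ = ζ) (c : A) (h1 : Nm p γ c ∈ Zs)
    (h2 : ∀ i < p, Nm p (δ * γ ^ i) c ∈ Zs) : c ^ p ∈ Zs := by
  have key : ∏ i ∈ Finset.range p, Nm p (δ * γ ^ i) c = c ^ p * (Nm p γ c) ^ (p - 1) := by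
    have e1 : ∀ i ∈ Finset.range p, Nm p (δ * γ ^ i) c =
        ∏ k ∈ Finset.range p, (δ ^ k) ((γ ^ (i * k)) c) := by
      intro i _
      unfold Nm
      apply Finset.prod_congr rfl
      intro k _
      rw [(hcomm.pow_right i).mul_pow, ← pow_mul, MulAut.mul_apply]
    rw [Finset.prod_congr rfl e1, Finset.prod_comm]
    have e2 : ∀ k ∈ Finset.range p, ∏ i ∈ Finset.range p, (δ ^ k) ((γ ^ (i * k)) c) =
        if k = 0 then c ^ p else Nm p γ c := by
      intro k hk
      have hk' := Finset.mem_range.mp hk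
      by_cases hk0 : k = 0
      · subst hk0
        simp
      · rw [if_neg hk0, ← map_prod, reindex hp γ hγ (Nat.one_le_iff_ne_zero.mpr hk0) hk' c]
        exact pow_apply_fixed δ (hδ _ h1) k
    rw [Finset.prod_congr rfl e2]
    obtain ⟨n, rfl⟩ : ∃ n, p = n + 1 := ⟨p - 1, by have := hp.pos; omega⟩
    rw [Finset.prod_range_succ']
    simp only [if_true, Nat.add_one_ne_zero, if_false, Finset.prod_const, Finset.card_range,
      Nat.add_sub_cancel]
    rw [mul_comm]
  have h3 : ∏ i ∈ Finset.range p, Nm p (δ * γ ^ i) c ∈ Zs :=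
    Subgroup.prod_mem Zs (fun i hi => h2 i (Finset.mem_range.mp hi))
  have h4 : c ^ p = (∏ i ∈ Finset.range p, Nm p (δ * γ ^ i) c) * ((Nm p γ c) ^ (p - 1))⁻¹ := by
    rw [key, mul_inv_cancel_right]
  rw [h4]
  exact Zs.mul_mem h3 (Zs.inv_mem (Zs.pow_mem h1 _))

end abstract

end Cfsg.Agent.Lib.Helper7.TwoCS
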