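import Mathlib
import Cfsg.Agent.Lib.Helper7.CM2
import Cfsg.Agent.Lib.Helper7.TwoCS1

set_option autoImplicit false

/-! Groups in which all noncentral classes have the same size: basic lemmas, and the `p`-group case
(`P / Z(P)` has exponent `p`, Isaacs). -/

namespace Cfsg.Agent.Lib.Helper7.TwoCS

open Cfsg.Agent.Lib.Helper7.CM

variable {G : Type*} [Group G]

/-- all noncentral elements have centralizers of index `n` -/
def IsEC (G : Type*) [Group G] (n : ℕ) : Prop :=
  ∀ x : G, x ∉ Subgroup.center G → (Cen x).index = n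

theorem IsEC.Cen_eq_of_le [Finite G] {n : ℕ} (h : IsEC G n) {x y : G} (hx : x ∉ Subgroup.center G)
    (hy : y ∉ Subgroup.center G) (hle : Cen x ≤ Cen y) : Cen x = Cen y := by
  apply le_antisymm hle
  have h1 := Subgroup.relIndex_mul_index hle
  rw [h x hx, h y hy] at h1
  have hn : n ≠ 0 := by rw [← h x hx]; exact Subgroup.index_ne_zero_of_finite
  have h2 : (Cen x).relIndex (Cen y) = 1 :=
    Nat.eq_of_mul_eq_mul_right (Nat.pos_of_ne_zero hn) (by rw [h1, one_mul])
  exact Subgroup.relIndex_eq_one.mp h2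

theorem IsEC.Cen_pow [Finite G] {n : ℕ} (h : IsEC G n) {x : G} {k : ℕ}
    (hxk : x ^ k ∉ Subgroup.center G) : Cen (x ^ k) = Cen x := by
  have hx : x ∉ Subgroup.center G := fun h0 => hxk ((Subgroup.center G).pow_mem h0 k)
  exact (h.Cen_eq_of_le hx hxk (Cen_le_Cen_pow x k)).symm

/-- a noncentral element of a finite `p`-group, central modulo the center, with `p`-th power in the
center -/
theorem exists_second_center [Finite G] {p : ℕ} [hp : Fact p.Prime] (hG : IsPGroup p G)
    (hne : ∃ x : G, x ∉ Subgroup.center G) :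
    ∃ z : G, z ∉ Subgroup.center G ∧ z ^ p ∈ Subgroup.center G ∧
      ∀ g : G, z * g * z⁻¹ * g⁻¹ ∈ Subgroup.center G := by
  obtain ⟨x, hx⟩ := hne
  have hsurj := QuotientGroup.mk'_surjective (Subgroup.center G)
  haveI : Nontrivial (G ⧸ Subgroup.center G) := by
    rw [QuotientGroup.nontrivial_iff]
    intro h
    exact hx (h ▸ Subgroup.mem_top x)
  have hQ : IsPGroup p (G ⧸ Subgroup.center G) := hG.to_quotient _
  haveI := hQ.center_nontrivial
  obtain ⟨⟨zb, hzb⟩, hne1⟩ := exists_ne (1 : Subgroup.center (G ⧸ Subgroup.center G))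
  have hzb1 : zb ≠ 1 := fun h0 => hne1 (Subtype.ext h0)
  obtain ⟨k, hk⟩ := IsPGroup.iff_orderOf.mp hQ zb
  have hk0 : k ≠ 0 := by
    rintro rfl
    rw [pow_zero, orderOf_eq_one_iff] at hk
    exact hzb1 hk
  have hdvd : p ∣ orderOf zb := by rw [hk]; exact dvd_pow_self p hk0
  have hpos : 0 < orderOf zb := by rw [hk]; exact pow_pos hp.out.pos k
  have hord : orderOf (zb ^ (orderOf zb / p)) = p := orderOf_pow_orderOf_div hpos.ne' hdvd
  obtain ⟨zb', hzb'def⟩ : ∃ zb' : G ⧸ Subgroup.center G, zb' = zb ^ (orderOf zb / p) := ⟨_, rfl⟩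
  rw [← hzb'def] at hord
  have hzb'c : zb' ∈ Subgroup.center (G ⧸ Subgroup.center G) := by
    rw [hzb'def]; exact Subgroup.pow_mem _ hzb _
  have hzb'p : zb' ^ p = 1 := by rw [← hord]; exact pow_orderOf_eq_one zb'
  have hzb'1 : zb' ≠ 1 := by
    intro h0
    rw [h0, orderOf_one] at hord
    exact hp.out.one_lt.ne hord
  obtain ⟨z, hz⟩ := hsurj zb'
  refine ⟨z, ?_, ?_, ?_⟩
  · intro h0
    exact hzb'1 (hz ▸ (QuotientGroup.eq_one_iff z).mpr h0)
  · apply (QuotientGroup.eq_one_iff _).mp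
    rw [← hzb'p, ← hz]; rfl
  · intro g
    apply (QuotientGroup.eq_one_iff _).mp
    have h1 : ((z * g * z⁻¹ * g⁻¹ : G) : G ⧸ Subgroup.center G) =
        (QuotientGroup.mk' _ z) * (QuotientGroup.mk' _ g) * (QuotientGroup.mk' _ z)⁻¹ *
          (QuotientGroup.mk' _ g)⁻¹ := rfl
    rw [h1, hz]
    have h2 := Subgroup.mem_center_iff.mp hzb'c (QuotientGroup.mk' _ g)
    rw [← h2]
    group

/-- Kegel's trick: an element whose `p`-th power is not central has the same centralizer as `z`. -/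
theorem key [Finite G] {n p : ℕ} (h : IsEC G n) {z : G} (hz : z ∉ Subgroup.center G)
    (hzp : z ^ p ∈ Subgroup.center G) (hzc : ∀ g : G, z * g * z⁻¹ * g⁻¹ ∈ Subgroup.center G)
    {g : G} (hg : g ^ p ∉ Subgroup.center G) : Cen g = Cen z := by
  have hgZ : g ∉ Subgroup.center G := fun h0 => hg ((Subgroup.center G).pow_mem h0 p)
  -- `(g z)^p = g^p c` with `c` central
  have hmk : (((g * z) ^ p : G) : G ⧸ Subgroup.center G) = ((g ^ p : G) : G ⧸ Subgroup.center G) := by
    have hc : Commute (g : G ⧸ Subgroup.center G) (z : G ⧸ Subgroup.center G) := by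
      have h1 := hzc g
      have h2 := (QuotientGroup.eq_one_iff _).mpr h1
      have h3 : ((z * g * z⁻¹ * g⁻¹ : G) : G ⧸ Subgroup.center G) =
        (z : G ⧸ Subgroup.center G) * (g : G ⧸ Subgroup.center G) * (z : G ⧸ Subgroup.center G)⁻¹ *
          (g : G ⧸ Subgroup.center G)⁻¹ := rfl
      rw [h3] at h2
      show (g : G ⧸ Subgroup.center G) * z = z * g
      have h4 : (z : G ⧸ Subgroup.center G) * g = (z * g * (z : G ⧸ Subgroup.center G)⁻¹ *
          (g : G ⧸ Subgroup.center G)⁻¹) * (g * z) := by group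
      rw [h4, h2, one_mul]
    have hzp' : ((z : G ⧸ Subgroup.center G)) ^ p = 1 := by
      have := (QuotientGroup.eq_one_iff _).mpr hzp
      rwa [QuotientGroup.mk_pow] at this
    rw [QuotientGroup.mk_pow, QuotientGroup.mk_mul, hc.mul_pow, hzp', mul_one, QuotientGroup.mk_pow]
  have hc : (g ^ p)⁻¹ * (g * z) ^ p ∈ Subgroup.center G := by
    apply (QuotientGroup.eq).mp
    rw [← hmk]
  have hgz : (g * z) ^ p = g ^ p * ((g ^ p)⁻¹ * (g * z) ^ p) := by group
  have hgzp : (g * z) ^ p ∉ Subgroup.center G := by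
    intro h0
    apply hg
    have : g ^ p = (g * z) ^ p * ((g ^ p)⁻¹ * (g * z) ^ p)⁻¹ := by group
    rw [this]
    exact (Subgroup.center G).mul_mem h0 ((Subgroup.center G).inv_mem hc)
  have e1 : Cen (g ^ p) = Cen g := h.Cen_pow hg
  have e2 : Cen ((g * z) ^ p) = Cen (g * z) := h.Cen_pow hgzp
  have e3 : Cen ((g * z) ^ p) = Cen (g ^ p) := by rw [hgz]; exact Cen_mul_central _ hc
  have e4 : Cen (g * z) = Cen g := by rw [← e2, e3, e1]
  apply h.Cen_eq_of_le hgZ hz
  intro d hd
  have hd1 := mem_Cen.mp hd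
  have hd2 : d * (g * z) = (g * z) * d := by
    have : d ∈ Cen (g * z) := by rw [e4]; exact hd
    exact mem_Cen.mp this
  rw [mem_Cen]
  have : g * (d * z) = g * (z * d) := by
    calc g * (d * z) = (g * d) * z := by group
      _ = (d * g) * z := by rw [hd1]
      _ = d * (g * z) := by group
      _ = (g * z) * d := hd2
      _ = g * (z * d) := by group
  exact mul_left_cancel this

end Cfsg.Agent.Lib.Helper7.TwoCS
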