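import Mathlib
import Cfsg.Agent.Lib.Helper7.TwoCS2

set_option autoImplicit false

/-! Ito's theorem on groups with two class sizes: elementwise preliminaries. -/

namespace Cfsg.Agent.Lib.Helper7.Ito

open Cfsg.Agent.Lib.Helper7.CM Cfsg.Agent.Lib.Helper7.TwoCS

variable {G : Type*} [Group G]

/-- primary decomposition of an element with respect to a prime `p` -/
theorem pdecomp [Finite G] (p : ℕ) [hp : Fact p.Prime] (g : G) :
    ∃ a b : G, a ∈ Subgroup.zpowers g ∧ b ∈ Subgroup.zpowers g ∧ g = a * b ∧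
      (orderOf a).Coprime p ∧ ∃ k : ℕ, orderOf b = p ^ k := by
  have ho : 0 < orderOf g := orderOf_pos g
  set o := orderOf g with hodef
  set pk := ordProj[p] o with hpk
  set m := ordCompl[p] o with hm
  have hpm : pk * m = o := Nat.ordProj_mul_ordCompl_eq_self o p
  have hcop : Nat.Coprime pk m := by
    rw [hpk, hm]
    exact Nat.Coprime.pow_left _ (Nat.coprime_ordCompl hp.out ho.ne')
  have hbez := Nat.gcd_eq_gcd_ab pk m
  rw [hcop.gcd_eq_one] at hbez
  refine ⟨(g ^ pk) ^ (Nat.gcdA pk m), (g ^ m) ^ (Nat.gcdB pk m), ?_, ?_, ?_, ?_, ?_⟩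
  · exact Subgroup.zpow_mem _ (Subgroup.pow_mem _ (Subgroup.mem_zpowers g) _) _
  · exact Subgroup.zpow_mem _ (Subgroup.pow_mem _ (Subgroup.mem_zpowers g) _) _
  · rw [← zpow_natCast, ← zpow_natCast, ← zpow_mul, ← zpow_mul, ← zpow_add, ← hbez]
    simp
  · have h1 : ((g ^ pk) ^ (Nat.gcdA pk m)) ^ m = 1 := by
      rw [← zpow_natCast, ← zpow_mul, mul_comm, zpow_mul, zpow_natCast, ← pow_mul, hpm, hodef,
        pow_orderOf_eq_one, one_zpow]
    have h2 := orderOf_dvd_of_pow_eq_one h1
    apply Nat.Coprime.coprime_dvd_left h2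
    rw [hm]
    exact (Nat.coprime_ordCompl hp.out ho.ne').symm
  · have h1 : ((g ^ m) ^ (Nat.gcdB pk m)) ^ pk = 1 := by
      rw [← zpow_natCast, ← zpow_mul, mul_comm, zpow_mul, zpow_natCast, ← pow_mul, mul_comm, hpm,
        hodef, pow_orderOf_eq_one, one_zpow]
    have h2 := orderOf_dvd_of_pow_eq_one h1
    rw [hpk] at h2
    obtain ⟨j, -, hj⟩ := (Nat.dvd_prime_pow hp.out).mp h2
    exact ⟨j, hj⟩

/-- commuting elements of coprime orders: `x` is a power of `x * y` -/
theorem exists_pow_mul_eq_left {x y : G} (hc : Commute x y) (hcop : (orderOf x).Coprime (orderOf y)) :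
    ∃ k : ℕ, (x * y) ^ k = x := by
  obtain ⟨m, hm⟩ := exists_pow_eq_self_of_coprime (x := x) (n := orderOf y) hcop.symm
  refine ⟨orderOf y * m, ?_⟩
  rw [pow_mul, hc.mul_pow, pow_orderOf_eq_one, mul_one, hm]

/-- in a group with equal class sizes, a noncentral element's centralizer is contained in the
centralizer of any element of coprime order commuting with it -/
theorem Cen_le_of_coprime [Finite G] {n : ℕ} (h : IsEC G n) {x y : G} (hx : x ∉ Subgroup.center G)
    (hc : Commute x y) (hcop : (orderOf x).Coprime (orderOf y)) : Cen x ≤ Cen y := by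
  obtain ⟨k, hk⟩ := exists_pow_mul_eq_left hc hcop
  obtain ⟨k', hk'⟩ := exists_pow_mul_eq_left hc.symm hcop.symm
  rw [hc.symm.eq] at hk'
  have hxy : x * y ∉ Subgroup.center G := by
    intro h0
    apply hx
    rw [← hk]
    exact (Subgroup.center G).pow_mem h0 k
  have h1 : Cen (x * y) ≤ Cen x := by
    have := Cen_le_Cen_pow (x * y) k
    rwa [hk] at this
  have h2 : Cen (x * y) = Cen x := h.Cen_eq_of_le hxy hx h1
  have h3 : Cen (x * y) ≤ Cen y := by
    have := Cen_le_Cen_pow (x * y) k'
    rwa [hk'] at this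
  rw [← h2]; exact h3

/-- every noncentral element has the same centralizer as a noncentral power of prime power order -/
theorem exists_prime_power_elt [Finite G] {n : ℕ} (h : IsEC G n) :
    ∀ (N : ℕ) (x : G), orderOf x = N → x ∉ Subgroup.center G →
      ∃ (q : ℕ) (y : G), q.Prime ∧ y ∈ Subgroup.zpowers x ∧ y ∉ Subgroup.center G ∧
        (∃ k : ℕ, orderOf y = q ^ k) ∧ Cen y = Cen x := by
  intro N
  induction N using Nat.strong_induction_on with
  | _ N ih =>
    intro x hxN hx
    have hx1 : x ≠ 1 := fun h0 => hx (h0 ▸ (Subgroup.center G).one_mem)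
    have hN1 : N ≠ 1 := fun h0 => hx1 (orderOf_eq_one_iff.mp (hxN.trans h0))
    obtain ⟨p, hp, hpN⟩ := Nat.exists_prime_and_dvd hN1
    haveI : Fact p.Prime := ⟨hp⟩
    obtain ⟨a, b, ha, hb, hab, hao, k, hbo⟩ := pdecomp p x
    by_cases hbZ : b ∈ Subgroup.center G
    · -- then `a` is noncentral with smaller order
      have haZ : a ∉ Subgroup.center G := by
        intro h0
        apply hx
        rw [hab]
        exact (Subgroup.center G).mul_mem h0 hbZ
      have hao' : orderOf a ∣ N := by
        rw [← hxN]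
        exact orderOf_dvd_of_mem_zpowers ha
      have hlt : orderOf a < N := by
        apply lt_of_le_of_ne (Nat.le_of_dvd (by rw [← hxN]; exact orderOf_pos x) hao')
        intro h0
        rw [h0] at hao
        exact (Nat.Prime.coprime_iff_not_dvd hp).mp hao.symm hpN
      obtain ⟨j, hj⟩ := Subgroup.mem_zpowers_iff.mp ha
      have hCa : Cen a = Cen x := by
        symm
        apply h.Cen_eq_of_le hx haZ
        intro g hg
        rw [mem_Cen] at hg ⊢
        rw [← hj]
        exact ((show Commute g x from hg).zpow_right j).eq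
      obtain ⟨q, y, hq, hy1, hy2, hy3, hy4⟩ := ih (orderOf a) hlt a rfl haZ
      refine ⟨q, y, hq, ?_, hy2, hy3, hy4.trans hCa⟩
      obtain ⟨i, hi⟩ := Subgroup.mem_zpowers_iff.mp hy1
      rw [Subgroup.mem_zpowers_iff]
      exact ⟨j * i, by rw [zpow_mul, hj, hi]⟩
    · -- `b` is a noncentral `p`-element
      obtain ⟨j, hj⟩ := Subgroup.mem_zpowers_iff.mp hb
      have hCb : Cen b = Cen x := by
        symm
        apply h.Cen_eq_of_le hx hbZ
        intro g hg
        rw [mem_Cen] at hg ⊢
        rw [← hj]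
        exact ((show Commute g x from hg).zpow_right j).eq
      exact ⟨p, b, hp, hb, hbZ, ⟨k, hbo⟩, hCb⟩

end Cfsg.Agent.Lib.Helper7.Ito
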