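import Mathlib
import Cfsg.Agent.Lib.Helper7.CycAb2
import Cfsg.Agent.Lib.Helper7.Ito1

set_option autoImplicit false

/-!
# Utilities: the subgroup of order `p`, `p`-elements of Sylow normalizers, normal `p`-complements
of subgroups, Burnside's transfer theorem in the form used here.
-/

namespace Cfsg.Agent.Lib.Helper7.CycAb

universe u

variable {G : Type u} [Group G]

/-- the subgroup of order `p` of a nontrivial cyclic `p`-subgroup -/
theorem exists_omega [Finite G] {p : ℕ} [hp : Fact p.Prime] {P : Subgroup G} (hc : IsCyclic P)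
    (hP : IsPGroup p P) (hne : P ≠ ⊥) :
    ∃ Z : Subgroup G, Z ≤ P ∧ Nat.card Z = p ∧ (∀ x ∈ P, x ≠ 1 → Z ≤ Subgroup.zpowers x) ∧
      ∀ x ∈ P, x ^ p = 1 → x ∈ Z := by
  obtain ⟨a, ha⟩ := (IsPGroup.iff_card).mp hP
  have hapos : 0 < a := by
    rcases Nat.eq_zero_or_pos a with h0 | h0
    · exfalso
      apply hne
      rw [h0, pow_zero] at ha
      exact (Subgroup.card_eq_one).mp ha
    · exact h0
  obtain ⟨⟨c, hcP⟩, hgen⟩ := hc.exists_generator
  have hgen' : ∀ x ∈ P, ∃ i : ℤ, c ^ i = x := by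
    intro x hx
    obtain ⟨i, hi⟩ := Subgroup.mem_zpowers_iff.mp (hgen ⟨x, hx⟩)
    refine ⟨i, ?_⟩
    have := congrArg (fun t : P => (t : G)) hi
    simpa using this
  have hPz : P = Subgroup.zpowers c := by
    apply le_antisymm
    · intro x hx
      obtain ⟨i, hi⟩ := hgen' x hx
      exact Subgroup.mem_zpowers_iff.mpr ⟨i, hi⟩
    · rw [Subgroup.zpowers_le]; exact hcP
  have hoc : orderOf c = p ^ a := by
    rw [← Nat.card_zpowers, ← hPz, ha]
  set m := p ^ (a - 1) with hm
  have hpm : p ^ a = p * m := by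
    rw [hm, ← pow_succ']
    congr 1
    omega
  have hmpos : 0 < m := pow_pos hp.out.pos _
  have hoz : orderOf (c ^ m) = p := by
    rw [orderOf_pow' c hmpos.ne', hoc, hpm, Nat.gcd_eq_right (dvd_mul_left m p)]
    exact Nat.mul_div_cancel _ hmpos
  have key : ∀ x ∈ P, x ^ p = 1 → x ∈ Subgroup.zpowers (c ^ m) := by
    intro x hx hxp
    obtain ⟨i, hi⟩ := hgen' x hx
    rw [← hi, ← zpow_natCast, ← zpow_mul] at hxp
    have h1 : (orderOf c : ℤ) ∣ i * p := orderOf_dvd_iff_zpow_eq_one.mpr hxp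
    rw [hoc, hpm] at h1
    have h2 : (m : ℤ) ∣ i := by
      have h3 : ((p * m : ℕ) : ℤ) = (m : ℤ) * (p : ℤ) := by push_cast; ring
      rw [h3] at h1
      exact (mul_dvd_mul_iff_right (by exact_mod_cast hp.out.ne_zero)).mp h1
    obtain ⟨t, ht⟩ := h2
    rw [Subgroup.mem_zpowers_iff]
    refine ⟨t, ?_⟩
    rw [← hi, ht, zpow_mul, zpow_natCast]
  refine ⟨Subgroup.zpowers (c ^ m), ?_, ?_, ?_, key⟩
  · rw [Subgroup.zpowers_le]; exact P.pow_mem hcP m
  · rw [Nat.card_zpowers, hoz]
  · intro x hx hx1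
    -- an element of order `p` among the powers of `x`
    have h1 : p ∣ orderOf x := by
      obtain ⟨j, hj⟩ := hP ⟨x, hx⟩
      have hj' : x ^ p ^ j = 1 := by
        have := congrArg (fun t : P => (t : G)) hj
        simpa using this
      obtain ⟨i, -, hi⟩ := (Nat.dvd_prime_pow hp.out).mp (orderOf_dvd_of_pow_eq_one hj')
      rcases Nat.eq_zero_or_pos i with h0 | h0
      · exfalso
        rw [h0, pow_zero] at hi
        exact hx1 (orderOf_eq_one_iff.mp hi)
      · rw [hi]; exact dvd_pow_self p h0.ne'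
    obtain ⟨m', hm'⟩ := h1
    have hm'pos : 0 < m' := by
      rcases Nat.eq_zero_or_pos m' with h0 | h0
      · exfalso
        rw [h0, mul_zero] at hm'
        exact (orderOf_pos x).ne' hm'
      · exact h0
    have h2 : orderOf (x ^ m') = p := by
      rw [orderOf_pow' x hm'pos.ne', hm', Nat.gcd_eq_right (dvd_mul_left m' p)]
      exact Nat.mul_div_cancel _ hm'pos
    have h3 : x ^ m' ∈ Subgroup.zpowers (c ^ m) := by
      apply key _ (P.pow_mem hx m')
      rw [← h2, pow_orderOf_eq_one]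
    have h4 : Subgroup.zpowers (x ^ m') = Subgroup.zpowers (c ^ m) := by
      apply Subgroup.eq_of_le_of_card_ge
      · rw [Subgroup.zpowers_le]; exact h3
      · rw [Nat.card_zpowers, Nat.card_zpowers, h2, hoz]
    rw [← h4, Subgroup.zpowers_le]
    exact Subgroup.pow_mem _ (Subgroup.mem_zpowers x) m'

/-- a `p`-element normalizing a Sylow `p`-subgroup lies in it -/
theorem mem_sylow_of_mem_normalizer [Finite G] {p : ℕ} [hp : Fact p.Prime] (P : Sylow p G) {x : G}
    (hx : x ∈ Subgroup.normalizer ((P : Subgroup G) : Set G)) {k : ℕ} (hk : orderOf x = p ^ k) :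
    x ∈ (P : Subgroup G) := by
  have h1 : IsPGroup p (Subgroup.zpowers x) := by
    rw [IsPGroup.iff_card]
    exact ⟨k, by rw [Nat.card_zpowers, hk]⟩
  have h2 := h1.inf_normalizer_sylow P
  have h3 : x ∈ Subgroup.zpowers x ⊓ Subgroup.normalizer (P : Set G) :=
    ⟨Subgroup.mem_zpowers x, hx⟩
  rw [h2] at h3
  exact h3.2

end Cfsg.Agent.Lib.Helper7.CycAb
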