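import Mathlib
import Cfsg.Agent.Lib.Helper7.CycAb3

set_option autoImplicit false

/-!
# Normal `p`-complements of subgroups and Burnside's transfer theorem
-/

namespace Cfsg.Agent.Lib.Helper7.CycAb

universe u

variable {G : Type u} [Group G]

/-- elements of a normal `p`-complement are exactly the `p'`-elements -/
theorem mem_pcompl_iff {H : Type u} [Group H] [Finite H] {p : ℕ} [hp : Fact p.Prime]
    (Q : Sylow p H) (K : Subgroup H) [hK : K.Normal] (hc : K.IsComplement' (Q : Subgroup H))
    (x : H) : x ∈ K ↔ (orderOf x).Coprime p := by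
  have h1 : Nat.card K * Nat.card (Q : Subgroup H) = Nat.card H := hc.card_mul_card
  have h2 : Nat.card (Q : Subgroup H) * (Q : Subgroup H).index = Nat.card H :=
    Subgroup.card_mul_index _
  have h3 : Nat.card K * K.index = Nat.card H := Subgroup.card_mul_index _
  have h4 : Nat.card K = (Q : Subgroup H).index := by
    have : Nat.card (Q : Subgroup H) * Nat.card K =
        Nat.card (Q : Subgroup H) * (Q : Subgroup H).index := by rw [h2, mul_comm, h1]
    exact Nat.eq_of_mul_eq_mul_left Nat.card_pos this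
  have h5 : K.index = Nat.card (Q : Subgroup H) := by
    have : Nat.card K * K.index = Nat.card K * Nat.card (Q : Subgroup H) := by rw [h3, h1]
    exact Nat.eq_of_mul_eq_mul_left Nat.card_pos this
  obtain ⟨k, hk⟩ := (IsPGroup.iff_card).mp Q.isPGroup'
  have hKcop : (Nat.card K).Coprime p := by
    rw [h4, Nat.coprime_comm, Nat.Prime.coprime_iff_not_dvd hp.out]
    exact Q.not_dvd_index
  constructor
  · intro hx
    have : orderOf x ∣ Nat.card K := Subgroup.orderOf_dvd_natCard K hx
    exact Nat.Coprime.coprime_dvd_left this hKcop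
  · intro hx
    have h6 : (QuotientGroup.mk' K x) ^ orderOf x = 1 := by
      rw [← map_pow, pow_orderOf_eq_one, map_one]
    have h7 : (QuotientGroup.mk' K x) ^ (p ^ k) = 1 := by
      have : Nat.card (H ⧸ K) = p ^ k := by
        rw [← hk, ← h5]; rfl
      rw [← this]
      exact pow_card_eq_one'
    have h8 : orderOf (QuotientGroup.mk' K x) ∣ Nat.gcd (orderOf x) (p ^ k) :=
      Nat.dvd_gcd (orderOf_dvd_of_pow_eq_one h6) (orderOf_dvd_of_pow_eq_one h7)
    rw [(Nat.Coprime.pow_right k hx).gcd_eq_one, Nat.dvd_one, orderOf_eq_one_iff] at h8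
    exact (QuotientGroup.eq_one_iff x).mp h8

/-- the normal `p`-complement of a subgroup, as a subgroup of the ambient group -/
theorem exists_pcompl [Finite G] {p : ℕ} [hp : Fact p.Prime] (X : Subgroup G)
    (h : Cfsg.HasNormalPComplement p X) :
    ∃ K : Subgroup G, K ≤ X ∧ ∀ x ∈ X, (x ∈ K ↔ (orderOf x).Coprime p) := by
  obtain ⟨Q, K, hKn, hc⟩ := h
  refine ⟨K.map X.subtype, Subgroup.map_subtype_le K, fun x hx => ?_⟩
  have := mem_pcompl_iff Q K hc ⟨x, hx⟩
  rw [← Subgroup.orderOf_mk x hx, ← this]
  constructor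
  · rintro ⟨y, hy, hyx⟩
    have : y = ⟨x, hx⟩ := Subtype.ext hyx
    rwa [← this]
  · intro hxK
    exact ⟨⟨x, hx⟩, hxK, rfl⟩

/-- Burnside's transfer theorem for a group with abelian Sylow `p`-subgroup, in terms of
`p'`-elements of the normalizer -/
theorem burnside [Finite G] {p : ℕ} [hp : Fact p.Prime] (P : Sylow p G)
    (hPc : IsMulCommutative (P : Subgroup G))
    (hyp : ∀ g ∈ Subgroup.normalizer ((P : Subgroup G) : Set G), (orderOf g).Coprime p →
      g ∈ Subgroup.centralizer ((P : Subgroup G) : Set G)) :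
    Cfsg.HasNormalPComplement p G := by
  apply Cfsg.Agent.Lib.Lead.hasNormalPComplement_of_normalizer_le_centralizer P
  intro g hg
  obtain ⟨a, b, ha, hb, hab, hacop, k, hbk⟩ := Cfsg.Agent.Lib.Helper7.Ito.pdecomp p g
  have haN : a ∈ Subgroup.normalizer ((P : Subgroup G) : Set G) := by
    obtain ⟨i, hi⟩ := Subgroup.mem_zpowers_iff.mp ha
    rw [← hi]; exact Subgroup.zpow_mem _ hg i
  have hbN : b ∈ Subgroup.normalizer ((P : Subgroup G) : Set G) := by
    obtain ⟨i, hi⟩ := Subgroup.mem_zpowers_iff.mp hb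
    rw [← hi]; exact Subgroup.zpow_mem _ hg i
  have h1 := hyp a haN hacop
  have h2 : b ∈ (P : Subgroup G) := mem_sylow_of_mem_normalizer P hbN hbk
  have h3 : b ∈ Subgroup.centralizer ((P : Subgroup G) : Set G) := by
    rw [Subgroup.mem_centralizer_iff]
    intro x hx
    exact comm_of hPc hx h2
  rw [hab]
  exact Subgroup.mul_mem _ h1 h3

/-- Burnside's transfer theorem inside a subgroup `X` containing the Sylow subgroup `P` -/
theorem burnside_sub [Finite G] {p : ℕ} [hp : Fact p.Prime] (P : Sylow p G)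
    (hPc : IsMulCommutative (P : Subgroup G)) (X : Subgroup G) (hPX : (P : Subgroup G) ≤ X)
    (hyp : ∀ g ∈ X, g ∈ Subgroup.normalizer ((P : Subgroup G) : Set G) → (orderOf g).Coprime p →
      g ∈ Subgroup.centralizer ((P : Subgroup G) : Set G)) :
    Cfsg.HasNormalPComplement p X := by
  apply burnside (P.subtype hPX)
  · rw [Sylow.coe_subtype]
    apply isMulCommutative_of
    intro a ha b hb
    apply Subtype.ext
    exact comm_of hPc (Subgroup.mem_subgroupOf.mp ha) (Subgroup.mem_subgroupOf.mp hb)
  · intro g hg hcop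
    rw [Sylow.coe_subtype] at hg ⊢
    have h1 : (g : G) ∈ Subgroup.normalizer ((P : Subgroup G) : Set G) := by
      rw [Subgroup.mem_normalizer_iff]
      intro x
      constructor
      · intro hx
        have := (Subgroup.mem_normalizer_iff.mp hg ⟨x, hPX hx⟩).mp (Subgroup.mem_subgroupOf.mpr hx)
        exact Subgroup.mem_subgroupOf.mp this
      · intro hx
        have hxX : x ∈ X := by
          have := X.mul_mem (X.mul_mem (X.inv_mem g.2) (hPX hx)) g.2
          simpa [mul_assoc] using this
        have := (Subgroup.mem_normalizer_iff.mp hg ⟨x, hxX⟩).mpr (Subgroup.mem_subgroupOf.mpr hx)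
        exact Subgroup.mem_subgroupOf.mp this
    have h2 := hyp g g.2 h1 (by rw [Subgroup.orderOf_coe]; exact hcop)
    rw [Subgroup.mem_centralizer_iff]
    intro x hx
    apply Subtype.ext
    exact Subgroup.mem_centralizer_iff.mp h2 x (Subgroup.mem_subgroupOf.mp hx)

end Cfsg.Agent.Lib.Helper7.CycAb
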