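import Mathlib
import Cfsg.Agent.Lib.Helper7.CycAb4

set_option autoImplicit false

/-!
# General utilities and the reduction to trivial `p'`-core
-/

namespace Cfsg.Agent.Lib.Helper7.CycAb

universe u

variable {G : Type u} [Group G]

theorem not_dvd_card_sup [Finite G] {p : ℕ} [hp : Fact p.Prime] (N H : Subgroup G)
    (hLE : H ≤ Subgroup.normalizer (N : Set G)) (hN : ¬ p ∣ Nat.card N) (hH : ¬ p ∣ Nat.card H) :
    ¬ p ∣ Nat.card (H ⊔ N : Subgroup G) := by
  letI := Subgroup.normal_subgroupOf_of_le_normalizer hLE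
  letI := Subgroup.normal_subgroupOf_sup_of_le_normalizer hLE
  have e := QuotientGroup.quotientInfEquivProdNormalizerQuotient H N hLE
  have h1 : (N.subgroupOf H).index = (N.subgroupOf (H ⊔ N)).index := Nat.card_congr e.toEquiv
  have h2 : Nat.card (N.subgroupOf (H ⊔ N)) * (N.subgroupOf (H ⊔ N)).index =
      Nat.card (H ⊔ N : Subgroup G) := Subgroup.card_mul_index _
  have h3 : Nat.card (N.subgroupOf (H ⊔ N)) = Nat.card N :=
    Nat.card_congr (Subgroup.subgroupOfEquivOfLe le_sup_right).toEquiv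
  have h4 : (N.subgroupOf H).index ∣ Nat.card H := Subgroup.index_dvd_card _
  rw [← h2, h3, ← h1]
  intro hdiv
  rcases (Nat.Prime.dvd_mul hp.out).mp hdiv with h | h
  · exact hN h
  · exact hH (dvd_trans h h4)

theorem concl_of_normal [Finite G] {p : ℕ} [hp : Fact p.Prime] (P : Sylow p G)
    (h : (P : Subgroup G).Normal) : Concl p G := by
  right
  intro P'
  obtain ⟨g, rfl⟩ := MulAction.exists_smul_eq G P P'
  haveI := h
  rw [Sylow.smul_eq_of_normal]
  exact h

theorem normal_of_normal_in_normal [Finite G] {p : ℕ} [hp : Fact p.Prime] (T : Subgroup G)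
    [hT : T.Normal] (P : Sylow p G) (hPT : (P : Subgroup G) ≤ T)
    (hn : ((P : Subgroup G).subgroupOf T).Normal) : (P : Subgroup G).Normal := by
  have h1 : ((P.subtype hPT : Sylow p T) : Subgroup T).Normal := by
    rw [Sylow.coe_subtype]; exact hn
  haveI h2 : ((P.subtype hPT : Sylow p T) : Subgroup T).Characteristic :=
    Sylow.characteristic_of_normal _ h1
  have h3 : (((P.subtype hPT : Sylow p T) : Subgroup T).map T.subtype).Normal :=
    ConjAct.normal_of_characteristic_of_normal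
  rw [Sylow.coe_subtype, Subgroup.subgroupOf_map_subtype, inf_of_le_left hPT] at h3
  exact h3

theorem isPGroup_of_forall [Finite G] {p : ℕ} [hp : Fact p.Prime] (X : Subgroup G)
    (h : ∀ x ∈ X, (orderOf x).Coprime p → x = 1) : IsPGroup p X := by
  intro x
  obtain ⟨a, b, ha, -, hab, hacop, k, hbk⟩ := Cfsg.Agent.Lib.Helper7.Ito.pdecomp p (x : G)
  have haX : a ∈ X := by
    obtain ⟨i, hi⟩ := Subgroup.mem_zpowers_iff.mp ha
    rw [← hi]; exact Subgroup.zpow_mem _ x.2 i
  have ha1 := h a haX hacop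
  rw [ha1, one_mul] at hab
  refine ⟨k, ?_⟩
  apply Subtype.ext
  rw [Subgroup.coe_pow, hab, ← hbk, pow_orderOf_eq_one]
  rfl

theorem not_dvd_card_of_forall_coprime [Finite G] {p : ℕ} [hp : Fact p.Prime] (X : Subgroup G)
    (h : ∀ x ∈ X, (orderOf x).Coprime p) : ¬ p ∣ Nat.card X := by
  intro hdiv
  obtain ⟨x, hx⟩ := exists_prime_orderOf_dvd_card' p hdiv
  have := h (x : G) x.2
  rw [Subgroup.orderOf_coe, hx] at this
  exact hp.out.one_lt.ne' ((Nat.coprime_self p).mp this)

/-- reduction: a nontrivial normal `p'`-subgroup -/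
theorem stepA [Finite G] {p : ℕ} [hp : Fact p.Prime] (hyp : Hyp p G) (N : Subgroup G)
    [hNn : N.Normal] (hN : ¬ p ∣ Nat.card N) (hq : Concl p (G ⧸ N)) : Concl p G := by
  rcases hq with hq | hq
  · exact Or.inl (hasNormalPComplement_of_quotient N hN hq)
  obtain ⟨P⟩ : Nonempty (Sylow p G) := inferInstance
  have hPc : IsMulCommutative (P : Subgroup G) :=
    Cfsg.Agent.Lib.Helper7.Meta.comm_of_isCyclic (hyp.1 P)
  by_cases hb : ∀ g ∈ Subgroup.normalizer ((P : Subgroup G) : Set G), (orderOf g).Coprime p →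
      g ∈ Subgroup.centralizer ((P : Subgroup G) : Set G)
  · exact Or.inl (burnside P hPc hb)
  push Not at hb
  obtain ⟨g, hgN, hgcop, hgC⟩ := hb
  rcases cyc_aut (hyp.1 P) P.isPGroup' hgN hgcop with h | ⟨-, hcomm⟩
  · exact absurd h hgC
  -- `g` centralizes `N`
  have hgcen : ∀ n ∈ N, g * n = n * g := by
    intro n hn
    have hLE : Subgroup.zpowers g ≤ Subgroup.normalizer (N : Set G) := by
      rw [Subgroup.normalizer_eq_top]; exact le_top
    have h1 : ¬ p ∣ Nat.card (Subgroup.zpowers g ⊔ N : Subgroup G) := by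
      apply not_dvd_card_sup N _ hLE hN
      rw [Nat.card_zpowers]
      intro hdiv
      have := Nat.Coprime.coprime_dvd_left hdiv hgcop
      exact hp.out.one_lt.ne' ((Nat.coprime_self p).mp this)
    have h2 := hyp.2 _ h1
    exact comm_of h2 (Subgroup.mem_sup_left (Subgroup.mem_zpowers g)) (Subgroup.mem_sup_right hn)
  -- `P` centralizes `N`
  have hPN : ∀ y ∈ (P : Subgroup G), ∀ n ∈ N, y * n = n * y := by
    intro y hy n hn
    obtain ⟨x, hx, rfl⟩ := hcomm y hy
    have h1 : x⁻¹ * n * x ∈ N := by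
      have := hNn.conj_mem n hn x⁻¹
      simpa using this
    have h2 := hgcen _ h1
    have h3 := hgcen n hn
    have h4 : g⁻¹ * (x⁻¹ * n * x) = (x⁻¹ * n * x) * g⁻¹ := by
      calc g⁻¹ * (x⁻¹ * n * x) = g⁻¹ * ((x⁻¹ * n * x) * g) * g⁻¹ := by group
        _ = g⁻¹ * (g * (x⁻¹ * n * x)) * g⁻¹ := by rw [h2]
        _ = (x⁻¹ * n * x) * g⁻¹ := by group
    calc g * x * g⁻¹ * x⁻¹ * n = g * x * (g⁻¹ * (x⁻¹ * n * x)) * x⁻¹ := by group
      _ = g * x * ((x⁻¹ * n * x) * g⁻¹) * x⁻¹ := by rw [h4]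
      _ = (g * n) * x * g⁻¹ * x⁻¹ := by group
      _ = (n * g) * x * g⁻¹ * x⁻¹ := by rw [h3]
      _ = n * (g * x * g⁻¹ * x⁻¹) := by group
  -- hence `P ⊔ N ≤ N_G(P)`
  have hNle : N ≤ Subgroup.normalizer ((P : Subgroup G) : Set G) := by
    intro n hn
    rw [Subgroup.mem_normalizer_iff]
    intro y
    constructor
    · intro hy
      have : n * y * n⁻¹ = y := by rw [← hPN y hy n hn, mul_inv_cancel_right]
      rw [this]; exact hy
    · intro hy
      have h1 := hPN _ hy n⁻¹ (N.inv_mem hn)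
      have : y = n⁻¹ * (n * y * n⁻¹) * n := by group
      rw [this, ← h1]
      simpa using hy
  -- the image of `P` in `G ⧸ N` is normal, so `P ⊔ N` is normal
  have hM : ((P : Subgroup G) ⊔ N).Normal := by
    have h1 := hq (P.mapSurjective (QuotientGroup.mk'_surjective N))
    rw [Sylow.coe_mapSurjective] at h1
    have h2 : ((P : Subgroup G).map (QuotientGroup.mk' N)).comap (QuotientGroup.mk' N) =
        (P : Subgroup G) ⊔ N := by
      rw [Subgroup.comap_map_eq, QuotientGroup.ker_mk']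
    rw [← h2]
    exact h1.comap _
  have h5 := Sylow.normalizer_sup_eq_top' (N := (P : Subgroup G) ⊔ N) P le_sup_left
  have h6 : (P : Subgroup G) ⊔ N ≤ Subgroup.normalizer ((P : Subgroup G) : Set G) :=
    sup_le Subgroup.le_normalizer hNle
  have h7 : Subgroup.normalizer ((P : Subgroup G) : Set G) = ⊤ := by
    rw [← h5]
    exact (sup_of_le_left h6).symm
  exact concl_of_normal P (Subgroup.normalizer_eq_top_iff.mp h7)

end Cfsg.Agent.Lib.Helper7.CycAb
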