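import Mathlib
import Cfsg.Agent.Lib.Helper7.CycAb5

set_option autoImplicit false

/-!
# The inductive context and the reduction to `N_G(Z) = N_G(P)`
-/

namespace Cfsg.Agent.Lib.Helper7.CycAb

universe u

/-- the context of the inductive step: trivial `p'`-core, a Sylow `p`-subgroup `P` and its
subgroup `Z` of order `p` -/
structure Ctx (p : ℕ) (G : Type u) [Group G] where
  hyp : Hyp p G
  IHs : ∀ X : Subgroup G, X ≠ ⊤ → Concl p X
  H1 : ∀ N : Subgroup G, N.Normal → ¬ p ∣ Nat.card N → N = ⊥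
  P : Sylow p G
  Z : Subgroup G
  hZP : Z ≤ (P : Subgroup G)
  hZcard : Nat.card Z = p
  hZle : ∀ x ∈ (P : Subgroup G), x ≠ 1 → Z ≤ Subgroup.zpowers x
  hZmem : ∀ x ∈ (P : Subgroup G), x ^ p = 1 → x ∈ Z

variable {G : Type u} [Group G] [Finite G] {p : ℕ} [hp : Fact p.Prime]

namespace Ctx

variable (c : Ctx p G)

theorem hPc : IsMulCommutative (c.P : Subgroup G) :=
  Cfsg.Agent.Lib.Helper7.Meta.comm_of_isCyclic (c.hyp.1 c.P)

include hp in
theorem pow_p_eq_one {z : G} (hz : z ∈ c.Z) : z ^ p = 1 := by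
  have h1 : orderOf z ∣ Nat.card c.Z := Subgroup.orderOf_dvd_natCard _ hz
  rw [c.hZcard] at h1
  exact orderOf_dvd_iff_pow_eq_one.mp h1

include hp in
theorem conj_mem_Z {g : G} (hg : g ∈ Subgroup.normalizer ((c.P : Subgroup G) : Set G)) {z : G}
    (hz : z ∈ c.Z) : g * z * g⁻¹ ∈ c.Z := by
  apply c.hZmem
  · exact (Subgroup.mem_normalizer_iff.mp hg z).mp (c.hZP hz)
  · rw [conj_pow, c.pow_p_eq_one hz, mul_one, mul_inv_cancel]

include hp in
theorem normalizer_le : Subgroup.normalizer ((c.P : Subgroup G) : Set G) ≤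
    Subgroup.normalizer (c.Z : Set G) := by
  intro g hg
  rw [Subgroup.mem_normalizer_iff]
  intro z
  constructor
  · exact c.conj_mem_Z hg
  · intro hz
    have := c.conj_mem_Z (Subgroup.inv_mem _ hg) hz
    simpa [mul_assoc] using this

theorem cent_le {x : G} (hx : x ∈ (c.P : Subgroup G)) (hx1 : x ≠ 1) {g : G} (hg : g * x = x * g) :
    g ∈ Subgroup.centralizer (c.Z : Set G) := by
  rw [Subgroup.mem_centralizer_iff]
  intro z hz
  obtain ⟨i, hi⟩ := Subgroup.mem_zpowers_iff.mp (c.hZle x hx hx1 hz)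
  rw [← hi]
  have : Commute g x := hg
  exact (this.zpow_right i).eq.symm

include hp in
theorem exists_z : ∃ z ∈ c.Z, z ≠ 1 := by
  by_contra hcon
  push Not at hcon
  have : c.Z = ⊥ := (Subgroup.eq_bot_iff_forall _).mpr hcon
  have h1 := c.hZcard
  rw [this, Subgroup.card_bot] at h1
  exact hp.out.one_lt.ne h1

include hp in
theorem P_ne_bot : (c.P : Subgroup G) ≠ ⊥ := by
  intro h
  obtain ⟨z, hz, hz1⟩ := c.exists_z
  have := c.hZP hz
  rw [h, Subgroup.mem_bot] at this
  exact hz1 this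

include hp in
/-- a `p'`-element of `N_G(P)` centralizing `Z` centralizes `P` -/
theorem cent_of_centZ {g : G} (hg : g ∈ Subgroup.normalizer ((c.P : Subgroup G) : Set G))
    (hcop : (orderOf g).Coprime p) (hgZ : g ∈ Subgroup.centralizer (c.Z : Set G)) :
    g ∈ Subgroup.centralizer ((c.P : Subgroup G) : Set G) := by
  rcases cyc_aut (c.hyp.1 c.P) c.P.isPGroup' hg hcop with h | ⟨hfix, -⟩
  · exact h
  · exfalso
    obtain ⟨z, hz, hz1⟩ := c.exists_z
    apply hz1
    apply hfix z (c.hZP hz)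
    have := Subgroup.mem_centralizer_iff.mp hgZ z hz
    rw [← this, mul_inv_cancel_right]

theorem P_le_centZ : (c.P : Subgroup G) ≤ Subgroup.centralizer (c.Z : Set G) := by
  intro x hx
  rw [Subgroup.mem_centralizer_iff]
  intro z hz
  exact comm_of c.hPc (c.hZP hz) hx

include hp in
/-- `C_G(Z)` has a normal `p`-complement -/
theorem centZ_npc : Cfsg.HasNormalPComplement p (Subgroup.centralizer (c.Z : Set G)) := by
  apply burnside_sub c.P c.hPc _ c.P_le_centZ
  intro g hgX hgN hcop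
  exact c.cent_of_centZ hgN hcop hgX

include hp in
theorem exists_K : ∃ K : Subgroup G, K ≤ Subgroup.centralizer (c.Z : Set G) ∧
    ∀ x ∈ Subgroup.centralizer (c.Z : Set G), (x ∈ K ↔ (orderOf x).Coprime p) :=
  exists_pcompl _ c.centZ_npc

end Ctx

end Cfsg.Agent.Lib.Helper7.CycAb
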