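import Mathlib
import Cfsg.Agent.Lib.Helper7.CycAb6

set_option autoImplicit false

/-!
# Reduction to `N_G(Z) = N_G(P)` with a `p'`-element acting nontrivially on `P`
-/

namespace Cfsg.Agent.Lib.Helper7.CycAb

universe u

variable {G : Type u} [Group G] [Finite G] {p : ℕ} [hp : Fact p.Prime]

theorem orderOf_conj' (g x : G) : orderOf (g * x * g⁻¹) = orderOf x := by
  rw [← MulAut.conj_apply]
  exact MulEquiv.orderOf_eq (MulAut.conj g) x

/-- an element whose order is both a power of `p` and prime to `p` is trivial -/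
theorem eq_one_of_coprime_of_mem (P : Sylow p G) {y : G} (hy : y ∈ (P : Subgroup G))
    (hcop : (orderOf y).Coprime p) : y = 1 := by
  obtain ⟨j, hj⟩ := P.isPGroup' ⟨y, hy⟩
  have hj' : y ^ p ^ j = 1 := by
    have := congrArg (fun t : (P : Subgroup G) => (t : G)) hj
    simpa using this
  have h1 : orderOf y ∣ p ^ j := orderOf_dvd_of_pow_eq_one hj'
  have h2 : orderOf y ∣ Nat.gcd (orderOf y) (p ^ j) := Nat.dvd_gcd dvd_rfl h1
  rw [(Nat.Coprime.pow_right j hcop).gcd_eq_one, Nat.dvd_one] at h2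
  exact orderOf_eq_one_iff.mp h2

namespace Ctx

variable (c : Ctx p G)

include hp in
theorem stepB : Concl p G ∨
    (Subgroup.normalizer (c.Z : Set G) = Subgroup.normalizer ((c.P : Subgroup G) : Set G) ∧
      ∃ g₀ ∈ Subgroup.normalizer ((c.P : Subgroup G) : Set G), (orderOf g₀).Coprime p ∧
        g₀ ∉ Subgroup.centralizer ((c.P : Subgroup G) : Set G)) := by
  by_cases hb : ∀ g ∈ Subgroup.normalizer ((c.P : Subgroup G) : Set G), (orderOf g).Coprime p →
      g ∈ Subgroup.centralizer ((c.P : Subgroup G) : Set G)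
  · exact Or.inl (Or.inl (burnside c.P c.hPc hb))
  push Not at hb
  obtain ⟨g₀, hg₀N, hg₀cop, hg₀C⟩ := hb
  by_cases hZ : Subgroup.normalizer (c.Z : Set G) = ⊤
  · -- `Z` is normal
    left
    haveI hZn : c.Z.Normal := Subgroup.normalizer_eq_top_iff.mp hZ
    have hXn : (Subgroup.centralizer (c.Z : Set G)).Normal := Subgroup.normal_centralizer
    obtain ⟨K, hKX, hK⟩ := c.exists_K
    have hKn : K.Normal := by
      constructor
      intro x hx g
      have hxX := hKX hx
      have h1 : g * x * g⁻¹ ∈ Subgroup.centralizer (c.Z : Set G) := hXn.conj_mem x hxX g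
      rw [hK _ h1, orderOf_conj']
      exact (hK x hxX).mp hx
    have hKp : ¬ p ∣ Nat.card K :=
      not_dvd_card_of_forall_coprime K (fun x hx => (hK x (hKX hx)).mp hx)
    have hKbot := c.H1 K hKn hKp
    have hXp : IsPGroup p (Subgroup.centralizer (c.Z : Set G)) := by
      apply isPGroup_of_forall
      intro x hx hcop
      have := (hK x hx).mpr hcop
      rwa [hKbot, Subgroup.mem_bot] at this
    have hXP : Subgroup.centralizer (c.Z : Set G) = (c.P : Subgroup G) :=
      c.P.is_maximal' hXp c.P_le_centZ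
    apply concl_of_normal c.P
    rw [← hXP]
    exact hXn
  · -- `N_G(Z)` is proper
    have hPM : (c.P : Subgroup G) ≤ Subgroup.normalizer (c.Z : Set G) :=
      le_trans Subgroup.le_normalizer c.normalizer_le
    rcases c.IHs _ hZ with hM | hM
    · -- `N_G(Z)` is `p`-nilpotent: contradiction
      exfalso
      obtain ⟨K, hKM, hK⟩ := exists_pcompl _ hM
      rcases cyc_aut (c.hyp.1 c.P) c.P.isPGroup' hg₀N hg₀cop with h | ⟨-, hcomm⟩
      · exact hg₀C h
      apply c.P_ne_bot
      rw [Subgroup.eq_bot_iff_forall]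
      intro y hy
      obtain ⟨x, hx, rfl⟩ := hcomm y hy
      have hg₀M : g₀ ∈ Subgroup.normalizer (c.Z : Set G) := c.normalizer_le hg₀N
      have hg₀K : g₀ ∈ K := (hK g₀ hg₀M).mpr hg₀cop
      have h1 : x * g₀⁻¹ * x⁻¹ ∈ Subgroup.normalizer (c.Z : Set G) :=
        Subgroup.mul_mem _ (Subgroup.mul_mem _ (hPM hx) (Subgroup.inv_mem _ hg₀M))
          (Subgroup.inv_mem _ (hPM hx))
      have h2 : x * g₀⁻¹ * x⁻¹ ∈ K := by
        rw [hK _ h1, orderOf_conj', orderOf_inv]
        exact hg₀cop
      have h3 : g₀ * x * g₀⁻¹ * x⁻¹ ∈ K := by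
        have := K.mul_mem hg₀K h2
        simpa [mul_assoc] using this
      have h4 : (orderOf (g₀ * x * g₀⁻¹ * x⁻¹)).Coprime p := (hK _ (hKM h3)).mp h3
      exact eq_one_of_coprime_of_mem c.P hy h4
    · -- `P` is normal in `N_G(Z)`
      right
      refine ⟨?_, g₀, hg₀N, hg₀cop, hg₀C⟩
      apply le_antisymm _ c.normalizer_le
      have h1 := hM (c.P.subtype hPM)
      rw [Sylow.coe_subtype] at h1
      exact (Subgroup.normal_subgroupOf_iff_le_normalizer hPM).mp h1

end Ctx

end Cfsg.Agent.Lib.Helper7.CycAb
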