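import Mathlib
import Cfsg.Agent.Lib.Helper7.CycAb7

set_option autoImplicit false

/-!
# The situation `N_G(Z) = N_G(P)`: basic structure and the Sylow `q`-step
-/

namespace Cfsg.Agent.Lib.Helper7.CycAb

universe u

/-- the context after the reductions: `N_G(Z) = N_G(P)` and a `p'`-element `g₀` of `N_G(P)` not
centralizing `P` -/
structure Ctx2 (p : ℕ) (G : Type u) [Group G] where
  toCtx : Ctx p G
  hNZ : Subgroup.normalizer (toCtx.Z : Set G) =
    Subgroup.normalizer ((toCtx.P : Subgroup G) : Set G)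
  g₀ : G
  hg₀N : g₀ ∈ Subgroup.normalizer ((toCtx.P : Subgroup G) : Set G)
  hg₀cop : (orderOf g₀).Coprime p
  hg₀C : g₀ ∉ Subgroup.centralizer ((toCtx.P : Subgroup G) : Set G)

namespace Ctx2

variable {G : Type u} [Group G] {p : ℕ} (c : Ctx2 p G)

abbrev P : Sylow p G := c.toCtx.P
abbrev Z : Subgroup G := c.toCtx.Z

theorem hyp (c : Ctx2 p G) : Hyp p G := c.toCtx.hyp
theorem IHs (c : Ctx2 p G) : ∀ X : Subgroup G, X ≠ ⊤ → Concl p X := c.toCtx.IHs
theorem H1 (c : Ctx2 p G) : ∀ N : Subgroup G, N.Normal → ¬ p ∣ Nat.card N → N = ⊥ := c.toCtx.H1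
theorem hZP (c : Ctx2 p G) : c.Z ≤ (c.P : Subgroup G) := c.toCtx.hZP

end Ctx2

variable {G : Type u} [Group G] [Finite G] {p : ℕ} [hp : Fact p.Prime]

namespace Ctx2

variable (c : Ctx2 p G)

theorem centZ_le_normalizer : Subgroup.centralizer (c.Z : Set G) ≤
    Subgroup.normalizer ((c.P : Subgroup G) : Set G) := by
  rw [← c.hNZ]
  exact Subgroup.centralizer_le_normalizer _

include hp in
/-- `C_G(Z) = C_G(P)` -/
theorem centZ_eq : Subgroup.centralizer (c.Z : Set G) =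
    Subgroup.centralizer ((c.P : Subgroup G) : Set G) := by
  apply le_antisymm
  · intro x hx
    obtain ⟨a, b, ha, hb, hab, hacop, k, hbk⟩ := Cfsg.Agent.Lib.Helper7.Ito.pdecomp p x
    have haX : a ∈ Subgroup.centralizer (c.Z : Set G) := by
      obtain ⟨i, hi⟩ := Subgroup.mem_zpowers_iff.mp ha
      rw [← hi]; exact Subgroup.zpow_mem _ hx i
    have hbX : b ∈ Subgroup.centralizer (c.Z : Set G) := by
      obtain ⟨i, hi⟩ := Subgroup.mem_zpowers_iff.mp hb
      rw [← hi]; exact Subgroup.zpow_mem _ hx i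
    have h1 : a ∈ Subgroup.centralizer ((c.P : Subgroup G) : Set G) :=
      c.toCtx.cent_of_centZ (c.centZ_le_normalizer haX) hacop haX
    have h2 : b ∈ (c.P : Subgroup G) :=
      mem_sylow_of_mem_normalizer c.P (c.centZ_le_normalizer hbX) hbk
    have h3 : b ∈ Subgroup.centralizer ((c.P : Subgroup G) : Set G) := by
      rw [Subgroup.mem_centralizer_iff]
      intro y hy
      exact comm_of c.toCtx.hPc hy h2
    rw [hab]
    exact Subgroup.mul_mem _ h1 h3
  · exact Subgroup.centralizer_le c.hZP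

include hp in
/-- `g₀` acts without fixed points on `P` -/
theorem fpf : ∀ x ∈ (c.P : Subgroup G), c.g₀ * x * c.g₀⁻¹ = x → x = 1 := by
  rcases cyc_aut (c.hyp.1 c.P) c.P.isPGroup' c.hg₀N c.hg₀cop with h | ⟨h, -⟩
  · exact absurd h c.hg₀C
  · exact h

include hp in
theorem comm_form : ∀ y ∈ (c.P : Subgroup G), ∃ x ∈ (c.P : Subgroup G),
    y = c.g₀ * x * c.g₀⁻¹ * x⁻¹ := by
  rcases cyc_aut (c.hyp.1 c.P) c.P.isPGroup' c.hg₀N c.hg₀cop with h | ⟨-, h⟩
  · exact absurd h c.hg₀C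
  · exact h

include hp in
/-- a subgroup containing `P` and `g₀` has no normal `p`-complement -/
theorem not_npc (X : Subgroup G) (hPX : (c.P : Subgroup G) ≤ X) (hgX : c.g₀ ∈ X) :
    ¬ Cfsg.HasNormalPComplement p X := by
  intro hM
  obtain ⟨K, hKM, hK⟩ := exists_pcompl _ hM
  apply c.toCtx.P_ne_bot
  rw [Subgroup.eq_bot_iff_forall]
  intro y hy
  obtain ⟨x, hx, rfl⟩ := c.comm_form y hy
  have hg₀K : c.g₀ ∈ K := (hK c.g₀ hgX).mpr c.hg₀cop
  have h1 : x * c.g₀⁻¹ * x⁻¹ ∈ X :=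
    Subgroup.mul_mem _ (Subgroup.mul_mem _ (hPX hx) (Subgroup.inv_mem _ hgX))
      (Subgroup.inv_mem _ (hPX hx))
  have h2 : x * c.g₀⁻¹ * x⁻¹ ∈ K := by
    rw [hK _ h1, orderOf_conj', orderOf_inv]
    exact c.hg₀cop
  have h3 : c.g₀ * x * c.g₀⁻¹ * x⁻¹ ∈ K := by
    have := K.mul_mem hg₀K h2
    simpa [mul_assoc] using this
  have h4 : (orderOf (c.g₀ * x * c.g₀⁻¹ * x⁻¹)).Coprime p := (hK _ (hKM h3)).mp h3
  exact eq_one_of_coprime_of_mem c.P hy h4

include hp in
/-- a proper subgroup containing `P` and `g₀` normalizes `P` -/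
theorem le_normalizer_of_proper (X : Subgroup G) (hX : X ≠ ⊤) (hPX : (c.P : Subgroup G) ≤ X)
    (hgX : c.g₀ ∈ X) : X ≤ Subgroup.normalizer ((c.P : Subgroup G) : Set G) := by
  rcases c.IHs X hX with hM | hM
  · exact absurd hM (c.not_npc X hPX hgX)
  · have h1 := hM (c.P.subtype hPX)
    rw [Sylow.coe_subtype] at h1
    exact (Subgroup.normal_subgroupOf_iff_le_normalizer hPX).mp h1

end Ctx2

end Cfsg.Agent.Lib.Helper7.CycAb
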