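import Mathlib
import Cfsg.Agent.Lib.Helper7.CycAb8

set_option autoImplicit false

/-!
# The Sylow `q`-step: a `p`-element acting nontrivially on a Sylow `q`-subgroup
-/

namespace Cfsg.Agent.Lib.Helper7.CycAb

universe u

variable {G : Type u} [Group G] [Finite G] {p : ℕ} [hp : Fact p.Prime]

/-- an element of a Sylow `q`-subgroup has order prime to `p ≠ q` -/
theorem coprime_of_mem_sylow {q : ℕ} [hq : Fact q.Prime] (hqp : q ≠ p) (Q : Sylow q G) {u : G}
    (hu : u ∈ (Q : Subgroup G)) : (orderOf u).Coprime p := by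
  obtain ⟨j, hj⟩ := Q.isPGroup' ⟨u, hu⟩
  have hj' : u ^ q ^ j = 1 := by
    have := congrArg (fun t : (Q : Subgroup G) => (t : G)) hj
    simpa using this
  have h1 : orderOf u ∣ q ^ j := orderOf_dvd_of_pow_eq_one hj'
  apply Nat.Coprime.coprime_dvd_left h1
  apply Nat.Coprime.pow_left
  exact (Nat.coprime_primes hq.out hp.out).mpr hqp

theorem not_dvd_card_sylow' {q : ℕ} [hq : Fact q.Prime] (hqp : q ≠ p) (Q : Sylow q G) :
    ¬ p ∣ Nat.card (Q : Subgroup G) :=
  not_dvd_card_of_forall_coprime _ (fun _ hu => coprime_of_mem_sylow hqp Q hu)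

namespace Ctx

include hp in
theorem qstep (c : Ctx p G) {q : ℕ} [hq : Fact q.Prime] (hqp : q ≠ p) (Q : Sylow q G)
    (hQ : (Q : Subgroup G) ≠ ⊥) :
    Concl p G ∨ ∃ y ∈ Subgroup.normalizer ((Q : Subgroup G) : Set G),
      (∃ k : ℕ, orderOf y = p ^ k) ∧ y ∉ Subgroup.centralizer ((Q : Subgroup G) : Set G) := by
  have hQc : IsMulCommutative (Q : Subgroup G) := c.hyp.2 _ (not_dvd_card_sylow' hqp Q)
  by_cases hb : Subgroup.normalizer ((Q : Subgroup G) : Set G) ≤
      Subgroup.centralizer ((Q : Subgroup G) : Set G)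
  · left
    have hnpc := Cfsg.Agent.Lib.Lead.hasNormalPComplement_of_normalizer_le_centralizer Q hb
    obtain ⟨T, hTn, hcT⟩ :=
      Cfsg.Agent.Lib.Lead.isComplement'_sylow_of_hasNormalPComplement hnpc Q
    have hT : ∀ x : G, x ∈ T ↔ (orderOf x).Coprime q := mem_pcompl_iff Q T hcT
    have hTtop : T ≠ ⊤ := by
      intro htop
      apply hQ
      rw [Subgroup.eq_bot_iff_forall]
      intro u hu
      have h1 : (orderOf u).Coprime q := (hT u).mp (htop ▸ Subgroup.mem_top u)
      exact eq_one_of_coprime_of_mem Q hu h1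
    have hPT : (c.P : Subgroup G) ≤ T := by
      intro x hx
      rw [hT]
      exact coprime_of_mem_sylow (Ne.symm hqp) c.P hx
    rcases c.IHs T hTtop with hM | hM
    · obtain ⟨K, hKT, hK⟩ := exists_pcompl _ hM
      have hKn : K.Normal := by
        constructor
        intro x hx g
        have hxT := hKT hx
        have h1 : g * x * g⁻¹ ∈ T := hTn.conj_mem x hxT g
        rw [hK _ h1, orderOf_conj']
        exact (hK x hxT).mp hx
      have hKp : ¬ p ∣ Nat.card K :=
        not_dvd_card_of_forall_coprime K (fun x hx => (hK x (hKT hx)).mp hx)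
      have hKbot := c.H1 K hKn hKp
      have hTp : IsPGroup p T := by
        apply isPGroup_of_forall
        intro x hx hcop
        have := (hK x hx).mpr hcop
        rwa [hKbot, Subgroup.mem_bot] at this
      have hTP : T = (c.P : Subgroup G) := c.P.is_maximal' hTp hPT
      apply concl_of_normal c.P
      rw [← hTP]
      exact hTn
    · have h1 := hM (c.P.subtype hPT)
      rw [Sylow.coe_subtype] at h1
      exact concl_of_normal c.P (normal_of_normal_in_normal T c.P hPT h1)
  · right
    rw [SetLike.not_le_iff_exists] at hb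
    obtain ⟨g, hgN, hgC⟩ := hb
    obtain ⟨a, b, ha, hb', hab, hacop, k, hbk⟩ := Cfsg.Agent.Lib.Helper7.Ito.pdecomp p g
    have haN : a ∈ Subgroup.normalizer ((Q : Subgroup G) : Set G) := by
      obtain ⟨i, hi⟩ := Subgroup.mem_zpowers_iff.mp ha
      rw [← hi]; exact Subgroup.zpow_mem _ hgN i
    have hbN : b ∈ Subgroup.normalizer ((Q : Subgroup G) : Set G) := by
      obtain ⟨i, hi⟩ := Subgroup.mem_zpowers_iff.mp hb'
      rw [← hi]; exact Subgroup.zpow_mem _ hgN i
    have haC : a ∈ Subgroup.centralizer ((Q : Subgroup G) : Set G) := by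
      have hLE : Subgroup.zpowers a ≤ Subgroup.normalizer ((Q : Subgroup G) : Set G) := by
        rw [Subgroup.zpowers_le]; exact haN
      have h1 : ¬ p ∣ Nat.card (Subgroup.zpowers a ⊔ (Q : Subgroup G) : Subgroup G) := by
        apply not_dvd_card_sup _ _ hLE (not_dvd_card_sylow' hqp Q)
        rw [Nat.card_zpowers]
        intro hdiv
        have := Nat.Coprime.coprime_dvd_left hdiv hacop
        exact hp.out.one_lt.ne' ((Nat.coprime_self p).mp this)
      have h2 := c.hyp.2 _ h1
      rw [Subgroup.mem_centralizer_iff]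
      intro u hu
      exact comm_of h2 (Subgroup.mem_sup_right hu) (Subgroup.mem_sup_left (Subgroup.mem_zpowers a))
    refine ⟨b, hbN, ⟨k, hbk⟩, ?_⟩
    intro hbC
    apply hgC
    rw [hab]
    exact Subgroup.mul_mem _ haC hbC

end Ctx

end Cfsg.Agent.Lib.Helper7.CycAb
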