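import Mathlib
import Cfsg.Agent.Lib.Helper7.Ito1

set_option autoImplicit false

/-! Ito's theorem: with two active primes, all centralizers of noncentral elements are abelian and
contain noncentral elements for every active prime. -/

namespace Cfsg.Agent.Lib.Helper7.Ito

open Cfsg.Agent.Lib.Helper7.CM Cfsg.Agent.Lib.Helper7.TwoCS

variable {G : Type*} [Group G]

/-- the prime `q` is active: there is a noncentral element of `q`-power order -/
def Active (G : Type*) [Group G] (q : ℕ) : Prop :=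
  ∃ y : G, y ∉ Subgroup.center G ∧ ∃ k : ℕ, orderOf y = q ^ k

theorem card_Cen_eq [Finite G] {n : ℕ} (h : IsEC G n) {x y : G} (hx : x ∉ Subgroup.center G)
    (hy : y ∉ Subgroup.center G) : Nat.card (Cen x) = Nat.card (Cen y) := by
  have h1 := Subgroup.card_mul_index (Cen x)
  have h2 := Subgroup.card_mul_index (Cen y)
  rw [h x hx] at h1
  rw [h y hy, ← h1] at h2
  have hn : 0 < n := by
    rw [← h x hx]; exact Nat.pos_of_ne_zero Subgroup.index_ne_zero_of_finite
  exact (Nat.eq_of_mul_eq_mul_right hn h2).symm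

/-- Claim A: every centralizer of a noncentral element contains a noncentral `q`-element, for an
active prime `q`. -/
theorem exists_qElt_in_Cen [Finite G] {n : ℕ} (h : IsEC G n) {q : ℕ} [hq : Fact q.Prime]
    (hact : Active G q) {x : G} (hx : x ∉ Subgroup.center G) :
    ∃ w : G, w ∈ Cen x ∧ w ∉ Subgroup.center G ∧ ∃ k : ℕ, orderOf w = q ^ k := by
  classical
  obtain ⟨y, hy, ky, hyo⟩ := hact
  by_contra hcon
  push_neg at hcon
  -- a Sylow `q`-subgroup of the center
  obtain ⟨S⟩ : Nonempty (Sylow q (Subgroup.center G)) := inferInstance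
  set v := (Nat.card (Subgroup.center G)).factorization q with hv
  have hScard : Nat.card S = q ^ v := Sylow.card_eq_multiplicity S
  obtain ⟨S', hS'def⟩ : ∃ S' : Subgroup G, S' = (S : Subgroup (Subgroup.center G)).map
      (Subgroup.center G).subtype := ⟨_, rfl⟩
  have hS'Z : S' ≤ Subgroup.center G := by rw [hS'def]; exact Subgroup.map_subtype_le _
  have hS'card : Nat.card S' = q ^ v := by
    rw [hS'def, Subgroup.card_map_of_injective (Subgroup.subtype_injective _)]; exact hScard
  have hS'p : IsPGroup q S' := IsPGroup.of_card hS'card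
  haveI hS'n : S'.Normal := by
    refine ⟨fun s hs g => ?_⟩
    have := Subgroup.mem_center_iff.mp (hS'Z hs) g
    rw [this, mul_inv_cancel_right]
    exact hs
  have hyp : IsPGroup q (Subgroup.zpowers y) := by
    apply IsPGroup.of_card (n := ky)
    rw [Nat.card_zpowers, hyo]
  have hTp : IsPGroup q (Subgroup.zpowers y ⊔ S' : Subgroup G) := hyp.to_sup_of_normal_right hS'p
  have hTle : Subgroup.zpowers y ⊔ S' ≤ Cen y := by
    apply sup_le
    · rw [Subgroup.zpowers_le]; exact self_mem_Cen y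
    · exact hS'Z.trans (center_le_Cen y)
  have hlt : S' < Subgroup.zpowers y ⊔ S' := by
    apply lt_of_le_of_ne le_sup_right
    intro h0
    apply hy
    apply hS'Z
    rw [h0]
    exact Subgroup.mem_sup_left (Subgroup.mem_zpowers y)
  obtain ⟨j, hj⟩ := IsPGroup.iff_card.mp hTp
  have hjv : v < j := by
    have h1 : Nat.card S' < Nat.card (Subgroup.zpowers y ⊔ S' : Subgroup G) := by
      apply lt_of_le_of_ne (Subgroup.card_le_of_le hlt.le)
      intro h0
      exact hlt.ne (Subgroup.eq_of_le_of_card_ge hlt.le h0.ge)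
    rw [hS'card, hj] at h1
    exact (Nat.pow_lt_pow_iff_right hq.out.one_lt).mp h1
  have hdvd : q ^ (v + 1) ∣ Nat.card (Cen x) := by
    rw [card_Cen_eq h hx hy]
    have h1 : q ^ (v + 1) ∣ q ^ j := pow_dvd_pow q hjv
    rw [← hj] at h1
    exact h1.trans (Subgroup.card_dvd_of_le hTle)
  obtain ⟨H, hH⟩ := Sylow.exists_subgroup_card_pow_prime q hdvd
  have hHZ : H.map (Cen x).subtype ≤ Subgroup.center G := by
    rintro _ ⟨w, hw, rfl⟩
    by_contra hwZ
    have hwo : ∃ k : ℕ, orderOf ((Cen x).subtype w) = q ^ k := by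
      have hHp : IsPGroup q H := IsPGroup.of_card hH
      obtain ⟨k, hk⟩ := IsPGroup.iff_orderOf.mp hHp ⟨w, hw⟩
      refine ⟨k, ?_⟩
      rw [← hk]
      simp [Subgroup.orderOf_mk]
    obtain ⟨k, hk⟩ := hwo
    exact hcon _ w.2 hwZ k hk
  have h2 : q ^ (v + 1) ∣ Nat.card (Subgroup.center G) := by
    rw [← hH, ← Subgroup.card_map_of_injective (Subgroup.subtype_injective (Cen x))]
    exact Subgroup.card_dvd_of_le hHZ
  exact Nat.pow_succ_factorization_not_dvd Nat.card_pos.ne' hq.out h2

/-- Claims B, C: if the centralizer of a noncentral `p`-element `x` contains a noncentral `q`-element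
(`q ≠ p`), it is abelian. -/
theorem Cen_abelian_of [Finite G] {n : ℕ} (h : IsEC G n) {p q : ℕ} [hp : Fact p.Prime]
    [hq : Fact q.Prime] (hpq : p ≠ q) {x : G} (hx : x ∉ Subgroup.center G)
    (hxo : ∃ k : ℕ, orderOf x = p ^ k) {w : G} (hw : w ∈ Cen x) (hwZ : w ∉ Subgroup.center G)
    (hwo : ∃ k : ℕ, orderOf w = q ^ k) : ∀ a ∈ Cen x, ∀ b ∈ Cen x, a * b = b * a := by
  obtain ⟨kx, hkx⟩ := hxo
  obtain ⟨kw, hkw⟩ := hwo
  have hcoppq : Nat.Coprime p q := (Nat.coprime_primes hp.out hq.out).mpr hpq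
  have hxw : Commute x w := (mem_Cen.mp hw).symm
  have hCw : Cen x = Cen w := by
    apply h.Cen_eq_of_le hx hwZ
    apply Cen_le_of_coprime h hx hxw
    rw [hkx, hkw]
    exact Nat.Coprime.pow _ _ hcoppq
  intro a ha b hb
  obtain ⟨a', a'', ha', ha'', haa, ha'o, j, ha''o⟩ := pdecomp p a
  have hzle : Subgroup.zpowers a ≤ Cen x := by rw [Subgroup.zpowers_le]; exact ha
  -- `a'` (a `p'`-element commuting with `x`) is central in `Cen x`
  have h1 : Cen x ≤ Cen a' := by
    apply Cen_le_of_coprime h hx (mem_Cen.mp (hzle ha')).symm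
    rw [hkx]
    exact Nat.Coprime.pow_left _ ha'o.symm
  -- `a''` (a `p`-element commuting with `w`) is central in `Cen w = Cen x`
  have h2 : Cen w ≤ Cen a'' := by
    have ha''w : a'' ∈ Cen w := by rw [← hCw]; exact hzle ha''
    apply Cen_le_of_coprime h hwZ (mem_Cen.mp ha''w).symm
    rw [hkw, ha''o]
    exact Nat.Coprime.pow _ _ hcoppq.symm
  have hb1 : b * a' = a' * b := mem_Cen.mp (h1 hb)
  have hb2 : b * a'' = a'' * b := mem_Cen.mp (h2 (hCw ▸ hb))
  rw [haa]
  calc a' * a'' * b = a' * (a'' * b) := by group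
    _ = a' * (b * a'') := by rw [hb2]
    _ = (a' * b) * a'' := by group
    _ = (b * a') * a'' := by rw [hb1]
    _ = b * (a' * a'') := by group

/-- with two active primes, all centralizers of noncentral elements are abelian -/
theorem Cen_abelian [Finite G] {n : ℕ} (h : IsEC G n) {p q : ℕ} [hp : Fact p.Prime]
    [hq : Fact q.Prime] (hpq : p ≠ q) (hpa : Active G p) (hqa : Active G q) {g : G}
    (hg : g ∉ Subgroup.center G) : ∀ a ∈ Cen g, ∀ b ∈ Cen g, a * b = b * a := by
  obtain ⟨r, y, hr, -, hyZ, hyo, hCy⟩ := exists_prime_power_elt h (orderOf g) g rfl hg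
  haveI : Fact r.Prime := ⟨hr⟩
  rw [← hCy]
  by_cases hrp : r = p
  · -- use `q`
    obtain ⟨w, hw, hwZ, hwo⟩ := exists_qElt_in_Cen h hqa hyZ
    exact Cen_abelian_of h (by rw [hrp]; exact hpq) hyZ hyo hw hwZ hwo
  · obtain ⟨w, hw, hwZ, hwo⟩ := exists_qElt_in_Cen h hpa hyZ
    exact Cen_abelian_of h hrp hyZ hyo hw hwZ hwo

end Cfsg.Agent.Lib.Helper7.Ito
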