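import Mathlib
import Cfsg.Agent.Lib.Helper7.Ito2

set_option autoImplicit false

/-! Ito's theorem: the partition count. If all centralizers of noncentral elements are abelian (and
of the same order), then `|C_G(x)| ≤ n |Z(G)|`. -/

namespace Cfsg.Agent.Lib.Helper7.Ito

open Cfsg.Agent.Lib.Helper7.CM Cfsg.Agent.Lib.Helper7.TwoCS

variable {G : Type*} [Group G]

theorem int_count_aux {C Zt T N : ℤ} (hZ : 1 ≤ Zt) (hN : 2 ≤ N)
    (heq : T * (C - Zt) + Zt = N * C) : C ≤ N * Zt := by
  by_contra hcon
  push_neg at hcon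
  have hd : (N - 1) * Zt < C - Zt := by nlinarith
  have hpos : 0 < (N - 1) * Zt := by nlinarith
  have hk : (T - N) * (C - Zt) = (N - 1) * Zt := by nlinarith
  rcases le_or_gt (T - N) 0 with h0 | h0
  · nlinarith
  · have h1 : 1 ≤ T - N := h0
    nlinarith

theorem card_Cen_le [Finite G] {n : ℕ} (hn : 1 < n) (h : IsEC G n)
    (hab : ∀ g : G, g ∉ Subgroup.center G → ∀ a ∈ Cen g, ∀ b ∈ Cen g, a * b = b * a) {x : G}
    (hx : x ∉ Subgroup.center G) : Nat.card (Cen x) ≤ n * Nat.card (Subgroup.center G) := by
  classical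
  haveI : Fintype G := Fintype.ofFinite G
  set c := Nat.card (Cen x) with hc
  set ζ := Nat.card (Subgroup.center G) with hζ
  -- counting elements of subgroups through filters
  have hcardH : ∀ (H : Subgroup G) [DecidablePred (fun g : G => g ∈ H)],
      (Finset.univ.filter (fun g : G => g ∈ H)).card = Nat.card H := by
    intro H _
    exact (Nat.subtype_card _ (by simp)).symm
  set S : Finset G := Finset.univ.filter (fun g : G => g ∉ Subgroup.center G) with hS
  have hScard : S.card + ζ = Nat.card G := by
    have h1 := Finset.card_filter_add_card_filter_not (s := (Finset.univ : Finset G))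
      (fun g : G => g ∈ Subgroup.center G)
    rw [hcardH, Finset.card_univ, ← Nat.card_eq_fintype_card] at h1
    rw [hS, hζ]
    omega
  -- fibers of `g ↦ Cen g`
  have hfiber : ∀ H ∈ S.image (fun g : G => Cen g),
      (S.filter (fun g => Cen g = H)).card = c - ζ := by
    intro H hH
    obtain ⟨g₀, hg₀S, rfl⟩ := Finset.mem_image.mp hH
    have hg₀ : g₀ ∉ Subgroup.center G := (Finset.mem_filter.mp hg₀S).2
    have hset : S.filter (fun g => Cen g = Cen g₀) =
        (Finset.univ.filter (fun g : G => g ∈ Cen g₀)) \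
          (Finset.univ.filter (fun g : G => g ∈ Subgroup.center G)) := by
      ext g
      simp only [hS, Finset.mem_filter, Finset.mem_univ, true_and, Finset.mem_sdiff]
      constructor
      · rintro ⟨hgZ, hgC⟩
        exact ⟨hgC ▸ self_mem_Cen g, hgZ⟩
      · rintro ⟨hgC, hgZ⟩
        refine ⟨hgZ, ?_⟩
        symm
        apply h.Cen_eq_of_le hg₀ hgZ
        intro b hb
        rw [mem_Cen]
        exact hab g₀ hg₀ b hb g hgC
    rw [hset, Finset.card_sdiff_of_subset, hcardH (Cen g₀), hcardH (Subgroup.center G),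
      card_Cen_eq h hg₀ hx]
    intro g hg
    simp only [Finset.mem_filter, Finset.mem_univ, true_and] at hg ⊢
    exact center_le_Cen g₀ hg
  have hsum := Finset.card_eq_sum_card_fiberwise (f := fun g : G => Cen g) (s := S)
    (t := S.image (fun g : G => Cen g)) (fun g hg => Finset.mem_image_of_mem _ hg)
  rw [Finset.sum_congr rfl hfiber, Finset.sum_const, smul_eq_mul] at hsum
  set t := (S.image (fun g : G => Cen g)).card with ht
  have hcn : c * n = Nat.card G := by
    have := Subgroup.card_mul_index (Cen x)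
    rwa [h x hx] at this
  have hζc : ζ ≤ c := Subgroup.card_le_of_le (center_le_Cen x)
  have hζ1 : 1 ≤ ζ := Nat.card_pos
  -- integer arithmetic
  have hint : (t : ℤ) * ((c : ℤ) - ζ) + ζ = (n : ℤ) * c := by
    have e1 : (S.card : ℤ) = t * ((c : ℤ) - ζ) := by
      rw [hsum]; push_cast [Nat.cast_sub hζc]; ring
    have e2 : (S.card : ℤ) + ζ = (c : ℤ) * n := by
      rw [← hcn] at hScard
      exact_mod_cast hScard
    rw [← e1, e2]; ring
  have := int_count_aux (by exact_mod_cast hζ1) (by exact_mod_cast hn) hint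
  exact_mod_cast this

end Cfsg.Agent.Lib.Helper7.Ito
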