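import Mathlib
import Cfsg.Agent.Lib.Helper7.Ito3

set_option autoImplicit false

/-! Ito's theorem: for an active prime `p` there is a noncentral `u` in a Sylow `p`-subgroup `P` with
`[P, u] ≤ Z(G)`; then `P` normalizes `C_G(u)`. -/

namespace Cfsg.Agent.Lib.Helper7.Ito

open Cfsg.Agent.Lib.Helper7.CM Cfsg.Agent.Lib.Helper7.TwoCS

variable {G : Type*} [Group G]

/-- for an active prime `p`, a Sylow `p`-subgroup `P` and a noncentral `u ∈ P` with
`[h, u] ∈ Z(G)` for all `h ∈ P` -/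
theorem exists_almost_central [Finite G] {p : ℕ} [hp : Fact p.Prime] (hpa : Active G p) :
    ∃ (P : Sylow p G) (u : G), u ∈ (P : Subgroup G) ∧ u ∉ Subgroup.center G ∧
      ∀ h ∈ (P : Subgroup G), h * u * h⁻¹ * u⁻¹ ∈ Subgroup.center G := by
  obtain ⟨y, hy, ky, hyo⟩ := hpa
  have hyp : IsPGroup p (Subgroup.zpowers y) := by
    apply IsPGroup.of_card (n := ky)
    rw [Nat.card_zpowers, hyo]
  obtain ⟨P, hyP⟩ := hyp.exists_le_sylow
  have hyP' : y ∈ (P : Subgroup G) := hyP (Subgroup.mem_zpowers y)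
  by_cases hZP : ∀ z : (P : Subgroup G), z ∈ Subgroup.center (P : Subgroup G) →
      (z : G) ∈ Subgroup.center G
  · -- `Z(P) ≤ Z(G)`: use the second center of `P`
    have hne : ∃ x : (P : Subgroup G), x ∉ Subgroup.center (P : Subgroup G) :=
      ⟨⟨y, hyP'⟩, fun h0 => hy (hZP _ h0)⟩
    obtain ⟨z, hz, -, hzc⟩ := exists_second_center P.2 hne
    refine ⟨P, z, z.2, ?_, ?_⟩
    · intro h0
      apply hz
      rw [Subgroup.mem_center_iff]
      intro g
      apply Subtype.ext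
      exact Subgroup.mem_center_iff.mp h0 g
    · intro h hh
      have h1 := hZP _ (Subgroup.inv_mem _ (hzc ⟨h, hh⟩))
      have h2 : (((z * ⟨h, hh⟩ * z⁻¹ * (⟨h, hh⟩ : (P : Subgroup G))⁻¹)⁻¹ : (P : Subgroup G)) : G) =
          h * z * h⁻¹ * (z : G)⁻¹ := by
        simp [mul_assoc]
      rw [← h2]; exact h1
  · push_neg at hZP
    obtain ⟨z, hz, hzG⟩ := hZP
    refine ⟨P, z, z.2, hzG, ?_⟩
    intro h hh
    have h1 := Subgroup.mem_center_iff.mp hz ⟨h, hh⟩
    have h2 : h * (z : G) = z * h := congrArg Subtype.val h1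
    rw [h2, mul_inv_cancel_right, mul_inv_cancel]
    exact Subgroup.one_mem _

/-- elements `h` with `[h, u]` central normalize `C_G(u)` -/
theorem conj_mem_Cen {u h : G} (hc : h * u * h⁻¹ * u⁻¹ ∈ Subgroup.center G) {c : G} (hcu : c ∈ Cen u) :
    h * c * h⁻¹ ∈ Cen u := by
  rw [mem_Cen] at hcu ⊢
  set ζ := h * u * h⁻¹ * u⁻¹ with hζ
  have hζc : ∀ g : G, g * ζ = ζ * g := fun g => Subgroup.mem_center_iff.mp hc g
  have e1 : h * u * h⁻¹ = ζ * u := by rw [hζ]; group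
  have e2 : (h * c * h⁻¹) * (h * u * h⁻¹) = (h * u * h⁻¹) * (h * c * h⁻¹) := by
    calc (h * c * h⁻¹) * (h * u * h⁻¹) = h * (c * u) * h⁻¹ := by group
      _ = h * (u * c) * h⁻¹ := by rw [hcu]
      _ = (h * u * h⁻¹) * (h * c * h⁻¹) := by group
  rw [e1] at e2
  have e3 : ζ * ((h * c * h⁻¹) * u) = ζ * (u * (h * c * h⁻¹)) := by
    calc ζ * ((h * c * h⁻¹) * u) = ((h * c * h⁻¹) * ζ) * u := by rw [hζc (h * c * h⁻¹)]; group
      _ = (h * c * h⁻¹) * (ζ * u) := by group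
      _ = ζ * u * (h * c * h⁻¹) := e2
      _ = ζ * (u * (h * c * h⁻¹)) := by group
  exact mul_left_cancel e3

end Cfsg.Agent.Lib.Helper7.Ito
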