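import Mathlib
import Cfsg.Agent.Lib.Helper7.Ito4

set_option autoImplicit false

/-! Ito's theorem: the semiregular action of `P / (P ∩ C)` on the `q`-part of `C / Z`. -/

namespace Cfsg.Agent.Lib.Helper7.Ito

open Cfsg.Agent.Lib.Helper7.CM Cfsg.Agent.Lib.Helper7.TwoCS

variable {G : Type*} [Group G]

/-- the `q`-torsion of an abelian subgroup -/
def qTorsion (C : Subgroup G) (hab : ∀ a ∈ C, ∀ b ∈ C, a * b = b * a) (q : ℕ) : Subgroup G where
  carrier := {w | w ∈ C ∧ ∃ k : ℕ, w ^ (q ^ k) = 1}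
  mul_mem' := by
    rintro a b ⟨ha, i, hi⟩ ⟨hb, j, hj⟩
    refine ⟨C.mul_mem ha hb, i + j, ?_⟩
    rw [(show Commute a b from hab a ha b hb).mul_pow, pow_add, pow_mul, hi, one_pow, mul_comm (q ^ i),
      pow_mul, hj, one_pow, one_mul]
  one_mem' := ⟨C.one_mem, 0, by simp⟩
  inv_mem' := by
    rintro a ⟨ha, i, hi⟩
    exact ⟨C.inv_mem ha, i, by rw [inv_pow, hi, inv_one]⟩

theorem mem_qTorsion {C : Subgroup G} {hab : ∀ a ∈ C, ∀ b ∈ C, a * b = b * a} {q : ℕ} {w : G} :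
    w ∈ qTorsion C hab q ↔ w ∈ C ∧ ∃ k : ℕ, w ^ (q ^ k) = 1 := Iff.rfl

theorem qTorsion_le (C : Subgroup G) (hab : ∀ a ∈ C, ∀ b ∈ C, a * b = b * a) (q : ℕ) :
    qTorsion C hab q ≤ C := fun _ hw => hw.1

theorem qTorsion_isPGroup (C : Subgroup G) (hab : ∀ a ∈ C, ∀ b ∈ C, a * b = b * a) (q : ℕ) :
    IsPGroup q (qTorsion C hab q) := by
  rintro ⟨w, hw⟩
  obtain ⟨k, hk⟩ := hw.2
  exact ⟨k, Subtype.ext hk⟩

/-- iterated conjugation when `k w k⁻¹ = w ζ` with `ζ` central -/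
theorem conj_pow_central {k w ζ : G} (hζ : ζ ∈ Subgroup.center G) (hk : k * w * k⁻¹ = w * ζ)
    (i : ℕ) : k ^ i * w * (k ^ i)⁻¹ = w * ζ ^ i := by
  induction i with
  | zero => simp
  | succ i ih =>
    have hc : ∀ g : G, g * ζ ^ i = ζ ^ i * g :=
      fun g => Subgroup.mem_center_iff.mp ((Subgroup.center G).pow_mem hζ i) g
    calc k ^ (i + 1) * w * (k ^ (i + 1))⁻¹ = k * (k ^ i * w * (k ^ i)⁻¹) * k⁻¹ := by
          rw [pow_succ']; group
      _ = k * (w * ζ ^ i) * k⁻¹ := by rw [ih]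
      _ = (k * w * k⁻¹) * (k * ζ ^ i * k⁻¹) := by group
      _ = (w * ζ) * (ζ ^ i) := by rw [hk, hc k, mul_inv_cancel_right]
      _ = w * ζ ^ (i + 1) := by rw [pow_succ']; group

theorem relIndex_lt [Finite G] {n : ℕ} (h : IsEC G n) {p q : ℕ} [hp : Fact p.Prime]
    [hq : Fact q.Prime] (hpq : p ≠ q) (P : Subgroup G) (hP : IsPGroup p P) {u : G}
    (hu : u ∉ Subgroup.center G)
    (huc : ∀ g ∈ P, g * u * g⁻¹ * u⁻¹ ∈ Subgroup.center G)
    (hab : ∀ a ∈ Cen u, ∀ b ∈ Cen u, a * b = b * a) {w₀ : G} (hw₀ : w₀ ∈ Cen u)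
    (hw₀Z : w₀ ∉ Subgroup.center G) (hw₀o : ∃ k : ℕ, w₀ ^ (q ^ k) = 1) :
    (Cen u).relIndex P < (Subgroup.center G).relIndex (qTorsion (Cen u) hab q) := by
  classical
  set C := Cen u with hC
  set Q := qTorsion C hab q with hQ
  have hw₀Q : w₀ ∈ Q := ⟨hw₀, hw₀o⟩
  have hCw₀ : Cen w₀ = C := by
    symm
    apply h.Cen_eq_of_le hu hw₀Z
    intro b hb
    rw [mem_Cen]
    exact hab b hb w₀ hw₀
  have hconjQ : ∀ g ∈ P, ∀ w ∈ Q, g * w * g⁻¹ ∈ Q := by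
    intro g hg w hw
    refine ⟨conj_mem_Cen (huc g hg) hw.1, ?_⟩
    obtain ⟨k, hk⟩ := hw.2
    exact ⟨k, by rw [conj_pow, hk, mul_one, mul_inv_cancel]⟩
  -- the map
  let Ψ : (↥P ⧸ C.subgroupOf P) → (↥Q ⧸ (Subgroup.center G).subgroupOf Q) := fun a =>
    QuotientGroup.mk ⟨(Quotient.out a : P) * w₀ * ((Quotient.out a : P) : G)⁻¹,
      hconjQ _ (Quotient.out a : P).2 w₀ hw₀Q⟩
  have hinj : Function.Injective Ψ := by
    intro a b hab'
    have h1 := (QuotientGroup.eq).mp hab'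
    rw [Subgroup.mem_subgroupOf] at h1
    set ha := (Quotient.out a : P) with hha
    set hb := (Quotient.out b : P) with hhb
    have h2 : ((ha : G) * w₀ * (ha : G)⁻¹)⁻¹ * ((hb : G) * w₀ * (hb : G)⁻¹) ∈ Subgroup.center G := by
      simpa using h1
    set k : G := (ha : G)⁻¹ * hb with hk
    have hkP : k ∈ P := P.mul_mem (P.inv_mem ha.2) hb.2
    set ζ : G := w₀⁻¹ * (k * w₀ * k⁻¹) with hζ
    have hζZ : ζ ∈ Subgroup.center G := by
      have h3 := (inferInstance : (Subgroup.center G).Normal).conj_mem _ h2 (ha : G)⁻¹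
      have e : (ha : G)⁻¹ * (((ha : G) * w₀ * (ha : G)⁻¹)⁻¹ * ((hb : G) * w₀ * (hb : G)⁻¹)) *
          ((ha : G)⁻¹)⁻¹ = ζ := by
        rw [hζ, hk]; group
      rwa [e] at h3
    have hkw : k * w₀ * k⁻¹ = w₀ * ζ := by rw [hζ]; group
    -- `ζ` is a `q`-element
    have hζQ : ζ ∈ Q := Q.mul_mem (Q.inv_mem hw₀Q) (hconjQ k hkP w₀ hw₀Q)
    obtain ⟨j, hj⟩ := hζQ.2
    -- and a `p`-element
    obtain ⟨e, he⟩ := hP ⟨k, hkP⟩
    have he' : k ^ (p ^ e) = 1 := congrArg Subtype.val he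
    have h4 := conj_pow_central hζZ hkw (p ^ e)
    rw [he'] at h4
    have hζp : ζ ^ (p ^ e) = 1 := by
      have : w₀ * ζ ^ (p ^ e) = w₀ * 1 := by rw [← h4]; group
      exact mul_left_cancel this
    have hζ1 : ζ = 1 := by
      have h5 : orderOf ζ ∣ p ^ e := orderOf_dvd_of_pow_eq_one hζp
      have h6 : orderOf ζ ∣ q ^ j := orderOf_dvd_of_pow_eq_one hj
      have hcop : Nat.Coprime (p ^ e) (q ^ j) :=
        Nat.Coprime.pow _ _ ((Nat.coprime_primes hp.out hq.out).mpr hpq)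
      have h7 : orderOf ζ = 1 := Nat.eq_one_of_dvd_coprimes hcop h5 h6
      exact orderOf_eq_one_iff.mp h7
    have hkC : k ∈ C := by
      rw [← hCw₀, mem_Cen]
      rw [hζ1, mul_one] at hkw
      calc k * w₀ = (k * w₀ * k⁻¹) * k := by group
        _ = w₀ * k := by rw [hkw]
    have h8 : (QuotientGroup.mk ha : ↥P ⧸ C.subgroupOf P) = QuotientGroup.mk hb := by
      apply (QuotientGroup.eq).mpr
      rw [Subgroup.mem_subgroupOf]
      simpa [hk] using hkC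
    rw [hha, hhb, QuotientGroup.out_eq', QuotientGroup.out_eq'] at h8
    exact h8
  have hmiss : (1 : ↥Q ⧸ (Subgroup.center G).subgroupOf Q) ∉ Set.range Ψ := by
    rintro ⟨a, ha⟩
    have h1 := (QuotientGroup.eq_one_iff _).mp ha
    rw [Subgroup.mem_subgroupOf] at h1
    have h2 : ((Quotient.out a : P) : G) * w₀ * ((Quotient.out a : P) : G)⁻¹ ∈ Subgroup.center G := h1
    apply hw₀Z
    have h3 := (inferInstance : (Subgroup.center G).Normal).conj_mem _ h2 ((Quotient.out a : P) : G)⁻¹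
    have e : ((Quotient.out a : P) : G)⁻¹ * (((Quotient.out a : P) : G) * w₀ *
        ((Quotient.out a : P) : G)⁻¹) * (((Quotient.out a : P) : G)⁻¹)⁻¹ = w₀ := by group
    rwa [e] at h3
  haveI : Fintype (↥P ⧸ C.subgroupOf P) := Fintype.ofFinite _
  haveI : Fintype (↥Q ⧸ (Subgroup.center G).subgroupOf Q) := Fintype.ofFinite _
  have hlt := Fintype.card_lt_of_injective_of_notMem Ψ hinj hmiss
  rw [← Nat.card_eq_fintype_card, ← Nat.card_eq_fintype_card, ← Subgroup.index_eq_card,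
    ← Subgroup.index_eq_card] at hlt
  exact hlt

end Cfsg.Agent.Lib.Helper7.Ito
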