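import Mathlib
import Cfsg.Agent.Lib.Helper7.Ito5

set_option autoImplicit false

/-! Ito's theorem: the arithmetic inequality `n_p < m_q` for distinct active primes. -/

namespace Cfsg.Agent.Lib.Helper7.Ito

open Cfsg.Agent.Lib.Helper7.CM Cfsg.Agent.Lib.Helper7.TwoCS

variable {G : Type*} [Group G]

/-- `p`-part of the index of `C` is at most `|P : P ∩ C|` for a Sylow `p`-subgroup `P` -/
theorem ordProj_index_le [Finite G] {p : ℕ} [hp : Fact p.Prime] (P : Sylow p G) (C : Subgroup G) :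
    ordProj[p] C.index ≤ C.relIndex (P : Subgroup G) := by
  have hcardP : Nat.card (P : Subgroup G) = p ^ (Nat.card G).factorization p :=
    Sylow.card_eq_multiplicity P
  have h1 : Nat.card (C ⊓ (P : Subgroup G) : Subgroup G) * C.relIndex (P : Subgroup G) =
      Nat.card (P : Subgroup G) := by
    have := Subgroup.relIndex_mul_relIndex ⊥ (C ⊓ (P : Subgroup G)) (P : Subgroup G) bot_le inf_le_right
    rwa [Subgroup.relIndex_bot_left, Subgroup.relIndex_bot_left, Subgroup.inf_relIndex_right] at this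
  have h2 : Nat.card (C ⊓ (P : Subgroup G) : Subgroup G) ∣ Nat.card C :=
    Subgroup.card_dvd_of_le inf_le_left
  have h3 : Nat.card C * C.index = Nat.card G := Subgroup.card_mul_index C
  have hC0 : Nat.card C ≠ 0 := Nat.card_pos.ne'
  have hi0 : C.index ≠ 0 := Subgroup.index_ne_zero_of_finite
  have hfac : (Nat.card G).factorization p = (Nat.card C).factorization p + C.index.factorization p := by
    rw [← h3, Nat.factorization_mul hC0 hi0]; rfl
  obtain ⟨b, -, hb⟩ := (Nat.dvd_prime_pow hp.out).mp (hcardP ▸ Dvd.intro _ h1)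
  obtain ⟨e, -, he⟩ := (Nat.dvd_prime_pow hp.out).mp (hcardP ▸ Dvd.intro_left _ h1)
  have hbe : b + e = (Nat.card G).factorization p := by
    rw [hb, he, hcardP, ← pow_add] at h1
    exact Nat.pow_right_injective hp.out.two_le h1
  have hbc : b ≤ (Nat.card C).factorization p := by
    rw [hb] at h2
    exact (Nat.Prime.pow_dvd_iff_le_factorization hp.out hC0).mp h2
  rw [he]
  apply Nat.pow_le_pow_right hp.out.pos
  omega

/-- the image of a `q`-subgroup `Q ≤ C` in `C / Z` has order at most the `q`-part of `|C : Z|` -/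
theorem relIndex_le_ordProj [Finite G] {q : ℕ} [hq : Fact q.Prime] (Z Q C : Subgroup G) [Z.Normal]
    (hQC : Q ≤ C) (hQ : IsPGroup q Q) : Z.relIndex Q ≤ ordProj[q] (Z.relIndex C) := by
  have h1 : Z.relIndex Q = Nat.card (Q.map (QuotientGroup.mk' Z)) := by
    have := Subgroup.relIndex_ker (QuotientGroup.mk' Z) (K := Q)
    rwa [QuotientGroup.ker_mk'] at this
  have h2 : Z.relIndex C = Nat.card (C.map (QuotientGroup.mk' Z)) := by
    have := Subgroup.relIndex_ker (QuotientGroup.mk' Z) (K := C)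
    rwa [QuotientGroup.ker_mk'] at this
  have h3 : IsPGroup q (Q.map (QuotientGroup.mk' Z)) := hQ.map _
  obtain ⟨j, hj⟩ := IsPGroup.iff_card.mp h3
  have h4 : Nat.card (Q.map (QuotientGroup.mk' Z)) ∣ Nat.card (C.map (QuotientGroup.mk' Z)) :=
    Subgroup.card_dvd_of_le (Subgroup.map_mono hQC)
  rw [h1, h2, hj]
  rw [hj] at h4
  have h0 : Nat.card (C.map (QuotientGroup.mk' Z)) ≠ 0 := Nat.card_pos.ne'
  exact Nat.pow_le_pow_right hq.out.pos ((Nat.Prime.pow_dvd_iff_le_factorization hq.out h0).mp h4)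

theorem relIndex_center_Cen_eq [Finite G] {n : ℕ} (h : IsEC G n) {x y : G}
    (hx : x ∉ Subgroup.center G) (hy : y ∉ Subgroup.center G) :
    (Subgroup.center G).relIndex (Cen x) = (Subgroup.center G).relIndex (Cen y) := by
  have h1 := Subgroup.relIndex_mul_relIndex ⊥ (Subgroup.center G) (Cen x) bot_le (center_le_Cen x)
  have h2 := Subgroup.relIndex_mul_relIndex ⊥ (Subgroup.center G) (Cen y) bot_le (center_le_Cen y)
  rw [Subgroup.relIndex_bot_left, Subgroup.relIndex_bot_left] at h1 h2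
  rw [card_Cen_eq h hx hy, ← h2] at h1
  exact Nat.eq_of_mul_eq_mul_left Nat.card_pos h1

/-- for distinct active primes `p ≠ q`: `n_p < m_q` -/
theorem part_lt [Finite G] {n : ℕ} (h : IsEC G n)
    (hab : ∀ g : G, g ∉ Subgroup.center G → ∀ a ∈ Cen g, ∀ b ∈ Cen g, a * b = b * a)
    {p q : ℕ} [hp : Fact p.Prime] [hq : Fact q.Prime] (hpq : p ≠ q) (hpa : Active G p)
    (hqa : Active G q) {x : G} (hx : x ∉ Subgroup.center G) :
    ordProj[p] n < ordProj[q] ((Subgroup.center G).relIndex (Cen x)) := by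
  obtain ⟨P, u, huP, hu, huc⟩ := exists_almost_central hpa
  obtain ⟨w₀, hw₀, hw₀Z, k, hk⟩ := exists_qElt_in_Cen h hqa hu
  have hw₀o : ∃ k : ℕ, w₀ ^ (q ^ k) = 1 := ⟨k, by rw [← hk]; exact pow_orderOf_eq_one w₀⟩
  have h1 := relIndex_lt h hpq (P : Subgroup G) P.2 hu huc (hab u hu) hw₀ hw₀Z hw₀o
  have h2 := ordProj_index_le P (Cen u)
  rw [h u hu] at h2
  have h3 := relIndex_le_ordProj (Subgroup.center G) (qTorsion (Cen u) (hab u hu) q) (Cen u)
    (qTorsion_le _ _ _) (qTorsion_isPGroup _ _ _)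
  rw [relIndex_center_Cen_eq h hx hu]
  exact lt_of_le_of_lt h2 (lt_of_lt_of_le h1 h3)

end Cfsg.Agent.Lib.Helper7.Ito
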