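import Mathlib
import Cfsg.Agent.Lib.Helper7.Ito6
import Cfsg.Agent.Lib.Helper7.Ito3

set_option autoImplicit false

/-! Ito's theorem: at most one active prime. -/

namespace Cfsg.Agent.Lib.Helper7.Ito

open Cfsg.Agent.Lib.Helper7.CM Cfsg.Agent.Lib.Helper7.TwoCS

theorem prod_ordProj_eq {n : ℕ} (hn : 0 < n) (A : Finset ℕ) (hsub : n.primeFactors ⊆ A) :
    ∏ p ∈ A, ordProj[p] n = n := by
  have h1 := Nat.factorization_prod_pow_eq_self hn.ne'
  rw [Finsupp.prod, Nat.support_factorization] at h1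
  rw [← Finset.prod_subset hsub] 
  · exact h1
  · intro p _ hp
    have : n.factorization p = 0 := by
      rw [← Finsupp.notMem_support_iff, Nat.support_factorization]; exact hp
    rw [this, pow_zero]

theorem prod_ordProj_le {m : ℕ} (hm : 0 < m) (A : Finset ℕ) :
    ∏ p ∈ A, ordProj[p] m ≤ m := by
  classical
  apply Nat.le_of_dvd hm
  have h1 := Nat.factorization_prod_pow_eq_self hm.ne'
  rw [Finsupp.prod, Nat.support_factorization] at h1
  have h2 : ∏ p ∈ A ∩ m.primeFactors, ordProj[p] m = ∏ p ∈ A, ordProj[p] m := by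
    apply Finset.prod_subset Finset.inter_subset_left
    intro p hpA hp
    have hp' : p ∉ m.primeFactors := fun h0 => hp (Finset.mem_inter.mpr ⟨hpA, h0⟩)
    have : m.factorization p = 0 := by
      rw [← Finsupp.notMem_support_iff, Nat.support_factorization]; exact hp'
    rw [this, pow_zero]
  rw [← h2]
  calc ∏ p ∈ A ∩ m.primeFactors, ordProj[p] m ∣ ∏ p ∈ m.primeFactors, ordProj[p] m :=
        Finset.prod_dvd_prod_of_subset _ _ _ Finset.inter_subset_right
    _ = m := h1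

theorem nt_lemma {n m : ℕ} (hn : 0 < n) (hm : 0 < m) (A : Finset ℕ)
    (hsub : n.primeFactors ⊆ A) (h2 : ∃ p ∈ A, ∃ q ∈ A, p ≠ q)
    (hlt : ∀ p ∈ A, ∀ q ∈ A, p ≠ q → ordProj[p] n < ordProj[q] m) : n < m := by
  classical
  obtain ⟨p0, hp0, q0, hq0, hpq0⟩ := h2
  obtain ⟨p₁, hp₁, hmax⟩ := Finset.exists_max_image A (fun p => ordProj[p] n) ⟨p0, hp0⟩
  obtain ⟨p₂, hp₂, hne⟩ : ∃ p₂ ∈ A, p₂ ≠ p₁ := by
    by_cases h0 : p0 = p₁
    · exact ⟨q0, hq0, fun h1 => hpq0 (h0.trans h1.symm)⟩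
    · exact ⟨p0, hp0, h0⟩
  have hp₂' : p₂ ∈ A.erase p₁ := Finset.mem_erase.mpr ⟨hne, hp₂⟩
  have hf : ∏ p ∈ A, ordProj[p] n =
      ordProj[p₁] n * (ordProj[p₂] n * ∏ p ∈ (A.erase p₁).erase p₂, ordProj[p] n) := by
    rw [← Finset.mul_prod_erase A _ hp₁, ← Finset.mul_prod_erase (A.erase p₁) _ hp₂']
  have hg : ∏ p ∈ A, ordProj[p] m =
      ordProj[p₁] m * (ordProj[p₂] m * ∏ p ∈ (A.erase p₁).erase p₂, ordProj[p] m) := by
    rw [← Finset.mul_prod_erase A _ hp₁, ← Finset.mul_prod_erase (A.erase p₁) _ hp₂']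
  have hrest : ∏ p ∈ (A.erase p₁).erase p₂, ordProj[p] n ≤
      ∏ p ∈ (A.erase p₁).erase p₂, ordProj[p] m := by
    apply Finset.prod_le_prod
    · intro _ _; exact Nat.zero_le _
    · intro p hp
      have hpA : p ∈ A := Finset.mem_of_mem_erase (Finset.mem_of_mem_erase hp)
      have hpne : p ≠ p₁ := (Finset.mem_erase.mp (Finset.mem_of_mem_erase hp)).1
      exact le_of_lt (lt_of_le_of_lt (hmax p hpA) (hlt p₁ hp₁ p hpA hpne.symm))
  have hpos : 0 < ∏ p ∈ (A.erase p₁).erase p₂, ordProj[p] m := by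
    apply Finset.prod_pos
    intro p _
    exact Nat.ordProj_pos m p
  have h12 : ordProj[p₁] n < ordProj[p₂] m := hlt p₁ hp₁ p₂ hp₂ hne.symm
  have h21 : ordProj[p₂] n < ordProj[p₁] m := hlt p₂ hp₂ p₁ hp₁ hne
  have hkey : ∏ p ∈ A, ordProj[p] n < ∏ p ∈ A, ordProj[p] m := by
    rw [hf, hg, ← mul_assoc, ← mul_assoc, mul_comm (ordProj[p₁] m)]
    exact Nat.mul_lt_mul_of_lt_of_le (Nat.mul_lt_mul'' h12 h21) hrest hpos
  rw [prod_ordProj_eq hn A hsub] at hkey
  exact lt_of_lt_of_le hkey (prod_ordProj_le hm A)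

variable {G : Type*} [Group G]

theorem Active.dvd_card [Finite G] {p : ℕ} (hpa : Active G p) : p ∣ Nat.card G := by
  obtain ⟨y, hy, k, hk⟩ := hpa
  have hk0 : k ≠ 0 := by
    rintro rfl
    rw [pow_zero, orderOf_eq_one_iff] at hk
    exact hy (hk ▸ (Subgroup.center G).one_mem)
  have h1 : orderOf y ∣ Nat.card G := orderOf_dvd_natCard y
  rw [hk] at h1
  exact (dvd_pow_self p hk0).trans h1

/-- a prime dividing `n` is active -/
theorem active_of_dvd [Finite G] {n : ℕ} (h : IsEC G n) {x : G} (hx : x ∉ Subgroup.center G)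
    {r : ℕ} [hr : Fact r.Prime] (hrn : r ∣ n) : Active G r := by
  by_contra hna
  obtain ⟨R⟩ : Nonempty (Sylow r G) := inferInstance
  have hRZ : (R : Subgroup G) ≤ Subgroup.center G := by
    intro g hg
    by_contra hgZ
    apply hna
    refine ⟨g, hgZ, ?_⟩
    obtain ⟨k, hk⟩ := (IsPGroup.iff_orderOf.mp R.2) ⟨g, hg⟩
    exact ⟨k, by rw [← hk]; simp⟩
  have h1 := ordProj_index_le R (Cen x)
  rw [h x hx] at h1
  have h2 : (Cen x).relIndex (R : Subgroup G) = 1 :=
    Subgroup.relIndex_eq_one.mpr (hRZ.trans (center_le_Cen x))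
  rw [h2] at h1
  have hn0 : n ≠ 0 := by rw [← h x hx]; exact Subgroup.index_ne_zero_of_finite
  have h3 : 1 ≤ n.factorization r :=
    (Nat.Prime.dvd_iff_one_le_factorization hr.out hn0).mp hrn
  have h4 : r ^ 1 ≤ r ^ n.factorization r := Nat.pow_le_pow_right hr.out.pos h3
  rw [pow_one] at h4
  have := hr.out.two_le
  omega

theorem not_two_active [Finite G] {n : ℕ} (hn : 1 < n) (h : IsEC G n) {p q : ℕ}
    [hp : Fact p.Prime] [hq : Fact q.Prime] (hpq : p ≠ q) (hpa : Active G p) (hqa : Active G q) :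
    False := by
  classical
  have hab : ∀ g : G, g ∉ Subgroup.center G → ∀ a ∈ Cen g, ∀ b ∈ Cen g, a * b = b * a :=
    fun g hg => Cen_abelian h hpq hpa hqa hg
  obtain ⟨x, hx, hxk⟩ := hpa
  have hpa : Active G p := ⟨x, hx, hxk⟩
  set m := (Subgroup.center G).relIndex (Cen x) with hm
  have hcard : Nat.card (Subgroup.center G) * m = Nat.card (Cen x) := by
    have := Subgroup.relIndex_mul_relIndex ⊥ (Subgroup.center G) (Cen x) bot_le (center_le_Cen x)
    rwa [Subgroup.relIndex_bot_left, Subgroup.relIndex_bot_left] at this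
  have hle := card_Cen_le hn h hab hx
  have hZpos : 0 < Nat.card (Subgroup.center G) := Nat.card_pos
  have hmn : m ≤ n := by
    rw [← hcard, mul_comm] at hle
    exact Nat.le_of_mul_le_mul_right hle hZpos
  have hm0 : 0 < m := by
    rcases Nat.eq_zero_or_pos m with h0 | h0
    · rw [h0, mul_zero] at hcard
      exact absurd hcard.symm Nat.card_pos.ne'
    · exact h0
  have hndvd : n ∣ Nat.card G := by
    rw [← h x hx]; exact Subgroup.index_dvd_card _
  set A : Finset ℕ := (Nat.card G).primeFactors.filter (fun r => Active G r) with hA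
  have hsub : n.primeFactors ⊆ A := by
    intro r hr
    have hrp : r.Prime := Nat.prime_of_mem_primeFactors hr
    have hrn : r ∣ n := Nat.dvd_of_mem_primeFactors hr
    haveI : Fact r.Prime := ⟨hrp⟩
    rw [hA, Finset.mem_filter]
    refine ⟨?_, active_of_dvd h hx hrn⟩
    exact Nat.mem_primeFactors.mpr ⟨hrp, hrn.trans hndvd, Nat.card_pos.ne'⟩
  have hpA : p ∈ A := by
    rw [hA, Finset.mem_filter]
    exact ⟨Nat.mem_primeFactors.mpr ⟨hp.out, hpa.dvd_card, Nat.card_pos.ne'⟩, hpa⟩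
  have hqA : q ∈ A := by
    rw [hA, Finset.mem_filter]
    exact ⟨Nat.mem_primeFactors.mpr ⟨hq.out, hqa.dvd_card, Nat.card_pos.ne'⟩, hqa⟩
  have hlt : ∀ r ∈ A, ∀ s ∈ A, r ≠ s → ordProj[r] n < ordProj[s] m := by
    intro r hr s hs hrs
    rw [hA, Finset.mem_filter] at hr hs
    haveI : Fact r.Prime := ⟨Nat.prime_of_mem_primeFactors hr.1⟩
    haveI : Fact s.Prime := ⟨Nat.prime_of_mem_primeFactors hs.1⟩
    exact part_lt h hab hrs hr.2 hs.2 hx
  have := nt_lemma (by omega) hm0 A hsub ⟨p, hpA, q, hqA, hpq⟩ hlt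
  omega

end Cfsg.Agent.Lib.Helper7.Ito
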