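import Mathlib
import Cfsg.Agent.Lib.Helper7.CycAb9
import Cfsg.Agent.Lib.Helper7.Ito7

set_option autoImplicit false

/-!
# Counting tools: fixed-point-free action of an element of order `p`, conjugates into a Sylow
subgroup, the index of `C_G(Z)` in `N_G(Z)`
-/

namespace Cfsg.Agent.Lib.Helper7.CycAb

universe u

open Pointwise

variable {G : Type u} [Group G] [Finite G] {p : ℕ} [hp : Fact p.Prime]

/-- a `p`-element is conjugate into any given Sylow `p`-subgroup -/
theorem exists_conj_mem_sylow (P : Sylow p G) {y : G} (hy : ∃ k : ℕ, orderOf y = p ^ k) :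
    ∃ h : G, h⁻¹ * y * h ∈ (P : Subgroup G) := by
  obtain ⟨k, hk⟩ := hy
  have h1 : IsPGroup p (Subgroup.zpowers y) := by
    rw [IsPGroup.iff_card]
    exact ⟨k, by rw [Nat.card_zpowers, hk]⟩
  obtain ⟨P', hP'⟩ := h1.exists_le_sylow
  obtain ⟨n, hn⟩ := MulAction.exists_smul_eq G P P'
  have h2 : y ∈ (P' : Subgroup G) := hP' (Subgroup.mem_zpowers y)
  rw [← hn] at h2
  have h3 : y ∈ MulAut.conj n • (P : Subgroup G) := by
    rw [← Sylow.pointwise_smul_def]; exact h2
  rw [Subgroup.mem_pointwise_smul_iff_inv_smul_mem] at h3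
  refine ⟨n, ?_⟩
  simpa [MulAut.smul_def, mul_assoc] using h3

/-- an element of order `p` normalizing `Q` without nontrivial fixed points forces
`|Q| ≡ 1 (mod p)` -/
theorem fpf_card (Q : Subgroup G) {y : G} (hy : orderOf y = p)
    (hyN : y ∈ Subgroup.normalizer (Q : Set G)) (hfix : ∀ u ∈ Q, y * u * y⁻¹ = u → u = 1) :
    Nat.card Q ≡ 1 [MOD p] := by
  set y' : Subgroup.normalizer (Q : Set G) := ⟨y, hyN⟩ with hy'
  have hY : IsPGroup p (Subgroup.zpowers y') := by
    rw [IsPGroup.iff_card]
    refine ⟨1, ?_⟩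
    rw [Nat.card_zpowers, pow_one, ← hy, hy', ← Subgroup.orderOf_coe]
  have h1 := hY.card_modEq_card_fixedPoints Q
  have h2 : MulAction.fixedPoints (Subgroup.zpowers y') Q = {1} := by
    ext a
    simp only [MulAction.mem_fixedPoints, Set.mem_singleton_iff]
    constructor
    · intro h
      have h3 := h ⟨y', Subgroup.mem_zpowers y'⟩
      have h4 : y * (a : G) * y⁻¹ = a := congrArg Subtype.val h3
      apply Subtype.ext
      exact hfix a a.2 h4
    · rintro rfl m
      exact smul_one m
  rw [h2] at h1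
  simpa using h1

/-- `|N_G(Z) : C_G(Z)|` divides `p - 1` for a subgroup `Z` of order `p` -/
theorem relIndex_dvd_pred (Z : Subgroup G) (hZ : Nat.card Z = p) :
    (Subgroup.centralizer (Z : Set G)).relIndex (Subgroup.normalizer (Z : Set G)) ∣ p - 1 := by
  have key := Subgroup.card_dvd_of_injective _
    (QuotientGroup.kerLift_injective Z.normalizerMonoidHom)
  rw [Subgroup.normalizerMonoidHom_ker, ← Subgroup.index, ← Subgroup.relIndex] at key
  haveI : IsCyclic Z := by
    haveI : Fact (Nat.card Z).Prime := by rw [hZ]; exact hp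
    exact isCyclic_of_prime_card rfl
  rw [IsCyclic.card_mulAut, hZ, Nat.totient_prime hp.out] at key
  exact key

theorem card_eq_relIndex_mul {H K : Subgroup G} (hHK : H ≤ K) :
    Nat.card K = H.relIndex K * Nat.card H := by
  have h1 : Nat.card (H.subgroupOf K) * (H.subgroupOf K).index = Nat.card K :=
    Subgroup.card_mul_index _
  have h2 : Nat.card (H.subgroupOf K) = Nat.card H :=
    Nat.card_congr (Subgroup.subgroupOfEquivOfLe hHK).toEquiv
  rw [← h1, h2, mul_comm]
  rfl

/-- if every Sylow `q`-subgroup, `q ≠ p`, has order `≡ 1 (mod p)`, then so does `|G|_{p'}` -/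
theorem ordCompl_modEq_one (n : ℕ) (hn : 0 < n)
    (h : ∀ q : ℕ, q.Prime → q ≠ p → ordProj[q] n ≡ 1 [MOD p]) : ordCompl[p] n ≡ 1 [MOD p] := by
  have h1 := Cfsg.Agent.Lib.Helper7.Ito.prod_ordProj_eq hn (insert p n.primeFactors)
    (Finset.subset_insert _ _)
  have h2 : insert p n.primeFactors = insert p (n.primeFactors.erase p) := by
    ext x; simp only [Finset.mem_insert, Finset.mem_erase]; tauto
  rw [h2, Finset.prod_insert (Finset.notMem_erase p _)] at h1
  have h3 : ordCompl[p] n = ∏ q ∈ n.primeFactors.erase p, ordProj[q] n := by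
    have h4 : ordProj[p] n * ordCompl[p] n = n := Nat.ordProj_mul_ordCompl_eq_self n p
    have h5 : 0 < ordProj[p] n := Nat.ordProj_pos n p
    apply Nat.eq_of_mul_eq_mul_left h5
    rw [h4, h1]
  rw [h3]
  apply Finset.prod_induction _ (fun t => t ≡ 1 [MOD p])
  · intro a b ha hb
    have := Nat.ModEq.mul ha hb
    simpa using this
  · exact Nat.ModEq.refl 1
  · intro q hq
    rw [Finset.mem_erase] at hq
    exact h q (Nat.prime_of_mem_primeFactors hq.2) hq.1

end Cfsg.Agent.Lib.Helper7.CycAb
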