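import Mathlib
import Cfsg.Agent.Lib.Helper7.CycAb10

set_option autoImplicit false

/-!
# Case D: `C_G(Z)` is a `p`-group
-/

namespace Cfsg.Agent.Lib.Helper7.CycAb

universe u

variable {G : Type u} [Group G] [Finite G] {p : ℕ} [hp : Fact p.Prime]

namespace Ctx2

include hp in
/-- if `C_G(Z)` has no nontrivial `p'`-elements, then no element of order `p` commutes with a
nontrivial `p'`-element -/
theorem cent_trivial (c : Ctx2 p G)
    (hK : ∀ x ∈ Subgroup.centralizer (c.Z : Set G), (orderOf x).Coprime p → x = 1)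
    {y : G} (hy : orderOf y = p) {u : G} (hu : (orderOf u).Coprime p) (hc : u * y = y * u) :
    u = 1 := by
  obtain ⟨h, hh⟩ := exists_conj_mem_sylow c.P (y := y) ⟨1, by rw [hy, pow_one]⟩
  have ho : orderOf (h⁻¹ * y * h) = p := by
    have := orderOf_conj' h⁻¹ y
    rw [inv_inv] at this
    rw [this, hy]
  have h1 : h⁻¹ * y * h ≠ 1 := by
    intro h0
    rw [h0, orderOf_one] at ho
    exact hp.out.one_lt.ne ho
  have h2 : (h⁻¹ * u * h) * (h⁻¹ * y * h) = (h⁻¹ * y * h) * (h⁻¹ * u * h) := by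
    have e1 : (h⁻¹ * u * h) * (h⁻¹ * y * h) = h⁻¹ * (u * y) * h := by group
    have e2 : (h⁻¹ * y * h) * (h⁻¹ * u * h) = h⁻¹ * (y * u) * h := by group
    rw [e1, e2, hc]
  have h3 := c.toCtx.cent_le hh h1 h2
  have h4 : orderOf (h⁻¹ * u * h) = orderOf u := by
    have := orderOf_conj' h⁻¹ u
    rw [inv_inv] at this
    exact this
  have h5 := hK _ h3 (by rw [h4]; exact hu)
  have : u = h * (h⁻¹ * u * h) * h⁻¹ := by group
  rw [this, h5, mul_one, mul_inv_cancel]

include hp in
theorem centZ_eq_P (c : Ctx2 p G)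
    (hK : ∀ x ∈ Subgroup.centralizer (c.Z : Set G), (orderOf x).Coprime p → x = 1) :
    Subgroup.centralizer (c.Z : Set G) = (c.P : Subgroup G) :=
  c.P.is_maximal' (isPGroup_of_forall _ hK) c.toCtx.P_le_centZ

include hp in
theorem sylow_card_modEq (c : Ctx2 p G)
    (hK : ∀ x ∈ Subgroup.centralizer (c.Z : Set G), (orderOf x).Coprime p → x = 1)
    (hcon : ¬ Concl p G) {q : ℕ} [hq : Fact q.Prime] (hqp : q ≠ p) (Q : Sylow q G) :
    Nat.card (Q : Subgroup G) ≡ 1 [MOD p] := by
  by_cases hQ : (Q : Subgroup G) = ⊥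
  · rw [hQ, Subgroup.card_bot]
  rcases c.toCtx.qstep hqp Q hQ with h | ⟨y₀, hy₀N, ⟨k, hk⟩, hy₀C⟩
  · exact absurd h hcon
  have hk0 : k ≠ 0 := by
    rintro rfl
    rw [pow_zero, orderOf_eq_one_iff] at hk
    apply hy₀C
    rw [hk]
    exact Subgroup.one_mem _
  obtain ⟨j, rfl⟩ := Nat.exists_eq_succ_of_ne_zero hk0
  have hy : orderOf (y₀ ^ p ^ j) = p := by
    rw [orderOf_pow_of_dvd (pow_ne_zero _ hp.out.ne_zero) (by rw [hk]; exact pow_dvd_pow p (Nat.le_succ j)),
      hk, pow_succ, Nat.mul_div_cancel_left _ (pow_pos hp.out.pos j)]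
  apply fpf_card (Q : Subgroup G) hy (Subgroup.pow_mem _ hy₀N _)
  intro u hu hfix
  apply c.cent_trivial hK hy (coprime_of_mem_sylow hqp Q hu)
  have := congrArg (· * y₀ ^ p ^ j) hfix
  simp only [inv_mul_cancel_right] at this
  exact this.symm

include hp in
/-- Case D -/
theorem caseD (c : Ctx2 p G)
    (hK : ∀ x ∈ Subgroup.centralizer (c.Z : Set G), (orderOf x).Coprime p → x = 1) :
    Concl p G := by
  by_contra hcon
  have hn : 0 < Nat.card G := Nat.card_pos
  have h1 : ordCompl[p] (Nat.card G) ≡ 1 [MOD p] := by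
    apply ordCompl_modEq_one _ hn
    intro q hq hqp
    haveI : Fact q.Prime := ⟨hq⟩
    obtain ⟨Q⟩ : Nonempty (Sylow q G) := inferInstance
    rw [← Q.card_eq_multiplicity]
    exact c.sylow_card_modEq hK hcon hqp Q
  have h2 : Nat.card (Sylow p G) ≡ 1 [MOD p] := card_sylow_modEq_one p G
  have hXN : Subgroup.centralizer (c.Z : Set G) ≤ Subgroup.normalizer (c.Z : Set G) :=
    Subgroup.centralizer_le_normalizer _
  have h3 : Nat.card G = Nat.card (Sylow p G) *
      ((Subgroup.centralizer (c.Z : Set G)).relIndex (Subgroup.normalizer (c.Z : Set G)) *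
        p ^ (Nat.card G).factorization p) := by
    have e0 : (Subgroup.normalizer (c.P : Set G)).index =
        (Subgroup.normalizer (c.Z : Set G)).index := by rw [c.hNZ]; rfl
    rw [← c.P.card_eq_multiplicity, c.P.card_eq_index_normalizer, e0]
    have e1 := card_eq_relIndex_mul hXN
    rw [c.centZ_eq_P hK] at e1
    rw [c.centZ_eq_P hK, ← e1, mul_comm]
    exact (Subgroup.card_mul_index _).symm
  have h4 : ordCompl[p] (Nat.card G) = Nat.card (Sylow p G) *
      (Subgroup.centralizer (c.Z : Set G)).relIndex (Subgroup.normalizer (c.Z : Set G)) := by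
    have hpos : 0 < p ^ (Nat.card G).factorization p := pow_pos hp.out.pos _
    generalize (Nat.card G).factorization p = a at h3 hpos ⊢
    rw [h3, ← mul_assoc, Nat.mul_div_cancel _ hpos]
  have h5 : (Subgroup.centralizer (c.Z : Set G)).relIndex (Subgroup.normalizer (c.Z : Set G))
      ≡ 1 [MOD p] := by
    rw [h4] at h1
    have := Nat.ModEq.mul_right
      ((Subgroup.centralizer (c.Z : Set G)).relIndex (Subgroup.normalizer (c.Z : Set G))) h2
    rw [one_mul] at this
    exact this.symm.trans h1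
  have h6 := relIndex_dvd_pred c.Z c.toCtx.hZcard
  have hp2 : 2 ≤ p := hp.out.two_le
  have h7 : (Subgroup.centralizer (c.Z : Set G)).relIndex (Subgroup.normalizer (c.Z : Set G))
      ≤ p - 1 := Nat.le_of_dvd (by omega) h6
  have h8 : (Subgroup.centralizer (c.Z : Set G)).relIndex (Subgroup.normalizer (c.Z : Set G))
      = 1 := by
    have := h5
    unfold Nat.ModEq at this
    rw [Nat.mod_eq_of_lt (by omega), Nat.mod_eq_of_lt (by omega)] at this
    exact this
  rw [Subgroup.relIndex_eq_one] at h8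
  apply c.hg₀C
  rw [← c.centZ_eq]
  apply h8
  rw [c.hNZ]
  exact c.hg₀N

end Ctx2

end Cfsg.Agent.Lib.Helper7.CycAb
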