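import Mathlib
import Cfsg.Agent.Lib.Helper7.CycAb11

set_option autoImplicit false

/-!
# Case E: `C_G(Z)` has nontrivial `p'`-elements — general facts
-/

namespace Cfsg.Agent.Lib.Helper7.CycAb

universe u

variable {G : Type u} [Group G]

/-- in a finite group, an element mapping a subgroup into itself by conjugation normalizes it -/
theorem mem_normalizer_of_conj_mem [Finite G] {H : Subgroup G} {g : G}
    (h : ∀ x ∈ H, g * x * g⁻¹ ∈ H) : g ∈ Subgroup.normalizer (H : Set G) := by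
  have hpow : ∀ j : ℕ, ∀ x ∈ H, g ^ j * x * (g ^ j)⁻¹ ∈ H := by
    intro j
    induction j with
    | zero => intro x hx; simpa using hx
    | succ j ih =>
      intro x hx
      have h1 := h _ (ih x hx)
      have h2 : g * (g ^ j * x * (g ^ j)⁻¹) * g⁻¹ = g ^ (j + 1) * x * (g ^ (j + 1))⁻¹ := by
        rw [pow_succ']; group
      rwa [h2] at h1
  have hinv : ∀ x ∈ H, g⁻¹ * x * g ∈ H := by
    intro x hx
    have ho : 0 < orderOf g := orderOf_pos g
    have h1 := hpow (orderOf g - 1) x hx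
    have h2 : g ^ (orderOf g - 1) = g⁻¹ := by
      have : g ^ (orderOf g - 1) * g = 1 := by
        rw [← pow_succ, Nat.sub_add_cancel ho, pow_orderOf_eq_one]
      exact eq_inv_of_mul_eq_one_left this
    rwa [h2, inv_inv] at h1
  rw [Subgroup.mem_normalizer_iff]
  intro x
  constructor
  · exact h x
  · intro hx
    have := hinv _ hx
    simpa [mul_assoc] using this

/-- the normalizer of `Z` normalizes the centralizer of `Z` -/
theorem conj_mem_centralizer {Z : Subgroup G} {n x : G}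
    (hn : n ∈ Subgroup.normalizer (Z : Set G)) (hx : x ∈ Subgroup.centralizer (Z : Set G)) :
    n * x * n⁻¹ ∈ Subgroup.centralizer (Z : Set G) := by
  rw [Subgroup.mem_centralizer_iff]
  intro z hz
  have h1 : n⁻¹ * z * n ∈ Z := by
    have := (Subgroup.mem_normalizer_iff.mp (Subgroup.inv_mem _ hn) z).mp hz
    simpa using this
  have h2 := Subgroup.mem_centralizer_iff.mp hx _ h1
  have e1 : z * (n * x * n⁻¹) = n * ((n⁻¹ * z * n) * x) * n⁻¹ := by group
  have e2 : n * x * n⁻¹ * z = n * (x * (n⁻¹ * z * n)) * n⁻¹ := by group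
  rw [e1, e2, h2]

variable [Finite G] {p : ℕ} [hp : Fact p.Prime]

namespace Ctx2

/-- `p'`-elements of `C_G(Z)` -/
def IsK (c : Ctx2 p G) (x : G) : Prop :=
  x ∈ Subgroup.centralizer (c.Z : Set G) ∧ (orderOf x).Coprime p

include hp in
theorem IsK.conj (c : Ctx2 p G) {x : G} (hx : c.IsK x) {n : G}
    (hn : n ∈ Subgroup.normalizer ((c.P : Subgroup G) : Set G)) : c.IsK (n * x * n⁻¹) := by
  refine ⟨conj_mem_centralizer (c.hNZ ▸ hn) hx.1, ?_⟩
  rw [orderOf_conj']
  exact hx.2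

theorem IsK.pow (c : Ctx2 p G) {x : G} (hx : c.IsK x) (j : ℕ) : c.IsK (x ^ j) :=
  ⟨Subgroup.pow_mem _ hx.1 j, Nat.Coprime.coprime_dvd_left (orderOf_pow_dvd j) hx.2⟩

include hp in
/-- `N_G(P)` centralizes the `p'`-elements of `C_G(Z)` -/
theorem normalizer_comm (c : Ctx2 p G) {n κ : G}
    (hn : n ∈ Subgroup.normalizer ((c.P : Subgroup G) : Set G)) (hκ : c.IsK κ) :
    n * κ = κ * n := by
  obtain ⟨K, hKX, hK⟩ := c.toCtx.exists_K
  have hκK : κ ∈ K := (hK κ hκ.1).mpr hκ.2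
  have hKp : ¬ p ∣ Nat.card K :=
    not_dvd_card_of_forall_coprime K (fun x hx => (hK x (hKX hx)).mp hx)
  obtain ⟨a, b, ha, hb, hab, hacop, j, hbj⟩ := Cfsg.Agent.Lib.Helper7.Ito.pdecomp p n
  have hzn : Subgroup.zpowers n ≤ Subgroup.normalizer ((c.P : Subgroup G) : Set G) :=
    Subgroup.zpowers_le.mpr hn
  have haN := hzn ha
  have hbN := hzn hb
  have hbP : b ∈ (c.P : Subgroup G) := mem_sylow_of_mem_normalizer c.P hbN hbj
  have hκP : κ ∈ Subgroup.centralizer ((c.P : Subgroup G) : Set G) := by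
    rw [← c.centZ_eq]; exact hκ.1
  have hbκ : b * κ = κ * b := Subgroup.mem_centralizer_iff.mp hκP b hbP
  have hconjK : ∀ m ∈ Subgroup.normalizer ((c.P : Subgroup G) : Set G), ∀ x ∈ K,
      m * x * m⁻¹ ∈ K := by
    intro m hm x hx
    have h1 : c.IsK x := ⟨hKX hx, (hK x (hKX hx)).mp hx⟩
    have h2 := h1.conj c hm
    exact (hK _ h2.1).mpr h2.2
  have haK : a ∈ Subgroup.normalizer (K : Set G) := by
    rw [Subgroup.mem_normalizer_iff]
    intro x
    constructor
    · exact hconjK a haN x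
    · intro hx
      have := hconjK a⁻¹ (Subgroup.inv_mem _ haN) _ hx
      simpa [mul_assoc] using this
  have hLE : Subgroup.zpowers a ≤ Subgroup.normalizer (K : Set G) := Subgroup.zpowers_le.mpr haK
  have hza : ¬ p ∣ Nat.card (Subgroup.zpowers a) := by
    rw [Nat.card_zpowers]
    exact (Nat.Prime.coprime_iff_not_dvd hp.out).mp hacop.symm
  have h3 := c.hyp.2 _ (not_dvd_card_sup K (Subgroup.zpowers a) hLE hKp hza)
  have haκ : a * κ = κ * a :=
    comm_of h3 (Subgroup.mem_sup_left (Subgroup.mem_zpowers a)) (Subgroup.mem_sup_right hκK)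
  rw [hab, mul_assoc, hbκ, ← mul_assoc, haκ, mul_assoc]

include hp in
/-- the centralizer of a nontrivial `p'`-element of `C_G(Z)` lies in `N_G(P)` -/
theorem cent_le_normalizer (c : Ctx2 p G) {κ : G} (hκ : c.IsK κ) (hκ1 : κ ≠ 1) {g : G}
    (hg : g * κ = κ * g) : g ∈ Subgroup.normalizer ((c.P : Subgroup G) : Set G) := by
  have hκP : κ ∈ Subgroup.centralizer ((c.P : Subgroup G) : Set G) := by
    rw [← c.centZ_eq]; exact hκ.1
  have hX : Subgroup.centralizer ({κ} : Set G) ≠ ⊤ := by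
    intro htop
    have hcen : ∀ g : G, g * κ = κ * g := by
      intro g
      have : g ∈ Subgroup.centralizer ({κ} : Set G) := htop ▸ Subgroup.mem_top g
      exact (Subgroup.mem_centralizer_iff.mp this κ rfl).symm
    have hnorm : (Subgroup.zpowers κ).Normal := by
      constructor
      intro x hx g
      obtain ⟨i, rfl⟩ := Subgroup.mem_zpowers_iff.mp hx
      have : Commute g κ := hcen g
      have h2 : g * κ ^ i * g⁻¹ = κ ^ i := by
        rw [(this.zpow_right i).eq, mul_inv_cancel_right]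
      rw [h2]
      exact Subgroup.zpow_mem_zpowers κ i
    have h1 := c.H1 _ hnorm (by
      rw [Nat.card_zpowers]
      exact (Nat.Prime.coprime_iff_not_dvd hp.out).mp hκ.2.symm)
    apply hκ1
    have : κ ∈ Subgroup.zpowers κ := Subgroup.mem_zpowers κ
    rw [h1, Subgroup.mem_bot] at this
    exact this
  have hPX : (c.P : Subgroup G) ≤ Subgroup.centralizer ({κ} : Set G) := by
    intro x hx
    rw [Subgroup.mem_centralizer_iff]
    rintro _ rfl
    exact (Subgroup.mem_centralizer_iff.mp hκP x hx).symm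
  have hgX : c.g₀ ∈ Subgroup.centralizer ({κ} : Set G) := by
    rw [Subgroup.mem_centralizer_iff]
    rintro _ rfl
    exact (c.normalizer_comm c.hg₀N hκ).symm
  apply c.le_normalizer_of_proper _ hX hPX hgX
  rw [Subgroup.mem_centralizer_iff]
  rintro _ rfl
  exact hg.symm

include hp in
/-- the `p'`-elements of `C_G(Z)` form a TI set with normalizer `N_G(P)` -/
theorem ti (c : Ctx2 p G) {g : G}
    (hg : g ∉ Subgroup.normalizer ((c.P : Subgroup G) : Set G)) {κ : G} (hκ : c.IsK κ)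
    (hκ' : c.IsK (g * κ * g⁻¹)) : κ = 1 := by
  by_contra hκ1
  apply hg
  apply mem_normalizer_of_conj_mem
  intro x hx
  have hκP : κ ∈ Subgroup.centralizer ((c.P : Subgroup G) : Set G) := by
    rw [← c.centZ_eq]; exact hκ.1
  have h1 : x * κ = κ * x := Subgroup.mem_centralizer_iff.mp hκP x hx
  have h2 : (g * x * g⁻¹) * (g * κ * g⁻¹) = (g * κ * g⁻¹) * (g * x * g⁻¹) := by
    have e1 : (g * x * g⁻¹) * (g * κ * g⁻¹) = g * (x * κ) * g⁻¹ := by group
    have e2 : (g * κ * g⁻¹) * (g * x * g⁻¹) = g * (κ * x) * g⁻¹ := by group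
    rw [e1, e2, h1]
  have h3 : g * κ * g⁻¹ ≠ 1 := by
    intro h0
    apply hκ1
    have : κ = g⁻¹ * (g * κ * g⁻¹) * g := by group
    rw [this, h0, mul_one, inv_mul_cancel]
  have h4 := c.cent_le_normalizer hκ' h3 h2
  obtain ⟨j, hj⟩ := (IsPGroup.iff_orderOf.mp c.P.isPGroup') ⟨x, hx⟩
  rw [Subgroup.orderOf_mk] at hj
  exact mem_sylow_of_mem_normalizer c.P h4 (k := j) (by rw [orderOf_conj', hj])

include hp in
/-- a Sylow `q`-subgroup containing a nontrivial `p'`-element of `C_G(Z)` lies in `N_G(P)` -/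
theorem sylow_le_normalizer (c : Ctx2 p G) {q : ℕ} [hq : Fact q.Prime] (hqp : q ≠ p)
    (Q : Sylow q G) {κ : G} (hκQ : κ ∈ (Q : Subgroup G)) (hκ : c.IsK κ) (hκ1 : κ ≠ 1) :
    (Q : Subgroup G) ≤ Subgroup.normalizer ((c.P : Subgroup G) : Set G) := by
  have hQc : IsMulCommutative (Q : Subgroup G) := c.hyp.2 _ (not_dvd_card_sylow' hqp Q)
  intro u hu
  exact c.cent_le_normalizer hκ hκ1 (comm_of hQc hu hκQ)

include hp in
/-- `p`-elements of `N_G(P) ∩ N_G(Q)` centralize `Q ≤ N_G(P)` -/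
theorem pelt_cent (c : Ctx2 p G) {q : ℕ} [hq : Fact q.Prime] (hqp : q ≠ p) (Q : Sylow q G)
    (hQN : (Q : Subgroup G) ≤ Subgroup.normalizer ((c.P : Subgroup G) : Set G)) {y : G}
    (hyQ : y ∈ Subgroup.normalizer ((Q : Subgroup G) : Set G))
    (hyN : y ∈ Subgroup.normalizer ((c.P : Subgroup G) : Set G)) {j : ℕ}
    (hy : orderOf y = p ^ j) : y ∈ Subgroup.centralizer ((Q : Subgroup G) : Set G) := by
  have hyP : y ∈ (c.P : Subgroup G) := mem_sylow_of_mem_normalizer c.P hyN hy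
  rw [Subgroup.mem_centralizer_iff]
  intro u hu
  have h1 : y * u * y⁻¹ * u⁻¹ ∈ (c.P : Subgroup G) := by
    have h2 : u * y⁻¹ * u⁻¹ ∈ (c.P : Subgroup G) :=
      (Subgroup.mem_normalizer_iff.mp (hQN hu) _).mp (Subgroup.inv_mem _ hyP)
    have : y * u * y⁻¹ * u⁻¹ = y * (u * y⁻¹ * u⁻¹) := by group
    rw [this]
    exact Subgroup.mul_mem _ hyP h2
  have h2 : y * u * y⁻¹ * u⁻¹ ∈ (Q : Subgroup G) :=
    Subgroup.mul_mem _ ((Subgroup.mem_normalizer_iff.mp hyQ u).mp hu) (Subgroup.inv_mem _ hu)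
  have h3 := eq_one_of_coprime_of_mem c.P h1 (coprime_of_mem_sylow hqp Q h2)
  have : y * u = (y * u * y⁻¹ * u⁻¹) * (u * y) := by group
  rw [this, h3, one_mul]

include hp in
/-- the element `y` of order `p` normalizing `Q`, none of whose nontrivial powers lies in
`N_G(P)` -/
theorem exists_y (c : Ctx2 p G) (hcon : ¬ Concl p G) {q : ℕ} [hq : Fact q.Prime] (hqp : q ≠ p)
    (Q : Sylow q G) {κ : G} (hκQ : κ ∈ (Q : Subgroup G)) (hκ : c.IsK κ) (hκ1 : κ ≠ 1) :
    ∃ y ∈ Subgroup.normalizer ((Q : Subgroup G) : Set G), orderOf y = p ∧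
      ∀ j : ℕ, ¬ p ∣ j → y ^ j ∉ Subgroup.normalizer ((c.P : Subgroup G) : Set G) := by
  have hQ : (Q : Subgroup G) ≠ ⊥ := by
    intro h
    rw [h, Subgroup.mem_bot] at hκQ
    exact hκ1 hκQ
  have hQN := c.sylow_le_normalizer hqp Q hκQ hκ hκ1
  rcases c.toCtx.qstep hqp Q hQ with h | ⟨y₀, hy₀N, ⟨k, hk⟩, hy₀C⟩
  · exact absurd h hcon
  have hk0 : k ≠ 0 := by
    rintro rfl
    rw [pow_zero, orderOf_eq_one_iff] at hk
    apply hy₀C
    rw [hk]
    exact Subgroup.one_mem _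
  obtain ⟨j, rfl⟩ := Nat.exists_eq_succ_of_ne_zero hk0
  have hy : orderOf (y₀ ^ p ^ j) = p := by
    rw [orderOf_pow_of_dvd (pow_ne_zero _ hp.out.ne_zero)
      (by rw [hk]; exact pow_dvd_pow p (Nat.le_succ j)),
      hk, pow_succ, Nat.mul_div_cancel_left _ (pow_pos hp.out.pos j)]
  have key : ∀ m : ℕ, y₀ ^ m ≠ 1 →
      y₀ ^ m ∉ Subgroup.normalizer ((c.P : Subgroup G) : Set G) := by
    intro m hm1 hmN
    have hdvd : orderOf (y₀ ^ m) ∣ p ^ (j + 1) := hk ▸ orderOf_pow_dvd m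
    obtain ⟨i, -, hi⟩ := (Nat.dvd_prime_pow hp.out).mp hdvd
    have hmP : y₀ ^ m ∈ (c.P : Subgroup G) := mem_sylow_of_mem_normalizer c.P hmN hi
    have hZle : c.Z ≤ Subgroup.zpowers y₀ :=
      (c.toCtx.hZle _ hmP hm1).trans
        (Subgroup.zpowers_le.mpr (Subgroup.pow_mem _ (Subgroup.mem_zpowers y₀) m))
    have hy₀Z : y₀ ∈ Subgroup.centralizer (c.Z : Set G) := by
      rw [Subgroup.mem_centralizer_iff]
      intro z hz
      obtain ⟨i, rfl⟩ := Subgroup.mem_zpowers_iff.mp (hZle hz)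
      exact ((Commute.refl y₀).zpow_left i).eq
    exact hy₀C (c.pelt_cent hqp Q hQN hy₀N (c.centZ_le_normalizer hy₀Z) hk)
  refine ⟨y₀ ^ p ^ j, Subgroup.pow_mem _ hy₀N _, hy, ?_⟩
  intro i hi
  rw [← pow_mul]
  apply key
  rw [pow_mul]
  intro h1
  apply hi
  rw [← hy]
  exact orderOf_dvd_of_pow_eq_one h1

end Ctx2

end Cfsg.Agent.Lib.Helper7.CycAb
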