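import Mathlib

/-!
# `π`-parts of elements of finite order

For a set of primes `π`, every element `x` of finite order is uniquely a product of commuting
elements `piPart π x` (a `π`-element) and `piPart' π x` (a `π'`-element), both powers of `x`.
-/

set_option autoImplicit false

namespace Cfsg.Agent.Lib.Helper7.PiClass

variable {G : Type*} [Group G]

/-- `x` is a `π`-element. -/
def IsPi (π : Set ℕ) (x : G) : Prop := ∀ q : ℕ, q.Prime → q ∣ orderOf x → q ∈ π

/-- `x` is a `π'`-element. -/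
def IsPi' (π : Set ℕ) (x : G) : Prop := ∀ q : ℕ, q.Prime → q ∣ orderOf x → q ∉ π

theorem exists_pi_split (π : Set ℕ) (o : ℕ) : 0 < o →
    ∃ a b : ℕ, a * b = o ∧ a.Coprime b ∧ (∀ q : ℕ, q.Prime → q ∣ a → q ∈ π) ∧
      (∀ q : ℕ, q.Prime → q ∣ b → q ∉ π) := by
  induction o using Nat.recOnPrimeCoprime with
  | zero => intro h; exact absurd h (lt_irrefl 0)
  | prime_pow p n hp =>
    intro _
    by_cases hpπ : p ∈ π
    · refine ⟨p ^ n, 1, mul_one _, Nat.coprime_one_right _, ?_, ?_⟩
      · intro q hq hqd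
        have := (Nat.prime_dvd_prime_iff_eq hq hp).mp (hq.dvd_of_dvd_pow hqd)
        rw [this]; exact hpπ
      · intro q hq hqd
        exact absurd (Nat.dvd_one.mp hqd) hq.ne_one
    · refine ⟨1, p ^ n, one_mul _, Nat.coprime_one_left _, ?_, ?_⟩
      · intro q hq hqd
        exact absurd (Nat.dvd_one.mp hqd) hq.ne_one
      · intro q hq hqd
        have := (Nat.prime_dvd_prime_iff_eq hq hp).mp (hq.dvd_of_dvd_pow hqd)
        rw [this]; exact hpπ
  | coprime a b ha hb hab iha ihb =>
    intro _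
    obtain ⟨a₁, a₂, ha12, hac, ha1, ha2⟩ := iha (by omega)
    obtain ⟨b₁, b₂, hb12, hbc, hb1, hb2⟩ := ihb (by omega)
    have h1 : a₁ ∣ a := ⟨a₂, ha12.symm⟩
    have h2 : a₂ ∣ a := ⟨a₁, by rw [mul_comm]; exact ha12.symm⟩
    have h3 : b₁ ∣ b := ⟨b₂, hb12.symm⟩
    have h4 : b₂ ∣ b := ⟨b₁, by rw [mul_comm]; exact hb12.symm⟩
    refine ⟨a₁ * b₁, a₂ * b₂, ?_, ?_, ?_, ?_⟩
    · rw [← ha12, ← hb12]; ring
    · apply Nat.Coprime.mul_left
      · exact Nat.Coprime.mul_right hac (Nat.Coprime.coprime_dvd_left h1 (Nat.Coprime.coprime_dvd_right h4 hab))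
      · exact Nat.Coprime.mul_right
          (Nat.Coprime.coprime_dvd_left h3 (Nat.Coprime.coprime_dvd_right h2 hab.symm)) hbc
    · intro q hq hqd
      rcases (Nat.Prime.dvd_mul hq).mp hqd with h | h
      · exact ha1 q hq h
      · exact hb1 q hq h
    · intro q hq hqd
      rcases (Nat.Prime.dvd_mul hq).mp hqd with h | h
      · exact ha2 q hq h
      · exact hb2 q hq h

theorem coprime_of_pi {π : Set ℕ} {a b : ℕ} (ha : ∀ q : ℕ, q.Prime → q ∣ a → q ∈ π)
    (hb : ∀ q : ℕ, q.Prime → q ∣ b → q ∉ π) : a.Coprime b := by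
  apply Nat.coprime_of_dvd
  intro q hq hqa hqb
  exact hb q hq hqb (ha q hq hqa)

/-- Existence and uniqueness of the decomposition of an element of finite order into its
`π`-part and its `π'`-part. -/
theorem exists_pi_decomp (π : Set ℕ) (x : G) (hx : 0 < orderOf x) :
    ∃ k l : ℕ, IsPi π (x ^ k) ∧ IsPi' π (x ^ l) ∧ x ^ k * x ^ l = x ∧
      ∀ u v : G, Commute u v → IsPi π u → IsPi' π v → u * v = x → x ^ k = u ∧ x ^ l = v := by
  obtain ⟨a, b, hab, hcop, ha, hb⟩ := exists_pi_split π (orderOf x) hx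
  obtain ⟨k, hk1, hk2⟩ := Nat.chineseRemainder hcop 1 0
  obtain ⟨l, hl1, hl2⟩ := Nat.chineseRemainder hcop 0 1
  have hbk : b ∣ k := (Nat.modEq_zero_iff_dvd).mp hk2
  have hal : a ∣ l := (Nat.modEq_zero_iff_dvd).mp hl1
  refine ⟨k, l, ?_, ?_, ?_, ?_⟩
  · intro q hq hqd
    apply ha q hq
    refine hqd.trans (orderOf_dvd_of_pow_eq_one ?_)
    rw [← pow_mul]
    apply orderOf_dvd_iff_pow_eq_one.mp
    rw [← hab, mul_comm k a]
    exact Nat.mul_dvd_mul_left a hbk
  · intro q hq hqd
    apply hb q hq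
    refine hqd.trans (orderOf_dvd_of_pow_eq_one ?_)
    rw [← pow_mul]
    apply orderOf_dvd_iff_pow_eq_one.mp
    rw [← hab]
    exact Nat.mul_dvd_mul hal (dvd_refl b)
  · rw [← pow_add]
    conv_rhs => rw [← pow_one x]
    rw [pow_eq_pow_iff_modEq, ← hab]
    apply (Nat.modEq_and_modEq_iff_modEq_mul hcop).mp
    constructor
    · have := Nat.ModEq.add hk1 hl1
      simpa using this
    · have := Nat.ModEq.add hk2 hl2
      simpa using this
  · intro u v huv hu hv huvx
    have hcop' : (orderOf u).Coprime (orderOf v) := coprime_of_pi hu hv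
    have ho : orderOf x = orderOf u * orderOf v := by
      rw [← huvx]; exact huv.orderOf_mul_eq_mul_orderOf_of_coprime hcop'
    have hua : orderOf u ∣ a := by
      have h1 : orderOf u ∣ a * b := by rw [hab, ho]; exact dvd_mul_right _ _
      exact (Nat.Coprime.dvd_of_dvd_mul_right (coprime_of_pi hu hb) h1)
    have hvb : orderOf v ∣ b := by
      have h1 : orderOf v ∣ a * b := by rw [hab, ho]; exact dvd_mul_left _ _
      exact (Nat.Coprime.dvd_of_dvd_mul_left (coprime_of_pi ha hv).symm h1)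
    have e1 : ∀ j : ℕ, x ^ j = u ^ j * v ^ j := by
      intro j; rw [← huvx, huv.mul_pow]
    constructor
    · rw [e1 k]
      have h1 : u ^ k = u := by
        conv_rhs => rw [← pow_one u]
        rw [pow_eq_pow_iff_modEq]
        exact Nat.ModEq.of_dvd hua hk1
      have h2 : v ^ k = 1 := orderOf_dvd_iff_pow_eq_one.mp (hvb.trans hbk)
      rw [h1, h2, mul_one]
    · rw [e1 l]
      have h1 : v ^ l = v := by
        conv_rhs => rw [← pow_one v]
        rw [pow_eq_pow_iff_modEq]
        exact Nat.ModEq.of_dvd hvb hl2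
      have h2 : u ^ l = 1 := orderOf_dvd_iff_pow_eq_one.mp (hua.trans hal)
      rw [h1, h2, one_mul]

section
variable [Finite G]

/-- Exponent giving the `π`-part. -/
noncomputable def piExp (π : Set ℕ) (x : G) : ℕ :=
  Classical.choose (exists_pi_decomp π x (orderOf_pos x))

/-- Exponent giving the `π'`-part. -/
noncomputable def piExp' (π : Set ℕ) (x : G) : ℕ :=
  Classical.choose (Classical.choose_spec (exists_pi_decomp π x (orderOf_pos x)))

/-- The `π`-part of `x`. -/
noncomputable def piPart (π : Set ℕ) (x : G) : G := x ^ piExp π x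

/-- The `π'`-part of `x`. -/
noncomputable def piPart' (π : Set ℕ) (x : G) : G := x ^ piExp' π x

theorem piPart_spec (π : Set ℕ) (x : G) :
    IsPi π (piPart π x) ∧ IsPi' π (piPart' π x) ∧ piPart π x * piPart' π x = x ∧
      ∀ u v : G, Commute u v → IsPi π u → IsPi' π v → u * v = x →
        piPart π x = u ∧ piPart' π x = v :=
  Classical.choose_spec (Classical.choose_spec (exists_pi_decomp π x (orderOf_pos x)))

theorem isPi_piPart (π : Set ℕ) (x : G) : IsPi π (piPart π x) := (piPart_spec π x).1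

theorem isPi'_piPart' (π : Set ℕ) (x : G) : IsPi' π (piPart' π x) := (piPart_spec π x).2.1

theorem piPart_mul_piPart' (π : Set ℕ) (x : G) : piPart π x * piPart' π x = x :=
  (piPart_spec π x).2.2.1

theorem piPart_mul {π : Set ℕ} {u v : G} (huv : Commute u v) (hu : IsPi π u) (hv : IsPi' π v) :
    piPart π (u * v) = u := ((piPart_spec π (u * v)).2.2.2 u v huv hu hv rfl).1

theorem piPart'_mul {π : Set ℕ} {u v : G} (huv : Commute u v) (hu : IsPi π u) (hv : IsPi' π v) :
    piPart' π (u * v) = v := ((piPart_spec π (u * v)).2.2.2 u v huv hu hv rfl).2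

theorem piPart_mem (π : Set ℕ) {K : Subgroup G} {x : G} (hx : x ∈ K) : piPart π x ∈ K :=
  K.pow_mem hx _

theorem piPart'_mem (π : Set ℕ) {K : Subgroup G} {x : G} (hx : x ∈ K) : piPart' π x ∈ K :=
  K.pow_mem hx _

theorem commute_piPart (π : Set ℕ) {x y : G} (h : Commute y x) : Commute y (piPart π x) :=
  h.pow_right _

theorem commute_piPart' (π : Set ℕ) {x y : G} (h : Commute y x) : Commute y (piPart' π x) :=
  h.pow_right _

theorem commute_piPart_piPart' (π : Set ℕ) (x : G) : Commute (piPart π x) (piPart' π x) :=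
  (Commute.refl x).pow_pow _ _

end

end Cfsg.Agent.Lib.Helper7.PiClass
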