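import Mathlib
import Cfsg.Agent.Lib.Helper7.Conj
import Cfsg.Agent.Lib.Helper8.ConjCover

set_option autoImplicit false

/-!
# Minimal normal subgroups: minimal `N`-invariant subgroups and the splitting `N = T * C_N(T)`
-/

namespace Cfsg.Agent.Lib.Helper7.PUD

open Cfsg.Agent.Lib.Helper7

variable {G : Type*} [Group G]

/-- minimal element of a nonempty family of subgroups of a finite group -/
theorem exists_minimal_subgroup [Finite G] (P : Subgroup G → Prop) (H₀ : Subgroup G) (h₀ : P H₀) :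
    ∃ H, P H ∧ H ≤ H₀ ∧ ∀ H', P H' → H' ≤ H → H' = H := by
  obtain ⟨H, ⟨hP, hle⟩, hmin⟩ := wellFounded_lt.has_min {H : Subgroup G | P H ∧ H ≤ H₀}
    ⟨H₀, h₀, le_rfl⟩
  refine ⟨H, hP, hle, fun H' hP' hle' => ?_⟩
  have := hmin H' ⟨hP', hle'.trans hle⟩
  exact eq_of_le_of_not_lt hle' this

/-- relative Jordan lemma: `T` is not covered by the `T`-conjugates of `M ∩ T` when `T ≰ M` -/
theorem exists_no_conj_mem [Finite G] (T M : Subgroup G) (hMT : ¬ T ≤ M) :
    ∃ t₀ ∈ T, ∀ t₁ ∈ T, t₁⁻¹ * t₀ * t₁ ∉ M := by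
  have hne : M.subgroupOf T ≠ ⊤ := by
    intro h
    exact hMT (Subgroup.subgroupOf_eq_top.mp h)
  obtain ⟨x, hx⟩ := Cfsg.Agent.Lib.Helper8.exists_not_mem_conj_smul (M.subgroupOf T) hne
  refine ⟨x.1, x.2, fun t₁ ht₁ hmem => ?_⟩
  apply hx ⟨t₁, ht₁⟩
  rw [Subgroup.mem_pointwise_smul_iff_inv_smul_mem]
  simp only [MulAut.smul_def, MulAut.inv_apply, MulAut.conj_symm_apply]
  rw [Subgroup.mem_subgroupOf]
  exact hmem

/-- all nonidentity elements of `T` fused in `G` ⟹ `T` has a nontrivial central element -/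
theorem exists_central_of_conj [Finite G] (T : Subgroup G) (hT : T ≠ ⊥)
    (h : ∀ a ∈ T, ∀ b ∈ T, a ≠ 1 → b ≠ 1 → ∃ g : G, g * a * g⁻¹ = b) :
    ∃ z ∈ T, z ≠ 1 ∧ ∀ t ∈ T, t * z = z * t := by
  haveI : Nontrivial T := (Subgroup.nontrivial_iff_ne_bot T).mpr hT
  have hcard : Nat.card T ≠ 1 := by
    intro h1
    have := (Nat.card_eq_one_iff_unique.mp h1).1
    exact not_subsingleton T this
  set p := (Nat.card T).minFac with hp
  have hpp : p.Prime := Nat.minFac_prime hcard
  haveI : Fact p.Prime := ⟨hpp⟩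
  obtain ⟨x, hx⟩ := exists_prime_orderOf_dvd_card' (G := T) p (Nat.minFac_dvd _)
  have hx1 : (x : G) ≠ 1 := by
    intro h1
    have : x = 1 := Subtype.ext h1
    rw [this, orderOf_one] at hx
    exact hpp.one_lt.ne hx
  have hord : ∀ y : T, y ≠ 1 → orderOf (y : G) = p := by
    intro y hy
    have hy1 : (y : G) ≠ 1 := fun h1 => hy (Subtype.ext h1)
    obtain ⟨g, hg⟩ := h x x.2 y y.2 hx1 hy1
    rw [← hg]
    have := (MulAut.conj g).orderOf_eq (x : G)
    rw [MulAut.conj_apply] at this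
    rw [this, Subgroup.orderOf_coe, hx]
  have hPG : IsPGroup p T := by
    intro y
    by_cases hy : y = 1
    · exact ⟨0, by rw [hy, one_pow]⟩
    · refine ⟨1, ?_⟩
      have h1 := hord y hy
      rw [Subgroup.orderOf_coe] at h1
      rw [pow_one, ← h1]
      exact pow_orderOf_eq_one y
  haveI := hPG.center_nontrivial
  obtain ⟨z, hz⟩ := exists_ne (1 : Subgroup.center T)
  refine ⟨((z : T) : G), (z : T).2, ?_, ?_⟩
  · intro h1
    apply hz
    apply Subtype.ext
    apply Subtype.ext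
    exact h1
  · intro t ht
    have := Subgroup.mem_center_iff.mp z.2 ⟨t, ht⟩
    exact congrArg Subtype.val this

/-- `T` is a minimal nontrivial subgroup of `N` normalized by `N`. -/
structure IsMinIn (N T : Subgroup G) : Prop where
  le : T ≤ N
  ne_bot : T ≠ ⊥
  norm : N ≤ Subgroup.normalizer (T : Set G)
  min : ∀ T' : Subgroup G, T' ≤ T → T' ≠ ⊥ → N ≤ Subgroup.normalizer (T' : Set G) → T' = T

theorem exists_isMinIn [Finite G] (N : Subgroup G) (hN : N ≠ ⊥) : ∃ T, IsMinIn N T := by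
  obtain ⟨T, ⟨hT1, hT2⟩, hle, hmin⟩ := exists_minimal_subgroup
    (fun T : Subgroup G => T ≠ ⊥ ∧ N ≤ Subgroup.normalizer (T : Set G)) N
    ⟨hN, Subgroup.le_normalizer⟩
  exact ⟨T, hle, hT1, hT2, fun T' hle' hne' hn' => hmin T' ⟨hne', hn'⟩ hle'⟩

/-- conjugation formulation of the normalizer condition -/
theorem conj_mem_of_norm {N T : Subgroup G} (h : N ≤ Subgroup.normalizer (T : Set G))
    {n t : G} (hn : n ∈ N) (ht : t ∈ T) : n * t * n⁻¹ ∈ T :=
  (Subgroup.mem_normalizer_iff.mp (h hn) t).mp ht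

theorem conj_mem_of_norm' {N T : Subgroup G} (h : N ≤ Subgroup.normalizer (T : Set G))
    {n t : G} (hn : n ∈ N) (ht : t ∈ T) : n⁻¹ * t * n ∈ T := by
  have := conj_mem_of_norm h (N.inv_mem hn) ht
  simpa using this

theorem le_normalizer_of_conj_mem {N T : Subgroup G}
    (h : ∀ n ∈ N, ∀ t ∈ T, n * t * n⁻¹ ∈ T) : N ≤ Subgroup.normalizer (T : Set G) := by
  intro n hn
  rw [Subgroup.mem_normalizer_iff]
  intro t
  refine ⟨h n hn t, fun ht => ?_⟩
  have := h n⁻¹ (N.inv_mem hn) _ ht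
  have h2 : n⁻¹ * (n * t * n⁻¹) * n⁻¹⁻¹ = t := by group
  rwa [h2] at this

theorem normalizer_cj {N T : Subgroup G} [hN : N.Normal]
    (h : N ≤ Subgroup.normalizer (T : Set G)) (g : G) :
    N ≤ Subgroup.normalizer ((cj g T : Subgroup G) : Set G) := by
  apply le_normalizer_of_conj_mem
  intro n hn t ht
  rw [mem_cj] at ht ⊢
  have hn' : g⁻¹ * n * g ∈ N := by
    have := hN.conj_mem n hn g⁻¹
    simpa using this
  have := conj_mem_of_norm h hn' ht
  have h2 : g⁻¹ * (n * t * n⁻¹) * g = g⁻¹ * n * g * (g⁻¹ * t * g) * (g⁻¹ * n * g)⁻¹ := by group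
  rw [h2]; exact this

theorem cj_le_normal {N : Subgroup G} [hN : N.Normal] {T : Subgroup G} (h : T ≤ N) (g : G) :
    cj g T ≤ N := by
  intro x hx
  rw [mem_cj] at hx
  have := hN.conj_mem _ (h hx) g
  have h2 : g * (g⁻¹ * x * g) * g⁻¹ = x := by group
  rwa [h2] at this

theorem cj_ne_bot {T : Subgroup G} (h : T ≠ ⊥) (g : G) : cj g T ≠ ⊥ := by
  intro hb
  apply h
  have := cj_inv_cj g T
  rw [hb] at this
  rw [← this]
  exact Subgroup.map_bot _

theorem IsMinIn.cj {N T : Subgroup G} [N.Normal] (h : IsMinIn N T) (g : G) :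
    IsMinIn N (cj g T) := by
  refine ⟨cj_le_normal h.le g, cj_ne_bot h.ne_bot g, normalizer_cj h.norm g, ?_⟩
  intro T' hle hne hn
  have h1 : Helper7.cj g⁻¹ T' ≤ T := by
    have := cj_mono g⁻¹ hle
    rwa [cj_inv_cj] at this
  have h2 := h.min _ h1 (cj_ne_bot hne g⁻¹) (normalizer_cj hn g⁻¹)
  rw [← h2, cj_cj_inv]

theorem normalizer_inf {N T T' : Subgroup G} (h : N ≤ Subgroup.normalizer (T : Set G))
    (h' : N ≤ Subgroup.normalizer (T' : Set G)) :
    N ≤ Subgroup.normalizer ((T ⊓ T' : Subgroup G) : Set G) := by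
  apply le_normalizer_of_conj_mem
  intro n hn t ht
  exact ⟨conj_mem_of_norm h hn ht.1, conj_mem_of_norm h' hn ht.2⟩

theorem IsMinIn.inf_eq_bot {N T T' : Subgroup G} (h : IsMinIn N T) (h' : IsMinIn N T')
    (hne : T ≠ T') : T ⊓ T' = ⊥ := by
  by_contra hb
  have h1 := h.min (T ⊓ T') inf_le_left hb (normalizer_inf h.norm h'.norm)
  have h2 := h'.min (T ⊓ T') inf_le_right hb (normalizer_inf h.norm h'.norm)
  exact hne (h1.symm.trans h2)

theorem IsMinIn.le_centralizer {N T T' : Subgroup G} (h : IsMinIn N T) (h' : IsMinIn N T')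
    (hne : T ≠ T') : T' ≤ Subgroup.centralizer (T : Set G) := by
  intro t' ht'
  rw [Subgroup.mem_centralizer_iff]
  intro t ht
  have hbot := h.inf_eq_bot h' hne
  have hmem : t * t' * t⁻¹ * t'⁻¹ ∈ T ⊓ T' := by
    constructor
    · have := conj_mem_of_norm h.norm (h'.le ht') (T.inv_mem ht)
      have h2 : t * t' * t⁻¹ * t'⁻¹ = t * (t' * t⁻¹ * t'⁻¹) := by group
      rw [h2]; exact T.mul_mem ht this
    · have := conj_mem_of_norm h'.norm (h.le ht) ht'
      exact T'.mul_mem this (T'.inv_mem ht')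
  rw [hbot, Subgroup.mem_bot] at hmem
  calc t * t' = (t * t' * t⁻¹ * t'⁻¹) * (t' * t) := by group
    _ = t' * t := by rw [hmem, one_mul]

theorem IsMinIn.cj_eq_or_le {N T : Subgroup G} [N.Normal] (h : IsMinIn N T) (g : G) :
    Helper7.cj g T = T ∨ Helper7.cj g T ≤ N ⊓ Subgroup.centralizer (T : Set G) := by
  by_cases heq : Helper7.cj g T = T
  · exact Or.inl heq
  · right
    exact le_inf (h.cj g).le (h.le_centralizer (h.cj g) (Ne.symm heq))

/-- `N = T * C_N(T)` for a minimal normal subgroup `N` -/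
theorem IsMinIn.exists_mul {N T : Subgroup G} [hN : N.Normal]
    (hNmin : ∀ K : Subgroup G, K.Normal → K ≠ ⊥ → K ≤ N → K = N) (h : IsMinIn N T) :
    ∀ n ∈ N, ∃ t ∈ T, ∃ c ∈ N ⊓ Subgroup.centralizer (T : Set G), n = t * c := by
  set C := N ⊓ Subgroup.centralizer (T : Set G) with hC
  have hK : Subgroup.normalClosure (T : Set G) = N := by
    apply hNmin _ Subgroup.normalClosure_normal
    · intro hb
      apply h.ne_bot
      rw [eq_bot_iff, ← hb]
      exact Subgroup.le_normalClosure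
    · exact Subgroup.normalClosure_le_normal h.le
  have hle : Subgroup.normalClosure (T : Set G) ≤ T ⊔ C := by
    unfold Subgroup.normalClosure
    rw [Subgroup.closure_le]
    intro x hx
    rw [Group.mem_conjugatesOfSet_iff] at hx
    obtain ⟨t, ht, hconj⟩ := hx
    rw [isConj_iff] at hconj
    obtain ⟨g, rfl⟩ := hconj
    have hmem : g * t * g⁻¹ ∈ Helper7.cj g T := by
      rw [mem_cj]
      have h2 : g⁻¹ * (g * t * g⁻¹) * g = t := by group
      rw [h2]; exact ht
    rcases h.cj_eq_or_le g with heq | hle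
    · rw [heq] at hmem
      exact (le_sup_left : T ≤ T ⊔ C) hmem
    · exact (le_sup_right : C ≤ T ⊔ C) (hle hmem)
  intro n hn
  have hn' : n ∈ T ⊔ C := hle (hK ▸ hn)
  have hCn : C ≤ Subgroup.normalizer (T : Set G) := inf_le_left.trans h.norm
  rw [← SetLike.mem_coe, Subgroup.coe_mul_of_right_le_normalizer_left T C hCn] at hn'
  obtain ⟨t, ht, c, hc, rfl⟩ := Set.mem_mul.mp hn'
  exact ⟨t, ht, c, hc, rfl⟩

/-- `N` normalizes `C_G(T)` when it normalizes `T` -/
theorem normalizer_centralizer {N T : Subgroup G} (h : N ≤ Subgroup.normalizer (T : Set G)) :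
    N ≤ Subgroup.normalizer ((Subgroup.centralizer (T : Set G) : Subgroup G) : Set G) := by
  apply le_normalizer_of_conj_mem
  intro n hn c hc
  rw [Subgroup.mem_centralizer_iff] at hc ⊢
  intro t ht
  have ht' := conj_mem_of_norm' h hn ht
  have := hc _ ht'
  calc t * (n * c * n⁻¹) = n * ((n⁻¹ * t * n) * c) * n⁻¹ := by group
    _ = n * (c * (n⁻¹ * t * n)) * n⁻¹ := by rw [this]
    _ = n * c * n⁻¹ * t := by group

theorem IsMinIn.inf_centralizer_eq_bot {N T : Subgroup G} [hN : N.Normal]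
    (hNmin : ∀ K : Subgroup G, K.Normal → K ≠ ⊥ → K ≤ N → K = N) (h : IsMinIn N T)
    (hnonab : ∃ a ∈ N, ∃ b ∈ N, a * b ≠ b * a) :
    T ⊓ Subgroup.centralizer (T : Set G) = ⊥ := by
  by_contra hb
  have h1 := h.min _ inf_le_left hb (normalizer_inf h.norm (normalizer_centralizer h.norm))
  have hTc : T ≤ Subgroup.centralizer (T : Set G) := by
    intro t ht
    have : t ∈ T ⊓ Subgroup.centralizer (T : Set G) := by rw [h1]; exact ht
    exact this.2
  -- then `T` is central in `N`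
  have hTZ : T ≤ N ⊓ Subgroup.centralizer (N : Set G) := by
    intro t ht
    refine Subgroup.mem_inf.mpr ⟨h.le ht, ?_⟩
    rw [Subgroup.mem_centralizer_iff]
    intro n hn
    obtain ⟨t', ht', c, hc, rfl⟩ := h.exists_mul hNmin n hn
    have e1 : t' * t = t * t' := (Subgroup.mem_centralizer_iff.mp (hTc ht)) t' ht'
    have e2 : t * c = c * t := (Subgroup.mem_centralizer_iff.mp hc.2) t ht
    calc t' * c * t = t' * (c * t) := by group
      _ = t' * (t * c) := by rw [e2]
      _ = (t' * t) * c := by group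
      _ = (t * t') * c := by rw [e1]
      _ = t * (t' * c) := by group
  have hZ : N ⊓ Subgroup.centralizer (N : Set G) = N := by
    apply hNmin _ inferInstance _ inf_le_left
    intro hbot
    apply h.ne_bot
    rw [eq_bot_iff, ← hbot]
    exact hTZ
  obtain ⟨a, ha, b, hb', hab⟩ := hnonab
  apply hab
  have : b ∈ Subgroup.centralizer (N : Set G) := by
    have : b ∈ N ⊓ Subgroup.centralizer (N : Set G) := by rw [hZ]; exact hb'
    exact this.2
  exact (Subgroup.mem_centralizer_iff.mp this) a ha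

/-- if `N` itself is minimal `N`-invariant then `N` is simple -/
theorem IsMinIn.isSimpleGroup_of_self {N : Subgroup G} (h : IsMinIn N N) : IsSimpleGroup N := by
  haveI : Nontrivial N := (Subgroup.nontrivial_iff_ne_bot N).mpr h.ne_bot
  refine ⟨fun H hH => ?_⟩
  by_cases hb : H = ⊥
  · exact Or.inl hb
  · right
    have hle : H.map N.subtype ≤ N := Subgroup.map_subtype_le H
    have hne : H.map N.subtype ≠ ⊥ := by
      intro h0
      apply hb
      exact (Subgroup.map_eq_bot_iff_of_injective H N.subtype_injective).mp h0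
    have hnorm : N ≤ Subgroup.normalizer ((H.map N.subtype : Subgroup G) : Set G) := by
      apply le_normalizer_of_conj_mem
      rintro n hn _ ⟨x, hx, rfl⟩
      refine ⟨⟨n, hn⟩ * x * ⟨n, hn⟩⁻¹, hH.conj_mem x hx ⟨n, hn⟩, rfl⟩
    have := h.min _ hle hne hnorm
    apply Subgroup.map_injective N.subtype_injective
    rw [this]
    ext x
    constructor
    · intro hx
      exact ⟨⟨x, hx⟩, Subgroup.mem_top _, rfl⟩
    · rintro ⟨y, _, rfl⟩
      exact y.2

end Cfsg.Agent.Lib.Helper7.PUD
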