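import Mathlib
import Cfsg.Agent.S0144
import Cfsg.Agent.Lib.Helper7.PUD2

set_option autoImplicit false

/-!
# Two element orders ⟹ solvable (Burnside), and regular normal subgroups
-/

namespace Cfsg.Agent.Lib.Helper7.PUD

open Cfsg.Agent.Lib.Helper7 MulAction

variable {G : Type*} [Group G] {Ω : Type*} [MulAction G Ω]

/-- a number all of whose prime divisors lie in `{p, q}` is `p ^ a * q ^ b` -/
theorem eq_pow_mul_pow_of_primes {n p q : ℕ} (hn : n ≠ 0) (hp : p.Prime)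
    (h : ∀ r : ℕ, r.Prime → r ∣ n → r = p ∨ r = q) : ∃ a b : ℕ, n = p ^ a * q ^ b := by
  refine ⟨n.factorization p, (ordCompl[p] n).primeFactorsList.length, ?_⟩
  have hm : ordCompl[p] n ≠ 0 := (Nat.ordCompl_pos p hn).ne'
  have h2 : ordCompl[p] n = q ^ (ordCompl[p] n).primeFactorsList.length := by
    apply Nat.eq_prime_pow_of_unique_prime_dvd hm
    intro d hd hdm
    rcases h d hd (hdm.trans (Nat.ordCompl_dvd n p)) with h1 | h1
    · exfalso
      rw [h1] at hdm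
      exact Nat.not_dvd_ordCompl hp hn hdm
    · exact h1
  rw [← h2]
  exact (Nat.ordProj_mul_ordCompl_eq_self n p).symm

/-- at most two element orders ⟹ solvable (Burnside's `p^a q^b` theorem) -/
theorem isSolvable_of_two_orders [Finite G] (T : Subgroup G) (m₁ m₂ : ℕ)
    (h : ∀ t ∈ T, t ≠ 1 → orderOf t = m₁ ∨ orderOf t = m₂) : Group.IsSolvable T := by
  have hn : Nat.card T ≠ 0 := Nat.card_pos.ne'
  have hprimes : ∀ r : ℕ, r.Prime → r ∣ Nat.card T → r = m₁ ∨ r = m₂ := by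
    intro r hr hdvd
    haveI : Fact r.Prime := ⟨hr⟩
    obtain ⟨x, hx⟩ := exists_prime_orderOf_dvd_card' (G := T) r hdvd
    have hx1 : (x : G) ≠ 1 := by
      intro h1
      have : x = 1 := Subtype.ext h1
      rw [this, orderOf_one] at hx
      exact hr.one_lt.ne hx
    have := h x x.2 hx1
    rw [Subgroup.orderOf_coe, hx] at this
    exact this
  set p := if m₁.Prime then m₁ else 2 with hp
  set q := if m₂.Prime then m₂ else 2 with hq
  have hpp : p.Prime := by
    rw [hp]; split_ifs with h1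
    · exact h1
    · exact Nat.prime_two
  have hqp : q.Prime := by
    rw [hq]; split_ifs with h1
    · exact h1
    · exact Nat.prime_two
  have hpq : ∀ r : ℕ, r.Prime → r ∣ Nat.card T → r = p ∨ r = q := by
    intro r hr hdvd
    rcases hprimes r hr hdvd with h1 | h1
    · left
      rw [hp, if_pos (h1 ▸ hr)]; exact h1
    · right
      rw [hq, if_pos (h1 ▸ hr)]; exact h1
  obtain ⟨a, b, hab⟩ := eq_pow_mul_pow_of_primes hn hpp hpq
  exact Cfsg.Agent.S0144.result p q a b hpp hqp hab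

/-- a solvable minimal normal subgroup is abelian -/
theorem abelian_of_minNormal_solvable {N : Subgroup G} [hN : N.Normal] (hNne : N ≠ ⊥)
    (hNmin : ∀ K : Subgroup G, K.Normal → K ≠ ⊥ → K ≤ N → K = N)
    (hs : Group.IsSolvable N) : ∀ a ∈ N, ∀ b ∈ N, a * b = b * a := by
  have hle : N ≤ Subgroup.centralizer (N : Set G) := by
    rw [← Subgroup.commutator_eq_bot_iff_le_centralizer]
    by_contra hne
    have h1 := hNmin ⁅N, N⁆ (Subgroup.commutator_normal N N) hne (Subgroup.commutator_le_self N)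
    haveI : Nontrivial N := (Subgroup.nontrivial_iff_ne_bot N).mpr hNne
    have h2 := Group.IsSolvable.commutator_lt_top_of_nontrivial N
    have h3 : (_root_.commutator N).map N.subtype = N := by
      rw [Subgroup.map_subtype_commutator]; exact h1
    apply h2.ne
    apply Subgroup.map_injective N.subtype_injective
    rw [h3]
    ext x
    constructor
    · intro hx
      exact ⟨⟨x, hx⟩, Subgroup.mem_top _, rfl⟩
    · rintro ⟨y, _, rfl⟩
      exact y.2
  intro a ha b hb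
  exact ((Subgroup.mem_centralizer_iff.mp (hle hb)) a ha)

/-- semiregularity of a transitive normal subgroup with one trivial stabilizer -/
theorem semiregular_of_inf_eq_bot (N : Subgroup G) (hNtr : ∀ a b : Ω, ∃ n ∈ N, n • a = b)
    (α : Ω) (hreg : N ⊓ stabilizer G α = ⊥) : ∀ β : Ω, ∀ n ∈ N, n • β = β → n = 1 := by
  intro β n hn hfix
  obtain ⟨m, hm, rfl⟩ := hNtr α β
  have h1 : m⁻¹ * n * m ∈ N ⊓ stabilizer G α := by
    refine Subgroup.mem_inf.mpr ⟨?_, ?_⟩
    · exact N.mul_mem (N.mul_mem (N.inv_mem hm) hn) hm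
    · rw [mem_stabilizer_iff, mul_smul, mul_smul, hfix, inv_smul_smul]
  rw [hreg, Subgroup.mem_bot] at h1
  calc n = m * (m⁻¹ * n * m) * m⁻¹ := by group
    _ = 1 := by rw [h1]; group

/-- if all derangements lie in a regular normal subgroup, nonidentity elements fix at most one
point -/
theorem sharp_of_regular [Finite G] (N : Subgroup G) [hN : N.Normal]
    (hNtr : ∀ a b : Ω, ∃ n ∈ N, n • a = b)
    (hreg' : ∀ β : Ω, ∀ n ∈ N, n • β = β → n = 1)
    (hDerN : ∀ d : G, (∀ ω : Ω, d • ω ≠ ω) → d ∈ N) :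
    ∀ g : G, g ≠ 1 → ∀ a b : Ω, a ≠ b → g • a = a → g • b ≠ b := by
  intro g hg1 a b hab' hga hgb
  obtain ⟨n, hn, hnb⟩ := hNtr a b
  have hn1 : n ≠ 1 := by
    intro h; rw [h, one_smul] at hnb; exact hab' hnb
  have hgn : g * n * g⁻¹ ∈ N := hN.conj_mem n hn g
  have hga' : g⁻¹ • a = a := by rw [inv_smul_eq_iff, hga]
  -- `g` commutes with `n`
  have hcomm : n⁻¹ * (g * n * g⁻¹) = 1 := by
    apply hreg' a _ (N.mul_mem (N.inv_mem hn) hgn)
    rw [mul_smul, mul_smul, mul_smul, hga', hnb, hgb, ← hnb, inv_smul_smul]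
  let ψ : N → N := fun k => ⟨(k : G) * (g * (k : G)⁻¹ * g⁻¹),
    N.mul_mem k.2 (hN.conj_mem _ (N.inv_mem k.2) g)⟩
  have hψ1 : ψ 1 = 1 := by
    apply Subtype.ext
    show (1 : G) * (g * (1 : G)⁻¹ * g⁻¹) = 1
    group
  have hψn : ψ ⟨n, hn⟩ = 1 := by
    apply Subtype.ext
    show n * (g * n⁻¹ * g⁻¹) = 1
    have : g * n * g⁻¹ = n := by
      calc g * n * g⁻¹ = n * (n⁻¹ * (g * n * g⁻¹)) := by group
        _ = n := by rw [hcomm, mul_one]
    calc n * (g * n⁻¹ * g⁻¹) = n * (g * n * g⁻¹)⁻¹ := by group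
      _ = 1 := by rw [this, mul_inv_cancel]
  have hninj : ¬ Function.Injective ψ := by
    intro hinj
    have := hinj (hψn.trans hψ1.symm)
    exact hn1 (congrArg Subtype.val this)
  have hnsurj : ¬ Function.Surjective ψ := fun hs => hninj (Finite.injective_iff_surjective.mpr hs)
  rw [Function.Surjective] at hnsurj
  push Not at hnsurj
  obtain ⟨m₀, hm₀⟩ := hnsurj
  -- `m₀ * g` is a derangement
  have hder : ∀ ω : Ω, ((m₀ : G) * g) • ω ≠ ω := by
    intro ω hω
    obtain ⟨k, hk, rfl⟩ := hNtr a ω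
    apply hm₀ ⟨k, hk⟩
    apply Subtype.ext
    show k * (g * k⁻¹ * g⁻¹) = (m₀ : G)
    have hmem : k⁻¹ * (m₀ : G) * (g * k * g⁻¹) ∈ N :=
      N.mul_mem (N.mul_mem (N.inv_mem hk) m₀.2) (hN.conj_mem k hk g)
    have hfix : (k⁻¹ * (m₀ : G) * (g * k * g⁻¹)) • a = a := by
      have e : k⁻¹ * (m₀ : G) * (g * k * g⁻¹) = k⁻¹ * ((m₀ : G) * g) * k * g⁻¹ := by group
      rw [e, mul_smul, hga', mul_smul, mul_smul, hω, inv_smul_smul]
    have h1 := hreg' a _ hmem hfix
    calc k * (g * k⁻¹ * g⁻¹) = k * (k⁻¹ * (m₀ : G) * (g * k * g⁻¹)) * (g * k⁻¹ * g⁻¹) := by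
          rw [h1, mul_one]
      _ = (m₀ : G) := by group
  have hmg : (m₀ : G) * g ∈ N := hDerN _ hder
  have hgN : g ∈ N := by
    have := N.mul_mem (N.inv_mem m₀.2) hmg
    rwa [inv_mul_cancel_left] at this
  exact hg1 (hreg' a g hgN hga)

/-- a regular normal subgroup all of whose nonidentity elements are fused is abelian and the
group is 2-transitive -/
theorem two_trans_of_regular [Finite G] (N : Subgroup G) [hN : N.Normal]
    (hNne : N ≠ ⊥)
    (hNtr : ∀ a b : Ω, ∃ n ∈ N, n • a = b)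
    (hNconj : ∀ a ∈ N, ∀ b ∈ N, a ≠ 1 → b ≠ 1 → ∃ g : G, g * a * g⁻¹ = b) :
    (∀ a ∈ N, ∀ b ∈ N, a * b = b * a) ∧ IsMultiplyPretransitive G Ω 2 := by
  obtain ⟨z, hz, hz1, hzc⟩ := exists_central_of_conj N hNne hNconj
  have hab : ∀ a ∈ N, ∀ b ∈ N, a * b = b * a := by
    intro a ha b hb
    by_cases ha1 : a = 1
    · rw [ha1, one_mul, mul_one]
    · obtain ⟨g, rfl⟩ := hNconj z hz a ha hz1 ha1
      have hb' : g⁻¹ * b * g ∈ N := by
        have := hN.conj_mem b hb g⁻¹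
        simpa using this
      have e := hzc _ hb'
      calc g * z * g⁻¹ * b = g * (z * (g⁻¹ * b * g)) * g⁻¹ := by group
        _ = g * ((g⁻¹ * b * g) * z) * g⁻¹ := by rw [e]
        _ = b * (g * z * g⁻¹) := by group
  refine ⟨hab, ?_⟩
  rw [is_two_pretransitive_iff]
  intro a b c d hab' hcd
  obtain ⟨g₁, _, hg₁⟩ := hNtr a c
  set b' := g₁ • b with hb'
  have hb'c : b' ≠ c := by
    intro h
    apply hab'
    rw [← hg₁] at h
    exact (smul_left_cancel g₁ h).symm
  obtain ⟨n₁, hn₁, hn₁c⟩ := hNtr c b'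
  obtain ⟨n₂, hn₂, hn₂c⟩ := hNtr c d
  have hn₁1 : n₁ ≠ 1 := by
    intro h; rw [h, one_smul] at hn₁c; exact hb'c hn₁c.symm
  have hn₂1 : n₂ ≠ 1 := by
    intro h; rw [h, one_smul] at hn₂c; exact hcd hn₂c
  obtain ⟨h, hh⟩ := hNconj n₁ hn₁ n₂ hn₂ hn₁1 hn₂1
  obtain ⟨m, hm, hmc⟩ := hNtr c (h • c)
  set h' := m⁻¹ * h with hh'
  have hh'c : h' • c = c := by
    rw [hh', mul_smul, ← hmc, inv_smul_smul]
  have hconj' : h' * n₁ * h'⁻¹ = n₂ := by
    have e := hab m⁻¹ (N.inv_mem hm) n₂ hn₂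
    calc h' * n₁ * h'⁻¹ = m⁻¹ * (h * n₁ * h⁻¹) * m := by rw [hh']; group
      _ = m⁻¹ * n₂ * m := by rw [hh]
      _ = n₂ * m⁻¹ * m := by rw [e]
      _ = n₂ := by group
  refine ⟨h' * g₁, ?_, ?_⟩
  · rw [mul_smul, hg₁, hh'c]
  · calc (h' * g₁) • b = h' • b' := by rw [mul_smul]
      _ = h' • n₁ • c := by rw [hn₁c]
      _ = (h' * n₁ * h'⁻¹) • (h' • c) := by
          rw [← mul_smul, ← mul_smul]; congr 1; group
      _ = n₂ • c := by rw [hconj', hh'c]
      _ = d := hn₂c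

end Cfsg.Agent.Lib.Helper7.PUD
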