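import Mathlib
import Cfsg.Agent.Lib.Lead.Coprime

set_option autoImplicit false

namespace Cfsg.Agent.Lib.Helper7

open Cfsg.Agent.Lib
open scoped commutatorElement

section
variable {X : Type*} [Group X]

/-- Coprime action with `[P, A] = P`: the fixed points lie in the derived subgroup. -/
theorem centralizer_le_commutator_of_commutator_eq [Finite X] (P A : Subgroup X)
    (hAP : A ≤ Subgroup.normalizer (P : Set X)) (hcop : (Nat.card A).Coprime (Nat.card P))
    (hPA : ⁅P, A⁆ = P) : P ⊓ Subgroup.centralizer (A : Set X) ≤ ⁅P, P⁆ := by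
  classical
  haveI : Fintype A := Fintype.ofFinite A
  let f : A → (P →* Abelianization P) := fun a =>
    Abelianization.of.comp (Lead.conjHom P a (hAP a.2))
  let ν : P →* Abelianization P := ∏ a : A, f a
  have hν : ∀ v : P, ν v = ∏ a : A, Abelianization.of (Lead.conjHom P a (hAP a.2) v) := by
    intro v
    exact MonoidHom.finsetProd_apply _ _ _
  have hνconj : ∀ (b : A) (v : P), ν (Lead.conjHom P b (hAP b.2) v) = ν v := by
    intro b v
    rw [hν, hν]
    apply Fintype.prod_equiv (Equiv.mulRight b)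
    intro a
    congr 1
    ext
    simp [mul_assoc]
  have hker : ⁅P, A⁆ ≤ ν.ker.map P.subtype := by
    rw [Subgroup.commutator_le]
    intro g₁ h₁ g₂ h₂
    refine ⟨(⟨g₁, h₁⟩ : P) * Lead.conjHom P g₂ (hAP h₂) (⟨g₁, h₁⟩ : P)⁻¹, ?_, ?_⟩
    · rw [SetLike.mem_coe, MonoidHom.mem_ker, map_mul]
      have := hνconj ⟨g₂, h₂⟩ (⟨g₁, h₁⟩ : P)⁻¹
      simp only at this
      rw [this, map_inv, mul_inv_cancel]
    · simp [commutatorElement_def, mul_assoc]
  have hall : ∀ v : P, ν v = 1 := by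
    intro v
    have : (v : X) ∈ ν.ker.map P.subtype := hker (by rw [hPA]; exact v.2)
    obtain ⟨w, hw, hwv⟩ := this
    have : w = v := Subtype.ext hwv
    rw [← this]; exact hw
  intro c hc
  obtain ⟨hcP, hcA'⟩ := Subgroup.mem_inf.mp hc
  have hcA := Subgroup.mem_centralizer_iff.mp hcA'
  have h1 : ν ⟨c, hcP⟩ = (Abelianization.of (⟨c, hcP⟩ : P)) ^ Fintype.card A := by
    rw [hν, Finset.prod_eq_pow_card (b := Abelianization.of (⟨c, hcP⟩ : P)), Finset.card_univ]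
    intro a _
    congr 1
    ext
    simp only [Lead.conjHom_coe]
    rw [hcA a a.2, mul_inv_cancel_right]
  rw [hall] at h1
  have h2 : (Abelianization.of (⟨c, hcP⟩ : P)) ^ Nat.card P = 1 := by
    rw [← map_pow, pow_card_eq_one', map_one]
  have h3 : orderOf (Abelianization.of (⟨c, hcP⟩ : P)) ∣ Nat.card A := by
    rw [Nat.card_eq_fintype_card]
    exact orderOf_dvd_of_pow_eq_one h1.symm
  have h4 : orderOf (Abelianization.of (⟨c, hcP⟩ : P)) ∣ Nat.card P :=
    orderOf_dvd_of_pow_eq_one h2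
  have h5 : orderOf (Abelianization.of (⟨c, hcP⟩ : P)) = 1 :=
    Nat.eq_one_of_dvd_coprimes hcop h3 h4
  have h6 : (⟨c, hcP⟩ : P) ∈ (Abelianization.of (G := P)).ker := orderOf_eq_one_iff.mp h5
  rw [Abelianization.ker_of] at h6
  rw [← Subgroup.map_subtype_commutator]
  exact ⟨⟨c, hcP⟩, h6, rfl⟩

/-- in a group where `c = ⁅y, x⁆` commutes with `x` and `y`: `y ^ n * x = c ^ n * x * y ^ n` -/
theorem pow_mul_comm_of_central (x y : X) (hy : Commute ⁅y, x⁆ y)
    (n : ℕ) : y ^ n * x = ⁅y, x⁆ ^ n * x * y ^ n := by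
  have hyx : y * x = ⁅y, x⁆ * x * y := by rw [commutatorElement_def]; group
  induction n with
  | zero => simp
  | succ n ih =>
    calc y ^ (n + 1) * x = y * (y ^ n * x) := by rw [pow_succ']; group
      _ = y * (⁅y, x⁆ ^ n * x * y ^ n) := by rw [ih]
      _ = (y * ⁅y, x⁆ ^ n) * x * y ^ n := by group
      _ = (⁅y, x⁆ ^ n * y) * x * y ^ n := by rw [(hy.pow_left n).eq]
      _ = ⁅y, x⁆ ^ n * (y * x) * y ^ n := by group
      _ = ⁅y, x⁆ ^ n * (⁅y, x⁆ * x * y) * y ^ n := by rw [hyx]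
      _ = ⁅y, x⁆ ^ (n + 1) * x * y ^ (n + 1) := by rw [pow_succ, pow_succ']; group

/-- the power of a product in class two -/
theorem mul_pow_of_central (x y : X) (hx : Commute ⁅y, x⁆ x) (hy : Commute ⁅y, x⁆ y)
    (n : ℕ) : (x * y) ^ n = x ^ n * y ^ n * ⁅y, x⁆ ^ (∑ i ∈ Finset.range n, i) := by
  induction n with
  | zero => simp
  | succ n ih =>
    have h1 := pow_mul_comm_of_central x y hy n
    have hcx : ∀ k m : ℕ, Commute (⁅y, x⁆ ^ k) (x ^ m) := fun k m => (hx.pow_left k).pow_right m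
    have hcy : ∀ k m : ℕ, Commute (⁅y, x⁆ ^ k) (y ^ m) := fun k m => (hy.pow_left k).pow_right m
    calc (x * y) ^ (n + 1) = (x * y) ^ n * (x * y) := pow_succ _ _
      _ = x ^ n * y ^ n * ⁅y, x⁆ ^ (∑ i ∈ Finset.range n, i) * (x * y) := by rw [ih]
      _ = x ^ n * y ^ n * (⁅y, x⁆ ^ (∑ i ∈ Finset.range n, i) * x) * y := by group
      _ = x ^ n * y ^ n * (x * ⁅y, x⁆ ^ (∑ i ∈ Finset.range n, i)) * y := by
          rw [((hx.pow_left _)).eq]
      _ = x ^ n * (y ^ n * x) * (⁅y, x⁆ ^ (∑ i ∈ Finset.range n, i) * y) := by group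
      _ = x ^ n * (⁅y, x⁆ ^ n * x * y ^ n) * (y * ⁅y, x⁆ ^ (∑ i ∈ Finset.range n, i)) := by
          rw [h1, ((hy.pow_left _)).eq]
      _ = (x ^ n * ⁅y, x⁆ ^ n) * x * y ^ n * y * ⁅y, x⁆ ^ (∑ i ∈ Finset.range n, i) := by group
      _ = (⁅y, x⁆ ^ n * x ^ n) * x * y ^ n * y * ⁅y, x⁆ ^ (∑ i ∈ Finset.range n, i) := by
          rw [(hcx n n).eq]
      _ = ⁅y, x⁆ ^ n * (x ^ (n + 1) * y ^ (n + 1)) * ⁅y, x⁆ ^ (∑ i ∈ Finset.range n, i) := by
          rw [pow_succ, pow_succ]; group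
      _ = (x ^ (n + 1) * y ^ (n + 1)) * ⁅y, x⁆ ^ n * ⁅y, x⁆ ^ (∑ i ∈ Finset.range n, i) := by
          rw [((hcx n (n + 1)).mul_right (hcy n (n + 1))).eq]
      _ = x ^ (n + 1) * y ^ (n + 1) * ⁅y, x⁆ ^ (∑ i ∈ Finset.range (n + 1), i) := by
          rw [Finset.sum_range_succ, pow_add, add_comm, pow_add]; group

end

end Cfsg.Agent.Lib.Helper7
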