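import Mathlib
import Cfsg.Agent.Lib.Helper4.Deg11_Defs
import Cfsg.Agent.S0675
import Cfsg.Agent.S0713

/-!
# S0679 swarm, package P1a: transitivity, double transitivity, primitivity, `NoSmallCycle`
-/

set_option autoImplicit false
set_option linter.style.haveILetI false
open Equiv MulAction

namespace Cfsg.Agent.Lib.Helper7.Deg11P1a

open Cfsg.Agent.Lib.Deg11

/-- the powers of `x ↦ x + 1` move `0` to every point -/
theorem d11c_pow_zero : ∀ y : Fin 11, (d11c ^ y.val) 0 = y := by decide

/-- (T) a subgroup containing `x ↦ x + 1` is transitive -/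
theorem pretransitive_of_d11c (G : Subgroup (Perm (Fin 11))) (hc : d11c ∈ G) :
    MulAction.IsPretransitive G (Fin 11) := by
  refine ⟨fun x y => ?_⟩
  refine ⟨⟨d11c ^ y.val * (d11c ^ x.val)⁻¹,
    G.mul_mem (G.pow_mem hc _) (G.inv_mem (G.pow_mem hc _))⟩, ?_⟩
  show (d11c ^ y.val * (d11c ^ x.val)⁻¹) x = y
  rw [Perm.mul_apply]
  have hx : (d11c ^ x.val)⁻¹ x = 0 := by
    rw [Perm.inv_eq_iff_eq]
    exact (d11c_pow_zero x).symm
  rw [hx]
  exact d11c_pow_zero y

/-- (T2) non-solvable gives doubly transitive (Burnside, S0675) -/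
theorem two_pretransitive (G : Subgroup (Perm (Fin 11))) (hc : d11c ∈ G)
    (hsol : ¬ Group.IsSolvable G) : MulAction.IsMultiplyPretransitive G (Fin 11) 2 := by
  haveI := pretransitive_of_d11c G hc
  have hα : (Fintype.card (Fin 11)).Prime := by
    rw [Fintype.card_fin]; norm_num
  exact (Cfsg.Agent.S0675.result hα G).resolve_left hsol

/-- (PR) hence primitive -/
theorem preprimitive (G : Subgroup (Perm (Fin 11))) (hc : d11c ∈ G)
    (hsol : ¬ Group.IsSolvable G) : MulAction.IsPreprimitive G (Fin 11) :=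
  isPreprimitive_of_is_two_pretransitive (two_pretransitive G hc hsol)

/-- (J) Jordan's theorem S0713: no cycles of length `2, 3, 5, 7` -/
theorem noSmallCycle (G : Subgroup (Perm (Fin 11))) (hc : d11c ∈ G)
    (hsol : ¬ Group.IsSolvable G) (hA : ¬ alternatingGroup (Fin 11) ≤ G) : NoSmallCycle G := by
  intro g hg hcyc hcard
  have hprim := preprimitive G hc hsol
  have h11 : Fintype.card (Fin 11) = 11 := Fintype.card_fin 11
  simp only [Finset.mem_insert, Finset.mem_singleton] at hcard
  have hp : (g.support.card).Prime := by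
    rcases hcard with h | h | h | h <;> rw [h] <;> norm_num
  have hle : g.support.card + 3 ≤ Fintype.card (Fin 11) := by
    rw [h11]; omega
  exact hA (Cfsg.Agent.S0713.result G hprim hp (by rw [h11]; norm_num) hle hcyc rfl hg)

end Cfsg.Agent.Lib.Helper7.Deg11P1a
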