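import Mathlib
import Cfsg.Agent.Lib.Helper2.G2LE2a

set_option autoImplicit false

/-! S3801 package E2c: Burnside's theorem for an irreducible invariant subspace of a `q`-group. -/

namespace Cfsg.Agent.Lib.Helper7.G2LE2c

open Module Cfsg.Agent.Lib.Helper8.TB Cfsg.Agent.Lib.Helper8

section core
variable {K : Type*} [Field K] [IsAlgClosed K] {Q : Type*} [Group Q] [Finite Q]
  {W : Type*} [AddCommGroup W] [Module K W] [FiniteDimensional K W] [Nontrivial W]

/-- rank-one operators lie in the span of the image of an irreducible representation -/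
theorem smulRight_mem_span (ρ : Representation K Q W) (hirr : HB.Irr ρ) (q : ℕ) [Fact q.Prime]
    (hqK : (q : K) ≠ 0) (hQ : IsPGroup q Q) (ℓ : W →ₗ[K] K) (x : W) :
    ℓ.smulRight x ∈ Submodule.span K (Set.range ρ) := by
  classical
  have := Fintype.ofFinite Q
  obtain ⟨b, hb⟩ := HB.finrank_eq_prime_pow (K := K) q (Nat.card Q) Q hQ rfl W ρ hirr
  have hdim : (finrank K W : K) ≠ 0 := by rw [hb, Nat.cast_pow]; exact pow_ne_zero _ hqK
  obtain ⟨n, hn⟩ := IsPGroup.iff_card.mp hQ
  have hcard : (Fintype.card Q : K) ≠ 0 := by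
    rw [← Nat.card_eq_fintype_card, hn, Nat.cast_pow]; exact pow_ne_zero _ hqK
  set S : Module.End K W := ∑ u : Q, (ℓ (ρ u⁻¹ x)) • ρ u with hS
  have hSmem : S ∈ Submodule.span K (Set.range ρ) :=
    Submodule.sum_mem _ (fun u _ => Submodule.smul_mem _ _ (Submodule.subset_span ⟨u, rfl⟩))
  have hSw : ∀ w : W, S w = ((Fintype.card Q : K) * (ℓ w / (finrank K W : K))) • x := by
    intro w
    set E : Module.End K W := ℓ.smulRight w with hE
    obtain ⟨κ, hκ⟩ := HB.schur ρ hirr (FF.avgOp ρ E) (fun g => (FF.avgOp_comm ρ E g).symm)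
    have htr : LinearMap.trace K W (FF.avgOp ρ E) = ℓ w := by
      unfold FF.avgOp
      rw [map_smul, map_sum]
      have : ∀ z : Q, LinearMap.trace K W (ρ z * E * ρ z⁻¹) = ℓ w := by
        intro z
        rw [LinearMap.trace_mul_comm, ← mul_assoc, ← map_mul, inv_mul_cancel, map_one, one_mul,
          hE, LinearMap.trace_smulRight]
      simp only [this, Finset.sum_const, Finset.card_univ, nsmul_eq_mul, smul_eq_mul]
      field_simp
    have hκ' : κ = ℓ w / (finrank K W : K) := by
      rw [hκ, Algebra.algebraMap_eq_smul_one, map_smul, LinearMap.trace_one, smul_eq_mul] at htr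
      exact eq_div_of_mul_eq hdim htr
    have hx : FF.avgOp ρ E x = ((Fintype.card Q : K)⁻¹) • S w := by
      unfold FF.avgOp
      rw [LinearMap.smul_apply, LinearMap.sum_apply, hS, LinearMap.sum_apply]
      congr 1
      apply Finset.sum_congr rfl
      intro z _
      simp [hE, Module.End.mul_apply, LinearMap.smulRight_apply]
    rw [hκ, Module.algebraMap_end_apply, hκ'] at hx
    have := congrArg (fun t => (Fintype.card Q : K) • t) hx
    simp only [smul_smul, mul_inv_cancel₀ hcard, one_smul] at this
    exact this.symm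
  have hc : ((Fintype.card Q : K) / (finrank K W : K)) ≠ 0 := div_ne_zero hcard hdim
  have hfin : ℓ.smulRight x = ((Fintype.card Q : K) / (finrank K W : K))⁻¹ • S := by
    apply LinearMap.ext
    intro w
    rw [LinearMap.smul_apply, hSw w, LinearMap.smulRight_apply, smul_smul]
    congr 1
    field_simp
  rw [hfin]
  exact Submodule.smul_mem _ _ hSmem

/-- Burnside: the image of an irreducible representation of a `q`-group spans `End W` -/
theorem span_range_eq_top (ρ : Representation K Q W) (hirr : HB.Irr ρ) (q : ℕ) [Fact q.Prime]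
    (hqK : (q : K) ≠ 0) (hQ : IsPGroup q Q) :
    Submodule.span K (Set.range ρ) = ⊤ := by
  rw [eq_top_iff]
  intro f _
  let b := Module.finBasis K W
  have hf : f = ∑ i, (b.coord i).smulRight (f (b i)) := by
    apply LinearMap.ext
    intro v
    rw [LinearMap.sum_apply]
    simp only [LinearMap.smulRight_apply, Module.Basis.coord_apply]
    conv_lhs => rw [← b.sum_repr v]
    rw [map_sum]
    simp only [map_smul]
  rw [hf]
  exact Submodule.sum_mem _ (fun i _ => smulRight_mem_span ρ hirr q hqK hQ _ _)

end core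

section wrap
variable {K : Type*} [Field K] [IsAlgClosed K] {Q : Type*} [Group Q] [Finite Q]
  {V : Type*} [AddCommGroup V] [Module K V] [FiniteDimensional K V]

/-- E2c : Burnside's theorem for an irreducible invariant subspace of a `q`-group (`q ≠ char K`) -/
theorem burnside_span
    (τ : Representation K Q V) (q : ℕ) [Fact q.Prime] (hqK : (q : K) ≠ 0) (hQ : IsPGroup q Q)
    {Y : Submodule K V} (hY : IrrSub τ Y) (φ : Y →ₗ[K] Y) :
    ∃ a ∈ Submodule.span K (Set.range τ), ∀ y : Y, a (y : V) = (φ y : V) := by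
  have : Nontrivial Y := by
    rw [Submodule.nontrivial_iff_ne_bot]; exact hY.1
  let T : Submodule K (Y →ₗ[K] Y) :=
    { carrier := {f | ∃ a ∈ Submodule.span K (Set.range τ), ∀ y : Y, a (y : V) = (f y : V)}
      zero_mem' := ⟨0, Submodule.zero_mem _, fun y => by simp⟩
      add_mem' := by
        rintro f g ⟨a, ha, hfa⟩ ⟨c, hc, hgc⟩
        refine ⟨a + c, Submodule.add_mem _ ha hc, fun y => ?_⟩
        rw [LinearMap.add_apply, hfa, hgc, LinearMap.add_apply, Submodule.coe_add]
      smul_mem' := by
        rintro r f ⟨a, ha, hfa⟩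
        refine ⟨r • a, Submodule.smul_mem _ r ha, fun y => ?_⟩
        rw [LinearMap.smul_apply, hfa, LinearMap.smul_apply, Submodule.coe_smul] }
  have hle : Submodule.span K (Set.range (FF.restrictRep τ Y hY.2.1)) ≤ T := by
    rw [Submodule.span_le]
    rintro _ ⟨u, rfl⟩
    exact ⟨τ u, Submodule.subset_span ⟨u, rfl⟩, fun y => rfl⟩
  rw [span_range_eq_top (FF.restrictRep τ Y hY.2.1) (QC.irr_restrict hY) q hqK hQ] at hle
  exact hle (Submodule.mem_top (x := φ))

end wrap

end Cfsg.Agent.Lib.Helper7.G2LE2c
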