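import Mathlib

set_option autoImplicit false

/-! S3801 package NT: `q^m = (2^n-1)^2` with `q` an odd prime forces `q = 2^n - 1`. -/

namespace Cfsg.Agent.Lib.Helper7.G2LNT

theorem odd_sq_mod_four {k : ℕ} (hk : Odd k) : k ^ 2 % 4 = 1 := by
  have h1 : k % 4 = 1 ∨ k % 4 = 3 := by
    obtain ⟨j, rfl⟩ := hk
    omega
  rw [Nat.pow_mod]
  rcases h1 with h | h <;> rw [h]

/-- `2^n = q^c + 1`, `q` odd `≥ 3`, `n ≥ 2` forces `c = 1` -/
theorem exp_eq_one {q n c : ℕ} (hq3 : 3 ≤ q) (hqodd : Odd q) (hn : 2 ≤ n)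
    (h : 2 ^ n = q ^ c + 1) : c = 1 := by
  have h4 : 4 ∣ 2 ^ n := by
    have : (4 : ℕ) = 2 ^ 2 := by norm_num
    rw [this]; exact pow_dvd_pow 2 hn
  rcases Nat.even_or_odd c with hce | hco
  · -- even exponent: `q^c + 1 ≡ 2 mod 4`
    exfalso
    obtain ⟨d, rfl⟩ := hce
    have h1 : q ^ (d + d) = (q ^ d) ^ 2 := by rw [← pow_mul]; congr 1; ring
    have h2 := odd_sq_mod_four (hqodd.pow (n := d))
    rw [h, h1] at h4
    omega
  · by_contra hc1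
    have hc3 : 3 ≤ c := by
      obtain ⟨j, rfl⟩ := hco
      omega
    -- `q + 1 ∣ 2^n`
    have hdvd : q + 1 ∣ q ^ c + 1 := by
      have := Odd.nat_add_dvd_pow_add_pow q 1 hco
      rwa [one_pow] at this
    rw [← h] at hdvd
    obtain ⟨a, ha, hqa⟩ := (Nat.dvd_prime_pow Nat.prime_two).mp hdvd
    -- `(q+1)^2 < 2^n`
    have hlt : (q + 1) ^ 2 < 2 ^ n := by
      rw [h]
      have h1 : q ^ 3 ≤ q ^ c := Nat.pow_le_pow_right (by omega) hc3
      nlinarith [sq_nonneg q]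
    have hsq : (q + 1) ^ 2 ∣ 2 ^ n := by
      rw [hqa, ← pow_mul] at hlt ⊢
      have : a * 2 < n := (Nat.pow_lt_pow_iff_right (by norm_num)).mp hlt
      exact pow_dvd_pow 2 this.le
    -- binomial congruence
    have hbin := sq_dvd_add_pow_sub_sub ((q : ℤ) + 1) (-1) c
    have hc1' : Even (c - 1) := by
      obtain ⟨j, rfl⟩ := hco
      exact ⟨j, by omega⟩
    rw [hco.neg_one_pow, hc1'.neg_one_pow] at hbin
    have hsqZ : ((q : ℤ) + 1) ^ 2 ∣ (q : ℤ) ^ c + 1 := by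
      have : ((q : ℤ) + 1) ^ 2 ∣ ((2 ^ n : ℕ) : ℤ) := by exact_mod_cast hsq
      rw [h] at this
      exact_mod_cast this
    have h5 : ((q : ℤ) + 1) ^ 2 ∣ ((q : ℤ) + 1) * c := by
      have h6 : ((q : ℤ) + 1) * c = ((q : ℤ) ^ c + 1) -
          ((-1 + ((q : ℤ) + 1)) ^ c - 1 * ((q : ℤ) + 1) * c - -1) := by ring
      rw [h6]
      exact dvd_sub hsqZ hbin
    have h7 : ((q : ℤ) + 1) ∣ c := by
      rw [sq] at h5
      exact (mul_dvd_mul_iff_left (by positivity)).mp h5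
    have h8 : (2 : ℤ) ∣ (q : ℤ) + 1 := by
      obtain ⟨j, rfl⟩ := hqodd
      exact ⟨j + 1, by push_cast; ring⟩
    have h9 : (2 : ℤ) ∣ c := h8.trans h7
    have h10 : 2 ∣ c := by exact_mod_cast h9
    obtain ⟨j, rfl⟩ := hco
    omega

/-- NT -/
theorem mersenne_of_sq {q n m : ℕ} (hq : q.Prime) (hq2 : q ≠ 2) (hn : 2 ≤ n)
    (h : q ^ m = (2 ^ n - 1) ^ 2) : q = 2 ^ n - 1 := by
  have h4 : 4 ≤ 2 ^ n := by
    calc 4 = 2 ^ 2 := by norm_num
      _ ≤ 2 ^ n := Nat.pow_le_pow_right (by norm_num) hn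
  have hdvd : 2 ^ n - 1 ∣ q ^ m := by rw [h, sq]; exact dvd_mul_right _ _
  obtain ⟨c, _, hc⟩ := (Nat.dvd_prime_pow hq).mp hdvd
  have hqodd : Odd q := hq.odd_of_ne_two hq2
  have hq3 : 3 ≤ q := by
    have := hq.two_le
    obtain ⟨j, rfl⟩ := hqodd
    omega
  have h2 : 2 ^ n = q ^ c + 1 := by omega
  have hc1 := exp_eq_one hq3 hqodd hn h2
  rw [hc, hc1, pow_one]

end Cfsg.Agent.Lib.Helper7.G2LNT
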