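import Mathlib
import Cfsg.Prelude.Def_Local
import Cfsg.Agent.Lib.Lead.FrattFaith
import Cfsg.Agent.Lib.Lead.Frattini
import Cfsg.Agent.Lib.Lead.Core
import Cfsg.Agent.Lib.Helper4.FStarQuot2
import Cfsg.Agent.Lib.Helper6.PRes

set_option autoImplicit false

/-! The Frattini reduction: for a `p`-soluble group `G` with `O_{p'}(G) = 1`, the quotient
`G / Φ(O_p(G))` has `O_p` elementary abelian and self-centralizing. -/

namespace Cfsg.Agent.Lib.Helper7.FrattRed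

open Cfsg
open scoped commutatorElement

universe u

variable {G : Type u} [Group G]

/-- `Φ(O_p(G))` as a subgroup of `G` -/
noncomputable def phi (p : ℕ) (G : Type u) [Group G] : Subgroup G :=
  (frattini ↥(pCore p G)).map (pCore p G).subtype

instance phi_normal (p : ℕ) : (phi p G).Normal := by
  haveI : (pCore p G).Normal := Cfsg.Agent.Lib.Lead.pCore_normal p
  exact Cfsg.Agent.Lib.Helper4.FStarQuot.frattini_map_subtype_normal (pCore p G)

theorem phi_le (p : ℕ) : phi p G ≤ pCore p G := by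
  intro t ht
  obtain ⟨s, _, rfl⟩ := Subgroup.mem_map.mp ht
  exact s.2

theorem phi_isPGroup (p : ℕ) : IsPGroup p (phi p G) :=
  (Cfsg.Agent.Lib.Lead.pCore_isPGroup p).to_le (phi_le p)

theorem pCore_quot (p : ℕ) :
    pCore p (G ⧸ phi p G) = (pCore p G).map (QuotientGroup.mk' (phi p G)) :=
  Cfsg.Agent.Lib.Helper6.pCore_quotient_of_isPGroup (phi p G) (phi_isPGroup p)

theorem mem_pCore_of_mk_mem (p : ℕ) {x : G}
    (hx : (QuotientGroup.mk' (phi p G)) x ∈ pCore p (G ⧸ phi p G)) : x ∈ pCore p G := by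
  rw [pCore_quot] at hx
  obtain ⟨r, hr, hrx⟩ := Subgroup.mem_map.mp hx
  have h3 : r⁻¹ * x ∈ phi p G := by
    rw [← QuotientGroup.eq_one_iff (N := phi p G)]
    have : ((r⁻¹ * x : G) : G ⧸ phi p G) =
        ((QuotientGroup.mk' (phi p G)) r)⁻¹ * (QuotientGroup.mk' (phi p G)) x := by simp
    rw [this, hrx]; group
  have : x = r * (r⁻¹ * x) := by group
  rw [this]
  exact (pCore p G).mul_mem hr (phi_le p h3)

variable [Finite G] {p : ℕ} [hp : Fact p.Prime]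

theorem pow_mem_phi {r : G} (hr : r ∈ pCore p G) : r ^ p ∈ phi p G := by
  have := Cfsg.Agent.Lib.Lead.pow_mem_frattini_of_isPGroup
    (Cfsg.Agent.Lib.Lead.pCore_isPGroup (G := G) p) (⟨r, hr⟩ : ↥(pCore p G))
  exact ⟨_, this, by simp⟩

theorem comm_mem_phi {r s : G} (hr : r ∈ pCore p G) (hs : s ∈ pCore p G) :
    r * s * r⁻¹ * s⁻¹ ∈ phi p G := by
  have h1 : ⁅(⟨r, hr⟩ : ↥(pCore p G)), (⟨s, hs⟩ : ↥(pCore p G))⁆ ∈ commutator ↥(pCore p G) := by
    rw [commutator_def]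
    exact Subgroup.commutator_mem_commutator (Subgroup.mem_top _) (Subgroup.mem_top _)
  have h2 := Cfsg.Agent.Lib.Lead.commutator_le_frattini_of_isPGroup
    (Cfsg.Agent.Lib.Lead.pCore_isPGroup (G := G) p) h1
  refine ⟨_, h2, ?_⟩
  simp [commutatorElement_def]

/-- the quotient has `O_p` of exponent `p` -/
theorem quot_exp : ∀ a ∈ pCore p (G ⧸ phi p G), a ^ p = 1 := by
  intro a ha
  rw [pCore_quot] at ha
  obtain ⟨r, hr, rfl⟩ := Subgroup.mem_map.mp ha
  rw [← map_pow]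
  exact (QuotientGroup.eq_one_iff _).mpr (pow_mem_phi hr)

/-- the quotient has abelian `O_p` -/
theorem quot_comm : ∀ a ∈ pCore p (G ⧸ phi p G), ∀ b ∈ pCore p (G ⧸ phi p G), a * b = b * a := by
  intro a ha b hb
  rw [pCore_quot] at ha hb
  obtain ⟨r, hr, rfl⟩ := Subgroup.mem_map.mp ha
  obtain ⟨s, hs, rfl⟩ := Subgroup.mem_map.mp hb
  have h1 : (QuotientGroup.mk' (phi p G)) (r * s * r⁻¹ * s⁻¹) = 1 :=
    (QuotientGroup.eq_one_iff _).mpr (comm_mem_phi hr hs)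
  rw [map_mul, map_mul, map_mul, map_inv, map_inv] at h1
  obtain ⟨ρ, hρ⟩ : ∃ ρ, ρ = (QuotientGroup.mk' (phi p G)) r := ⟨_, rfl⟩
  obtain ⟨σ, hσ⟩ : ∃ σ, σ = (QuotientGroup.mk' (phi p G)) s := ⟨_, rfl⟩
  rw [← hρ, ← hσ] at h1 ⊢
  calc ρ * σ = (ρ * σ * ρ⁻¹ * σ⁻¹) * σ * ρ := by group
    _ = σ * ρ := by rw [h1, one_mul]

/-- the quotient has self-centralizing `O_p` -/
theorem quot_selfcentralizing (hG : IsPSolvable p G) (hO : pPrimeCore p G = ⊥) :
    ∀ z : G ⧸ phi p G, (∀ v ∈ pCore p (G ⧸ phi p G), z * v = v * z) →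
      z ∈ pCore p (G ⧸ phi p G) := by
  intro zb hzb
  obtain ⟨z, rfl⟩ := QuotientGroup.mk'_surjective (phi p G) zb
  rw [pCore_quot]
  apply Subgroup.mem_map_of_mem
  apply Cfsg.Agent.Lib.Lead.FrattFaith.mem_pCore_of_trivial_on_frattini_quotient hG hO z
  intro r hr
  show z * r * z⁻¹ * r⁻¹ ∈ phi p G
  rw [← QuotientGroup.eq_one_iff (N := phi p G)]
  have h1 := hzb ((QuotientGroup.mk' (phi p G)) r)
    (by rw [pCore_quot]; exact Subgroup.mem_map_of_mem _ hr)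
  have : ((z * r * z⁻¹ * r⁻¹ : G) : G ⧸ phi p G) =
      (QuotientGroup.mk' (phi p G)) z * (QuotientGroup.mk' (phi p G)) r *
        ((QuotientGroup.mk' (phi p G)) z)⁻¹ * ((QuotientGroup.mk' (phi p G)) r)⁻¹ := by simp
  rw [this, h1]; group

end Cfsg.Agent.Lib.Helper7.FrattRed
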