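import Mathlib

set_option autoImplicit false

/-! Hall–Higman Theorem B, abelian case, in "norm form": if a finite group `X` normalizes an abelian
group `E` and acts on it fixed-point-freely (each non-identity element of `X` has trivial centralizer
in `E`), and `E` acts nontrivially on an abelian group `A` on which multiplication by `|E|` is
injective, then the norm `∑_{g ∈ X} g` does not vanish on `A`. -/

namespace Cfsg.Agent.Lib.Helper7.NormB

open Classical

variable {Γ : Type*} [Group Γ] [Fintype Γ] {A : Type*} [AddCommGroup A]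
  (ρ : Γ →* AddMonoid.End A)

/-- the elements of a subgroup as a finset -/
noncomputable def fs (S : Subgroup Γ) : Finset Γ := Finset.univ.filter (fun g => g ∈ S)

omit [Group Γ] in
theorem mem_fs' [Group Γ] (S : Subgroup Γ) (g : Γ) : g ∈ fs S ↔ g ∈ S := by
  simp [fs]

theorem card_fs (S : Subgroup Γ) : (fs S).card = Nat.card S := by
  rw [Nat.card_eq_fintype_card, Fintype.card_subtype]
  rfl

/-- the norm over a subgroup -/
noncomputable def nrm (S : Subgroup Γ) : AddMonoid.End A := ∑ g ∈ fs S, ρ g

theorem nrm_apply (S : Subgroup Γ) (a : A) : nrm ρ S a = ∑ g ∈ fs S, ρ g a := by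
  unfold nrm
  exact AddMonoidHom.finset_sum_apply _ _ _

theorem rho_mul_apply (g h : Γ) (a : A) : ρ (g * h) a = ρ g (ρ h a) := by
  rw [map_mul]; rfl

theorem rho_one_apply (a : A) : ρ 1 a = a := by
  rw [map_one]; rfl

theorem rho_inv_apply (g : Γ) (a : A) : ρ g⁻¹ (ρ g a) = a := by
  rw [← rho_mul_apply, inv_mul_cancel, rho_one_apply]

theorem rho_apply_inv (g : Γ) (a : A) : ρ g (ρ g⁻¹ a) = a := by
  rw [← rho_mul_apply, mul_inv_cancel, rho_one_apply]

/-- the stabilizer of a point -/
def fixer (a : A) : Subgroup Γ where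
  carrier := {g | ρ g a = a}
  one_mem' := rho_one_apply ρ a
  mul_mem' := by
    intro g h hg hh
    show ρ (g * h) a = a
    rw [rho_mul_apply, hh, hg]
  inv_mem' := by
    intro g hg
    show ρ g⁻¹ a = a
    have : ρ g a = a := hg
    conv_lhs => rw [← this]
    exact rho_inv_apply ρ g a

theorem mem_fixer (a : A) (g : Γ) : g ∈ fixer ρ a ↔ ρ g a = a := Iff.rfl

/-- the norm is fixed by the subgroup -/
theorem rho_nrm (S : Subgroup Γ) {t : Γ} (ht : t ∈ S) (a : A) : ρ t (nrm ρ S a) = nrm ρ S a := by
  rw [nrm_apply, map_sum]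
  apply Finset.sum_nbij' (fun g => t * g) (fun g => t⁻¹ * g)
  · intro g hg
    rw [mem_fs'] at hg ⊢
    exact S.mul_mem ht hg
  · intro g hg
    rw [mem_fs'] at hg ⊢
    exact S.mul_mem (S.inv_mem ht) hg
  · intro g _
    group
  · intro g _
    group
  · intro g _
    exact (rho_mul_apply ρ t g a).symm

/-- the norm on fixed points is multiplication by the order -/
theorem nrm_of_fixed (S : Subgroup Γ) (a : A) (ha : ∀ s ∈ S, ρ s a = a) :
    nrm ρ S a = Nat.card S • a := by
  rw [nrm_apply, ← card_fs, ← Finset.sum_const]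
  apply Finset.sum_congr rfl
  intro g hg
  exact ha g ((mem_fs' S g).mp hg)

/-- an element normalizing `S` commutes with the norm of `S` -/
theorem rho_nrm_comm (S : Subgroup Γ) {g : Γ} (hg : g ∈ Subgroup.normalizer (S : Set Γ)) (a : A) :
    ρ g (nrm ρ S a) = nrm ρ S (ρ g a) := by
  rw [nrm_apply, nrm_apply, map_sum]
  rw [Subgroup.mem_normalizer_iff] at hg
  apply Finset.sum_nbij' (fun s => g * s * g⁻¹) (fun s => g⁻¹ * s * g)
  · intro s hs
    rw [mem_fs'] at hs ⊢
    exact (hg s).mp hs
  · intro s hs
    rw [mem_fs'] at hs ⊢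
    rw [hg]
    have : g * (g⁻¹ * s * g) * g⁻¹ = s := by group
    rw [this]; exact hs
  · intro s _
    group
  · intro s _
    group
  · intro s _
    rw [← rho_mul_apply, ← rho_mul_apply]
    congr 2
    group

end Cfsg.Agent.Lib.Helper7.NormB
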