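import Mathlib
import Cfsg.Agent.Lib.Helper7.NormB1

set_option autoImplicit false

/-! The main norm lemma (Hall–Higman Theorem B, abelian case). -/

namespace Cfsg.Agent.Lib.Helper7.NormB

open Classical

variable {Γ : Type*} [Group Γ] [Fintype Γ] {A : Type*} [AddCommGroup A]
  (ρ : Γ →* AddMonoid.End A)

/-- `nrm S (t a) = nrm S a` for `t ∈ S` -/
theorem nrm_rho (S : Subgroup Γ) {t : Γ} (ht : t ∈ S) (a : A) : nrm ρ S (ρ t a) = nrm ρ S a := by
  rw [← rho_nrm_comm ρ S (Subgroup.le_normalizer ht) a, rho_nrm ρ S ht]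

/-- the twisted sum over `E` of a fixed-point-free element vanishes on the kernel of the norm -/
theorem sum_conj_eq_zero (E : Subgroup Γ) {h : Γ} (hhE : h ∈ Subgroup.normalizer (E : Set Γ))
    (hfpf : ∀ e ∈ E, h * e = e * h → e = 1) (u : A) (hu : nrm ρ E u = 0) :
    ∑ e ∈ fs E, ρ (e * h * e⁻¹) u = 0 := by
  have hmem : ∀ e ∈ E, e * h * e⁻¹ * h⁻¹ ∈ E := by
    intro e he
    have h1 : h * e⁻¹ * h⁻¹ ∈ E := (Subgroup.mem_normalizer_iff.mp hhE e⁻¹).mp (E.inv_mem he)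
    have : e * h * e⁻¹ * h⁻¹ = e * (h * e⁻¹ * h⁻¹) := by group
    rw [this]; exact E.mul_mem he h1
  have hinj : Set.InjOn (fun e : Γ => e * h * e⁻¹ * h⁻¹) (fs E : Set Γ) := by
    intro e he e' he' hee'
    rw [Finset.mem_coe, mem_fs'] at he he'
    have h1 : e * h * e⁻¹ = e' * h * e'⁻¹ := by
      have := congrArg (fun t => t * h) hee'
      simpa using this
    have h2 : h * (e'⁻¹ * e) = (e'⁻¹ * e) * h := by
      calc h * (e'⁻¹ * e) = e'⁻¹ * (e' * h * e'⁻¹) * e := by group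
        _ = e'⁻¹ * (e * h * e⁻¹) * e := by rw [h1]
        _ = (e'⁻¹ * e) * h := by group
    have h3 := hfpf _ (E.mul_mem (E.inv_mem he') he) h2
    calc e = e' * (e'⁻¹ * e) := by group
      _ = e' := by rw [h3, mul_one]
  have himg : (fs E).image (fun e : Γ => e * h * e⁻¹ * h⁻¹) = fs E := by
    apply Finset.eq_of_subset_of_card_le
    · intro x hx
      obtain ⟨e, he, rfl⟩ := Finset.mem_image.mp hx
      rw [mem_fs'] at he ⊢
      exact hmem e he
    · rw [Finset.card_image_of_injOn hinj]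
  have h1 : ∑ e ∈ fs E, ρ (e * h * e⁻¹) u = ∑ e ∈ fs E, ρ (e * h * e⁻¹ * h⁻¹) (ρ h u) := by
    apply Finset.sum_congr rfl
    intro e _
    rw [← rho_mul_apply]
    congr 2
    group
  rw [h1]
  have h2 : ∑ e ∈ fs E, ρ (e * h * e⁻¹ * h⁻¹) (ρ h u) =
      ∑ x ∈ (fs E).image (fun e : Γ => e * h * e⁻¹ * h⁻¹), ρ x (ρ h u) := by
    rw [Finset.sum_image hinj]
  rw [h2, himg, ← nrm_apply, ← rho_nrm_comm ρ E hhE, hu, map_zero]

/-- the Frobenius identity -/
theorem frob (E H : Subgroup Γ) (hHE : H ≤ Subgroup.normalizer (E : Set Γ))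
    (hfpf : ∀ h ∈ H, h ≠ 1 → ∀ e ∈ E, h * e = e * h → e = 1) (u : A) (hu : nrm ρ E u = 0) :
    ∑ e ∈ fs E, ρ e (nrm ρ H (ρ e⁻¹ u)) = Nat.card E • u := by
  have h1 : ∀ e ∈ fs E, ρ e (nrm ρ H (ρ e⁻¹ u)) = ∑ h ∈ fs H, ρ (e * h * e⁻¹) u := by
    intro e _
    rw [nrm_apply, map_sum]
    apply Finset.sum_congr rfl
    intro h _
    rw [rho_mul_apply, rho_mul_apply]
  rw [Finset.sum_congr rfl h1, Finset.sum_comm]
  rw [Finset.sum_eq_single (1 : Γ)]
  · rw [← card_fs, ← Finset.sum_const]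
    apply Finset.sum_congr rfl
    intro e _
    have : e * 1 * e⁻¹ = 1 := by group
    rw [this, rho_one_apply]
  · intro h hh hne
    rw [mem_fs'] at hh
    exact sum_conj_eq_zero ρ E (hHE hh) (hfpf h hh hne) u hu
  · intro h1
    exfalso; apply h1
    rw [mem_fs']; exact H.one_mem

/-- The norm lemma. -/
theorem nrm_ne_zero (E X : Subgroup Γ) (hEc : ∀ a ∈ E, ∀ b ∈ E, a * b = b * a)
    (hXE : X ≤ Subgroup.normalizer (E : Set Γ))
    (hfpf : ∀ h ∈ X, h ≠ 1 → ∀ e ∈ E, h * e = e * h → e = 1)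
    (hcop : ∀ a : A, Nat.card E • a = 0 → a = 0)
    (hnt : ∃ e ∈ E, ∃ a : A, ρ e a ≠ a) : ∃ a : A, nrm ρ X a ≠ 0 := by
  -- multiplication by the order of a subgroup of E is injective
  have hcopD : ∀ D : Subgroup Γ, D ≤ E → ∀ a : A, Nat.card D • a = 0 → a = 0 := by
    intro D hDE a ha
    apply hcop
    obtain ⟨k, hk⟩ := Subgroup.card_dvd_of_le hDE
    rw [hk, mul_comm, mul_smul, ha, smul_zero]
  -- E normalizes its subgroups
  have hEnD : ∀ D : Subgroup Γ, D ≤ E → E ≤ Subgroup.normalizer (D : Set Γ) := by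
    intro D hDE e he
    rw [Subgroup.mem_normalizer_iff]
    intro d
    constructor
    · intro hd
      have : e * d * e⁻¹ = d := by rw [hEc e he d (hDE hd)]; group
      rw [this]; exact hd
    · intro hd
      have h1 : e * d * e⁻¹ ∈ E := hDE hd
      have h2 : d ∈ E := by
        have : d = e⁻¹ * (e * d * e⁻¹) * e := by group
        rw [this]
        exact E.mul_mem (E.mul_mem (E.inv_mem he) h1) he
      have : e * d * e⁻¹ = d := by rw [hEc e he d h2]; group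
      rw [this] at hd; exact hd
  -- step 1
  obtain ⟨e₀, he₀, a₀, ha₀⟩ := hnt
  have hw : ρ e₀ a₀ - a₀ ≠ 0 := sub_ne_zero.mpr ha₀
  have hwN : nrm ρ E (ρ e₀ a₀ - a₀) = 0 := by
    rw [map_sub, nrm_rho ρ E he₀, sub_self]
  -- step 2
  set 𝒟 : Set (Subgroup Γ) :=
    {D | D ≤ E ∧ ∃ a : A, a ≠ 0 ∧ nrm ρ E a = 0 ∧ ∀ d ∈ D, ρ d a = a} with h𝒟
  have hne : 𝒟.Nonempty := by
    refine ⟨⊥, bot_le, _, hw, hwN, ?_⟩
    intro d hd
    rw [Subgroup.mem_bot] at hd
    rw [hd, rho_one_apply]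
  obtain ⟨D, hDmax⟩ := (Set.toFinite 𝒟).exists_maximal hne
  obtain ⟨hDE, u, hu0, huN, huD⟩ := hDmax.prop
  -- the stabilizer of D in X
  set H : Subgroup Γ := X ⊓ Subgroup.normalizer (D : Set Γ) with hH
  have hHX : H ≤ X := inf_le_left
  -- step 3
  have hfrob := frob ρ E H (hHX.trans hXE) (fun h hh => hfpf h (hHX hh))
  -- elements of the form e⁻¹ u
  have hU : ∀ e ∈ E, ∀ u' : A, nrm ρ E u' = 0 → (∀ d ∈ D, ρ d u' = u') →
      nrm ρ E (ρ e⁻¹ u') = 0 ∧ ∀ d ∈ D, ρ d (ρ e⁻¹ u') = ρ e⁻¹ u' := by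
    intro e he u' hu'N hu'D
    refine ⟨by rw [nrm_rho ρ E (E.inv_mem he), hu'N], ?_⟩
    intro d hd
    rw [← rho_mul_apply, hEc d (hDE hd) e⁻¹ (E.inv_mem he), rho_mul_apply, hu'D d hd]
  -- key vanishing: for g ∈ X not normalizing D
  have hvan : ∀ g ∈ X, g ∉ Subgroup.normalizer (D : Set Γ) → ∀ u' : A, nrm ρ E u' = 0 →
      (∀ d ∈ D, ρ d u' = u') → nrm ρ D (ρ g u') = 0 := by
    intro g hgX hgN u' hu'N hu'D
    by_contra hw0
    set w := nrm ρ D (ρ g u') with hwdef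
    set Dg : Subgroup Γ := D.map (MulAut.conj g).toMonoidHom with hDg
    have hDgE : Dg ≤ E := by
      intro x hx
      obtain ⟨d, hd, rfl⟩ := Subgroup.mem_map.mp hx
      exact (Subgroup.mem_normalizer_iff.mp (hXE hgX) d).mp (hDE hd)
    have hwD : ∀ d ∈ D, ρ d w = w := fun d hd => rho_nrm ρ D hd _
    have hwDg : ∀ x ∈ Dg, ρ x w = w := by
      intro x hx
      obtain ⟨d, hd, rfl⟩ := Subgroup.mem_map.mp hx
      have hxE : (MulAut.conj g).toMonoidHom d ∈ E := hDgE (Subgroup.mem_map_of_mem _ hd)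
      rw [hwdef, rho_nrm_comm ρ D (hEnD D hDE hxE)]
      congr 1
      show ρ (g * d * g⁻¹) (ρ g u') = ρ g u'
      rw [← rho_mul_apply]
      have : g * d * g⁻¹ * g = g * d := by group
      rw [this, rho_mul_apply, hu'D d hd]
    have hwN' : nrm ρ E w = 0 := by
      have hwsum : w = ∑ d ∈ fs D, ρ d (ρ g u') := nrm_apply ρ D _
      rw [hwsum, map_sum]
      apply Finset.sum_eq_zero
      intro d hd
      rw [mem_fs'] at hd
      rw [nrm_rho ρ E (hDE hd), ← rho_nrm_comm ρ E (hXE hgX), hu'N, map_zero]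
    have hmem : D ⊔ Dg ∈ 𝒟 := by
      refine ⟨sup_le hDE hDgE, w, hw0, hwN', ?_⟩
      intro x hx
      have : D ⊔ Dg ≤ fixer ρ w := sup_le (fun d hd => hwD d hd) (fun d hd => hwDg d hd)
      exact this hx
    have hle : D ⊔ Dg ≤ D := hDmax.le_of_ge hmem le_sup_left
    apply hgN
    apply Subgroup.mem_normalizer_fintype
    intro n hn
    exact hle (le_sup_right (a := D) (Subgroup.mem_map_of_mem _ hn))
  -- the stabilizer part
  have hstab : ∀ g ∈ H, ∀ d ∈ D, ρ d (ρ g u) = ρ g u := by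
    intro g hg d hd
    have hgN : g ∈ Subgroup.normalizer (D : Set Γ) := hg.2
    have h1 : g⁻¹ * d * g ∈ D := (Subgroup.mem_normalizer_iff''.mp hgN d).mp hd
    rw [← rho_mul_apply]
    have : d * g = g * (g⁻¹ * d * g) := by group
    rw [this, rho_mul_apply, huD _ h1]
  -- step 3: some translate has nonzero H-norm
  have hex : ∃ u' : A, nrm ρ E u' = 0 ∧ (∀ d ∈ D, ρ d u' = u') ∧ nrm ρ H u' ≠ 0 := by
    by_contra hall
    push Not at hall
    have h0 : ∑ e ∈ fs E, ρ e (nrm ρ H (ρ e⁻¹ u)) = 0 := by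
      apply Finset.sum_eq_zero
      intro e he
      rw [mem_fs'] at he
      obtain ⟨h1, h2⟩ := hU e he u huN huD
      rw [hall _ h1 h2, map_zero]
    rw [hfrob u huN] at h0
    exact hu0 (hcop u h0)
  obtain ⟨u', hu'N, hu'D, hu'H⟩ := hex
  refine ⟨u', ?_⟩
  intro hX0
  -- step 4
  have hstab' : ∀ g ∈ H, ∀ d ∈ D, ρ d (ρ g u') = ρ g u' := by
    intro g hg d hd
    have hgN : g ∈ Subgroup.normalizer (D : Set Γ) := hg.2
    have h1 : g⁻¹ * d * g ∈ D := (Subgroup.mem_normalizer_iff''.mp hgN d).mp hd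
    rw [← rho_mul_apply]
    have : d * g = g * (g⁻¹ * d * g) := by group
    rw [this, rho_mul_apply, hu'D _ h1]
  have h1 : nrm ρ D (nrm ρ X u') = ∑ g ∈ fs X, nrm ρ D (ρ g u') := by
    rw [nrm_apply ρ X, map_sum]
  have h2 : ∑ g ∈ fs X, nrm ρ D (ρ g u') = ∑ g ∈ fs H, nrm ρ D (ρ g u') := by
    symm
    apply Finset.sum_subset
    · intro g hg
      rw [mem_fs'] at hg ⊢
      exact hHX hg
    · intro g hgX hgH
      rw [mem_fs'] at hgX hgH
      apply hvan g hgX _ u' hu'N hu'D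
      intro hgN
      exact hgH ⟨hgX, hgN⟩
  have h3 : ∑ g ∈ fs H, nrm ρ D (ρ g u') = Nat.card D • nrm ρ H u' := by
    rw [nrm_apply ρ H, Finset.smul_sum]
    apply Finset.sum_congr rfl
    intro g hg
    rw [mem_fs'] at hg
    exact nrm_of_fixed ρ D _ (hstab' g hg)
  rw [hX0, map_zero, h2, h3] at h1
  exact hu'H (hcopD D hDE _ h1.symm)

end Cfsg.Agent.Lib.Helper7.NormB
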