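import Mathlib
import Cfsg.Agent.Lib.Helper7.NormB2

set_option autoImplicit false

/-! Bridge: the conjugation action of `G ⧸ V` on an abelian normal subgroup `V`, additively, and
the link between norms and powers `(v x)^n`. -/

namespace Cfsg.Agent.Lib.Helper7.NormB

open Classical
open scoped IsMulCommutative

section abstract

variable {Γ : Type*} [Group Γ] [Fintype Γ] {A : Type*} [AddCommGroup A]
  (ρ : Γ →* AddMonoid.End A)

/-- the norm over a cyclic subgroup as a sum over exponents -/
theorem nrm_zpowers (ξ : Γ) (a : A) :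
    nrm ρ (Subgroup.zpowers ξ) a = ∑ i ∈ Finset.range (orderOf ξ), ρ (ξ ^ i) a := by
  rw [nrm_apply]
  have himg : fs (Subgroup.zpowers ξ) = (Finset.range (orderOf ξ)).image (fun i => ξ ^ i) := by
    ext g
    rw [mem_fs', mem_zpowers_iff_mem_range_orderOf]
  rw [himg, Finset.sum_image]
  intro i hi j hj hij
  rw [Finset.mem_coe, Finset.mem_range] at hi hj
  exact pow_injOn_Iio_orderOf hi hj hij

end abstract

variable {G : Type*} [Group G] (V : Subgroup G) [hVn : V.Normal] [hVc : IsMulCommutative V]

/-- conjugation by `g` on `V`, written additively -/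
def conjEnd0 (g : G) : AddMonoid.End (Additive V) where
  toFun a := Additive.ofMul
    (⟨g * ((Additive.toMul a : V) : G) * g⁻¹, hVn.conj_mem _ (Additive.toMul a).2 g⟩ : V)
  map_zero' := by
    apply Additive.toMul.injective
    apply Subtype.ext
    simp
  map_add' := by
    intro a b
    apply Additive.toMul.injective
    apply Subtype.ext
    simp [mul_assoc]

theorem conjEnd0_apply (g : G) (a : Additive V) :
    ((Additive.toMul (conjEnd0 V g a) : V) : G) = g * ((Additive.toMul a : V) : G) * g⁻¹ := rfl

/-- the conjugation action of `G` on `V` as a monoid homomorphism into the endomorphism ring -/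
def conjEndHom : G →* AddMonoid.End (Additive V) where
  toFun := conjEnd0 V
  map_one' := by
    refine DFunLike.ext _ _ (fun a => ?_)
    apply Additive.toMul.injective
    apply Subtype.ext
    rw [conjEnd0_apply]
    simp
  map_mul' := by
    intro g h
    refine DFunLike.ext _ _ (fun a => ?_)
    apply Additive.toMul.injective
    apply Subtype.ext
    show _ = ((Additive.toMul (conjEnd0 V g (conjEnd0 V h a)) : V) : G)
    rw [conjEnd0_apply, conjEnd0_apply, conjEnd0_apply]
    group

theorem conjEndHom_apply (g : G) (a : Additive V) :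
    ((Additive.toMul (conjEndHom V g a) : V) : G) = g * ((Additive.toMul a : V) : G) * g⁻¹ := rfl

theorem conjEndHom_of_mem {v : G} (hv : v ∈ V) : conjEndHom V v = 1 := by
  refine DFunLike.ext _ _ (fun a => ?_)
  apply Additive.toMul.injective
  apply Subtype.ext
  rw [conjEndHom_apply]
  have h := mul_comm' (⟨v, hv⟩ : V) (Additive.toMul a : V)
  have h' : v * ((Additive.toMul a : V) : G) = ((Additive.toMul a : V) : G) * v :=
    congrArg Subtype.val h
  rw [h']
  show _ = ((Additive.toMul a : V) : G)
  group

/-- the action of `G ⧸ V` on `V` -/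
def quotAct : G ⧸ V →* AddMonoid.End (Additive V) :=
  QuotientGroup.lift V (conjEndHom V) (fun _ hv => conjEndHom_of_mem V hv)

theorem quotAct_mk (g : G) : quotAct V (QuotientGroup.mk' V g) = conjEndHom V g := rfl

theorem quotAct_mk_apply (g : G) (a : Additive V) :
    ((Additive.toMul (quotAct V (QuotientGroup.mk' V g) a) : V) : G) =
      g * ((Additive.toMul a : V) : G) * g⁻¹ := rfl

/-- the partial norms in `G` -/
def pnorm (x v : G) : ℕ → G
  | 0 => 1
  | n + 1 => pnorm x v n * (x ^ n * v * (x ^ n)⁻¹)

theorem mul_pow_eq_pnorm (x v : G) (n : ℕ) : (v * x) ^ n = pnorm x v n * x ^ n := by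
  induction n with
  | zero => simp [pnorm]
  | succ n ih =>
    rw [pow_succ, ih]
    show pnorm x v n * x ^ n * (v * x) = pnorm x v n * (x ^ n * v * (x ^ n)⁻¹) * x ^ (n + 1)
    rw [pow_succ]
    group

theorem sum_range_eq_pnorm (x : G) (a : Additive V) (n : ℕ) :
    ((Additive.toMul (∑ i ∈ Finset.range n, quotAct V ((QuotientGroup.mk' V x) ^ i) a) : V) : G) =
      pnorm x ((Additive.toMul a : V) : G) n := by
  induction n with
  | zero => simp [pnorm]
  | succ n ih =>
    rw [Finset.sum_range_succ, toMul_add, Subgroup.coe_mul, ih, ← map_pow, quotAct_mk_apply]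
    rfl

/-- if the norm of `a` over `⟨x̄⟩` is nonzero then `(v x)^n ≠ x^n` where `n` is the order of `x̄` -/
theorem mul_pow_ne_of_nrm_ne_zero [Fintype (G ⧸ V)] (x : G) (a : Additive V)
    (ha : nrm (quotAct V) (Subgroup.zpowers (QuotientGroup.mk' V x)) a ≠ 0) :
    (((Additive.toMul a : V) : G) * x) ^ orderOf (QuotientGroup.mk' V x) ≠
      x ^ orderOf (QuotientGroup.mk' V x) := by
  intro h
  apply ha
  rw [mul_pow_eq_pnorm] at h
  have h1 : pnorm x ((Additive.toMul a : V) : G) (orderOf (QuotientGroup.mk' V x)) = 1 := by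
    have := mul_right_cancel (b := x ^ orderOf (QuotientGroup.mk' V x))
      (a := pnorm x ((Additive.toMul a : V) : G) (orderOf (QuotientGroup.mk' V x))) (c := 1)
      (by rw [h, one_mul])
    exact this
  rw [nrm_zpowers]
  apply Additive.toMul.injective
  apply Subtype.ext
  rw [sum_range_eq_pnorm, h1]
  rfl

end Cfsg.Agent.Lib.Helper7.NormB
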