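import Mathlib
import Cfsg.Prelude.Def_Local
import Cfsg.Agent.Lib.Helper7.NormB3
import Cfsg.Agent.Lib.Lead.HHDual
import Cfsg.Agent.Lib.Lead.Coprime
import Cfsg.Agent.Lib.Lead.CoprimeAction2
import Cfsg.Agent.Lib.Lead.CoprimeAction3
import Cfsg.Agent.Lib.Lead.CoprimeSylow3
import Cfsg.Agent.Lib.Helper6.PPrimeCore

set_option autoImplicit false

/-! Hall–Higman Theorem B when the Sylow `q`-subgroups (`q ≠ p`) are abelian, abstract form. -/

namespace Cfsg.Agent.Lib.Helper7.NormB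

open Classical Cfsg
open scoped IsMulCommutative commutatorElement

universe u

variable {Γ : Type u} [Group Γ]

/-- in a cyclic `p`-group every nontrivial subgroup contains the subgroup of order `p` -/
theorem pow_mem_zpowers_of_ne_one {p : ℕ} [hp : Fact p.Prime] (ξ : Γ) (k : ℕ) (hk : 1 ≤ k)
    (hξ : orderOf ξ = p ^ k) {h : Γ} (hh : h ∈ Subgroup.zpowers ξ) (hne : h ≠ 1) :
    ξ ^ p ^ (k - 1) ∈ Subgroup.zpowers h := by
  have hfin : IsOfFinOrder ξ := by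
    rw [← orderOf_pos_iff, hξ]; exact pow_pos hp.out.pos k
  rw [← hfin.mem_powers_iff_mem_zpowers] at hh
  obtain ⟨i, hi⟩ := (Submonoid.mem_powers_iff _ _).mp hh
  obtain ⟨s, hsk, hs⟩ := (Nat.dvd_prime_pow hp.out).mp (Nat.gcd_dvd_right i (p ^ k))
  have hslt : s < k := by
    rcases Nat.lt_or_ge s k with h1 | h1
    · exact h1
    · exfalso
      have : s = k := le_antisymm hsk h1
      rw [this] at hs
      apply hne
      rw [← hi]
      apply orderOf_dvd_iff_pow_eq_one.mp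
      rw [hξ, ← hs]
      exact Nat.gcd_dvd_left i (p ^ k)
  have hbez := Nat.gcd_eq_gcd_ab i (p ^ k)
  rw [hs] at hbez
  have h1 : ξ ^ p ^ s ∈ Subgroup.zpowers h := by
    have e : ξ ^ p ^ s = h ^ (Nat.gcdA i (p ^ k)) := by
      rw [← zpow_natCast ξ (p ^ s), hbez, zpow_add, zpow_mul, zpow_natCast, hi, zpow_mul,
        zpow_natCast, ← hξ, pow_orderOf_eq_one, one_zpow, mul_one]
    rw [e]
    exact Subgroup.zpow_mem _ (Subgroup.mem_zpowers h) _
  have h2 : ξ ^ p ^ (k - 1) = (ξ ^ p ^ s) ^ p ^ (k - 1 - s) := by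
    rw [← pow_mul, ← pow_add]
    congr 2
    omega
  rw [h2]
  exact Subgroup.pow_mem _ h1 _

/-- a subgroup of `K` containing a Sylow `q`-subgroup of `K` for every prime `q` is all of `K` -/
theorem eq_of_forall_sylow_le [Finite Γ] (H K : Subgroup Γ) (hHK : H ≤ K)
    (h : ∀ (q : ℕ) [Fact q.Prime], ∃ Q : Sylow q K, (Q : Subgroup K).map K.subtype ≤ H) :
    H = K := by
  apply Subgroup.eq_of_le_of_card_ge hHK
  apply Nat.le_of_dvd Nat.card_pos
  rw [← Nat.factorization_prime_le_iff_dvd Nat.card_pos.ne' Nat.card_pos.ne']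
  intro q hq
  haveI : Fact q.Prime := ⟨hq⟩
  obtain ⟨Q, hQ⟩ := h q
  have h1 : Nat.card ((Q : Subgroup K).map K.subtype) = q ^ (Nat.card K).factorization q := by
    rw [Subgroup.card_map_of_injective K.subtype_injective]
    exact Q.card_eq_multiplicity
  have h2 := Subgroup.card_dvd_of_le hQ
  rw [h1] at h2
  exact (Nat.Prime.pow_dvd_iff_le_factorization hq Nat.card_pos.ne').mp h2

variable [Fintype Γ] {A : Type*} [AddCommGroup A] (ρ : Γ →* AddMonoid.End A)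

/-- the norm lemma applied to an invariant abelian `q`-subgroup not centralized by `ξ₀` -/
theorem nrm_ne_zero_of_qgroup {p : ℕ} [hp : Fact p.Prime]
    (hfaith : ∀ γ : Γ, (∀ a : A, ρ γ a = a) → γ = 1)
    (hA : ∀ a : A, ∃ n : ℕ, p ^ n • a = 0)
    (ξ : Γ) (k : ℕ) (hk : 1 ≤ k) (hξ : orderOf ξ = p ^ k)
    (q : ℕ) [hq : Fact q.Prime] (hqp : q ≠ p) (Q : Subgroup Γ) (hQ : IsPGroup q Q)
    (hQc : ∀ a ∈ Q, ∀ b ∈ Q, a * b = b * a)
    (hXQ : Subgroup.zpowers ξ ≤ Subgroup.normalizer (Q : Set Γ))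
    (hnc : ¬ Q ≤ Subgroup.centralizer ((Subgroup.zpowers (ξ ^ p ^ (k - 1)) : Subgroup Γ) : Set Γ)) :
    ∃ a : A, nrm ρ (Subgroup.zpowers ξ) a ≠ 0 := by
  obtain ⟨ξ₀, hξ₀def⟩ : ∃ ξ₀, ξ₀ = ξ ^ p ^ (k - 1) := ⟨_, rfl⟩
  rw [← hξ₀def] at hnc
  obtain ⟨X, hXdef⟩ : ∃ X, X = Subgroup.zpowers ξ := ⟨_, rfl⟩
  obtain ⟨Z₀, hZ₀def⟩ : ∃ Z₀, Z₀ = Subgroup.zpowers ξ₀ := ⟨_, rfl⟩
  rw [← hXdef] at hXQ ⊢
  rw [← hZ₀def] at hnc
  have hZ₀X : Z₀ ≤ X := by
    rw [hZ₀def, hXdef, Subgroup.zpowers_le, hξ₀def]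
    exact Subgroup.pow_mem _ (Subgroup.mem_zpowers ξ) _
  haveI : IsMulCommutative Q := ⟨⟨fun a b => Subtype.ext (hQc a a.2 b b.2)⟩⟩
  have hordξ₀ : orderOf ξ₀ = p := by
    rw [hξ₀def, orderOf_pow_of_dvd (pow_pos hp.out.pos _).ne', hξ]
    · rw [Nat.pow_div (by omega) hp.out.pos]
      have : k - (k - 1) = 1 := by omega
      rw [this, pow_one]
    · rw [hξ]; exact pow_dvd_pow p (by omega)
  have hZ₀card : Nat.card Z₀ = p := by rw [hZ₀def, Nat.card_zpowers, hordξ₀]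
  obtain ⟨m, hm⟩ := (IsPGroup.iff_card).mp hQ
  have hcop : (Nat.card Z₀).Coprime (Nat.card Q) := by
    rw [hZ₀card, hm]
    exact Nat.Coprime.pow_right m ((Nat.coprime_primes hp.out hq.out).mpr (Ne.symm hqp))
  have hZ₀Q : Z₀ ≤ Subgroup.normalizer (Q : Set Γ) := hZ₀X.trans hXQ
  obtain ⟨hd1, hd2⟩ := Cfsg.Agent.Lib.Lead.coprime_abelian_decomp Z₀ Q hZ₀Q hcop
  obtain ⟨E, hEdef⟩ : ∃ E : Subgroup Γ, E = ⁅Q, Z₀⁆ := ⟨_, rfl⟩
  rw [← hEdef] at hd1 hd2
  have hEQ : E ≤ Q := by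
    rw [hEdef]; exact Cfsg.Agent.Lib.Lead.commutator_le_left_of_le_normalizer Q Z₀ hZ₀Q
  have hEne : E ≠ ⊥ := by
    intro h
    rw [h, sup_bot_eq] at hd2
    apply hnc
    rw [← hd2]
    exact inf_le_right
  -- X is abelian hence normalizes Z₀
  have hXZ₀ : X ≤ Subgroup.normalizer (Z₀ : Set Γ) := by
    intro g hg
    rw [Subgroup.mem_normalizer_iff]
    intro z
    have hcomm : ∀ z ∈ X, g * z * g⁻¹ = z := by
      intro z hz
      rw [hXdef] at hg hz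
      obtain ⟨i, rfl⟩ := Subgroup.mem_zpowers_iff.mp hg
      obtain ⟨j, rfl⟩ := Subgroup.mem_zpowers_iff.mp hz
      rw [← zpow_add, ← zpow_neg, ← zpow_add]
      congr 1
      ring
    constructor
    · intro hz
      rw [hcomm z (hZ₀X hz)]; exact hz
    · intro hz
      have h1 : g * z * g⁻¹ ∈ X := hZ₀X hz
      have h2 : z ∈ X := by
        have : z = g⁻¹ * (g * z * g⁻¹) * g := by group
        rw [this]
        exact X.mul_mem (X.mul_mem (X.inv_mem hg) h1) hg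
      rw [hcomm z h2] at hz; exact hz
  have hXE : X ≤ Subgroup.normalizer (E : Set Γ) := by
    rw [hEdef]
    exact (le_inf hXQ hXZ₀).trans
      (Cfsg.Agent.Lib.Lead.normalizer_inf_le_normalizer_commutator Q Z₀)
  have hEc : ∀ a ∈ E, ∀ b ∈ E, a * b = b * a := fun a ha b hb => hQc a (hEQ ha) b (hEQ hb)
  have hfpf : ∀ h ∈ X, h ≠ 1 → ∀ e ∈ E, h * e = e * h → e = 1 := by
    intro h hh hne e he hcomm
    have h1 : ξ₀ ∈ Subgroup.zpowers h := by
      rw [hξ₀def]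
      rw [hXdef] at hh
      exact pow_mem_zpowers_of_ne_one ξ k hk hξ hh hne
    have h2 : e ∈ Subgroup.centralizer (Z₀ : Set Γ) := by
      rw [Subgroup.mem_centralizer_iff]
      intro z hz
      have hz' : z ∈ Subgroup.zpowers h := by
        rw [hZ₀def] at hz
        exact (Subgroup.zpowers_le.mpr h1) hz
      obtain ⟨i, rfl⟩ := Subgroup.mem_zpowers_iff.mp hz'
      exact ((show Commute h e from hcomm).zpow_left i).eq
    have h3 : e ∈ (Q ⊓ Subgroup.centralizer (Z₀ : Set Γ)) ⊓ E := ⟨⟨hEQ he, h2⟩, he⟩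
    rw [hd1] at h3
    exact Subgroup.mem_bot.mp h3
  have hcopA : ∀ a : A, Nat.card E • a = 0 → a = 0 := by
    intro a ha
    obtain ⟨n, hn⟩ := hA a
    obtain ⟨m', hm'⟩ := (IsPGroup.iff_card).mp (hQ.to_le hEQ)
    rw [hm'] at ha
    have h1 : addOrderOf a ∣ q ^ m' := addOrderOf_dvd_of_nsmul_eq_zero ha
    have h2 : addOrderOf a ∣ p ^ n := addOrderOf_dvd_of_nsmul_eq_zero hn
    have h3 : (q ^ m').Coprime (p ^ n) :=
      Nat.Coprime.pow _ _ ((Nat.coprime_primes hq.out hp.out).mpr hqp)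
    have h4 : addOrderOf a = 1 := Nat.eq_one_of_dvd_coprimes h3 h1 h2
    exact AddMonoid.addOrderOf_eq_one_iff.mp h4
  have hnt : ∃ e ∈ E, ∃ a : A, ρ e a ≠ a := by
    obtain ⟨⟨e, he⟩, hne⟩ := (Subgroup.ne_bot_iff_exists_ne_one).mp hEne
    refine ⟨e, he, ?_⟩
    by_contra hall
    push Not at hall
    apply hne
    apply Subtype.ext
    exact hfaith e hall
  exact nrm_ne_zero ρ E X hEc hXE hfpf hcopA hnt

/-- Hall–Higman Theorem B, abelian case, abstract norm form. -/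
theorem thmB_abelian {p : ℕ} [hp : Fact p.Prime] (hΓ : IsPSolvable p Γ) (hOp : pCore p Γ = ⊥)
    (hab : ∀ (q : ℕ) [Fact q.Prime], q ≠ p → ∀ Q : Sylow q Γ,
      ∀ a ∈ (Q : Subgroup Γ), ∀ b ∈ (Q : Subgroup Γ), a * b = b * a)
    (hfaith : ∀ γ : Γ, (∀ a : A, ρ γ a = a) → γ = 1)
    (hA : ∀ a : A, ∃ n : ℕ, p ^ n • a = 0)
    (ξ : Γ) (k : ℕ) (hk : 1 ≤ k) (hξ : orderOf ξ = p ^ k) :
    ∃ a : A, nrm ρ (Subgroup.zpowers ξ) a ≠ 0 := by
  by_contra hall
  obtain ⟨K, hKdef⟩ : ∃ K : Subgroup Γ, K = pPrimeCore p Γ := ⟨_, rfl⟩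
  haveI hKn : K.Normal := by
    rw [hKdef]; exact (Cfsg.Agent.Lib.Helper6.pPrimeCore_mem_set p).1
  have hKc : (Nat.card K).Coprime p := by
    rw [hKdef]; exact Cfsg.Agent.Lib.Helper6.pPrimeCore_coprime p
  have hCK : Subgroup.centralizer (K : Set Γ) ≤ K := by
    rw [hKdef]; exact Cfsg.Agent.Lib.Lead.centralizer_pPrimeCore_le_of_isPSolvable hΓ hOp
  obtain ⟨ξ₀, hξ₀def⟩ : ∃ ξ₀, ξ₀ = ξ ^ p ^ (k - 1) := ⟨_, rfl⟩
  have hordξ₀ : orderOf ξ₀ = p := by
    rw [hξ₀def, orderOf_pow_of_dvd (pow_pos hp.out.pos _).ne', hξ]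
    · rw [Nat.pow_div (by omega) hp.out.pos]
      have : k - (k - 1) = 1 := by omega
      rw [this, pow_one]
    · rw [hξ]; exact pow_dvd_pow p (by omega)
  have hξ₀K : ξ₀ ∉ K := by
    intro h
    have h1 := Cfsg.Agent.Lib.Helper6.eq_one_of_pElement_of_coprime_card hKc h
      ⟨1, by rw [hordξ₀, pow_one]⟩
    rw [h1, orderOf_one] at hordξ₀
    exact hp.out.one_lt.ne hordξ₀
  obtain ⟨X, hXdef⟩ : ∃ X, X = Subgroup.zpowers ξ := ⟨_, rfl⟩
  obtain ⟨Z₀, hZ₀def⟩ : ∃ Z₀, Z₀ = Subgroup.zpowers ξ₀ := ⟨_, rfl⟩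
  have hXK : X ≤ Subgroup.normalizer (K : Set Γ) := by
    rw [Subgroup.normalizer_eq_top_iff.mpr hKn]; exact le_top
  have hXcard : Nat.card X = p ^ k := by rw [hXdef, Nat.card_zpowers, hξ]
  have hcopXK : (Nat.card X).Coprime (Nat.card K) := by
    rw [hXcard]; exact Nat.Coprime.pow_left k hKc.symm
  haveI : IsMulCommutative X := by
    rw [hXdef]; infer_instance
  have hXsolv : Group.IsSolvable X := inferInstance
  -- C_K(ξ₀) = K
  have hCeq : K ⊓ Subgroup.centralizer (Z₀ : Set Γ) = K := by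
    apply eq_of_forall_sylow_le _ K inf_le_left
    intro q hq
    obtain ⟨Q, hQ⟩ := Cfsg.Agent.Lib.Lead.coprime_invariant_sylow_exists X K hXK hcopXK
      (Or.inl hXsolv) q
    refine ⟨Q, le_inf (Subgroup.map_subtype_le _) ?_⟩
    by_contra hnc
    have hQp : IsPGroup q ((Q : Subgroup K).map K.subtype) := Q.2.map _
    have hQK : (Q : Subgroup K).map K.subtype ≤ K := Subgroup.map_subtype_le _
    have hqp : q ≠ p := by
      intro hqp
      apply hnc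
      obtain ⟨m, hm⟩ := (IsPGroup.iff_card).mp hQp
      have h1 : q ^ m ∣ Nat.card K := by rw [← hm]; exact Subgroup.card_dvd_of_le hQK
      have h2 : m = 0 := by
        by_contra hm0
        have : p ∣ Nat.card K := by
          rw [← hqp]
          exact (dvd_pow_self q hm0).trans h1
        exact (Nat.Prime.coprime_iff_not_dvd hp.out).mp hKc.symm this
      rw [h2, pow_zero] at hm
      rw [Subgroup.card_eq_one.mp hm]
      exact bot_le
    obtain ⟨S, hS⟩ := hQp.exists_le_sylow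
    have hQc : ∀ a ∈ (Q : Subgroup K).map K.subtype, ∀ b ∈ (Q : Subgroup K).map K.subtype,
        a * b = b * a := fun a ha b hb => hab q hqp S a (hS ha) b (hS hb)
    rw [hZ₀def, hξ₀def] at hnc
    rw [hXdef] at hQ
    exact hall (nrm_ne_zero_of_qgroup ρ hfaith hA ξ k hk hξ q hqp _ hQp hQc hQ hnc)
  apply hξ₀K
  apply hCK
  rw [Subgroup.mem_centralizer_iff]
  intro g hg
  rw [← hCeq] at hg
  have := Subgroup.mem_centralizer_iff.mp hg.2 ξ₀ (by rw [hZ₀def]; exact Subgroup.mem_zpowers ξ₀)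
  exact this.symm

end Cfsg.Agent.Lib.Helper7.NormB
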