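import Mathlib
import Cfsg.Prelude.Def_Local
import Cfsg.Agent.Lib.Helper7.NormB4
import Cfsg.Agent.Lib.Lead.Core
import Cfsg.Agent.Lib.Helper6.PRes
import Cfsg.Agent.Lib.Helper6.PCore
import Cfsg.Agent.Lib.Helper7.PSolvable

set_option autoImplicit false

/-! Consequence of Theorem B (abelian case) for the exponent of `P / O_p(G)` when `O_p(G)` is
abelian and self-centralizing. -/

namespace Cfsg.Agent.Lib.Helper7.NormB

open Classical Cfsg
open scoped IsMulCommutative

universe u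

variable {G : Type u} [Group G]

/-- the hypotheses of S3783 with exponent `p^m` -/
structure AbHyp (p m : ℕ) (G : Type u) [Group G] : Prop where
  psolv : IsPSolvable p G
  ab : ∀ (q : ℕ) [Fact q.Prime], q ≠ p → ∀ Q : Sylow q G,
    ∀ a ∈ (Q : Subgroup G), ∀ b ∈ (Q : Subgroup G), a * b = b * a
  exp : ∀ P : Sylow p G, ∀ x ∈ (P : Subgroup G), x ^ p ^ m = 1

theorem AbHyp.quotient [Finite G] {p m : ℕ} [Fact p.Prime] (h : AbHyp p m G) (N : Subgroup G)
    [N.Normal] : AbHyp p m (G ⧸ N) := by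
  have hs := QuotientGroup.mk'_surjective N
  refine ⟨Cfsg.Agent.Lib.Helper7.isPSolvable_quotient h.psolv N, ?_, ?_⟩
  · intro q _ hqp Q a ha b hb
    obtain ⟨Q₀, rfl⟩ := Sylow.mapSurjective_surjective hs q Q
    have hcoe : ((Q₀.mapSurjective hs : Sylow q (G ⧸ N)) : Subgroup (G ⧸ N)) =
        (Q₀ : Subgroup G).map (QuotientGroup.mk' N) := Sylow.coe_mapSurjective hs Q₀
    rw [hcoe] at ha hb
    obtain ⟨a₀, ha₀, rfl⟩ := Subgroup.mem_map.mp ha
    obtain ⟨b₀, hb₀, rfl⟩ := Subgroup.mem_map.mp hb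
    rw [← map_mul, ← map_mul, h.ab q hqp Q₀ a₀ ha₀ b₀ hb₀]
  · intro P x hx
    obtain ⟨P₀, rfl⟩ := Sylow.mapSurjective_surjective hs p P
    have hcoe : ((P₀.mapSurjective hs : Sylow p (G ⧸ N)) : Subgroup (G ⧸ N)) =
        (P₀ : Subgroup G).map (QuotientGroup.mk' N) := Sylow.coe_mapSurjective hs P₀
    rw [hcoe] at hx
    obtain ⟨x₀, hx₀, rfl⟩ := Subgroup.mem_map.mp hx
    rw [← map_pow, h.exp P₀ x₀ hx₀, map_one]

/-- if `O_p(G)` is abelian and self-centralizing then `P / O_p(G)` has exponent dividing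
`p^n` when `P` has exponent dividing `p^(n+1)` -/
theorem pow_mem_pCore_of_selfcentralizing [Finite G] {p n : ℕ} [hp : Fact p.Prime]
    (h : AbHyp p (n + 1) G)
    (hVc : ∀ a ∈ pCore p G, ∀ b ∈ pCore p G, a * b = b * a)
    (hCV : ∀ z : G, (∀ v ∈ pCore p G, z * v = v * z) → z ∈ pCore p G)
    (P : Sylow p G) (x : G) (hx : x ∈ (P : Subgroup G)) : x ^ p ^ n ∈ pCore p G := by
  by_contra hxV
  obtain ⟨V, hVdef⟩ : ∃ V : Subgroup G, V = pCore p G := ⟨_, rfl⟩
  rw [← hVdef] at hVc hCV hxV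
  haveI hVn : V.Normal := by rw [hVdef]; exact Cfsg.Agent.Lib.Lead.pCore_normal p
  have hVpg : IsPGroup p V := by rw [hVdef]; exact Cfsg.Agent.Lib.Lead.pCore_isPGroup p
  haveI hVcomm : IsMulCommutative V := ⟨⟨fun a b => Subtype.ext (hVc a a.2 b b.2)⟩⟩
  have hVP : V ≤ (P : Subgroup G) := by
    rw [hVdef]; exact Cfsg.Agent.Lib.Helper6.pCore_le_sylow P
  letI : Fintype (G ⧸ V) := Fintype.ofFinite _
  have hOp : pCore p (G ⧸ V) = ⊥ := by
    rw [Cfsg.Agent.Lib.Helper6.pCore_quotient_of_isPGroup V hVpg, ← hVdef]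
    exact QuotientGroup.map_mk'_self V
  have hq := h.quotient V
  -- the order of the image of x
  have hord : orderOf (QuotientGroup.mk' V x) = p ^ (n + 1) := by
    apply orderOf_eq_prime_pow
    · rw [← map_pow]
      intro h1
      exact hxV ((QuotientGroup.eq_one_iff _).mp h1)
    · rw [← map_pow, h.exp P x hx, map_one]
  have hfaith : ∀ γ : G ⧸ V, (∀ a : Additive V, quotAct V γ a = a) → γ = 1 := by
    intro γ hγ
    obtain ⟨g, rfl⟩ := QuotientGroup.mk'_surjective V γ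
    apply (QuotientGroup.eq_one_iff g).mpr
    apply hCV
    intro v hv
    have h1 := hγ (Additive.ofMul (⟨v, hv⟩ : V))
    have h2 := congrArg (fun a => ((Additive.toMul a : V) : G)) h1
    simp only [quotAct_mk_apply] at h2
    have h3 : g * v * g⁻¹ = v := h2
    calc g * v = (g * v * g⁻¹) * g := by group
      _ = v * g := by rw [h3]
  have hA : ∀ a : Additive V, ∃ m : ℕ, p ^ m • a = 0 := by
    intro a
    obtain ⟨m, hm⟩ := hVpg (Additive.toMul a)
    refine ⟨m, ?_⟩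
    apply Additive.toMul.injective
    rw [toMul_nsmul, hm]
    rfl
  obtain ⟨a, ha⟩ := thmB_abelian (quotAct V) hq.psolv hOp hq.ab hfaith hA
    (QuotientGroup.mk' V x) (n + 1) (by omega) hord
  have hne := mul_pow_ne_of_nrm_ne_zero V x a ha
  rw [hord, h.exp P x hx] at hne
  apply hne
  apply h.exp P
  exact (P : Subgroup G).mul_mem (hVP (Additive.toMul a).2) hx

end Cfsg.Agent.Lib.Helper7.NormB
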