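import Mathlib

set_option autoImplicit false

namespace Cfsg.Agent.Lib.Helper7.OrdTwoAdic

open Finset

theorem odd_not_two_dvd {q : ℕ} (hq : Odd q) : ¬ 2 ∣ q := by
  rw [← even_iff_two_dvd, Nat.not_even_iff_odd]; exact hq

theorem one_lt_pow_of_odd {q : ℕ} (hq1 : 1 < q) {n : ℕ} (hn : n ≠ 0) : 1 < q ^ n :=
  Nat.one_lt_pow hn hq1

/-- `v₂(q² - 1) = v₂(q + 1) + v₂(q - 1)` -/
theorem val2_sq_sub_one {q : ℕ} (hq : Odd q) (hq1 : 1 < q) :
    padicValNat 2 (q ^ 2 - 1) = padicValNat 2 (q + 1) + padicValNat 2 (q - 1) := by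
  have h := padicValNat.pow_two_sub_one (x := q) (n := 2) hq1 (odd_not_two_dvd hq) (by norm_num)
    (by norm_num)
  have h2 : padicValNat 2 2 = 1 := by simp
  omega

/-- lifting the exponent: `v₂(q^(2i) - 1) = v₂(q² - 1) + v₂(i)` -/
theorem val2_pow_even_sub_one {q : ℕ} (hq : Odd q) (hq1 : 1 < q) {i : ℕ} (hi : i ≠ 0) :
    padicValNat 2 (q ^ (2 * i) - 1) = padicValNat 2 (q ^ 2 - 1) + padicValNat 2 i := by
  have h := padicValNat.pow_two_sub_one (x := q) (n := 2 * i) hq1 (odd_not_two_dvd hq)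
    (by omega) (even_two_mul i)
  have h2 : padicValNat 2 (2 * i) = 1 + padicValNat 2 i := by
    rw [padicValNat.mul (by norm_num) hi]; simp
  rw [val2_sq_sub_one hq hq1]
  omega

theorem pow_even_sub_one_ne_zero {q : ℕ} (hq1 : 1 < q) (i : ℕ) : q ^ (2 * (i + 1)) - 1 ≠ 0 := by
  have := one_lt_pow_of_odd hq1 (n := 2 * (i + 1)) (by omega)
  omega

/-- `v₂(∏_{i<m} (q^(2(i+1)) - 1)) = m v₂(q² - 1) + v₂(m!)` -/
theorem val2_prod {q : ℕ} (hq : Odd q) (hq1 : 1 < q) (m : ℕ) :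
    padicValNat 2 (∏ i ∈ range m, (q ^ (2 * (i + 1)) - 1)) =
      m * padicValNat 2 (q ^ 2 - 1) + padicValNat 2 m.factorial := by
  induction m with
  | zero => simp
  | succ m ih =>
    rw [prod_range_succ, padicValNat.mul ?_ (pow_even_sub_one_ne_zero hq1 m), ih,
      val2_pow_even_sub_one hq hq1 (Nat.succ_ne_zero m), Nat.factorial_succ,
      padicValNat.mul (Nat.succ_ne_zero m) (Nat.factorial_ne_zero m)]
    · ring
    · rw [prod_ne_zero_iff]
      intro i _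
      exact pow_even_sub_one_ne_zero hq1 i

theorem val2_odd_pow {q : ℕ} (hq : Odd q) (k : ℕ) : padicValNat 2 (q ^ k) = 0 := by
  rw [padicValNat.eq_zero_iff]
  right; right
  exact odd_not_two_dvd (hq.pow)

theorem prod_ne_zero' {q : ℕ} (hq1 : 1 < q) (m : ℕ) :
    ∏ i ∈ range m, (q ^ (2 * (i + 1)) - 1) ≠ 0 := by
  rw [prod_ne_zero_iff]
  intro i _
  exact pow_even_sub_one_ne_zero hq1 i

/-- the 2-part of `|GO_{2m+1}(q)|` -/
theorem val2_card_odd {q : ℕ} (hq : Odd q) (hq1 : 1 < q) (m : ℕ) :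
    padicValNat 2 (2 * q ^ (m ^ 2) * ∏ i ∈ range m, (q ^ (2 * (i + 1)) - 1)) =
      m * padicValNat 2 (q ^ 2 - 1) + padicValNat 2 m.factorial + 1 := by
  have hq0 : q ≠ 0 := by omega
  rw [padicValNat.mul (by positivity) (prod_ne_zero' hq1 m),
    padicValNat.mul (by norm_num) (by positivity), val2_odd_pow hq, val2_prod hq hq1]
  simp
  ring

/-- `v₂(q^m - 1)` for even `m` -/
theorem val2_pow_sub_one_even {q : ℕ} (hq : Odd q) (hq1 : 1 < q) {m : ℕ} (hm : m ≠ 0)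
    (hme : Even m) :
    padicValNat 2 (q ^ m - 1) + 1 = padicValNat 2 (q ^ 2 - 1) + padicValNat 2 m := by
  rw [val2_sq_sub_one hq hq1]
  exact padicValNat.pow_two_sub_one hq1 (odd_not_two_dvd hq) hm hme

/-- `v₂(q^m - 1) = v₂(q - 1)` for odd `m` -/
theorem val2_pow_sub_one_odd {q : ℕ} (hq : Odd q) (hq1 : 1 < q) {m : ℕ} (hmo : Odd m) :
    padicValNat 2 (q ^ m - 1) = padicValNat 2 (q - 1) := by
  obtain ⟨k, rfl⟩ := hmo
  -- q^(2k+1) - 1 = (q - 1) * (∑ q^j), the sum has 2k+1 odd terms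
  have h := Nat.geomSum_eq (m := q) (by omega) (2 * k + 1)
  have hsum_odd : Odd (∑ j ∈ range (2 * k + 1), q ^ j) := by
    rw [Finset.odd_sum_iff_odd_card_odd]
    have : (range (2 * k + 1)).filter (fun j => Odd (q ^ j)) = range (2 * k + 1) := by
      apply filter_true_of_mem
      intro j _
      exact hq.pow
    rw [this, card_range]
    exact ⟨k, rfl⟩
  have hq1' : q - 1 ≠ 0 := by omega
  have hmul : q ^ (2 * k + 1) - 1 = (q - 1) * ∑ j ∈ range (2 * k + 1), q ^ j := by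
    rw [h]
    have hd : (q - 1) ∣ q ^ (2 * k + 1) - 1 := by
      simpa using Nat.sub_dvd_pow_sub_pow q 1 (2 * k + 1)
    rw [Nat.mul_div_cancel' hd]
  rw [hmul, padicValNat.mul hq1' (by
    intro h0; rw [h0] at hsum_odd; simp at hsum_odd)]
  have : padicValNat 2 (∑ j ∈ range (2 * k + 1), q ^ j) = 0 := by
    rw [padicValNat.eq_zero_iff]
    right; right
    exact odd_not_two_dvd hsum_odd
  omega

/-- `q^m + 1 ≡ 2 (mod 4)` if `m` is even -/
theorem pow_add_one_mod_four_even {q : ℕ} (hq : Odd q) {m : ℕ} (hme : Even m) :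
    (q ^ m + 1) % 4 = 2 := by
  obtain ⟨k, rfl⟩ := hme
  rw [← two_mul, pow_mul]
  have h1 : q ^ 2 % 4 = 1 := by
    obtain ⟨j, rfl⟩ := hq
    ring_nf
    omega
  have h2 : (q ^ 2) ^ k % 4 = 1 := by
    rw [Nat.pow_mod, h1]; simp
  omega

theorem val2_of_mod_four {n : ℕ} (h : n % 4 = 2) : padicValNat 2 n = 1 := by
  have h2 : n = 2 * (n / 2) := by omega
  have hodd : ¬ 2 ∣ n / 2 := by omega
  rw [h2, padicValNat.mul (by norm_num) (by omega)]
  have : padicValNat 2 (n / 2) = 0 := by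
    rw [padicValNat.eq_zero_iff]; right; right; exact hodd
  simp [this]

/-- `q^m ≡ q (mod 4)` for odd `m` -/
theorem pow_mod_four_odd {q : ℕ} (hq : Odd q) {m : ℕ} (hmo : Odd m) : q ^ m % 4 = q % 4 := by
  obtain ⟨k, rfl⟩ := hmo
  have h1 : q ^ 2 % 4 = 1 := by
    obtain ⟨j, rfl⟩ := hq
    ring_nf
    omega
  rw [pow_succ, pow_mul, Nat.mul_mod, Nat.pow_mod, h1]
  simp


theorem val2_factorial_succ (m : ℕ) :
    padicValNat 2 (m + 1).factorial = padicValNat 2 (m + 1) + padicValNat 2 m.factorial := by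
  rw [Nat.factorial_succ, padicValNat.mul (Nat.succ_ne_zero m) (Nat.factorial_ne_zero m)]

theorem val2_of_odd {n : ℕ} (hn : Odd n) : padicValNat 2 n = 0 := by
  rw [padicValNat.eq_zero_iff]; right; right; exact odd_not_two_dvd hn

/-- if `q ≡ 1 (mod 4)` then `v₂(q² - 1) = v₂(q - 1) + 1` -/
theorem val2_sq_sub_one_of_one {q : ℕ} (hq1 : 1 < q) (h4 : q % 4 = 1) :
    padicValNat 2 (q ^ 2 - 1) = padicValNat 2 (q - 1) + 1 := by
  have hq : Odd q := by rw [Nat.odd_iff]; omega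
  rw [val2_sq_sub_one hq hq1, val2_of_mod_four (n := q + 1) (by omega)]
  ring

/-- if `q ≡ 3 (mod 4)` then `v₂(q² - 1) = v₂(q + 1) + 1` -/
theorem val2_sq_sub_one_of_three {q : ℕ} (hq1 : 1 < q) (h4 : q % 4 = 3) :
    padicValNat 2 (q ^ 2 - 1) = padicValNat 2 (q + 1) + 1 := by
  have hq : Odd q := by rw [Nat.odd_iff]; omega
  rw [val2_sq_sub_one hq hq1, val2_of_mod_four (n := q - 1) (by omega)]

/-- `v₂(q^m + 1) = v₂(q + 1)` for odd `m` and `q ≡ 3 (mod 4)` -/
theorem val2_pow_add_one_odd {q : ℕ} (hq1 : 1 < q) (h4 : q % 4 = 3) {m : ℕ} (hmo : Odd m) :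
    padicValNat 2 (q ^ m + 1) = padicValNat 2 (q + 1) := by
  have hq : Odd q := by rw [Nat.odd_iff]; omega
  have hm0 : m ≠ 0 := by rintro rfl; simp at hmo
  have h1 : q ^ (2 * m) - 1 = (q ^ m + 1) * (q ^ m - 1) := by
    rw [mul_comm 2 m, pow_mul]
    have := Nat.pow_two_sub_pow_two (q ^ m) 1
    simpa using this
  have hpm : q ^ m % 4 = 3 := by rw [pow_mod_four_odd hq hmo, h4]
  have h2 : padicValNat 2 (q ^ m - 1) = 1 := val2_of_mod_four (by omega)
  have h3 := val2_pow_even_sub_one hq hq1 hm0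
  rw [h1, padicValNat.mul (by positivity) (by omega), h2, val2_of_odd hmo,
    val2_sq_sub_one_of_three hq1 h4] at h3
  omega

/-- the order of `GO⁺_{2m}(q)` -/
def cardPlus (q m : ℕ) : ℕ :=
  2 * q ^ (m * (m - 1)) * (q ^ m - 1) * ∏ i ∈ range (m - 1), (q ^ (2 * (i + 1)) - 1)

/-- the order of `GO⁻_{2m}(q)` -/
def cardMinus (q m : ℕ) : ℕ :=
  2 * q ^ (m * (m - 1)) * (q ^ m + 1) * ∏ i ∈ range (m - 1), (q ^ (2 * (i + 1)) - 1)

theorem val2_cardPlus_eq {q : ℕ} (hq : Odd q) (hq1 : 1 < q) {m : ℕ} (hm : 1 ≤ m) :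
    padicValNat 2 (cardPlus q m) = 1 + padicValNat 2 (q ^ m - 1) +
      ((m - 1) * padicValNat 2 (q ^ 2 - 1) + padicValNat 2 (m - 1).factorial) := by
  have hq0 : q ≠ 0 := by omega
  have hqm : q ^ m - 1 ≠ 0 := by
    have := one_lt_pow_of_odd hq1 (n := m) (by omega); omega
  unfold cardPlus
  rw [padicValNat.mul (by positivity) (prod_ne_zero' hq1 _),
    padicValNat.mul (by positivity) hqm,
    padicValNat.mul (by norm_num) (by positivity), val2_odd_pow hq, val2_prod hq hq1]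
  simp

theorem val2_cardMinus_eq {q : ℕ} (hq : Odd q) (hq1 : 1 < q) {m : ℕ} (_hm : 1 ≤ m) :
    padicValNat 2 (cardMinus q m) = 1 + padicValNat 2 (q ^ m + 1) +
      ((m - 1) * padicValNat 2 (q ^ 2 - 1) + padicValNat 2 (m - 1).factorial) := by
  have hq0 : q ≠ 0 := by omega
  unfold cardMinus
  rw [padicValNat.mul (by positivity) (prod_ne_zero' hq1 _),
    padicValNat.mul (by positivity) (by positivity),
    padicValNat.mul (by norm_num) (by positivity), val2_odd_pow hq, val2_prod hq hq1]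
  simp

/-- the 2-part of `|GO⁺_{2m}(q)|`, "full" case: `m` planes `⟨1,1⟩` -/
theorem val2_cardPlus_full {q : ℕ} (hq : Odd q) (hq1 : 1 < q) {m : ℕ} (hm : 1 ≤ m)
    (h : Even m ∨ q % 4 = 1) :
    padicValNat 2 (cardPlus q m) =
      m * padicValNat 2 (q ^ 2 - 1) + padicValNat 2 m.factorial := by
  rw [val2_cardPlus_eq hq hq1 hm]
  obtain ⟨k, rfl⟩ : ∃ k, m = k + 1 := ⟨m - 1, by omega⟩
  rw [val2_factorial_succ]
  simp only [Nat.add_sub_cancel]
  by_cases hme : Even (k + 1)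
  · have h1 := val2_pow_sub_one_even hq hq1 (m := k + 1) (by omega) hme
    rw [add_mul, one_mul]
    omega
  · rw [Nat.not_even_iff_odd] at hme
    have h4 : q % 4 = 1 := by
      rcases h with h | h
      · exact absurd h (Nat.not_even_iff_odd.mpr hme)
      · exact h
    rw [val2_pow_sub_one_odd hq hq1 hme, val2_of_odd hme, val2_sq_sub_one_of_one hq1 h4]
    ring

/-- the 2-part of `|GO⁺_{2m}(q)|`, "defect" case -/
theorem val2_cardPlus_defect {q : ℕ} (hq1 : 1 < q) {m : ℕ}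
    (hmo : Odd m) (h4 : q % 4 = 3) :
    padicValNat 2 (cardPlus q m) =
      (m - 1) * padicValNat 2 (q ^ 2 - 1) + padicValNat 2 (m - 1).factorial + 2 := by
  have hq : Odd q := by rw [Nat.odd_iff]; omega
  have hm : 1 ≤ m := hmo.pos
  rw [val2_cardPlus_eq hq hq1 hm]
  have hpm : q ^ m % 4 = 3 := by rw [pow_mod_four_odd hq hmo, h4]
  rw [val2_of_mod_four (n := q ^ m - 1) (by omega)]
  ring

/-- the 2-part of `|GO⁻_{2m}(q)|`, "full" case: `m` planes `⟨1,1⟩` -/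
theorem val2_cardMinus_full {q : ℕ} (hq1 : 1 < q) {m : ℕ}
    (hmo : Odd m) (h4 : q % 4 = 3) :
    padicValNat 2 (cardMinus q m) =
      m * padicValNat 2 (q ^ 2 - 1) + padicValNat 2 m.factorial := by
  have hq : Odd q := by rw [Nat.odd_iff]; omega
  have hm : 1 ≤ m := hmo.pos
  rw [val2_cardMinus_eq hq hq1 hm, val2_pow_add_one_odd hq1 h4 hmo]
  obtain ⟨k, rfl⟩ : ∃ k, m = k + 1 := ⟨m - 1, by omega⟩
  rw [val2_factorial_succ, val2_of_odd hmo, val2_sq_sub_one_of_three hq1 h4]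
  simp only [Nat.add_sub_cancel]
  ring

/-- the 2-part of `|GO⁻_{2m}(q)|`, "defect" case -/
theorem val2_cardMinus_defect {q : ℕ} (hq : Odd q) (hq1 : 1 < q) {m : ℕ} (hm : 1 ≤ m)
    (h : Even m ∨ q % 4 = 1) :
    padicValNat 2 (cardMinus q m) =
      (m - 1) * padicValNat 2 (q ^ 2 - 1) + padicValNat 2 (m - 1).factorial + 2 := by
  rw [val2_cardMinus_eq hq hq1 hm]
  have h2 : (q ^ m + 1) % 4 = 2 := by
    by_cases hme : Even m
    · exact pow_add_one_mod_four_even hq hme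
    · rw [Nat.not_even_iff_odd] at hme
      have h4 : q % 4 = 1 := by
        rcases h with h | h
        · exact absurd h (Nat.not_even_iff_odd.mpr hme)
        · exact h
      have := pow_mod_four_odd hq hme
      omega
  rw [val2_of_mod_four h2]
  ring

end Cfsg.Agent.Lib.Helper7.OrdTwoAdic
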