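import Mathlib
import Cfsg.Agent.Lib.Helper2.GR2M3Defs
import Cfsg.Agent.Lib.Helper4.SecMod
import Cfsg.Agent.Lib.Helper4.HH12
import Cfsg.Agent.Lib.Lead.CoprimeAction

set_option autoImplicit false
set_option linter.unusedVariables false
set_option linter.unusedSectionVars false

/-! S3795 (Gross, `p = 2`), package M3-S3: the upper pair of the three-layer argument.  In a minimal
configuration `M3Min`, the section `P / Z` is a module for `S⟨x⟩` to which (UP) applies: `n ≥ 1` and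
`ι = x ^ (2 ^ (n - 1))` inverts a non-trivial element of `P / Z`. -/

namespace Cfsg.Agent.Lib.Helper7.GR2M3S3

open Cfsg.Agent.Lib.Helper2.GR2M Cfsg.Agent.Lib.Helper4.SecMod Cfsg.Agent.Lib.Helper4.HH

open scoped commutatorElement

universe u

section sec

variable {T : Type u} [Group T] [Finite T] {X U L : Subgroup T}

/-- an element of `L` fixing a class of `X / U` fixes it with all its powers. -/
theorem zpowers_fix (h : Sec X U L) {g : T} (hg : g ∈ L) {y : T} (hy : y ∈ X)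
    (hfix : (⟨g, hg⟩ : L) • h.cls y hy = h.cls y hy) :
    ∀ a ∈ Subgroup.zpowers g, a * y * a⁻¹ * y⁻¹ ∈ U := by
  intro a ha
  obtain ⟨i, rfl⟩ := Subgroup.mem_zpowers_iff.1 ha
  have haL : g ^ i ∈ L := L.zpow_mem hg i
  rw [← h.smul_cls_eq_iff haL hy]
  have hst : (⟨g, hg⟩ : L) ∈ MulAction.stabilizer L (h.cls y hy) :=
    MulAction.mem_stabilizer_iff.2 hfix
  have h2 : (⟨g, hg⟩ : L) ^ i ∈ MulAction.stabilizer L (h.cls y hy) :=
    Subgroup.zpow_mem _ hst i
  have h3 : (⟨g ^ i, haL⟩ : L) = (⟨g, hg⟩ : L) ^ i := by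
    apply Subtype.ext
    rw [Subgroup.coe_zpow]
  rw [h3]
  exact MulAction.mem_stabilizer_iff.1 h2

/-- coprime action on a section: a class fixed by `g` contains an element commuting with `g`. -/
theorem exists_commute_of_fix (h : Sec X U L) {g : T} (hg : g ∈ L)
    (hcop : (orderOf g).Coprime (Nat.card X)) {y : T} (hy : y ∈ X)
    (hfix : (⟨g, hg⟩ : L) • h.cls y hy = h.cls y hy) :
    ∃ d ∈ X, g * d = d * g ∧ y⁻¹ * d ∈ U := by
  have hzL : Subgroup.zpowers g ≤ L := (Subgroup.zpowers_le).2 hg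
  have h1 : Subgroup.zpowers g ≤ Subgroup.normalizer (X : Set T) :=
    le_normalizer_of_conj_mem _ X (fun c hc x hx => h.normX c (hzL hc) x hx)
  have h2 : Subgroup.zpowers g ≤ Subgroup.normalizer (U : Set T) :=
    le_normalizer_of_conj_mem _ U (fun c hc x hx => h.normU c (hzL hc) x hx)
  have h3 : X ≤ Subgroup.normalizer (U : Set T) :=
    le_normalizer_of_conj_mem X U (fun c hc x hx => h.conj_mem hc hx)
  have hcop' : (Nat.card (Subgroup.zpowers g)).Coprime (Nat.card X) := by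
    rw [Nat.card_zpowers]; exact hcop
  obtain ⟨c, hc1, hc2⟩ := Cfsg.Agent.Lib.Lead.coprime_fixed_coset (Subgroup.zpowers g) X h1 hcop'
    (Or.inl inferInstance) U h.le h3 h2 y hy (zpowers_fix h hg hy hfix)
  refine ⟨c, hc1.1, ?_, hc2⟩
  exact (Subgroup.mem_centralizer_iff.1 hc1.2) g (Subgroup.mem_zpowers g)

end sec

section

variable {A : Type u} [Group A] [Finite A] {M : Type u} [AddCommGroup M] [Finite M]
  [DistribMulAction A M] (ℓ q s n : ℕ) (x : A) (P S : Subgroup A) (Z : Subgroup A)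

theorem m3_up (hUP : UPStatement.{u}) (h : M3Min M ℓ q s n x P S Z) :
    1 ≤ n ∧ ∃ u ∈ P, u ∉ Z ∧ x ^ (2 ^ (n - 1)) * u * (x ^ (2 ^ (n - 1)))⁻¹ * u ∈ Z := by
  have : Fact q.Prime := ⟨h.hq⟩
  have : Fact s.Prime := ⟨h.hs⟩
  have h2pos : 0 < 2 ^ (n + 1) := pow_pos (by norm_num) _
  -- the section `P / Z` under `L = N(P) ∩ N(Z)`
  have hsec : Sec P Z (Subgroup.normalizer (P : Set A) ⊓ Subgroup.normalizer (Z : Set A)) :=
    Sec.ofNormalizer P Z h.hZP (fun u hu v hv => by
      have := h.hder u hu v hv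
      rwa [commutatorElement_def] at this)
  set L : Subgroup A := Subgroup.normalizer (P : Set A) ⊓ Subgroup.normalizer (Z : Set A) with hL
  have hxL : x ∈ L := by
    refine Subgroup.mem_inf.2 ⟨?_, ?_⟩
    · rw [Subgroup.mem_normalizer_iff]
      intro u
      refine ⟨h.hxP u, fun hu => ?_⟩
      have := conj_inv_mem P x (2 ^ (n + 1)) h2pos h.hxn h.hxP _ hu
      have e : x⁻¹ * (x * u * x⁻¹) * x = u := by group
      rwa [e] at this
    · rw [Subgroup.mem_normalizer_iff]
      intro u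
      refine ⟨h.hZx u, fun hu => ?_⟩
      have := conj_inv_mem Z x (2 ^ (n + 1)) h2pos h.hxn h.hZx _ hu
      have e : x⁻¹ * (x * u * x⁻¹) * x = u := by group
      rwa [e] at this
  have hSL : S ≤ L := by
    refine le_inf (le_normalizer_of_conj_mem S P h.hSP) (le_normalizer_of_conj_mem S Z ?_)
    intro a ha z hz
    rw [h.hZS z hz a ha, mul_inv_cancel_right]
    exact hz
  -- cardinalities
  obtain ⟨eP, heP⟩ := IsPGroup.iff_card.1 h.hP
  obtain ⟨eS, heS⟩ := IsPGroup.iff_card.1 h.hS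
  have hcopx : (orderOf x).Coprime (Nat.card P) := by
    obtain ⟨j, _, hj⟩ := (Nat.dvd_prime_pow Nat.prime_two).1 (orderOf_dvd_of_pow_eq_one h.hxn)
    rw [hj, heP]
    apply Nat.Coprime.pow
    exact (Nat.coprime_primes Nat.prime_two h.hq).2 (Ne.symm h.hq2)
  have hcopS : ∀ c ∈ S, (orderOf c).Coprime (Nat.card P) := by
    intro c hc
    have h1 : orderOf c ∣ s ^ eS := by
      rw [← heS]
      have := orderOf_dvd_natCard (⟨c, hc⟩ : S)
      rwa [Subgroup.orderOf_mk] at this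
    rw [heP]
    exact Nat.Coprime.coprime_dvd_left h1
      (Nat.Coprime.pow _ _ ((Nat.coprime_primes h.hs h.hq).2 (Ne.symm h.hqs)))
  -- `x` as an element of `L`
  set x' : L := ⟨x, hxL⟩ with hx'
  have hx'pow : ∀ k : ℕ, ((x' ^ k : L) : A) = x ^ k := fun k => by
    rw [Subgroup.coe_pow]
  have hx'n : x' ^ (2 ^ (n + 1)) = 1 := by
    apply Subtype.ext
    rw [hx'pow, h.hxn]
    rfl
  -- `τ`-invariance of `S`
  have hpowS : ∀ (k : ℕ), ∀ a ∈ S, x ^ k * a * (x ^ k)⁻¹ ∈ S := by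
    intro k
    induction k with
    | zero =>
      intro a ha
      rw [pow_zero, one_mul, inv_one, mul_one]
      exact ha
    | succ k ih =>
      intro a ha
      have h1 := h.hxS _ (ih a ha)
      have e : x * (x ^ k * a * (x ^ k)⁻¹) * x⁻¹ = x ^ (k + 1) * a * (x ^ (k + 1))⁻¹ := by
        rw [pow_succ']
        group
      rwa [e] at h1
  have hcS : ∀ a ∈ S, cτ x n a ∈ S := by
    intro a ha
    have h1 := hpowS (2 ^ n) a ha
    have e : cτ x n a = a⁻¹ * (x ^ (2 ^ n) * a * (x ^ (2 ^ n))⁻¹) := by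
      unfold cτ
      group
    rw [e]
    exact S.mul_mem (S.inv_mem ha) h1
  -- apply (UP)
  have hup := hUP (A := ↥L) (M := hsec.M) q s n h.hq h.hs h.hq2 h.hs2 (Ne.symm h.hqs)
    (fun m => hsec.nsmul_eq_zero h.hpow m) x' ⟨n + 1, hx'n⟩
    (fun m => by rw [hx'n, one_smul])
    (by
      intro m hm
      obtain ⟨u, hu, rfl⟩ := hsec.cls_surj m
      obtain ⟨d, hdP, hdx, hdu⟩ := exists_commute_of_fix hsec hxL hcopx hu hm
      have hd1 : d = 1 := h.hfP d hdP hdx
      rw [hd1, mul_one] at hdu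
      rw [hsec.cls_eq_zero]
      have := Z.inv_mem hdu
      rwa [inv_inv] at this)
    (S.subgroupOf L) (h.hS.comap_subtype)
    (by
      intro a ha
      rw [Subgroup.mem_subgroupOf] at ha ⊢
      have := h.hxS _ ha
      simpa using this)
    (by
      intro a ha hc
      rw [Subgroup.mem_subgroupOf] at ha
      have h1 : x * (a : A) = (a : A) * x := by
        have := congrArg Subtype.val hc
        simpa using this
      have h2 := h.hfS _ ha h1
      apply Subtype.ext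
      rw [h2]
      rfl)
    (by
      by_contra hcon0
      have hcon : ∀ b ∈ S.subgroupOf L, ∀ m : hsec.M,
          x' ^ (2 ^ n) • b • m = b • x' ^ (2 ^ n) • m := by
        intro b hb m
        by_contra hne
        exact hcon0 ⟨b, hb, m, hne⟩
      obtain ⟨a, ha, u, hu, hne⟩ := h.hnc
      apply hne
      -- `c = cτ a` is trivial on `P / Z`
      have hcL : cτ x n a ∈ L := hSL (hcS a ha)
      have haL : a ∈ L := hSL ha
      have hcfix : ∀ m : hsec.M, (⟨cτ x n a, hcL⟩ : L) • m = m := by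
        intro m
        have e : (⟨cτ x n a, hcL⟩ : L) =
            (⟨a, haL⟩ : L)⁻¹ * x' ^ (2 ^ n) * ⟨a, haL⟩ * (x' ^ (2 ^ n))⁻¹ := by
          apply Subtype.ext
          simp only [Subgroup.coe_mul, Subgroup.coe_inv, hx'pow]
          rfl
        rw [e, mul_smul, mul_smul, mul_smul,
          hcon ⟨a, haL⟩ (Subgroup.mem_subgroupOf.2 ha), inv_smul_smul, smul_inv_smul]
      obtain ⟨d, hdP, hdc, hdu⟩ :=
        exists_commute_of_fix hsec hcL (hcopS _ (hcS a ha)) hu (hcfix _)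
      -- `c` centralises `Z`
      have hcZ : ∀ z ∈ Z, cτ x n a * z = z * cτ x n a := by
        intro z hz
        have hc1 : Commute a z := h.hZS z hz a ha
        have hc2 : Commute (x ^ (2 ^ n)) z := h.hZτ z hz
        exact (((hc1.inv_left.mul_left hc2).mul_left hc1).mul_left hc2.inv_left).eq
      -- `u = d * z`
      obtain ⟨z, hzZ, hud⟩ : ∃ z ∈ Z, u = d * z := by
        refine ⟨d⁻¹ * u, ?_, by rw [mul_inv_cancel_left]⟩
        have := Z.inv_mem hdu
        rwa [mul_inv_rev, inv_inv] at this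
      rw [hud, ← mul_assoc, hdc, mul_assoc, hcZ z hzZ, mul_assoc])
  obtain ⟨hn, m, hm0, hm⟩ := hup
  refine ⟨hn, ?_⟩
  obtain ⟨u, hu, rfl⟩ := hsec.cls_surj m
  refine ⟨u, hu, fun huZ => hm0 ((hsec.cls_eq_zero hu).2 huZ), ?_⟩
  have hιL : x ^ (2 ^ (n - 1)) ∈ L := L.pow_mem hxL _
  have h1 : (x' ^ (2 ^ (n - 1)) : L) = ⟨x ^ (2 ^ (n - 1)), hιL⟩ := by
    apply Subtype.ext
    rw [hx'pow]
  rw [h1, hsec.smul_cls' hιL hu, eq_neg_iff_add_eq_zero, ← hsec.cls_mul, hsec.cls_eq_zero] at hm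
  exact hm

end

end Cfsg.Agent.Lib.Helper7.GR2M3S3
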