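import Mathlib
import Cfsg.Agent.Lib.Helper4.HH7

set_option autoImplicit false
set_option linter.unusedSectionVars false
set_option linter.unusedVariables false

/-! S3793 swarm, package M-C: the structure of a minimal invariant `q`-subgroup `Q` that is not
centralised by `τ = x ^ (p ^ n)`, where `x ^ (p ^ (n + 1)) = 1` (adaptation of `HH7`). -/

namespace Cfsg.Agent.Lib.Helper7.PPMC

open Cfsg.Agent.Lib.Helper4.FM Cfsg.Agent.Lib.Helper4.HH Cfsg.Agent.Lib.Lead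

open scoped commutatorElement

universe u

section gen

variable {G : Type*} [Group G]

/-- an element normalising `A` and `B` normalises `⁅A, B⁆`. -/
theorem conj_mem_commutator (A B : Subgroup G) (g : G) (hA : ∀ a ∈ A, g * a * g⁻¹ ∈ A)
    (hB : ∀ b ∈ B, g * b * g⁻¹ ∈ B) : ∀ z ∈ ⁅A, B⁆, g * z * g⁻¹ ∈ ⁅A, B⁆ := by
  intro z hz
  rw [Subgroup.commutator_def] at hz
  induction hz using Subgroup.closure_induction with
  | mem z hz =>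
    obtain ⟨a, ha, b, hb, rfl⟩ := hz
    have e : g * ⁅a, b⁆ * g⁻¹ = ⁅g * a * g⁻¹, g * b * g⁻¹⁆ := by
      rw [commutatorElement_def, commutatorElement_def]; group
    rw [e]
    exact Subgroup.commutator_mem_commutator (hA a ha) (hB b hb)
  | one => simp
  | mul x y _ _ hx hy =>
    have e : g * (x * y) * g⁻¹ = (g * x * g⁻¹) * (g * y * g⁻¹) := by group
    rw [e]; exact Subgroup.mul_mem _ hx hy
  | inv x _ hx =>
    have e : g * x⁻¹ * g⁻¹ = (g * x * g⁻¹)⁻¹ := by group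
    rw [e]; exact Subgroup.inv_mem _ hx

/-- an element commuting with `t` normalises `zpowers t`. -/
theorem conj_mem_zpowers_of_commute (g t : G) (h : g * t = t * g) :
    ∀ b ∈ Subgroup.zpowers t, g * b * g⁻¹ ∈ Subgroup.zpowers t := by
  intro b hb
  obtain ⟨i, rfl⟩ := Subgroup.mem_zpowers_iff.1 hb
  have hc : Commute g t := h
  have : g * t ^ i * g⁻¹ = t ^ i := by
    rw [(hc.zpow_right i).eq, mul_inv_cancel_right]
  rw [this]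
  exact Subgroup.zpow_mem_zpowers t i

end gen

section MC

variable {G : Type u} [Group G] [Finite G] (Q : Subgroup G) [hQn : Q.Normal] (x : G) (p q n : ℕ)

theorem tau_ne_one (hnc : ∃ u ∈ Q, x ^ (p ^ n) * u ≠ u * x ^ (p ^ n)) : x ^ (p ^ n) ≠ 1 := by
  intro h
  obtain ⟨u, _, hu⟩ := hnc
  apply hu
  rw [h, one_mul, mul_one]

theorem pp_orderOf (hp : p.Prime) (hx : x ^ (p ^ (n + 1)) = 1)
    (hnc : ∃ u ∈ Q, x ^ (p ^ n) * u ≠ u * x ^ (p ^ n)) : orderOf x = p ^ (n + 1) := by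
  obtain ⟨k, hk, hkx⟩ := (Nat.dvd_prime_pow hp).1 (orderOf_dvd_of_pow_eq_one hx)
  rcases Nat.lt_or_ge n k with h | h
  · have : k = n + 1 := by omega
    rw [hkx, this]
  · exfalso
    apply tau_ne_one Q x p n hnc
    apply orderOf_dvd_iff_pow_eq_one.1
    rw [hkx]
    exact pow_dvd_pow p h

theorem tau_pow_p (hx : x ^ (p ^ (n + 1)) = 1) : (x ^ (p ^ n)) ^ p = 1 := by
  rw [← pow_mul, ← pow_succ]; exact hx

theorem pp_cyc (hp : p.Prime) (hx : x ^ (p ^ (n + 1)) = 1)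
    (hnc : ∃ u ∈ Q, x ^ (p ^ n) * u ≠ u * x ^ (p ^ n)) :
    ∀ e ∈ Subgroup.zpowers x, e ≠ 1 → x ^ (p ^ n) ∈ Subgroup.zpowers e := by
  intro e he he1
  have hfin : IsOfFinOrder x := isOfFinOrder_of_finite x
  rw [← hfin.mem_powers_iff_mem_zpowers, Submonoid.mem_powers_iff] at he
  obtain ⟨k, rfl⟩ := he
  have hk0 : k ≠ 0 := by
    rintro rfl
    exact he1 (pow_zero x)
  obtain ⟨a, m, hm, rfl⟩ := Nat.exists_eq_pow_mul_and_not_dvd hk0 p hp.ne_one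
  have han : a ≤ n := by
    by_contra h
    apply he1
    have h1 : n + 1 ≤ a := by omega
    obtain ⟨c, rfl⟩ := Nat.exists_eq_add_of_le h1
    rw [pow_add, mul_assoc, pow_mul, hx, one_pow]
  have hcop : Nat.Coprime m p := ((Nat.Prime.coprime_iff_not_dvd hp).2 hm).symm
  obtain ⟨m', hm'⟩ := Nat.exists_mul_mod_eq_one_of_coprime hcop hp.one_lt
  have hτp := tau_pow_p x p n hx
  have key : ((x ^ (p ^ a * m)) ^ (p ^ (n - a))) ^ m' = x ^ (p ^ n) := by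
    have e1 : (x ^ (p ^ a * m)) ^ (p ^ (n - a)) = (x ^ (p ^ n)) ^ m := by
      rw [← pow_mul, ← pow_mul]
      congr 1
      have : p ^ n = p ^ a * p ^ (n - a) := by rw [← pow_add]; congr 1; omega
      rw [this]; ring
    rw [e1, ← pow_mul]
    have e2 : m * m' = p * (m * m' / p) + 1 := by
      have := Nat.div_add_mod (m * m') p
      omega
    rw [e2, pow_add, pow_mul, hτp, one_pow, one_mul, pow_one]
  rw [← key]
  exact Subgroup.pow_mem _ (Subgroup.pow_mem _ (Subgroup.mem_zpowers _) _) _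

theorem pp_coprime (hp : p.Prime) (hq : q.Prime) (hqp : q ≠ p) (hQ : IsPGroup q Q)
    (hx : x ^ (p ^ (n + 1)) = 1) :
    ∀ e ∈ Subgroup.zpowers x, (Nat.card (Subgroup.zpowers e)).Coprime (Nat.card Q) := by
  intro e he
  have : Fact q.Prime := ⟨hq⟩
  obtain ⟨k, hk⟩ := IsPGroup.iff_card.1 hQ
  rw [hk, Nat.card_zpowers]
  have h1 : orderOf e ∣ p ^ (n + 1) := by
    apply orderOf_dvd_of_pow_eq_one
    obtain ⟨i, rfl⟩ := Subgroup.mem_zpowers_iff.1 he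
    rw [← zpow_natCast, ← zpow_mul, mul_comm, zpow_mul, zpow_natCast, hx, one_zpow]
  apply Nat.Coprime.coprime_dvd_left h1
  exact Nat.Coprime.pow _ _ ((Nat.coprime_primes hp hq).2 hqp.symm)

theorem pp_K1 (hq : q.Prime) (hQ : IsPGroup q Q)
    (hmin : ∀ P : Subgroup G, P ≤ Q → (∀ m ∈ P, x * m * x⁻¹ ∈ P) → P ≠ Q →
      ∀ m ∈ P, x ^ (p ^ n) * m = m * x ^ (p ^ n))
    (hnc : ∃ u ∈ Q, x ^ (p ^ n) * u ≠ u * x ^ (p ^ n)) :
    ∀ m ∈ K1 Q q, x ^ (p ^ n) * m = m * x ^ (p ^ n) := by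
  have hQbot : Q ≠ ⊥ := by
    rintro rfl
    obtain ⟨u, hu, hxu⟩ := hnc
    rw [Subgroup.mem_bot] at hu
    apply hxu
    rw [hu, mul_one, one_mul]
  have : Fact q.Prime := ⟨hq⟩
  obtain ⟨ℓ, hℓ, hℓd, hne⟩ := exists_K1_ne Q (min_solvable Q q hq hQ) hQbot
  obtain ⟨k, hk⟩ := IsPGroup.iff_card.1 hQ
  rw [hk] at hℓd
  have hℓq : ℓ = q := (Nat.prime_dvd_prime_iff_eq hℓ hq).1 (hℓ.dvd_of_dvd_pow hℓd)
  rw [hℓq] at hne
  exact hmin (K1 Q q) (K1_le Q q) (conj_mem_K1 Q q x (min_conj_mem Q x)) hne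

theorem pp_comm (hp : p.Prime) (hq : q.Prime) (hqp : q ≠ p) (hQ : IsPGroup q Q)
    (hx : x ^ (p ^ (n + 1)) = 1)
    (hmin : ∀ P : Subgroup G, P ≤ Q → (∀ m ∈ P, x * m * x⁻¹ ∈ P) → P ≠ Q →
      ∀ m ∈ P, x ^ (p ^ n) * m = m * x ^ (p ^ n))
    (hnc : ∃ u ∈ Q, x ^ (p ^ n) * u ≠ u * x ^ (p ^ n)) :
    ⁅Q, Subgroup.zpowers (x ^ (p ^ n))⁆ = Q := by
  by_contra hne
  have hNQ : ⁅Q, Subgroup.zpowers (x ^ (p ^ n))⁆ ≤ Q :=
    comm_le_left_of_normalizes Q _ (min_normalizes Q (x ^ (p ^ n)))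
  have hxτ : x * x ^ (p ^ n) = x ^ (p ^ n) * x := by
    rw [← pow_succ', ← pow_succ]
  have hinv : ∀ m ∈ ⁅Q, Subgroup.zpowers (x ^ (p ^ n))⁆,
      x * m * x⁻¹ ∈ ⁅Q, Subgroup.zpowers (x ^ (p ^ n))⁆ :=
    conj_mem_commutator Q _ x (min_conj_mem Q x) (conj_mem_zpowers_of_commute x _ hxτ)
  have hN := hmin _ hNQ hinv hne
  obtain ⟨u, hu, hxu⟩ := hnc
  apply hxu
  have hτmem : x ^ (p ^ n) ∈ Subgroup.zpowers x := Subgroup.pow_mem _ (Subgroup.mem_zpowers x) _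
  obtain ⟨c, hc, hkc⟩ := exists_fixed_mul_comm Q (Subgroup.zpowers (x ^ (p ^ n)))
    (min_normalizes Q (x ^ (p ^ n)))
    (pp_coprime Q x p q n hp hq hqp hQ hx _ hτmem) (Or.inr (min_solvable Q q hq hQ)) u hu
  have h1 : x ^ (p ^ n) * c = c * x ^ (p ^ n) := (mem_centralizer_zpowers_iff c _).1 hc.2
  have h2 := hN _ hkc
  have h3 : u = c * (u⁻¹ * c)⁻¹ := by group
  have h4 : x ^ (p ^ n) * (u⁻¹ * c)⁻¹ = (u⁻¹ * c)⁻¹ * x ^ (p ^ n) := by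
    have : Commute (x ^ (p ^ n)) (u⁻¹ * c) := h2
    exact this.inv_right.eq
  rw [h3, ← mul_assoc, h1, mul_assoc, h4, ← mul_assoc]

theorem pp_central (hp : p.Prime) (hq : q.Prime) (hqp : q ≠ p) (hQ : IsPGroup q Q)
    (hx : x ^ (p ^ (n + 1)) = 1)
    (hmin : ∀ P : Subgroup G, P ≤ Q → (∀ m ∈ P, x * m * x⁻¹ ∈ P) → P ≠ Q →
      ∀ m ∈ P, x ^ (p ^ n) * m = m * x ^ (p ^ n))
    (hnc : ∃ u ∈ Q, x ^ (p ^ n) * u ≠ u * x ^ (p ^ n)) :
    ∀ c ∈ Q, x ^ (p ^ n) * c = c * x ^ (p ^ n) → ∀ m ∈ Q, c * m = m * c := by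
  set C : Subgroup G :=
    Q ⊓ Subgroup.centralizer ((Subgroup.zpowers (x ^ (p ^ n)) : Subgroup G) : Set G) with hC
  have hK := pp_K1 Q x p q n hq hQ hmin hnc
  have h1 : ⁅⁅Subgroup.zpowers (x ^ (p ^ n)), C⁆, Q⁆ = ⊥ := by
    have : ⁅Subgroup.zpowers (x ^ (p ^ n)), C⁆ = ⊥ := by
      rw [Subgroup.commutator_comm, Subgroup.commutator_eq_bot_iff_le_centralizer]
      exact inf_le_right
    rw [this, Subgroup.commutator_bot_left]
  have h2 : ⁅⁅C, Q⁆, Subgroup.zpowers (x ^ (p ^ n))⁆ = ⊥ := by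
    rw [Subgroup.commutator_eq_bot_iff_le_centralizer, Subgroup.commutator_le]
    intro c hc m hm
    rw [mem_centralizer_zpowers_iff]
    exact hK _ (comm_mem_K1 Q q c m hc.1 hm)
  have h3 := Subgroup.commutator_commutator_eq_bot_of_rotate h1 h2
  rw [pp_comm Q x p q n hp hq hqp hQ hx hmin hnc,
    Subgroup.commutator_eq_bot_iff_le_centralizer] at h3
  intro c hc hxc m hm
  have hcC : c ∈ C := ⟨hc, (mem_centralizer_zpowers_iff c _).2 hxc⟩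
  exact Subgroup.mem_centralizer_iff.1 (h3 hm) c hcC

theorem pp_gen (hp : p.Prime) (hq : q.Prime) (hqp : q ≠ p) (hQ : IsPGroup q Q)
    (hx : x ^ (p ^ (n + 1)) = 1)
    (hmin : ∀ P : Subgroup G, P ≤ Q → (∀ m ∈ P, x * m * x⁻¹ ∈ P) → P ≠ Q →
      ∀ m ∈ P, x ^ (p ^ n) * m = m * x ^ (p ^ n))
    (hnc : ∃ u ∈ Q, x ^ (p ^ n) * u ≠ u * x ^ (p ^ n)) :
    ∀ S : Subgroup G, (∀ m ∈ Q, m⁻¹ * (x ^ (p ^ n))⁻¹ * m * x ^ (p ^ n) ∈ S) → Q ≤ S := by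
  intro S hS
  have hxQ : ∀ m ∈ Q, (x ^ (p ^ n))⁻¹ * m * x ^ (p ^ n) ∈ Q := by
    intro m hm
    have := hQn.conj_mem m hm (x ^ (p ^ n))⁻¹
    rwa [inv_inv] at this
  have h := comm_le_of_gen Q S (x ^ (p ^ n)) (isOfFinOrder_of_finite _) hxQ hS
  rwa [pp_comm Q x p q n hp hq hqp hQ hx hmin hnc] at h

/-- `Q = [Q,e]·Z₁` for every non-trivial `e ∈ ⟨x⟩`, as soon as `C_Q(τ) ≤ Z₁`. -/
theorem pp_gen_e (hp : p.Prime) (hq : q.Prime) (hqp : q ≠ p) (hQ : IsPGroup q Q)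
    (hx : x ^ (p ^ (n + 1)) = 1)
    (hnc : ∃ u ∈ Q, x ^ (p ^ n) * u ≠ u * x ^ (p ^ n)) :
    ∀ e ∈ Subgroup.zpowers x, e ≠ 1 → ∀ Z₁ : Subgroup G,
      (∀ m ∈ Q, x ^ (p ^ n) * m = m * x ^ (p ^ n) → m ∈ Z₁) →
      ∀ S : Subgroup G, (∀ m ∈ Q, m⁻¹ * e⁻¹ * m * e ∈ S) → Z₁ ≤ S → Q ≤ S := by
  intro e he he1 Z₁ hZ₁
  apply gen_of_coprime Q e (min_normalizes Q e) (pp_coprime Q x p q n hp hq hqp hQ hx e he)
    (min_solvable Q q hq hQ) Z₁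
  rintro m ⟨hmQ, hmc⟩
  apply hZ₁ m hmQ
  have hτ := pp_cyc Q x p n hp hx hnc e he he1
  exact Subgroup.mem_centralizer_iff.1 hmc _ hτ

end MC

end Cfsg.Agent.Lib.Helper7.PPMC
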