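import Mathlib

set_option autoImplicit false

namespace Cfsg.Agent.Lib.Helper7.F4

open Finset

section ring

variable {E : Type*} [Ring E] {n : ℕ} [NeZero n]

/-- shifting invariance of a sum of `P ∘ K` -/
theorem shift_sum (P : ZMod n × ZMod n → E)
    (hPadd : ∀ u v, P (u + v) = P u * P v)
    (K : ZMod n × ZMod n → ZMod n × ZMod n) (hK : ∀ u v, K (u + v) = K u + K v)
    (w : ZMod n × ZMod n) (e : ZMod n × ZMod n) (hw : K w = e) :
    P e * ∑ u, P (K u) = ∑ u, P (K u) := by
  rw [Finset.mul_sum]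
  have h1 : ∀ u, P e * P (K u) = P (K (w + u)) := by
    intro u
    rw [hK, hw, hPadd]
  simp_rw [h1]
  exact Fintype.sum_equiv (Equiv.addLeft w) _ _ (fun u => rfl)

/-- the key ring identity -/
theorem ring_key (hn : Odd n) (P : ZMod n × ZMod n → E) (hP0 : P 0 = 1)
    (hPadd : ∀ u v, P (u + v) = P u * P v) (S : E)
    (hS : ∀ u : ZMod n × ZMod n, S * P u = P (-u.2, u.1) * S)
    (hN : 1 + S + S ^ 2 + S ^ 3 = 0) :
    (P (1, 0) - 1) * (n : E) ^ 2 = 0 := by
  classical
  set J : ZMod n × ZMod n → ZMod n × ZMod n := fun u => (-u.2, u.1) with hJ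
  have hJadd : ∀ u v, J (u + v) = J u + J v := by
    intro u v
    simp only [hJ, Prod.fst_add, Prod.snd_add, Prod.mk_add_mk, neg_add]
  have hS1 : ∀ u, S * P u = P (J u) * S := hS
  have hS2 : ∀ u, S ^ 2 * P u = P (J (J u)) * S ^ 2 := by
    intro u; rw [pow_two, mul_assoc, hS1, ← mul_assoc, hS1, mul_assoc]
  have hS3 : ∀ u, S ^ 3 * P u = P (J (J (J u))) * S ^ 3 := by
    intro u
    rw [pow_succ, mul_assoc, hS1, ← mul_assoc, hS2, mul_assoc]
  have hinv : ∀ u, P (-u) * P u = 1 := by
    intro u; rw [← hPadd, neg_add_cancel, hP0]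
  have key : ∀ u, 1 + P (-u + J u) * S + P (-u + J (J u)) * S ^ 2
      + P (-u + J (J (J u))) * S ^ 3 = 0 := by
    intro u
    have h0 : P (-u) * ((1 + S + S ^ 2 + S ^ 3) * P u) = 0 := by rw [hN]; simp
    rw [add_mul, add_mul, add_mul, one_mul, hS1, hS2, hS3, mul_add, mul_add, mul_add, hinv,
      ← mul_assoc, ← mul_assoc, ← mul_assoc, ← hPadd, ← hPadd, ← hPadd] at h0
    exact h0
  -- sum over all u
  have hsum : (Fintype.card (ZMod n × ZMod n) : E) + (∑ u, P (-u + J u)) * S
      + (∑ u, P (-u + J (J u))) * S ^ 2 + (∑ u, P (-u + J (J (J u)))) * S ^ 3 = 0 := by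
    have h1 : ∑ u : ZMod n × ZMod n, (1 + P (-u + J u) * S + P (-u + J (J u)) * S ^ 2
      + P (-u + J (J (J u))) * S ^ 3) = 0 := Finset.sum_eq_zero (fun u _ => key u)
    rw [Finset.sum_add_distrib, Finset.sum_add_distrib, Finset.sum_add_distrib,
      ← Finset.sum_mul, ← Finset.sum_mul, ← Finset.sum_mul] at h1
    simpa using h1
  -- the half
  obtain ⟨m, hm⟩ := hn
  set h : ZMod n := (m : ZMod n) with hh
  have h2 : h + h = -1 := by
    have : ((2 * m + 1 : ℕ) : ZMod n) = 0 := by rw [← hm]; exact ZMod.natCast_self n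
    push_cast at this
    rw [hh]
    linear_combination this
  -- the three shift invariances
  have hA : P (1, 0) * ∑ u, P (-u + J u) = ∑ u, P (-u + J u) := by
    apply shift_sum P hPadd (fun u => -u + J u) _ (h, h)
    · simp only [hJ]
      ext
      · simp only [Prod.fst_add, Prod.fst_neg]
        linear_combination (-1 : ZMod n) * h2
      · simp
    · intro u v
      rw [hJadd]; abel
  have hB : P (1, 0) * ∑ u, P (-u + J (J u)) = ∑ u, P (-u + J (J u)) := by
    apply shift_sum P hPadd (fun u => -u + J (J u)) _ (h, 0)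
    · simp only [hJ]
      ext
      · simp only [Prod.fst_add, Prod.fst_neg]
        linear_combination (-1 : ZMod n) * h2
      · simp
    · intro u v
      rw [hJadd, hJadd]; abel
  have hC : P (1, 0) * ∑ u, P (-u + J (J (J u))) = ∑ u, P (-u + J (J (J u))) := by
    apply shift_sum P hPadd (fun u => -u + J (J (J u))) _ (h, -h)
    · simp only [hJ]
      ext
      · simp only [Prod.fst_add, Prod.fst_neg]
        linear_combination (-1 : ZMod n) * h2
      · simp
    · intro u v
      rw [hJadd, hJadd, hJadd]; abel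
  have hcard : (Fintype.card (ZMod n × ZMod n) : E) = (n : E) ^ 2 := by
    rw [Fintype.card_prod, ZMod.card, pow_two, Nat.cast_mul]
  have hfin : (P (1, 0) - 1) * ((Fintype.card (ZMod n × ZMod n) : E)
      + (∑ u, P (-u + J u)) * S
      + (∑ u, P (-u + J (J u))) * S ^ 2 + (∑ u, P (-u + J (J (J u)))) * S ^ 3) = 0 := by
    rw [hsum, mul_zero]
  have hA' : (P (1, 0) - 1) * ∑ u, P (-u + J u) = 0 := by rw [sub_mul, hA, one_mul, sub_self]
  have hB' : (P (1, 0) - 1) * ∑ u, P (-u + J (J u)) = 0 := by rw [sub_mul, hB, one_mul, sub_self]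
  have hC' : (P (1, 0) - 1) * ∑ u, P (-u + J (J (J u))) = 0 := by
    rw [sub_mul, hC, one_mul, sub_self]
  rw [mul_add, mul_add, mul_add, ← mul_assoc, ← mul_assoc, ← mul_assoc, hA', hB', hC',
    zero_mul, zero_mul, zero_mul, add_zero, add_zero, add_zero, hcard] at hfin
  exact hfin

end ring

end Cfsg.Agent.Lib.Helper7.F4
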