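import Mathlib
import Cfsg.Agent.Lib.Helper7.F4A

set_option autoImplicit false

namespace Cfsg.Agent.Lib.Helper7.F4

/-- the hom from automorphisms to the endomorphism ring of the additive version -/
def Θ (V : Type*) [CommGroup V] : MulAut V →* AddMonoid.End (Additive V) where
  toFun ρ := MonoidHom.toAdditive (ρ : V →* V)
  map_one' := rfl
  map_mul' _ _ := rfl

theorem Θ_apply {V : Type*} [CommGroup V] (ρ : MulAut V) (v : V) :
    Θ V ρ (Additive.ofMul v) = Additive.ofMul (ρ v) := rfl

/-- module lemma: a commuting pair `x, y = x^s` with `y^s = x⁻¹` of `p'`-automorphisms of an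
abelian `p`-group on which `s` is fixed-point-free of order dividing 4 is trivial. -/
theorem aut_key {V : Type*} [CommGroup V] [Finite V] {p : ℕ} [hp : Fact p.Prime]
    (hV : IsPGroup p V)
    (s x y : MulAut V) (hs : ∀ v : V, v * s v * s (s v) * s (s (s v)) = 1)
    (hxy : x * y = y * x) (n : ℕ) (hn : Odd n) (hnp : n.Coprime p) (hxn : x ^ n = 1)
    (hyn : y ^ n = 1) (hsx : s * x = y * s) (hsy : s * y = x⁻¹ * s) : x = 1 := by
  haveI : NeZero n := ⟨by rintro rfl; simp at hn⟩
  by_cases hn1 : n = 1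
  · subst hn1; simpa using hxn
  haveI : Fact (1 < n) := ⟨by have := NeZero.ne n; omega⟩
  set Q : ZMod n × ZMod n → MulAut V := fun u => x ^ u.1.val * y ^ u.2.val with hQ
  have hpow_add : ∀ (g : MulAut V), g ^ n = 1 → ∀ a b : ZMod n,
      g ^ (a + b).val = g ^ a.val * g ^ b.val := by
    intro g hg a b
    rw [ZMod.val_add, ← pow_add, ← pow_eq_pow_mod _ hg]
  have hpow_neg : ∀ (g : MulAut V), g ^ n = 1 → ∀ a : ZMod n,
      g ^ (-a).val = (g ^ a.val)⁻¹ := by
    intro g hg a
    rw [eq_inv_iff_mul_eq_one, ← hpow_add g hg, neg_add_cancel, ZMod.val_zero, pow_zero]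
  have hcomm : Commute x y := hxy
  have hQadd : ∀ u v, Q (u + v) = Q u * Q v := by
    intro u v
    simp only [hQ, Prod.fst_add, Prod.snd_add]
    rw [hpow_add x hxn, hpow_add y hyn]
    have h1 : Commute (x ^ v.1.val) (y ^ u.2.val) := hcomm.pow_pow _ _
    rw [mul_assoc, mul_assoc, ← mul_assoc (x ^ v.1.val), h1.eq, mul_assoc]
  have hQ0 : Q 0 = 1 := by simp [hQ]
  have hsQ : ∀ u : ZMod n × ZMod n, s * Q u = Q (-u.2, u.1) * s := by
    intro u
    simp only [hQ]
    have h1 : s * x ^ u.1.val = y ^ u.1.val * s := by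
      have : SemiconjBy s x y := hsx
      exact (this.pow_right _).eq
    have h2 : s * y ^ u.2.val = (x⁻¹) ^ u.2.val * s := by
      have : SemiconjBy s y x⁻¹ := hsy
      exact (this.pow_right _).eq
    rw [hpow_neg x hxn, ← mul_assoc, h1, mul_assoc, h2, ← mul_assoc, inv_pow]
    have h3 : Commute (y ^ u.1.val) ((x ^ u.2.val)⁻¹) := (hcomm.pow_pow _ _).symm.inv_right
    rw [h3.eq]
  -- the ring-level data
  set P : ZMod n × ZMod n → AddMonoid.End (Additive V) := fun u => Θ V (Q u) with hP
  have hkey := ring_key (E := AddMonoid.End (Additive V)) (n := n) hn P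
    (by simp [hP, hQ0]) (by intro u v; simp only [hP]; rw [hQadd, map_mul]) (Θ V s)
    (by
      intro u
      simp only [hP]
      rw [← map_mul, hsQ, map_mul])
    (by
      ext v
      have := hs v.toMul
      change Additive.ofMul (v.toMul) + Θ V s (Additive.ofMul v.toMul)
        + (Θ V s ^ 2) (Additive.ofMul v.toMul) + (Θ V s ^ 3) (Additive.ofMul v.toMul) = 0
      simp only [AddMonoid.End.coe_pow, Function.iterate_succ, Function.iterate_zero,
        Function.comp_apply, id, Θ_apply]
      rw [← ofMul_mul, ← ofMul_mul, ← ofMul_mul, this]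
      rfl)
  -- consequence: x fixes all n²-th powers
  have hP10 : P (1, 0) = Θ V x := by
    simp only [hP, hQ]
    rw [ZMod.val_one, ZMod.val_zero, pow_one, pow_zero, mul_one]
  have hfix : ∀ v : V, x (v ^ (n ^ 2)) = v ^ (n ^ 2) := by
    intro v
    have h1 := congrArg (fun f => f (Additive.ofMul v)) hkey
    simp only [hP10] at h1
    rw [← Nat.cast_pow] at h1
    have h2 : Θ V x ((n ^ 2) • Additive.ofMul v) = (n ^ 2) • Additive.ofMul v := by
      have h3 : Θ V x ((n ^ 2) • Additive.ofMul v) - (n ^ 2) • Additive.ofMul v = 0 := h1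
      exact sub_eq_zero.mp h3
    rw [← ofMul_pow, Θ_apply] at h2
    exact Additive.ofMul.injective h2
  have hcop : p.Coprime (n ^ 2) := (Nat.Coprime.pow_right 2 hnp.symm)
  ext v
  obtain ⟨w, hw⟩ := (hV.powEquiv hcop).surjective v
  rw [IsPGroup.powEquiv_apply] at hw
  rw [← hw, hfix]
  rfl

end Cfsg.Agent.Lib.Helper7.F4
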