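import Mathlib
import Cfsg.Agent.Lib.Helper7.F4B

set_option autoImplicit false

namespace Cfsg.Agent.Lib.Helper7.F4

open scoped commutatorElement

/-- the derived subgroup of a nontrivial solvable subgroup is strictly smaller -/
theorem commutator_lt_of_solvable {A : Type*} [Group A] (S : Subgroup A) (hS : S ≠ ⊥)
    (hsolv : Group.IsSolvable S) : ⁅S, S⁆ < S := by
  haveI := hsolv
  have hle : ⁅S, S⁆ ≤ S := by
    rw [Subgroup.commutator_le]
    intro a ha b hb
    exact S.mul_mem (S.mul_mem (S.mul_mem ha hb) (S.inv_mem ha)) (S.inv_mem hb)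
  refine lt_of_le_of_ne hle ?_
  intro heq
  haveI : Nontrivial S := (Subgroup.nontrivial_iff_ne_bot S).mpr hS
  have h1 := IsSolvable.commutator_lt_top_of_nontrivial (G := S)
  have h2 : (commutator S).map S.subtype = ⁅S, S⁆ := by
    rw [commutator_def, Subgroup.map_commutator, ← MonoidHom.range_eq_map, Subgroup.range_subtype]
  have h3 : (commutator S).map S.subtype = (⊤ : Subgroup S).map S.subtype := by
    rw [h2, heq, ← MonoidHom.range_eq_map, Subgroup.range_subtype]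
  have h4 := Subgroup.map_injective S.subtype_injective h3
  exact (ne_of_lt h1) h4

/-- `σ²` centralizes every `σ`-invariant solvable `p'`-group of automorphisms of odd order
on which `σ` acts without fixed points. -/
theorem tau_centralizes {V : Type*} [CommGroup V] [Finite V] {p : ℕ} [Fact p.Prime]
    (hV : IsPGroup p V) (s : MulAut V) (hs4 : s ^ 4 = 1) (hsfpf : ∀ v : V, s v = v → v = 1) :
    ∀ (m : ℕ) (S : Subgroup (MulAut V)), Nat.card S = m →
      (∀ ρ ∈ S, s * ρ * s⁻¹ ∈ S) → (∀ ρ ∈ S, s * ρ * s⁻¹ = ρ → ρ = 1) →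
      Group.IsSolvable S → (∀ ρ ∈ S, Odd (orderOf ρ)) → (∀ ρ ∈ S, (orderOf ρ).Coprime p) →
      ∀ ρ ∈ S, s ^ 2 * ρ * (s ^ 2)⁻¹ = ρ := by
  intro m
  induction m using Nat.strong_induction_on with
  | _ m ih =>
  intro S hm hinv hfpf hsolv hodd hcop
  haveI : Finite (MulAut V) := Finite.of_injective (fun f : MulAut V => (f : V → V))
    (fun f g h => MulEquiv.ext (congrFun h))
  by_cases hS : S = ⊥
  · intro ρ hρ
    rw [hS, Subgroup.mem_bot] at hρ
    subst hρ; simp
  have hlt := commutator_lt_of_solvable S hS hsolv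
  have hle : ⁅S, S⁆ ≤ S := le_of_lt hlt
  have hcardlt : Nat.card (⁅S, S⁆ : Subgroup (MulAut V)) < m := by
    rw [← hm]
    by_contra hcon
    push Not at hcon
    exact (ne_of_lt hlt) (Subgroup.eq_of_le_of_card_ge hle hcon)
  -- invariance of the commutator subgroup
  have hinv' : ∀ ρ ∈ ⁅S, S⁆, s * ρ * s⁻¹ ∈ ⁅S, S⁆ := by
    have h1 : ⁅S, S⁆ ≤ (⁅S, S⁆).comap (MulAut.conj s).toMonoidHom := by
      rw [Subgroup.commutator_le]
      intro a ha b hb
      rw [Subgroup.mem_comap]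
      change (MulAut.conj s) (⁅a, b⁆ : MulAut V) ∈ (⁅S, S⁆ : Subgroup (MulAut V))
      rw [map_commutatorElement]
      apply Subgroup.commutator_mem_commutator
      · rw [MulAut.conj_apply]; exact hinv a ha
      · rw [MulAut.conj_apply]; exact hinv b hb
    intro ρ hρ
    have := h1 hρ
    rw [Subgroup.mem_comap] at this
    change (MulAut.conj s) ρ ∈ (⁅S, S⁆ : Subgroup (MulAut V)) at this
    rwa [MulAut.conj_apply] at this
  have hτ' : ∀ c ∈ ⁅S, S⁆, s ^ 2 * c * (s ^ 2)⁻¹ = c :=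
    ih _ hcardlt ⁅S, S⁆ rfl hinv' (fun ρ hρ => hfpf ρ (hle hρ))
      (haveI := hsolv; Group.isSolvable_of_isSolvable_injective (Subgroup.inclusion_injective hle))
      (fun ρ hρ => hodd ρ (hle hρ)) (fun ρ hρ => hcop ρ (hle hρ))
  -- the τ-conjugation
  have hs22 : s ^ 2 * s ^ 2 = 1 := by rw [← pow_add]; exact hs4
  have hs2inv : (s ^ 2)⁻¹ = s ^ 2 := inv_eq_of_mul_eq_one_left hs22
  have hT2 : ∀ ρ : MulAut V, s ^ 2 * ρ * (s ^ 2)⁻¹ = s * (s * ρ * s⁻¹) * s⁻¹ := by
    intro ρ; rw [pow_two]; group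
  have hTmem : ∀ ρ ∈ S, s ^ 2 * ρ * (s ^ 2)⁻¹ ∈ S := by
    intro ρ hρ; rw [hT2]; exact hinv _ (hinv _ hρ)
  by_contra hcon
  push Not at hcon
  obtain ⟨ρ₀, hρ₀, hne⟩ := hcon
  set T : MulAut V → MulAut V := fun ρ => s ^ 2 * ρ * (s ^ 2)⁻¹ with hT
  have hTmul : ∀ a b, T (a * b) = T a * T b := by intro a b; simp only [hT]; group
  have hTinv : ∀ a, T a⁻¹ = (T a)⁻¹ := by intro a; simp only [hT]; group
  have hTT : ∀ a, T (T a) = a := by
    intro a; simp only [hT, hs2inv]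
    calc s ^ 2 * (s ^ 2 * a * s ^ 2) * s ^ 2 = (s ^ 2 * s ^ 2) * a * (s ^ 2 * s ^ 2) := by group
      _ = a := by rw [hs22, one_mul, mul_one]
  set x : MulAut V := ρ₀⁻¹ * T ρ₀ with hx
  have hxS : x ∈ S := S.mul_mem (S.inv_mem hρ₀) (hTmem ρ₀ hρ₀)
  have hx1 : x ≠ 1 := by
    intro h
    apply hne
    have : T ρ₀ = ρ₀ := by
      have := congrArg (fun z => ρ₀ * z) h
      simpa [hx] using this
    exact this
  have hTx : T x = x⁻¹ := by
    rw [hx, hTmul, hTinv, hTT]; group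
  set y : MulAut V := s * x * s⁻¹ with hy
  have hyS : y ∈ S := hinv x hxS
  have hsy : s * y * s⁻¹ = x⁻¹ := by
    rw [← hTx, hy]; simp only [hT]; rw [hT2]
  set c : MulAut V := ⁅x, y⁆ with hc
  have hcS' : c ∈ ⁅S, S⁆ := Subgroup.commutator_mem_commutator hxS hyS
  have hTc : T c = c := hτ' c hcS'
  -- x⁻¹ c x ∈ S'
  have hdS' : x⁻¹ * c * x ∈ ⁅S, S⁆ := by
    have h1 : x⁻¹ * c * x = c * ⁅c⁻¹, x⁻¹⁆ := by
      rw [commutatorElement_def]; group
    rw [h1]
    exact (⁅S, S⁆).mul_mem hcS'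
      (Subgroup.commutator_mem_commutator (S.inv_mem (hle hcS')) (S.inv_mem hxS))
  have hTd : T (x⁻¹ * c * x) = x⁻¹ * c * x := hτ' _ hdS'
  have hcomm2 : x ^ 2 * c = c * x ^ 2 := by
    rw [hTmul, hTmul, hTinv, hTx, hTc, inv_inv] at hTd
    -- x c x⁻¹ = x⁻¹ c x
    calc x ^ 2 * c = x * (x * c * x⁻¹) * x := by rw [pow_two]; group
      _ = x * (x⁻¹ * c * x) * x := by rw [hTd]
      _ = c * x ^ 2 := by rw [pow_two]; group
  have hcommx : Commute x c := by
    obtain ⟨j, hj⟩ := hodd x hxS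
    have h1 : x = (x ^ 2) ^ (j + 1) := by
      rw [← pow_mul]
      have : 2 * (j + 1) = orderOf x + 1 := by omega
      rw [this, pow_succ, pow_orderOf_eq_one, one_mul]
    have h2 : Commute (x ^ 2) c := hcomm2
    rw [h1]
    exact h2.pow_left _
  -- s-conjugate of c is c
  have hsc : s * c * s⁻¹ = c := by
    have h1 : s * c * s⁻¹ = ⁅y, x⁻¹⁆ := by
      have : (MulAut.conj s) ⁅x, y⁆ = ⁅(MulAut.conj s) x, (MulAut.conj s) y⁆ :=
        map_commutatorElement _ _ _
      rw [MulAut.conj_apply, MulAut.conj_apply, MulAut.conj_apply, hsy] at this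
      exact this
    rw [h1]
    have h2 : ⁅y, x⁻¹⁆ = x⁻¹ * c * x := by
      rw [hc, commutatorElement_def, commutatorElement_def]; group
    rw [h2]
    have := hcommx.eq
    calc x⁻¹ * c * x = x⁻¹ * (c * x) := by group
      _ = x⁻¹ * (x * c) := by rw [this]
      _ = c := by group
  have hc1 : c = 1 := hfpf c (hle hcS') hsc
  have hxy : x * y = y * x := by
    have := hc1
    rw [hc, commutatorElement_def] at this
    calc x * y = (x * y * x⁻¹ * y⁻¹) * (y * x) := by group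
      _ = y * x := by rw [this, one_mul]
  -- apply the module lemma
  have hnorm : ∀ v : V, v * s v * s (s v) * s (s (s v)) = 1 := by
    intro v
    apply hsfpf
    have h4 : s (s (s (s v))) = v := by
      have := congrArg (fun f : MulAut V => f v) hs4
      simpa [pow_succ, MulAut.mul_apply] using this
    rw [map_mul, map_mul, map_mul, h4]
    rw [mul_comm (s v * s (s v) * s (s (s v))) v, ← mul_assoc, ← mul_assoc]
  have hyn : y ^ orderOf x = 1 := by
    rw [hy, conj_pow, pow_orderOf_eq_one]; group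
  have hx1' : x = 1 := aut_key hV s x y hnorm hxy (orderOf x) (hodd x hxS) (hcop x hxS)
    (pow_orderOf_eq_one x) hyn (by rw [hy]; group) (by rw [← hsy]; group)
  exact hx1 hx1'

/-- version for a `Group` with a commutativity hypothesis -/
theorem tau_centralizes' {V : Type*} [Group V] [Finite V] {p : ℕ} [Fact p.Prime]
    (hcomm : ∀ a b : V, a * b = b * a)
    (hV : IsPGroup p V) (s : MulAut V) (hs4 : s ^ 4 = 1) (hsfpf : ∀ v : V, s v = v → v = 1) :
    ∀ (m : ℕ) (S : Subgroup (MulAut V)), Nat.card S = m →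
      (∀ ρ ∈ S, s * ρ * s⁻¹ ∈ S) → (∀ ρ ∈ S, s * ρ * s⁻¹ = ρ → ρ = 1) →
      Group.IsSolvable S → (∀ ρ ∈ S, Odd (orderOf ρ)) → (∀ ρ ∈ S, (orderOf ρ).Coprime p) →
      ∀ ρ ∈ S, s ^ 2 * ρ * (s ^ 2)⁻¹ = ρ := by
  letI : CommGroup V := { ‹Group V› with mul_comm := hcomm }
  exact tau_centralizes hV s hs4 hsfpf

end Cfsg.Agent.Lib.Helper7.F4
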