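import Mathlib
import Cfsg.Prelude.Def_Solvable
import Cfsg.Agent.Lib.Lead.Fpf1
import Cfsg.Agent.Lib.Lead.Core

set_option autoImplicit false

namespace Cfsg.Agent.Lib.Helper7.F4

open Cfsg.Agent.Lib.Lead Cfsg.Agent.Lib.Lead.Fpf
open scoped commutatorElement

variable {G : Type*} [Group G]

/-- A nontrivial finite solvable group has a nontrivial fully invariant abelian `p`-subgroup. -/
theorem exists_invariant_abelian_pgroup [Finite G] [Nontrivial G] (hsolv : Group.IsSolvable G) :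
    ∃ (p : ℕ) (_ : p.Prime) (V : Subgroup G), V.Normal ∧ V ≠ ⊥ ∧ IsPGroup p V ∧
      (∀ a ∈ V, ∀ b ∈ V, a * b = b * a) ∧ ∀ (f : G →* G), ∀ v ∈ V, f v ∈ V := by
  classical
  have hex : ∃ n, derivedSeries G n = ⊥ := hsolv.solvable
  set n := Nat.find hex with hn
  have hn0 : n ≠ 0 := by
    intro h0
    have h1 : derivedSeries G n = ⊥ := Nat.find_spec hex
    rw [h0, derivedSeries_zero] at h1
    exact top_ne_bot h1
  obtain ⟨k, hk⟩ : ∃ k, n = k + 1 := ⟨n - 1, by omega⟩
  set A := derivedSeries G k with hA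
  have hAne : A ≠ ⊥ := by
    intro h
    have : n ≤ k := Nat.find_min' hex h
    omega
  have hAA : ⁅A, A⁆ = ⊥ := by
    have h1 : derivedSeries G n = ⊥ := Nat.find_spec hex
    rw [hk, derivedSeries_succ] at h1
    exact h1
  have hAcomm : ∀ a ∈ A, ∀ b ∈ A, a * b = b * a := by
    intro a ha b hb
    have h1 : ⁅a, b⁆ ∈ ⁅A, A⁆ := Subgroup.commutator_mem_commutator ha hb
    rw [hAA, Subgroup.mem_bot, commutatorElement_def] at h1
    calc a * b = (a * b * a⁻¹ * b⁻¹) * (b * a) := by group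
      _ = b * a := by rw [h1, one_mul]
  have hAinv : ∀ (f : G →* G), ∀ a ∈ A, f a ∈ A := by
    intro f a ha
    exact map_derivedSeries_le_derivedSeries f k ⟨a, ha, rfl⟩
  -- a prime dividing |A|
  have hAcard : Nat.card A ≠ 1 := by
    intro h; exact hAne (Subgroup.card_eq_one.mp h)
  obtain ⟨p, hp, hpd⟩ := Nat.exists_prime_and_dvd hAcard
  haveI : Fact p.Prime := ⟨hp⟩
  obtain ⟨a₀, ha₀⟩ := exists_prime_orderOf_dvd_card' (G := A) p hpd
  let V : Subgroup G :=
    { carrier := {a | a ∈ A ∧ ∃ j : ℕ, a ^ (p ^ j) = 1}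
      one_mem' := ⟨A.one_mem, 0, by simp⟩
      mul_mem' := by
        rintro a b ⟨ha, j, hj⟩ ⟨hb, l, hl⟩
        refine ⟨A.mul_mem ha hb, j + l, ?_⟩
        have hc : Commute a b := hAcomm a ha b hb
        rw [hc.mul_pow, pow_add, pow_mul, hj, one_pow, mul_comm (p ^ j), pow_mul, hl, one_pow,
          one_mul]
      inv_mem' := by
        rintro a ⟨ha, j, hj⟩
        exact ⟨A.inv_mem ha, j, by rw [inv_pow, hj, inv_one]⟩ }
  have hVmem : ∀ a, a ∈ V ↔ a ∈ A ∧ ∃ j : ℕ, a ^ (p ^ j) = 1 := fun a => Iff.rfl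
  have hVinv : ∀ (f : G →* G), ∀ v ∈ V, f v ∈ V := by
    rintro f v ⟨hv, j, hj⟩
    exact ⟨hAinv f v hv, j, by rw [← map_pow, hj, map_one]⟩
  refine ⟨p, hp, V, ?_, ?_, ?_, ?_, hVinv⟩
  · constructor
    intro v hv g
    have := hVinv (MulAut.conj g).toMonoidHom v hv
    simpa [MulAut.conj_apply] using this
  · intro h
    have h1 : (a₀ : G) ∈ V := by
      refine ⟨a₀.2, 1, ?_⟩
      rw [pow_one]
      have h3 : a₀ ^ p = 1 := by rw [← ha₀]; exact pow_orderOf_eq_one _
      have h4 := congrArg Subtype.val h3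
      simpa using h4
    rw [h, Subgroup.mem_bot] at h1
    have h2 : a₀ = 1 := Subtype.ext h1
    rw [h2, orderOf_one] at ha₀
    exact hp.one_lt.ne ha₀
  · rintro ⟨v, hv, j, hj⟩
    exact ⟨j, Subtype.ext hj⟩
  · rintro a ⟨ha, _⟩ b ⟨hb, _⟩
    exact hAcomm a ha b hb

/-- a finite group with a fixed-point-free automorphism of order dividing 4 has odd order -/
theorem odd_card_of_fpf4 [Finite G] {φ : G →* G} (h : FpfData 4 φ) : Odd (Nat.card G) := by
  set e : MulAut G := h.equiv (by norm_num) with he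
  have he4 : e ^ 4 = 1 := by
    ext g
    have : (e ^ 4) g = φ^[4] g := by
      simp only [pow_succ, pow_zero, one_mul, MulAut.mul_apply, Function.iterate_succ,
        Function.iterate_zero, Function.comp_apply, id]
      rfl
    rw [this, h.iter]; rfl
  have hP : IsPGroup 2 (Subgroup.zpowers e) := by
    have h1 : Nat.card (Subgroup.zpowers e) ∣ 2 ^ 2 := by
      rw [Nat.card_zpowers]
      exact orderOf_dvd_of_pow_eq_one he4
    obtain ⟨j, _, hj⟩ := (Nat.dvd_prime_pow Nat.prime_two).mp h1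
    exact IsPGroup.of_card hj
  haveI : Fact (Nat.Prime 2) := ⟨Nat.prime_two⟩
  have h2 := hP.card_modEq_card_fixedPoints G
  have h3 : Nat.card (MulAction.fixedPoints (Subgroup.zpowers e) G) = 1 := by
    rw [Nat.card_eq_one_iff_unique]
    refine ⟨⟨?_⟩, ⟨⟨1, ?_⟩⟩⟩
    · rintro ⟨a, ha⟩ ⟨b, hb⟩
      have ha1 : a = 1 := by
        apply h.fpf
        have := ha ⟨e, Subgroup.mem_zpowers e⟩
        exact this
      have hb1 : b = 1 := by
        apply h.fpf
        have := hb ⟨e, Subgroup.mem_zpowers e⟩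
        exact this
      exact Subtype.ext (ha1.trans hb1.symm)
    · intro g
      change (g : MulAut G) • (1 : G) = 1
      exact map_one _
  rw [h3] at h2
  rw [Nat.odd_iff]
  exact h2

/-- membership from membership of the "commutator" -/
theorem mem_of_commutator_mem [Finite G] {r : ℕ} {φ : G →* G} (h : FpfData r φ) (N : Subgroup G)
    (hN : ∀ n ∈ N, φ n ∈ N) (x : G) (hx : x⁻¹ * φ x ∈ N) : x ∈ N := by
  have hrN := h.restr N hN
  have hx' : x⁻¹ / φ x⁻¹ ∈ N := by
    rwa [map_inv, div_eq_mul_inv, inv_inv]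
  obtain ⟨n, hn⟩ := hrN.fpf.commutatorMap_surjective ⟨_, hx'⟩
  have h2 : (n : G) / φ n = x⁻¹ / φ x⁻¹ := congrArg Subtype.val hn
  have h3 : (n : G) = x⁻¹ := h.fpf.commutatorMap_injective h2
  have h4 : x⁻¹ ∈ N := h3 ▸ n.2
  exact (N.inv_mem_iff).mp h4

end Cfsg.Agent.Lib.Helper7.F4
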