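import Mathlib
import Cfsg.Prelude.Def_Solvable
import Cfsg.Agent.Lib.Helper7.F4C
import Cfsg.Agent.Lib.Helper7.F4D
import Cfsg.Agent.Lib.Helper6.PCore

set_option autoImplicit false

namespace Cfsg.Agent.Lib.Helper7.F4

open Cfsg.Agent.Lib.Lead Cfsg.Agent.Lib.Lead.Fpf

universe u

/-- the subgroup of elements moved by `φ²` only inside the normal subgroup `F` -/
def tauSub {G : Type*} [Group G] (φ : G →* G) (F : Subgroup G) [hF : F.Normal] : Subgroup G where
  carrier := {g | g⁻¹ * φ (φ g) ∈ F}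
  one_mem' := by simp
  mul_mem' := by
    intro a b ha hb
    simp only [Set.mem_setOf_eq] at ha hb ⊢
    have h1 : (a * b)⁻¹ * φ (φ (a * b)) =
        (b⁻¹ * (a⁻¹ * φ (φ a)) * b⁻¹⁻¹) * (b⁻¹ * φ (φ b)) := by
      rw [map_mul, map_mul]; group
    rw [h1]
    exact F.mul_mem (hF.conj_mem _ ha _) hb
  inv_mem' := by
    intro a ha
    simp only [Set.mem_setOf_eq] at ha ⊢
    have h1 : a⁻¹⁻¹ * φ (φ a⁻¹) = a * (a⁻¹ * φ (φ a))⁻¹ * a⁻¹ := by
      rw [map_inv, map_inv]; group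
    rw [h1]
    exact hF.conj_mem _ (F.inv_mem ha) _

theorem mem_tauSub {G : Type*} [Group G] (φ : G →* G) (F : Subgroup G) [F.Normal] (g : G) :
    g ∈ tauSub φ F ↔ g⁻¹ * φ (φ g) ∈ F := Iff.rfl

/-- invariance of the preimage of a core -/
theorem core_invariant {G : Type u} [Group G] [Finite G] (φ : G →* G) (h : FpfData 4 φ)
    (V : Subgroup G) [hVn : V.Normal] (hVinv : ∀ v ∈ V, φ v ∈ V)
    (r : ℕ) (y : G) (hy : (QuotientGroup.mk' V y) ∈ Cfsg.pCore r (G ⧸ V)) :
    (QuotientGroup.mk' V (φ y)) ∈ Cfsg.pCore r (G ⧸ V) := by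
  have hq : FpfData 4 (quot φ V hVinv) := h.quot V hVinv
  have h1 := Cfsg.Agent.Lib.Helper6.pCore_map_equiv (G := G ⧸ V) r (hq.equiv (by norm_num))
  have h2 : (hq.equiv (by norm_num)) (QuotientGroup.mk' V y) ∈ Cfsg.pCore r (G ⧸ V) := by
    rw [← h1]; exact ⟨_, hy, rfl⟩
  exact h2

/-- the case of the preimage of an `r`-core, `r ≠ p` -/
theorem core_case {G : Type u} [Group G] [Finite G] (φ : G →* G) (h : FpfData 4 φ)
    (hodd : Odd (Nat.card G)) (hsolv : Group.IsSolvable G)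
    (p : ℕ) [hp : Fact p.Prime] (V : Subgroup G) [hVn : V.Normal] (hVp : IsPGroup p V)
    (hVab : ∀ a ∈ V, ∀ b ∈ V, a * b = b * a) (hVinv : ∀ v ∈ V, φ v ∈ V)
    (r : ℕ) [hr : Fact r.Prime] (hrp : r ≠ p) (x : G)
    (hx : (QuotientGroup.mk' V x) ∈ Cfsg.pCore r (G ⧸ V)) :
    x⁻¹ * φ (φ x) ∈ Cfsg.fittingSubgroup G := by
  haveI := hsolv
  set Lr : Subgroup G := (Cfsg.pCore r (G ⧸ V)).comap (QuotientGroup.mk' V) with hLr
  haveI hpn : (Cfsg.pCore r (G ⧸ V)).Normal := Cfsg.Agent.Lib.Lead.pCore_normal r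
  haveI hLn : Lr.Normal := Subgroup.Normal.comap hpn _
  have hLinv : ∀ y ∈ Lr, φ y ∈ Lr := fun y hy => core_invariant φ h V hVinv r y hy
  set ρ : G →* MulAut V := MulAut.conjNormal with hρ
  have hρV : ∀ v ∈ V, ρ v = 1 := by
    intro v hv
    ext w
    rw [hρ, MulAut.conjNormal_apply]
    have := hVab v hv w w.2
    rw [this]; simp
  have hres : FpfData 4 (restr φ V hVinv) := h.restr V hVinv
  set s : MulAut V := hres.equiv (by norm_num) with hs
  have hs_apply : ∀ w : V, ((s w : V) : G) = φ w := fun w => rfl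
  have hs4 : s ^ 4 = 1 := by
    ext w
    have : (s ^ 4) w = (restr φ V hVinv)^[4] w := by
      simp only [pow_succ, pow_zero, one_mul, MulAut.mul_apply, Function.iterate_succ,
        Function.iterate_zero, Function.comp_apply, id]
      rfl
    rw [this, hres.iter]; rfl
  have hsfpf : ∀ v : V, s v = v → v = 1 := fun v hv => hres.fpf v hv
  have hconj : ∀ y : G, s * ρ y * s⁻¹ = ρ (φ y) := by
    intro y
    ext w
    rw [MulAut.mul_apply, MulAut.mul_apply, hs_apply, hρ, MulAut.conjNormal_apply,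
      MulAut.conjNormal_apply, map_mul, map_mul, map_inv]
    have h1 : φ ((s⁻¹ w : V) : G) = w := by
      rw [← hs_apply]
      have : s (s⁻¹ w) = w := by
        rw [← MulAut.mul_apply, mul_inv_cancel]; rfl
      rw [this]
    rw [h1]
  set R : Subgroup (MulAut V) := Lr.map ρ with hR
  have hRinv : ∀ ρ' ∈ R, s * ρ' * s⁻¹ ∈ R := by
    rintro _ ⟨y, hy, rfl⟩
    rw [hconj]
    exact ⟨φ y, hLinv y hy, rfl⟩
  set Dr : Subgroup G := Lr ⊓ ρ.ker with hDr
  have hDinv : ∀ d ∈ Dr, φ d ∈ Dr := by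
    intro d hd
    have hd' := Subgroup.mem_inf.mp hd
    refine Subgroup.mem_inf.mpr ⟨hLinv d hd'.1, ?_⟩
    rw [MonoidHom.mem_ker, ← hconj, MonoidHom.mem_ker.mp hd'.2]; group
  have hRfpf : ∀ ρ' ∈ R, s * ρ' * s⁻¹ = ρ' → ρ' = 1 := by
    rintro _ ⟨y, hy, rfl⟩ hfix
    rw [hconj] at hfix
    have h1 : y⁻¹ * φ y ∈ Dr := by
      refine Subgroup.mem_inf.mpr ⟨Lr.mul_mem (Lr.inv_mem hy) (hLinv y hy), ?_⟩
      rw [MonoidHom.mem_ker, map_mul, map_inv, hfix]; group
    have h2 := mem_of_commutator_mem h Dr hDinv y h1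
    exact MonoidHom.mem_ker.mp (Subgroup.mem_inf.mp h2).2
  have hRsolv : Group.IsSolvable R :=
    Group.isSolvable_of_surjective (MonoidHom.subgroupMap_surjective ρ Lr)
  have hRodd : ∀ ρ' ∈ R, Odd (orderOf ρ') := by
    rintro _ ⟨y, _, rfl⟩
    exact hodd.of_dvd_nat ((orderOf_map_dvd ρ y).trans (orderOf_dvd_natCard y))
  have hRcop : ∀ ρ' ∈ R, (orderOf ρ').Coprime p := by
    rintro _ ⟨y, hy, rfl⟩
    obtain ⟨a, ha⟩ := (pCore_isPGroup (G := G ⧸ V) r) ⟨_, hy⟩
    have h1 : (QuotientGroup.mk' V y) ^ (r ^ a) = 1 := by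
      have := congrArg Subtype.val ha
      simpa using this
    have h2 : y ^ (r ^ a) ∈ V := by
      rw [← map_pow] at h1
      exact (QuotientGroup.eq_one_iff _).mp h1
    have h3 : (ρ y) ^ (r ^ a) = 1 := by
      rw [← map_pow]; exact hρV _ h2
    have h4 : orderOf (ρ y) ∣ r ^ a := orderOf_dvd_of_pow_eq_one h3
    apply Nat.Coprime.coprime_dvd_left h4
    apply Nat.Coprime.pow_left
    exact (Nat.coprime_primes hr.out hp.out).mpr hrp
  have hτ := tau_centralizes' (fun a b => Subtype.ext (hVab a a.2 b b.2)) hVp s hs4 hsfpf _ R rfl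
    hRinv hRfpf hRsolv hRodd hRcop
    (ρ x) ⟨x, hx, rfl⟩
  have hτ2 : s ^ 2 * ρ x * (s ^ 2)⁻¹ = ρ (φ (φ x)) := by
    rw [← hconj, ← hconj, pow_two]; group
  rw [hτ2] at hτ
  have hxD : x⁻¹ * φ (φ x) ∈ Dr := by
    refine Subgroup.mem_inf.mpr ⟨Lr.mul_mem (Lr.inv_mem hx) (hLinv _ (hLinv x hx)), ?_⟩
    rw [MonoidHom.mem_ker, map_mul, map_inv, hτ]; group
  -- Dr is a nilpotent normal subgroup
  haveI hkn : (ρ.ker).Normal := inferInstance
  haveI hDn : Dr.Normal := inferInstance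
  have hDnil : Group.IsNilpotent Dr := by
    let f : Dr →* (Cfsg.pCore r (G ⧸ V)) :=
      ((QuotientGroup.mk' V).comp Dr.subtype).codRestrict _ (fun d => (Subgroup.mem_inf.mp d.2).1)
    haveI : Group.IsNilpotent (Cfsg.pCore r (G ⧸ V)) :=
      (pCore_isPGroup (G := G ⧸ V) r).isNilpotent
    apply Subgroup.isNilpotent_of_ker_le_center f
    intro d hd
    rw [MonoidHom.mem_ker] at hd
    have hdV : (d : G) ∈ V := by
      have := congrArg Subtype.val hd
      exact (QuotientGroup.eq_one_iff _).mp this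
    rw [Subgroup.mem_center_iff]
    intro e
    have he : ρ (e : G) = 1 := MonoidHom.mem_ker.mp (Subgroup.mem_inf.mp e.2).2
    have h1 : ((ρ (e : G)) ⟨d, hdV⟩ : G) = d := by rw [he]; rfl
    rw [hρ, MulAut.conjNormal_apply] at h1
    apply Subtype.ext
    simp only [Subgroup.coe_mul]
    calc (e : G) * d = ((e : G) * d * (e : G)⁻¹) * e := by group
      _ = d * e := by rw [h1]
  exact le_fittingSubgroup hDn hDnil hxD

/-- main induction: `φ²` acts trivially modulo the Fitting subgroup -/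
theorem tau_mem_fitting : ∀ (n : ℕ) (G : Type u) [Group G] [Finite G] (φ : G →* G),
    Nat.card G = n → Group.IsSolvable G → FpfData 4 φ →
    ∀ g : G, g⁻¹ * φ (φ g) ∈ Cfsg.fittingSubgroup G := by
  intro n
  induction n using Nat.strong_induction_on with
  | _ n ih =>
  intro G _ _ φ hn hsolv h g
  haveI hFn : (Cfsg.fittingSubgroup G).Normal := fittingSubgroup_normal
  by_cases htriv : Subsingleton G
  · have : g⁻¹ * φ (φ g) = 1 := Subsingleton.elim _ _
    rw [this]; exact Subgroup.one_mem _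
  haveI : Nontrivial G := not_subsingleton_iff_nontrivial.mp htriv
  have hodd := odd_card_of_fpf4 h
  obtain ⟨p, hp, V, hVn, hVne, hVp, hVab, hVinv'⟩ := exists_invariant_abelian_pgroup hsolv
  haveI : Fact p.Prime := ⟨hp⟩
  haveI := hVn
  have hVinv : ∀ v ∈ V, φ v ∈ V := hVinv' φ
  -- the quotient
  have hq : FpfData 4 (quot φ V hVinv) := h.quot V hVinv
  have hcardV : 1 < Nat.card V := by
    rcases Nat.lt_or_ge 1 (Nat.card V) with h1 | h1
    · exact h1
    · exfalso
      have : Nat.card V = 1 := le_antisymm h1 Nat.card_pos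
      exact hVne (Subgroup.card_eq_one.mp this)
  have hcardq : Nat.card (G ⧸ V) < n := by
    rw [← hn, Subgroup.card_eq_card_quotient_mul_card_subgroup V]
    have : 0 < Nat.card (G ⧸ V) := Nat.card_pos
    nlinarith
  haveI := hsolv
  have hsolvq : Group.IsSolvable (G ⧸ V) :=
    Group.isSolvable_of_surjective (QuotientGroup.mk'_surjective V)
  have IH := ih _ hcardq (G ⧸ V) (quot φ V hVinv) rfl hsolvq hq
  -- V ≤ F
  have hVF : V ≤ Cfsg.fittingSubgroup G := by
    haveI : Group.IsNilpotent V := hVp.isNilpotent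
    exact le_fittingSubgroup hVn inferInstance
  -- the subgroup S
  set S := tauSub φ (Cfsg.fittingSubgroup G) with hS
  have hVS : V ≤ S := by
    intro v hv
    rw [hS, mem_tauSub]
    exact hVF (V.mul_mem (V.inv_mem hv) (hVinv _ (hVinv _ hv)))
  have hcore : ∀ (r : ℕ) [Fact r.Prime], ∀ x : G,
      (QuotientGroup.mk' V x) ∈ Cfsg.pCore r (G ⧸ V) → x ∈ S := by
    intro r hr x hx
    rw [hS, mem_tauSub]
    by_cases hrp : r = p
    · subst hrp
      -- the preimage is a normal p-subgroup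
      set Lp : Subgroup G := (Cfsg.pCore r (G ⧸ V)).comap (QuotientGroup.mk' V) with hLp
      haveI hpn : (Cfsg.pCore r (G ⧸ V)).Normal := Cfsg.Agent.Lib.Lead.pCore_normal r
      haveI hLn : Lp.Normal := Subgroup.Normal.comap hpn _
      have hLinv : ∀ y ∈ Lp, φ y ∈ Lp := fun y hy => core_invariant φ h V hVinv r y hy
      have hLpg : IsPGroup r Lp := by
        rintro ⟨y, hy⟩
        obtain ⟨a, ha⟩ := (pCore_isPGroup (G := G ⧸ V) r) ⟨_, hy⟩
        have h1 : (QuotientGroup.mk' V y) ^ (r ^ a) = 1 := by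
          have := congrArg Subtype.val ha
          simpa using this
        have h2 : y ^ (r ^ a) ∈ V := by
          rw [← map_pow] at h1
          exact (QuotientGroup.eq_one_iff _).mp h1
        obtain ⟨b, hb⟩ := hVp ⟨_, h2⟩
        have h3 : (y ^ (r ^ a)) ^ (r ^ b) = 1 := by
          have := congrArg Subtype.val hb
          simpa using this
        refine ⟨a + b, Subtype.ext ?_⟩
        simp only [Subgroup.coe_pow, Subgroup.coe_one]
        rw [pow_add, pow_mul, h3]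
      have hLnil : Group.IsNilpotent Lp := hLpg.isNilpotent
      exact le_fittingSubgroup hLn hLnil
        (Lp.mul_mem (Lp.inv_mem hx) (hLinv _ (hLinv x hx)))
    · exact core_case φ h hodd hsolv p V hVp hVab hVinv r hrp x hx
  -- F(G/V) ≤ image of S
  have hFle : Cfsg.fittingSubgroup (G ⧸ V) ≤ S.map (QuotientGroup.mk' V) := by
    rw [fittingSubgroup_eq_iSup_pCore]
    apply iSup_le
    intro r
    haveI : Fact (r : ℕ).Prime := ⟨r.2⟩
    intro y hy
    obtain ⟨x, rfl⟩ := QuotientGroup.mk'_surjective V y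
    exact ⟨x, hcore r x hy, rfl⟩
  have hpre : ∀ x : G, (QuotientGroup.mk' V x) ∈ Cfsg.fittingSubgroup (G ⧸ V) → x ∈ S := by
    intro x hx
    obtain ⟨t, ht, hte⟩ := hFle hx
    have h1 : t⁻¹ * x ∈ V := by
      rw [← QuotientGroup.eq]
      exact hte
    have : x = t * (t⁻¹ * x) := by group
    rw [this]
    exact S.mul_mem ht (hVS h1)
  -- conclusion
  set h₀ := g⁻¹ * φ (φ g) with hh₀
  have hh₀S : h₀ ∈ S := by
    apply hpre
    have := IH (QuotientGroup.mk' V g)
    have h2 : QuotientGroup.mk' V h₀ = (QuotientGroup.mk' V g)⁻¹ *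
        (quot φ V hVinv) ((quot φ V hVinv) (QuotientGroup.mk' V g)) := by
      rw [hh₀, map_mul, map_inv]; rfl
    rw [h2]; exact this
  rw [hS, mem_tauSub] at hh₀S
  have hτ : φ (φ h₀) = h₀⁻¹ := by
    have h4 : φ (φ (φ (φ g))) = g := h.iter g
    rw [hh₀, map_mul, map_mul, map_inv, map_inv, h4]; group
  rw [hτ] at hh₀S
  -- h₀² ∈ F, odd order
  have hsq : h₀ ^ 2 ∈ Cfsg.fittingSubgroup G := by
    have := (Cfsg.fittingSubgroup G).inv_mem hh₀S
    rw [pow_two]; simpa using this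
  obtain ⟨j, hj⟩ : Odd (orderOf h₀) := hodd.of_dvd_nat (orderOf_dvd_natCard h₀)
  have h5 : h₀ = (h₀ ^ 2) ^ (j + 1) := by
    rw [← pow_mul]
    have : 2 * (j + 1) = orderOf h₀ + 1 := by omega
    rw [this, pow_succ, pow_orderOf_eq_one, one_mul]
  rw [h5]
  exact (Cfsg.fittingSubgroup G).pow_mem hsq _

end Cfsg.Agent.Lib.Helper7.F4
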