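import Mathlib
import Cfsg.Prelude.Def_Solvable
import Cfsg.Agent.Lib.Helper7.F4E

set_option autoImplicit false

namespace Cfsg.Agent.Lib.Helper7.F4

open Cfsg.Agent.Lib.Lead Cfsg.Agent.Lib.Lead.Fpf
open scoped commutatorElement

universe u

/-- the Fitting subgroup is invariant under automorphisms -/
theorem fitting_invariant {G : Type*} [Group G] (e : G ≃* G) :
    ∀ f ∈ Cfsg.fittingSubgroup G, e f ∈ Cfsg.fittingSubgroup G := by
  have h1 : (Cfsg.fittingSubgroup G).map (e : G →* G) ≤ Cfsg.fittingSubgroup G := by
    unfold Cfsg.fittingSubgroup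
    rw [Subgroup.map_le_iff_le_comap, sSup_le_iff]
    rintro N ⟨hN, hnil⟩
    rw [← Subgroup.map_le_iff_le_comap]
    apply le_sSup
    refine ⟨hN.map _ e.surjective, ?_⟩
    exact (Group.isNilpotent_congr (Subgroup.equivMapOfInjective N (e : G →* G) e.injective)).mp hnil
  intro f hf
  exact h1 ⟨f, hf, rfl⟩

/-- Kovács / Gorenstein–Herstein: a finite solvable group with a fixed-point-free automorphism of
order dividing 4 has nilpotent derived subgroup. -/
theorem main {G : Type u} [Group G] [Finite G] (hG : Group.IsSolvable G) (σ : MulAut G)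
    (hσ : σ ^ 4 = 1) (hfpf : ∀ g : G, σ g = g → g = 1) : Group.IsNilpotent (commutator G) := by
  set φ : G →* G := σ.toMonoidHom with hφ
  have h : FpfData 4 φ := by
    constructor
    · intro g hg; exact hfpf g hg
    · intro g
      have : φ^[4] g = (σ ^ 4) g := by
        simp only [pow_succ, pow_zero, one_mul, MulAut.mul_apply, Function.iterate_succ,
          Function.iterate_zero, Function.comp_apply, id]
        rfl
      rw [this, hσ]; rfl
  have P := tau_mem_fitting _ G φ rfl hG h
  set F := Cfsg.fittingSubgroup G with hF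
  haveI hFn : F.Normal := fittingSubgroup_normal
  have hFinv : ∀ f ∈ F, φ f ∈ F := fitting_invariant σ
  have hq : FpfData 4 (quot φ F hFinv) := h.quot F hFinv
  have hinvol : Function.Involutive (quot φ F hFinv) := by
    intro y
    obtain ⟨g, rfl⟩ := QuotientGroup.mk'_surjective F y
    change QuotientGroup.mk' F (φ (φ g)) = QuotientGroup.mk' F g
    symm
    rw [QuotientGroup.mk'_apply, QuotientGroup.mk'_apply, QuotientGroup.eq]
    exact P g
  have hcomm : ∀ a b : G ⧸ F, Commute a b := hq.fpf.commute_all_of_involutive hinvol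
  have hle : commutator G ≤ F := by
    rw [commutator_def, Subgroup.commutator_le]
    intro a _ b _
    rw [← QuotientGroup.eq_one_iff, commutatorElement_def]
    have := (hcomm (QuotientGroup.mk a) (QuotientGroup.mk b)).eq
    simp only [QuotientGroup.mk_mul, QuotientGroup.mk_inv]
    rw [this]; group
  haveI : Group.IsNilpotent F := fittingSubgroup_isNilpotent
  apply Subgroup.isNilpotent_of_ker_le_center (Subgroup.inclusion hle)
  rw [(MonoidHom.ker_eq_bot_iff _).mpr (Subgroup.inclusion_injective hle)]
  exact bot_le

end Cfsg.Agent.Lib.Helper7.F4
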