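import Mathlib
import Cfsg.Agent.Lib.Lead.CoprimeSylow3
import Cfsg.Agent.Lib.Helper4.SolvBalance
import Cfsg.Agent.Lib.Helper4.HallHigman
import Cfsg.Agent.Lib.Helper7.PSolvable
import Cfsg.Agent.Lib.Helper7.Ito1

set_option autoImplicit false

/-! When does a Sylow `p`-subgroup normalize a Sylow `q`-subgroup: tools and the `p`-solvable
criterion. -/

namespace Cfsg.Agent.Lib.Helper7.SylNorm

open Cfsg Cfsg.Agent.Lib.Lead Cfsg.Agent.Lib.Helper4 Cfsg.Agent.Lib.Helper6
open scoped Pointwise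

universe u

variable {G : Type u} [Group G]

theorem eq_one_of_coprime_pow {z : G} {m n : ℕ} (hmn : m.Coprime n) (hm : z ^ m = 1)
    (hn : z ^ n = 1) : z = 1 := by
  have h1 := orderOf_dvd_of_pow_eq_one hm
  have h2 := orderOf_dvd_of_pow_eq_one hn
  exact orderOf_eq_one_iff.mp (Nat.eq_one_of_dvd_coprimes hmn h1 h2)

theorem factorization_eq_of_not_dvd_index [Finite G] {p : ℕ} (H : Subgroup G)
    (h : ¬ p ∣ H.index) : (Nat.card G).factorization p = (Nat.card H).factorization p := by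
  rw [← H.card_mul_index, Nat.factorization_mul Nat.card_pos.ne' Subgroup.index_ne_zero_of_finite]
  simp [Nat.factorization_eq_zero_of_not_dvd h]

/-- a subgroup of index prime to `p` contains a Sylow `p`-subgroup -/
theorem exists_sylow_le_of_not_dvd_index [Finite G] {p : ℕ} [hp : Fact p.Prime] (H : Subgroup G)
    (h : ¬ p ∣ H.index) : ∃ P : Sylow p G, (P : Subgroup G) ≤ H := by
  obtain ⟨P₀⟩ : Nonempty (Sylow p H) := inferInstance
  have h1 : Nat.card ((P₀ : Subgroup H).map H.subtype) = p ^ (Nat.card H).factorization p := by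
    rw [card_map_subtype]; exact P₀.card_eq_multiplicity
  have h2 := factorization_eq_of_not_dvd_index H h
  exact ⟨Sylow.ofCard _ (by rw [h1, h2]), by rw [Sylow.coe_ofCard]; exact Subgroup.map_subtype_le _⟩

/-- lifting elements of `q`-power order through a quotient -/
theorem exists_lift_qElt [Finite G] {q : ℕ} [hq : Fact q.Prime] (N : Subgroup G) [N.Normal]
    (y₀ : G ⧸ N) (hy : ∃ k : ℕ, orderOf y₀ = q ^ k) :
    ∃ y : G, (QuotientGroup.mk' N) y = y₀ ∧ ∃ k : ℕ, orderOf y = q ^ k := by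
  obtain ⟨k, hk⟩ := hy
  obtain ⟨y', rfl⟩ := QuotientGroup.mk'_surjective N y₀
  obtain ⟨a, b, ha, hb, hab, hao, j, hbo⟩ := Ito.pdecomp q y'
  refine ⟨b, ?_, j, hbo⟩
  have h1 : orderOf ((QuotientGroup.mk' N) a) ∣ orderOf a := orderOf_map_dvd _ a
  have hcomm : Commute ((QuotientGroup.mk' N) y') ((QuotientGroup.mk' N) b) := by
    obtain ⟨i, rfl⟩ := Subgroup.mem_zpowers_iff.mp hb
    rw [map_zpow]; exact (Commute.refl _).zpow_right i
  have h2 : (QuotientGroup.mk' N) a = (QuotientGroup.mk' N) y' * ((QuotientGroup.mk' N) b)⁻¹ := by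
    rw [hab, map_mul, mul_inv_cancel_right]
  have hb1 : ((QuotientGroup.mk' N) b) ^ (q ^ j) = 1 := by
    rw [← map_pow, ← hbo, pow_orderOf_eq_one, map_one]
  have hy1 : ((QuotientGroup.mk' N) y') ^ (q ^ k) = 1 := by
    rw [← hk, pow_orderOf_eq_one]
  have h3 : ((QuotientGroup.mk' N) a) ^ (q ^ (k + j)) = 1 := by
    rw [h2, (hcomm.inv_right).mul_pow, inv_pow, pow_add, pow_mul, hy1, one_pow, one_mul,
      mul_comm, pow_mul, hb1, one_pow, inv_one]
  have h4 : orderOf ((QuotientGroup.mk' N) a) ∣ q ^ (k + j) := orderOf_dvd_of_pow_eq_one h3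
  have hc : (orderOf a).Coprime (q ^ (k + j)) := Nat.Coprime.pow_right _ hao
  have h5 : orderOf ((QuotientGroup.mk' N) a) = 1 := Nat.eq_one_of_dvd_coprimes hc h1 h4
  rw [orderOf_eq_one_iff] at h5
  rw [hab, map_mul, h5, one_mul]

/-- the class-size hypothesis passes to quotients -/
theorem hyp_quotient [Finite G] {p q : ℕ} [Fact q.Prime] (N : Subgroup G) [N.Normal]
    (h : ∀ y : G, (∃ k : ℕ, orderOf y = q ^ k) →
      ¬ p ∣ (Subgroup.centralizer ({y} : Set G)).index) :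
    ∀ y : G ⧸ N, (∃ k : ℕ, orderOf y = q ^ k) →
      ¬ p ∣ (Subgroup.centralizer ({y} : Set (G ⧸ N))).index := by
  intro y₀ hy₀ hdvd
  obtain ⟨y, rfl, hy⟩ := exists_lift_qElt N y₀ hy₀
  apply h y hy
  have h1 : (Subgroup.centralizer ({y} : Set G)).map (QuotientGroup.mk' N) ≤
      Subgroup.centralizer {(QuotientGroup.mk' N) y} := by
    rintro _ ⟨g, hg, rfl⟩
    rw [SetLike.mem_coe] at hg
    rw [Subgroup.mem_centralizer_singleton_iff] at hg ⊢
    rw [← map_mul, hg, map_mul]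
  have h2 := Subgroup.index_dvd_of_le h1
  have h3 := Subgroup.index_map_dvd (Subgroup.centralizer ({y} : Set G))
    (QuotientGroup.mk'_surjective N)
  exact hdvd.trans (h2.trans h3)

/-- if the Sylow `q`-subgroups lie in a normal `p'`-subgroup, every Sylow `p`-subgroup normalizes
a Sylow `q`-subgroup -/
theorem exists_normalized_sylow [Finite G] {p q : ℕ} [hp : Fact p.Prime] [hq : Fact q.Prime]
    (K : Subgroup G) [hKn : K.Normal] (hK : (Nat.card K).Coprime p) (hq' : ¬ q ∣ K.index)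
    (P : Sylow p G) :
    ∃ Q : Sylow q G, (P : Subgroup G) ≤ Subgroup.normalizer ((Q : Subgroup G) : Set G) := by
  have hPK : (P : Subgroup G) ≤ Subgroup.normalizer (K : Set G) := by
    rw [Subgroup.normalizer_eq_top_iff.mpr hKn]; exact le_top
  have hcop : (Nat.card (P : Subgroup G)).Coprime (Nat.card K) := by
    obtain ⟨n, hn⟩ := IsPGroup.iff_card.mp P.2
    rw [hn]; exact (Nat.Coprime.pow_right n hK).symm
  have hsol : Group.IsSolvable (P : Subgroup G) := by
    haveI := P.2.isNilpotent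
    infer_instance
  obtain ⟨Q₀, hQ₀⟩ := coprime_invariant_sylow_exists (P : Subgroup G) K hPK hcop (Or.inl hsol) q
  have h1 : Nat.card ((Q₀ : Subgroup K).map K.subtype) = q ^ (Nat.card K).factorization q := by
    rw [card_map_subtype]; exact Q₀.card_eq_multiplicity
  have h2 := factorization_eq_of_not_dvd_index K hq'
  exact ⟨Sylow.ofCard _ (by rw [h1, h2]), by rw [Sylow.coe_ofCard]; exact hQ₀⟩

theorem pPrimeCore_normal' (p : ℕ) : (pPrimeCore p G).Normal :=
  Subgroup.sSup_normal _ (fun _ hH => hH.1)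

/-- in a `p`-solvable group, a `q`-subgroup normalized by a Sylow `p`-subgroup lies in `O_{p'}` -/
theorem le_pPrimeCore_of_normalizes [Finite G] {p q : ℕ} [hp : Fact p.Prime] [hq : Fact q.Prime]
    (hpq : p ≠ q) (hsolv : IsPSolvable p G) (P : Sylow p G) (Q : Subgroup G) (hQ : IsPGroup q Q)
    (hPQ : (P : Subgroup G) ≤ Subgroup.normalizer (Q : Set G)) : Q ≤ pPrimeCore p G := by
  haveI hKn : (pPrimeCore p G).Normal := pPrimeCore_normal' p
  have hsolv' : IsPSolvable p (G ⧸ pPrimeCore p G) := isPSolvable_quotient hsolv _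
  have hred : pPrimeCore p (G ⧸ pPrimeCore p G) = ⊥ := pPrimeCore_quotient_self p
  have hHH := centralizer_pCore_le_of_isPSolvable hsolv' hred
  haveI hVn : (pCore p (G ⧸ pPrimeCore p G)).Normal := Cfsg.Agent.Lib.Lead.pCore_normal p
  have hVp : IsPGroup p (pCore p (G ⧸ pPrimeCore p G)) := Cfsg.Agent.Lib.Lead.pCore_isPGroup p
  have hcoppq : ∀ a b : ℕ, (p ^ a).Coprime (q ^ b) := fun a b =>
    Nat.Coprime.pow _ _ ((Nat.coprime_primes hp.out hq.out).mpr hpq)
  have hVP : pCore p (G ⧸ pPrimeCore p G) ≤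
      (P : Subgroup G).map (QuotientGroup.mk' (pPrimeCore p G)) := by
    have h0 := hVp.le_sylow_of_normal
      (Sylow.mapSurjective (QuotientGroup.mk'_surjective (pPrimeCore p G)) P)
    rwa [Sylow.coe_mapSurjective] at h0
  have hVpow : ∀ z ∈ pCore p (G ⧸ pPrimeCore p G), ∃ a : ℕ, z ^ (p ^ a) = 1 := by
    intro z hz
    obtain ⟨a, ha⟩ := hVp ⟨z, hz⟩
    exact ⟨a, by simpa using congrArg Subtype.val ha⟩
  have hQpow : ∀ z ∈ Q, ∃ b : ℕ, z ^ (q ^ b) = 1 := by
    intro z hz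
    obtain ⟨b, hb⟩ := hQ ⟨z, hz⟩
    exact ⟨b, by simpa using congrArg Subtype.val hb⟩
  intro x hxQ
  have hcen : (QuotientGroup.mk' (pPrimeCore p G)) x ∈
      Subgroup.centralizer ((pCore p (G ⧸ pPrimeCore p G) : Subgroup _) : Set (G ⧸ pPrimeCore p G)) := by
    rw [Subgroup.mem_centralizer_iff]
    intro v hv
    obtain ⟨g, hgP, rfl⟩ := hVP hv
    have hgx : g * x * g⁻¹ ∈ Q := ((Subgroup.mem_normalizer_iff.mp (hPQ hgP)) x).mp hxQ
    have hcQ : g * x * g⁻¹ * x⁻¹ ∈ Q := Q.mul_mem hgx (Q.inv_mem hxQ)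
    have hc1 : (QuotientGroup.mk' (pPrimeCore p G)) (g * x * g⁻¹ * x⁻¹) ∈
        pCore p (G ⧸ pPrimeCore p G) := by
      have h0 : (QuotientGroup.mk' (pPrimeCore p G)) (g * x * g⁻¹ * x⁻¹) =
          (QuotientGroup.mk' (pPrimeCore p G)) g *
          ((QuotientGroup.mk' (pPrimeCore p G)) x * ((QuotientGroup.mk' (pPrimeCore p G)) g)⁻¹ *
            ((QuotientGroup.mk' (pPrimeCore p G)) x)⁻¹) := by
        simp only [map_mul, map_inv, mul_assoc]
      rw [h0]
      exact Subgroup.mul_mem _ hv (hVn.conj_mem _ (Subgroup.inv_mem _ hv) _)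
    obtain ⟨a, ha⟩ := hVpow _ hc1
    obtain ⟨b, hb⟩ := hQpow _ hcQ
    have hb' : ((QuotientGroup.mk' (pPrimeCore p G)) (g * x * g⁻¹ * x⁻¹)) ^ (q ^ b) = 1 := by
      rw [← map_pow, hb, map_one]
    have hc3 := eq_one_of_coprime_pow (hcoppq a b) ha hb'
    rw [map_mul, map_mul, map_mul, map_inv, map_inv] at hc3
    -- π g * π x * (π g)⁻¹ * (π x)⁻¹ = 1
    have h4 := mul_inv_eq_one.mp hc3
    exact mul_inv_eq_iff_eq_mul.mp h4
  have hxV := hHH hcen
  obtain ⟨a, ha⟩ := hVpow _ hxV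
  obtain ⟨b, hb⟩ := hQpow _ hxQ
  have hb' : ((QuotientGroup.mk' (pPrimeCore p G)) x) ^ (q ^ b) = 1 := by
    rw [← map_pow, hb, map_one]
  have h1 := eq_one_of_coprime_pow (hcoppq a b) ha hb'
  exact (QuotientGroup.eq_one_iff x).mp h1

end Cfsg.Agent.Lib.Helper7.SylNorm
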