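import Mathlib

set_option autoImplicit false

namespace Cfsg.Agent.Lib.Helper7.AltMul

universe u

section identities
variable {G : Type*} [Group G]

theorem inv_eq_sq {a : G} (h : a ^ 3 = 1) : a⁻¹ = a * a := by
  apply inv_eq_of_mul_eq_one_right
  rw [← h, pow_succ, pow_two, mul_assoc]

theorem inv_mul_inv_self {a : G} (h : a ^ 3 = 1) : a⁻¹ * a⁻¹ = a := by
  rw [← mul_inv_rev, ← inv_eq_sq h, inv_inv]

theorem rel_swap {a b : G} (h : (a * b) ^ 2 = 1) : (b * a) ^ 2 = 1 := by
  rw [pow_two] at h ⊢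
  have : b * a * (b * a) = a⁻¹ * (a * b * (a * b)) * a := by group
  rw [this, h]; group

theorem rel_inv {a b : G} (h : (a * b) ^ 2 = 1) : b⁻¹ * a⁻¹ = a * b := by
  rw [← mul_inv_rev]
  apply inv_eq_of_mul_eq_one_right
  rw [← pow_two, h]

/-- `x y = y⁻¹ x²` -/
theorem id1 {a b : G} (ha : a ^ 3 = 1) (h : (a * b) ^ 2 = 1) : a * b = b⁻¹ * (a * a) := by
  rw [← inv_eq_sq ha, rel_inv h]

/-- `x² y x = y⁻¹ (x² y)` -/
theorem id2 {a b : G} (ha : a ^ 3 = 1) (hb : b ^ 3 = 1) (h : (a * b) ^ 2 = 1) :
    a * a * b * a = b⁻¹ * (a * a * b) := by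
  have h1 := rel_inv h
  have h2 := rel_inv (rel_swap h)
  rw [← inv_eq_sq ha]
  calc a⁻¹ * b * a = a⁻¹ * (b * a) := by group
    _ = a⁻¹ * (a⁻¹ * b⁻¹) := by rw [h2]
    _ = (a⁻¹ * a⁻¹) * b⁻¹ := by group
    _ = a * b⁻¹ := by rw [inv_mul_inv_self ha]
    _ = a * (b * b) := by rw [inv_eq_sq hb]
    _ = (a * b) * b := by group
    _ = (b⁻¹ * a⁻¹) * b := by rw [h1]
    _ = b⁻¹ * (a⁻¹ * b) := by group

/-- `x² y y = y x` -/
theorem id3 {a b : G} (ha : a ^ 3 = 1) (hb : b ^ 3 = 1) (h : (a * b) ^ 2 = 1) :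
    a * a * b * b = b * a := by
  rw [← inv_eq_sq ha, mul_assoc, ← inv_eq_sq hb, rel_inv (rel_swap h)]

/-- `x² y z = (z y⁻¹) (x² y)` -/
theorem id4 {a b c : G} (ha : a ^ 3 = 1) (hb : b ^ 3 = 1)
    (hab : (a * b) ^ 2 = 1) (hac : (a * c) ^ 2 = 1) (hbc : (b * c) ^ 2 = 1) :
    a * a * b * c = (c * b⁻¹) * (a * a * b) := by
  have h1 := rel_inv hab
  have h2 := rel_inv hbc
  have h3 := rel_inv (rel_swap hac)
  rw [← inv_eq_sq ha]
  calc a⁻¹ * b * c = a⁻¹ * (b * c) := by group
    _ = a⁻¹ * (c⁻¹ * b⁻¹) := by rw [h2]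
    _ = (a⁻¹ * c⁻¹) * b⁻¹ := by group
    _ = (c * a) * b⁻¹ := by rw [h3]
    _ = c * a * (b * b) := by rw [inv_eq_sq hb]
    _ = c * (a * b) * b := by group
    _ = c * (b⁻¹ * a⁻¹) * b := by rw [h1]
    _ = (c * b⁻¹) * (a⁻¹ * b) := by group

end identities

end Cfsg.Agent.Lib.Helper7.AltMul

namespace Cfsg.Agent.Lib.Helper7.AltMul

universe u

section coset
variable {G : Type u} [Group G] {m : ℕ} (y : Fin (m + 1) → G)

/-- the subgroup generated by all but the last generator -/
def subH : Subgroup G := Subgroup.closure (Set.range fun i : Fin m => y i.castSucc)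

/-- coset representatives -/
def rep : Option (Option (Option (Fin m))) → G
  | none => 1
  | some none => y (Fin.last m)
  | some (some none) => y (Fin.last m) * y (Fin.last m)
  | some (some (some i)) => y (Fin.last m) * y (Fin.last m) * y i.castSucc

theorem z_mem (i : Fin m) : y i.castSucc ∈ subH y :=
  Subgroup.subset_closure ⟨i, rfl⟩

variable (h3 : ∀ i, y i ^ 3 = 1) (h2 : ∀ i j, i ≠ j → (y i * y j) ^ 2 = 1)
include h3 h2

theorem coset_step (g : G) (hg : ∃ h ∈ subH y, ∃ t, g = h * rep y t) (k : Fin (m + 1)) :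
    ∃ h ∈ subH y, ∃ t, g * y k = h * rep y t := by
  obtain ⟨h, hh, t, rfl⟩ := hg
  have hx3 := h3 (Fin.last m)
  have hxz : ∀ j : Fin m, (y (Fin.last m) * y j.castSucc) ^ 2 = 1 := fun j =>
    h2 _ _ (Fin.castSucc_lt_last j).ne'
  induction k using Fin.lastCases with
  | last =>
    match t with
    | none => exact ⟨h, hh, some none, by simp [rep]⟩
    | some none => exact ⟨h, hh, some (some none), by simp [rep, mul_assoc]⟩
    | some (some none) =>
      refine ⟨h, hh, none, ?_⟩
      simp only [rep, mul_one]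
      rw [mul_assoc, ← pow_two, ← pow_succ, hx3, mul_one]
    | some (some (some i)) =>
      refine ⟨h * (y i.castSucc)⁻¹, mul_mem hh (inv_mem (z_mem y i)), some (some (some i)), ?_⟩
      simp only [rep]
      rw [mul_assoc h, id2 hx3 (h3 _) (hxz i)]; simp only [mul_assoc]
  | cast j =>
    match t with
    | none => exact ⟨h * y j.castSucc, mul_mem hh (z_mem y j), none, by simp [rep]⟩
    | some none =>
      refine ⟨h * (y j.castSucc)⁻¹, mul_mem hh (inv_mem (z_mem y j)), some (some none), ?_⟩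
      simp only [rep]
      rw [mul_assoc h, id1 hx3 (hxz j)]; simp only [mul_assoc]
    | some (some none) =>
      exact ⟨h, hh, some (some (some j)), by simp [rep, mul_assoc]⟩
    | some (some (some i)) =>
      by_cases hij : i = j
      · subst hij
        refine ⟨h * y i.castSucc, mul_mem hh (z_mem y i), some none, ?_⟩
        simp only [rep]
        rw [mul_assoc h, id3 hx3 (h3 _) (hxz i)]; simp only [mul_assoc]
      · refine ⟨h * (y j.castSucc * (y i.castSucc)⁻¹),
          mul_mem hh (mul_mem (z_mem y j) (inv_mem (z_mem y i))), some (some (some i)), ?_⟩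
        simp only [rep]
        rw [mul_assoc h, id4 hx3 (h3 _) (hxz i) (hxz j)
          (h2 _ _ (fun e => hij (Fin.castSucc_injective _ e)))]; simp only [mul_assoc]

theorem coset_cover (htop : Subgroup.closure (Set.range y) = ⊤) (g : G) :
    ∃ h ∈ subH y, ∃ t, g = h * rep y t := by
  have hg : g ∈ Subgroup.closure (Set.range y) := by rw [htop]; trivial
  induction hg using Subgroup.closure_induction_right with
  | one => exact ⟨1, one_mem _, none, by simp [rep]⟩
  | mul_right g _ s hs ih =>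
    obtain ⟨k, rfl⟩ := hs
    exact coset_step y h3 h2 g ih k
  | mul_inv_cancel g _ s hs ih =>
    obtain ⟨k, rfl⟩ := hs
    rw [inv_eq_sq (h3 k), ← mul_assoc]
    exact coset_step y h3 h2 _ (coset_step y h3 h2 g ih k) k

end coset

end Cfsg.Agent.Lib.Helper7.AltMul

namespace Cfsg.Agent.Lib.Helper7.AltMul

universe u

theorem closure_range_sub {G : Type u} [Group G] {m : ℕ} (y : Fin (m + 1) → G) :
    Subgroup.closure (Set.range fun i : Fin m =>
      (⟨y i.castSucc, z_mem y i⟩ : subH y)) = ⊤ := by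
  have : (Set.range fun i : Fin m => (⟨y i.castSucc, z_mem y i⟩ : subH y)) =
      ((↑) : subH y → G) ⁻¹' (Set.range fun i : Fin m => y i.castSucc) := by
    ext ⟨g, hg⟩
    simp only [Set.mem_range, Set.mem_preimage]
    constructor
    · rintro ⟨i, hi⟩; exact ⟨i, congrArg Subtype.val hi⟩
    · rintro ⟨i, hi⟩; exact ⟨i, Subtype.ext hi⟩
  rw [this]
  exact Subgroup.closure_closure_coe_preimage

/-- Carmichael's bound: a group generated by `m` elements of order dividing three, any two of
which have a product of order dividing two, has order at most `(m + 2)! / 2`. -/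
theorem card_le : ∀ (m : ℕ) {G : Type u} [Group G] (y : Fin m → G),
    (∀ i, y i ^ 3 = 1) → (∀ i j, i ≠ j → (y i * y j) ^ 2 = 1) →
    Subgroup.closure (Set.range y) = ⊤ → Finite G ∧ 2 * Nat.card G ≤ (m + 2).factorial := by
  intro m
  induction m with
  | zero =>
    intro G _ y _ _ htop
    have hr : Set.range y = ∅ := Set.range_eq_empty y
    rw [hr, Subgroup.closure_empty] at htop
    have hsub : Subsingleton G := by
      refine ⟨fun a b => ?_⟩
      have ha : a ∈ (⊥ : Subgroup G) := by rw [htop]; trivial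
      have hb : b ∈ (⊥ : Subgroup G) := by rw [htop]; trivial
      rw [Subgroup.mem_bot] at ha hb
      rw [ha, hb]
    refine ⟨inferInstance, ?_⟩
    rw [Nat.card_of_subsingleton (1 : G)]
    decide
  | succ m ih =>
    intro G _ y h3 h2 htop
    obtain ⟨hfin, hcard⟩ := ih (G := subH y) (fun i => ⟨y i.castSucc, z_mem y i⟩)
      (fun i => Subtype.ext (h3 _))
      (fun i j hij => Subtype.ext (h2 _ _ (fun e => hij (Fin.castSucc_injective _ e))))
      (closure_range_sub y)
    let f : subH y × Option (Option (Option (Fin m))) → G := fun p => (p.1 : G) * rep y p.2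
    have hf : Function.Surjective f := by
      intro g
      obtain ⟨h, hh, t, rfl⟩ := coset_cover y h3 h2 htop g
      exact ⟨(⟨h, hh⟩, t), rfl⟩
    have hfinG : Finite G := Finite.of_surjective f hf
    refine ⟨hfinG, ?_⟩
    have h1 : Nat.card G ≤ Nat.card (subH y × Option (Option (Option (Fin m)))) :=
      Nat.card_le_card_of_surjective f hf
    rw [Nat.card_prod] at h1
    have h4 : Nat.card (Option (Option (Option (Fin m)))) = m + 3 := by
      simp [Nat.card_eq_fintype_card]
    rw [h4] at h1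
    have h5 : (m + 1 + 2).factorial = (m + 3) * (m + 2).factorial := by
      rw [show m + 1 + 2 = (m + 2) + 1 from rfl, Nat.factorial_succ]
    rw [h5]
    calc 2 * Nat.card G ≤ 2 * (Nat.card (subH y) * (m + 3)) := Nat.mul_le_mul_left _ h1
      _ = (m + 3) * (2 * Nat.card (subH y)) := by ring
      _ ≤ (m + 3) * (m + 2).factorial := Nat.mul_le_mul_left _ hcard

end Cfsg.Agent.Lib.Helper7.AltMul
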