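import Mathlib
import Cfsg.Agent.Lib.Helper7.AltMul1
import Cfsg.Agent.Lib.Helper9.AutAlt4

set_option autoImplicit false

/-! Carmichael's presentation of the alternating group on the three-cycles `(0 1 k)`. -/

namespace Cfsg.Agent.Lib.Helper7.AltMul

open Cfsg.Agent.Lib.Helper9.H9AutAlt Equiv Equiv.Perm

universe u

theorem ss_ne_zero {m : ℕ} (i : Fin m) : (i.succ.succ : Fin (m + 2)) ≠ 0 :=
  Fin.succ_ne_zero _

theorem ss_ne_one {m : ℕ} (i : Fin m) : (i.succ.succ : Fin (m + 2)) ≠ 1 := by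
  intro h
  have : (i.succ.succ : Fin (m + 2)).val = (1 : Fin (m + 2)).val := congrArg Fin.val h
  simp at this

theorem zero_ne_one' (m : ℕ) : (0 : Fin (m + 2)) ≠ 1 := by
  intro h
  have := congrArg Fin.val h
  simp at this

/-- the generator `(0 1 i+2)` -/
def cgen (m : ℕ) (i : Fin m) : alternatingGroup (Fin (m + 2)) :=
  ⟨cyc 0 1 i.succ.succ,
    (cyc_isThreeCycle (zero_ne_one' m) (ss_ne_zero i).symm (ss_ne_one i).symm).mem_alternatingGroup⟩

theorem cgen_coe (m : ℕ) (i : Fin m) :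
    ((cgen m i : alternatingGroup (Fin (m + 2))) : Perm (Fin (m + 2))) = cyc 0 1 i.succ.succ := rfl

theorem cgen_pow_three (m : ℕ) (i : Fin m) : cgen m i ^ 3 = 1 := by
  apply Subtype.ext
  rw [Subgroup.coe_pow, cgen_coe, Subgroup.coe_one]
  have h := (cyc_isThreeCycle (zero_ne_one' m) (ss_ne_zero i).symm (ss_ne_one i).symm).orderOf
  rw [← h]
  exact pow_orderOf_eq_one _

theorem cgen_mul_sq (m : ℕ) (i j : Fin m) (hij : i ≠ j) : (cgen m i * cgen m j) ^ 2 = 1 := by
  apply Subtype.ext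
  rw [Subgroup.coe_pow, Subgroup.coe_mul, cgen_coe, cgen_coe, Subgroup.coe_one, pow_two]
  exact cyc_mul_cyc_sq (zero_ne_one' m) (ss_ne_zero i).symm (ss_ne_zero j).symm (ss_ne_one i).symm
    (ss_ne_one j).symm (fun e => hij (Fin.succ_injective _ (Fin.succ_injective _ e)))

theorem exists_ss {m : ℕ} (k : Fin (m + 2)) (h0 : k ≠ 0) (h1 : k ≠ 1) :
    ∃ i : Fin m, k = i.succ.succ := by
  obtain ⟨k1, rfl⟩ := Fin.exists_succ_eq_of_ne_zero h0
  have : k1 ≠ 0 := by
    rintro rfl
    exact h1 rfl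
  obtain ⟨k2, rfl⟩ := Fin.exists_succ_eq_of_ne_zero this
  exact ⟨k2, rfl⟩

theorem closure_range_cgen (m : ℕ) : Subgroup.closure (Set.range (cgen m)) = ⊤ := by
  rw [eq_top_iff]
  have h := alternatingGroup_le_closure (α := Fin (m + 2)) (zero_ne_one' m)
  have himg : (alternatingGroup (Fin (m + 2))).subtype '' Set.range (cgen m) =
      genSet (0 : Fin (m + 2)) 1 := by
    ext σ
    simp only [Set.mem_image, Set.mem_range, genSet, Set.mem_ofPred_eq]
    constructor
    · rintro ⟨_, ⟨i, rfl⟩, rfl⟩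
      exact ⟨i.succ.succ, ss_ne_zero i, ss_ne_one i, rfl⟩
    · rintro ⟨k, h0, h1, rfl⟩
      obtain ⟨i, rfl⟩ := exists_ss k h0 h1
      exact ⟨cgen m i, ⟨i, rfl⟩, rfl⟩
  rw [← himg, ← MonoidHom.map_closure] at h
  intro g _
  have hg : (g : Perm (Fin (m + 2))) ∈ alternatingGroup (Fin (m + 2)) := g.2
  obtain ⟨g', hg', e⟩ := h hg
  have : g' = g := Subtype.ext e
  rw [← this]; exact hg'

theorem card_alt (m : ℕ) : 2 * Nat.card (alternatingGroup (Fin (m + 2))) = (m + 2).factorial := by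
  rw [two_mul_nat_card_alternatingGroup, Nat.card_perm, Nat.card_eq_fintype_card, Fintype.card_fin]

/-- Carmichael's relators -/
def rels (m : ℕ) : Set (FreeGroup (Fin m)) :=
  {r | (∃ i, r = FreeGroup.of i ^ 3) ∨ ∃ i j, i ≠ j ∧ r = (FreeGroup.of i * FreeGroup.of j) ^ 2}

theorem lift_rels {G : Type*} [Group G] {m : ℕ} (y : Fin m → G) (h3 : ∀ i, y i ^ 3 = 1)
    (h2 : ∀ i j, i ≠ j → (y i * y j) ^ 2 = 1) : ∀ r ∈ rels m, FreeGroup.lift y r = 1 := by
  rintro r (⟨i, rfl⟩ | ⟨i, j, hij, rfl⟩)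
  · rw [map_pow, FreeGroup.lift_apply_of, h3]
  · rw [map_pow, map_mul, FreeGroup.lift_apply_of, FreeGroup.lift_apply_of, h2 i j hij]

/-- the canonical map from the presented group -/
def presHom (m : ℕ) : PresentedGroup (rels m) →* alternatingGroup (Fin (m + 2)) :=
  PresentedGroup.toGroup (f := cgen m) (lift_rels (cgen m) (cgen_pow_three m) (cgen_mul_sq m))

theorem presHom_of (m : ℕ) (i : Fin m) : presHom m (PresentedGroup.of i) = cgen m i :=
  PresentedGroup.toGroup.of _

theorem presHom_surjective (m : ℕ) : Function.Surjective (presHom m) := by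
  rw [← MonoidHom.range_eq_top, eq_top_iff, ← closure_range_cgen m, Subgroup.closure_le]
  rintro _ ⟨i, rfl⟩
  exact ⟨PresentedGroup.of i, presHom_of m i⟩

theorem pres_of_pow (m : ℕ) (i : Fin m) :
    (PresentedGroup.of i : PresentedGroup (rels m)) ^ 3 = 1 := by
  have : (FreeGroup.of i ^ 3 : FreeGroup (Fin m)) ∈ rels m := Or.inl ⟨i, rfl⟩
  have h := PresentedGroup.one_of_mem this
  rwa [map_pow] at h

theorem pres_of_mul (m : ℕ) (i j : Fin m) (hij : i ≠ j) :
    ((PresentedGroup.of i : PresentedGroup (rels m)) * PresentedGroup.of j) ^ 2 = 1 := by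
  have : ((FreeGroup.of i * FreeGroup.of j) ^ 2 : FreeGroup (Fin m)) ∈ rels m :=
    Or.inr ⟨i, j, hij, rfl⟩
  have h := PresentedGroup.one_of_mem this
  rwa [map_pow, map_mul] at h

theorem presHom_bijective (m : ℕ) : Function.Bijective (presHom m) := by
  obtain ⟨hfin, hc⟩ := card_le m (G := PresentedGroup (rels m)) (fun i => PresentedGroup.of i)
    (pres_of_pow m) (pres_of_mul m) (PresentedGroup.closure_range_of _)
  refine (presHom_surjective m).bijective_of_nat_card_le ?_
  have := card_alt m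
  omega

/-- **Carmichael's presentation**: any family of `m` elements of order dividing three with
pairwise products of order dividing two is the image of the three-cycles `(0 1 k)` under a
homomorphism from `A_{m+2}`. -/
theorem exists_lift {G : Type*} [Group G] {m : ℕ} (y : Fin m → G) (h3 : ∀ i, y i ^ 3 = 1)
    (h2 : ∀ i j, i ≠ j → (y i * y j) ^ 2 = 1) :
    ∃ φ : alternatingGroup (Fin (m + 2)) →* G, ∀ i, φ (cgen m i) = y i := by
  let e := MulEquiv.ofBijective (presHom m) (presHom_bijective m)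
  refine ⟨(PresentedGroup.toGroup (f := y) (lift_rels y h3 h2)).comp e.symm.toMonoidHom, ?_⟩
  intro i
  have : e.symm (cgen m i) = PresentedGroup.of i := by
    rw [MulEquiv.symm_apply_eq]
    exact (presHom_of m i).symm
  rw [MonoidHom.comp_apply, MulEquiv.coe_toMonoidHom, this, PresentedGroup.toGroup.of]

end Cfsg.Agent.Lib.Helper7.AltMul
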