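import Mathlib

set_option autoImplicit false

/-!
# Automorphisms of a finite field, and the Galois quotient of a group normalizing an
irreducible abelian group of automorphisms of an elementary abelian group
-/

namespace Cfsg.Agent.Lib.Helper7.EP

universe u v

/-- ring automorphisms of a finite field of characteristic `p` are `ZMod p`-algebra
automorphisms -/
noncomputable def ringAutEquivAlgAut (F : Type u) [Field F] (p : ℕ) [Fact p.Prime] [CharP F p] :
    letI := ZMod.algebra F p
    (F ≃+* F) ≃* (F ≃ₐ[ZMod p] F) :=
  letI := ZMod.algebra F p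
  { toFun := fun e => AlgEquiv.ofRingEquiv (f := e) (fun x =>
      congrArg (fun g : ZMod p →+* F => g x)
        (Subsingleton.elim ((e : F →+* F).comp (algebraMap (ZMod p) F)) (algebraMap (ZMod p) F)))
    invFun := fun a => a.toRingEquiv
    left_inv := fun e => by ext; rfl
    right_inv := fun a => by ext; rfl
    map_mul' := fun a b => by ext; rfl }

/-- the ring automorphism group of a finite field of order `p ^ d` is cyclic of order `d` -/
theorem ringAut_field (F : Type u) [Field F] [Finite F] (p d : ℕ) [Fact p.Prime] [CharP F p]
    (hcard : Nat.card F = p ^ d) : IsCyclic (F ≃+* F) ∧ Nat.card (F ≃+* F) = d := by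
  classical
  letI := ZMod.algebra F p
  have e := ringAutEquivAlgAut F p
  haveI : Fintype F := Fintype.ofFinite F
  have h1 : Nat.card (F ≃ₐ[ZMod p] F) = d := by
    rw [IsGalois.card_aut_eq_finrank]
    have h2 := Module.card_eq_pow_finrank (K := ZMod p) (V := F)
    rw [ZMod.card, ← Nat.card_eq_fintype_card, hcard] at h2
    exact (Nat.pow_right_injective (Fact.out : p.Prime).two_le h2).symm
  refine ⟨(MulEquiv.isCyclic e).mpr inferInstance, ?_⟩
  rw [Nat.card_congr e.toEquiv, h1]

/-- the ring automorphism group of a finite domain of order `p ^ d` in which `p = 0` is cyclic of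
order `d` -/
theorem ringAut_domain (R : Type u) [Ring R] [Finite R] [IsDomain R] (p d : ℕ) [Fact p.Prime]
    (hp0 : (p : R) = 0) (hcard : Nat.card R = p ^ d) :
    IsCyclic (R ≃+* R) ∧ Nat.card (R ≃+* R) = d := by
  letI : Field R := (Finite.isDomain_to_isField R).toField
  haveI : CharP R p := ringChar.of_eq (CharP.ringChar_of_prime_eq_zero Fact.out hp0)
  exact ringAut_field R p d hcard

end Cfsg.Agent.Lib.Helper7.EP
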