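import Mathlib
import Cfsg.Agent.Lib.Helper7.Meta7

set_option autoImplicit false

/-!
# Abelian subgroups of metacyclic `p`-groups (`p` odd)
-/

namespace Cfsg.Agent.Lib.Helper7.Meta

open scoped commutatorElement

universe u

section

variable {G : Type*} [Group G]

theorem isMulCommutative_of_subgroupOf {L M : Subgroup G} (hLM : L ≤ M)
    (h : IsMulCommutative (L.subgroupOf M)) : IsMulCommutative L := by
  refine ⟨⟨fun x y => ?_⟩⟩
  have := h.is_comm.comm (⟨⟨x, hLM x.2⟩, Subgroup.mem_subgroupOf.mpr x.2⟩ : L.subgroupOf M)
    ⟨⟨y, hLM y.2⟩, Subgroup.mem_subgroupOf.mpr y.2⟩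
  apply Subtype.ext
  exact congrArg (fun t : L.subgroupOf M => ((t : M) : G)) this

theorem isMulCommutative_subgroupOf {L : Subgroup G} (M : Subgroup G)
    (h : IsMulCommutative L) : IsMulCommutative (L.subgroupOf M) := by
  refine ⟨⟨fun x y => ?_⟩⟩
  have := h.is_comm.comm (⟨(x : M), Subgroup.mem_subgroupOf.mp x.2⟩ : L)
    ⟨(y : M), Subgroup.mem_subgroupOf.mp y.2⟩
  apply Subtype.ext
  apply Subtype.ext
  exact congrArg (fun t : L => (t : G)) this

theorem isMulCommutative_of_commutator_eq_bot (h : commutator G = ⊥) (L : Subgroup G) :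
    IsMulCommutative L := by
  refine ⟨⟨fun x y => ?_⟩⟩
  apply Subtype.ext
  have h1 : ⁅(x : G), (y : G)⁆ ∈ commutator G := by
    rw [commutator_def]
    exact Subgroup.commutator_mem_commutator (Subgroup.mem_top _) (Subgroup.mem_top _)
  rw [h, Subgroup.mem_bot, commutatorElement_eq_one_iff_mul_comm] at h1
  exact h1

namespace MCData

variable {p : ℕ} [hp : Fact p.Prime] {a b c : G} {n : ℕ}

theorem index_commutator_mul [Finite G] (hd : MCData p G a b c n) :
    (commutator G).index * p ^ n = Nat.card G := by
  rw [← hd.cd.card_commutator]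
  exact Subgroup.index_mul_card _

theorem card_mul_card_center [Finite G] (hd : MCData p G a b c n) :
    Nat.card G * Nat.card (Subgroup.center G) = (commutator G).index * (commutator G).index := by
  have h1 := hd.index_commutator_mul
  have h2 := Subgroup.card_mul_index (Subgroup.center G)
  rw [hd.cd.index_center hd.gen] at h2
  have hpos : 0 < p ^ (2 * n) := pow_pos hp.out.pos _
  apply Nat.eq_of_mul_eq_mul_right hpos
  calc Nat.card G * Nat.card (Subgroup.center G) * p ^ (2 * n)
      = Nat.card G * (Nat.card (Subgroup.center G) * p ^ (2 * n)) := by ring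
    _ = Nat.card G * Nat.card G := by rw [h2]
    _ = ((commutator G).index * p ^ n) * ((commutator G).index * p ^ n) := by rw [h1]
    _ = (commutator G).index * (commutator G).index * p ^ (2 * n) := by ring

/-- abelian subgroups have order at most the index of the derived subgroup -/
theorem card_le_of_comm [Finite G] (hd : MCData p G a b c n) {L : Subgroup G}
    (hL : IsMulCommutative L) : Nat.card L ≤ (commutator G).index := by
  have hLC : L ≤ Subgroup.centralizer (L : Set G) := by
    intro x hx y hy
    have := hL.is_comm.comm (⟨x, hx⟩ : L) ⟨y, hy⟩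
    exact (congrArg Subtype.val this).symm
  have h1 := hd.cd.measure_le L
  rw [hd.card_mul_card_center] at h1
  have h2 : Nat.card L * Nat.card L ≤ (commutator G).index * (commutator G).index :=
    (Nat.mul_le_mul_left _ (Subgroup.card_le_of_le hLC)).trans h1
  exact Nat.mul_self_le_mul_self_iff.mp h2

end MCData

end

/-- subgroups of small order are abelian -/
theorem abelian_of_card_le {p : ℕ} [hp : Fact p.Prime] (hp2 : p ≠ 2) :
    ∀ (k : ℕ) (G : Type u) [Group G] [Finite G], Nat.card G = k → IsPGroup p G →
      Cfsg.IsMetacyclic G → ∀ L : Subgroup G, Nat.card L ≤ (commutator G).index →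
      IsMulCommutative L := by
  intro k
  induction k using Nat.strong_induction_on with
  | _ k ih =>
    intro G _ _ hk hG hmc L hL
    have hpp : p.Prime := hp.out
    obtain ⟨a, b, c, n, hd⟩ := exists_mcData hp2 hG hmc
    have hI := hd.index_commutator_mul
    by_cases hn : n = 0
    · subst hn
      apply isMulCommutative_of_commutator_eq_bot
      have h1 := hd.cd.card_commutator
      rw [pow_zero] at h1
      exact Subgroup.card_eq_one.mp h1
    by_cases hLt : L = ⊤
    · exfalso
      rw [hLt, Subgroup.card_top, ← hI] at hL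
      have h1 : p ^ n ≤ 1 := by
        have hIpos : 0 < (commutator G).index := Nat.pos_of_ne_zero Subgroup.index_ne_zero_of_finite
        have : (commutator G).index * p ^ n ≤ (commutator G).index * 1 := by rwa [mul_one]
        exact Nat.le_of_mul_le_mul_left this hIpos
      have h2 : 1 < p ^ n := Nat.one_lt_pow hn hpp.one_lt
      omega
    obtain ⟨M, hLM, hMidx⟩ := exists_index_eq_prime_of_ne_top hG hLt
    have hMcard := Subgroup.card_mul_index M
    rw [hMidx] at hMcard
    have hMlt : Nat.card M < k := by
      rw [← hk, ← hMcard]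
      have hMpos : 0 < Nat.card M := Nat.card_pos
      nlinarith [hpp.two_le]
    have hcomm := hd.commutator_le_of_index (Nat.pos_of_ne_zero hn) hMidx
    have hcM : Nat.card (commutator M) ≤ p ^ (n - 1) := by
      have h1 : Nat.card (commutator M) = Nat.card ↥⁅M, M⁆ := by
        rw [← Subgroup.map_subtype_commutator,
          Subgroup.card_map_of_injective M.subtype_injective]
      rw [h1]
      have h2 := Subgroup.card_le_of_le hcomm
      rw [hd.cd.card_K (by omega : 1 ≤ n)] at h2
      exact h2
    have hIM := Subgroup.index_mul_card (commutator M)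
    have hbound : (commutator G).index ≤ (commutator M).index := by
      have hpn : p ^ n = p * p ^ (n - 1) := by
        rw [← pow_succ']; congr 1; omega
      have h1 : (commutator G).index * p ^ n ≤ (commutator M).index * p ^ n := by
        rw [hI, ← hMcard, ← hIM, hpn]
        calc (commutator M).index * Nat.card (commutator M) * p
            ≤ (commutator M).index * p ^ (n - 1) * p :=
              Nat.mul_le_mul_right _ (Nat.mul_le_mul_left _ hcM)
          _ = (commutator M).index * (p * p ^ (n - 1)) := by ring
      exact Nat.le_of_mul_le_mul_right h1 (pow_pos hpp.pos n)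
    have hLcard : Nat.card (L.subgroupOf M) = Nat.card L :=
      Nat.card_congr (Subgroup.subgroupOfEquivOfLe hLM).toEquiv
    have := ih (Nat.card M) hMlt M rfl (hG.to_subgroup M) (isMetacyclic_subgroup hmc M)
      (L.subgroupOf M) (by rw [hLcard]; exact hL.trans hbound)
    exact isMulCommutative_of_subgroupOf hLM this

section

variable {G : Type u} [Group G]

theorem abelian_iff_card_le [Finite G] {p : ℕ} [hp : Fact p.Prime] (hp2 : p ≠ 2)
    (hG : IsPGroup p G) (hmc : Cfsg.IsMetacyclic G) (L : Subgroup G) :
    IsMulCommutative L ↔ Nat.card L ≤ (commutator G).index := by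
  constructor
  · intro hL
    obtain ⟨a, b, c, n, hd⟩ := exists_mcData hp2 hG hmc
    exact hd.card_le_of_comm hL
  · intro hL
    exact abelian_of_card_le hp2 (Nat.card G) G rfl hG hmc L hL

theorem maximal_abelian_iff [Finite G] {p : ℕ} [hp : Fact p.Prime] (hp2 : p ≠ 2)
    (hG : IsPGroup p G) (hmc : Cfsg.IsMetacyclic G) (L : Subgroup G) :
    Maximal (fun K : Subgroup G => IsMulCommutative K) L ↔
      Nat.card L = (commutator G).index := by
  have hpp : p.Prime := hp.out
  constructor
  · rintro ⟨hLab, hmax⟩
    have h1 := (abelian_iff_card_le hp2 hG hmc L).mp hLab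
    by_contra hne
    have hlt : Nat.card L < (commutator G).index := lt_of_le_of_ne h1 hne
    have hLt : L ≠ ⊤ := by
      rintro rfl
      rw [Subgroup.card_top] at hlt
      have := Nat.le_of_dvd Nat.card_pos (Subgroup.index_dvd_card (commutator G))
      omega
    obtain ⟨L₁, hLL₁, -, hidx⟩ := exists_relIndex_eq_prime hG (lt_top_iff_ne_top.mpr hLt)
    have hc1 := card_eq_relIndex_mul hLL₁
    rw [hidx] at hc1
    obtain ⟨i, hi⟩ := IsPGroup.iff_card.mp (hG.to_subgroup L)
    obtain ⟨j, hj⟩ : ∃ j, (commutator G).index = p ^ j := by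
      have h2 : (commutator G).index ∣ Nat.card G := Subgroup.index_dvd_card _
      obtain ⟨m, hm⟩ := IsPGroup.iff_card.mp hG
      rw [hm] at h2
      obtain ⟨j, _, hj⟩ := (Nat.dvd_prime_pow hpp).mp h2
      exact ⟨j, hj⟩
    have hij : i < j := by
      rw [hi, hj] at hlt
      exact (Nat.pow_lt_pow_iff_right hpp.one_lt).mp hlt
    have hL₁ : Nat.card L₁ ≤ (commutator G).index := by
      rw [hc1, hi, hj, ← pow_succ']
      exact Nat.pow_le_pow_right hpp.pos hij
    have hab := (abelian_iff_card_le hp2 hG hmc L₁).mpr hL₁
    have h3 := hmax hab hLL₁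
    have h4 := Subgroup.card_le_of_le h3
    rw [hc1] at h4
    have hLpos : 0 < Nat.card L := Nat.card_pos
    nlinarith [hpp.two_le]
  · intro hcard
    refine ⟨(abelian_iff_card_le hp2 hG hmc L).mpr hcard.le, ?_⟩
    intro K hK hLK
    have h1 := (abelian_iff_card_le hp2 hG hmc K).mp hK
    rw [← hcard] at h1
    exact (Subgroup.eq_of_le_of_card_ge hLK h1).ge

end

end Cfsg.Agent.Lib.Helper7.Meta
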