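import Mathlib
import Cfsg.Agent.Lib.Helper7.Meta8

set_option autoImplicit false

/-!
# Nonabelian subgroups of metacyclic `p`-groups (`p` odd)
-/

namespace Cfsg.Agent.Lib.Helper7.Meta

open scoped commutatorElement

universe u

section

variable {G : Type u} [Group G]

theorem isMulCommutative_map {H : Type*} [Group H] (f : H →* G) {A : Subgroup H}
    (hA : IsMulCommutative A) : IsMulCommutative (A.map f) := by
  refine ⟨⟨fun x y => ?_⟩⟩
  obtain ⟨x', hx', hx⟩ := x.2
  obtain ⟨y', hy', hy⟩ := y.2
  apply Subtype.ext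
  have := hA.is_comm.comm (⟨x', hx'⟩ : A) ⟨y', hy'⟩
  have h2 : x' * y' = y' * x' := congrArg Subtype.val this
  change (x : G) * (y : G) = (y : G) * (x : G)
  rw [← hx, ← hy, ← map_mul, ← map_mul, h2]

/-- the abelianization of a subgroup is not larger than that of the group -/
theorem index_commutator_subgroup_le [Finite G] {p : ℕ} [hp : Fact p.Prime] (hp2 : p ≠ 2)
    (hG : IsPGroup p G) (hmc : Cfsg.IsMetacyclic G) (M : Subgroup G) :
    (commutator M).index ≤ (commutator G).index := by
  have hpp : p.Prime := hp.out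
  have hMp : IsPGroup p M := hG.to_subgroup M
  obtain ⟨m, hm⟩ := IsPGroup.iff_card.mp hMp
  have h2 : (commutator M).index ∣ Nat.card M := Subgroup.index_dvd_card _
  rw [hm] at h2
  obtain ⟨j, _, hj⟩ := (Nat.dvd_prime_pow hpp).mp h2
  have hdvd : p ^ j ∣ Nat.card M := by
    rw [← hj]; exact Subgroup.index_dvd_card _
  obtain ⟨A, hA⟩ := Sylow.exists_subgroup_card_pow_prime p hdvd
  have hAab : IsMulCommutative A :=
    (abelian_iff_card_le hp2 hMp (isMetacyclic_subgroup hmc M) A).mpr (by rw [hA, hj])
  have hAmap := isMulCommutative_map M.subtype hAab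
  obtain ⟨a, b, c, n, hd⟩ := exists_mcData hp2 hG hmc
  have := hd.card_le_of_comm hAmap
  rw [Subgroup.card_map_of_injective M.subtype_injective, hA, ← hj] at this
  exact this

theorem MCData.index_commutator_of_index [Finite G] {p : ℕ} [hp : Fact p.Prime] {a b c : G}
    {n : ℕ} (hd : MCData p G a b c n) (hp2 : p ≠ 2) (hmc : Cfsg.IsMetacyclic G) (hn : n ≠ 0)
    {M : Subgroup G} (hMidx : M.index = p) :
    (commutator M).index = (commutator G).index := by
  have hpp : p.Prime := hp.out
  apply le_antisymm (index_commutator_subgroup_le hp2 hd.cd.pgroup hmc M)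
  have hI := hd.index_commutator_mul
  have hMcard := Subgroup.card_mul_index M
  rw [hMidx] at hMcard
  have hcomm := hd.commutator_le_of_index (Nat.pos_of_ne_zero hn) hMidx
  have hcM : Nat.card (commutator M) ≤ p ^ (n - 1) := by
    have h1 : Nat.card (commutator M) = Nat.card ↥⁅M, M⁆ := by
      rw [← Subgroup.map_subtype_commutator,
        Subgroup.card_map_of_injective M.subtype_injective]
    rw [h1]
    have h2 := Subgroup.card_le_of_le hcomm
    rw [hd.cd.card_K (by omega : 1 ≤ n)] at h2
    exact h2
  have hIM := Subgroup.index_mul_card (commutator M)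
  have hpn : p ^ n = p * p ^ (n - 1) := by
    rw [← pow_succ']; congr 1; omega
  have h1 : (commutator G).index * p ^ n ≤ (commutator M).index * p ^ n := by
    rw [hI, ← hMcard, ← hIM, hpn]
    calc (commutator M).index * Nat.card (commutator M) * p
        ≤ (commutator M).index * p ^ (n - 1) * p :=
          Nat.mul_le_mul_right _ (Nat.mul_le_mul_left _ hcM)
      _ = (commutator M).index * (p * p ^ (n - 1)) := by ring
  exact Nat.le_of_mul_le_mul_right h1 (pow_pos hpp.pos n)

end

/-- nonabelian subgroups have the same abelianization order as the whole group -/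
theorem card_eq_index_mul_of_nonabelian {p : ℕ} [hp : Fact p.Prime] (hp2 : p ≠ 2) :
    ∀ (k : ℕ) (G : Type u) [Group G] [Finite G], Nat.card G = k → IsPGroup p G →
      Cfsg.IsMetacyclic G → ∀ R : Subgroup G, ¬ IsMulCommutative R →
      Nat.card R = (commutator G).index * Nat.card ↥⁅R, R⁆ := by
  intro k
  induction k using Nat.strong_induction_on with
  | _ k ih =>
    intro G _ _ hk hG hmc R hR
    have hpp : p.Prime := hp.out
    obtain ⟨a, b, c, n, hd⟩ := exists_mcData hp2 hG hmc
    have hn : n ≠ 0 := by
      rintro rfl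
      apply hR
      apply isMulCommutative_of_commutator_eq_bot
      have h1 := hd.cd.card_commutator
      rw [pow_zero] at h1
      exact Subgroup.card_eq_one.mp h1
    by_cases hRt : R = ⊤
    · rw [hRt, Subgroup.card_top, ← commutator_def]
      exact (Subgroup.index_mul_card _).symm
    obtain ⟨M, hRM, hMidx⟩ := exists_index_eq_prime_of_ne_top hG hRt
    have hMcard := Subgroup.card_mul_index M
    rw [hMidx] at hMcard
    have hMlt : Nat.card M < k := by
      rw [← hk, ← hMcard]
      have hMpos : 0 < Nat.card M := Nat.card_pos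
      nlinarith [hpp.two_le]
    have hR' : ¬ IsMulCommutative (R.subgroupOf M) :=
      fun h => hR (isMulCommutative_of_subgroupOf hRM h)
    have := ih (Nat.card M) hMlt M rfl (hG.to_subgroup M) (isMetacyclic_subgroup hmc M)
      (R.subgroupOf M) hR'
    have hRcard : Nat.card (R.subgroupOf M) = Nat.card R :=
      Nat.card_congr (Subgroup.subgroupOfEquivOfLe hRM).toEquiv
    have hcomm : Nat.card ↥⁅R.subgroupOf M, R.subgroupOf M⁆ = Nat.card ↥⁅R, R⁆ := by
      rw [← Subgroup.card_map_of_injective M.subtype_injective, Subgroup.map_commutator,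
        Subgroup.map_subgroupOf_eq_of_le hRM]
    rw [hRcard, hcomm, hd.index_commutator_of_index hp2 hmc hn hMidx] at this
    exact this

section

variable {G : Type u} [Group G]

theorem index_commutator_of_nonabelian [Finite G] {p : ℕ} [hp : Fact p.Prime] (hp2 : p ≠ 2)
    (hG : IsPGroup p G) (hmc : Cfsg.IsMetacyclic G) {R : Subgroup G}
    (hR : ¬ IsMulCommutative R) : (commutator R).index = (commutator G).index := by
  have h1 := card_eq_index_mul_of_nonabelian hp2 (Nat.card G) G rfl hG hmc R hR
  have h2 := Subgroup.index_mul_card (commutator R)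
  have h3 : Nat.card (commutator R) = Nat.card ↥⁅R, R⁆ := by
    rw [← Subgroup.map_subtype_commutator,
      Subgroup.card_map_of_injective R.subtype_injective]
  rw [h3, h1] at h2
  exact Nat.eq_of_mul_eq_mul_right Nat.card_pos h2

/-- the value of `|R| |Z(R)|` on nonabelian subgroups -/
theorem card_mul_card_center_of_nonabelian [Finite G] {p : ℕ} [hp : Fact p.Prime] (hp2 : p ≠ 2)
    (hG : IsPGroup p G) (hmc : Cfsg.IsMetacyclic G) {R : Subgroup G}
    (hR : ¬ IsMulCommutative R) :
    Nat.card R * Nat.card (Subgroup.center R) = (commutator G).index ^ 2 := by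
  obtain ⟨a, b, c, n, hd⟩ := exists_mcData hp2 (hG.to_subgroup R) (isMetacyclic_subgroup hmc R)
  rw [hd.card_mul_card_center, index_commutator_of_nonabelian hp2 hG hmc hR, pow_two]

theorem card_mul_card_center_of_abelian {R : Subgroup G} (hR : IsMulCommutative R) :
    Nat.card R * Nat.card (Subgroup.center R) = Nat.card R ^ 2 := by
  have h1 : Subgroup.center R = ⊤ := by
    rw [eq_top_iff]
    intro x _
    rw [Subgroup.mem_center_iff]
    intro y
    exact hR.is_comm.comm y x
  rw [h1, Subgroup.card_top, pow_two]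

theorem card_mul_card_center_le [Finite G] {p : ℕ} [hp : Fact p.Prime] (hp2 : p ≠ 2)
    (hG : IsPGroup p G) (hmc : Cfsg.IsMetacyclic G) (R : Subgroup G) :
    Nat.card R * Nat.card (Subgroup.center R) ≤ (commutator G).index ^ 2 := by
  by_cases hR : IsMulCommutative R
  · rw [card_mul_card_center_of_abelian hR]
    exact Nat.pow_le_pow_left ((abelian_iff_card_le hp2 hG hmc R).mp hR) 2
  · exact (card_mul_card_center_of_nonabelian hp2 hG hmc hR).le

theorem maxCentralProduct_eq [Finite G] {p : ℕ} [hp : Fact p.Prime] (hp2 : p ≠ 2)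
    (hG : IsPGroup p G) (hmc : Cfsg.IsMetacyclic G) :
    Cfsg.maxCentralProduct G = (commutator G).index ^ 2 := by
  have hpp : p.Prime := hp.out
  unfold Cfsg.maxCentralProduct
  apply le_antisymm
  · apply csSup_le
    · exact ⟨_, ⊥, rfl⟩
    · rintro k ⟨R, rfl⟩
      exact card_mul_card_center_le hp2 hG hmc R
  · apply le_csSup
    · refine ⟨(commutator G).index ^ 2, ?_⟩
      rintro k ⟨R, rfl⟩
      exact card_mul_card_center_le hp2 hG hmc R
    · obtain ⟨j, hj⟩ : ∃ j, (commutator G).index = p ^ j := by
        have h2 : (commutator G).index ∣ Nat.card G := Subgroup.index_dvd_card _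
        obtain ⟨m, hm⟩ := IsPGroup.iff_card.mp hG
        rw [hm] at h2
        obtain ⟨j, _, hj⟩ := (Nat.dvd_prime_pow hpp).mp h2
        exact ⟨j, hj⟩
      have hdvd : p ^ j ∣ Nat.card G := by
        rw [← hj]; exact Subgroup.index_dvd_card _
      obtain ⟨A, hA⟩ := Sylow.exists_subgroup_card_pow_prime p hdvd
      have hAab : IsMulCommutative A :=
        (abelian_iff_card_le hp2 hG hmc A).mpr (by rw [hA, hj])
      refine ⟨A, ?_⟩
      rw [card_mul_card_center_of_abelian hAab, hA, hj]

theorem isCentrallyLarge_iff [Finite G] {p : ℕ} [hp : Fact p.Prime] (hp2 : p ≠ 2)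
    (hG : IsPGroup p G) (hmc : Cfsg.IsMetacyclic G) (R : Subgroup G) :
    Cfsg.IsCentrallyLarge R ↔
      (¬ IsMulCommutative R ∨ Maximal (fun K : Subgroup G => IsMulCommutative K) R) := by
  unfold Cfsg.IsCentrallyLarge
  rw [maxCentralProduct_eq hp2 hG hmc]
  by_cases hR : IsMulCommutative R
  · rw [card_mul_card_center_of_abelian hR, maximal_abelian_iff hp2 hG hmc R]
    constructor
    · intro h
      right
      exact Nat.pow_left_injective (by norm_num : 2 ≠ 0) h
    · rintro (h | h)
      · exact absurd hR h
      · rw [h]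
  · constructor
    · intro _
      exact Or.inl hR
    · intro _
      exact card_mul_card_center_of_nonabelian hp2 hG hmc hR

end

end Cfsg.Agent.Lib.Helper7.Meta
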