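import Mathlib
import Cfsg.Agent.Lib.Helper7.Meta9

set_option autoImplicit false

/-!
# The Frattini subgroup of a nonabelian metacyclic `p`-group (`p` odd)
-/

namespace Cfsg.Agent.Lib.Helper7.Meta

open scoped commutatorElement

variable {G : Type*} [Group G]

theorem mem_zpowers_pow_of_not_dvd [Finite G] {p : ℕ} [hp : Fact p.Prime] (hG : IsPGroup p G)
    (x : G) {i : ℕ} (hi : ¬ p ∣ i) : x ∈ Subgroup.zpowers (x ^ i) := by
  obtain ⟨k, hk⟩ := IsPGroup.iff_orderOf.mp hG x
  have hcop : i.Coprime (orderOf x) := by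
    rw [hk]
    exact Nat.Coprime.pow_right _ ((Nat.Prime.coprime_iff_not_dvd hp.out).mpr hi).symm
  obtain ⟨m, hm⟩ := exists_pow_eq_self_of_coprime hcop
  have h1 : (x ^ i) ^ m ∈ Subgroup.zpowers (x ^ i) :=
    Subgroup.pow_mem _ (Subgroup.mem_zpowers _) _
  rwa [hm] at h1

theorem isMulCommutative_of_zpowers_eq_top {x : G} (h : Subgroup.zpowers x = ⊤) :
    IsMulCommutative G := by
  refine ⟨⟨fun u v => ?_⟩⟩
  have hu : u ∈ Subgroup.zpowers x := h ▸ Subgroup.mem_top u
  have hv : v ∈ Subgroup.zpowers x := h ▸ Subgroup.mem_top v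
  obtain ⟨i, rfl⟩ := Subgroup.mem_zpowers_iff.mp hu
  obtain ⟨j, rfl⟩ := Subgroup.mem_zpowers_iff.mp hv
  rw [← zpow_add, ← zpow_add, add_comm]

namespace MCData

variable {p : ℕ} [hp : Fact p.Prime] {a b c : G} {n : ℕ}

theorem frattini_eq [Finite G] (hd : MCData p G a b c n) (hna : ¬ IsMulCommutative G) :
    haveI := hd.cd.K_normal 1
    frattini G = cdep (CycDer.K c p 1) := by
  haveI := hd.cd.K_normal 1
  have hpp : p.Prime := hp.out
  have hG := hd.cd.pgroup
  have hn : 1 ≤ n := by
    by_contra hcon
    have hn0 : n = 0 := by omega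
    subst hn0
    apply hna
    have h1 := hd.cd.card_commutator
    rw [pow_zero] at h1
    have h2 : commutator G = ⊥ := Subgroup.card_eq_one.mp h1
    refine ⟨⟨fun x y => ?_⟩⟩
    have h3 : ⁅x, y⁆ ∈ commutator G := by
      rw [commutator_def]
      exact Subgroup.commutator_mem_commutator (Subgroup.mem_top _) (Subgroup.mem_top _)
    rw [h2, Subgroup.mem_bot, commutatorElement_eq_one_iff_mul_comm] at h3
    exact h3
  apply le_antisymm
  · intro g hg
    by_contra hgD
    obtain ⟨i, j, hij⟩ := hd.rep g
    have hagemo := hd.agemo_eq_cdep hn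
    rw [pow_one] at hagemo
    have ha_mem : a ∈ Subgroup.closure ({a, b} : Set G) :=
      Subgroup.subset_closure (Set.mem_insert a {b})
    have hb_mem : b ∈ Subgroup.closure ({a, b} : Set G) :=
      Subgroup.subset_closure (Set.mem_insert_of_mem a (Set.mem_singleton b))
    by_cases hi : p ∣ i
    · have hj : ¬ p ∣ j := by
        intro hj
        obtain ⟨i', rfl⟩ := hi
        obtain ⟨j', rfl⟩ := hj
        apply hgD
        rw [← hagemo, hij, mul_comm p i', mul_comm p j', pow_mul, pow_mul]
        exact Subgroup.mul_mem _ (pow_mem_agemo p _) (pow_mem_agemo p _)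
      -- `⟨a⟩` and `g` generate
      have htop : Subgroup.zpowers a ⊔ frattini G = ⊤ := by
        rw [eq_top_iff, ← hd.gen, Subgroup.closure_le]
        have hamem : a ∈ Subgroup.zpowers a ⊔ frattini G :=
          Subgroup.mem_sup_left (Subgroup.mem_zpowers a)
        have hgmem : g ∈ Subgroup.zpowers a ⊔ frattini G := Subgroup.mem_sup_right hg
        have hbj : b ^ j ∈ Subgroup.zpowers a ⊔ frattini G := by
          have h1 : b ^ j = (a ^ i)⁻¹ * g := by rw [hij]; group
          rw [h1]
          exact Subgroup.mul_mem _ (Subgroup.inv_mem _ (Subgroup.pow_mem _ hamem _)) hgmem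
        have hbmem : b ∈ Subgroup.zpowers a ⊔ frattini G :=
          (Subgroup.zpowers_le.mpr hbj) (mem_zpowers_pow_of_not_dvd hG b hj)
        intro s hs
        have hs' : s = a ∨ s = b := by simpa using hs
        rcases hs' with rfl | rfl
        · exact hamem
        · exact hbmem
      have := frattini_nongenerating htop
      exact hna (isMulCommutative_of_zpowers_eq_top this)
    · have htop : Subgroup.zpowers b ⊔ frattini G = ⊤ := by
        rw [eq_top_iff, ← hd.gen, Subgroup.closure_le]
        have hbmem : b ∈ Subgroup.zpowers b ⊔ frattini G :=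
          Subgroup.mem_sup_left (Subgroup.mem_zpowers b)
        have hgmem : g ∈ Subgroup.zpowers b ⊔ frattini G := Subgroup.mem_sup_right hg
        have hai : a ^ i ∈ Subgroup.zpowers b ⊔ frattini G := by
          have h1 : a ^ i = g * (b ^ j)⁻¹ := by rw [hij]; group
          rw [h1]
          exact Subgroup.mul_mem _ hgmem (Subgroup.inv_mem _ (Subgroup.pow_mem _ hbmem _))
        have hamem : a ∈ Subgroup.zpowers b ⊔ frattini G :=
          (Subgroup.zpowers_le.mpr hai) (mem_zpowers_pow_of_not_dvd hG a hi)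
        intro s hs
        have hs' : s = a ∨ s = b := by simpa using hs
        rcases hs' with rfl | rfl
        · exact hamem
        · exact hbmem
      have := frattini_nongenerating htop
      exact hna (isMulCommutative_of_zpowers_eq_top this)
  · unfold frattini Order.radical
    apply le_iInf₂
    intro M hM
    obtain ⟨M₁, hMM₁, hM₁idx⟩ := exists_index_eq_prime_of_ne_top hG hM.1
    have hM₁top : M₁ ≠ ⊤ := by
      intro h
      rw [h, Subgroup.index_top] at hM₁idx
      exact hpp.one_lt.ne hM₁idx
    have hMeq : M = M₁ := by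
      by_contra hne
      exact hM₁top (hM.2 M₁ (lt_of_le_of_ne hMM₁ hne))
    rw [hMeq]
    exact hd.cdep_le_of_index hn hM₁idx

end MCData

end Cfsg.Agent.Lib.Helper7.Meta
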