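import Mathlib
import Cfsg.Agent.Lib.Helper7.Meta10

set_option autoImplicit false

/-!
# Factorisation of a metacyclic `p`-group (`p` odd) as a product of two cyclic subgroups
with trivial intersection
-/

namespace Cfsg.Agent.Lib.Helper7.Meta

open scoped commutatorElement

variable {G : Type*} [Group G]

/-- conjugation acts on a normal cyclic subgroup of a `p`-group by a power `≡ 1 (mod p)` -/
theorem exists_action_of_normal [Finite G] {p : ℕ} [hp : Fact p.Prime] (hG : IsPGroup p G)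
    {a : G} (hN : (Subgroup.zpowers a).Normal) (x : G) :
    ∃ σ : ℕ, σ % p = 1 ∧ ∀ z ∈ Subgroup.zpowers a, x * z * x⁻¹ = z ^ σ := by
  have hp1 : 1 % p = 1 := Nat.one_mod_eq_one.mpr hp.out.one_lt.ne'
  by_cases hc1 : a = 1
  · refine ⟨1, hp1, ?_⟩
    intro z hz
    rw [hc1, Subgroup.zpowers_one_eq_bot, Subgroup.mem_bot] at hz
    rw [hz]; simp
  have hmem : x * a * x⁻¹ ∈ Subgroup.zpowers a := hN.conj_mem a (Subgroup.mem_zpowers a) x
  rw [← mem_powers_iff_mem_zpowers] at hmem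
  obtain ⟨σ, hσ⟩ := (Submonoid.mem_powers_iff _ _).mp hmem
  have hconj : ∀ z ∈ Subgroup.zpowers a, x * z * x⁻¹ = z ^ σ := by
    intro z hz
    obtain ⟨k, rfl⟩ := Subgroup.mem_zpowers_iff.mp hz
    rw [← zpow_natCast, ← zpow_mul, mul_comm, zpow_mul, zpow_natCast, hσ]
    exact (conj_zpow (a := x) (b := a) (i := k)).symm ▸ rfl
  refine ⟨σ, ?_, hconj⟩
  have hiter : ∀ k : ℕ, x ^ k * a * (x ^ k)⁻¹ = a ^ σ ^ k := by
    intro k
    induction k with
    | zero => simp
    | succ k ih =>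
      have h1 : x ^ (k + 1) * a * (x ^ (k + 1))⁻¹ = x * (x ^ k * a * (x ^ k)⁻¹) * x⁻¹ := by
        rw [pow_succ']; group
      rw [h1, ih, hconj _ (Subgroup.pow_mem _ (Subgroup.mem_zpowers a) _), ← pow_mul, pow_succ]
  obtain ⟨f, hf⟩ := hG x
  have h2 := hiter (p ^ f)
  rw [hf] at h2
  simp only [one_mul, inv_one, mul_one] at h2
  obtain ⟨m, hm⟩ := IsPGroup.iff_orderOf.mp hG a
  have hm0 : m ≠ 0 := by
    intro hm0
    apply hc1
    rw [hm0, pow_zero, orderOf_eq_one_iff] at hm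
    exact hm
  have h3 : (σ ^ p ^ f) ≡ 1 [MOD orderOf a] := by
    rw [← pow_eq_pow_iff_modEq, pow_one]
    exact h2.symm
  have h4 : (σ ^ p ^ f) ≡ 1 [MOD p] := by
    apply h3.of_dvd
    rw [hm]
    exact dvd_pow_self p hm0
  have h5 : ((σ : ZMod p)) ^ p ^ f = 1 := by
    have := (ZMod.natCast_eq_natCast_iff _ _ _).mpr h4
    push_cast at this
    exact this
  rw [ZMod.pow_card_pow] at h5
  have h6 : (σ : ZMod p) = ((1 : ℕ) : ZMod p) := by rw [h5]; simp
  have h7 := (ZMod.natCast_eq_natCast_iff' _ _ _).mp h6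
  rw [h7, hp1]

/-- the power formula `(z x)^k = z^(1 + ρ + ⋯ + ρ^(k-1)) x^k` -/
theorem mul_pow_of_action {H : Subgroup G} {x : G} {ρ : ℕ}
    (hρ : ∀ z ∈ H, x * z * x⁻¹ = z ^ ρ) {z : G} (hz : z ∈ H) (k : ℕ) :
    (z * x) ^ k = z ^ gs ρ k * x ^ k := by
  induction k with
  | zero => simp [gs_zero]
  | succ k ih =>
    have h1 : (z * x) ^ (k + 1) = z * (x * z ^ gs ρ k * x⁻¹) * x ^ (k + 1) := by
      rw [pow_succ', ih, pow_succ']; group
    rw [h1, hρ _ (H.pow_mem hz _), ← pow_mul, ← pow_succ', gs_succ]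
    congr 2
    ring

theorem exists_gs_eq [Finite G] {p : ℕ} [hp : Fact p.Prime] (hp2 : p ≠ 2) {ρ : ℕ}
    (hρ : ρ % p = 1) (e : ℕ) : ∃ u : ℕ, gs ρ (p ^ e) = p ^ e * u ∧ ¬ p ∣ u := by
  obtain ⟨u, hu⟩ := (pow_dvd_gs_iff hp2 hρ e (p ^ e)).mpr dvd_rfl
  refine ⟨u, hu, ?_⟩
  rintro ⟨u', rfl⟩
  have h1 : p ^ (e + 1) ∣ gs ρ (p ^ e) := by
    rw [hu, pow_succ]
    exact ⟨u', by ring⟩
  have h2 := (pow_dvd_gs_iff hp2 hρ (e + 1) (p ^ e)).mp h1
  have h3 := (Nat.pow_dvd_pow_iff_le_right hp.out.one_lt).mp h2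
  omega

/-- `x^(p^e)` is a power of `x^(gs ρ (p^e))` -/
theorem pow_mem_zpowers_pow_gs [Finite G] {p : ℕ} [hp : Fact p.Prime] (hp2 : p ≠ 2)
    (hG : IsPGroup p G) {ρ : ℕ} (hρ : ρ % p = 1) (x : G) (e : ℕ) :
    x ^ p ^ e ∈ Subgroup.zpowers (x ^ gs ρ (p ^ e)) := by
  obtain ⟨u, hu, hpu⟩ := exists_gs_eq (G := G) hp2 hρ e
  rw [hu, pow_mul]
  exact mem_zpowers_pow_of_not_dvd hG _ hpu

theorem dvd_of_pow_mem_zpowers_pow [Finite G] {a : G} {W e : ℕ} (hW : W ∣ orderOf a)
    (h : a ^ e ∈ Subgroup.zpowers (a ^ W)) : W ∣ e := by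
  rw [← mem_powers_iff_mem_zpowers] at h
  obtain ⟨k, hk⟩ := (Submonoid.mem_powers_iff _ _).mp h
  rw [← pow_mul, pow_eq_pow_iff_modEq] at hk
  exact (hk.dvd_iff hW).mp (Dvd.intro _ rfl)

/-- the factorisation theorem -/
theorem exists_cyclic_factorisation [Finite G] {p : ℕ} [hp : Fact p.Prime] (hp2 : p ≠ 2)
    (hG : IsPGroup p G) {a b : G} (hN : (Subgroup.zpowers a).Normal)
    (hrep : ∀ g : G, ∃ i j : ℕ, g = a ^ i * b ^ j) :
    ∃ A B : Subgroup G, IsCyclic A ∧ IsCyclic B ∧ A ⊓ B = ⊥ ∧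
      Nat.card A * Nat.card B = Nat.card G := by
  have hpp : p.Prime := hp.out
  haveI := hN
  set N := Subgroup.zpowers a with hNdef
  set T := orderOf (QuotientGroup.mk b : G ⧸ N) with hT
  obtain ⟨t, ht⟩ := IsPGroup.iff_orderOf.mp (hG.to_quotient N) (QuotientGroup.mk b : G ⧸ N)
  rw [← hT] at ht
  have hTpos : 0 < T := by rw [ht]; exact pow_pos hpp.pos t
  have hbN : ∀ j : ℕ, b ^ j ∈ N ↔ T ∣ j := by
    intro j
    rw [← QuotientGroup.eq_one_iff, QuotientGroup.mk_pow, hT, orderOf_dvd_iff_pow_eq_one]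
  have hQcard : Nat.card (G ⧸ N) = T := by
    rw [hT]
    symm
    apply orderOf_eq_card_of_forall_mem_zpowers
    intro q
    obtain ⟨g, rfl⟩ := QuotientGroup.mk_surjective q
    obtain ⟨i, j, rfl⟩ := hrep g
    have h1 : (QuotientGroup.mk (a ^ i * b ^ j) : G ⧸ N) = (QuotientGroup.mk b) ^ j := by
      rw [QuotientGroup.mk_mul, QuotientGroup.mk_pow, QuotientGroup.mk_pow,
        (QuotientGroup.eq_one_iff a).mpr (Subgroup.mem_zpowers a), one_pow, one_mul]
    rw [h1]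
    exact Subgroup.pow_mem _ (Subgroup.mem_zpowers _) _
  have hGcard : Nat.card G = T * orderOf a := by
    rw [Subgroup.card_eq_card_quotient_mul_card_subgroup N, hQcard, Nat.card_zpowers]
  have hbT : b ^ T ∈ N := (hbN T).mpr dvd_rfl
  -- order of elements congruent to `b` modulo `N`
  have hord_dvd : ∀ z ∈ N, T ∣ orderOf (z * b) := by
    intro z hz
    have h1 : (QuotientGroup.mk (z * b) : G ⧸ N) = QuotientGroup.mk b := by
      rw [QuotientGroup.mk_mul, (QuotientGroup.eq_one_iff z).mpr hz, one_mul]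
    rw [hT, ← h1]
    apply orderOf_dvd_of_pow_eq_one
    rw [← QuotientGroup.mk_pow, pow_orderOf_eq_one, QuotientGroup.mk_one]
  by_cases hcase : b ^ T ∈ Subgroup.zpowers (a ^ T)
  · -- the split case
    obtain ⟨ρ, hρ1, hρ⟩ := exists_action_of_normal hG hN b
    have h1 : a ^ T ∈ Subgroup.zpowers (a ^ gs ρ T) := by
      rw [ht]; exact pow_mem_zpowers_pow_gs hp2 hG hρ1 a t
    have h2 : (b ^ T)⁻¹ ∈ Subgroup.zpowers (a ^ gs ρ T) :=
      Subgroup.inv_mem _ ((Subgroup.zpowers_le.mpr h1) hcase)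
    rw [← mem_powers_iff_mem_zpowers] at h2
    obtain ⟨c, hc⟩ := (Submonoid.mem_powers_iff _ _).mp h2
    set z := a ^ c with hz
    have hzN : z ∈ N := Subgroup.pow_mem _ (Subgroup.mem_zpowers a) c
    set b₁ := z * b with hb₁
    have hb₁T : b₁ ^ T = 1 := by
      rw [hb₁, mul_pow_of_action hρ hzN T, hz, ← pow_mul, mul_comm c, pow_mul, hc]
      group
    have hb₁ord : orderOf b₁ = T :=
      Nat.dvd_antisymm (orderOf_dvd_of_pow_eq_one hb₁T) (hord_dvd z hzN)
    have hb₁N : ∀ k : ℕ, b₁ ^ k ∈ N → T ∣ k := by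
      intro k hk
      have h3 : (QuotientGroup.mk b₁ : G ⧸ N) = QuotientGroup.mk b := by
        rw [hb₁, QuotientGroup.mk_mul, (QuotientGroup.eq_one_iff z).mpr hzN, one_mul]
      rw [← QuotientGroup.eq_one_iff, QuotientGroup.mk_pow, h3] at hk
      rw [hT]
      exact orderOf_dvd_of_pow_eq_one hk
    refine ⟨N, Subgroup.zpowers b₁, inferInstance, inferInstance, ?_, ?_⟩
    · rw [eq_bot_iff]
      intro x hx
      obtain ⟨hxN, hxB⟩ := Subgroup.mem_inf.mp hx
      rw [← mem_powers_iff_mem_zpowers] at hxB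
      obtain ⟨k, rfl⟩ := (Submonoid.mem_powers_iff _ _).mp hxB
      obtain ⟨k', rfl⟩ := hb₁N k hxN
      rw [Subgroup.mem_bot, pow_mul, hb₁T, one_pow]
    · rw [Nat.card_zpowers, Nat.card_zpowers, hb₁ord, hGcard, mul_comm]
  · -- the non-split case
    have hbT1 : b ^ T ≠ 1 := by
      intro h
      apply hcase
      rw [h]
      exact Subgroup.one_mem _
    have hbT' := hbT
    rw [hNdef, ← mem_powers_iff_mem_zpowers] at hbT'
    obtain ⟨w, hw⟩ := (Submonoid.mem_powers_iff _ _).mp hbT'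
    have hw0 : w ≠ 0 := by
      rintro rfl
      rw [pow_zero] at hw
      exact hbT1 hw.symm
    obtain ⟨ω, w', hpw', hww'⟩ := Nat.exists_eq_pow_mul_and_not_dvd hw0 p hpp.ne_one
    set W := p ^ ω with hW
    -- `ω < t`
    have hωt : ω < t := by
      by_contra hle
      push Not at hle
      apply hcase
      rw [← hw, hww', ht]
      obtain ⟨d, hd⟩ := pow_dvd_pow p hle
      have hd' : W = p ^ t * d := by rw [hW]; exact hd
      rw [hd', mul_assoc, pow_mul]
      exact Subgroup.pow_mem _ (Subgroup.mem_zpowers _) _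
    obtain ⟨m, hm⟩ := IsPGroup.iff_orderOf.mp hG a
    have hωm : ω < m := by
      by_contra hle
      push Not at hle
      apply hbT1
      rw [← hw, hww']
      obtain ⟨d, hd⟩ := pow_dvd_pow p hle
      have hd' : W = p ^ m * d := by rw [hW]; exact hd
      rw [hd', mul_assoc, pow_mul, ← hm, pow_orderOf_eq_one, one_pow]
    have hWord : W ∣ orderOf a := by
      rw [hm]; exact pow_dvd_pow p hωm.le
    have hpWord : p * W ∣ orderOf a := by
      rw [hm, hW, ← pow_succ']; exact pow_dvd_pow p hωm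
    -- `⟨b^T⟩ = ⟨a^W⟩`
    have hD : Subgroup.zpowers (b ^ T) = Subgroup.zpowers (a ^ W) := by
      apply le_antisymm
      · rw [Subgroup.zpowers_le, ← hw, hww', pow_mul]
        exact Subgroup.pow_mem _ (Subgroup.mem_zpowers _) _
      · rw [Subgroup.zpowers_le, ← hw, hww', pow_mul]
        exact mem_zpowers_pow_of_not_dvd hG _ hpw'
    set j := p ^ (t - ω) with hj
    have hWj : j * W = T := by
      rw [hj, hW, ht, ← pow_add]; congr 1; omega
    set x := b ^ j with hx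
    obtain ⟨ρ, hρ1, hρ⟩ := exists_action_of_normal hG hN x
    have h1 : a ^ W ∈ Subgroup.zpowers (a ^ gs ρ W) := pow_mem_zpowers_pow_gs hp2 hG hρ1 a ω
    have h2 : (b ^ T)⁻¹ ∈ Subgroup.zpowers (a ^ gs ρ W) := by
      apply Subgroup.inv_mem
      apply Subgroup.zpowers_le.mpr h1
      rw [← hD]
      exact Subgroup.mem_zpowers _
    rw [← mem_powers_iff_mem_zpowers] at h2
    obtain ⟨i, hi⟩ := (Submonoid.mem_powers_iff _ _).mp h2
    obtain ⟨u, hu, hpu⟩ := exists_gs_eq (G := G) hp2 hρ1 ω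
    -- `p ∤ i`
    have hpi : ¬ p ∣ i := by
      rintro ⟨i', rfl⟩
      have h3 : (b ^ T)⁻¹ ∈ Subgroup.zpowers (a ^ (p * W)) := by
        rw [← hi, ← pow_mul, hu, ← hW]
        have : W * u * (p * i') = (p * W) * (u * i') := by ring
        rw [this, pow_mul a (p * W)]
        exact Subgroup.pow_mem _ (Subgroup.mem_zpowers _) _
      have h4 : a ^ W ∈ Subgroup.zpowers (a ^ (p * W)) := by
        have h5 : Subgroup.zpowers (b ^ T) ≤ Subgroup.zpowers (a ^ (p * W)) := by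
          rw [Subgroup.zpowers_le]
          have := Subgroup.inv_mem _ h3
          rwa [inv_inv] at this
        rw [hD] at h5
        exact h5 (Subgroup.mem_zpowers _)
      have h6 := dvd_of_pow_mem_zpowers_pow hpWord h4
      have hWpos : 0 < W := pow_pos hpp.pos ω
      have := Nat.le_of_dvd hWpos h6
      nlinarith [hpp.two_le]
    set z := a ^ i with hz
    have hzN : z ∈ N := Subgroup.pow_mem _ (Subgroup.mem_zpowers a) i
    set y := z * x with hy
    have hypow : ∀ k : ℕ, y ^ k = a ^ (i * gs ρ k) * b ^ (j * k) := by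
      intro k
      rw [hy, mul_pow_of_action hρ hzN k, hz, hx, ← pow_mul, ← pow_mul]
    have hyW : y ^ W = 1 := by
      rw [hypow, hWj, mul_comm i, pow_mul, hi]
      group
    -- `⟨b⟩ ∩ N = ⟨a^W⟩`
    have hbNW : ∀ g : G, g ∈ Subgroup.zpowers b → g ∈ N → g ∈ Subgroup.zpowers (a ^ W) := by
      intro g hgb hgN
      rw [← mem_powers_iff_mem_zpowers] at hgb
      obtain ⟨l, rfl⟩ := (Submonoid.mem_powers_iff _ _).mp hgb
      obtain ⟨l', rfl⟩ := (hbN l).mp hgN
      rw [← hD, pow_mul]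
      exact Subgroup.pow_mem _ (Subgroup.mem_zpowers _) _
    have hykey : ∀ k : ℕ, y ^ k ∈ Subgroup.zpowers b → W ∣ k := by
      intro k hk
      rw [hypow] at hk
      have h3 : a ^ (i * gs ρ k) ∈ Subgroup.zpowers b := by
        have h4 : a ^ (i * gs ρ k) = a ^ (i * gs ρ k) * b ^ (j * k) * (b ^ (j * k))⁻¹ := by group
        rw [h4]
        exact Subgroup.mul_mem _ hk
          (Subgroup.inv_mem _ (Subgroup.pow_mem _ (Subgroup.mem_zpowers b) _))
      have h5 := hbNW _ h3 (Subgroup.pow_mem _ (Subgroup.mem_zpowers a) _)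
      have h6 := dvd_of_pow_mem_zpowers_pow hWord h5
      have hcop : Nat.Coprime W i := by
        rw [hW]
        exact Nat.Coprime.pow_left _ ((Nat.Prime.coprime_iff_not_dvd hpp).mpr hpi)
      have h7 : W ∣ gs ρ k := hcop.dvd_of_dvd_mul_left h6
      exact (pow_dvd_gs_iff hp2 hρ1 ω k).mp h7
    have hyord : orderOf y = W :=
      Nat.dvd_antisymm (orderOf_dvd_of_pow_eq_one hyW)
        (hykey _ (by rw [pow_orderOf_eq_one]; exact Subgroup.one_mem _))
    refine ⟨Subgroup.zpowers b, Subgroup.zpowers y, inferInstance, inferInstance, ?_, ?_⟩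
    · rw [eq_bot_iff]
      intro g hg
      obtain ⟨hgb, hgy⟩ := Subgroup.mem_inf.mp hg
      rw [← mem_powers_iff_mem_zpowers] at hgy
      obtain ⟨k, rfl⟩ := (Submonoid.mem_powers_iff _ _).mp hgy
      obtain ⟨k', rfl⟩ := hykey k hgb
      rw [Subgroup.mem_bot, pow_mul, hyW, one_pow]
    · rw [Nat.card_zpowers, Nat.card_zpowers, hyord, hGcard]
      have hTb : T ∣ orderOf b := by
        have := hord_dvd 1 (Subgroup.one_mem _)
        rwa [one_mul] at this
      have h3 : orderOf (b ^ T) = orderOf b / T := orderOf_pow_of_dvd hTpos.ne' hTb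
      have h4 : orderOf (a ^ W) = orderOf a / W :=
        orderOf_pow_of_dvd (pow_pos hpp.pos ω).ne' hWord
      have h5 : orderOf (b ^ T) = orderOf (a ^ W) := by
        rw [← Nat.card_zpowers, hD, Nat.card_zpowers]
      obtain ⟨q, hq⟩ := hTb
      obtain ⟨q', hq'⟩ := hWord
      rw [hq, Nat.mul_div_cancel_left _ hTpos] at h3
      rw [hq', Nat.mul_div_cancel_left _ (pow_pos hpp.pos ω)] at h4
      rw [hq, hq', ← h4, ← h5, h3]
      ring

end Cfsg.Agent.Lib.Helper7.Meta
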