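import Mathlib
import Cfsg.Agent.Lib.Helper2.OrthElC
import Cfsg.Agent.Lib.Helper5.OrthCls5

/-!
S5973 / S5987 (Ω⁺ / Ω⁻ on totally singular `m`-spaces): hub definitions.
`FixTS Q y m`: `y` leaves invariant a totally singular `m`-space;
`Par n i t plus τ β α γ`: the admissible parameter tuples of an isometry of odd prime order
(`τ` = Witt index of the fixed space, `α ∈ {0, 2}` = dimension of its anisotropic kernel,
`β` = number of "double blocks", `γ` = number of single nondegenerate irreducible blocks);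
`Good m i τ β`: `m = w₀ + i t'` with `w₀ ≤ τ`, `t' ≤ β`.
-/

set_option autoImplicit false

namespace Cfsg.Agent.Lib.Helper7.TSO

open Module QuadraticMap

variable {F V : Type*} [Field F] [AddCommGroup V] [Module F V]

/-- `y` leaves invariant a totally singular subspace of dimension `m` -/
def FixTS (Q : QuadraticForm F V) (y : V →ₗ[F] V) (m : ℕ) : Prop :=
  ∃ W : Submodule F V, finrank F W = m ∧ (∀ w ∈ W, Q w = 0) ∧ ∀ w ∈ W, y w ∈ W

/-- the admissible parameter tuples -/
def Par (n i t : ℕ) (plus : Prop) (τ β α γ : ℕ) : Prop :=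
  n = 2 * τ + 2 * i * β + α + i * γ ∧ (α = 0 ∨ α = 2) ∧ γ ≤ t ∧ (Odd i → γ = 0) ∧
    1 ≤ 2 * β + γ ∧ (plus ↔ (α = 0 ↔ Even γ))

/-- `m` is representable -/
def Good (m i τ β : ℕ) : Prop := ∃ w₀ t', w₀ ≤ τ ∧ t' ≤ β ∧ m = w₀ + i * t'

end Cfsg.Agent.Lib.Helper7.TSO
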