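import Mathlib
import Cfsg.Agent.Lib.Helper8.WardB

set_option autoImplicit false
set_option linter.unusedSectionVars false

/-! Package P-L of the S4305 swarm: the hyperplane lemmas (L-proj) and (L-star). -/

namespace Cfsg.Agent.Lib.Helper7.S3L

open Cfsg.Agent.Lib.Helper8.SBS Cfsg.Agent.Lib.Helper8.Ward

universe u w

variable {V : Type u} [AddCommGroup V] [Finite V] {T : Type w} [Group T] [Finite T]
  [DistribMulAction T V]

/-- in a finite group, `a Q₀ a⁻¹ ⊆ Q₀` means `a ∈ N(Q₀)` -/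
theorem mem_normalizer_of_conj_mem {Q₀ : Subgroup T} {a : T} (h : ∀ x ∈ Q₀, a * x * a⁻¹ ∈ Q₀) :
    a ∈ Subgroup.normalizer (Q₀ : Set T) := by
  have e : conjSub a Q₀ = Q₀ := conjSub_eq_self h
  rw [Subgroup.mem_normalizer_iff]
  intro x
  constructor
  · exact h x
  · intro hx
    rw [← e, mem_conjSub] at hx
    have : a⁻¹ * (a * x * a⁻¹) * a = x := by group
    rwa [this] at hx

/-- **(L-proj)** -/
theorem l_proj {q : ℕ} [hq : Fact q.Prime] (Q A : Subgroup T)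
    (hQc : ∀ x ∈ Q, ∀ y ∈ Q, x * y = y * x)
    (hAQ : ∀ a ∈ A, ∀ x ∈ Q, a * x * a⁻¹ ∈ Q) (hQ0 : fixedPts (V := V) Q = ⊥)
    (hcopQ : (Nat.card V).Coprime (Nat.card Q)) (hcopA : (Nat.card V).Coprime (Nat.card A))
    (Q₀ : Subgroup T) (hQ₀ : Q₀ ≤ Q) (hcard : Nat.card Q₀ * q = Nat.card Q)
    (v : V) (hv0 : v ≠ 0) (hvQ : v ∈ fixedPts (V := V) Q₀)
    (hvA : ∀ a ∈ A, (∀ x ∈ Q₀, a * x * a⁻¹ ∈ Q₀) → a • v = v) :
    ∃ w : V, w ≠ 0 ∧ ∀ a ∈ A, a • w = w := by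
  classical
  refine ⟨nu A v, ?_, fun a ha => smul_nu_of_mem ha v⟩
  intro h0
  have : Fintype A := Fintype.ofFinite A
  set N := Subgroup.normalizer (Q₀ : Set T) with hN
  have hK : IsHyp (V := V) q Q Q₀ :=
    ⟨hQ₀, hcard, fun h => hv0 (by rw [h, AddSubgroup.mem_bot] at hvQ; exact hvQ)⟩
  have hterm : ∀ a : A, nu Q₀ ((a : T) • v) =
      if (a : T) ∈ N then Nat.card Q₀ • v else 0 := by
    intro a
    split_ifs with hn
    · have hn' : ∀ x ∈ Q₀, (a : T) * x * (a : T)⁻¹ ∈ Q₀ := fun x hx =>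
        (Subgroup.mem_normalizer_iff.mp hn x).mp hx
      rw [hvA a a.2 hn']
      exact nu_of_mem_fixedPts hvQ
    · have hconjQ : conjSub (a : T) Q = Q := conjSub_eq_self (hAQ a a.2)
      have hK' : IsHyp (V := V) q Q (conjSub (a : T) Q₀) := by
        refine ⟨?_, ?_, ?_⟩
        · have := conjSub_le (t := (a : T)) hQ₀
          rwa [hconjQ] at this
        · rw [card_conjSub, hcard]
        · intro hb
          apply hv0
          have h4 := smul_mem_fixedPts_conjSub hvQ (a : T)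
          rw [hb, AddSubgroup.mem_bot] at h4
          have : (a : T)⁻¹ • (a : T) • v = (a : T)⁻¹ • (0 : V) := by rw [h4]
          rwa [inv_smul_smul, smul_zero] at this
      have hne : Q₀ ≠ conjSub (a : T) Q₀ := by
        intro e
        apply hn
        apply mem_normalizer_of_conj_mem
        intro x hx
        rw [e, mem_conjSub]
        have : (a : T)⁻¹ * ((a : T) * x * (a : T)⁻¹) * (a : T) = x := by group
        rw [this]; exact hx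
      exact nu_eq_zero_of_ne hQc hQ0 hK hK' hne (smul_mem_fixedPts_conjSub hvQ (a : T))
  have h1 : nu Q₀ (nu A v) = ∑ a : A, nu Q₀ ((a : T) • v) := by rw [nu_eq_sum A, nu_sum]
  rw [h0, nu_zero] at h1
  simp_rw [hterm] at h1
  rw [Finset.sum_ite, Finset.sum_const_zero, add_zero, Finset.sum_const] at h1
  -- the number of `a ∈ A` normalizing `Q₀`
  have hm : (Finset.univ.filter (fun a : A => (a : T) ∈ N)).card = Nat.card (N.subgroupOf A) := by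
    rw [Nat.card_eq_fintype_card, Fintype.card_subtype]
    rfl
  rw [hm, ← mul_smul] at h1
  have hcop : (Nat.card V).Coprime (Nat.card (N.subgroupOf A) * Nat.card Q₀) := by
    apply Nat.Coprime.mul_right
    · exact Nat.Coprime.coprime_dvd_right (Subgroup.card_subgroup_dvd_card _) hcopA
    · exact Nat.Coprime.coprime_dvd_right (Subgroup.card_dvd_of_le hQ₀) hcopQ
  exact hv0 (eq_zero_of_nsmul_eq_zero hcop h1.symm)

section frob

/-- the fixed-point lemma on a hyperplane: if `a` of prime order `s` normalizes the abelian group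
`Q` and its hyperplane `Q₀`, acts non-trivially on `Q / Q₀`, and `C_V(Q) = 0`, then `a` has a
non-zero fixed point on `C_V(Q₀) ≠ 0`. -/
theorem exists_fixed_of_hyp {q s : ℕ} (hq : q.Prime) (hs : s.Prime) (Q Q₀ : Subgroup T)
    (hQc : ∀ x ∈ Q, ∀ y ∈ Q, x * y = y * x) (hQ0 : fixedPts (V := V) Q = ⊥)
    (hcopQ : (Nat.card V).Coprime (Nat.card Q))
    (hQ₀ : Q₀ ≤ Q) (hcard : Nat.card Q₀ * q = Nat.card Q)
    (a : T) (has : a ^ s = 1) (haQ : ∀ x ∈ Q, a * x * a⁻¹ ∈ Q) (haQ₀ : ∀ x ∈ Q₀, a * x * a⁻¹ ∈ Q₀)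
    (hcop : ∀ z ∈ Q, z ^ s = 1 → z = 1)
    (x₁ : T) (hx₁ : x₁ ∈ Q) (hx₁' : x₁⁻¹ * (a * x₁ * a⁻¹) ∉ Q₀)
    (n : V) (hn : n ∈ fixedPts (V := V) Q₀) (hn0 : n ≠ 0) :
    ∃ v ∈ fixedPts (V := V) Q₀, v ≠ 0 ∧ a • v = v := by
  classical
  by_contra hcon
  have hW0 : ∀ v ∈ fixedPts (V := V) Q₀, a • v = v → v = 0 := by
    intro v hv hav
    by_contra hv0
    exact hcon ⟨v, hv, hv0, hav⟩
  -- the hom δ
  let δ : Q →* T :=
    { toFun := fun z => (z : T)⁻¹ * (a * z * a⁻¹)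
      map_one' := by simp
      map_mul' := by
        intro x y
        have hx' : a * (x : T) * a⁻¹ ∈ Q := haQ x x.2
        have c1 : (y : T)⁻¹ * (x : T)⁻¹ = (x : T)⁻¹ * (y : T)⁻¹ :=
          (hQc _ (Q.inv_mem y.2) _ (Q.inv_mem x.2))
        have c2 : (y : T)⁻¹ * (a * x * a⁻¹) = (a * x * a⁻¹) * (y : T)⁻¹ :=
          hQc _ (Q.inv_mem y.2) _ hx'
        show ((x : T) * (y : T))⁻¹ * (a * ((x : T) * (y : T)) * a⁻¹) =
          ((x : T)⁻¹ * (a * x * a⁻¹)) * ((y : T)⁻¹ * (a * y * a⁻¹))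
        calc ((x : T) * (y : T))⁻¹ * (a * ((x : T) * (y : T)) * a⁻¹)
            = ((y : T)⁻¹ * (x : T)⁻¹) * ((a * x * a⁻¹) * (a * y * a⁻¹)) := by group
          _ = (x : T)⁻¹ * ((y : T)⁻¹ * (a * x * a⁻¹)) * (a * y * a⁻¹) := by rw [c1]; group
          _ = (x : T)⁻¹ * ((a * x * a⁻¹) * (y : T)⁻¹) * (a * y * a⁻¹) := by rw [c2]
          _ = ((x : T)⁻¹ * (a * x * a⁻¹)) * ((y : T)⁻¹ * (a * y * a⁻¹)) := by group }
  have hδ : ∀ z : Q, δ z = (z : T)⁻¹ * (a * z * a⁻¹) := fun z => rfl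
  let Z1 : Subgroup T := δ.range
  have hZ1Q : Z1 ≤ Q := by
    rintro _ ⟨z, rfl⟩
    rw [hδ]
    exact Q.mul_mem (Q.inv_mem z.2) (haQ z z.2)
  have haZ1 : ∀ z ∈ Z1, a * z * a⁻¹ ∈ Z1 := by
    rintro _ ⟨z, rfl⟩
    refine ⟨⟨a * z * a⁻¹, haQ z z.2⟩, ?_⟩
    rw [hδ, hδ]
    show (a * (z : T) * a⁻¹)⁻¹ * (a * (a * (z : T) * a⁻¹) * a⁻¹) =
      a * ((z : T)⁻¹ * (a * z * a⁻¹)) * a⁻¹
    group
  have hfix : ∀ j, 0 < j → j < s → ∀ z ∈ Z1, a ^ j * z = z * a ^ j → z = 1 := by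
    rintro j hj0 hjs _ ⟨z, rfl⟩ hcomm
    rw [hδ] at hcomm ⊢
    have h1 : (z : T)⁻¹ * (a * z * a⁻¹) * a = a * ((z : T)⁻¹ * (a * z * a⁻¹)) :=
      commute_of_commute_pow hs has hj0 hjs hcomm.symm
    exact comm_fix_trivial haQ has hcop z.2 h1.symm
  have hZ1Y : ¬ Z1 ≤ Q₀ := fun h => hx₁' (h ⟨⟨x₁, hx₁⟩, rfl⟩)
  have hsup : Q₀ ⊔ Z1 = Q := sup_eq_of_hyp hq hQ₀ hcard hZ1Q hZ1Y
  have hcV1 : (Nat.card V).Coprime (Nat.card Z1) :=
    Nat.Coprime.coprime_dvd_right (Subgroup.card_dvd_of_le hZ1Q) hcopQ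
  -- invariance of `C_V(Q₀)`
  have hapow : ∀ j : ℕ, ∀ z ∈ Q₀, a ^ j * z * (a ^ j)⁻¹ ∈ Q₀ := by
    intro j
    induction j with
    | zero => intro z hz; simpa using hz
    | succ j ih =>
      intro z hz
      have : a ^ (j + 1) * z * (a ^ (j + 1))⁻¹ = a * (a ^ j * z * (a ^ j)⁻¹) * a⁻¹ := by
        rw [pow_succ']; group
      rw [this]
      exact haQ₀ _ (ih z hz)
  have hWpow : ∀ (j : ℕ) (u : V), u ∈ fixedPts (V := V) Q₀ → a ^ j • u ∈ fixedPts (V := V) Q₀ := by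
    intro j u hu
    have := smul_mem_fixedPts_conjSub hu (a ^ j)
    rwa [conjSub_eq_self (hapow j)] at this
  have hWQ : ∀ k ∈ Q, ∀ u : V, u ∈ fixedPts (V := V) Q₀ → k • u ∈ fixedPts (V := V) Q₀ := by
    intro k hk u hu
    have := smul_mem_fixedPts_conjSub hu k
    rwa [conjSub_eq_self (fun z hz => by
      have : k * z * k⁻¹ = z := by rw [hQc k hk z (hQ₀ hz)]; group
      rw [this]; exact hz)] at this
  have key : Nat.card Z1 • n = 0 := by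
    apply frob_trace (p := s) Z1 a haZ1 hfix n _ _ hs.pos
    · intro k hk
      apply hW0
      · unfold mu
        apply AddSubgroup.sum_mem
        intro j _
        exact hWpow j _ (hWQ k (hZ1Q hk) n hn)
      · exact smul_mu_self has _
    · intro j _ _
      have h1 : nu Z1 (a ^ j • n) ∈ fixedPts (V := V) Z1 := nu_mem_fixedPts Z1 _
      have h2 : nu Z1 (a ^ j • n) ∈ fixedPts (V := V) Q₀ := by
        intro y hy
        rw [smul_nu_of_commute (fun k hk => hQc y (hQ₀ hy) k (hZ1Q hk)), hWpow j n hn y hy]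
      have h3 : nu Z1 (a ^ j • n) ∈ fixedPts (V := V) (Q₀ ⊔ Z1) := by
        rw [fixedPts_sup]; exact ⟨h2, h1⟩
      rw [hsup, hQ0, AddSubgroup.mem_bot] at h3
      exact h3
  exact hn0 (eq_zero_of_nsmul_eq_zero hcV1 key)

end frob

section cyc

variable {Q Q₀ : Subgroup T}

/-- conjugation by `t` as an endomorphism of `Q` -/
def cjQ (t : T) (htQ : ∀ x ∈ Q, t * x * t⁻¹ ∈ Q) : ↥Q →* ↥Q where
  toFun x := ⟨t * x * t⁻¹, htQ x x.2⟩
  map_one' := by apply Subtype.ext; simp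
  map_mul' x y := by
    apply Subtype.ext
    show t * ((x : T) * (y : T)) * t⁻¹ = (t * x * t⁻¹) * (t * y * t⁻¹)
    group

/-- the endomorphism of `Q / Q₀` induced by conjugation by `t` -/
def theta [hK : (Q₀.subgroupOf Q).Normal] (t : T) (htQ : ∀ x ∈ Q, t * x * t⁻¹ ∈ Q)
    (htQ₀ : ∀ x ∈ Q₀, t * x * t⁻¹ ∈ Q₀) :
    (↥Q ⧸ Q₀.subgroupOf Q) →* (↥Q ⧸ Q₀.subgroupOf Q) :=
  QuotientGroup.map (Q₀.subgroupOf Q) (Q₀.subgroupOf Q) (cjQ t htQ) (by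
    intro x hx
    rw [Subgroup.mem_comap, Subgroup.mem_subgroupOf]
    exact htQ₀ x (Subgroup.mem_subgroupOf.mp hx))

theorem theta_mk [hK : (Q₀.subgroupOf Q).Normal] (t : T) (htQ : ∀ x ∈ Q, t * x * t⁻¹ ∈ Q)
    (htQ₀ : ∀ x ∈ Q₀, t * x * t⁻¹ ∈ Q₀) (x : ↥Q) :
    theta t htQ htQ₀ (QuotientGroup.mk x) = QuotientGroup.mk (cjQ t htQ x) := rfl

/-- the conjugation action of two elements normalizing `Q` and the hyperplane `Q₀` commutes
modulo `Q₀` -/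
theorem comm_trivial_mod {q : ℕ} (hq : q.Prime) (hQc : ∀ x ∈ Q, ∀ y ∈ Q, x * y = y * x)
    (hQ₀ : Q₀ ≤ Q) (hcard : Nat.card Q₀ * q = Nat.card Q) {a b : T}
    (haQ : a ∈ Subgroup.normalizer (Q : Set T)) (hbQ : b ∈ Subgroup.normalizer (Q : Set T))
    (haQ₀ : a ∈ Subgroup.normalizer (Q₀ : Set T)) (hbQ₀ : b ∈ Subgroup.normalizer (Q₀ : Set T)) :
    ∀ x ∈ Q, (a * b * a⁻¹ * b⁻¹) * x * (a * b * a⁻¹ * b⁻¹)⁻¹ * x⁻¹ ∈ Q₀ := by
  have hK : (Q₀.subgroupOf Q).Normal := by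
    constructor
    intro n hn g
    have : g * n * g⁻¹ = n := by
      apply Subtype.ext
      show (g : T) * n * (g : T)⁻¹ = n
      rw [hQc g g.2 n n.2]; group
    rw [this]; exact hn
  have : Fact q.Prime := ⟨hq⟩
  -- `Q / Q₀` is cyclic
  have hcardK : Nat.card (Q₀.subgroupOf Q) = Nat.card Q₀ :=
    Nat.card_congr (Subgroup.subgroupOfEquivOfLe hQ₀).toEquiv
  have hcardQ : Nat.card (↥Q ⧸ Q₀.subgroupOf Q) = q := by
    have h1 := Subgroup.card_eq_card_quotient_mul_card_subgroup (Q₀.subgroupOf Q)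
    rw [hcardK, ← hcard] at h1
    have hpos : 0 < Nat.card Q₀ := Nat.card_pos
    have h1' : Nat.card Q₀ * q = Nat.card Q₀ * Nat.card (↥Q ⧸ Q₀.subgroupOf Q) := by
      rw [h1]; ring
    exact (Nat.eq_of_mul_eq_mul_left hpos h1').symm
  have hcyc : IsCyclic (↥Q ⧸ Q₀.subgroupOf Q) := isCyclic_of_prime_card hcardQ
  -- the normalizing elements
  have hN : ∀ t : T, t ∈ Subgroup.normalizer (Q : Set T) ⊓ Subgroup.normalizer (Q₀ : Set T) →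
      (∀ x ∈ Q, t * x * t⁻¹ ∈ Q) ∧ (∀ x ∈ Q₀, t * x * t⁻¹ ∈ Q₀) := by
    intro t ht
    exact ⟨fun x hx => (Subgroup.mem_normalizer_iff.mp ht.1 x).mp hx,
      fun x hx => (Subgroup.mem_normalizer_iff.mp ht.2 x).mp hx⟩
  set N₀ := Subgroup.normalizer (Q : Set T) ⊓ Subgroup.normalizer (Q₀ : Set T) with hN₀
  -- all `theta`s commute
  have hcomm : ∀ (s t : T) (hs : s ∈ N₀) (ht : t ∈ N₀) (g : ↥Q ⧸ Q₀.subgroupOf Q),
      theta s (hN s hs).1 (hN s hs).2 (theta t (hN t ht).1 (hN t ht).2 g) =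
        theta t (hN t ht).1 (hN t ht).2 (theta s (hN s hs).1 (hN s hs).2 g) := by
    intro s t hs ht g
    obtain ⟨m, hm⟩ := MonoidHom.map_cyclic (theta s (hN s hs).1 (hN s hs).2)
    obtain ⟨k, hk⟩ := MonoidHom.map_cyclic (theta t (hN t ht).1 (hN t ht).2)
    rw [hm, hk, hk, hm, ← zpow_mul, ← zpow_mul, mul_comm]
  have hmul : ∀ (s t : T) (hs : s ∈ N₀) (ht : t ∈ N₀) (g : ↥Q ⧸ Q₀.subgroupOf Q),
      theta (s * t) (hN _ (N₀.mul_mem hs ht)).1 (hN _ (N₀.mul_mem hs ht)).2 g =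
        theta s (hN s hs).1 (hN s hs).2 (theta t (hN t ht).1 (hN t ht).2 g) := by
    intro s t hs ht g
    obtain ⟨x, rfl⟩ := QuotientGroup.mk_surjective g
    rw [theta_mk, theta_mk, theta_mk]
    congr 1
    apply Subtype.ext
    show s * t * (x : T) * (s * t)⁻¹ = s * (t * x * t⁻¹) * s⁻¹
    group
  have hone : ∀ (h1 : (1 : T) ∈ N₀) (g : ↥Q ⧸ Q₀.subgroupOf Q),
      theta 1 (hN 1 h1).1 (hN 1 h1).2 g = g := by
    intro h1 g
    obtain ⟨x, rfl⟩ := QuotientGroup.mk_surjective g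
    rw [theta_mk]
    congr 1
    apply Subtype.ext
    show (1 : T) * x * (1 : T)⁻¹ = x
    group
  have haN : a ∈ N₀ := ⟨haQ, haQ₀⟩
  have hbN : b ∈ N₀ := ⟨hbQ, hbQ₀⟩
  have haiN : a⁻¹ ∈ N₀ := N₀.inv_mem haN
  have hbiN : b⁻¹ ∈ N₀ := N₀.inv_mem hbN
  intro x hx
  set c := a * b * a⁻¹ * b⁻¹ with hc
  have hcN : c ∈ N₀ := N₀.mul_mem (N₀.mul_mem (N₀.mul_mem haN hbN) haiN) hbiN
  -- `theta c` is the identity
  have hid : ∀ g : ↥Q ⧸ Q₀.subgroupOf Q, theta c (hN c hcN).1 (hN c hcN).2 g = g := by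
    intro g
    have e1 := hmul (a * b * a⁻¹) b⁻¹ (N₀.mul_mem (N₀.mul_mem haN hbN) haiN) hbiN g
    have e2 := fun g' => hmul (a * b) a⁻¹ (N₀.mul_mem haN hbN) haiN g'
    have e3 := fun g' => hmul a b haN hbN g'
    have e4 := fun g' => hmul a a⁻¹ haN haiN g'
    have e5 := fun g' => hmul b b⁻¹ hbN hbiN g'
    rw [e1, e2, e3, hcomm b a⁻¹ hbN haiN, ← e4]
    have h1 : (1 : T) ∈ N₀ := N₀.one_mem
    have ea : ∀ g', theta (a * a⁻¹) (hN _ (N₀.mul_mem haN haiN)).1 (hN _ (N₀.mul_mem haN haiN)).2 g'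
        = g' := by
      intro g'
      obtain ⟨y, rfl⟩ := QuotientGroup.mk_surjective g'
      rw [theta_mk]
      congr 1
      apply Subtype.ext
      show (a * a⁻¹) * (y : T) * (a * a⁻¹)⁻¹ = y
      group
    rw [ea, ← e5]
    obtain ⟨y, rfl⟩ := QuotientGroup.mk_surjective g
    rw [theta_mk]
    congr 1
    apply Subtype.ext
    show (b * b⁻¹) * (y : T) * (b * b⁻¹)⁻¹ = y
    group
  have h2 := hid (QuotientGroup.mk ⟨x, hx⟩)
  rw [theta_mk, eq_comm, QuotientGroup.eq, Subgroup.mem_subgroupOf] at h2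
  -- `h2 : x⁻¹ * (c x c⁻¹) ∈ Q₀`
  have h3 : ((⟨x, hx⟩ : ↥Q)⁻¹ * cjQ c (hN c hcN).1 ⟨x, hx⟩ : ↥Q) = (x⁻¹ * (c * x * c⁻¹) : T) := rfl
  rw [h3] at h2
  have hcx : c * x * c⁻¹ ∈ Q := (hN c hcN).1 x hx
  have : c * x * c⁻¹ * x⁻¹ = x⁻¹ * (c * x * c⁻¹) := hQc _ hcx _ (Q.inv_mem hx)
  rw [this]
  exact h2

end cyc

section star

/-- powers of an element acting trivially modulo `Q₀` act trivially modulo `Q₀` -/
theorem trivMod_pow {Q Q₀ : Subgroup T} {c : T} (hQ₀ : Q₀ ≤ Q)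
    (hc : ∀ x ∈ Q, c * x * c⁻¹ * x⁻¹ ∈ Q₀) (k : ℕ) :
    ∀ x ∈ Q, c ^ k * x * (c ^ k)⁻¹ * x⁻¹ ∈ Q₀ := by
  have hcQ₀ : ∀ w ∈ Q₀, c * w * c⁻¹ ∈ Q₀ := by
    intro w hw
    have h1 := hc w (hQ₀ hw)
    have : c * w * c⁻¹ = (c * w * c⁻¹ * w⁻¹) * w := by group
    rw [this]
    exact Q₀.mul_mem h1 hw
  induction k with
  | zero =>
    intro x _
    have : c ^ 0 * x * (c ^ 0)⁻¹ * x⁻¹ = 1 := by simp
    rw [this]; exact Q₀.one_mem
  | succ k ih =>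
    intro x hx
    have : c ^ (k + 1) * x * (c ^ (k + 1))⁻¹ * x⁻¹ =
        (c * (c ^ k * x * (c ^ k)⁻¹ * x⁻¹) * c⁻¹) * (c * x * c⁻¹ * x⁻¹) := by
      rw [pow_succ']; group
    rw [this]
    exact Q₀.mul_mem (hcQ₀ _ (ih x hx)) (hc x hx)

/-- **(L-star)** -/
theorem l_star {q : ℕ} [hq : Fact q.Prime] (Q A : Subgroup T)
    (hQc : ∀ x ∈ Q, ∀ y ∈ Q, x * y = y * x)
    (hAQ : ∀ a ∈ A, ∀ x ∈ Q, a * x * a⁻¹ ∈ Q) (hQ0 : fixedPts (V := V) Q = ⊥)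
    (hcopQ : (Nat.card V).Coprime (Nat.card Q)) (hcopA : (Nat.card V).Coprime (Nat.card A))
    (hcopAQ : (Nat.card A).Coprime (Nat.card Q))
    (hAab : ∀ B : Subgroup T, B ≤ A → (∀ x ∈ B, ∀ y ∈ B, x * y = y * x) →
      B = ⊥ ∨ (Nat.card B).Prime)
    (hA0 : ∀ v : V, (∀ a ∈ A, a • v = v) → v = 0)
    (Q₀ : Subgroup T) (hQ₀ : Q₀ ≤ Q) (hcard : Nat.card Q₀ * q = Nat.card Q)
    (hW : fixedPts (V := V) Q₀ ≠ ⊥) :
    ∃ a ∈ A, (orderOf a).Prime ∧ ∀ x ∈ Q, a * x * a⁻¹ * x⁻¹ ∈ Q₀ := by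
  classical
  by_contra hcon
  have hcon' : ∀ a ∈ A, (orderOf a).Prime → ¬ (∀ x ∈ Q, a * x * a⁻¹ * x⁻¹ ∈ Q₀) :=
    fun a ha hp h => hcon ⟨a, ha, hp, h⟩
  -- no non-identity element of `A` acts trivially on `Q / Q₀`
  have hS1 : ∀ c ∈ A, (∀ x ∈ Q, c * x * c⁻¹ * x⁻¹ ∈ Q₀) → c = 1 := by
    intro c hcA hc
    by_contra hc1
    have hord : orderOf c ≠ 1 := by rwa [Ne, orderOf_eq_one_iff]
    obtain ⟨s, hs, hsd⟩ := Nat.exists_prime_and_dvd hord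
    obtain ⟨m, hm⟩ := hsd
    have hpos : 0 < orderOf c := orderOf_pos c
    have hm0 : m ≠ 0 := by
      rintro rfl
      rw [mul_zero] at hm
      omega
    have hc'ord : orderOf (c ^ m) = s := by
      rw [orderOf_pow_of_dvd hm0 ⟨s, by rw [hm, mul_comm]⟩, hm]
      exact Nat.mul_div_cancel _ (Nat.pos_of_ne_zero hm0)
    exact hcon' (c ^ m) (A.pow_mem hcA m) (hc'ord ▸ hs) (trivMod_pow hQ₀ hc m)
  set A₀ := A ⊓ Subgroup.normalizer (Q₀ : Set T) with hA₀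
  obtain ⟨n, hn, hn0⟩ : ∃ n ∈ fixedPts (V := V) Q₀, n ≠ 0 := by
    by_contra h
    apply hW
    rw [eq_bot_iff]
    intro u hu
    rw [AddSubgroup.mem_bot]
    by_contra hu0
    exact h ⟨u, hu, hu0⟩
  have hA₀ne : A₀ ≠ ⊥ := by
    intro hbot
    obtain ⟨w, hw0, hwA⟩ := l_proj Q A hQc hAQ hQ0 hcopQ hcopA Q₀ hQ₀ hcard n hn0 hn (by
      intro a ha hnorm
      have h1 : a ∈ A₀ := ⟨ha, mem_normalizer_of_conj_mem hnorm⟩
      rw [hbot, Subgroup.mem_bot] at h1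
      rw [h1, one_smul])
    exact hw0 (hA0 w hwA)
  have hAN : ∀ a ∈ A, a ∈ Subgroup.normalizer (Q : Set T) :=
    fun a ha => mem_normalizer_of_conj_mem (hAQ a ha)
  have hA₀c : ∀ x ∈ A₀, ∀ y ∈ A₀, x * y = y * x := by
    intro a ha b hb
    have hc := comm_trivial_mod hq.out hQc hQ₀ hcard (hAN a ha.1) (hAN b hb.1) ha.2 hb.2
    have hcA : a * b * a⁻¹ * b⁻¹ ∈ A :=
      A.mul_mem (A.mul_mem (A.mul_mem ha.1 hb.1) (A.inv_mem ha.1)) (A.inv_mem hb.1)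
    have h1 := hS1 _ hcA hc
    calc a * b = (a * b * a⁻¹ * b⁻¹) * (b * a) := by group
      _ = b * a := by rw [h1, one_mul]
  rcases hAab A₀ inf_le_left hA₀c with h | hprime
  · exact hA₀ne h
  obtain ⟨a, haA₀, ha1⟩ : ∃ a ∈ A₀, a ≠ 1 := by
    by_contra h
    apply hA₀ne
    rw [eq_bot_iff]
    intro u hu
    rw [Subgroup.mem_bot]
    by_contra hu1
    exact h ⟨u, hu, hu1⟩
  have hord : orderOf a = Nat.card A₀ := by
    have hdvd : orderOf a ∣ Nat.card A₀ := by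
      have := orderOf_dvd_natCard (⟨a, haA₀⟩ : A₀)
      rwa [Subgroup.orderOf_mk] at this
    rcases (Nat.dvd_prime hprime).mp hdvd with h | h
    · exact absurd (orderOf_eq_one_iff.mp h) ha1
    · exact h
  have hzp : Subgroup.zpowers a = A₀ := by
    apply Subgroup.eq_of_le_of_card_ge (Subgroup.zpowers_le.mpr haA₀)
    rw [Nat.card_zpowers, hord]
  have has : a ^ Nat.card A₀ = 1 := by rw [← hord]; exact pow_orderOf_eq_one a
  have hnt := hcon' a haA₀.1 (hord ▸ hprime)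
  push Not at hnt
  obtain ⟨x₁, hx₁, hx₁'⟩ := hnt
  have hx₁'' : x₁⁻¹ * (a * x₁ * a⁻¹) ∉ Q₀ := by
    have : a * x₁ * a⁻¹ * x₁⁻¹ = x₁⁻¹ * (a * x₁ * a⁻¹) :=
      hQc _ (hAQ a haA₀.1 x₁ hx₁) _ (Q.inv_mem hx₁)
    rwa [← this]
  have hcopz : ∀ z ∈ Q, z ^ Nat.card A₀ = 1 → z = 1 := by
    intro z hz hzs
    have h1 : orderOf z ∣ Nat.card A₀ := orderOf_dvd_of_pow_eq_one hzs
    have h2 : orderOf z ∣ Nat.card Q := by
      have := orderOf_dvd_natCard (⟨z, hz⟩ : Q)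
      rwa [Subgroup.orderOf_mk] at this
    have h3 : Nat.card A₀ ∣ Nat.card A := Subgroup.card_dvd_of_le inf_le_left
    have h4 : orderOf z ∣ Nat.gcd (Nat.card A) (Nat.card Q) := Nat.dvd_gcd (h1.trans h3) h2
    rw [Nat.Coprime.gcd_eq_one hcopAQ, Nat.dvd_one] at h4
    exact orderOf_eq_one_iff.mp h4
  obtain ⟨v, hvW, hv0, hav⟩ := exists_fixed_of_hyp hq.out hprime Q Q₀ hQc hQ0 hcopQ hQ₀ hcard a
    has (hAQ a haA₀.1) (fun x hx => (Subgroup.mem_normalizer_iff.mp haA₀.2 x).mp hx) hcopz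
    x₁ hx₁ hx₁'' n hn hn0
  obtain ⟨w, hw0, hwA⟩ := l_proj Q A hQc hAQ hQ0 hcopQ hcopA Q₀ hQ₀ hcard v hv0 hvW (by
    intro a' ha' hnorm
    have h1 : a' ∈ A₀ := ⟨ha', mem_normalizer_of_conj_mem hnorm⟩
    rw [← hzp] at h1
    have h2 : Subgroup.zpowers a ≤ MulAction.stabilizer T v := by
      rw [Subgroup.zpowers_le]; exact hav
    exact h2 h1)
  exact hw0 (hA0 w hwA)

end star

end Cfsg.Agent.Lib.Helper7.S3L
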