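import Mathlib
import Cfsg.Agent.Lib.Helper4.S3HH
import Cfsg.Agent.Lib.Helper9.S3A2

set_option autoImplicit false
set_option linter.unusedSectionVars false
set_option linter.unusedVariables false

/-! S4306 swarm: the coprime Hall–Higman theorem `HH.hh_act` in additive vocabulary, WITH its
exception clause (`q = 2`, `s` a Fermat prime, `P` not acting commutatively), on the whole module
and on a submodule invariant under `P` and `a` only. -/

namespace Cfsg.Agent.Lib.Helper7.PQHH

open Cfsg.Agent.Lib.Helper4.S3HH Cfsg.Agent.Lib.Helper9.S3A2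

universe u w

variable {V : Type u} [AddCommGroup V] [Finite V] {T : Type w} [Group T] [Finite T]
  [DistribMulAction T V]

/-- **(HH), commutation form, with the exception clause**. -/
theorem smul_comm_of_fpf_exc {p q s : ℕ} (hp : p.Prime) (hq : q.Prime)
    (hs : s.Prime) (hV : ∀ v : V, p • v = 0) (hqs : q ≠ s) (hpq : p ≠ q)
    (hps : p ≠ s) (P : Subgroup T) (hP : IsPGroup q P) (a : T) (ha : a ^ s = 1)
    (haP : ∀ x ∈ P, a * x * a⁻¹ ∈ P) (hCV : ∀ v : V, a • v = v → v = 0)
    (hexc : q = 2 → (∃ n : ℕ, s = 2 ^ n + 1) → ∀ x ∈ P, ∀ y ∈ P, ∀ v : V,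
      x • y • v = y • x • v) :
    ∀ x ∈ P, ∀ v : V, a • x • v = x • a • v := by
  have : Fact p.Prime := ⟨hp⟩
  let _i := mulAct T V
  have hmain := Cfsg.Agent.Lib.Helper4.HH.hh_act (A := T) (V := Multiplicative V) p
    (fun a b => mul_comm a b)
    (by
      intro v
      change Multiplicative.ofAdd (p • Multiplicative.toAdd v) = 1
      rw [hV]; rfl)
    a q s hq hs hqs (Ne.symm hpq) (Ne.symm hps) ha
    (by
      intro v hv
      have h1 : a • Multiplicative.toAdd v = Multiplicative.toAdd v :=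
        congrArg Multiplicative.toAdd hv
      have h2 := hCV _ h1
      exact congrArg Multiplicative.ofAdd h2)
    P hP haP
    (by
      intro h2 hF x hx y hy v
      exact congrArg Multiplicative.ofAdd (hexc h2 hF x hx y hy (Multiplicative.toAdd v)))
  intro x hx v
  exact congrArg Multiplicative.toAdd (hmain x hx (Multiplicative.ofAdd v))

/-- **(HH) with the exception clause**: the commutators `[a, x]`, `x ∈ P`, act trivially. -/
theorem comm_acts_trivially_exc {p q s : ℕ} (hp : p.Prime) (hq : q.Prime)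
    (hs : s.Prime) (hV : ∀ v : V, p • v = 0) (hqs : q ≠ s) (hpq : p ≠ q)
    (hps : p ≠ s) (P : Subgroup T) (hP : IsPGroup q P) (a : T) (ha : a ^ s = 1)
    (haP : ∀ x ∈ P, a * x * a⁻¹ ∈ P) (hCV : ∀ v : V, a • v = v → v = 0)
    (hexc : q = 2 → (∃ n : ℕ, s = 2 ^ n + 1) → ∀ x ∈ P, ∀ y ∈ P, ∀ v : V,
      x • y • v = y • x • v) :
    ∀ x ∈ P, ∀ v : V, (a * x * a⁻¹ * x⁻¹) • v = v := by
  intro x hx v
  have h := smul_comm_of_fpf_exc hp hq hs hV hqs hpq hps P hP a ha haP hCV hexc x hx
    (a⁻¹ • x⁻¹ • v)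
  rw [smul_inv_smul] at h
  rw [mul_smul, mul_smul, mul_smul, h, smul_inv_smul]

/-- **(HH) on a submodule** invariant under `P` and `a` only, with the exception clause. -/
theorem hh_sub_exc {p q s : ℕ} (hp : p.Prime) (hq : q.Prime) (hs : s.Prime)
    (hV : ∀ v : V, p • v = 0)
    (hpq : p ≠ q) (hps : p ≠ s) (hqs : q ≠ s)
    (P : Subgroup T) (hP : IsPGroup q P) (a : T) (has : a ^ s = 1)
    (haP : ∀ x ∈ P, a * x * a⁻¹ ∈ P)
    (W : AddSubgroup V) (hWP : ∀ x ∈ P, ∀ w ∈ W, x • w ∈ W) (hWa : ∀ w ∈ W, a • w ∈ W)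
    (hfix : ∀ w ∈ W, a • w = w → w = 0)
    (hexc : q = 2 → (∃ n : ℕ, s = 2 ^ n + 1) → ∀ x ∈ P, ∀ y ∈ P, ∀ w ∈ W,
      x • y • w = y • x • w) :
    ∀ x ∈ P, ∀ w ∈ W, (a * x * a⁻¹ * x⁻¹) • w = w := by
  have hPle : ∀ x ∈ P, x ∈ stabW (T := T) W := fun x hx => mem_stabW_of_subgroup P hWP hx
  have hapow : ∀ k : ℕ, ∀ w ∈ W, a ^ k • w ∈ W := by
    intro k
    induction k with
    | zero => intro w hw; simpa using hw
    | succ k ih => intro w hw; rw [pow_succ', mul_smul]; exact hWa _ (ih w hw)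
  have ha : a ∈ stabW (T := T) W := by
    intro w
    constructor
    · exact hWa w
    · intro h
      have h1 := hapow (s - 1) _ h
      have h2 : a ^ (s - 1) * a = 1 := by
        rw [← pow_succ, Nat.sub_add_cancel hs.one_le, has]
      rwa [← mul_smul, h2, one_smul] at h1
  have hP₀ : IsPGroup q (P.subgroupOf (stabW (T := T) W)) := by
    intro g
    have hgP : ((g : stabW (T := T) W) : T) ∈ P := by
      have := g.2
      rw [Subgroup.mem_subgroupOf] at this
      exact this
    obtain ⟨k, hk⟩ := hP ⟨_, hgP⟩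
    refine ⟨k, ?_⟩
    have h1 : ((g : stabW (T := T) W) : T) ^ q ^ k = 1 := by
      have := congrArg Subtype.val hk
      simpa using this
    apply Subtype.ext
    apply Subtype.ext
    simpa using h1
  have hmain := comm_acts_trivially_exc (V := W) (T := stabW (T := T) W) hp hq hs
    (by
      intro v
      apply Subtype.ext
      simpa using hV (v : V))
    hqs hpq hps (P.subgroupOf (stabW (T := T) W)) hP₀ ⟨a, ha⟩
    (by apply Subtype.ext; simpa using has)
    (by
      intro x hx
      rw [Subgroup.mem_subgroupOf] at hx ⊢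
      simpa using haP _ hx)
    (by
      intro v hv
      have h1 : a • (v : V) = v := congrArg Subtype.val hv
      apply Subtype.ext
      simpa using hfix v v.2 h1)
    (by
      intro h2 hF x hx y hy v
      rw [Subgroup.mem_subgroupOf] at hx hy
      apply Subtype.ext
      exact hexc h2 hF _ hx _ hy v v.2)
  intro x hx w hw
  have := hmain ⟨x, hPle x hx⟩ (by rw [Subgroup.mem_subgroupOf]; exact hx) ⟨w, hw⟩
  exact congrArg Subtype.val this

end Cfsg.Agent.Lib.Helper7.PQHH
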