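import Mathlib
import Cfsg.Agent.Lib.Lead.S3F2
import Cfsg.Agent.Lib.Helper7.S3L

set_option autoImplicit false
set_option linter.unusedSectionVars false

/-! A prime-order form of lead's (L-star) `S3F2.exists_trivial_mod_hyp`. -/

namespace Cfsg.Agent.Lib.Helper7.S3L2

open Cfsg.Agent.Lib.Helper8.SBS Cfsg.Agent.Lib.Helper8.Ward

universe u w

variable {V : Type u} [AddCommGroup V] [Finite V] {T : Type w} [Group T] [Finite T]
  [DistribMulAction T V]

/-- **(L-star)**, prime order form: the element acting trivially on `E / K` can be taken of prime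
order. -/
theorem exists_prime_trivial_mod_hyp {q : ℕ} [hq : Fact q.Prime] {E A : Subgroup T} [hEn : E.Normal]
    (hEc : ∀ x ∈ E, ∀ y ∈ E, x * y = y * x) (hE0 : fixedPts (V := V) E = ⊥)
    (hcopE : (Nat.card V).Coprime (Nat.card E)) (hcopA : (Nat.card V).Coprime (Nat.card A))
    (hA0 : fixedPts (V := V) A = ⊥)
    {K : Subgroup T} (hK : IsHyp (V := V) q E K) :
    ∃ a ∈ A, (orderOf a).Prime ∧ conjSub a K = K ∧ ∀ z ∈ E, a * z * a⁻¹ * z⁻¹ ∈ K := by
  obtain ⟨c, hcA, hc1, -, hc⟩ :=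
    Cfsg.Agent.Lib.Lead.S3F2.exists_trivial_mod_hyp hEc hE0 hcopE hcopA hA0 hK
  have hord : orderOf c ≠ 1 := by rwa [Ne, orderOf_eq_one_iff]
  obtain ⟨s, hs, hsd⟩ := Nat.exists_prime_and_dvd hord
  obtain ⟨m, hm⟩ := hsd
  have hpos : 0 < orderOf c := orderOf_pos c
  have hm0 : m ≠ 0 := by
    rintro rfl
    rw [mul_zero] at hm
    omega
  have hc'ord : orderOf (c ^ m) = s := by
    rw [orderOf_pow_of_dvd hm0 ⟨s, by rw [hm, mul_comm]⟩, hm]
    exact Nat.mul_div_cancel _ (Nat.pos_of_ne_zero hm0)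
  have htriv := Cfsg.Agent.Lib.Helper7.S3L.trivMod_pow hK.1 hc m
  refine ⟨c ^ m, A.pow_mem hcA m, hc'ord ▸ hs, ?_, htriv⟩
  apply conjSub_eq_self
  intro w hw
  have h1 := htriv w (hK.1 hw)
  have : c ^ m * w * (c ^ m)⁻¹ = (c ^ m * w * (c ^ m)⁻¹ * w⁻¹) * w := by group
  rw [this]
  exact K.mul_mem h1 hw

end Cfsg.Agent.Lib.Helper7.S3L2
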