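import Mathlib
import Cfsg.Agent.Lib.Lead.S3F1
import Cfsg.Agent.Lib.Lead.S3F2
import Cfsg.Agent.Lib.Helper7.S3L
import Cfsg.Agent.Lib.Helper7.S3L2
import Cfsg.Agent.Lib.Helper7.PQHH
import Cfsg.Agent.Lib.Helper2.PQA
import Cfsg.Agent.Lib.Helper4.PQDefs

set_option autoImplicit false
set_option linter.unusedSectionVars false
set_option linter.unusedVariables false

/-! S4306 swarm, package T-Sp1 (plan §4): `Q` special, `Z = C_Q(S) ≠ 1` central elementary abelian.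
For a hyperplane `Z₀` of `Z` with `C_V(Z₀) ≠ 0` the stabilizer `A₀ = N_A(Z₀)` is a conjugate of the
complement `H` (the cases `A₀ = 1`, `A₀ = F`, `A₀ = A` are impossible). -/

namespace Cfsg.Agent.Lib.Helper7.PQSp1

open Cfsg.Agent.Lib.Helper8.SBS Cfsg.Agent.Lib.Helper8.Ward Cfsg.Agent.Lib.Helper2.PQA

universe u w

variable {V : Type u} [AddCommGroup V] [Finite V] {T : Type w} [Group T] [Finite T]
  [DistribMulAction T V]

/-- `|V|` is prime to every number prime to the exponent `r` of `V`. -/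
theorem coprime_card_V {r : ℕ} (hr : r.Prime) (hV : ∀ v : V, r • v = 0) {n : ℕ}
    (hn : r.Coprime n) : (Nat.card V).Coprime n := by
  have : Fact r.Prime := ⟨hr⟩
  have hpg : IsPGroup r (Multiplicative V) := by
    intro g
    refine ⟨1, ?_⟩
    rw [pow_one]
    have := hV (Multiplicative.toAdd g)
    exact congrArg Multiplicative.ofAdd this
  obtain ⟨k, hk⟩ := IsPGroup.iff_card.1 hpg
  have hk' : Nat.card V = r ^ k := hk
  rw [hk']
  exact Nat.Coprime.pow_left k hn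

/-- **(L-frob)**: `a` of prime order `s` acting fixed-point-freely on the group `K`, both acting on
`U ≤ V` with `C_U(K) = 0`, `U ≠ 0`: then `C_U(a) ≠ 0`. -/
theorem l_frob {s : ℕ} (hs : s.Prime) (K : Subgroup T) (a : T) (has : a ^ s = 1)
    (haK : ∀ z ∈ K, a * z * a⁻¹ ∈ K) (hfpf : ∀ z ∈ K, a * z = z * a → z = 1)
    (hcopK : (Nat.card V).Coprime (Nat.card K))
    (U : AddSubgroup V) (hUK : ∀ k ∈ K, ∀ u ∈ U, k • u ∈ U) (hUa : ∀ u ∈ U, a • u ∈ U)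
    (hUK0 : ∀ u ∈ U, (∀ k ∈ K, k • u = u) → u = 0) (hU : U ≠ ⊥) :
    ∃ u ∈ U, u ≠ 0 ∧ a • u = u := by
  classical
  by_contra hcon
  have hW0 : ∀ v ∈ U, a • v = v → v = 0 := by
    intro v hv hav
    by_contra hv0
    exact hcon ⟨v, hv, hv0, hav⟩
  have hUpow : ∀ (j : ℕ) (u : V), u ∈ U → a ^ j • u ∈ U := by
    intro j
    induction j with
    | zero => intro u hu; simpa using hu
    | succ j ih => intro u hu; rw [pow_succ', mul_smul]; exact hUa _ (ih u hu)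
  have hfix : ∀ j, 0 < j → j < s → ∀ z ∈ K, a ^ j * z = z * a ^ j → z = 1 := by
    intro j hj0 hjs z hz hcomm
    exact hfpf z hz (commute_of_commute_pow hs has hj0 hjs hcomm.symm).symm
  have key : ∀ n ∈ U, Nat.card K • n = 0 := by
    intro n hn
    apply frob_trace (p := s) K a haK hfix n _ _ hs.pos
    · intro k hk
      apply hW0
      · unfold mu
        apply AddSubgroup.sum_mem
        intro j _
        exact hUpow j _ (hUK k hk n hn)
      · exact smul_mu_self has _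
    · intro j _ _
      have h1 : nu K (a ^ j • n) ∈ fixedPts (V := V) K := nu_mem_fixedPts K _
      have h2 : nu K (a ^ j • n) ∈ U := by
        have : Fintype K := Fintype.ofFinite K
        unfold nu
        rw [finsum_eq_sum_of_fintype]
        apply AddSubgroup.sum_mem
        intro k _
        exact hUK k k.2 _ (hUpow j n hn)
      exact hUK0 _ h2 h1
  apply hU
  rw [eq_bot_iff]
  intro n hn
  rw [AddSubgroup.mem_bot]
  exact eq_zero_of_nsmul_eq_zero hcopK (key n hn)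


/-- the fixed points of a non-trivial normal subgroup acting faithfully on the irreducible `V`
are trivial. -/
theorem fixedPts_eq_bot_of_normal'
    (hirr : ∀ W : AddSubgroup V, (∀ x : T, ∀ w ∈ W, x • w ∈ W) → W = ⊥ ∨ W = ⊤)
    {N : Subgroup T} (hN : N.Normal) (hfaith : ∀ x ∈ N, (∀ v : V, x • v = v) → x = 1)
    (hN1 : N ≠ ⊥) : fixedPts (V := V) N = ⊥ := by
  have hinv : ∀ x : T, ∀ w ∈ fixedPts (V := V) N, x • w ∈ fixedPts (V := V) N := by
    intro x v hv n hn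
    have h1 : x⁻¹ * n * x ∈ N := by
      have := hN.conj_mem n hn x⁻¹
      simpa using this
    have h2 : n • x • v = x • ((x⁻¹ * n * x) • v) := by
      rw [← mul_smul, ← mul_smul]
      congr 1
      group
    rw [h2, hv _ h1]
  rcases hirr _ hinv with h0 | h0
  · exact h0
  · exfalso
    apply hN1
    rw [eq_bot_iff]
    intro n hn
    rw [Subgroup.mem_bot]
    apply hfaith n hn
    intro v
    have : v ∈ fixedPts (V := V) N := by rw [h0]; exact AddSubgroup.mem_top v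
    exact this n hn

/-- a hyperplane `Z₀` of `Z` with `C_V(Z₀) ≠ 0` exists. -/
theorem exists_isHyp {t : ℕ} [ht : Fact t.Prime] (hcop : (Nat.card V).Coprime t)
    (hV0 : ∃ v : V, v ≠ 0) (Z : Subgroup T) (hZc : ∀ x ∈ Z, ∀ y ∈ Z, x * y = y * x)
    (hZe : ∀ z ∈ Z, z ^ t = 1) (hZ0 : fixedPts (V := V) Z = ⊥) :
    ∃ Z₀ : Subgroup T, IsHyp (V := V) t Z Z₀ := by
  by_contra hemp
  obtain ⟨v, hv⟩ := hV0
  apply hv
  have key := span_hyperplanes (V := V) hcop Z hZc hZe ⊥ ?_ v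
  · exact (AddSubgroup.mem_bot).1 key
  · intro K hKZ hK
    rcases hK with rfl | hK
    · rw [hZ0]
    · by_contra hne
      exact hemp ⟨K, hKZ, hK, fun e => hne (by rw [e])⟩

/-- an element acting trivially on all `A`-translates of `W = C_V(Z₀)` acts trivially on `V`. -/
theorem acts_trivially_of_translates {A Z Z₀ : Subgroup T}
    (hirr : ∀ W : AddSubgroup V, (∀ x : T, ∀ w ∈ W, x • w ∈ W) → W = ⊥ ∨ W = ⊤)
    (hgen : ∀ g : T, ∃ a ∈ A, ∃ c : T, (∀ z ∈ Z, c * z = z * c) ∧ g = a * c)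
    (hZ₀ : Z₀ ≤ Z) (hW : fixedPts (V := V) Z₀ ≠ ⊥) (c : T)
    (hc : ∀ a ∈ A, ∀ w ∈ fixedPts (V := V) Z₀, c • a • w = a • w) : ∀ v : V, c • v = v := by
  -- the sum of the translates
  have hcl : ∀ (c' : T), (∀ z ∈ Z, c' * z = z * c') →
      ∀ w ∈ fixedPts (V := V) Z₀, c' • w ∈ fixedPts (V := V) Z₀ := by
    intro c' hc' w hw z hz
    rw [← mul_smul, ← hc' z (hZ₀ hz), mul_smul, hw z hz]
  obtain ⟨U, hUdef⟩ : ∃ U : AddSubgroup V,
      U = AddSubgroup.closure {v | ∃ a ∈ A, ∃ w ∈ fixedPts (V := V) Z₀, v = a • w} := ⟨_, rfl⟩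
  have hUinv : ∀ x : T, ∀ u ∈ U, x • u ∈ U := by
    intro x u hu
    rw [hUdef] at hu ⊢
    induction hu using AddSubgroup.closure_induction with
    | mem v hv =>
      obtain ⟨a, ha, w, hw, rfl⟩ := hv
      obtain ⟨a', ha', c', hc', hxa⟩ := hgen (x * a)
      apply AddSubgroup.subset_closure
      refine ⟨a', ha', c' • w, hcl c' hc' w hw, ?_⟩
      rw [← mul_smul, hxa, mul_smul]
    | zero => rw [smul_zero]; exact AddSubgroup.zero_mem _
    | add v w _ _ ihv ihw => rw [smul_add]; exact AddSubgroup.add_mem _ ihv ihw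
    | neg v _ ihv => rw [smul_neg]; exact AddSubgroup.neg_mem _ ihv
  have hUtop : U = ⊤ := by
    rcases hirr U hUinv with h0 | h0
    · exfalso
      apply hW
      rw [eq_bot_iff]
      intro w hw
      have : w ∈ U := by
        rw [hUdef]
        apply AddSubgroup.subset_closure
        obtain ⟨a, ha, c', hc', h1⟩ := hgen 1
        refine ⟨a, ha, c' • w, hcl c' hc' w hw, ?_⟩
        rw [← mul_smul, ← h1, one_smul]
      rw [h0] at this
      exact this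
    · exact h0
  intro v
  have hv : v ∈ U := by rw [hUtop]; exact AddSubgroup.mem_top v
  rw [hUdef] at hv
  induction hv using AddSubgroup.closure_induction with
  | mem v hv =>
    obtain ⟨a, ha, w, hw, rfl⟩ := hv
    exact hc a ha w hw
  | zero => exact smul_zero c
  | add v w _ _ ihv ihw => rw [smul_add, ihv, ihw]
  | neg v _ ihv => rw [smul_neg, ihv]


/-- `N_A(K)`, in terms of `conjSub`. -/
def stabIn (A K : Subgroup T) : Subgroup T where
  carrier := {a | a ∈ A ∧ conjSub a K = K}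
  one_mem' := ⟨A.one_mem, conjSub_one K⟩
  mul_mem' := by
    rintro a b ⟨ha, ha'⟩ ⟨hb, hb'⟩
    exact ⟨A.mul_mem ha hb, by rw [conjSub_mul, hb', ha']⟩
  inv_mem' := by
    rintro a ⟨ha, ha'⟩
    refine ⟨A.inv_mem ha, ?_⟩
    have := congrArg (conjSub a⁻¹) ha'
    rw [← conjSub_mul, inv_mul_cancel, conjSub_one] at this
    exact this.symm

theorem mem_stabIn {A K : Subgroup T} {a : T} : a ∈ stabIn A K ↔ a ∈ A ∧ conjSub a K = K :=
  Iff.rfl

theorem stabIn_le (A K : Subgroup T) : stabIn A K ≤ A := fun _ h => h.1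

/-- a vector fixed by `f` is fixed by the subgroup of prime order containing `f ≠ 1`. -/
theorem smul_eq_of_card_prime {K : Subgroup T} {n : ℕ} (hn : n.Prime) (hK : Nat.card K = n)
    {k : T} (hk : k ∈ K) (hk1 : k ≠ 1) {v : V} (hv : k • v = v) : ∀ x ∈ K, x • v = v := by
  intro x hx
  have h1 : x ∈ Subgroup.zpowers k := mem_zpowers_of_card_prime hn hK hk hk1 hx
  have h2 : Subgroup.zpowers k ≤ MulAction.stabilizer T v := by
    rw [Subgroup.zpowers_le]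
    exact hv
  exact h2 h1

section branches

variable {p q r t : ℕ} {F H Q Z Z₀ : Subgroup T}

/-- the case `F ≤ N_A(Z₀)`, `C_W(F) = 0` is impossible. -/
theorem branch_F (hpq : IsPQ p q F H) (hr : r.Prime) (ht : t.Prime)
    (htr : t ≠ r) (htp : t ≠ p) (htq : t ≠ q) (hrq : r ≠ q)
    (hV : ∀ v : V, r • v = 0)
    (hQn : Q.Normal) (hQt : IsPGroup t Q)
    (hZc : ∀ z ∈ Z, ∀ x ∈ Q, z * x = x * z)
    (hgen : ∀ g : T, ∃ a ∈ F ⊔ H, ∃ c : T, (∀ z ∈ Z, c * z = z * c) ∧ g = a * c)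
    (hfaith : ∀ x ∈ Q, (∀ v : V, x • v = v) → x = 1)
    (hirr : ∀ W : AddSubgroup V, (∀ x : T, ∀ w ∈ W, x • w ∈ W) → W = ⊥ ∨ W = ⊤)
    (hT6 : ∃ x ∈ Q, ∃ f ∈ F, f * x ≠ x * f)
    (hZ₀ : Z₀ ≤ Z) (hW : fixedPts (V := V) Z₀ ≠ ⊥)
    (hFn : ∀ f ∈ F, conjSub f Z₀ = Z₀)
    (hWF : ∀ w ∈ fixedPts (V := V) Z₀, (∀ f ∈ F, f • w = w) → w = 0) : False := by
  obtain ⟨x₀, hx₀, f₀, hf₀, hne⟩ := hT6
  have hWQ : ∀ x ∈ Q, ∀ w ∈ fixedPts (V := V) Z₀, x • w ∈ fixedPts (V := V) Z₀ := by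
    intro x hx w hw z hz
    rw [← mul_smul, hZc z (hZ₀ hz) x hx, mul_smul, hw z hz]
  have hWf : ∀ f ∈ F, ∀ w ∈ fixedPts (V := V) Z₀, f • w ∈ fixedPts (V := V) Z₀ := by
    intro f hf w hw
    have := smul_mem_fixedPts_conjSub hw f
    rwa [hFn f hf] at this
  have hHH : ∀ f ∈ F, f ≠ 1 → ∀ x ∈ Q, ∀ w ∈ fixedPts (V := V) Z₀,
      (f * x * f⁻¹ * x⁻¹) • w = w := by
    intro f hf hf1
    have hfq : f ^ q = 1 := by
      rw [← hpq.orderOf_eq_q hf hf1]; exact pow_orderOf_eq_one f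
    refine Cfsg.Agent.Lib.Helper7.PQHH.hh_sub_exc hr ht hpq.hq hV (Ne.symm htr) hrq htq Q hQt f hfq
      (fun x hx => hQn.conj_mem x hx f) (fixedPts (V := V) Z₀) hWQ (hWf f hf) ?_ ?_
    · intro w hw hfw
      exact hWF w hw (smul_eq_of_card_prime hpq.hq hpq.cardF hf hf1 hfw)
    · intro h2 hFer
      exfalso
      obtain ⟨n, hn⟩ := hFer
      have h1 := hpq.dvd_sub_one
      rw [hn, Nat.add_sub_cancel] at h1
      have h3 : p ∣ 2 := hpq.hp.dvd_of_dvd_pow h1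
      have h4 : p = 2 := (Nat.prime_dvd_prime_iff_eq hpq.hp Nat.prime_two).1 h3
      exact htp (h2.trans h4.symm)
  -- the commutator acts trivially on every translate
  have hc : ∀ a ∈ F ⊔ H, ∀ w ∈ fixedPts (V := V) Z₀,
      (f₀ * x₀ * f₀⁻¹ * x₀⁻¹) • a • w = a • w := by
    intro a ha w hw
    have hf' : a⁻¹ * f₀ * a ∈ F := hpq.norm_sup' ha hf₀
    have hf'1 : a⁻¹ * f₀ * a ≠ 1 := by
      intro h1
      apply hne
      have : f₀ = 1 := by
        have h2 : f₀ = a * (a⁻¹ * f₀ * a) * a⁻¹ := by group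
        rw [h2, h1]; group
      rw [this, one_mul, mul_one]
    have hx' : a⁻¹ * x₀ * a ∈ Q := by
      have := hQn.conj_mem x₀ hx₀ a⁻¹
      simpa using this
    have h1 := hHH _ hf' hf'1 _ hx' w hw
    have h2 : (f₀ * x₀ * f₀⁻¹ * x₀⁻¹) * a =
        a * ((a⁻¹ * f₀ * a) * (a⁻¹ * x₀ * a) * (a⁻¹ * f₀ * a)⁻¹ * (a⁻¹ * x₀ * a)⁻¹) := by group
    rw [← mul_smul, h2, mul_smul, h1]
  have htriv := acts_trivially_of_translates (A := F ⊔ H) (Z := Z) hirr hgen hZ₀ hW _ hc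
  have hcQ : f₀ * x₀ * f₀⁻¹ * x₀⁻¹ ∈ Q := Q.mul_mem (hQn.conj_mem x₀ hx₀ f₀) (Q.inv_mem hx₀)
  have h1 := hfaith _ hcQ htriv
  apply hne
  have : f₀ * x₀ = (f₀ * x₀ * f₀⁻¹ * x₀⁻¹) * (x₀ * f₀) := by group
  rw [this, h1, one_mul]

end branches


section branchA

variable {p q r t : ℕ} {F H Q Z Z₀ : Subgroup T}

/-- the case `N_A(Z₀) = A` is impossible. -/
theorem branch_A (hpq : IsPQ p q F H) (hr : r.Prime) (ht : t.Prime)
    (htr : t ≠ r) (htp : t ≠ p) (htq : t ≠ q) (hrp : r ≠ p) (hrq : r ≠ q)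
    (hV : ∀ v : V, r • v = 0)
    (hQn : Q.Normal) (hQt : IsPGroup t Q)
    (hZn : Z.Normal) (hZQ : Z ≤ Q) (hZc : ∀ z ∈ Z, ∀ x ∈ Q, z * x = x * z) (hZ1 : Z ≠ ⊥)
    (hZ0 : fixedPts (V := V) Z = ⊥)
    (hgen : ∀ g : T, ∃ a ∈ F ⊔ H, ∃ c : T, (∀ z ∈ Z, c * z = z * c) ∧ g = a * c)
    (hfaith : ∀ x ∈ Q, (∀ v : V, x • v = v) → x = 1)
    (hirr : ∀ W : AddSubgroup V, (∀ x : T, ∀ w ∈ W, x • w ∈ W) → W = ⊥ ∨ W = ⊤)
    (hA0 : ∀ v : V, (∀ a ∈ F ⊔ H, a • v = v) → v = 0)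
    (hQA : ∀ x ∈ Q, (∀ a ∈ F ⊔ H, a * x = x * a) → x = 1)
    (hT6 : ∃ x ∈ Q, ∃ f ∈ F, f * x ≠ x * f)
    (hZ₀ : IsHyp (V := V) t Z Z₀)
    (hAn : ∀ a ∈ F ⊔ H, conjSub a Z₀ = Z₀)
    {a₀ : T} (ha₀ : a₀ ∈ F ⊔ H) (ha₀1 : a₀ ≠ 1) (ha₀Z : ∀ z ∈ Z, a₀ * z * a₀⁻¹ * z⁻¹ ∈ Z₀) :
    False := by
  classical
  have htf : Fact t.Prime := ⟨ht⟩
  -- `Z₀` is normal in `T`
  have hTn : ∀ g : T, conjSub g Z₀ = Z₀ := by
    intro g
    obtain ⟨a, ha, c, hc, rfl⟩ := hgen g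
    rw [conjSub_mul]
    have : conjSub c Z₀ = Z₀ := by
      apply conjSub_eq_self
      intro z hz
      have : c * z * c⁻¹ = z := by rw [hc z (hZ₀.1 hz)]; group
      rw [this]; exact hz
    rw [this, hAn a ha]
  -- so `C_V(Z₀) = V` and `Z₀ = 1`
  have hWtop : fixedPts (V := V) Z₀ = ⊤ := by
    rcases hirr (fixedPts (V := V) Z₀) (fun g w hw => by
      have := smul_mem_fixedPts_conjSub hw g
      rwa [hTn g] at this) with h0 | h0
    · exact absurd h0 hZ₀.2.2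
    · exact h0
  have hZ₀bot : Z₀ = ⊥ := by
    rw [eq_bot_iff]
    intro z hz
    rw [Subgroup.mem_bot]
    apply hfaith z (hZQ (hZ₀.1 hz))
    intro v
    have : v ∈ fixedPts (V := V) Z₀ := by rw [hWtop]; exact AddSubgroup.mem_top v
    exact this z hz
  have hcardZ : Nat.card Z = t := by
    have := hZ₀.2.1
    rw [hZ₀bot, Subgroup.card_bot, one_mul] at this
    exact this.symm
  -- `a₀` centralizes `Z`
  have ha₀c : ∀ z ∈ Z, a₀ * z = z * a₀ := by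
    intro z hz
    have h1 := ha₀Z z hz
    rw [hZ₀bot, Subgroup.mem_bot] at h1
    have : a₀ * z = (a₀ * z * a₀⁻¹ * z⁻¹) * (z * a₀) := by group
    rw [this, h1, one_mul]
  -- the centralizer of `Z` in `A` is `F`
  obtain ⟨C, hCdef⟩ : ∃ C : Subgroup T, C = Subgroup.centralizer (Z : Set T) ⊓ (F ⊔ H) := ⟨_, rfl⟩
  have hmemC : ∀ x : T, x ∈ C ↔ (∀ z ∈ Z, z * x = x * z) ∧ x ∈ F ⊔ H := by
    intro x
    rw [hCdef, Subgroup.mem_inf, Subgroup.mem_centralizer_iff]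
    rfl
  have hCle : C ≤ F ⊔ H := fun x hx => ((hmemC x).1 hx).2
  have hCn : ∀ a ∈ F ⊔ H, ∀ b ∈ C, a * b * a⁻¹ ∈ C := by
    intro a ha b hb
    rw [hmemC] at hb ⊢
    refine ⟨?_, (F ⊔ H).mul_mem ((F ⊔ H).mul_mem ha hb.2) ((F ⊔ H).inv_mem ha)⟩
    intro z hz
    have hz' : a⁻¹ * z * a ∈ Z := by
      have := hZn.conj_mem z hz a⁻¹
      simpa using this
    have h1 := hb.1 _ hz'
    calc z * (a * b * a⁻¹) = a * ((a⁻¹ * z * a) * b) * a⁻¹ := by group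
      _ = a * (b * (a⁻¹ * z * a)) * a⁻¹ := by rw [h1]
      _ = a * b * a⁻¹ * z := by group
  have ha₀C : a₀ ∈ C := (hmemC a₀).2 ⟨fun z hz => (ha₀c z hz).symm, ha₀⟩
  have hCF : C = F := by
    rcases hpq.normal_cases hCle hCn with h | h | h
    · exfalso
      rw [h, Subgroup.mem_bot] at ha₀C
      exact ha₀1 ha₀C
    · exact h
    · exfalso
      apply hZ1
      rw [eq_bot_iff]
      intro z hz
      rw [Subgroup.mem_bot]
      apply hQA z (hZQ hz)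
      intro a ha
      have : a ∈ C := by rw [h]; exact ha
      exact (((hmemC a).1 this).1 z hz).symm
  have hFc : ∀ f ∈ F, ∀ z ∈ Z, z * f = f * z := by
    intro f hf z hz
    have : f ∈ C := by rw [hCF]; exact hf
    exact ((hmemC f).1 this).1 z hz
  -- an element `h ≠ 1` of `H` acts fixed-point-freely on `Z`
  obtain ⟨h, hh, hh1⟩ := hpq.exists_H_ne_one
  have hhfpf : ∀ z ∈ Z, h * z = z * h → z = 1 := by
    intro z hz hc
    by_contra hz1
    have hall : ∀ z' ∈ Z, z' * h = h * z' := by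
      intro z' hz'
      have h1 : z' ∈ Subgroup.zpowers z := mem_zpowers_of_card_prime ht hcardZ hz hz1 hz'
      have h2 : Subgroup.zpowers z ≤ Subgroup.centralizer ({h} : Set T) := by
        rw [Subgroup.zpowers_le, Subgroup.mem_centralizer_iff]
        intro y hy
        rw [Set.mem_singleton_iff] at hy
        rw [hy]; exact hc
      have h3 := Subgroup.mem_centralizer_iff.1 (h2 h1) h (Set.mem_singleton h)
      exact h3.symm
    have hhC : h ∈ C := (hmemC h).2 ⟨hall, (le_sup_right : H ≤ F ⊔ H) hh⟩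
    rw [hCF] at hhC
    exact hh1 (hpq.eq_one_of_mem hhC hh)
  -- `C_V(F) ≠ 0`
  obtain ⟨x₀, hx₀, f₀, hf₀, hne⟩ := hT6
  have hf₀1 : f₀ ≠ 1 := by
    rintro rfl
    apply hne
    rw [one_mul, mul_one]
  have hf₀q : f₀ ^ q = 1 := by
    rw [← hpq.orderOf_eq_q hf₀ hf₀1]; exact pow_orderOf_eq_one f₀
  have hUne : fixedPts (V := V) F ≠ ⊥ := by
    intro hU
    have hfix : ∀ v : V, f₀ • v = v → v = 0 := by
      intro v hv
      have : v ∈ fixedPts (V := V) F := smul_eq_of_card_prime hpq.hq hpq.cardF hf₀ hf₀1 hv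
      rw [hU, AddSubgroup.mem_bot] at this
      exact this
    have h1 := Cfsg.Agent.Lib.Helper7.PQHH.comm_acts_trivially_exc hr ht hpq.hq hV htq
      (Ne.symm htr) hrq Q hQt f₀ hf₀q (fun x hx => hQn.conj_mem x hx f₀) hfix
      (by
        intro h2 hFer
        exfalso
        obtain ⟨n, hn⟩ := hFer
        have h1 := hpq.dvd_sub_one
        rw [hn, Nat.add_sub_cancel] at h1
        have h3 : p ∣ 2 := hpq.hp.dvd_of_dvd_pow h1
        have h4 : p = 2 := (Nat.prime_dvd_prime_iff_eq hpq.hp Nat.prime_two).1 h3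
        exact htp (h2.trans h4.symm)) x₀ hx₀
    have hcQ : f₀ * x₀ * f₀⁻¹ * x₀⁻¹ ∈ Q := Q.mul_mem (hQn.conj_mem x₀ hx₀ f₀) (Q.inv_mem hx₀)
    have h2 := hfaith _ hcQ h1
    apply hne
    have : f₀ * x₀ = (f₀ * x₀ * f₀⁻¹ * x₀⁻¹) * (x₀ * f₀) := by group
    rw [this, h2, one_mul]
  -- (L-frob) for `Z⟨h⟩` on `C_V(F)`
  have hhp : h ^ p = 1 := by
    have : orderOf h = p := orderOf_of_card_prime hpq.hp hpq.cardH hh hh1
    rw [← this]; exact pow_orderOf_eq_one h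
  have hZt : IsPGroup t Z := hQt.to_le hZQ
  have hcopZ : (Nat.card V).Coprime (Nat.card Z) := by
    rw [hcardZ]
    exact coprime_card_V hr hV ((Nat.coprime_primes hr ht).2 (Ne.symm htr))
  obtain ⟨u, huU, hu0, hhu⟩ := l_frob (V := V) hpq.hp Z h hhp
    (fun z hz => hZn.conj_mem z hz h) hhfpf hcopZ (fixedPts (V := V) F)
    (by
      intro z hz u hu f hf
      rw [← mul_smul, ← hFc f hf z hz, mul_smul, hu f hf])
    (by
      intro u hu f hf
      have hf' : h⁻¹ * f * h ∈ F := hpq.norm' hh hf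
      have : f • h • u = h • ((h⁻¹ * f * h) • u) := by
        rw [← mul_smul, ← mul_smul]; congr 1; group
      rw [this, hu _ hf'])
    (by
      intro u _ huZ
      have : u ∈ fixedPts (V := V) Z := huZ
      rw [hZ0, AddSubgroup.mem_bot] at this
      exact this)
    hUne
  -- `u` is fixed by `A`
  apply hu0
  apply hA0
  have hle : F ⊔ H ≤ MulAction.stabilizer T u := by
    refine sup_le (fun f hf => huU f hf) (fun h' hh' => ?_)
    exact smul_eq_of_card_prime hpq.hp hpq.cardH hh hh1 hhu h' hh'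
  intro a ha
  exact hle ha

end branchA


section main

variable {p q r t : ℕ} {F H Q Z : Subgroup T}

/-- **T-Sp1** (plan §4): there is a hyperplane `Z₀` of `Z` with `C_V(Z₀) ≠ 0` whose stabilizer
in `A = F ⊔ H` is a conjugate `x H x⁻¹` (`x ∈ F`) of the complement, and this conjugate acts
trivially on `Z / Z₀`. -/
theorem sp1 (hpq : IsPQ p q F H) (hr : r.Prime) (ht : t.Prime)
    (htr : t ≠ r) (htp : t ≠ p) (htq : t ≠ q) (hrp : r ≠ p) (hrq : r ≠ q)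
    (hV : ∀ v : V, r • v = 0) (hV0 : ∃ v : V, v ≠ 0)
    (hQn : Q.Normal) (hQt : IsPGroup t Q)
    (hZn : Z.Normal) (hZQ : Z ≤ Q) (hZc : ∀ z ∈ Z, ∀ x ∈ Q, z * x = x * z)
    (hZe : ∀ z ∈ Z, z ^ t = 1) (hZ1 : Z ≠ ⊥)
    (hgen : ∀ g : T, ∃ a ∈ F ⊔ H, ∃ c : T, (∀ z ∈ Z, c * z = z * c) ∧ g = a * c)
    (hfaith : ∀ x ∈ Q, (∀ v : V, x • v = v) → x = 1)
    (hirr : ∀ W : AddSubgroup V, (∀ x : T, ∀ w ∈ W, x • w ∈ W) → W = ⊥ ∨ W = ⊤)
    (hA0 : ∀ v : V, (∀ a ∈ F ⊔ H, a • v = v) → v = 0)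
    (hQA : ∀ x ∈ Q, (∀ a ∈ F ⊔ H, a * x = x * a) → x = 1)
    (hT6 : ∃ x ∈ Q, ∃ f ∈ F, f * x ≠ x * f) :
    ∃ Z₀ : Subgroup T, IsHyp (V := V) t Z Z₀ ∧ ∃ x ∈ F,
      (∀ a ∈ F ⊔ H, conjSub a Z₀ = Z₀ ↔ a ∈ H.map (MulAut.conj x).toMonoidHom) ∧
      ∀ h ∈ H.map (MulAut.conj x).toMonoidHom, ∀ z ∈ Z, h * z * h⁻¹ * z⁻¹ ∈ Z₀ := by
  classical
  have htf : Fact t.Prime := ⟨ht⟩
  have hcopt : (Nat.card V).Coprime t :=
    coprime_card_V hr hV ((Nat.coprime_primes hr ht).2 (Ne.symm htr))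
  have hcopp : (Nat.card V).Coprime p :=
    coprime_card_V hr hV ((Nat.coprime_primes hr hpq.hp).2 hrp)
  have hcopq : (Nat.card V).Coprime q :=
    coprime_card_V hr hV ((Nat.coprime_primes hr hpq.hq).2 hrq)
  have hcopA : (Nat.card V).Coprime (Nat.card (F ⊔ H : Subgroup T)) := by
    rw [hpq.card_sup]; exact Nat.Coprime.mul_right hcopp hcopq
  have hZt : IsPGroup t Z := hQt.to_le hZQ
  have hcopZ : (Nat.card V).Coprime (Nat.card Z) := by
    obtain ⟨k, hk⟩ := IsPGroup.iff_card.1 hZt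
    rw [hk]; exact Nat.Coprime.pow_right k hcopt
  have hZab : ∀ x ∈ Z, ∀ y ∈ Z, x * y = y * x := fun x hx y hy => hZc x hx y (hZQ hy)
  have hZ0 : fixedPts (V := V) Z = ⊥ :=
    fixedPts_eq_bot_of_normal' hirr hZn (fun x hx => hfaith x (hZQ hx)) hZ1
  have hAfix : fixedPts (V := V) (F ⊔ H) = ⊥ := by
    rw [eq_bot_iff]
    intro v hv
    exact (AddSubgroup.mem_bot).2 (hA0 v hv)
  obtain ⟨Z₀, hZ₀⟩ := exists_isHyp hcopt hV0 Z hZab hZe hZ0
  -- (L-star)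
  obtain ⟨a, haA, haord, haN, haZ⟩ :=
    Cfsg.Agent.Lib.Helper7.S3L2.exists_prime_trivial_mod_hyp (V := V) (E := Z) (A := F ⊔ H)
      (hEn := hZn) hZab hZ0 hcopZ hcopA hAfix hZ₀
  have ha1 : a ≠ 1 := by
    rintro rfl
    rw [orderOf_one] at haord
    exact Nat.not_prime_one haord
  have haS : a ∈ stabIn (F ⊔ H) Z₀ := ⟨haA, haN⟩
  refine ⟨Z₀, hZ₀, ?_⟩
  rcases hpq.subgroup_cases (stabIn_le (F ⊔ H) Z₀) with h | h | h | ⟨x, hx, h⟩
  · -- `A₀ = 1`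
    exfalso
    rw [h, Subgroup.mem_bot] at haS
    exact ha1 haS
  · -- `A₀ = F`
    exfalso
    refine branch_F (V := V) hpq hr ht htr htp htq hrq hV hQn hQt hZc hgen hfaith hirr hT6 hZ₀.1
      hZ₀.2.2 ?_ ?_
    · intro f hf
      have : f ∈ stabIn (F ⊔ H) Z₀ := by rw [h]; exact hf
      exact this.2
    · intro w hw hwF
      by_contra hw0
      apply Cfsg.Agent.Lib.Lead.S3F1.fixedPts_ne_bot_of_hyp (V := V) (E := Z) (A := F ⊔ H)
        (hEn := hZn) hZab hZ0 hcopZ hcopA hZ₀ hw hw0 ?_ hAfix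
      intro a' ha' ha'N
      have : a' ∈ stabIn (F ⊔ H) Z₀ := ⟨ha', ha'N⟩
      rw [h] at this
      exact hwF a' this
  · -- `A₀ = A`
    exfalso
    refine branch_A (V := V) hpq hr ht htr htp htq hrp hrq hV hQn hQt hZn hZQ hZc hZ1 hZ0 hgen
      hfaith hirr hA0 hQA hT6 hZ₀ ?_ haA ha1 haZ
    intro a' ha'
    have : a' ∈ stabIn (F ⊔ H) Z₀ := by rw [h]; exact ha'
    exact this.2
  · -- `A₀ = x H x⁻¹`
    refine ⟨x, hx, ?_, ?_⟩
    · intro a' ha'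
      rw [← h]
      exact ⟨fun h' => ⟨ha', h'⟩, fun h' => h'.2⟩
    · intro h' hh' z hz
      have haK : a ∈ H.map (MulAut.conj x).toMonoidHom := by rw [← h]; exact haS
      have hcard : Nat.card (H.map (MulAut.conj x).toMonoidHom) = p := by
        rw [IsPQ.card_conj, hpq.cardH]
      have h1 : h' ∈ Subgroup.zpowers a := mem_zpowers_of_card_prime hpq.hp hcard haK ha1 hh'
      rw [← mem_powers_iff_mem_zpowers, Submonoid.mem_powers_iff] at h1
      obtain ⟨k, rfl⟩ := h1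
      exact Cfsg.Agent.Lib.Helper7.S3L.trivMod_pow hZ₀.1 haZ k z hz

end main


/-! ### the statements of `notes/S4306_skeleton.lean.txt`, with the T-struct facts as hypotheses -/

section tower

open Cfsg.Agent.Lib.Helper4.PQ

variable {r t s p q : ℕ} {Q S A F H₀ : Subgroup T}

/-- `FrobPQ` gives helper2's `IsPQ`, and `A = F ⊔ H₀`. -/
theorem isPQ_of_frob (h : FrobPQ A F H₀ p q) : IsPQ p q F H₀ ∧ F ⊔ H₀ = A := by
  have hpq : IsPQ p q F H₀ := by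
    refine ⟨h.hp, h.hq, h.hF, h.hH, fun a ha f hf => h.hFn a (h.hHA ha) f hf, ?_⟩
    obtain ⟨a, ha, ha1⟩ := exists_ne_one_of_card_prime h.hp h.hH
    obtain ⟨f, hf, hf1⟩ := exists_ne_one_of_card_prime h.hq h.hF
    exact ⟨a, ha, f, hf, fun hc => hf1 (h.hfpf a ha ha1 f hf hc)⟩
  refine ⟨hpq, ?_⟩
  apply Subgroup.eq_of_le_of_card_ge (sup_le h.hFA h.hHA)
  rw [hpq.card_sup, h.hA]

theorem ne_of_coprime_mul_left {a p q : ℕ} (ha : a.Prime) (h : a.Coprime (p * q)) : a ≠ p := by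
  rintro rfl
  have h1 : a ∣ a * q := dvd_mul_right a q
  have := Nat.eq_one_of_dvd_coprimes h (dvd_refl a) h1
  exact ha.ne_one this

theorem ne_of_coprime_mul_right {a p q : ℕ} (ha : a.Prime) (h : a.Coprime (p * q)) : a ≠ q := by
  rintro rfl
  have h1 : a ∣ p * a := dvd_mul_left a p
  have := Nat.eq_one_of_dvd_coprimes h (dvd_refl a) h1
  exact ha.ne_one this

/-- `Z = C_Q(S)` is normal in `T` once it is central in `Q`. -/
theorem Zc_normal (h : Tower V r t s p q Q S A F H₀)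
    (hcen : ∀ z ∈ Zc Q S, ∀ u ∈ Q, z * u = u * z) : (Zc Q S).Normal := by
  constructor
  intro z hz g
  obtain ⟨u, hu, c, hc, a, ha, rfl⟩ := h.hgen g
  -- conjugation by `a`
  have hA : ∀ a ∈ A, ∀ z ∈ Zc Q S, a * z * a⁻¹ ∈ Zc Q S := by
    intro a ha z hz
    rw [mem_Zc] at hz ⊢
    refine ⟨h.hQn.conj_mem z hz.1 a, ?_⟩
    intro c hc
    have hc' : a⁻¹ * c * a ∈ S := by
      have := h.hAS a⁻¹ (A.inv_mem ha) c hc
      simpa using this
    have h1 := hz.2 _ hc'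
    calc c * (a * z * a⁻¹) = a * ((a⁻¹ * c * a) * z) * a⁻¹ := by group
      _ = a * (z * (a⁻¹ * c * a)) * a⁻¹ := by rw [h1]
      _ = a * z * a⁻¹ * c := by group
  have h1 := hA a ha z hz
  have h2 : c * (a * z * a⁻¹) * c⁻¹ = a * z * a⁻¹ := by
    rw [((mem_Zc.1 h1).2 c hc)]; group
  have h3 : u * (a * z * a⁻¹) * u⁻¹ = a * z * a⁻¹ := by
    rw [← hcen _ h1 u hu]; group
  have : u * c * a * z * (u * c * a)⁻¹ = u * (c * (a * z * a⁻¹) * c⁻¹) * u⁻¹ := by group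
  rw [this, h2, h3]
  exact h1

/-- `T = A · C_T(Z)`. -/
theorem tower_hgen (h : Tower V r t s p q Q S A F H₀)
    (hcen : ∀ z ∈ Zc Q S, ∀ u ∈ Q, z * u = u * z) :
    ∀ g : T, ∃ a ∈ A, ∃ c : T, (∀ z ∈ Zc Q S, c * z = z * c) ∧ g = a * c := by
  intro g
  have hZn := Zc_normal h hcen
  obtain ⟨u, hu, c, hc, a, ha, rfl⟩ := h.hgen g
  refine ⟨a, ha, a⁻¹ * (u * c) * a, ?_, by group⟩
  intro z hz
  have hz' : a * z * a⁻¹ ∈ Zc Q S := hZn.conj_mem z hz a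
  have h1 : c * (a * z * a⁻¹) = (a * z * a⁻¹) * c := (mem_Zc.1 hz').2 c hc
  have h2 : (a * z * a⁻¹) * u = u * (a * z * a⁻¹) := hcen _ hz' u hu
  calc a⁻¹ * (u * c) * a * z = a⁻¹ * (u * (c * (a * z * a⁻¹))) * a := by group
    _ = a⁻¹ * (u * ((a * z * a⁻¹) * c)) * a := by rw [h1]
    _ = a⁻¹ * ((u * (a * z * a⁻¹)) * c) * a := by group
    _ = a⁻¹ * (((a * z * a⁻¹) * u) * c) * a := by rw [h2]
    _ = z * (a⁻¹ * (u * c) * a) := by group

/-- `conjSub a K = K` in terms of elements. -/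
theorem conjSub_eq_iff {a : T} {K : Subgroup T} :
    conjSub a K = K ↔ ∀ z ∈ K, a * z * a⁻¹ ∈ K := by
  constructor
  · intro h z hz
    rw [← h, mem_conjSub]
    have : a⁻¹ * (a * z * a⁻¹) * a = z := by group
    rw [this]; exact hz
  · exact conjSub_eq_self

section withfacts

variable (h : Tower V r t s p q Q S A F H₀)
  (hcen : ∀ z ∈ Zc Q S, ∀ u ∈ Q, z * u = u * z) (hpow : ∀ z ∈ Zc Q S, z ^ t = 1)
include h hcen hpow

theorem tower_fixedPts_Zc (hZ : Zc Q S ≠ ⊥) : fixedPts (V := V) (Zc Q S) = ⊥ :=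
  fixedPts_eq_bot_of_normal' h.hirr (Zc_normal h hcen)
    (fun x hx => h.hfaith x (mem_Zc.1 hx).1) hZ

/-- skeleton `Tower.exists_isHyp`, from (T3). -/
theorem exists_isHyp_of (hZ : Zc Q S ≠ ⊥) :
    ∃ Z₀ : Subgroup T, IsHyp (V := V) t (Zc Q S) Z₀ := by
  have htf : Fact t.Prime := ⟨h.ht⟩
  have hcopt : (Nat.card V).Coprime t :=
    coprime_card_V h.hr h.hVr ((Nat.coprime_primes h.hr h.ht).2 (Ne.symm h.htr))
  exact exists_isHyp hcopt h.hV (Zc Q S)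
    (fun x hx y hy => hcen x hx y (mem_Zc.1 hy).1) hpow (tower_fixedPts_Zc h hcen hpow hZ)

/-- (L-star) in the tower. -/
theorem tower_l_star (hZ : Zc Q S ≠ ⊥) {Z₀ : Subgroup T}
    (hZ₀ : IsHyp (V := V) t (Zc Q S) Z₀) :
    ∃ a ∈ A, a ≠ 1 ∧ (∀ z ∈ Z₀, a * z * a⁻¹ ∈ Z₀) ∧
      ∀ z ∈ Zc Q S, a * z * a⁻¹ * z⁻¹ ∈ Z₀ := by
  have htf : Fact t.Prime := ⟨h.ht⟩
  obtain ⟨hpq, hAeq⟩ := isPQ_of_frob h.frob
  have hcopt : (Nat.card V).Coprime t :=
    coprime_card_V h.hr h.hVr ((Nat.coprime_primes h.hr h.ht).2 (Ne.symm h.htr))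
  have hcopA : (Nat.card V).Coprime (Nat.card A) := by
    rw [h.frob.hA]
    exact coprime_card_V h.hr h.hVr h.hrA
  have hZt : IsPGroup t (Zc Q S) := h.hQ.to_le (fun x hx => (mem_Zc.1 hx).1)
  have hcopZ : (Nat.card V).Coprime (Nat.card (Zc Q S)) := by
    obtain ⟨k, hk⟩ := IsPGroup.iff_card.1 hZt
    rw [hk]; exact Nat.Coprime.pow_right k hcopt
  have hAfix : fixedPts (V := V) A = ⊥ := by
    rw [eq_bot_iff]
    intro v hv
    exact (AddSubgroup.mem_bot).2 (h.hfpfV v hv)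
  obtain ⟨a, haA, haord, haN, haZ⟩ :=
    Cfsg.Agent.Lib.Helper7.S3L2.exists_prime_trivial_mod_hyp (V := V) (E := Zc Q S) (A := A)
      (hEn := Zc_normal h hcen) (fun x hx y hy => hcen x hx y (mem_Zc.1 hy).1)
      (tower_fixedPts_Zc h hcen hpow hZ) hcopZ hcopA hAfix hZ₀
  refine ⟨a, haA, ?_, conjSub_eq_iff.1 haN, haZ⟩
  rintro rfl
  rw [orderOf_one] at haord
  exact Nat.not_prime_one haord

/-- skeleton `Tower.false_of_stab_bot`, from (T3). -/
theorem false_of_stab_bot_of (hZ : Zc Q S ≠ ⊥) (Z₀ : Subgroup T)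
    (hZ₀ : IsHyp (V := V) t (Zc Q S) Z₀)
    (hst : ∀ a ∈ A, (∀ z ∈ Z₀, a * z * a⁻¹ ∈ Z₀) → a = 1) : False := by
  obtain ⟨a, haA, ha1, haN, -⟩ := tower_l_star h hcen hpow hZ hZ₀
  exact ha1 (hst a haA haN)

/-- skeleton `Tower.false_of_stab_F`, from (T3) and (T6). -/
theorem false_of_stab_F_of (hT6 : ∃ u ∈ Q, ∃ f ∈ F, u * f ≠ f * u) (hZ : Zc Q S ≠ ⊥)
    (Z₀ : Subgroup T) (hZ₀ : IsHyp (V := V) t (Zc Q S) Z₀)
    (hst : ∀ a ∈ A, (∀ z ∈ Z₀, a * z * a⁻¹ ∈ Z₀) ↔ a ∈ F) : False := by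
  have htf : Fact t.Prime := ⟨h.ht⟩
  obtain ⟨hpq, hAeq⟩ := isPQ_of_frob h.frob
  have hgen := tower_hgen h hcen
  rw [← hAeq] at hgen
  have hcopt : (Nat.card V).Coprime t :=
    coprime_card_V h.hr h.hVr ((Nat.coprime_primes h.hr h.ht).2 (Ne.symm h.htr))
  have hcopA : (Nat.card V).Coprime (Nat.card A) := by
    rw [h.frob.hA]
    exact coprime_card_V h.hr h.hVr h.hrA
  have hZt : IsPGroup t (Zc Q S) := h.hQ.to_le (fun x hx => (mem_Zc.1 hx).1)
  have hcopZ : (Nat.card V).Coprime (Nat.card (Zc Q S)) := by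
    obtain ⟨k, hk⟩ := IsPGroup.iff_card.1 hZt
    rw [hk]; exact Nat.Coprime.pow_right k hcopt
  have hAfix : fixedPts (V := V) A = ⊥ := by
    rw [eq_bot_iff]
    intro v hv
    exact (AddSubgroup.mem_bot).2 (h.hfpfV v hv)
  have hT6' : ∃ x ∈ Q, ∃ f ∈ F, f * x ≠ x * f := by
    obtain ⟨u, hu, f, hf, hne⟩ := hT6
    exact ⟨u, hu, f, hf, fun e => hne e.symm⟩
  refine branch_F (V := V) (Z := Zc Q S) hpq h.hr h.ht h.htr
    (ne_of_coprime_mul_left h.ht h.htA) (ne_of_coprime_mul_right h.ht h.htA)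
    (ne_of_coprime_mul_right h.hr h.hrA) h.hVr h.hQn h.hQ hcen hgen h.hfaith h.hirr hT6'
    hZ₀.1 hZ₀.2.2 ?_ ?_
  · intro f hf
    exact conjSub_eq_iff.2 ((hst f (h.frob.hFA hf)).2 hf)
  · intro w hw hwF
    by_contra hw0
    apply Cfsg.Agent.Lib.Lead.S3F1.fixedPts_ne_bot_of_hyp (V := V) (E := Zc Q S) (A := A)
      (hEn := Zc_normal h hcen) (fun x hx y hy => hcen x hx y (mem_Zc.1 hy).1)
      (tower_fixedPts_Zc h hcen hpow hZ) hcopZ hcopA hZ₀ hw hw0 ?_ hAfix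
    intro a' ha' ha'N
    exact hwF a' ((hst a' ha').1 (conjSub_eq_iff.1 ha'N))

/-- skeleton `Tower.false_of_stab_top`, from (T3) and (T6). -/
theorem false_of_stab_top_of (hT6 : ∃ u ∈ Q, ∃ f ∈ F, u * f ≠ f * u) (hZ : Zc Q S ≠ ⊥)
    (Z₀ : Subgroup T) (hZ₀ : IsHyp (V := V) t (Zc Q S) Z₀)
    (hst : ∀ a ∈ A, ∀ z ∈ Z₀, a * z * a⁻¹ ∈ Z₀) : False := by
  obtain ⟨hpq, hAeq⟩ := isPQ_of_frob h.frob
  have hgen := tower_hgen h hcen
  rw [← hAeq] at hgen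
  have hT6' : ∃ x ∈ Q, ∃ f ∈ F, f * x ≠ x * f := by
    obtain ⟨u, hu, f, hf, hne⟩ := hT6
    exact ⟨u, hu, f, hf, fun e => hne e.symm⟩
  obtain ⟨a, haA, ha1, haN, haZ⟩ := tower_l_star h hcen hpow hZ hZ₀
  refine branch_A (V := V) (Z := Zc Q S) hpq h.hr h.ht h.htr
    (ne_of_coprime_mul_left h.ht h.htA) (ne_of_coprime_mul_right h.ht h.htA)
    (ne_of_coprime_mul_left h.hr h.hrA) (ne_of_coprime_mul_right h.hr h.hrA) h.hVr h.hQn h.hQ
    (Zc_normal h hcen) (fun x hx => (mem_Zc.1 hx).1) hcen hZ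
    (tower_fixedPts_Zc h hcen hpow hZ) hgen h.hfaith h.hirr ?_ ?_ hT6' hZ₀ ?_ ?_ ha1 haZ
  · intro v hv
    apply h.hfpfV v
    intro a ha
    rw [← hAeq] at ha
    exact hv a ha
  · intro x hx hxa
    apply h.hfpfQ x hx
    intro a ha
    rw [← hAeq] at ha
    exact hxa a ha
  · intro a ha
    rw [hAeq] at ha
    exact conjSub_eq_iff.2 (hst a ha)
  · rw [hAeq]; exact haA

end withfacts

end tower

end Cfsg.Agent.Lib.Helper7.PQSp1
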