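import Mathlib

/-!
# S3814, Case 1 (S2*): the trace lemma (L2+)

A Frobenius-like group `D ⋊ B` (every non-identity element of `B` acts fixed-point-freely on `D`)
acting on a normal abelian subgroup `P` with `C_P(D) = 1` and `|D|` prime to the exponent of `P`:
then `C_P(B) ≠ 1`.  No structure of `B` is used (trace argument).
-/

set_option autoImplicit false

namespace Cfsg.Agent.Lib.Helper7.SolvTri

open scoped IsMulCommutative

universe u

variable {G : Type u} [Group G]

section Trace

variable (P : Subgroup G) [hPn : P.Normal] [hPc : IsMulCommutative P]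

/-- conjugation by `g` on the normal subgroup `P` -/
noncomputable def cjP (g : G) : P →* P := (MulAut.conjNormal g : MulAut P).toMonoidHom

theorem cjP_coe (g : G) (v : P) : ((cjP P g v : P) : G) = g * v * g⁻¹ := by
  simp [cjP]

theorem cjP_mul (g h : G) (v : P) : cjP P (g * h) v = cjP P g (cjP P h v) := by
  apply Subtype.ext
  simp only [cjP_coe]
  group

theorem cjP_one (v : P) : cjP P 1 v = v := by
  apply Subtype.ext
  simp [cjP_coe]

variable [Finite G]

/-- the norm of `w` over the subgroup `B` -/
noncomputable def nrmP (B : Subgroup G) (w : P) : P :=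
  haveI : Fintype B := Fintype.ofFinite B
  ∏ b : B, cjP P (b : G) w

theorem cjP_nrmP (B : Subgroup G) (w : P) (b₀ : G) (hb₀ : b₀ ∈ B) :
    cjP P b₀ (nrmP P B w) = nrmP P B w := by
  classical
  haveI : Fintype B := Fintype.ofFinite B
  unfold nrmP
  rw [map_prod]
  have : ∀ b : B, cjP P b₀ (cjP P (b : G) w) = cjP P (((⟨b₀, hb₀⟩ : B) * b : B) : G) w := by
    intro b
    rw [Subgroup.coe_mul, cjP_mul]
  simp_rw [this]
  convert Fintype.prod_equiv (Equiv.mulLeft (⟨b₀, hb₀⟩ : B))
    (fun b : B => cjP P (((⟨b₀, hb₀⟩ : B) * b : B) : G) w) (fun b : B => cjP P (b : G) w)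
    (fun b => rfl)

theorem nrmP_comm (B : Subgroup G) (w : P) (b₀ : G) (hb₀ : b₀ ∈ B) :
    Commute b₀ ((nrmP P B w : P) : G) := by
  have h := congrArg (fun x : P => (x : G)) (cjP_nrmP P B w b₀ hb₀)
  simp only [cjP_coe] at h
  unfold Commute SemiconjBy
  calc b₀ * (nrmP P B w : G) = (b₀ * (nrmP P B w : G) * b₀⁻¹) * b₀ := by group
    _ = (nrmP P B w : G) * b₀ := by rw [h]

/-- **(L2+)** the trace lemma: a Frobenius-like group `D ⋊ B` acting on the normal abelian subgroup
`P` with `C_P(D) = 1` and `|D|` prime to the exponent of `P` has `C_P(B) ≠ 1`. -/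
theorem frob_fix_gen (D B : Subgroup G) (hP1 : P ≠ ⊥)
    (hBD : B ≤ Subgroup.normalizer (D : Set G))
    (hfree : ∀ b ∈ B, b ≠ 1 → ∀ d ∈ D, Commute b d → d = 1)
    (hCD : ∀ v ∈ P, (∀ d ∈ D, Commute d v) → v = 1)
    (hcop : ∀ v ∈ P, v ^ Nat.card D = 1 → v = 1) :
    ∃ v ∈ P, v ≠ 1 ∧ ∀ b ∈ B, Commute b v := by
  classical
  by_contra hno
  push_neg at hno
  haveI : Fintype B := Fintype.ofFinite B
  haveI : Fintype D := Fintype.ofFinite D
  have hNB : ∀ w : P, (∏ b : B, cjP P (b : G) w) = 1 := by
    intro w
    have e : (∏ b : B, cjP P (b : G) w) = nrmP P B w := by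
      unfold nrmP
      apply Finset.prod_congr
      · ext; simp
      · intros; rfl
    rw [e]
    by_contra h
    have h' : ((nrmP P B w : P) : G) ≠ 1 := fun h0 => h (Subtype.ext h0)
    obtain ⟨b, hb, hnb⟩ := hno _ (nrmP P B w).2 h'
    exact hnb (nrmP_comm P B w b hb)
  have hND : ∀ w : P, (∏ d : D, cjP P (d : G) w) = 1 := by
    intro w
    have e : (∏ d : D, cjP P (d : G) w) = nrmP P D w := by
      unfold nrmP
      apply Finset.prod_congr
      · ext; simp
      · intros; rfl
    rw [e]
    apply Subtype.ext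
    apply hCD _ (nrmP P D w).2
    intro d hd
    exact nrmP_comm P D w d hd
  have key : ∀ w : P, w ^ Nat.card D = 1 := by
    intro w
    have h1 : ∏ d : D, ∏ b : B, cjP P ((d : G) * b * (d : G)⁻¹) w = 1 := by
      apply Finset.prod_eq_one
      intro d _
      have h3 : ∀ b : B, cjP P ((d : G) * b * (d : G)⁻¹) w
          = cjP P d (cjP P b (cjP P (d : G)⁻¹ w)) := by
        intro b; rw [cjP_mul, cjP_mul]
      simp_rw [h3]
      rw [← map_prod, hNB, map_one]
    rw [Finset.prod_comm] at h1
    have h2 : ∀ b : B, (∏ d : D, cjP P ((d : G) * b * (d : G)⁻¹) w)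
        = if b = 1 then w ^ Nat.card D else 1 := by
      intro b
      split_ifs with hb
      · subst hb
        have : ∀ d : D, cjP P ((d : G) * ((1 : B) : G) * (d : G)⁻¹) w = w := by
          intro d
          have : (d : G) * ((1 : B) : G) * (d : G)⁻¹ = 1 := by simp
          rw [this, cjP_one]
        simp_rw [this]
        rw [Finset.prod_const, Finset.card_univ, Nat.card_eq_fintype_card]
      · have hb1 : (b : G) ≠ 1 := fun h => hb (Subtype.ext h)
        have hbN := hBD b.2
        have hmem : ∀ d : D, (d : G) * b * (d : G)⁻¹ * (b : G)⁻¹ ∈ D := by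
          intro d
          have h4 : (b : G) * (d : G)⁻¹ * (b : G)⁻¹ ∈ D :=
            (Subgroup.mem_normalizer_iff.1 hbN _).1 (D.inv_mem d.2)
          have : (d : G) * b * (d : G)⁻¹ * (b : G)⁻¹ = (d : G) * ((b : G) * (d : G)⁻¹ * (b : G)⁻¹) := by
            group
          rw [this]
          exact D.mul_mem d.2 h4
        let φ : D → D := fun d => ⟨(d : G) * b * (d : G)⁻¹ * (b : G)⁻¹, hmem d⟩
        have hinj : Function.Injective φ := by
          intro d d' hdd
          have h5 : (d : G) * b * (d : G)⁻¹ * (b : G)⁻¹ = (d' : G) * b * (d' : G)⁻¹ * (b : G)⁻¹ :=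
            congrArg Subtype.val hdd
          have h6 : (d : G) * b * (d : G)⁻¹ = (d' : G) * b * (d' : G)⁻¹ := mul_right_cancel h5
          have h7 : Commute (b : G) ((d' : G)⁻¹ * d) := by
            unfold Commute SemiconjBy
            calc (b : G) * ((d' : G)⁻¹ * d)
                = (d' : G)⁻¹ * ((d' : G) * b * (d' : G)⁻¹) * d := by group
              _ = (d' : G)⁻¹ * ((d : G) * b * (d : G)⁻¹) * d := by rw [h6]
              _ = (d' : G)⁻¹ * d * b := by group
          have h8 := hfree b b.2 hb1 _ (D.mul_mem (D.inv_mem d'.2) d.2) h7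
          apply Subtype.ext
          calc (d : G) = (d' : G) * ((d' : G)⁻¹ * d) := by group
            _ = d' := by rw [h8, mul_one]
        have hbij : Function.Bijective φ := Finite.injective_iff_bijective.mp hinj
        have h9 : ∀ d : D, cjP P ((d : G) * b * (d : G)⁻¹) w
            = cjP P ((φ d : D) : G) (cjP P b w) := by
          intro d
          rw [← cjP_mul]
          have h10 : (d : G) * b * (d : G)⁻¹ = ((φ d : D) : G) * b := by
            show (d : G) * b * (d : G)⁻¹ = (d : G) * b * (d : G)⁻¹ * (b : G)⁻¹ * b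
            group
          rw [h10]
        simp_rw [h9]
        rw [Fintype.prod_bijective φ hbij (fun d => cjP P ((φ d : D) : G) (cjP P b w))
          (fun d => cjP P (d : G) (cjP P b w)) (fun _ => rfl)]
        exact hND _
    simp_rw [h2] at h1
    rw [Finset.prod_ite_eq' Finset.univ (1 : B)] at h1
    simpa using h1
  apply hP1
  rw [Subgroup.eq_bot_iff_forall]
  intro v hv
  have h := key ⟨v, hv⟩
  have h' : v ^ Nat.card D = 1 := by
    have := congrArg Subtype.val h
    simpa using this
  exact hcop v hv h'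

end Trace

end Cfsg.Agent.Lib.Helper7.SolvTri
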