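import Mathlib
import Cfsg.Agent.Lib.Lead.Nilpotent
import Cfsg.Agent.Lib.Helper9.CentralOrderP
import Cfsg.Agent.Lib.Helper8.VLToolR
import Cfsg.Agent.Lib.Helper4.VLBasic
import Cfsg.Agent.Lib.Helper9.VLTools

set_option autoImplicit false

namespace Cfsg.Agent.Lib.Helper7.VLS3

open Subgroup
open scoped commutatorElement

section class2

variable {Q : Type*} [Group Q]

/-- In a group whose commutators are central, `a ↦ ⁅a, x⁆` is multiplicative. -/
theorem comm_mul_left (hc : ∀ a b : Q, ⁅a, b⁆ ∈ center Q) (a b x : Q) :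
    ⁅a * b, x⁆ = ⁅a, x⁆ * ⁅b, x⁆ := by
  have hz := Subgroup.mem_center_iff.mp (hc b x)
  calc ⁅a * b, x⁆ = (a * ⁅b, x⁆) * (x * a⁻¹ * x⁻¹) := by
        simp only [commutatorElement_def]; group
    _ = (⁅b, x⁆ * a) * (x * a⁻¹ * x⁻¹) := by rw [hz a]
    _ = ⁅b, x⁆ * ⁅a, x⁆ := by simp only [commutatorElement_def]; group
    _ = ⁅a, x⁆ * ⁅b, x⁆ := (hz _).symm

/-- The homomorphism `a ↦ ⁅a, x⁆` of a group whose commutators are central. -/
def commHomC (hc : ∀ a b : Q, ⁅a, b⁆ ∈ center Q) (x : Q) : Q →* Q :=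
  MonoidHom.mk' (fun a => ⁅a, x⁆) (fun a b => comm_mul_left hc a b x)

theorem commHomC_apply (hc : ∀ a b : Q, ⁅a, b⁆ ∈ center Q) (x a : Q) :
    commHomC hc x a = ⁅a, x⁆ := rfl

theorem comm_pow_left (hc : ∀ a b : Q, ⁅a, b⁆ ∈ center Q) (a x : Q) (k : ℕ) :
    ⁅a ^ k, x⁆ = ⁅a, x⁆ ^ k := by
  have := map_pow (commHomC hc x) a k
  simpa [commHomC_apply] using this

theorem commHomC_ker (hc : ∀ a b : Q, ⁅a, b⁆ ∈ center Q) (x : Q) :
    (commHomC hc x).ker = centralizer ({x} : Set Q) := by
  ext a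
  rw [MonoidHom.mem_ker, commHomC_apply, commutatorElement_eq_one_iff_mul_comm,
    Subgroup.mem_centralizer_iff]
  constructor
  · intro h y hy
    rw [Set.mem_singleton_iff] at hy
    rw [hy]; exact h.symm
  · intro h
    exact (h x (Set.mem_singleton x)).symm

theorem commHomC_range_le (hc : ∀ a b : Q, ⁅a, b⁆ ∈ center Q) (x : Q) :
    (commHomC hc x).range ≤ commutator Q := by
  rintro _ ⟨a, rfl⟩
  rw [commHomC_apply, commutator_def]
  exact Subgroup.commutator_mem_commutator (Subgroup.mem_top a) (Subgroup.mem_top x)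

/-- If the derived subgroup is central of prime order `p`, every centralizer has index `1` or `p`. -/
theorem index_centralizer_dvd [Finite Q] {p : ℕ} (hc : commutator Q ≤ center Q)
    (hp : Nat.card (commutator Q) = p) (x : Q) : (centralizer ({x} : Set Q)).index ∣ p := by
  have hc' : ∀ a b : Q, ⁅a, b⁆ ∈ center Q := fun a b => hc (by
    rw [commutator_def]
    exact Subgroup.commutator_mem_commutator (Subgroup.mem_top a) (Subgroup.mem_top b))
  rw [← commHomC_ker hc' x, Subgroup.index_ker, ← hp]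
  exact Subgroup.card_dvd_of_le (commHomC_range_le hc' x)

/-- If the derived subgroup is central of order `p`, then `p`-th powers are central. -/
theorem pow_mem_center [Finite Q] {p : ℕ} (hc : commutator Q ≤ center Q)
    (hp : Nat.card (commutator Q) = p) (a : Q) : a ^ p ∈ center Q := by
  have hc' : ∀ a b : Q, ⁅a, b⁆ ∈ center Q := fun a b => hc (by
    rw [commutator_def]
    exact Subgroup.commutator_mem_commutator (Subgroup.mem_top a) (Subgroup.mem_top b))
  rw [Subgroup.mem_center_iff]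
  intro x
  have h1 : ⁅a ^ p, x⁆ = 1 := by
    rw [comm_pow_left hc' a x p]
    have hmem : ⁅a, x⁆ ∈ commutator Q := by
      rw [commutator_def]
      exact Subgroup.commutator_mem_commutator (Subgroup.mem_top a) (Subgroup.mem_top x)
    have h2 : (⟨⁅a, x⁆, hmem⟩ : commutator Q) ^ Nat.card (commutator Q) = 1 := pow_card_eq_one'
    rw [hp] at h2
    exact congrArg (fun y : commutator Q => (y : Q)) h2
  exact (commutatorElement_eq_one_iff_mul_comm.mp h1).symm

end class2


section main

variable {G : Type*} [Group G]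

theorem commutator_quotient_eq_map (N : Subgroup G) [N.Normal] :
    commutator (G ⧸ N) = (commutator G).map (QuotientGroup.mk' N) := by
  rw [commutator_def, commutator_def, Subgroup.map_commutator,
    Subgroup.map_top_of_surjective _ (QuotientGroup.mk'_surjective N)]

/-- Above a `G`-normal subgroup `R` properly contained in `G'` there is a `G`-normal `L < G'` such that
`G ⧸ L` has central derived subgroup of order `p`. -/
theorem exists_L [Finite G] {p : ℕ} [hp : Fact p.Prime] (hG : IsPGroup p G) (R : Subgroup G)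
    [hRn : R.Normal] (hR : R ≤ commutator G) (hne : ¬ commutator G ≤ R) :
    ∃ L : Subgroup G, ∃ _ : L.Normal, R ≤ L ∧ L ≤ commutator G ∧ ¬ commutator G ≤ L ∧
      commutator (G ⧸ L) ≤ center (G ⧸ L) ∧ Nat.card (commutator (G ⧸ L)) = p := by
  classical
  let 𝓛 : Set (Subgroup G) := {L | L.Normal ∧ R ≤ L ∧ L ≤ commutator G ∧ ¬ commutator G ≤ L}
  have hfin : 𝓛.Finite := Set.toFinite _
  have hnon : 𝓛.Nonempty := ⟨R, hRn, le_rfl, hR, hne⟩
  obtain ⟨L, ⟨hLn, hRL, hLG, hLne⟩, hLmax⟩ := hfin.exists_maximal hnon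
  have := hLn
  refine ⟨L, hLn, hRL, hLG, hLne, ?_⟩
  have hπs : Function.Surjective (QuotientGroup.mk' L) := QuotientGroup.mk'_surjective L
  have hcq : commutator (G ⧸ L) = (commutator G).map (QuotientGroup.mk' L) :=
    commutator_quotient_eq_map L
  obtain ⟨Nq, hNq⟩ : ∃ Nq : Subgroup (G ⧸ L), Nq = (commutator G).map (QuotientGroup.mk' L) :=
    ⟨_, rfl⟩
  have hNqn : Nq.Normal := by
    rw [hNq]; exact Subgroup.Normal.map inferInstance _ hπs
  have hNqne : Nq ≠ ⊥ := by
    intro h
    apply hLne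
    intro c hc
    have h1 : QuotientGroup.mk' L c ∈ Nq := by
      rw [hNq]; exact Subgroup.mem_map_of_mem _ hc
    rw [h, Subgroup.mem_bot] at h1
    exact (QuotientGroup.eq_one_iff c).mp h1
  have hQp : IsPGroup p (G ⧸ L) := hG.to_quotient L
  have : Group.IsNilpotent (G ⧸ L) := hQp.isNilpotent
  have hcen := Cfsg.Agent.Lib.Lead.inf_center_ne_bot Nq hNqne
  have hPp : IsPGroup p ↥(Nq ⊓ center (G ⧸ L)) := hQp.to_subgroup _
  obtain ⟨z, hzmem, hzord, -⟩ := Cfsg.Agent.Lib.Helper9.exists_central_order_p hPp hcen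
  have hzN : z ∈ Nq := hzmem.1
  have hzZ : z ∈ center (G ⧸ L) := hzmem.2
  have hZn : (zpowers z).Normal := Cfsg.Agent.Lib.Lead.zpowers_normal_of_mem_center hzZ
  have hZcard : Nat.card (zpowers z) = p := by rw [Nat.card_zpowers, hzord]
  have hZleN : zpowers z ≤ Nq := Subgroup.zpowers_le.mpr hzN
  have hZleZ : zpowers z ≤ center (G ⧸ L) := Subgroup.zpowers_le.mpr hzZ
  obtain ⟨Lp, hLp⟩ : ∃ Lp : Subgroup G, Lp = (zpowers z).comap (QuotientGroup.mk' L) := ⟨_, rfl⟩
  have hLpn : Lp.Normal := by rw [hLp]; exact hZn.comap _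
  have hLLp : L ≤ Lp := by
    intro x hx
    rw [hLp, Subgroup.mem_comap]
    have : QuotientGroup.mk' L x = 1 := (QuotientGroup.eq_one_iff x).mpr hx
    rw [this]; exact Subgroup.one_mem _
  have hLpG : Lp ≤ commutator G := by
    intro y hy
    rw [hLp, Subgroup.mem_comap] at hy
    have h1 : QuotientGroup.mk' L y ∈ Nq := hZleN hy
    rw [hNq] at h1
    obtain ⟨c, hc, hcy⟩ := h1
    have h2 : c⁻¹ * y ∈ L := by
      rw [← QuotientGroup.eq_one_iff]
      have : ((c⁻¹ * y : G) : G ⧸ L) = (QuotientGroup.mk' L c)⁻¹ * QuotientGroup.mk' L y := rfl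
      rw [this, hcy]; group
    have h3 : y = c * (c⁻¹ * y) := by group
    rw [h3]
    exact Subgroup.mul_mem _ hc (hLG h2)
  have hGLp : commutator G ≤ Lp := by
    by_contra hcon
    have hmem : Lp ∈ 𝓛 := ⟨hLpn, hRL.trans hLLp, hLpG, hcon⟩
    have hle : Lp ≤ L := hLmax hmem hLLp
    obtain ⟨y, hy⟩ := hπs z
    have hyLp : y ∈ Lp := by
      rw [hLp, Subgroup.mem_comap, hy]; exact Subgroup.mem_zpowers z
    have hz1 : z = 1 := by
      rw [← hy]; exact (QuotientGroup.eq_one_iff y).mpr (hle hyLp)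
    rw [hz1, orderOf_one] at hzord
    exact hp.out.one_lt.ne hzord
  have hNZ : Nq = zpowers z := by
    apply le_antisymm _ hZleN
    rw [hNq]
    rintro _ ⟨c, hc, rfl⟩
    have := hGLp hc
    rw [hLp, Subgroup.mem_comap] at this
    exact this
  rw [hcq, ← hNq, hNZ]
  exact ⟨hZleZ, hZcard⟩

end main


section hk

variable {G : Type*} [Group G]

/-- a subgroup containing the derived subgroup is normal -/
theorem normal_of_commutator_le' {K : Subgroup G} (h : commutator G ≤ K) : K.Normal := by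
  constructor
  intro n hn g
  have h1 : g * n * g⁻¹ = ⁅g, n⁆ * n := by rw [commutatorElement_def]; group
  rw [h1]
  refine K.mul_mem (h ?_) hn
  rw [commutator_def]
  exact Subgroup.commutator_mem_commutator (Subgroup.mem_top g) (Subgroup.mem_top n)

/-- a subgroup above a subgroup of prime index which is not everything is that subgroup -/
theorem le_of_le_of_index_prime [Finite G] {p : ℕ} [Fact p.Prime] {H D : Subgroup G}
    (hH : H.index = p) (hHD : H ≤ D) {v : G} (hv : v ∉ D) : D ≤ H := by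
  intro y hy
  by_contra hyH
  have h1 := Cfsg.Agent.Lib.Helper9.VL.sup_zpowers_eq_top_of_index_prime H hH y hyH
  have h2 : H ⊔ zpowers y ≤ D := sup_le hHD (Subgroup.zpowers_le.mpr hy)
  rw [h1] at h2
  exact hv (h2 (Subgroup.mem_top v))

end hk


section hkmain

variable {G : Type*} [Group G]

/-- **Step 3 (`hk`)**.  `Φ` is any subgroup contained in every normal subgroup with elementary abelian
quotient (`hmin`); `M`, `H` are distinct subgroups of index `p`, `G' ≤ M' [Φ,G]` and `G' ≰ H'`.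
Then there is `T` of index `p` in `H`, containing `Φ`, different from `H ⊓ M`, such that for
`u ∈ H \ T` every `y` with `⁅y, u⁆ ∈ [Φ,G]` lies in `H`. -/
theorem step3_hk [Finite G] {p : ℕ} [hp : Fact p.Prime] (hG : IsPGroup p G) (Φ : Subgroup G)
    (hmin : ∀ N : Subgroup G, N.Normal → commutator G ≤ N → (∀ g : G, g ^ p ∈ N) → Φ ≤ N)
    (M : Subgroup G) (hM : M.index = p)
    (hT : commutator G ≤ ⁅M, M⁆ ⊔ ⁅Φ, (⊤ : Subgroup G)⁆)
    (H : Subgroup G) (hH : H.index = p) (_hHM : H ≠ M) (hne : ¬ commutator G ≤ ⁅H, H⁆) :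
    ∃ T : Subgroup G, Φ ≤ T ∧ T ≤ H ∧ T.relIndex H = p ∧ T ≠ H ⊓ M ∧
      ∀ u ∈ H, u ∉ T → ∀ y : G, ⁅y, u⁆ ∈ ⁅Φ, (⊤ : Subgroup G)⁆ → y ∈ H := by
  classical
  have hHn : H.Normal := Cfsg.Agent.Lib.Helper4.VL.normal_of_index_eq_p hG hH
  have hMn : M.Normal := Cfsg.Agent.Lib.Helper4.VL.normal_of_index_eq_p hG hM
  have hRn : (⁅H, H⁆ : Subgroup G).Normal := Subgroup.commutator_normal H H
  have hRle : ⁅H, H⁆ ≤ commutator G := by
    rw [commutator_def]; exact Subgroup.commutator_mono le_top le_top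
  obtain ⟨L, hLn, hRL, hLG, hLne, hcen, hcard⟩ := exists_L hG ⁅H, H⁆ hRle hne
  -- the quotient map, kept opaque
  obtain ⟨π, hπ⟩ : ∃ π : G →* G ⧸ L, π = QuotientGroup.mk' L := ⟨_, rfl⟩
  have hπs : Function.Surjective π := by rw [hπ]; exact QuotientGroup.mk'_surjective L
  have hπ1 : ∀ x : G, π x = 1 ↔ x ∈ L := by
    intro x; rw [hπ]; exact QuotientGroup.eq_one_iff x
  have hπc : ∀ x y : G, Commute (π x) (π y) ↔ ⁅x, y⁆ ∈ L := by
    intro x y
    rw [← hπ1, map_commutatorElement, commutatorElement_eq_one_iff_mul_comm]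
    exact Iff.rfl
  have hcq : commutator (G ⧸ L) = (commutator G).map π := by
    rw [hπ]; exact commutator_quotient_eq_map L
  have hcen' : ∀ c ∈ commutator G, π c ∈ center (G ⧸ L) := by
    intro c hc
    apply hcen
    rw [hcq]
    exact Subgroup.mem_map_of_mem π hc
  -- Φ maps into the centre
  have hΦcen : ∀ f ∈ Φ, π f ∈ center (G ⧸ L) := by
    have h1 : Φ ≤ (center (G ⧸ L)).comap π := by
      apply hmin
      · exact (inferInstance : (center (G ⧸ L)).Normal).comap π
      · intro c hc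
        exact hcen' c hc
      · intro g
        rw [Subgroup.mem_comap, map_pow]
        exact pow_mem_center hcen hcard (π g)
    intro f hf
    exact h1 hf
  have hΓL : ⁅Φ, (⊤ : Subgroup G)⁆ ≤ L := by
    rw [Subgroup.commutator_le]
    intro f hf y _
    rw [← hπc]
    exact (Subgroup.mem_center_iff.mp (hΦcen f hf) (π y)).symm
  -- Φ ≤ H
  have hΦH : Φ ≤ H := by
    apply hmin H hHn
    · exact Cfsg.Helper8.VLR.commutator_le_of_index_prime H hH
    · intro g
      have := H.pow_index_mem g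
      rwa [hH] at this
  obtain ⟨v0, hv0⟩ : ∃ v0 : G, v0 ∉ H := by
    by_contra hcon
    simp only [not_exists, not_not] at hcon
    have h1 : H = ⊤ := (Subgroup.eq_top_iff' H).mpr hcon
    rw [h1, Subgroup.index_top] at hH
    exact hp.out.one_lt.ne hH
  have hdec : ∀ x : G, ∃ i : ℤ, ∃ h ∈ H, x = v0 ^ i * h :=
    fun x => Cfsg.Helper8.VLR.exists_zpow_mul_mem H hH hv0 x
  have hHH : ∀ a ∈ H, ∀ b ∈ H, Commute (π a) (π b) := by
    intro a ha b hb
    rw [hπc]
    exact hRL (Subgroup.commutator_mem_commutator ha hb)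
  have hmemcc : ∀ x y : G, y ∈ (centralizer ({π x} : Set (G ⧸ L))).comap π ↔
      Commute (π y) (π x) := by
    intro x y
    rw [Subgroup.mem_comap, Subgroup.mem_centralizer_iff]
    constructor
    · intro h
      exact (h (π x) (Set.mem_singleton _)).symm
    · intro h z hz
      rw [Set.mem_singleton_iff] at hz
      rw [hz]
      exact h.symm
  obtain ⟨C, hC⟩ : ∃ C : Subgroup G, C = (centralizer ({π v0} : Set (G ⧸ L))).comap π := ⟨_, rfl⟩
  have hmemC : ∀ y : G, y ∈ C ↔ Commute (π y) (π v0) := by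
    intro y; rw [hC]; exact hmemcc v0 y
  have hv0C : v0 ∈ C := (hmemC v0).mpr (Commute.refl _)
  have hCidx : C.index ∣ p := by
    rw [hC, Subgroup.index_comap_of_surjective _ hπs]
    exact index_centralizer_dvd hcen hcard (π v0)
  have hHnotC : ¬ H ≤ C := by
    intro hHC
    have hab : ∀ a b : G, Commute (π a) (π b) := by
      intro a b
      obtain ⟨i, h, hh, rfl⟩ := hdec a
      obtain ⟨j, h', hh', rfl⟩ := hdec b
      rw [map_mul, map_mul, map_zpow, map_zpow]
      have c1 : Commute (π h) (π v0) := (hmemC h).mp (hHC hh)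
      have c2 : Commute (π h') (π v0) := (hmemC h').mp (hHC hh')
      have c3 : Commute (π h) (π h') := hHH h hh h' hh'
      apply Commute.mul_left
      · apply Commute.mul_right
        · exact Commute.zpow_zpow_self _ i j
        · exact (c2.symm).zpow_left i
      · apply Commute.mul_right
        · exact c1.zpow_right j
        · exact c3
    have h1 : commutator (G ⧸ L) = ⊥ := by
      rw [eq_bot_iff, commutator_def, Subgroup.commutator_le]
      intro a _ b _
      obtain ⟨a', rfl⟩ := hπs a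
      obtain ⟨b', rfl⟩ := hπs b
      rw [Subgroup.mem_bot, commutatorElement_eq_one_iff_mul_comm]
      exact hab a' b'
    rw [h1, Subgroup.card_bot] at hcard
    exact hp.out.one_lt.ne hcard
  have hCne : C ≠ ⊤ := fun h => hHnotC (h ▸ le_top)
  have hCidx' : C.index = p := by
    rcases (Nat.dvd_prime hp.out).mp hCidx with h | h
    · exact absurd (Subgroup.index_eq_one.mp h) hCne
    · exact h
  have hCn : C.Normal := by
    apply normal_of_commutator_le'
    intro c hc
    rw [hmemC]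
    exact (Subgroup.mem_center_iff.mp (hcen' c hc) (π v0)).symm
  have hsup : H ⊔ C = ⊤ := by
    rw [eq_top_iff, ← Cfsg.Agent.Lib.Helper9.VL.sup_zpowers_eq_top_of_index_prime H hH v0 hv0]
    exact sup_le_sup_left (Subgroup.zpowers_le.mpr hv0C) H
  have hTrel : (H ⊓ C).relIndex H = p := by
    rw [Subgroup.inf_relIndex_left, ← Subgroup.relIndex_sup_right, hsup,
      Subgroup.relIndex_top_right, hCidx']
  refine ⟨H ⊓ C, ?_, inf_le_left, hTrel, ?_, ?_⟩
  · refine le_inf hΦH (fun f hf => ?_)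
    rw [hmemC]
    exact (Subgroup.mem_center_iff.mp (hΦcen f hf) (π v0)).symm
  · intro hTeq
    have hcenHM : ∀ u ∈ H ⊓ M, π u ∈ center (G ⧸ L) := by
      intro u hu
      have huC : u ∈ C := by
        rw [← hTeq] at hu
        exact hu.2
      rw [Subgroup.mem_center_iff]
      intro g
      obtain ⟨g', rfl⟩ := hπs g
      obtain ⟨i, h, hh, rfl⟩ := hdec g'
      have c1 : Commute (π u) (π v0) := (hmemC u).mp huC
      have c2 : Commute (π u) (π h) := hHH u hu.1 h hh
      rw [map_mul, map_zpow]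
      exact ((c1.zpow_right i).mul_right c2).symm
    have hMM : ⁅M, M⁆ ≤ L := by
      rw [Subgroup.commutator_le]
      intro m hm m' hm'
      rw [← hπc]
      by_cases hmH : m ∈ H
      · exact (Subgroup.mem_center_iff.mp (hcenHM m ⟨hmH, hm⟩) (π m')).symm
      · obtain ⟨i, h, hh, rfl⟩ := Cfsg.Helper8.VLR.exists_zpow_mul_mem H hH hmH m'
        have hhM : h ∈ M := by
          have h1 : h = (m ^ i)⁻¹ * (m ^ i * h) := by group
          rw [h1]
          exact M.mul_mem (M.inv_mem (M.zpow_mem hm i)) hm'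
        have c : Commute (π m) (π h) :=
          Subgroup.mem_center_iff.mp (hcenHM h ⟨hh, hhM⟩) (π m)
        rw [map_mul, map_zpow]
        exact ((Commute.refl (π m)).zpow_right i).mul_right c
    exact hLne (hT.trans (sup_le hMM hΓL))
  · intro u hu huT y hy
    have huC : u ∉ C := fun h => huT ⟨hu, h⟩
    obtain ⟨D, hD⟩ : ∃ D : Subgroup G, D = (centralizer ({π u} : Set (G ⧸ L))).comap π :=
      ⟨_, rfl⟩
    have hmemD : ∀ y : G, y ∈ D ↔ Commute (π y) (π u) := by
      intro y; rw [hD]; exact hmemcc u y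
    have hHD : H ≤ D := fun h hh => (hmemD h).mpr (hHH h hh u hu)
    have hv0D : v0 ∉ D := fun h => huC ((hmemC u).mpr ((hmemD v0).mp h).symm)
    have hDH : D ≤ H := le_of_le_of_index_prime hH hHD hv0D
    apply hDH
    rw [hmemD, hπc]
    exact hΓL hy

end hkmain


section interface

variable {G : Type*} [Group G]

/-- `|G' : L|` is the order of the derived subgroup of `G ⧸ L`. -/
theorem relIndex_commutator_eq (L : Subgroup G) [L.Normal] :
    L.relIndex (commutator G) = Nat.card (commutator (G ⧸ L)) := by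
  rw [commutator_quotient_eq_map L, ← Subgroup.relIndex_bot_left, ← Subgroup.relIndex_comap,
    MonoidHom.comap_bot, QuotientGroup.ker_mk']

/-- `[G', G] ≤ L` iff the derived subgroup of `G ⧸ L` is central. -/
theorem commutator_quot_le_center_iff (L : Subgroup G) [L.Normal] :
    commutator (G ⧸ L) ≤ center (G ⧸ L) ↔ ⁅commutator G, (⊤ : Subgroup G)⁆ ≤ L := by
  rw [commutator_quotient_eq_map L, Subgroup.commutator_le]
  constructor
  · intro h c hc y _
    have h1 : QuotientGroup.mk' L c ∈ center (G ⧸ L) := h (Subgroup.mem_map_of_mem _ hc)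
    rw [← QuotientGroup.eq_one_iff]
    have h2 : ((⁅c, y⁆ : G) : G ⧸ L) = ⁅QuotientGroup.mk' L c, QuotientGroup.mk' L y⁆ :=
      map_commutatorElement (QuotientGroup.mk' L) c y
    rw [h2, commutatorElement_eq_one_iff_mul_comm]
    exact (Subgroup.mem_center_iff.mp h1 _).symm
  · rintro h _ ⟨c, hc, rfl⟩
    rw [Subgroup.mem_center_iff]
    intro g
    obtain ⟨y, rfl⟩ := QuotientGroup.mk'_surjective L g
    have h1 : ⁅c, y⁆ ∈ L := h c hc y (Subgroup.mem_top y)
    rw [← QuotientGroup.eq_one_iff] at h1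
    have h2 : ((⁅c, y⁆ : G) : G ⧸ L) = ⁅QuotientGroup.mk' L c, QuotientGroup.mk' L y⁆ :=
      map_commutatorElement (QuotientGroup.mk' L) c y
    rw [h2, commutatorElement_eq_one_iff_mul_comm] at h1
    exact h1.symm

/-- **Step 3, the witness `L_H`** (the form of helper2's skeleton). -/
theorem exists_L_relIndex [Finite G] {p : ℕ} [Fact p.Prime] (hG : IsPGroup p G) (H : Subgroup G)
    [H.Normal] (hne : ⁅H, H⁆ ≠ commutator G) :
    ∃ L : Subgroup G, L.Normal ∧ ⁅H, H⁆ ≤ L ∧ ⁅commutator G, (⊤ : Subgroup G)⁆ ≤ L ∧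
      L ≤ commutator G ∧ L.relIndex (commutator G) = p := by
  have hRle : ⁅H, H⁆ ≤ commutator G := by
    rw [commutator_def]; exact Subgroup.commutator_mono le_top le_top
  have hne' : ¬ commutator G ≤ ⁅H, H⁆ := fun h => hne (le_antisymm hRle h)
  obtain ⟨L, hLn, hRL, hLG, -, hcen, hcard⟩ := exists_L hG ⁅H, H⁆ hRle hne'
  refine ⟨L, hLn, hRL, (commutator_quot_le_center_iff L).mp hcen, hLG, ?_⟩
  rw [relIndex_commutator_eq L, hcard]

/-- **`[Φ, G] ≤ L`** for every `G`-normal `L` of index `p` in `G'` containing `[G', G]`; `Φ` is any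
subgroup contained in every normal subgroup with elementary abelian quotient. -/
theorem gam_le_of_relIndex_of_hmin [Finite G] {p : ℕ} [Fact p.Prime] (Φ : Subgroup G)
    (hmin : ∀ N : Subgroup G, N.Normal → commutator G ≤ N → (∀ g : G, g ^ p ∈ N) → Φ ≤ N)
    (L : Subgroup G) [L.Normal] (h1 : ⁅commutator G, (⊤ : Subgroup G)⁆ ≤ L)
    (h3 : L.relIndex (commutator G) = p) : ⁅Φ, (⊤ : Subgroup G)⁆ ≤ L := by
  have hcen : commutator (G ⧸ L) ≤ center (G ⧸ L) := (commutator_quot_le_center_iff L).mpr h1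
  have hcard : Nat.card (commutator (G ⧸ L)) = p := by rw [← relIndex_commutator_eq L, h3]
  have hΦ : Φ ≤ (center (G ⧸ L)).comap (QuotientGroup.mk' L) := by
    apply hmin
    · exact (inferInstance : (center (G ⧸ L)).Normal).comap _
    · intro c hc
      rw [Subgroup.mem_comap]
      apply hcen
      rw [commutator_quotient_eq_map L]
      exact Subgroup.mem_map_of_mem _ hc
    · intro g
      rw [Subgroup.mem_comap, map_pow]
      exact pow_mem_center hcen hcard _
  rw [Subgroup.commutator_le]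
  intro f hf y _
  have h4 : QuotientGroup.mk' L f ∈ center (G ⧸ L) := hΦ hf
  rw [← QuotientGroup.eq_one_iff]
  have h2 : ((⁅f, y⁆ : G) : G ⧸ L) = ⁅QuotientGroup.mk' L f, QuotientGroup.mk' L y⁆ :=
    map_commutatorElement (QuotientGroup.mk' L) f y
  rw [h2, commutatorElement_eq_one_iff_mul_comm]
  exact (Subgroup.mem_center_iff.mp h4 _).symm

/-- `hmin` for `Φ := G' G^p` (the definition `frat` of helper2's skeleton, unfolded). -/
theorem hmin_frat (p : ℕ) (N : Subgroup G) (h1 : commutator G ≤ N) (h2 : ∀ g : G, g ^ p ∈ N) :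
    commutator G ⊔ Subgroup.closure (Set.range fun x : G => x ^ p) ≤ N := by
  refine sup_le h1 ((Subgroup.closure_le N).mpr ?_)
  rintro _ ⟨x, rfl⟩
  exact h2 x

/-- **`gam_le_of_relIndex`** in the form of helper2's skeleton, with `gam p G` unfolded. -/
theorem gam_le_of_relIndex [Finite G] {p : ℕ} [Fact p.Prime] (L : Subgroup G) [L.Normal]
    (h1 : ⁅commutator G, (⊤ : Subgroup G)⁆ ≤ L) (_h2 : L ≤ commutator G)
    (h3 : L.relIndex (commutator G) = p) :
    ⁅commutator G ⊔ Subgroup.closure (Set.range fun x : G => x ^ p), (⊤ : Subgroup G)⁆ ≤ L :=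
  gam_le_of_relIndex_of_hmin _ (fun N _ hN1 hN2 => hmin_frat p N hN1 hN2) L h1 h3

/-- **Step 3 (`hk`)** for `Φ := G' G^p` (unfolded `frat`, `gam` of helper2's skeleton), with the
hypotheses in the skeleton's form. -/
theorem step3_hk_frat [Finite G] {p : ℕ} [Fact p.Prime] (hG : IsPGroup p G)
    (M : Subgroup G) (hM : M.index = p) (hT : commutator G = ⁅M, M⁆)
    (H : Subgroup G) (hH : H.index = p) (hHM : H ≠ M) (hne : ⁅H, H⁆ ≠ commutator G) :
    ∃ T : Subgroup G,
      commutator G ⊔ Subgroup.closure (Set.range fun x : G => x ^ p) ≤ T ∧ T ≤ H ∧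
      T.relIndex H = p ∧ T ≠ H ⊓ M ∧
      ∀ u ∈ H, u ∉ T → ∀ y : G,
        ⁅y, u⁆ ∈ ⁅commutator G ⊔ Subgroup.closure (Set.range fun x : G => x ^ p),
          (⊤ : Subgroup G)⁆ → y ∈ H := by
  have hRle : ⁅H, H⁆ ≤ commutator G := by
    rw [commutator_def]; exact Subgroup.commutator_mono le_top le_top
  exact step3_hk hG _ (fun N _ hN1 hN2 => hmin_frat p N hN1 hN2) M hM
    (hT.le.trans le_sup_left) H hH hHM (fun h => hne (le_antisymm hRle h))

end interface

end Cfsg.Agent.Lib.Helper7.VLS3
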