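import Mathlib
import Cfsg.Agent.Lib.Helper7.VLStep3
import Cfsg.Agent.Lib.Helper2.VLPhi

set_option autoImplicit false

/-! S3777 Step 3 in the exact form consumed by helper2's assembly (with `kap` of `Helper2.VLPhi`). -/

namespace Cfsg.Agent.Lib.Helper7.VLS3b

open Subgroup Cfsg.Agent.Lib.Helper2.VLF
open scoped commutatorElement

universe u

variable {p : ℕ} {G : Type u} [Group G] [Fact p.Prime] [Finite G]

/-- **Step 3 (`hk`)**, exact signature of helper2's assembly. -/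
theorem step3_hk (hG : IsPGroup p G) (Φ : Subgroup G) [Φ.Normal] (_hcomm : commutator G ≤ Φ)
    (_hpow : ∀ g : G, g ^ p ∈ Φ)
    (hmin : ∀ N : Subgroup G, N.Normal → commutator G ≤ N → (∀ g : G, g ^ p ∈ N) → Φ ≤ N)
    (M : Subgroup G) (hM : M.index = p)
    (hT : commutator G ≤ ⁅M, M⁆ ⊔ ⁅Φ, (⊤ : Subgroup G)⁆)
    (H : Subgroup G) (hH : H.index = p) (hHM : H ≠ M) (hS2 : ¬ commutator G ≤ ⁅H, H⁆) :
    ∃ T : Subgroup G, Φ ≤ T ∧ T ≤ H ∧ T.relIndex H = p ∧ T ≠ H ⊓ M ∧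
      ∀ u ∈ H, u ∉ T → kap Φ u ≤ H := by
  obtain ⟨T, h1, h2, h3, h4, h5⟩ :=
    Cfsg.Agent.Lib.Helper7.VLS3.step3_hk hG Φ hmin M hM hT H hH hHM hS2
  exact ⟨T, h1, h2, h3, h4, fun u hu huT y hy => h5 u hu huT y ((mem_kap_iff Φ).mp hy)⟩

end Cfsg.Agent.Lib.Helper7.VLS3b
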