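import Cfsg.Agent.Lib.Helper7.WG_K2a
import Cfsg.Agent.Lib.Helper9.WG_R5

set_option autoImplicit false
set_option linter.unusedSectionVars false
set_option linter.unusedSimpArgs false

namespace Cfsg.Agent.Lib.Helper2.WG

open Matrix Cfsg Cfsg.Agent.H9SpF Cfsg.Agent.Lib.Helper6.Siegel Cfsg.Agent.Lib.Helper1.SUMin
open scoped ComplexConjugate

universe u

/-!
PK-K2 of the S2524 swarm, second part: a nontrivial small irreducible character of `Sp (m+1)` has no
`ιS (Sp 1)`-fixed vectors (`Z` and `H₁` have the same fixed space, and `⟨H₁, ιS (Sp 1)⟩` is everything).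
-/

variable {F : Type u} [Field F] [Fintype F]
variable {m : ℕ}

/-- PK-K2 -/
theorem no_ιS_fixed (h2 : (2 : F) ≠ 0) (ψ : AddChar F ℂ) (hψ : ψ ≠ 1) {χ : Sp (m + 1) F → ℂ}
    (hχ : IsIrrCharacter (Sp (m + 1) F) χ) (hne : χ ≠ fun _ => 1) (hs : QSmall ψ χ) :
    classInner (fun s : Sp 1 F => χ (ιS s)) (fun _ => 1) = 0 := by
  classical
  have hχc := Cfsg.Agent.Lib.Helper4.isCharacter_of_irr hχ
  have : Fintype (k2_Z m F) := Fintype.ofFinite _
  have : Fintype (k2_H1 m F) := Fintype.ofFinite _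
  have : Fintype (ιS (m := m) (F := F)).range := Fintype.ofFinite _
  have : Fintype ↥(k2_H1 m F ⊔ (ιS (m := m) (F := F)).range) := Fintype.ofFinite _
  have hprop := fixdim_propagation hχc (k2_Z m F) (k2_H1 m F) (ιS (m := m) (F := F)).range
    k2_Z_le_H1 k2_Z_le_range (k2_fixdim_H1_eq_Z h2 ψ hψ hχc hs)
  have htop : k2_H1 m F ⊔ (ιS (m := m) (F := F)).range = ⊤ := by
    rw [eq_top_iff, ← closure_ιS_H1 (m := m) (F := F), Subgroup.closure_le]
    rintro g ((⟨s, rfl⟩ | ⟨x, rfl⟩) | ⟨v, rfl⟩)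
    · exact Subgroup.mem_sup_right ⟨s, rfl⟩
    · apply Subgroup.mem_sup_left
      refine ⟨x, 0, 0, ?_⟩
      unfold ηE yE zE
      rw [r3_qE_zero, mul_one, mul_one]
    · apply Subgroup.mem_sup_left
      refine ⟨0, v, 0, ?_⟩
      unfold ηE zE
      rw [xE_zero, r3_qE_zero, mul_one, one_mul]
  rw [← k2_fixdim_range, hprop, k2_fixdim_top _ htop]
  exact Cfsg.Agent.Lib.Helper4.classInner_irr_ne hχ Cfsg.Agent.S0161.isIrrCharacter_one hne

end Cfsg.Agent.Lib.Helper2.WG
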