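import Cfsg.Agent.Lib.Helper1.WG_F0
import Cfsg.Agent.Lib.Helper1.WG_F3
import Cfsg.Agent.Lib.Helper1.WG_K0
import Cfsg.Agent.Lib.Helper1.WG_K1

set_option autoImplicit false

namespace Cfsg.Agent.Lib.Helper2.WG

open Matrix Cfsg Cfsg.Agent.H9SpF Cfsg.Agent.Lib.Helper6.Siegel Cfsg.Agent.Lib.Helper1.SUMin
open scoped ComplexConjugate

universe u

/-!
PK-K4 of the S2524 swarm: for `s` in the square class of `c`, the `ψ (s ·)`-part of a small character of
`Sp (m+1)`, restricted to `Sp m`, is `b (E' + O')` for the Weil pair `(E', O')` of class `c`, with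
`b = bpar ψ χ s` a natural number.
-/

variable {F : Type u} [Field F] [Fintype F]
variable {m : ℕ}

theorem k4_two_ne_zero (hodd : Odd (Fintype.card F)) : (2 : F) ≠ 0 := by
  intro h
  have h2 : ringChar F = 2 := CharP.ringChar_of_prime_eq_zero Nat.prime_two (by exact_mod_cast h)
  have h3 := FiniteField.even_card_iff_char_two.1 h2
  rw [Nat.odd_iff] at hodd
  omega

/-- a character all of whose irreducible constituents are among two given ones -/
theorem k4_two_constituents {G : Type u} [Group G] [Fintype G] {Θ E O : G → ℂ}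
    (hΘ : IsCharacter G Θ) (hE : IsIrrCharacter G E) (hO : IsIrrCharacter G O) (hEO : E ≠ O)
    (h : ∀ β : G → ℂ, IsIrrCharacter G β → classInner Θ β ≠ 0 → β = E ∨ β = O) :
    ∃ a b : ℕ, Θ = fun g => (a : ℂ) * E g + (b : ℂ) * O g := by
  classical
  have : Fintype (Cfsg.IrrCharacter G) := Fintype.ofFinite _
  have hcf := Cfsg.Agent.Lib.Helper4.isClassFunction_of_isCharacter hΘ
  obtain ⟨a, ha⟩ := Cfsg.Agent.Lib.Helper1.classInner_char_irr_nat hΘ hE
  obtain ⟨b, hb⟩ := Cfsg.Agent.Lib.Helper1.classInner_char_irr_nat hΘ hO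
  refine ⟨a, b, ?_⟩
  have hexp := Cfsg.Agent.Lib.Helper1.class_function_expansion Θ hcf
  have hne : (⟨E, hE⟩ : Cfsg.IrrCharacter G) ≠ ⟨O, hO⟩ := by
    intro h'
    exact hEO (congrArg Subtype.val h')
  have hsum : ∑ β : Cfsg.IrrCharacter G, Cfsg.classInner Θ β • (β : G → ℂ) =
      ∑ β ∈ ({⟨E, hE⟩, ⟨O, hO⟩} : Finset (Cfsg.IrrCharacter G)), Cfsg.classInner Θ β • (β : G → ℂ) := by
    symm
    apply Finset.sum_subset (Finset.subset_univ _)
    intro β _ hβ
    by_cases h0 : classInner Θ β = 0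
    · rw [h0, zero_smul]
    · exfalso
      apply hβ
      rcases h β.1 β.2 h0 with h1 | h1
      · rw [Finset.mem_insert]
        left
        exact Subtype.ext h1
      · rw [Finset.mem_insert, Finset.mem_singleton]
        right
        exact Subtype.ext h1
  rw [hsum, Finset.sum_pair hne] at hexp
  rw [hexp]
  funext g
  simp only [Pi.add_apply, Pi.smul_apply, smul_eq_mul, ha, hb]


/-! ## PK-K4 : the `Z`-parts are multiples of the Weil character of `Sp m` -/
theorem chis_eq_weil (hodd : Odd (Fintype.card F)) (ψ : AddChar F ℂ) (hψ : ψ ≠ 1) (hm : 1 ≤ m)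
    (hmc : Classif (F := F) ψ m) {c : F} (hc : c ≠ 0) {E' O' : Sp m F → ℂ} {ε' : ℂ}
    (w' : IsWeilPair ψ c E' O' ε') {χ : Sp (m + 1) F → ℂ} (hχ : IsCharacter (Sp (m + 1) F) χ)
    (hs : QSmall ψ χ) (s u : F) (hu : u ≠ 0) (hsu : s = c * u ^ 2) :
    ∃ b : ℕ, bpar ψ χ s = b ∧ chis ψ s χ = fun g => (b : ℂ) * (E' g + O' g) := by
  have h2 := k4_two_ne_zero hodd
  have hs0 : s ≠ 0 := by
    rw [hsu]
    exact mul_ne_zero hc (pow_ne_zero 2 hu)
  have hcf := Cfsg.Agent.Lib.Helper4.isClassFunction_of_isCharacter hχ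
  have hΘ := isCharacter_chis ψ s hχ
  have hpure : PureSmall ψ c (chis ψ s χ) := by
    have h3 : PureSmall ψ (c * u ^ 2) (chis ψ s χ) := by
      rw [← hsu]
      exact chis_pure h2 ψ hψ hχ hs s hs0
    exact (puresmall_congr ψ c u hu _).1 h3
  -- values of the Siegel multiplicities of the Weil pair
  have hE0 : qmult ψ E' 0 = 1 := by
    have := w'.qE_one 0
    rwa [Matrix.vecMulVec_zero, smul_zero] at this
  have hO0 : qmult ψ O' 0 = 0 := w'.qO_origin
  have hEO : E' ≠ O' := by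
    intro h
    rw [h, hO0] at hE0
    exact zero_ne_one hE0
  obtain ⟨a, b, hab⟩ := k4_two_constituents hΘ w'.irrE w'.irrO hEO (by
    intro β hβ h0
    have hpβ := puresmall_of_constituent ψ c hΘ hβ h0 hpure
    rcases hmc c hc E' O' ε' w' β hβ hpβ with h1 | h1 | h1
    · exfalso
      apply h0
      rw [h1]
      exact chis_no_trivial h2 ψ hψ hm hχ hs s hs0
    · exact Or.inl h1
    · exact Or.inr h1)
  have hab' : chis ψ s χ = (a : ℂ) • E' + (b : ℂ) • O' := by
    rw [hab]
    funext g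
    simp only [Pi.add_apply, Pi.smul_apply, smul_eq_mul]
  -- the origin
  have horig := chis_origin h2 ψ hψ hcf hs s hs0
  rw [hab', qmult_add, qmult_smul, qmult_smul, hE0, hO0, mul_one, mul_zero, add_zero] at horig
  -- a rank one point
  have hw0 : (fun _ : Fin m => (1 : F)) ≠ 0 := by
    intro h
    have := congrFun h ⟨0, hm⟩
    simp at this
  have hrank := chis_rank_one h2 ψ hψ hcf hs s hs0 (fun _ => 1) hw0
  have hsinv : s⁻¹ = c * (c⁻¹ * u⁻¹) ^ 2 := by
    rw [hsu]
    field_simp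
  have hw1 : (c⁻¹ * u⁻¹) • (fun _ : Fin m => (1 : F)) ≠ 0 := by
    intro h
    have := congrFun h ⟨0, hm⟩
    simp [hc, hu] at this
  rw [hsinv, PkF0.smul_rank_one, hab', qmult_add, qmult_smul, qmult_smul, w'.qE_one, w'.qO_one _ hw1,
    mul_one, mul_one, ← horig] at hrank
  have hba : (b : ℂ) = a := by
    linear_combination hrank
  refine ⟨a, horig.symm, ?_⟩
  rw [hab]
  funext g
  rw [hba]
  ring

end Cfsg.Agent.Lib.Helper2.WG
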