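import Cfsg.Agent.Lib.Helper1.WG_F2
import Cfsg.Agent.Lib.Helper1.WG_F3
import Cfsg.Agent.Lib.Helper1.WG_K0
import Cfsg.Agent.Lib.Helper9.WG_R1
import Cfsg.Agent.Lib.Helper6.WG_G1
import Cfsg.Agent.Lib.Helper7.WG_R3
import Cfsg.Agent.S0139
import Cfsg.Agent.S0161

set_option autoImplicit false
set_option linter.unusedSectionVars false
set_option linter.unusedSimpArgs false

namespace Cfsg.Agent.Lib.Helper2.WG

open Matrix Cfsg Cfsg.Agent.H9SpF Cfsg.Agent.Lib.Helper6.Siegel Cfsg.Agent.Lib.Helper1.SUMin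
open scoped ComplexConjugate

universe u

/-!
PK-K2 of the S2524 swarm, first part: the Heisenberg group `H₁` lies in the kernel of the `Z`-fixed part
of a small character (`zproj_zero_ηE_mul`), and the fixed-space dimensions of `Z`, `H₁`, `ιS (Sp 1)`
(auxiliary lemmas with the prefix `k2_`).  The second part (`no_ιS_fixed`) is in `WG_K2.lean`.
-/

variable {F : Type u} [Field F] [Fintype F]
variable {m : ℕ}

/-- elements of the kernel of a character can be cancelled -/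
theorem k2_char_mul_of_ker {G : Type u} [Group G] [Finite G] {χ : G → ℂ} (hχ : IsCharacter G χ) {n : G}
    (hn : χ n = χ 1) (g : G) : χ (n * g) = χ g := by
  obtain ⟨k, ρ, rfl⟩ := hχ
  have h1 : ρ n = LinearMap.id := by
    rw [← Cfsg.Agent.S0139.result ρ n, hn, Representation.char_one]
  show LinearMap.trace ℂ _ (ρ (n * g)) = LinearMap.trace ℂ _ (ρ g)
  rw [map_mul, h1]
  rfl

theorem k2_qE_mem_P1 (s : F) (v : Fin m → F) (S' : symAdd m F) : qE s v S' ∈ P1 m F := by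
  rw [mem_P1]
  intro i hi
  rw [r3_qE_coe]
  rcases i with i | i
  · rw [Matrix.fromBlocks_apply₁₁, Matrix.one_apply, if_neg]
    intro h
    exact hi (congrArg Sum.inl h)
  · rw [Matrix.fromBlocks_apply₂₁, Matrix.zero_apply]

theorem k2_xE_mem_P1 (x : Fin m → F) : xE x ∈ P1 m F := by
  rw [mem_P1]
  intro i hi
  rw [r3_xE_coe]
  rcases i with i | i
  · rw [Matrix.fromBlocks_apply₁₁]
    revert hi
    refine Fin.cases ?_ (fun j => ?_) i
    · intro hi; exact absurd rfl hi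
    · intro _; rw [r3_bordM_succ_zero]; rfl
  · rw [Matrix.fromBlocks_apply₂₁, Matrix.zero_apply]

theorem k2_ιG_mem_P1 (g : Sp m F) : ιG g ∈ P1 m F := by
  rw [mem_P1]
  intro i hi
  rw [r3_ιG_coe]
  rcases i with i | i
  · rw [Matrix.fromBlocks_apply₁₁]
    revert hi
    refine Fin.cases ?_ (fun j => ?_) i
    · intro hi; exact absurd rfl hi
    · intro _; rw [r3_bordM_succ_zero]; rfl
  · rw [Matrix.fromBlocks_apply₂₁]
    refine Fin.cases ?_ (fun j => ?_) i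
    · rw [r3_bordM_zero_zero]
    · rw [r3_bordM_succ_zero]; rfl

/-- `H₁` is in the kernel of the `Z`-fixed part -/
theorem zproj_zero_ηE_mul (h2 : (2 : F) ≠ 0) (ψ : AddChar F ℂ) (hψ : ψ ≠ 1) {χ : Sp (m + 1) F → ℂ}
    (hχ : IsCharacter (Sp (m + 1) F) χ) (hs : QSmall ψ χ) (x v : Fin m → F) (t : F)
    (p : Sp (m + 1) F) (hp : p ∈ P1 m F) : zproj ψ 0 χ (ηE x v t * p) = zproj ψ 0 χ p := by
  have hθ := isCharacter_zproj_zero_P1 ψ hχ
  have hcf := Cfsg.Agent.Lib.Helper4.isClassFunction_of_isCharacter hθ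
  -- `yE v` is in the kernel
  have hy : ∀ (v : Fin m → F) (p : Sp (m + 1) F), p ∈ P1 m F →
      zproj ψ 0 χ (yE v * p) = zproj ψ 0 χ p := by
    intro v p hp
    have := k2_char_mul_of_ker hθ (n := ⟨yE v, k2_qE_mem_P1 _ _ _⟩)
      (zproj_zero_yE h2 ψ hψ hs v) ⟨p, hp⟩
    exact this
  -- `xE x` is in the kernel
  have hx : ∀ (x : Fin m → F) (p : Sp (m + 1) F), p ∈ P1 m F →
      zproj ψ 0 χ (xE x * p) = zproj ψ 0 χ p := by
    intro x p hp
    have hw : (wG : Sp (m + 1) F) ∈ P1 m F := k2_ιG_mem_P1 _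
    have h1 := hcf ⟨yE (-x), k2_qE_mem_P1 _ _ _⟩ ⟨wG, hw⟩
    have h3 : zproj ψ 0 χ (xE x) = zproj ψ 0 χ 1 := by
      have h4 : zproj ψ 0 χ (wG * yE (-x) * wG⁻¹) = zproj ψ 0 χ (yE (-x)) := h1
      rw [wG_conj_yE, neg_neg] at h4
      rw [h4, zproj_zero_yE h2 ψ hψ hs]
    have := k2_char_mul_of_ker hθ (n := ⟨xE x, k2_xE_mem_P1 _⟩) h3 ⟨p, hp⟩
    exact this
  have hz : ∀ (t : F) (p : Sp (m + 1) F), zproj ψ 0 χ (zE t * p) = zproj ψ 0 χ p := by
    intro t p
    rw [zproj_zE_mul, zero_mul, AddChar.map_zero_eq_one, one_mul]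
  unfold ηE
  have hzp : zE t * p ∈ P1 m F := (P1 m F).mul_mem (k2_qE_mem_P1 _ _ _) hp
  have hyzp : yE v * (zE t * p) ∈ P1 m F := (P1 m F).mul_mem (k2_qE_mem_P1 _ _ _) hzp
  rw [mul_assoc, mul_assoc, hx x _ hyzp, hy v _ hzp, hz]


/-! ### the subgroups `Z` and `H₁` -/

theorem k2_ηE_inv (x v : Fin m → F) (t : F) :
    (ηE x v t : Sp (m + 1) F)⁻¹ = ηE (-x) (-v) (-t - 2 * (x ⬝ᵥ v)) := by
  rw [inv_eq_iff_mul_eq_one, ηE_mul]
  have h0 : (ηE (0 : Fin m → F) 0 0 : Sp (m + 1) F) = 1 := by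
    unfold ηE yE zE
    rw [xE_zero, r3_qE_zero, mul_one, mul_one]
  rw [← h0]
  congr 1
  · rw [add_neg_cancel]
  · rw [add_neg_cancel]
  · rw [neg_dotProduct]; ring

/-- the Heisenberg group `H₁` -/
def k2_H1 (m : ℕ) (F : Type u) [Field F] [Fintype F] : Subgroup (Sp (m + 1) F) where
  carrier := {g | ∃ (x v : Fin m → F) (t : F), g = ηE x v t}
  one_mem' := by
    refine ⟨0, 0, 0, ?_⟩
    unfold ηE yE zE
    rw [xE_zero, r3_qE_zero, mul_one, mul_one]
  mul_mem' := by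
    rintro a b ⟨x, v, t, rfl⟩ ⟨x', v', t', rfl⟩
    exact ⟨_, _, _, ηE_mul x v x' v' t t'⟩
  inv_mem' := by
    rintro a ⟨x, v, t, rfl⟩
    exact ⟨_, _, _, k2_ηE_inv x v t⟩

/-- the long root group `Z` -/
def k2_Z (m : ℕ) (F : Type u) [Field F] [Fintype F] : Subgroup (Sp (m + 1) F) where
  carrier := {g | ∃ t : F, g = zE t}
  one_mem' := ⟨0, PkF2.zE_zero.symm⟩
  mul_mem' := by
    rintro a b ⟨t, rfl⟩ ⟨t', rfl⟩
    exact ⟨t + t', (PkF2.zE_add t t').symm⟩
  inv_mem' := by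
    rintro a ⟨t, rfl⟩
    refine ⟨-t, ?_⟩
    rw [inv_eq_iff_mul_eq_one, ← PkF2.zE_add, add_neg_cancel, PkF2.zE_zero]

theorem k2_ηE_zero_zero (t : F) : (ηE (0 : Fin m → F) 0 t : Sp (m + 1) F) = zE t := by
  unfold ηE yE
  rw [xE_zero, r3_qE_zero, one_mul, one_mul]

theorem k2_ηE_eq_zE_mul (x v : Fin m → F) (t : F) :
    (ηE x v t : Sp (m + 1) F) = zE t * ηE x v 0 := by
  rw [zE_comm_ηE]
  unfold ηE
  rw [PkF2.zE_zero, mul_one]

theorem k2_Z_le_H1 : k2_Z m F ≤ k2_H1 m F := by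
  rintro g ⟨t, rfl⟩
  exact ⟨0, 0, t, (k2_ηE_zero_zero t).symm⟩

theorem k2_Z_le_range : k2_Z m F ≤ (ιS (m := m) (F := F)).range := by
  rintro g ⟨t, rfl⟩
  exact ⟨z1 t, ιS_z1 t⟩

theorem k2_zE_injective : Function.Injective (zE (m := m) (F := F)) := by
  intro t t' h
  exact (r3_qE_inj h).1

/-- the fixed space dimension of `Z` -/
theorem k2_fixdim_Z [Fintype (k2_Z m F)] (χ : Sp (m + 1) F → ℂ) :
    fixdim (k2_Z m F) χ = (Fintype.card F : ℂ)⁻¹ * ∑ t : F, χ (zE t) := by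
  classical
  let e : F ≃ k2_Z m F := Equiv.ofBijective (fun t => ⟨zE t, t, rfl⟩) (by
    constructor
    · intro t t' h
      exact k2_zE_injective (congrArg Subtype.val h)
    · rintro ⟨g, t, rfl⟩
      exact ⟨t, rfl⟩)
  unfold fixdim
  rw [← Fintype.card_congr e]
  congr 1
  exact (Fintype.sum_equiv e _ _ (fun t => rfl)).symm

/-- the fixed space dimension of `H₁` -/
theorem k2_fixdim_H1 [Fintype (k2_H1 m F)] (χ : Sp (m + 1) F → ℂ) :
    fixdim (k2_H1 m F) χ = (Fintype.card ((Fin m → F) × (Fin m → F) × F) : ℂ)⁻¹ *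
      ∑ p : (Fin m → F) × (Fin m → F) × F, χ (ηE p.1 p.2.1 p.2.2) := by
  classical
  let e : (Fin m → F) × (Fin m → F) × F ≃ k2_H1 m F :=
    Equiv.ofBijective (fun p => ⟨ηE p.1 p.2.1 p.2.2, p.1, p.2.1, p.2.2, rfl⟩) (by
    constructor
    · intro p p' h
      exact ηE_injective (congrArg Subtype.val h)
    · rintro ⟨g, x, v, t, rfl⟩
      exact ⟨(x, v, t), rfl⟩)
  unfold fixdim
  rw [← Fintype.card_congr e]
  congr 1
  exact (Fintype.sum_equiv e _ _ (fun t => rfl)).symm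


/-- `Z` and `H₁` have the same fixed space in a small character -/
theorem k2_fixdim_H1_eq_Z [Fintype (k2_H1 m F)] [Fintype (k2_Z m F)] (h2 : (2 : F) ≠ 0)
    (ψ : AddChar F ℂ) (hψ : ψ ≠ 1) {χ : Sp (m + 1) F → ℂ} (hχ : IsCharacter (Sp (m + 1) F) χ)
    (hs : QSmall ψ χ) : fixdim (k2_Z m F) χ = fixdim (k2_H1 m F) χ := by
  rw [k2_fixdim_Z, k2_fixdim_H1]
  have hq0 : (Fintype.card F : ℂ) ≠ 0 := Nat.cast_ne_zero.2 Fintype.card_ne_zero
  have hX0 : (Fintype.card (Fin m → F) : ℂ) ≠ 0 := Nat.cast_ne_zero.2 Fintype.card_ne_zero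
  -- the inner sum over `t`
  have hinner : ∀ x v : Fin m → F, ∑ t : F, χ (ηE x v t) = ∑ t : F, χ (zE t) := by
    intro x v
    have h1 : ∑ t : F, χ (ηE x v t) = (Fintype.card F : ℂ) * zproj ψ 0 χ (ηE x v 0) := by
      rw [zproj_apply, ← mul_assoc, mul_inv_cancel₀ hq0, one_mul]
      apply Finset.sum_congr rfl
      intro t _
      rw [zero_mul, AddChar.map_zero_eq_one, map_one, one_mul, ← k2_ηE_eq_zE_mul]
    have h3 : ∑ t : F, χ (zE t) = (Fintype.card F : ℂ) * zproj ψ 0 χ 1 := by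
      rw [zproj_apply, ← mul_assoc, mul_inv_cancel₀ hq0, one_mul]
      apply Finset.sum_congr rfl
      intro t _
      rw [zero_mul, AddChar.map_zero_eq_one, map_one, one_mul, mul_one]
    have h4 := zproj_zero_ηE_mul h2 ψ hψ hχ hs x v 0 1 (P1 m F).one_mem
    rw [mul_one] at h4
    rw [h1, h3, h4]
  rw [Fintype.sum_prod_type]
  simp_rw [Fintype.sum_prod_type]
  simp_rw [hinner]
  rw [Finset.sum_const, Finset.sum_const, Finset.card_univ, Fintype.card_prod, Fintype.card_prod,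
    nsmul_eq_mul, nsmul_eq_mul, Nat.cast_mul, Nat.cast_mul]
  field_simp

theorem k2_fixdim_top {G : Type u} [Group G] [Fintype G] (H : Subgroup G) [Fintype H] (hH : H = ⊤)
    (χ : G → ℂ) : fixdim H χ = classInner χ (fun _ => 1) := by
  subst hH
  unfold fixdim classInner
  rw [Nat.card_eq_fintype_card, Fintype.card_congr (Subgroup.topEquiv (G := G)).toEquiv]
  congr 1
  refine Fintype.sum_equiv (Subgroup.topEquiv (G := G)).toEquiv _ _ (fun h => ?_)
  simp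

theorem k2_ιS_injective : Function.Injective (ιS (m := m) (F := F)) := by
  intro s s' h
  have := ιK_injective (m := m) (F := F) (a₁ := (s, 1)) (a₂ := (s', 1)) h
  exact (Prod.mk.inj this).1

theorem k2_fixdim_range [Fintype (ιS (m := m) (F := F)).range] (χ : Sp (m + 1) F → ℂ) :
    fixdim (ιS (m := m) (F := F)).range χ = classInner (fun s : Sp 1 F => χ (ιS s)) (fun _ => 1) := by
  classical
  let e : Sp 1 F ≃ (ιS (m := m) (F := F)).range :=
    (MonoidHom.ofInjective (k2_ιS_injective (m := m) (F := F))).toEquiv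
  unfold fixdim classInner
  rw [Nat.card_eq_fintype_card, ← Fintype.card_congr e]
  congr 1
  refine (Fintype.sum_equiv e _ _ (fun s => ?_)).symm
  rw [map_one, mul_one]
  rfl

end Cfsg.Agent.Lib.Helper2.WG
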