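import Mathlib
import Cfsg.Agent.Lib.Helper7.SubgDefs
import Cfsg.Agent.S0801

set_option autoImplicit false
set_option linter.unusedSectionVars false

namespace Cfsg.Agent.Lib.Helper7.Subg

open Matrix

variable {F : Type*} [Field F] {ι : Type*} [Fintype ι] [DecidableEq ι]

/-- the transport map `Mat₂(F) → Matₙ(F)` attached to a dual pair `(b₁,b₂)`, `(β₁,β₂)` -/
def pfRho (b₁ b₂ β₁ β₂ : ι → F) (A : Matrix (Fin 2) (Fin 2) F) : Matrix ι ι F :=
  1 + ((A 0 0 - 1) • vecMulVec b₁ β₁ + A 0 1 • vecMulVec b₁ β₂ + A 1 0 • vecMulVec b₂ β₁ +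
    (A 1 1 - 1) • vecMulVec b₂ β₂)

theorem pfRho_one (b₁ b₂ β₁ β₂ : ι → F) : pfRho b₁ b₂ β₁ β₂ 1 = 1 := by
  simp [pfRho]

theorem pfRho_mul (b₁ b₂ β₁ β₂ : ι → F) (h11 : β₁ ⬝ᵥ b₁ = 1) (h12 : β₁ ⬝ᵥ b₂ = 0)
    (h21 : β₂ ⬝ᵥ b₁ = 0) (h22 : β₂ ⬝ᵥ b₂ = 1) (A B : Matrix (Fin 2) (Fin 2) F) :
    pfRho b₁ b₂ β₁ β₂ (A * B) = pfRho b₁ b₂ β₁ β₂ A * pfRho b₁ b₂ β₁ β₂ B := by
  simp only [pfRho, Matrix.mul_apply, Fin.sum_univ_two]
  simp only [mul_add, add_mul, mul_one, one_mul, smul_mul_smul_comm, vmv_mul, h11, h12, h21, h22,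
    one_smul, zero_smul, smul_zero, add_zero, zero_add]
  module

/-- inside `E = Subfield.closure {lam}` the element `lam` still generates everything -/
theorem pf_closure_top (lam : F) :
    Subfield.closure ({(⟨lam, Subfield.subset_closure rfl⟩ : Subfield.closure ({lam} : Set F))} :
      Set (Subfield.closure ({lam} : Set F))) = ⊤ := by
  have h1 : Subfield.closure ({lam} : Set F) ≤
      (Subfield.closure ({(⟨lam, Subfield.subset_closure rfl⟩ :
        Subfield.closure ({lam} : Set F))} : Set (Subfield.closure ({lam} : Set F)))).map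
        (Subfield.closure ({lam} : Set F)).subtype := by
    rw [Subfield.closure_le]
    intro x hx
    rw [Set.mem_singleton_iff] at hx
    subst hx
    exact ⟨⟨x, Subfield.subset_closure rfl⟩, Subfield.subset_closure rfl, rfl⟩
  rw [eq_top_iff]
  intro x _
  obtain ⟨y, hy, hyx⟩ := h1 x.2
  have : y = x := Subtype.ext hyx
  rw [← this]
  exact hy

theorem dickson_transport [Fintype F] (h2 : (2 : F) ≠ 0) (M : Subgroup (GL ι F)) : DT M := by
  classical
  intro v φ w ψ hφv hψw hM1 hM2 hne hsq c hc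
  have hφw : φ ⬝ᵥ w ≠ 0 := left_ne_zero_of_mul hne
  have hψv : ψ ⬝ᵥ v ≠ 0 := right_ne_zero_of_mul hne
  generalize hlam : (φ ⬝ᵥ w) * (ψ ⬝ᵥ v) = lam at hne hsq hc
  have : Fintype (Subfield.closure ({lam} : Set F)) := Fintype.ofFinite _
  -- the dual pair
  have h11 : ((φ ⬝ᵥ w)⁻¹ • φ) ⬝ᵥ w = 1 := by
    rw [smul_dotProduct, smul_eq_mul, inv_mul_cancel₀ hφw]
  have h12 : ((φ ⬝ᵥ w)⁻¹ • φ) ⬝ᵥ ((φ ⬝ᵥ w) • v) = 0 := by
    rw [smul_dotProduct, dotProduct_smul, hφv, smul_zero, smul_zero]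
  have h21 : (lam⁻¹ • ψ) ⬝ᵥ w = 0 := by
    rw [smul_dotProduct, hψw, smul_zero]
  have h22 : (lam⁻¹ • ψ) ⬝ᵥ ((φ ⬝ᵥ w) • v) = 1 := by
    rw [smul_dotProduct, dotProduct_smul, smul_eq_mul, smul_eq_mul, hlam, inv_mul_cancel₀ hne]
  have hvm1 : vecMulVec ((φ ⬝ᵥ w) • v) ((φ ⬝ᵥ w)⁻¹ • φ) = vecMulVec v φ := by
    ext i j
    simp only [vecMulVec_apply, Pi.smul_apply, smul_eq_mul]
    field_simp
  -- the property transported along the closure
  have key : ∀ A : Matrix.SpecialLinearGroup (Fin 2) (Subfield.closure ({lam} : Set F)),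
      Mm M (pfRho w ((φ ⬝ᵥ w) • v) ((φ ⬝ᵥ w)⁻¹ • φ) (lam⁻¹ • ψ)
        ((A : Matrix (Fin 2) (Fin 2) (Subfield.closure ({lam} : Set F))).map
          (Subfield.closure ({lam} : Set F)).subtype)) := by
    have h2E : (2 : Subfield.closure ({lam} : Set F)) ≠ 0 := by
      intro h
      apply h2
      have := congrArg ((Subfield.closure ({lam} : Set F)).subtype) h
      rw [map_ofNat, map_zero] at this
      exact this
    have hlam'0 : (⟨lam, Subfield.subset_closure rfl⟩ : Subfield.closure ({lam} : Set F)) ≠ 0 := by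
      intro h
      apply hne
      have := congrArg ((Subfield.closure ({lam} : Set F)).subtype) h
      simpa using this
    have hgen := pf_closure_top lam
    rcases Cfsg.Agent.S0801.result h2E _ hlam'0 hgen with ⟨htop, -⟩ | ⟨-, hbad, -⟩
    · intro A
      have hA : A ∈ Subgroup.closure
          {g : Matrix.SpecialLinearGroup (Fin 2) (Subfield.closure ({lam} : Set F)) |
          (g : Matrix (Fin 2) (Fin 2) (Subfield.closure ({lam} : Set F))) = !![1, 0; 1, 1] ∨
          (g : Matrix (Fin 2) (Fin 2) (Subfield.closure ({lam} : Set F))) =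
            !![1, ⟨lam, Subfield.subset_closure rfl⟩; 0, 1]} := by rw [htop]; trivial
      induction hA using Subgroup.closure_induction with
      | mem g hg =>
        rcases hg with hg | hg
        · rw [hg]
          have : pfRho w ((φ ⬝ᵥ w) • v) ((φ ⬝ᵥ w)⁻¹ • φ) (lam⁻¹ • ψ)
              ((!![1, 0; 1, 1] : Matrix (Fin 2) (Fin 2) (Subfield.closure ({lam} : Set F))).map
                (Subfield.closure ({lam} : Set F)).subtype) = tvm 1 v φ := by
            simp [pfRho, tvm, hvm1]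
          rw [this]; exact hM1
        · rw [hg]
          have : pfRho w ((φ ⬝ᵥ w) • v) ((φ ⬝ᵥ w)⁻¹ • φ) (lam⁻¹ • ψ)
              ((!![1, ⟨lam, Subfield.subset_closure rfl⟩; 0, 1] :
                Matrix (Fin 2) (Fin 2) (Subfield.closure ({lam} : Set F))).map
                (Subfield.closure ({lam} : Set F)).subtype) = tvm 1 w ψ := by
            simp [pfRho, tvm, smul_smul, mul_inv_cancel₀ hne]
          rw [this]; exact hM2
      | one =>
        have : ((1 : Matrix.SpecialLinearGroup (Fin 2) (Subfield.closure ({lam} : Set F))) :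
            Matrix (Fin 2) (Fin 2) (Subfield.closure ({lam} : Set F))).map
              (Subfield.closure ({lam} : Set F)).subtype = 1 := by
          rw [Matrix.SpecialLinearGroup.coe_one]
          exact Matrix.map_one _ (map_zero _) (map_one _)
        rw [this, pfRho_one]; exact Mm.one M
      | mul g h _ _ ihg ihh =>
        rw [Matrix.SpecialLinearGroup.coe_mul, Matrix.map_mul, pfRho_mul _ _ _ _ h11 h12 h21 h22]
        exact ihg.mul ihh
      | inv g _ ihg =>
        apply ihg.inv_of_mul_eq_one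
        rw [← pfRho_mul _ _ _ _ h11 h12 h21 h22, ← Matrix.map_mul,
          ← Matrix.SpecialLinearGroup.coe_mul, mul_inv_cancel, Matrix.SpecialLinearGroup.coe_one,
          Matrix.map_one _ (map_zero _) (map_one _), pfRho_one]
    · exfalso
      apply hsq
      have := congrArg ((Subfield.closure ({lam} : Set F)).subtype) hbad
      simpa using this
  -- apply to the lower unitriangular matrix with entry `c`
  have hdet : (!![1, 0; (⟨c, hc⟩ : Subfield.closure ({lam} : Set F)), 1] :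
      Matrix (Fin 2) (Fin 2) (Subfield.closure ({lam} : Set F))).det = 1 := by
    rw [Matrix.det_fin_two_of]; simp
  have := key ⟨_, hdet⟩
  have e : pfRho w ((φ ⬝ᵥ w) • v) ((φ ⬝ᵥ w)⁻¹ • φ) (lam⁻¹ • ψ)
      ((!![1, 0; (⟨c, hc⟩ : Subfield.closure ({lam} : Set F)), 1] :
        Matrix (Fin 2) (Fin 2) (Subfield.closure ({lam} : Set F))).map
          (Subfield.closure ({lam} : Set F)).subtype) = tvm c v φ := by
    simp [pfRho, tvm, hvm1]
  rw [← e]
  exact this

end Cfsg.Agent.Lib.Helper7.Subg
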