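import Mathlib
import Cfsg.Prelude

set_option autoImplicit false

/-!
# Frobenius groups as semidirect products with a fixed-point-free action
-/

namespace Cfsg.Agent.Lib.Helper7.FrobCons

open SemidirectProduct
open scoped Pointwise

variable {K Q : Type*} [CommGroup K] [Finite K] [Group Q] (φ : Q →* MulAut K)

theorem conj_inl_inr (w : K) (q : Q) :
    (inl w : K ⋊[φ] Q) * inr q * (inl w)⁻¹ = inl (w * (φ q w)⁻¹) * inr q := by
  rw [map_mul, map_inv, inl_aut, map_inv]
  group

/-- `w ↦ w (φ q w)⁻¹` is onto when `q` acts without fixed points -/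
theorem exists_comm_eq (q : Q) (hq : ∀ v : K, φ q v = v → v = 1) (v : K) :
    ∃ w : K, w * (φ q w)⁻¹ = v := by
  have hinj : Function.Injective (fun w : K => w * (φ q w)⁻¹) := by
    intro w₁ w₂ h
    have h' : w₁ * (φ q w₁)⁻¹ = w₂ * (φ q w₂)⁻¹ := h
    have h1 : φ q (w₁ * w₂⁻¹) = w₁ * w₂⁻¹ := by
      rw [map_mul, map_inv]
      have e1 : φ q w₁ = (w₂ * (φ q w₂)⁻¹)⁻¹ * w₁ := by
        rw [← h']; group
      rw [e1]
      rw [mul_inv_rev, inv_inv]
      calc φ q w₂ * w₂⁻¹ * w₁ * (φ q w₂)⁻¹ = w₁ * w₂⁻¹ * (φ q w₂ * (φ q w₂)⁻¹) := by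
            simp only [mul_comm, mul_left_comm, mul_assoc]
        _ = w₁ * w₂⁻¹ := by rw [mul_inv_cancel, mul_one]
    have h2 := hq _ h1
    exact mul_inv_eq_one.mp h2
  exact (Finite.injective_iff_surjective.mp hinj) v

variable (hfpf : ∀ q : Q, q ≠ 1 → ∀ v : K, φ q v = v → v = 1)

include hfpf in
/-- the complement `Q` is a Frobenius complement -/
theorem isFrobeniusComplement_range_inr [Nontrivial Q] [Nontrivial K] :
    Cfsg.IsFrobeniusComplement (inr : Q →* K ⋊[φ] Q).range := by
  refine ⟨?_, ?_, ?_⟩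
  · intro h
    obtain ⟨q, hq⟩ := exists_ne (1 : Q)
    have : (inr q : K ⋊[φ] Q) ∈ (inr : Q →* K ⋊[φ] Q).range := ⟨q, rfl⟩
    rw [h, Subgroup.mem_bot] at this
    exact hq (inr_injective (by rw [this, map_one]))
  · intro h
    obtain ⟨v, hv⟩ := exists_ne (1 : K)
    have : (inl v : K ⋊[φ] Q) ∈ (inr : Q →* K ⋊[φ] Q).range := by rw [h]; exact Subgroup.mem_top _
    obtain ⟨q, hq⟩ := this
    have h1 := congrArg SemidirectProduct.left hq
    rw [left_inr, left_inl] at h1
    exact hv h1.symm
  · intro g hg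
    rw [eq_bot_iff]
    intro x hx
    rw [Subgroup.mem_inf] at hx
    obtain ⟨⟨s, rfl⟩, hx2⟩ := hx
    rw [Subgroup.mem_pointwise_smul_iff_inv_smul_mem] at hx2
    obtain ⟨t, ht⟩ := hx2
    -- inr t = g⁻¹ * inr s * g
    have ht' : (inr t : K ⋊[φ] Q) = g⁻¹ * inr s * g := by
      rw [ht]
      show (MulAut.conj g)⁻¹ (inr s) = _
      rw [← map_inv, MulAut.conj_apply, inv_inv]
    have hgl : g.left ≠ 1 := by
      intro h
      apply hg
      refine ⟨g.right, ?_⟩
      rw [← inl_left_mul_inr_right g, h, map_one, one_mul]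
      simp
    -- compare left components of g * inr t = inr s * g
    have h1 : g * inr t = inr s * g := by rw [ht']; group
    have hl := congrArg SemidirectProduct.left h1
    have hr := congrArg SemidirectProduct.right h1
    rw [mul_left, mul_left, left_inr, left_inr, map_one, mul_one, one_mul, right_inr] at hl
    rw [Subgroup.mem_bot]
    by_cases hs : s = 1
    · rw [hs, map_one]
    · exfalso
      exact hgl (hfpf s hs g.left hl.symm)

include hfpf in
/-- the Frobenius kernel is the normal factor -/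
theorem frobeniusKernel_range_inr :
    Cfsg.frobeniusKernel (inr : Q →* K ⋊[φ] Q).range = ((inl : K →* K ⋊[φ] Q).range : Set (K ⋊[φ] Q)) := by
  ext x
  constructor
  · intro hx
    by_cases hq : x.right = 1
    · refine ⟨x.left, ?_⟩
      rw [← inl_left_mul_inr_right x, hq, map_one, mul_one]
      simp
    · exfalso
      rcases hx with h1 | h2
      · apply hq
        rw [h1]; rfl
      · obtain ⟨w, hw⟩ := exists_comm_eq φ x.right (hfpf x.right hq) x.left
        apply h2 (inl w)
        rw [Subgroup.mem_pointwise_smul_iff_inv_smul_mem]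
        have h3 := conj_inl_inr φ w x.right
        rw [hw, inl_left_mul_inr_right] at h3
        have h4 : (inr x.right : K ⋊[φ] Q) = (inl w)⁻¹ * x * inl w := by
          have : (inl w : K ⋊[φ] Q)⁻¹ * x * inl w
              = (inl w)⁻¹ * (inl w * inr x.right * (inl w)⁻¹) * inl w := by rw [h3]
          rw [this]; group
        refine ⟨x.right, ?_⟩
        show _ = (MulAut.conj (inl w))⁻¹ x
        rw [← map_inv, MulAut.conj_apply, inv_inv]
        exact h4
  · rintro ⟨v, rfl⟩
    by_cases hv : v = 1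
    · left; rw [hv, map_one]
    · right
      intro g hg
      rw [Subgroup.mem_pointwise_smul_iff_inv_smul_mem] at hg
      obtain ⟨t, ht⟩ := hg
      have h1 := congrArg (rightHom : K ⋊[φ] Q →* Q) ht
      have h2 : (rightHom : K ⋊[φ] Q →* Q) ((MulAut.conj g)⁻¹ • (inl v : K ⋊[φ] Q)) = 1 := by
        show (rightHom : K ⋊[φ] Q →* Q) ((MulAut.conj g)⁻¹ (inl v)) = 1
        rw [← map_inv, MulAut.conj_apply, inv_inv, map_mul, map_mul, rightHom_inl, mul_one, ← map_mul,
          inv_mul_cancel, map_one]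
      rw [h2, rightHom_inr] at h1
      rw [h1, map_one] at ht
      have h3 : (inl v : K ⋊[φ] Q) = 1 := by
        have : (MulAut.conj g)⁻¹ • (inl v : K ⋊[φ] Q) = 1 := ht.symm
        rwa [smul_eq_iff_eq_inv_smul, smul_one] at this
      exact hv (inl_injective (by rw [h3, map_one]))

include hfpf in
theorem card_frobeniusKernel :
    Nat.card (Cfsg.frobeniusKernel (inr : Q →* K ⋊[φ] Q).range) = Nat.card K := by
  rw [frobeniusKernel_range_inr φ hfpf]
  exact (Nat.card_congr (Equiv.ofInjective _ (inl_injective (φ := φ)))).symm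

end Cfsg.Agent.Lib.Helper7.FrobCons
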