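import Mathlib
import Cfsg.Prelude
import Cfsg.Agent.Lib.Helper7.FrobCons1
import Cfsg.Agent.Lib.Helper8.FrobeniusConstruct

set_option autoImplicit false

/-!
# Transport of Frobenius complements along isomorphisms, shrinking universes
-/

namespace Cfsg.Agent.Lib.Helper7.FrobCons

open scoped Pointwise

universe u v

theorem map_conj_smul {G : Type u} {G' : Type v} [Group G] [Group G'] (e : G ≃* G') (H : Subgroup G)
    (g : G) : MulAut.conj (e g) • H.map e.toMonoidHom = (MulAut.conj g • H).map e.toMonoidHom := by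
  ext x
  rw [Subgroup.mem_pointwise_smul_iff_inv_smul_mem]
  constructor
  · rintro ⟨y, hy, hxy⟩
    refine ⟨g * y * g⁻¹, ?_, ?_⟩
    · rw [SetLike.mem_coe, Subgroup.mem_pointwise_smul_iff_inv_smul_mem]
      show (MulAut.conj g)⁻¹ (g * y * g⁻¹) ∈ H
      rw [← map_inv, MulAut.conj_apply, inv_inv]
      have : g⁻¹ * (g * y * g⁻¹) * g = y := by group
      rw [this]; exact hy
    · have h1 : (MulAut.conj (e g))⁻¹ x = e y := hxy.symm
      rw [← map_inv, MulAut.conj_apply, inv_inv] at h1
      show e (g * y * g⁻¹) = x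
      rw [map_mul, map_mul, map_inv, ← h1]
      group
  · rintro ⟨y, hy, rfl⟩
    rw [SetLike.mem_coe, Subgroup.mem_pointwise_smul_iff_inv_smul_mem] at hy
    refine ⟨(MulAut.conj g)⁻¹ y, hy, ?_⟩
    show e ((MulAut.conj g)⁻¹ y) = (MulAut.conj (e g))⁻¹ (e y)
    rw [← map_inv, ← map_inv, MulAut.conj_apply, MulAut.conj_apply, map_mul, map_mul, map_inv, inv_inv,
      inv_inv]

theorem isFrobeniusComplement_map_equiv {G : Type u} {G' : Type v} [Group G] [Group G'] (e : G ≃* G')
    (H : Subgroup G) (h : Cfsg.IsFrobeniusComplement H) :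
    Cfsg.IsFrobeniusComplement (H.map e.toMonoidHom) := by
  obtain ⟨h1, h2, h3⟩ := h
  refine ⟨?_, ?_, ?_⟩
  · intro hb
    apply h1
    rw [eq_bot_iff]
    intro x hx
    have : e x ∈ H.map e.toMonoidHom := ⟨x, hx, rfl⟩
    rw [hb, Subgroup.mem_bot] at this
    rw [Subgroup.mem_bot]
    exact e.injective (by rw [this, map_one])
  · intro ht
    apply h2
    rw [eq_top_iff]
    intro x _
    have : e x ∈ H.map e.toMonoidHom := by rw [ht]; exact Subgroup.mem_top _
    obtain ⟨y, hy, hxy⟩ := this
    have : y = x := e.injective hxy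
    rw [← this]; exact hy
  · intro g' hg'
    obtain ⟨g, rfl⟩ := e.surjective g'
    have hg : g ∉ H := fun hg => hg' ⟨g, hg, rfl⟩
    rw [map_conj_smul, ← Subgroup.map_inf_eq _ _ _ e.injective, h3 g hg, Subgroup.map_bot]

/-- every Frobenius complement in a finite group can be realised in a group in `Type` -/
theorem exists_small_frobenius {L : Type u} [Group L] [Finite L] (C : Subgroup L)
    (hC : Cfsg.IsFrobeniusComplement C) :
    ∃ (L' : Type) (_ : Group L') (_ : Finite L') (C' : Subgroup L'),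
      Cfsg.IsFrobeniusComplement C' ∧ Nonempty (C ≃* C') := by
  let e : L ≃* Shrink.{0} L := (Shrink.mulEquiv.{0} (α := L)).symm
  haveI : Finite (Shrink.{0} L) := Finite.of_equiv L e.toEquiv
  exact ⟨Shrink.{0} L, inferInstance, inferInstance, C.map e.toMonoidHom,
    isFrobeniusComplement_map_equiv e C hC, ⟨e.subgroupMap C⟩⟩

/-- universe polymorphic version of the construction of a Frobenius group from a
fixed-point-free action -/
theorem exists_frobenius_of_fpf {H : Type u} {V : Type v} [Group H] [Finite H] [Nontrivial H]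
    [AddCommGroup V] [Finite V] [Nontrivial V] [DistribMulAction H V]
    (hfpf : ∀ h : H, h ≠ 1 → ∀ w : V, h • w = w → w = 0) :
    ∃ (L : Type) (_ : Group L) (_ : Finite L) (C : Subgroup L),
      Cfsg.IsFrobeniusComplement C ∧ Nonempty (H ≃* C) := by
  have hNnt : Nontrivial (Multiplicative V) := ‹Nontrivial V›
  have hNfin : Finite (Multiplicative V) := ‹Finite V›
  have hf : ∀ h : H, h ≠ 1 → ∀ a : Multiplicative V,
      Cfsg.Agent.Lib.Helper8.phiD H V h a = a → a = 1 := by
    intro h hh a ha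
    rw [Cfsg.Agent.Lib.Helper8.phiD_apply] at ha
    have h1 : h • Multiplicative.toAdd a = Multiplicative.toAdd a := congrArg Multiplicative.toAdd ha
    have h2 := hfpf h hh _ h1
    have : a = Multiplicative.ofAdd (Multiplicative.toAdd a) := rfl
    rw [this, h2]; rfl
  have hF := Cfsg.Agent.Lib.Helper8.isFrobeniusComplement_inr_range
    (Cfsg.Agent.Lib.Helper8.phiD H V) hf
  obtain ⟨L', i1, i2, C', hC', ⟨e'⟩⟩ := exists_small_frobenius _ hF
  exact ⟨L', i1, i2, C', hC',
    ⟨(Cfsg.Agent.Lib.Helper8.inrRangeEquiv (Cfsg.Agent.Lib.Helper8.phiD H V)).trans e'⟩⟩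

end Cfsg.Agent.Lib.Helper7.FrobCons
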