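import Mathlib
import Cfsg.Agent.S0493
import Cfsg.Agent.Lib.Lead.HallCount2

set_option autoImplicit false

namespace Cfsg.Agent.Lib.Helper7.Ord60

universe u

/-- Groups of order less than `60` are solvable. -/
theorem solvable_of_card_lt_sixty : ∀ (n : ℕ) (X : Type u) [Group X] [Finite X],
    Nat.card X = n → n < 60 → Group.IsSolvable X := by
  intro n
  induction n using Nat.strong_induction_on with
  | _ n ih =>
    intro X _ _ hn hlt
    by_cases hsub : Subsingleton X
    · haveI := hsub
      infer_instance
    · haveI : Nontrivial X := not_subsingleton_iff_nontrivial.mp hsub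
      by_cases hsimple : IsSimpleGroup X
      · by_cases hcyc : IsCyclic X
        · letI : CommGroup X := IsCyclic.commGroup
          exact Group.isSolvable_of_comm (fun a b => mul_comm a b)
        · exfalso
          have := Cfsg.Agent.S0493.result (G := X) hcyc (by omega)
          omega
      · have hex : ∃ N : Subgroup X, N.Normal ∧ N ≠ ⊥ ∧ N ≠ ⊤ := by
          by_contra hcon
          push Not at hcon
          apply hsimple
          refine ⟨fun N hN => ?_⟩
          by_cases h1 : N = ⊥
          · left; exact h1
          · right; exact hcon N hN h1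
        obtain ⟨N, hNn, hN1, hN2⟩ := hex
        have hmul := N.card_mul_index
        have hNcard : 1 < Nat.card N := by
          rw [Subgroup.one_lt_card_iff_ne_bot]; exact hN1
        have hidx : 1 < N.index := by
          have h1 : N.index ≠ 1 := fun h => hN2 (Subgroup.index_eq_one.mp h)
          have h0 : N.index ≠ 0 := Subgroup.index_ne_zero_of_finite
          omega
        have hlt1 : Nat.card N < n := by
          rw [← hn, ← hmul]; nlinarith
        have hlt2 : N.index < n := by
          rw [← hn, ← hmul]; nlinarith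
        haveI := ih (Nat.card N) hlt1 N rfl (by omega)
        haveI := ih N.index hlt2 (X ⧸ N) (Subgroup.index_eq_card N).symm (by omega)
        exact Group.isSolvable_of_ker_le_range N.subtype (QuotientGroup.mk' N)
          (by rw [QuotientGroup.ker_mk', Subgroup.range_subtype])

variable {G : Type u} [Group G] [Finite G]

instance fact5 : Fact (Nat.Prime 5) := ⟨Nat.prime_five⟩

/-- A group of order `60` whose Sylow `5`-subgroups are not normal is simple. -/
theorem simple_of_card_sixty (hG : Nat.card G = 60)
    (hP : ∀ P : Sylow 5 G, ¬ (P : Subgroup G).Normal) : IsSimpleGroup G := by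
  have hns : ¬ Group.IsSolvable G := by
    intro hsol
    haveI := hsol
    obtain ⟨H, hH⟩ := Cfsg.Agent.Lib.Lead.HallCount.exists_hall (G := G) 15 4 (by rw [hG]) (by decide)
    obtain ⟨Q⟩ : Nonempty (Sylow 5 ↥H) := inferInstance
    have hQcard : Nat.card (Q : Subgroup ↥H) = 5 := by
      rw [Sylow.card_eq_multiplicity, hH]
      have : (15 : ℕ).factorization 5 = 1 := by
        have : (15 : ℕ) = 3 * 5 := by norm_num
        rw [this, Nat.factorization_mul (by norm_num) (by norm_num)]
        simp [Nat.Prime.factorization Nat.prime_five, Nat.factorization_eq_zero_of_not_dvd]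
      rw [this, pow_one]
    have hQidx : (Q : Subgroup ↥H).index = 3 := by
      have := (Q : Subgroup ↥H).card_mul_index
      rw [hQcard, hH] at this
      omega
    have h1 : Nat.card (Sylow 5 ↥H) ∣ 3 := hQidx ▸ Q.card_dvd_index
    have h2 : Nat.card (Sylow 5 ↥H) ≡ 1 [MOD 5] := card_sylow_modEq_one 5 ↥H
    have h3 : Nat.card (Sylow 5 ↥H) = 1 := by
      rcases (Nat.dvd_prime Nat.prime_three).mp h1 with h | h
      · exact h
      · rw [h] at h2; exact absurd h2 (by decide)
    haveI : Subsingleton (Sylow 5 ↥H) := (Nat.card_eq_one_iff_unique.mp h3).1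
    have hQn : (Q : Subgroup ↥H).Normal := Q.normal_of_subsingleton
    set Q' : Subgroup G := (Q : Subgroup ↥H).map H.subtype with hQ'
    have hQ'card : Nat.card Q' = 5 := by
      rw [hQ', Subgroup.card_map_of_injective H.subtype_injective, hQcard]
    have hfac : (Nat.card G).factorization 5 = 1 := by
      rw [hG]
      have : (60 : ℕ) = 12 * 5 := by norm_num
      rw [this, Nat.factorization_mul (by norm_num) (by norm_num)]
      simp [Nat.Prime.factorization Nat.prime_five, Nat.factorization_eq_zero_of_not_dvd]
    let P : Sylow 5 G := Sylow.ofCard Q' (by rw [hQ'card, hfac, pow_one])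
    have hHN : H ≤ Subgroup.normalizer ((P : Subgroup G) : Set G) := by
      intro h hh
      rw [Subgroup.mem_normalizer_iff]
      intro x
      show x ∈ Q' ↔ h * x * h⁻¹ ∈ Q'
      constructor
      · rintro ⟨y, hy, rfl⟩
        exact ⟨⟨h, hh⟩ * y * ⟨h, hh⟩⁻¹, hQn.conj_mem y hy ⟨h, hh⟩, by simp⟩
      · rintro ⟨y, hy, hyx⟩
        refine ⟨⟨h, hh⟩⁻¹ * y * ⟨h, hh⟩, ?_, ?_⟩
        · have := hQn.conj_mem y hy ⟨h, hh⟩⁻¹
          rw [inv_inv] at this
          exact this
        · simp only [Subgroup.subtype_apply, Subgroup.coe_mul, Subgroup.coe_inv]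
          rw [Subgroup.subtype_apply] at hyx
          rw [hyx]; group
    have h15 : 15 ∣ Nat.card (Subgroup.normalizer ((P : Subgroup G) : Set G)) := by
      rw [← hH]
      exact Subgroup.card_dvd_of_le hHN
    have hn5 : Nat.card (Sylow 5 G) = (Subgroup.normalizer ((P : Subgroup G) : Set G)).index :=
      Sylow.card_eq_index_normalizer P
    have hmul := (Subgroup.normalizer ((P : Subgroup G) : Set G)).card_mul_index
    rw [hG] at hmul
    obtain ⟨c, hc⟩ := h15
    have hdvd4 : Nat.card (Sylow 5 G) ∣ 4 := by
      rw [hn5]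
      refine ⟨c, ?_⟩
      rw [hc] at hmul
      nlinarith
    have hmod : Nat.card (Sylow 5 G) ≡ 1 [MOD 5] := card_sylow_modEq_one 5 G
    have hone : Nat.card (Sylow 5 G) = 1 := by
      have hle := Nat.le_of_dvd (by norm_num) hdvd4
      unfold Nat.ModEq at hmod
      omega
    haveI : Subsingleton (Sylow 5 G) := (Nat.card_eq_one_iff_unique.mp hone).1
    exact hP P P.normal_of_subsingleton
  haveI : Nontrivial G := by
    rw [← Finite.one_lt_card_iff_nontrivial, hG]; norm_num
  refine ⟨fun N hN => ?_⟩
  by_contra hcon
  push Not at hcon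
  obtain ⟨hN1, hN2⟩ := hcon
  apply hns
  have hmul := N.card_mul_index
  rw [hG] at hmul
  have hNcard : 1 < Nat.card N := by
    rw [Subgroup.one_lt_card_iff_ne_bot]; exact hN1
  have hidx : 1 < N.index := by
    have h1 : N.index ≠ 1 := fun h => hN2 (Subgroup.index_eq_one.mp h)
    have h0 : N.index ≠ 0 := Subgroup.index_ne_zero_of_finite
    omega
  haveI := solvable_of_card_lt_sixty (Nat.card N) N rfl (by nlinarith)
  haveI := solvable_of_card_lt_sixty N.index (G ⧸ N) (Subgroup.index_eq_card N).symm (by nlinarith)
  exact Group.isSolvable_of_ker_le_range N.subtype (QuotientGroup.mk' N)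
    (by rw [QuotientGroup.ker_mk', Subgroup.range_subtype])

end Cfsg.Agent.Lib.Helper7.Ord60
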