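import Mathlib
import Cfsg.Agent.Lib.Helper8.SmTwoB
import Cfsg.Agent.Lib.Helper8.SmTwoC
import Cfsg.Agent.Lib.Helper2.SmTwoPT
import Cfsg.Agent.Lib.Helper4.NgpDefs

set_option autoImplicit false

/-! S1904, package NL: Lemma L. -/

namespace Cfsg.Agent.Lib.Helper4.Ngp

open Cfsg.Agent.Lib.Helper8.SmTwo
open scoped commutatorElement

universe u

variable {G : Type u} [Group G]

/-- an odd-order element `a` with `a w a⁻¹ = w c`, `a c a⁻¹ = c`, `c² = 1` forces `c = 1` -/
theorem nl_odd_key {a w c : G} (ha : Odd (orderOf a)) (h1 : a * w * a⁻¹ = w * c)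
    (h2 : a * c * a⁻¹ = c) (h3 : c ^ 2 = 1) : c = 1 := by
  have hc : ∀ n : ℕ, a * c ^ n * a⁻¹ = c ^ n := by
    intro n
    rw [← conj_pow, h2]
  have key : ∀ n : ℕ, a ^ n * w * (a ^ n)⁻¹ = w * c ^ n := by
    intro n
    induction n with
    | zero => simp
    | succ n ih =>
      have e : a ^ (n + 1) * w * (a ^ (n + 1))⁻¹ = a * (a ^ n * w * (a ^ n)⁻¹) * a⁻¹ := by
        rw [pow_succ']; group
      rw [e, ih]
      have e2 : a * (w * c ^ n) * a⁻¹ = (a * w * a⁻¹) * (a * c ^ n * a⁻¹) := by group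
      rw [e2, h1, hc n, mul_assoc, ← pow_succ']
  have h4 := key (orderOf a)
  rw [pow_orderOf_eq_one] at h4
  simp only [one_mul, inv_one, mul_one] at h4
  have h5 : c ^ orderOf a = 1 := by
    have := congrArg (fun t => w⁻¹ * t) h4
    simpa using this.symm
  obtain ⟨m, hm⟩ := ha
  rw [hm, pow_succ, pow_mul, h3, one_pow, one_mul] at h5
  exact h5

/-- three distinct elements give `3 ≤ |H|` -/
theorem nl_three_le_card [Finite G] {H : Subgroup G} {x y : G} (hx : x ∈ H) (hy : y ∈ H)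
    (hx1 : x ≠ 1) (hy1 : y ≠ 1) (hxy : x ≠ y) : 3 ≤ Nat.card H := by
  let f : Fin 3 → H := ![⟨1, H.one_mem⟩, ⟨x, hx⟩, ⟨y, hy⟩]
  have hf : Function.Injective f := by
    intro i j hij
    fin_cases i <;> fin_cases j <;> simp [f, Subtype.ext_iff] at hij ⊢
    · exact absurd hij.symm hx1
    · exact absurd hij.symm hy1
    · exact absurd hij hx1
    · exact absurd hij hxy
    · exact absurd hij hy1
    · exact absurd hij.symm hxy
  have := Nat.card_le_card_of_injective f hf
  simpa using this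

/-- an involution in a nontrivial `2`-subgroup -/
theorem nl_exists_involution [Finite G] {X K : Subgroup G} (hX : IsPGroup 2 X) (hKX : K ≤ X)
    (hK : K ≠ ⊥) : ∃ e ∈ K, e ≠ 1 ∧ e ^ 2 = 1 := by
  obtain ⟨⟨k, hkK⟩, hk1'⟩ := (Subgroup.ne_bot_iff_exists_ne_one).mp hK
  have hk1 : k ≠ 1 := fun h => hk1' (Subtype.ext h)
  obtain ⟨n, hn⟩ := hX ⟨k, hKX hkK⟩
  have hn' : k ^ (2 ^ n) = 1 := by
    have := congrArg Subtype.val hn
    simpa using this
  -- least m with k^(2^m) = 1
  classical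
  have hex : ∃ m : ℕ, k ^ (2 ^ m) = 1 := ⟨n, hn'⟩
  set m := Nat.find hex with hm
  have hm1 : k ^ (2 ^ m) = 1 := Nat.find_spec hex
  have hm0 : m ≠ 0 := by
    intro h0
    rw [h0] at hm1
    simp at hm1
    exact hk1 hm1
  obtain ⟨m', hm'⟩ := Nat.exists_eq_succ_of_ne_zero hm0
  refine ⟨k ^ (2 ^ m'), K.pow_mem hkK _, ?_, ?_⟩
  · intro h
    have : m ≤ m' := Nat.find_min' hex h
    omega
  · rw [← pow_mul, ← pow_succ, ← Nat.succ_eq_add_one, ← hm']
    exact hm1

theorem lemma_L [Finite G] (X A U : Subgroup G) (h : Hyp X A) (hU : Inv X A U) (hab : IsAb U)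
    (hnc : ¬ A ≤ Subgroup.centralizer (U : Set G)) : LData X A U := by
  have : Fact (Nat.Prime 2) := ⟨Nat.prime_two⟩
  have hE : Inv X A (om U 1) := hU.om 1
  have hEU : om U 1 ≤ U := om_le U 1
  have hmemE : ∀ g : G, g ∈ om U 1 ↔ g ∈ U ∧ g ^ 2 = 1 := by
    intro g
    rw [mem_om hab 1 g, pow_one]
  have hexp : ∀ e ∈ om U 1, e ^ 2 = 1 := fun e he => ((hmemE e).mp he).2
  have hcardle : Nat.card (om U 1) ≤ 4 := h.hN _ hE.1 hE.2.1 hexp
  have hodd : ∀ a ∈ A, Odd (orderOf a) := by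
    intro a ha
    have h1 : orderOf (⟨a, ha⟩ : A) ∣ Nat.card A := orderOf_dvd_natCard _
    rw [Subgroup.orderOf_mk] at h1
    exact Odd.of_dvd_nat h.hodd h1
  -- faith
  have faith : ∀ a ∈ A, a ∈ Subgroup.centralizer (om U 1 : Set G) →
      a ∈ Subgroup.centralizer (U : Set G) := by
    intro a ha hac
    have hcE : ∀ e ∈ om U 1, a * e * a⁻¹ = e := by
      intro e he
      have := Subgroup.mem_centralizer_iff.mp hac e he
      rw [← this]; group
    have hP : ∀ j : ℕ, ∀ u ∈ U, u ^ (2 ^ j) = 1 → a * u * a⁻¹ = u := by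
      intro j
      induction j with
      | zero =>
        intro u _ hu1
        rw [pow_zero, pow_one] at hu1
        rw [hu1]; group
      | succ j ih =>
        intro u hu hu1
        have hv : (u ^ 2) ^ (2 ^ j) = 1 := by
          rw [← pow_mul, ← pow_succ']; exact hu1
        have hav : a * u ^ 2 * a⁻¹ = u ^ 2 := ih (u ^ 2) (U.pow_mem hu 2) hv
        have hu' : a * u * a⁻¹ ∈ U := conj_mem_of_mem_normalizer (hU.2.2 ha) hu
        have hcU : u⁻¹ * (a * u * a⁻¹) ∈ U := U.mul_mem (U.inv_mem hu) hu'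
        have hcomm : Commute u⁻¹ (a * u * a⁻¹) := hab _ (U.inv_mem hu) _ hu'
        have hc2 : (u⁻¹ * (a * u * a⁻¹)) ^ 2 = 1 := by
          rw [hcomm.mul_pow, conj_pow, hav, inv_pow, inv_mul_cancel]
        have hcE' : u⁻¹ * (a * u * a⁻¹) ∈ om U 1 := (hmemE _).mpr ⟨hcU, hc2⟩
        have h1 : a * u * a⁻¹ = u * (u⁻¹ * (a * u * a⁻¹)) := by group
        have hc1 := nl_odd_key (hodd a ha) h1 (hcE _ hcE') hc2
        rw [hc1, mul_one] at h1
        exact h1
    rw [Subgroup.mem_centralizer_iff]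
    intro u hu
    obtain ⟨n, hn⟩ := h.hX ⟨u, hU.1 hu⟩
    have hn' : u ^ (2 ^ n) = 1 := by
      have := congrArg Subtype.val hn
      simpa using this
    have := hP n u hu hn'
    calc u * a = (a * u * a⁻¹) * a := by rw [this]
      _ = a * u := by group
  -- an element of A acting nontrivially on E
  obtain ⟨a, haA, haE⟩ : ∃ a ∈ A, a ∉ Subgroup.centralizer (om U 1 : Set G) := by
    by_contra hcon
    push Not at hcon
    exact hnc (fun a ha => faith a ha (hcon a ha))
  have hncE : ¬ A ≤ Subgroup.centralizer (om U 1 : Set G) := fun hle => haE (hle haA)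
  have haNE : a ∈ Subgroup.normalizer (om U 1 : Set G) := hE.2.2 haA
  -- a moved element
  obtain ⟨w, hwE, hwa⟩ : ∃ w ∈ om U 1, a * w * a⁻¹ ≠ w := by
    by_contra hcon
    push Not at hcon
    apply haE
    rw [Subgroup.mem_centralizer_iff]
    intro e he
    have := hcon e he
    calc e * a = (a * e * a⁻¹) * a := by rw [this]
      _ = a * e := by group
  have hw1 : w ≠ 1 := by
    rintro rfl
    apply hwa; group
  have hw' : a * w * a⁻¹ ∈ om U 1 := conj_mem_of_mem_normalizer haNE hwE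
  have hw'1 : a * w * a⁻¹ ≠ 1 := by
    intro h1
    apply hw1
    have : w = a⁻¹ * (a * w * a⁻¹) * a := by group
    rw [this, h1]; group
  have h3le : 3 ≤ Nat.card (om U 1) := nl_three_le_card hwE hw' hw1 hw'1 (Ne.symm hwa)
  -- card E = 4
  have hEp : IsPGroup 2 (om U 1) := h.hX.to_le hE.1
  obtain ⟨k, hk⟩ := hEp.exists_card_eq
  have hcard4 : Nat.card (om U 1) = 4 := by
    rw [hk] at h3le hcardle ⊢
    have hk2 : k ≤ 2 := by
      by_contra hcon
      push Not at hcon
      have : 2 ^ 3 ≤ 2 ^ k := Nat.pow_le_pow_right (by norm_num) hcon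
      omega
    interval_cases k <;> simp_all
  have hV4 : IsV4 (om U 1) := ⟨hcard4, hexp⟩
  -- KEY: `a` moves every involution of E
  have KEY : ∀ e ∈ om U 1, e ≠ 1 → a * e * a⁻¹ ≠ e := by
    intro e heE he1 hfix
    have he2 : e ^ 2 = 1 := hexp e heE
    have hord : orderOf e = 2 := orderOf_eq_prime he2 he1
    have hNE : Subgroup.zpowers e ≤ om U 1 := by
      rw [Subgroup.zpowers_le]; exact heE
    have hNcard : Nat.card (Subgroup.zpowers e) = 2 := by
      rw [Nat.card_zpowers, hord]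
    have hidx : (Subgroup.zpowers e).relIndex (om U 1) = 2 := by
      have := Cfsg.Agent.Lib.Helper8.SmTwo.pt_relIndex_mul_card hNE
      rw [hNcard, hcard4] at this
      omega
    have hcz : ∀ c ∈ Subgroup.zpowers e, a * c * a⁻¹ = c := by
      intro c hc
      obtain ⟨n, rfl⟩ := Subgroup.mem_zpowers_iff.mp hc
      rw [← conj_zpow, hfix]
    have haN : Subgroup.zpowers a ≤ Subgroup.normalizer ((Subgroup.zpowers e : Subgroup G) : Set G) := by
      rw [Subgroup.zpowers_le]
      refine mem_normalizer_of_conj_mem (fun c hc => by rw [hcz c hc]; exact hc) (fun c hc => ?_)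
      have := hcz c hc
      have e1 : a⁻¹ * c * a = a⁻¹ * (a * c * a⁻¹) * a := by rw [this]
      rw [e1]
      have e2 : a⁻¹ * (a * c * a⁻¹) * a = c := by group
      rw [e2]; exact hc
    have haNE' : Subgroup.zpowers a ≤ Subgroup.normalizer (om U 1 : Set G) := by
      rw [Subgroup.zpowers_le]; exact haNE
    have hcomm := commutator_le_of_relIndex_two (om U 1) (Subgroup.zpowers a) (Subgroup.zpowers e)
      hNE hidx haNE' haN
    apply haE
    rw [Subgroup.mem_centralizer_iff]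
    intro v hv
    have hvinv : v⁻¹ = v := inv_eq_of_mul_eq_one_right (by rw [← pow_two]; exact hexp v hv)
    have hc : ⁅v, a⁆ ∈ Subgroup.zpowers e :=
      hcomm (Subgroup.commutator_mem_commutator hv (Subgroup.mem_zpowers a))
    have hcE : ⁅v, a⁆ ∈ om U 1 := hNE hc
    -- a v a⁻¹ = v * ⁅v,a⁆
    have h1 : a * v * a⁻¹ = v * ⁅v, a⁆ := by
      rw [commutatorElement_def]
      have : a * v * a⁻¹ = v * (v * a * v⁻¹ * a⁻¹) ↔ a * v * a⁻¹ = v * v * a * v⁻¹ * a⁻¹ := by
        constructor <;> intro hh <;> rw [hh] <;> group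
      rw [this]
      have hvv : v * v = 1 := by rw [← pow_two]; exact hexp v hv
      rw [hvv, one_mul, hvinv]
    have hc1 := nl_odd_key (hodd a haA) h1 (hcz _ hc) (hexp _ hcE)
    rw [hc1, mul_one] at h1
    calc v * a = (a * v * a⁻¹) * a := by rw [h1]
      _ = a * v := by group
  refine ⟨hV4, ?_, ?_, ?_, faith⟩
  · -- fix
    rw [eq_bot_iff]
    intro u hu
    rw [Subgroup.mem_bot]
    by_contra hu1
    obtain ⟨huU, huA⟩ := hu
    have hZ : Subgroup.zpowers u ≠ ⊥ := by
      intro hh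
      apply hu1
      have : u ∈ (⊥ : Subgroup G) := hh ▸ Subgroup.mem_zpowers u
      simpa using this
    have hZX : Subgroup.zpowers u ≤ X := by
      rw [Subgroup.zpowers_le]; exact hU.1 huU
    obtain ⟨e, heZ, he1, he2⟩ := nl_exists_involution h.hX hZX hZ
    have heU : e ∈ U := by
      have : Subgroup.zpowers u ≤ U := by rw [Subgroup.zpowers_le]; exact huU
      exact this heZ
    have heE : e ∈ om U 1 := (hmemE e).mpr ⟨heU, he2⟩
    apply KEY e heE he1
    obtain ⟨n, rfl⟩ := Subgroup.mem_zpowers_iff.mp heZ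
    have hua : a * u * a⁻¹ = u := by
      have := Subgroup.mem_centralizer_iff.mp huA a haA
      rw [this]; group
    rw [← conj_zpow, hua]
  · -- min
    intro K hKU hAK hK1
    obtain ⟨e, heK, he1, he2⟩ := nl_exists_involution h.hX (hKU.trans hU.1) hK1
    have heE : e ∈ om U 1 := (hmemE e).mpr ⟨hKU heK, he2⟩
    have he' : a * e * a⁻¹ ∈ K ⊓ om U 1 :=
      ⟨conj_mem_of_mem_normalizer (hAK haA) heK, conj_mem_of_mem_normalizer haNE heE⟩
    have he'1 : a * e * a⁻¹ ≠ 1 := by
      intro h1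
      apply he1
      have : e = a⁻¹ * (a * e * a⁻¹) * a := by group
      rw [this, h1]; group
    have h3 : 3 ≤ Nat.card (K ⊓ om U 1 : Subgroup G) :=
      nl_three_le_card (H := K ⊓ om U 1) ⟨heK, heE⟩ he' he1 he'1 (Ne.symm (KEY e heE he1))
    have hle : K ⊓ om U 1 ≤ om U 1 := inf_le_right
    have hmul := Cfsg.Agent.Lib.Helper8.SmTwo.pt_relIndex_mul_card hle
    rw [hcard4] at hmul
    have hdvd : Nat.card (K ⊓ om U 1 : Subgroup G) ∣ 4 := ⟨_, by rw [← hmul, mul_comm]⟩
    have hle4 : Nat.card (K ⊓ om U 1 : Subgroup G) ≤ 4 := Nat.le_of_dvd (by norm_num) hdvd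
    have h4 : Nat.card (K ⊓ om U 1 : Subgroup G) = 4 := by
      interval_cases hc : Nat.card (K ⊓ om U 1 : Subgroup G) <;> simp_all
    have : K ⊓ om U 1 = om U 1 := Subgroup.eq_of_le_of_card_ge hle (by rw [h4, hcard4])
    rw [← this]
    exact inf_le_left
  · -- cent
    exact v4_le_centralizer (om U 1) X A hV4 h.hX hE.2.1 hE.2.2 h.hAX h.hodd hncE

end Cfsg.Agent.Lib.Helper4.Ngp
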