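import Mathlib
import Cfsg.Prelude
import Cfsg.Agent.Lib.Helper9.OrthMax3
import Cfsg.Agent.Lib.Helper9.OrthPair1

set_option autoImplicit false

/-! Calculus of Eichler elements lying in a subgroup `K` of the isometry group of a quadratic
form: the predicate `EK hQ K u v` says that `eich hQ u v _ _` is defined and lies in `K`. -/

namespace Cfsg.Agent.Lib.Helper7.OmTwo

open Matrix Cfsg.Agent.H9Orth Cfsg.Agent.Lib.Helper2.CDG

variable {F : Type*} [Field F] {ι : Type} [Fintype ι] [DecidableEq ι]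
variable {Q : QuadraticForm F (ι → F)}

/-- the Eichler element `E(u,v)` is defined and lies in `K` -/
def EK (hQ : (QuadraticMap.polarBilin Q).Nondegenerate)
    (K : Subgroup ↥(Cfsg.isometryGroup F ⇑Q)) (u v : ι → F) : Prop :=
  ∃ (hu : Q u = 0) (huv : QuadraticMap.polar (⇑Q) u v = 0), eich hQ u v hu huv ∈ K

variable {hQ : (QuadraticMap.polarBilin Q).Nondegenerate}
  {K : Subgroup ↥(Cfsg.isometryGroup F ⇑Q)}

theorem ek_intro {u v : ι → F} (hu : Q u = 0) (huv : QuadraticMap.polar (⇑Q) u v = 0)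
    (h : eich hQ u v hu huv ∈ K) : EK hQ K u v := ⟨hu, huv, h⟩

theorem ek_mem {u v : ι → F} (h : EK hQ K u v) (hu : Q u = 0)
    (huv : QuadraticMap.polar (⇑Q) u v = 0) : eich hQ u v hu huv ∈ K := by
  obtain ⟨_, _, h⟩ := h
  exact h

theorem ek_sing {u v : ι → F} (h : EK hQ K u v) : Q u = 0 := h.1

theorem ek_perp {u v : ι → F} (h : EK hQ K u v) : QuadraticMap.polar (⇑Q) u v = 0 := h.2.1

theorem ek_congr {u v u' v' : ι → F} (h : EK hQ K u v) (h1 : u = u') (h2 : v = v') :
    EK hQ K u' v' := by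
  subst h1 h2
  exact h

theorem ek_add {u v v' : ι → F} (h : EK hQ K u v) (h' : EK hQ K u v') : EK hQ K u (v + v') := by
  obtain ⟨hu, huv, h1⟩ := h
  obtain ⟨_, huv', h2⟩ := h'
  refine ⟨hu, by rw [QuadraticMap.polar_add_right, huv, huv', add_zero], ?_⟩
  rw [← eich_mul hQ u v v' hu huv huv']
  exact K.mul_mem h1 h2

theorem ek_neg {u v : ι → F} (h : EK hQ K u v) : EK hQ K u (-v) := by
  obtain ⟨hu, huv, h1⟩ := h
  refine ⟨hu, by rw [QuadraticMap.polar_neg_right, huv, neg_zero], ?_⟩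
  rw [← eich_inv hQ u v hu huv]
  exact K.inv_mem h1

theorem ek_sub {u v v' : ι → F} (h : EK hQ K u v) (h' : EK hQ K u v') : EK hQ K u (v - v') := by
  rw [sub_eq_add_neg]
  exact ek_add h (ek_neg h')

/-- `E(u, s u) = 1` -/
theorem eich_self (u : ι → F) (hu : Q u = 0) (s : F) :
    eich hQ u (s • u) hu (by
      rw [QuadraticMap.polar_smul_right, QuadraticMap.polar_self, hu]; simp) = 1 := by
  apply iso_ext
  intro x
  rw [eich_mulVec, one_mulVec', QuadraticMap.map_smul, hu, QuadraticMap.polar_smul_left]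
  simp only [smul_eq_mul, mul_zero, zero_mul, zero_smul, sub_zero]
  module

theorem ek_self (u : ι → F) (hu : Q u = 0) (s : F) : EK hQ K u (s • u) :=
  ⟨hu, _, by rw [eich_self u hu s]; exact K.one_mem⟩

theorem ek_zero (u : ι → F) (hu : Q u = 0) : EK hQ K u 0 := by
  have := ek_self (hQ := hQ) (K := K) u hu 0
  rwa [zero_smul] at this

/-- `E(u, v + s u) = E(u, v)` -/
theorem ek_shift {u v : ι → F} (h : EK hQ K u v) (s : F) : EK hQ K u (v + s • u) :=
  ek_add h (ek_self u h.1 s)

theorem ek_smul_left {u v : ι → F} {c : F} (hc : c ≠ 0) (h : EK hQ K (c • u) v) :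
    EK hQ K u (c • v) := by
  obtain ⟨hcu, hcuv, h1⟩ := h
  have hu : Q u = 0 := by
    rw [QuadraticMap.map_smul, smul_eq_mul] at hcu
    rcases mul_eq_zero.1 hcu with h2 | h2
    · exact absurd (mul_self_eq_zero.1 h2) hc
    · exact h2
  have huv : QuadraticMap.polar (⇑Q) u v = 0 := by
    rw [QuadraticMap.polar_smul_left, smul_eq_mul] at hcuv
    rcases mul_eq_zero.1 hcuv with h2 | h2
    · exact absurd h2 hc
    · exact h2
  refine ⟨hu, by rw [QuadraticMap.polar_smul_right, huv, smul_zero], ?_⟩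
  rw [← eich_smul hQ c u v hu huv]
  exact h1

theorem ek_smul_right {u v : ι → F} (c : F) (h : EK hQ K u (c • v))
    (huv : QuadraticMap.polar (⇑Q) u v = 0) : EK hQ K (c • u) v := by
  obtain ⟨hu, hcuv, h1⟩ := h
  refine ⟨by rw [QuadraticMap.map_smul, hu, smul_zero],
    by rw [QuadraticMap.polar_smul_left, huv, smul_zero], ?_⟩
  rw [eich_smul hQ c u v hu huv]
  exact h1

/-- conjugation by an element of `K` -/
theorem ek_conj {u v : ι → F} (g : ↥(Cfsg.isometryGroup F ⇑Q)) (hg : g ∈ K)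
    (h : EK hQ K u v) :
    EK hQ K (((g : Matrix.GeneralLinearGroup ι F) : Matrix ι ι F) *ᵥ u)
      (((g : Matrix.GeneralLinearGroup ι F) : Matrix ι ι F) *ᵥ v) := by
  obtain ⟨hu, huv, h1⟩ := h
  refine ⟨by rw [iso_Q]; exact hu, by rw [iso_polar]; exact huv, ?_⟩
  rw [← conj_eich hQ g u v hu huv]
  exact K.mul_mem (K.mul_mem hg h1) (K.inv_mem hg)

/-- the commutator rule -/
theorem ek_comm {u v u' v' : ι → F} (h' : EK hQ K u' v') (h : EK hQ K u v)
    (h1 : QuadraticMap.polar (⇑Q) u' u = 0) (h2 : QuadraticMap.polar (⇑Q) v' u = 0) :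
    EK hQ K u (QuadraticMap.polar (⇑Q) u' v • v' - QuadraticMap.polar (⇑Q) v' v • u'
      - (Q v' * QuadraticMap.polar (⇑Q) u' v) • u') := by
  obtain ⟨hu', huv', hg⟩ := h'
  have hc := ek_conj (eich hQ u' v' hu' huv') hg h
  rw [eich_mulVec, eich_mulVec, h1, h2] at hc
  have hc2 := ek_sub (ek_congr hc (by simp) rfl) h
  exact ek_congr hc2 rfl (by module)

/-- symmetry at two singular vectors -/
theorem ek_swap {u v : ι → F} (h : EK hQ K u v) (hv : Q v = 0) : EK hQ K v (-u) := by
  obtain ⟨hu, huv, h1⟩ := h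
  refine ⟨hv, by rw [QuadraticMap.polar_neg_right, QuadraticMap.polar_comm, huv, neg_zero], ?_⟩
  rw [← eich_swap hQ u v hu hv huv]
  exact h1

/-- symmetry at two singular vectors, with a scalar -/
theorem ek_swap_smul {u v : ι → F} {c : F} (h : EK hQ K u (c • v)) (hv : Q v = 0)
    (huv : QuadraticMap.polar (⇑Q) u v = 0) : EK hQ K v (-c • u) := by
  have h1 := ek_smul_right c h huv
  have h2 := ek_swap h1 hv
  have hvu : QuadraticMap.polar (⇑Q) v u = 0 := by rw [QuadraticMap.polar_comm]; exact huv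
  have h3 : EK hQ K v (c • (-u)) := by
    obtain ⟨hv', hp, hm⟩ := h2
    have hu : Q u = 0 := h.1
    refine ⟨hv, by rw [QuadraticMap.polar_smul_right, QuadraticMap.polar_neg_right, hvu]; simp, ?_⟩
    rw [← eich_smul hQ c v (-u) hv (by rw [QuadraticMap.polar_neg_right, hvu, neg_zero])]
    have e : eich hQ (c • v) (-u) (by rw [QuadraticMap.map_smul, hv, smul_zero])
        (by rw [QuadraticMap.polar_smul_left, QuadraticMap.polar_neg_right, hvu]; simp) =
      eich hQ v (-(c • u)) hv' hp := by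
      apply iso_ext
      intro x
      rw [eich_mulVec, eich_mulVec]
      simp only [QuadraticMap.map_neg, QuadraticMap.map_smul, hu, QuadraticMap.polar_smul_left,
        QuadraticMap.polar_neg_left, smul_eq_mul, mul_zero, zero_mul, zero_smul, sub_zero]
      module
    rw [e]
    exact hm
  exact ek_congr h3 rfl (by module)

/-- membership in `K.map subtype` -/
theorem full_of_ek {u : ι → F}
    (h : ∀ v : ι → F, QuadraticMap.polar (⇑Q) u v = 0 → EK hQ K u v) :
    Full hQ (K.map (Cfsg.isometryGroup F ⇑Q).subtype) u := by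
  intro hu v huv
  exact ⟨_, ek_mem (h v huv) hu huv, rfl⟩

end Cfsg.Agent.Lib.Helper7.OmTwo
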