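import Mathlib
import Cfsg.Prelude
import Cfsg.Agent.Lib.Helper7.OmTwoA

set_option autoImplicit false

/-! Frame data and the stages of the root-group chase for the two-generation of `Ω` of a
quadratic space `H^(l+1) ⟂ A` (definitions only). -/

namespace Cfsg.Agent.Lib.Helper7.OmTwo

open Matrix Cfsg.Agent.H9Orth Cfsg.Agent.Lib.Helper2.CDG

variable {F : Type*} [Field F] {ι : Type} [Fintype ι] [DecidableEq ι]
variable {Q : QuadraticForm F (ι → F)}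

/-- frame data: `e k, f k` (`k ≤ l`) are hyperbolic pairs, `z₁ z₂` are orthogonal to them and have
the same norm `N₀ ≠ 0` -/
structure Fr (Q : QuadraticForm F (ι → F)) (l : ℕ) (e f : ℕ → ι → F) (z₁ z₂ : ι → F)
    (N₀ : F) : Prop where
  qe : ∀ i, i ≤ l → Q (e i) = 0
  qf : ∀ i, i ≤ l → Q (f i) = 0
  ef : ∀ i j, i ≤ l → j ≤ l → QuadraticMap.polar (⇑Q) (e i) (f j) = if i = j then 1 else 0
  ee : ∀ i j, i ≤ l → j ≤ l → QuadraticMap.polar (⇑Q) (e i) (e j) = 0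
  ff : ∀ i j, i ≤ l → j ≤ l → QuadraticMap.polar (⇑Q) (f i) (f j) = 0
  ez₁ : ∀ i, i ≤ l → QuadraticMap.polar (⇑Q) (e i) z₁ = 0
  fz₁ : ∀ i, i ≤ l → QuadraticMap.polar (⇑Q) (f i) z₁ = 0
  ez₂ : ∀ i, i ≤ l → QuadraticMap.polar (⇑Q) (e i) z₂ = 0
  fz₂ : ∀ i, i ≤ l → QuadraticMap.polar (⇑Q) (f i) z₂ = 0
  qz₁ : Q z₁ = N₀
  qz₂ : Q z₂ = N₀
  hN : N₀ ≠ 0

/-- the action of the second generator `y` on the frame -/
structure YAct (l : ℕ) (e f : ℕ → ι → F) (z₁ z₂ : ι → F) (N₀ g t : F)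
    (y : ↥(Cfsg.isometryGroup F ⇑Q)) : Prop where
  ye : ∀ k, k < l → ((y : Matrix.GeneralLinearGroup ι F) : Matrix ι ι F) *ᵥ e k = e (k + 1)
  yf : ∀ k, k < l → ((y : Matrix.GeneralLinearGroup ι F) : Matrix ι ι F) *ᵥ f k = f (k + 1)
  yel : ((y : Matrix.GeneralLinearGroup ι F) : Matrix ι ι F) *ᵥ e l = g • f 0
  yfl : ((y : Matrix.GeneralLinearGroup ι F) : Matrix ι ι F) *ᵥ f l =
    g⁻¹ • e 0 + z₁ - (N₀ * g) • f 0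
  yz : ((y : Matrix.GeneralLinearGroup ι F) : Matrix ι ι F) *ᵥ z₁ = z₂ + t • f 0
  hg : g ≠ 0

variable {hQ : (QuadraticMap.polarBilin Q).Nondegenerate}
  {K : Subgroup ↥(Cfsg.isometryGroup F ⇑Q)}
  {l : ℕ} {e f : ℕ → ι → F} {z₁ z₂ : ι → F} {N₀ g t : F} {y : ↥(Cfsg.isometryGroup F ⇑Q)}

/-- stage 0 -/
def Base (hQ : (QuadraticMap.polarBilin Q).Nondegenerate)
    (K : Subgroup ↥(Cfsg.isometryGroup F ⇑Q)) (l : ℕ) (e f : ℕ → ι → F) : Prop :=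
  (∀ k, k < l → EK hQ K (e k) (f (k + 1))) ∧
  (∀ k, 1 ≤ k → k < l → ∀ c : F, EK hQ K (e k) (c • f (k + 1)))

/-- stage 1: the root groups `ε_i - ε_j`, `i < j` -/
def Upper (hQ : (QuadraticMap.polarBilin Q).Nondegenerate)
    (K : Subgroup ↥(Cfsg.isometryGroup F ⇑Q)) (l : ℕ) (e f : ℕ → ι → F) : Prop :=
  (∀ i j, i < j → j ≤ l → EK hQ K (e i) (f j)) ∧
  (∀ i j, i < j → j ≤ l → 2 ≤ j → ∀ c : F, EK hQ K (e i) (c • f j))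

/-- stages 2, 3 -/
def Last (hQ : (QuadraticMap.polarBilin Q).Nondegenerate)
    (K : Subgroup ↥(Cfsg.isometryGroup F ⇑Q)) (l : ℕ) (e f : ℕ → ι → F) (z₁ : ι → F)
    (N₀ g : F) : Prop :=
  (∀ c : F, EK hQ K (e l) (c • (g⁻¹ • e 0 + z₁ - (N₀ * g) • f 0))) ∧
  (∀ j, 0 < j → j < l → ∀ c : F, EK hQ K (e l) (c • f j))

/-- stages 4, 5 -/
def Neg (hQ : (QuadraticMap.polarBilin Q).Nondegenerate)
    (K : Subgroup ↥(Cfsg.isometryGroup F ⇑Q)) (l : ℕ) (e f : ℕ → ι → F) (z₂ : ι → F)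
    (N₀ g : F) : Prop :=
  (∀ c : F, EK hQ K (f 0) (c • (g • z₂ + e 1 - (N₀ * g ^ 2) • f 1))) ∧
  (∀ j, 1 ≤ j → j ≤ l → ∀ c : F, EK hQ K (f 0) (c • f j))

/-- stage 6 -/
def Neg2 (hQ : (QuadraticMap.polarBilin Q).Nondegenerate)
    (K : Subgroup ↥(Cfsg.isometryGroup F ⇑Q)) (l : ℕ) (e f : ℕ → ι → F) (z₂ : ι → F) : Prop :=
  (∀ j, 0 < j → j ≤ l → ∀ c : F, EK hQ K (f 0) (c • e j)) ∧
  (∀ c : F, EK hQ K (f 0) (c • z₂))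

/-- stage 7 -/
def Pos (hQ : (QuadraticMap.polarBilin Q).Nondegenerate)
    (K : Subgroup ↥(Cfsg.isometryGroup F ⇑Q)) (l : ℕ) (e f : ℕ → ι → F) (z₁ z₂ : ι → F) : Prop :=
  (∀ j, 0 < j → j ≤ l → ∀ c : F, EK hQ K (e 0) (c • e j)) ∧
  (∀ c : F, EK hQ K (e 0) (c • z₁)) ∧ (∀ c : F, EK hQ K (e 0) (c • z₂)) ∧
  (∀ c : F, EK hQ K (e 0) (c • f 1))

end Cfsg.Agent.Lib.Helper7.OmTwo
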