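import Mathlib
import Cfsg.Prelude.Def_GeometricClasses
import Cfsg.Agent.Lib.Helper7.SubgDefs

/-! # index-generic copy of `Helper3.Subf_N`: the group `N = F^* · GL(F₀)` -/

set_option autoImplicit false
set_option linter.unusedSectionVars false

namespace Cfsg.Agent.Lib.Helper7.Subg

open Matrix

variable {F : Type*} [Field F] {ι : Type} [Fintype ι] [DecidableEq ι]

/-- a rational matrix comes from a matrix over the subfield -/
theorem ratMat_exists_map {F₀ : Subfield F} {A : Matrix ι ι F} (hA : RatMat F₀ A) :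
    ∃ B : Matrix ι ι F₀, B.map (F₀.subtype : F₀ →+* F) = A :=
  ⟨fun i j => ⟨A i j, hA i j⟩, by ext i j; rfl⟩

theorem ratMat_map (F₀ : Subfield F) (B : Matrix ι ι F₀) :
    RatMat F₀ (B.map (F₀.subtype : F₀ →+* F)) := fun i j => by
  simp only [Matrix.map_apply]
  exact (B i j).2

theorem RatMat.smul {F₀ : Subfield F} {c : F} (hc : c ∈ F₀) {A : Matrix ι ι F}
    (hA : RatMat F₀ A) : RatMat F₀ (c • A) := fun i j => by
  rw [Matrix.smul_apply]
  exact F₀.mul_mem hc (hA i j)

theorem RatMat.det {F₀ : Subfield F} {A : Matrix ι ι F} (hA : RatMat F₀ A) :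
    A.det ∈ F₀ := by
  obtain ⟨B, rfl⟩ := ratMat_exists_map hA
  have h := (F₀.subtype : F₀ →+* F).map_det B
  rw [RingHom.mapMatrix_apply] at h
  rw [← h]
  exact (B.det).2

theorem RatMat.adjugate {F₀ : Subfield F} {A : Matrix ι ι F} (hA : RatMat F₀ A) :
    RatMat F₀ A.adjugate := by
  obtain ⟨B, rfl⟩ := ratMat_exists_map hA
  have h := (F₀.subtype : F₀ →+* F).map_adjugate B
  rw [RingHom.mapMatrix_apply, RingHom.mapMatrix_apply] at h
  rw [← h]
  exact ratMat_map F₀ _

theorem RatMat.inv {F₀ : Subfield F} {A : Matrix ι ι F} (hA : RatMat F₀ A) :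
    RatMat F₀ A⁻¹ := by
  rw [Matrix.inv_def]
  apply RatMat.smul _ hA.adjugate
  rw [Ring.inverse_eq_inv']
  exact F₀.inv_mem hA.det

theorem InN.mul {F₀ : Subfield F} {A B : Matrix ι ι F} (hA : InN F₀ A) (hB : InN F₀ B) :
    InN F₀ (A * B) := by
  obtain ⟨c, hc, hcA⟩ := hA
  obtain ⟨d, hd, hdB⟩ := hB
  refine ⟨c * d, mul_ne_zero hc hd, ?_⟩
  have e : (c * d) • (A * B) = (c • A) * (d • B) := by
    rw [smul_mul_smul_comm]
  rw [e]
  exact hcA.mul hdB

theorem InN.one (F₀ : Subfield F) : InN F₀ (1 : Matrix ι ι F) :=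
  ⟨1, one_ne_zero, by rw [one_smul]; exact RatMat.one F₀⟩

theorem inN_inv (F₀ : Subfield F) (g : GL ι F) (h : InN F₀ (g : Matrix ι ι F)) :
    InN F₀ ((g⁻¹ : GL ι F) : Matrix ι ι F) := by
  obtain ⟨c, hc, hcA⟩ := h
  refine ⟨c⁻¹, inv_ne_zero hc, ?_⟩
  have h1 : (g : Matrix ι ι F) * ((g⁻¹ : GL ι F) : Matrix ι ι F) = 1 := by
    rw [← Units.val_mul, mul_inv_cancel, Units.val_one]
  have h2 : (c • (g : Matrix ι ι F)) *
      (c⁻¹ • ((g⁻¹ : GL ι F) : Matrix ι ι F)) = 1 := by
    rw [smul_mul_smul_comm, h1, mul_inv_cancel₀ hc, one_smul]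
  rw [← Matrix.inv_eq_right_inv h2]
  exact hcA.inv

/-- the elements of `GL_n(F)` whose matrix is in `N`, as a subgroup -/
def nnSubgroup (F₀ : Subfield F) : Subgroup (GL ι F) where
  carrier := {g | InN F₀ (g : Matrix ι ι F)}
  mul_mem' := fun {a b} ha hb => by
    show InN F₀ ((a * b : GL ι F) : Matrix ι ι F)
    rw [Units.val_mul]
    exact InN.mul ha hb
  one_mem' := by
    show InN F₀ ((1 : GL ι F) : Matrix ι ι F)
    rw [Units.val_one]
    exact InN.one F₀
  inv_mem' := fun {a} ha => inN_inv F₀ a ha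

theorem mem_nnSubgroup (F₀ : Subfield F) (g : GL ι F) :
    g ∈ nnSubgroup (ι := ι) F₀ ↔ InN F₀ (g : Matrix ι ι F) := Iff.rfl

theorem inN_iff_mem (F₀ : Subfield F) (g : GL ι F) :
    InN F₀ (g : Matrix ι ι F) ↔
      g ∈ (Matrix.GeneralLinearGroup.map (F₀.subtype : F₀ →+* F)).range ⊔ Cfsg.Geo.scalars ι F := by
  constructor
  · rintro ⟨c, hc, hcA⟩
    obtain ⟨B, hB⟩ := ratMat_exists_map hcA
    -- `B` is invertible
    have hdet : (c • (g : Matrix ι ι F)).det ≠ 0 := by
      rw [Matrix.det_smul]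
      apply mul_ne_zero (pow_ne_zero _ hc)
      have := g.isUnit.map (Matrix.detMonoidHom (n := ι) (R := F))
      have hu : IsUnit (g : Matrix ι ι F).det := by
        simpa using (Matrix.isUnit_iff_isUnit_det _).mp g.isUnit
      exact hu.ne_zero
    have hBdet : B.det ≠ 0 := by
      intro h0
      apply hdet
      rw [← hB]
      have h := (F₀.subtype : F₀ →+* F).map_det B
      rw [RingHom.mapMatrix_apply] at h
      rw [← h, h0, map_zero]
    let b : GL ι F₀ := Matrix.GeneralLinearGroup.mkOfDetNeZero B hBdet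
    have hb : ((Matrix.GeneralLinearGroup.map (F₀.subtype : F₀ →+* F) b : GL ι F) :
        Matrix ι ι F) = c • (g : Matrix ι ι F) := by
      rw [← hB]
      ext i j
      simp [b, Matrix.GeneralLinearGroup.mkOfDetNeZero]
    -- the scalar `c⁻¹`
    let s : GL ι F := Units.map (Matrix.scalar ι : F →+* Matrix ι ι F).toMonoidHom
      (Units.mk0 c⁻¹ (inv_ne_zero hc))
    have hs : (s : Matrix ι ι F) = c⁻¹ • (1 : Matrix ι ι F) := by
      simp [s, Matrix.smul_one_eq_diagonal]
    have hg : g = Matrix.GeneralLinearGroup.map (F₀.subtype : F₀ →+* F) b * s := by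
      apply Units.ext
      rw [Units.val_mul, hb, hs, smul_mul_smul_comm, mul_one, mul_inv_cancel₀ hc, one_smul]
    rw [hg]
    exact Subgroup.mul_mem_sup (MonoidHom.mem_range.mpr ⟨b, rfl⟩) (MonoidHom.mem_range.mpr ⟨_, rfl⟩)
  · intro hg
    have hle : (Matrix.GeneralLinearGroup.map (F₀.subtype : F₀ →+* F)).range ⊔
        Cfsg.Geo.scalars ι F ≤ nnSubgroup (ι := ι) F₀ := by
      apply sup_le
      · rintro _ ⟨b, rfl⟩
        refine ⟨1, one_ne_zero, ?_⟩
        rw [one_smul]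
        intro i j
        rw [Matrix.GeneralLinearGroup.map_apply]
        exact (b i j).2
      · intro x hx
        obtain ⟨c, hc⟩ := (Cfsg.Geo.mem_scalars_iff x).mp hx
        refine ⟨(c : F)⁻¹, inv_ne_zero c.ne_zero, ?_⟩
        rw [hc, smul_smul, inv_mul_cancel₀ c.ne_zero, one_smul]
        exact RatMat.one F₀
    exact hle hg

end Cfsg.Agent.Lib.Helper7.Subg
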