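import Mathlib
import Cfsg.Prelude
import Cfsg.Agent.Lib.Helper7.Subg_N
import Cfsg.Agent.Lib.Helper6.OmMin_E
import Cfsg.Agent.Lib.Helper6.OmMin_M

set_option autoImplicit false
set_option linter.unusedSectionVars false

/-! Subfield subgroups of orthogonal groups (S5683 / S5702): definitions and basic calculus.

Setting: `Q` a quadratic form on `ι → F` with non-degenerate polar form, RATIONAL over the subfield `F₀`
(`Q v ∈ F₀` for rational `v`); `M` a subgroup of the isometry group containing the rational Eichler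
elements.  `eich hQ u y` is helper2's proof-free Eichler element (`= 1` unless `Q u = 0 ∧ B u y = 0`). -/

namespace Cfsg.Agent.Lib.Helper7.OSub

open Matrix Cfsg.Agent.Lib.Helper7.Subg Cfsg.Agent.Lib.Helper2.LongRoot Cfsg.Agent.Lib.Helper2.OmMin
  Cfsg.Agent.Lib.Helper2.CDG

variable {F : Type*} [Field F] {ι : Type} [Fintype ι] [DecidableEq ι]
variable {Q : QuadraticForm F (ι → F)}

/-- the matrix of an isometry -/
abbrev mat (g : ↥(Cfsg.isometryGroup F ⇑Q)) : Matrix ι ι F :=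
  ((g : Matrix.GeneralLinearGroup ι F) : Matrix ι ι F)

theorem mat_mul (g h : ↥(Cfsg.isometryGroup F ⇑Q)) : mat (g * h) = mat g * mat h := rfl

theorem mat_one : mat (1 : ↥(Cfsg.isometryGroup F ⇑Q)) = 1 := rfl

theorem mat_mul_inv (g : ↥(Cfsg.isometryGroup F ⇑Q)) : mat g * mat g⁻¹ = 1 := by
  rw [← mat_mul, mul_inv_cancel, mat_one]

theorem mat_inv_mul (g : ↥(Cfsg.isometryGroup F ⇑Q)) : mat g⁻¹ * mat g = 1 := by
  rw [← mat_mul, inv_mul_cancel, mat_one]

theorem mat_inv_mulVec (g : ↥(Cfsg.isometryGroup F ⇑Q)) (x : ι → F) :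
    mat g⁻¹ *ᵥ (mat g *ᵥ x) = x := by
  rw [Matrix.mulVec_mulVec, mat_inv_mul, Matrix.one_mulVec]

theorem mat_mulVec_inv (g : ↥(Cfsg.isometryGroup F ⇑Q)) (x : ι → F) :
    mat g *ᵥ (mat g⁻¹ *ᵥ x) = x := by
  rw [Matrix.mulVec_mulVec, mat_mul_inv, Matrix.one_mulVec]

/-- `A` is the matrix of an element of `M` -/
def MmO (M : Subgroup ↥(Cfsg.isometryGroup F ⇑Q)) (A : Matrix ι ι F) : Prop :=
  ∃ g ∈ M, mat g = A

/-! ## definitions -/

/-- a totally singular pair: singular, orthogonal, independent -/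
def TSP (Q : QuadraticForm F (ι → F)) (u w : ι → F) : Prop :=
  Q u = 0 ∧ Q w = 0 ∧ QuadraticMap.polar (⇑Q) u w = 0 ∧
    ∀ s t : F, s • u + t • w = 0 → s = 0 ∧ t = 0

/-- a rational totally singular pair -/
def RTSP (F₀ : Subfield F) (Q : QuadraticForm F (ι → F)) (u w : ι → F) : Prop :=
  Rat F₀ u ∧ Rat F₀ w ∧ TSP Q u w

/-- the form is rational: it takes values in `F₀` on rational vectors -/
def RatQ (F₀ : Subfield F) (Q : QuadraticForm F (ι → F)) : Prop :=
  ∀ v : ι → F, Rat F₀ v → Q v ∈ F₀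

/-- `M` contains the rational Eichler elements -/
def HasRatE (hQ : (QuadraticMap.polarBilin Q).Nondegenerate) (F₀ : Subfield F)
    (M : Subgroup ↥(Cfsg.isometryGroup F ⇑Q)) : Prop :=
  ∀ u y : ι → F, Rat F₀ u → Rat F₀ y → eich hQ u y ∈ M

/-- the coefficient set of the long root groups of `M` at rational totally singular pairs -/
def AL (hQ : (QuadraticMap.polarBilin Q).Nondegenerate) (F₀ : Subfield F)
    (M : Subgroup ↥(Cfsg.isometryGroup F ⇑Q)) : Set F :=
  {a | ∀ u w : ι → F, RTSP F₀ Q u w → eich hQ u (a • w) ∈ M}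

/-- (SS) the long root groups of `M` at rational totally singular pairs are rational -/
def SS (hQ : (QuadraticMap.polarBilin Q).Nondegenerate) (F₀ : Subfield F)
    (M : Subgroup ↥(Cfsg.isometryGroup F ⇑Q)) : Prop :=
  ∀ (u w : ι → F) (a : F), RTSP F₀ Q u w → eich hQ u (a • w) ∈ M → a ∈ F₀

/-- (KO) an Eichler element `E(u,y)` of `M` at a rational singular `u` has `y` rational modulo `u` -/
def KO (hQ : (QuadraticMap.polarBilin Q).Nondegenerate) (F₀ : Subfield F)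
    (M : Subgroup ↥(Cfsg.isometryGroup F ⇑Q)) : Prop :=
  ∀ u y : ι → F, Rat F₀ u → u ≠ 0 → Q u = 0 → QuadraticMap.polar (⇑Q) u y = 0 →
    eich hQ u y ∈ M → ∃ c : F, Rat F₀ (y + c • u)

/-- `x` and `y` lie in the span of two rational vectors -/
def RatLine (F₀ : Subfield F) (x y : ι → F) : Prop :=
  ∃ (r₁ r₂ : ι → F) (a b c d : F), Rat F₀ r₁ ∧ Rat F₀ r₂ ∧ x = a • r₁ + b • r₂ ∧ y = c • r₁ + d • r₂

/-- (RLO) a long root element `E(x,y)` of `M` whose line is orthogonal to a non-zero rational singular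
vector has a rational line -/
def RLO (hQ : (QuadraticMap.polarBilin Q).Nondegenerate) (F₀ : Subfield F)
    (M : Subgroup ↥(Cfsg.isometryGroup F ⇑Q)) : Prop :=
  ∀ x y u : ι → F, TSP Q x y → Rat F₀ u → u ≠ 0 → Q u = 0 →
    QuadraticMap.polar (⇑Q) u x = 0 → QuadraticMap.polar (⇑Q) u y = 0 →
    eich hQ x y ∈ M → RatLine F₀ x y

/-- `g` maps every rational totally singular line to a rational line -/
def LinesRat (F₀ : Subfield F) (Q : QuadraticForm F (ι → F)) (A : Matrix ι ι F) : Prop :=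
  ∀ u w : ι → F, RTSP F₀ Q u w → RatLine F₀ (A *ᵥ u) (A *ᵥ w)

/-- (NKO) an element of `M` mapping some rational totally singular line into the perp of a non-zero
rational singular vector lies in `N` -/
def NKO (F₀ : Subfield F) (M : Subgroup ↥(Cfsg.isometryGroup F ⇑Q)) : Prop :=
  ∀ g ∈ M, ∀ u w x₀ : ι → F, RTSP F₀ Q u w → Rat F₀ x₀ → x₀ ≠ 0 → Q x₀ = 0 →
    QuadraticMap.polar (⇑Q) x₀ (mat g *ᵥ u) = 0 → QuadraticMap.polar (⇑Q) x₀ (mat g *ᵥ w) = 0 →
    InN F₀ (mat g)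

/-! ## basic calculus -/

theorem MmO.one (M : Subgroup ↥(Cfsg.isometryGroup F ⇑Q)) : MmO M 1 := ⟨1, M.one_mem, rfl⟩

theorem MmO.mul {M : Subgroup ↥(Cfsg.isometryGroup F ⇑Q)} {A B : Matrix ι ι F} (hA : MmO M A)
    (hB : MmO M B) : MmO M (A * B) := by
  obtain ⟨g, hg, rfl⟩ := hA
  obtain ⟨h, hh, rfl⟩ := hB
  exact ⟨g * h, M.mul_mem hg hh, rfl⟩

theorem MmO.of_mem {M : Subgroup ↥(Cfsg.isometryGroup F ⇑Q)} {g : ↥(Cfsg.isometryGroup F ⇑Q)}
    (hg : g ∈ M) : MmO M (mat g) := ⟨g, hg, rfl⟩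

theorem MmO.mem {M : Subgroup ↥(Cfsg.isometryGroup F ⇑Q)} {g : ↥(Cfsg.isometryGroup F ⇑Q)}
    (h : MmO M (mat g)) : g ∈ M := by
  obtain ⟨g', hg', e⟩ := h
  have : g' = g := Subtype.ext (Units.ext e)
  rw [← this]
  exact hg'

theorem rat_polar {F₀ : Subfield F} (hR : RatQ F₀ Q) {u v : ι → F} (hu : Rat F₀ u)
    (hv : Rat F₀ v) : QuadraticMap.polar (⇑Q) u v ∈ F₀ := by
  unfold QuadraticMap.polar
  exact F₀.sub_mem (F₀.sub_mem (hR _ (hu.add hv)) (hR _ hu)) (hR _ hv)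

theorem TSP.symm {u w : ι → F} (h : TSP Q u w) : TSP Q w u := by
  obtain ⟨hu, hw, huw, hind⟩ := h
  refine ⟨hw, hu, by rw [QuadraticMap.polar_comm]; exact huw, fun s t hst => ?_⟩
  have := hind t s (by rw [add_comm]; exact hst)
  exact ⟨this.2, this.1⟩

theorem RTSP.symm {F₀ : Subfield F} {u w : ι → F} (h : RTSP F₀ Q u w) : RTSP F₀ Q w u :=
  ⟨h.2.1, h.1, h.2.2.symm⟩

theorem TSP.ne_zero_left {u w : ι → F} (h : TSP Q u w) : u ≠ 0 := by
  rintro rfl
  have := h.2.2.2 1 0 (by simp)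
  exact one_ne_zero this.1

theorem TSP.ne_zero_right {u w : ι → F} (h : TSP Q u w) : w ≠ 0 := h.symm.ne_zero_left

/-- the image of a totally singular pair under an isometry -/
theorem TSP.map {u w : ι → F} (h : TSP Q u w) (g : ↥(Cfsg.isometryGroup F ⇑Q)) :
    TSP Q (mat g *ᵥ u) (mat g *ᵥ w) := by
  obtain ⟨hu, hw, huw, hind⟩ := h
  refine ⟨by rw [iso_Q]; exact hu, by rw [iso_Q]; exact hw, by rw [iso_polar]; exact huw,
    fun s t hst => ?_⟩
  apply hind
  have := congrArg (fun x => mat g⁻¹ *ᵥ x) hst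
  simp only [Matrix.mulVec_add, Matrix.mulVec_smul, mat_inv_mulVec, Matrix.mulVec_zero] at this
  exact this

/-- the Eichler element at a rational pair is a rational matrix -/
theorem ratMat_eich (hQ : (QuadraticMap.polarBilin Q).Nondegenerate) {F₀ : Subfield F}
    (hR : RatQ F₀ Q) {u y : ι → F} (hu : Rat F₀ u) (hy : Rat F₀ y) :
    RatMat F₀ (mat (eich hQ u y)) := by
  by_cases h : Q u = 0 ∧ QuadraticMap.polar (⇑Q) u y = 0
  · intro i j
    have e : mat (eich hQ u y) i j = (mat (eich hQ u y) *ᵥ Pi.single j 1) i := by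
      rw [Matrix.mulVec_single_one]; rfl
    rw [e, eich_mulVec hQ h.1 h.2]
    have hs : Rat F₀ (Pi.single j (1 : F) : ι → F) := Rat.single F₀ j F₀.one_mem
    have h1 := rat_polar hR hu hs
    have h2 := rat_polar hR hy hs
    have h3 := hR y hy
    simp only [Pi.add_apply, Pi.sub_apply, Pi.smul_apply, smul_eq_mul]
    exact F₀.sub_mem (F₀.sub_mem (F₀.add_mem (hs i) (F₀.mul_mem h1 (hy i)))
      (F₀.mul_mem h2 (hu i))) (F₀.mul_mem (F₀.mul_mem h3 h1) (hu i))
  · rw [eich_of_not hQ u y h]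
    exact RatMat.one F₀

/-- conjugating an Eichler element -/
theorem eich_conj' (hQ : (QuadraticMap.polarBilin Q).Nondegenerate)
    (g : ↥(Cfsg.isometryGroup F ⇑Q)) (u y : ι → F) :
    g * eich hQ u y * g⁻¹ = eich hQ (mat g *ᵥ u) (mat g *ᵥ y) := eich_conj hQ g u y

end Cfsg.Agent.Lib.Helper7.OSub
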