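import Mathlib
import Cfsg.Agent.Lib.Helper3.Ru2Defs

/-!
# S3174 / S3175 swarm, package AUT13: automorphisms of odd order of a 2-group acting trivially on
the factors of a series are trivial; application to `Phi W = Z_3(T)`.
-/

set_option autoImplicit false

namespace Cfsg.Agent.Lib.Helper3.Ru2

open scoped commutatorElement

variable {T : Type*} [Group T] {W : Subgroup T}

/-- iterating an automorphism with `α s = n s`, `α n = n` -/
theorem aut13_pow_apply (α : MulAut T) {n s : T} (hn : α n = n) (hs : α s = n * s) (k : ℕ) :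
    (α ^ k) s = n ^ k * s := by
  induction k with
  | zero => simp
  | succ k ih =>
    rw [pow_succ', MulAut.mul_apply, ih, map_mul, map_pow, hn, hs, pow_succ, mul_assoc]

/-- AUT3 (general): an automorphism of odd order of a 2-group which is trivial on `N` and maps
every `s ∈ S` into `s N` is trivial on `S` -/
theorem aut_fix_of_series [Finite T] (hT : IsPGroup 2 T) (α : MulAut T) (hodd : Odd (orderOf α))
    (N S : Subgroup T) (hN : ∀ n ∈ N, α n = n) (hS : ∀ s ∈ S, α s * s⁻¹ ∈ N) :
    ∀ s ∈ S, α s = s := by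
  intro s hs
  set n : T := α s * s⁻¹ with hn
  have hnN : n ∈ N := hS s hs
  have h1 : α n = n := hN n hnN
  have h2 : α s = n * s := by rw [hn]; group
  have h3 := aut13_pow_apply α h1 h2 (orderOf α)
  rw [pow_orderOf_eq_one, MulAut.one_apply] at h3
  have h4 : n ^ orderOf α = 1 := by
    have : n ^ orderOf α * s = 1 * s := by rw [← h3, one_mul]
    exact mul_right_cancel this
  obtain ⟨m, hm⟩ := hT n
  have d1 : orderOf n ∣ orderOf α := orderOf_dvd_of_pow_eq_one h4
  have d2 : orderOf n ∣ 2 ^ m := orderOf_dvd_of_pow_eq_one hm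
  have hcop : Nat.Coprime (orderOf α) (2 ^ m) :=
    Nat.Coprime.pow_right m (Nat.Coprime.symm (Nat.coprime_two_left.mpr hodd))
  have h5 : orderOf n = 1 := (hcop.coprime_dvd_left d1).eq_one_of_dvd d2
  have h6 : n = 1 := orderOf_eq_one_iff.mp h5
  rw [h2, h6, one_mul]

/-- one step up a characteristic series with factor of order two -/
theorem aut13_step [Finite T] (hT : IsPGroup 2 T) (α : MulAut T) (hodd : Odd (orderOf α))
    (N S : Subgroup T) (hNα : ∀ x, α x ∈ N ↔ x ∈ N) (hSα : ∀ x, α x ∈ S ↔ x ∈ S) (hNS : N ≤ S)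
    (hcard : Nat.card ↥S = 2 * Nat.card ↥N) (hN : ∀ n ∈ N, α n = n) :
    ∀ s ∈ S, α s = s := by
  refine aut_fix_of_series hT α hodd N S hN ?_
  intro s hs
  have hidx : (N.subgroupOf S).index = 2 := by
    have e1 := Subgroup.card_mul_index (N.subgroupOf S)
    have e2 : Nat.card ↥(N.subgroupOf S) = Nat.card ↥N :=
      Nat.card_congr (Subgroup.subgroupOfEquivOfLe hNS).toEquiv
    rw [e2, hcard] at e1
    have hpos : 0 < Nat.card ↥N := Nat.card_pos
    have : Nat.card ↥N * (N.subgroupOf S).index = Nat.card ↥N * 2 := by rw [e1]; ring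
    exact Nat.eq_of_mul_eq_mul_left hpos this
  have hαs : α s ∈ S := (hSα s).mpr hs
  have key := Subgroup.mul_mem_iff_of_index_two hidx (a := (⟨α s, hαs⟩ : ↥S))
    (b := (⟨s, hs⟩ : ↥S)⁻¹)
  have hiff : ((⟨α s, hαs⟩ : ↥S) ∈ N.subgroupOf S ↔ (⟨s, hs⟩ : ↥S)⁻¹ ∈ N.subgroupOf S) := by
    rw [Subgroup.inv_mem_iff]
    simp only [Subgroup.mem_subgroupOf]
    exact hNα s
  have := key.mpr hiff
  simpa [Subgroup.mem_subgroupOf] using this

theorem aut13_char (α : MulAut T) (H : Subgroup T) [hH : H.Characteristic] (x : T) :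
    α x ∈ H ↔ x ∈ H := by
  have := hH.fixed α
  constructor
  · intro h
    rw [← this]
    exact h
  · intro h
    rw [← this] at h
    exact h

/-- AUT1: an automorphism of odd order is trivial on `Phi W = Z_3` -/
theorem aut_fix_phi (F : Full W) (α : MulAut T) (hodd : Odd (orderOf α)) :
    ∀ f ∈ Phi W, α f = f := by
  have hfin : Finite T := F.hyp.finite
  have hT := F.hyp.pgroup
  have hc := F.str.card_ucs
  have h0 : ∀ s ∈ Subgroup.upperCentralSeries T 0, α s = s := by
    intro s hs
    rw [Subgroup.upperCentralSeries_zero, Subgroup.mem_bot] at hs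
    rw [hs, map_one]
  have hstep : ∀ i : ℕ, i + 1 ≤ 4 → (∀ s ∈ Subgroup.upperCentralSeries T i, α s = s) →
      ∀ s ∈ Subgroup.upperCentralSeries T (i + 1), α s = s := by
    intro i hi hprev
    refine aut13_step hT α hodd (Subgroup.upperCentralSeries T i)
      (Subgroup.upperCentralSeries T (i + 1)) (aut13_char α _) (aut13_char α _)
      (Subgroup.upperCentralSeries_mono T (Nat.le_succ i)) ?_ hprev
    rw [hc (i + 1) hi, hc i (by omega), pow_succ]
    ring
  have h1 := hstep 0 (by norm_num) h0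
  have h2 := hstep 1 (by norm_num) h1
  have h3 := hstep 2 (by norm_num) h2
  intro f hf
  rw [F.str.phi_eq] at hf
  exact h3 f hf

end Cfsg.Agent.Lib.Helper3.Ru2
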