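import Mathlib
import Cfsg.Agent.Lib.Helper3.Ru2Defs

/-!
# S3174 / S3175 swarm, package AUT2: an automorphism of odd order of `T`, trivial on `Phi W`,
is trivial on `W / Phi W`.
-/

set_option autoImplicit false

namespace Cfsg.Agent.Lib.Helper3.Ru2

open scoped commutatorElement

variable {T : Type*} [Group T] {W : Subgroup T}

/-- an automorphism fixing `Z` pointwise maps `C_T(Z)` into itself -/
theorem aut2_mapW (α : MulAut T) (Z : Subgroup T) (hW : W = Subgroup.centralizer (Z : Set T))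
    (hfix : ∀ f ∈ Z, α f = f) : ∀ w ∈ W, α w ∈ W := by
  intro w hw
  rw [hW, Subgroup.mem_centralizer_iff] at hw ⊢
  intro f hf
  have := hw f hf
  calc f * α w = α f * α w := by rw [hfix f hf]
    _ = α (f * w) := (map_mul α f w).symm
    _ = α (w * f) := by rw [this]
    _ = α w * α f := map_mul α w f
    _ = α w * f := by rw [hfix f hf]

/-- an automorphism fixing a normal subgroup `Z` pointwise is trivial modulo `C_T(Z)` -/
theorem aut2_modW (α : MulAut T) (Z : Subgroup T) (hZ : Z.Normal) (hWn : W.Normal)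
    (hW : W = Subgroup.centralizer (Z : Set T))
    (hfix : ∀ f ∈ Z, α f = f) : ∀ t : T, α t * t⁻¹ ∈ W := by
  intro t
  have h1 : t⁻¹ * α t ∈ W := by
    rw [hW, Subgroup.mem_centralizer_iff]
    intro f hf
    have hf' : t * f * t⁻¹ ∈ Z := hZ.conj_mem f hf t
    have h2 : α t * f * (α t)⁻¹ = t * f * t⁻¹ := by
      have := hfix _ hf'
      rw [map_mul, map_mul, map_inv, hfix f hf] at this
      exact this
    calc f * (t⁻¹ * α t) = t⁻¹ * (t * f * t⁻¹) * α t := by group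
      _ = t⁻¹ * (α t * f * (α t)⁻¹) * α t := by rw [h2]
      _ = t⁻¹ * α t * f := by group
  have h3 := hWn.conj_mem _ h1 t
  have e : t * (t⁻¹ * α t) * t⁻¹ = α t * t⁻¹ := by group
  rw [e] at h3
  exact h3

/-- The core of AUT2, with all the facts about `W`, `Phi W`, `Z_4` as hypotheses. -/
theorem aut2_core (α : MulAut T) (hodd : Odd (orderOf α)) (W P X : Subgroup T)
    (hWn : W.Normal) (hPn : P.Normal) (hPW : P ≤ W)
    (hcomm : ∀ a ∈ W, ∀ b ∈ W, ⁅a, b⁆ ∈ P)
    (hsq : ∀ a ∈ W, a ^ 2 ∈ P)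
    (hfix : ∀ f ∈ P, α f = f)
    (hmapW : ∀ w ∈ W, α w ∈ W)
    (hmodW : ∀ t : T, α t * t⁻¹ ∈ W)
    (hXW : X ≤ W)
    (hXα : ∀ x ∈ X, α x * x⁻¹ ∈ P)
    (hlift : ∀ D : Subgroup T, D.Normal → P < D → D ≤ W → X ≤ D) (hXP : ¬ X ≤ P) :
    ∀ w ∈ W, α w * w⁻¹ ∈ P := by
  classical
  have := hPn
  -- the quotient map
  set π : T →* T ⧸ P := QuotientGroup.mk' P with hπ
  have hker : ∀ t : T, π t = 1 ↔ t ∈ P := fun t => QuotientGroup.eq_one_iff t
  have hπcomm : ∀ a ∈ W, ∀ b ∈ W, π a * π b = π b * π a := by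
    intro a ha b hb
    have h1 : π ⁅a, b⁆ = 1 := (hker _).mpr (hcomm a ha b hb)
    rw [map_commutatorElement] at h1
    exact commutatorElement_eq_one_iff_mul_comm.mp h1
  -- `π ∘ α` factors through `π`
  have hπα : ∀ y y' : T, π y = π y' → π (α y) = π (α y') := by
    intro y y' h
    have h1 : y⁻¹ * y' ∈ P := QuotientGroup.eq.mp h
    have h2 : α (y⁻¹ * y') = y⁻¹ * y' := hfix _ h1
    have h3 : (α y)⁻¹ * α y' ∈ P := by
      have : (α y)⁻¹ * α y' = y⁻¹ * y' := by rw [← h2, map_mul, map_inv]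
      rw [this]; exact h1
    exact QuotientGroup.eq.mpr h3
  -- `δ w = π (α w w⁻¹)` is multiplicative on `W`
  have hδmul : ∀ a ∈ W, ∀ b ∈ W,
      π (α (a * b) * (a * b)⁻¹) = π (α a * a⁻¹) * π (α b * b⁻¹) := by
    intro a ha b hb
    have hc := hπcomm (α b * b⁻¹) (W.mul_mem (hmapW b hb) (W.inv_mem hb)) a⁻¹ (W.inv_mem ha)
    have e : α (a * b) * (a * b)⁻¹ = α a * ((α b * b⁻¹) * a⁻¹) := by
      rw [map_mul]; group
    rw [e, map_mul, map_mul (f := π) (α b * b⁻¹) a⁻¹, hc, ← mul_assoc, ← map_mul]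
  -- `δ` is compatible with conjugation
  have hδconj : ∀ t : T, ∀ w ∈ W,
      π (α (t * w * t⁻¹) * (t * w * t⁻¹)⁻¹) = π t * π (α w * w⁻¹) * (π t)⁻¹ := by
    intro t w hw
    set g := α t * t⁻¹ with hg
    have hgW : g ∈ W := hmodW t
    have hαt : α t = g * t := by rw [hg]; group
    have e : α (t * w * t⁻¹) * (t * w * t⁻¹)⁻¹ =
        g * (t * α w * t⁻¹) * g⁻¹ * (t * w⁻¹ * t⁻¹) := by
      rw [map_mul, map_mul, map_inv, hαt]; group
    have hy : t * α w * t⁻¹ ∈ W := hWn.conj_mem _ (hmapW w hw) t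
    have hc := hπcomm g hgW (t * α w * t⁻¹) hy
    have e2 : π (g * (t * α w * t⁻¹) * g⁻¹) = π (t * α w * t⁻¹) := by
      rw [map_mul, map_mul, hc, mul_assoc, ← map_mul, mul_inv_cancel, map_one, mul_one]
    rw [e, map_mul, e2, ← map_mul, ← map_inv, ← map_mul, ← map_mul]
    congr 1
    group
  -- the image of `δ`
  let I : Subgroup (T ⧸ P) :=
    { carrier := {q | ∃ w ∈ W, q = π (α w * w⁻¹)}
      one_mem' := ⟨1, W.one_mem, by simp⟩
      mul_mem' := by
        rintro _ _ ⟨a, ha, rfl⟩ ⟨b, hb, rfl⟩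
        exact ⟨a * b, W.mul_mem ha hb, (hδmul a ha b hb).symm⟩
      inv_mem' := by
        rintro _ ⟨a, ha, rfl⟩
        refine ⟨a⁻¹, W.inv_mem ha, ?_⟩
        have h1 := hδmul a ha a⁻¹ (W.inv_mem ha)
        simp only [mul_inv_cancel, map_one, inv_one, mul_one] at h1
        exact inv_eq_of_mul_eq_one_right h1.symm }
  have hIn : I.Normal := by
    refine ⟨fun q hq r => ?_⟩
    obtain ⟨w, hw, rfl⟩ := hq
    obtain ⟨t, rfl⟩ := QuotientGroup.mk'_surjective P r
    exact ⟨t * w * t⁻¹, hWn.conj_mem w hw t, (hδconj t w hw).symm⟩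
  set D : Subgroup T := I.comap π with hD
  have hDn : D.Normal := hIn.comap π
  have hPD : P ≤ D := by
    intro p hp
    show π p ∈ I
    rw [(hker p).mpr hp]; exact I.one_mem
  have hDW : D ≤ W := by
    intro d hd
    obtain ⟨w, hw, h⟩ := (hd : π d ∈ I)
    have h1 : (α w * w⁻¹)⁻¹ * d ∈ P := QuotientGroup.eq.mp h.symm
    have h2 : α w * w⁻¹ ∈ W := W.mul_mem (hmapW w hw) (W.inv_mem hw)
    have : d = (α w * w⁻¹) * ((α w * w⁻¹)⁻¹ * d) := by group
    rw [this]; exact W.mul_mem h2 (hPW h1)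
  by_contra hne
  push Not at hne
  obtain ⟨w1, hw1, hw1P⟩ := hne
  have hlt : P < D := by
    refine lt_of_le_of_ne hPD ?_
    intro heq
    apply hw1P
    rw [heq]
    show π (α w1 * w1⁻¹) ∈ I
    exact ⟨w1, hw1, rfl⟩
  have hXD := hlift D hDn hlt hDW
  obtain ⟨x, hxX, hxP⟩ := SetLike.not_le_iff_exists.mp hXP
  obtain ⟨w0, hw0, hx0⟩ := (hXD hxX : π x ∈ I)
  have hαw0 : π (α w0) = π x * π w0 := by
    rw [hx0, map_mul, map_inv, inv_mul_cancel_right]
  have hαx : π (α x) = π x := by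
    have h := (hker _).mpr (hXα x hxX)
    rw [map_mul, map_inv, mul_inv_eq_one] at h
    exact h
  have hiter : ∀ j : ℕ, π ((α ^ j) w0) = π x ^ j * π w0 := by
    intro j
    induction j with
    | zero => simp
    | succ j ih =>
      rw [pow_succ', MulAut.mul_apply]
      have h1 : π ((α ^ j) w0) = π (x ^ j * w0) := by rw [ih, map_mul, map_pow]
      rw [hπα _ _ h1, map_mul, map_pow, map_mul, map_pow, hαx, hαw0, pow_succ, mul_assoc]
  have hk := hiter (orderOf α)
  rw [pow_orderOf_eq_one, MulAut.one_apply] at hk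
  have hxk : π x ^ orderOf α = 1 := by
    have : π x ^ orderOf α * π w0 = 1 * π w0 := by rw [← hk, one_mul]
    exact mul_right_cancel this
  have hx2 : π x ^ 2 = 1 := by
    rw [← map_pow]; exact (hker _).mpr (hsq x (hXW hxX))
  obtain ⟨m, hm⟩ := hodd
  have hx1 : π x = 1 := by
    rw [hm, pow_succ, pow_mul, hx2, one_pow, one_mul] at hxk
    exact hxk
  exact hxP ((hker x).mp hx1)

/-- index two: if `N ≤ S` are `α`-invariant with `|S| = 2 |N|` then `α s ≡ s` modulo `N` -/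
theorem aut2_idx [Finite T] (α : MulAut T) (N S : Subgroup T) (hNα : ∀ x, α x ∈ N ↔ x ∈ N)
    (hSα : ∀ x, α x ∈ S ↔ x ∈ S) (hNS : N ≤ S) (hcard : Nat.card ↥S = 2 * Nat.card ↥N) :
    ∀ s ∈ S, α s * s⁻¹ ∈ N := by
  intro s hs
  have hidx : (N.subgroupOf S).index = 2 := by
    have e1 := Subgroup.card_mul_index (N.subgroupOf S)
    have e2 : Nat.card ↥(N.subgroupOf S) = Nat.card ↥N :=
      Nat.card_congr (Subgroup.subgroupOfEquivOfLe hNS).toEquiv
    rw [e2, hcard] at e1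
    have hpos : 0 < Nat.card ↥N := Nat.card_pos
    have : Nat.card ↥N * (N.subgroupOf S).index = Nat.card ↥N * 2 := by rw [e1]; ring
    exact Nat.eq_of_mul_eq_mul_left hpos this
  have hαs : α s ∈ S := (hSα s).mpr hs
  have key := Subgroup.mul_mem_iff_of_index_two hidx (a := (⟨α s, hαs⟩ : ↥S))
    (b := (⟨s, hs⟩ : ↥S)⁻¹)
  have hiff : ((⟨α s, hαs⟩ : ↥S) ∈ N.subgroupOf S ↔ (⟨s, hs⟩ : ↥S)⁻¹ ∈ N.subgroupOf S) := by
    rw [Subgroup.inv_mem_iff]
    simp only [Subgroup.mem_subgroupOf]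
    exact hNα s
  have := key.mpr hiff
  simpa [Subgroup.mem_subgroupOf] using this

theorem aut2_char (α : MulAut T) (H : Subgroup T) [hH : H.Characteristic] (x : T) :
    α x ∈ H ↔ x ∈ H := by
  have := hH.fixed α
  constructor
  · intro h
    rw [← this]
    exact h
  · intro h
    rw [← this] at h
    exact h

/-- AUT2: an automorphism of odd order, trivial on `Phi W`, is trivial on `W / Phi W` -/
theorem aut_fix_mod (F : Full W)
    (hlift : ∀ D : Subgroup T, D.Normal → Phi W < D → D ≤ W →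
      Subgroup.upperCentralSeries T 4 ≤ D)
    (α : MulAut T) (hodd : Odd (orderOf α)) (h1 : ∀ f ∈ Phi W, α f = f) :
    ∀ w ∈ W, α w * w⁻¹ ∈ Phi W := by
  have hfin : Finite T := F.hyp.finite
  have hT := F.hyp.pgroup
  have hWn : W.Normal := F.str.normal
  have hPn : (Phi W).Normal := Phi_normal W
  have h1' : ∀ f ∈ Subgroup.upperCentralSeries T 3, α f = f := by
    intro f hf
    rw [← F.str.phi_eq] at hf
    exact h1 f hf
  have hZ3n : (Subgroup.upperCentralSeries T 3).Normal := inferInstance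
  refine aut2_core α hodd W (Phi W) (Subgroup.upperCentralSeries T 4) hWn hPn (Phi_le W)
    (fun a ha b hb => comm_mem_Phi hT W ha hb) (fun a ha => sq_mem_Phi hT W ha) h1
    (aut2_mapW α _ F.hyp.hW h1') (aut2_modW α _ hZ3n hWn F.hyp.hW h1') F.str.z4_le ?_ hlift ?_
  · rw [F.str.phi_eq]
    refine aut2_idx α _ _ (aut2_char α _) (aut2_char α _)
      (Subgroup.upperCentralSeries_mono T (by norm_num)) ?_
    rw [F.str.card_ucs 4 le_rfl, F.str.card_ucs 3 (by norm_num)]
    norm_num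
  · intro hle
    rw [F.str.phi_eq] at hle
    have := Subgroup.card_le_of_le hle
    rw [F.str.card_ucs 4 le_rfl, F.str.card_ucs 3 (by norm_num)] at this
    norm_num at this

end Cfsg.Agent.Lib.Helper3.Ru2
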