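import Mathlib
import Cfsg.Agent.Lib.Helper3.Ru2Defs
import Cfsg.Agent.Lib.Helper3.S64n

/-!
# S3174 / S3175 swarm, package D8: `T / W` is dihedral of order eight.
-/

set_option autoImplicit false

namespace Cfsg.Agent.Lib.Helper3.Ru2

open scoped commutatorElement

variable {T : Type*} [Group T] {W : Subgroup T}

/-- the quaternion group of order eight has only one involution -/
theorem d8_quat_invol : ∀ a b : QuaternionGroup 2, a ≠ 1 → b ≠ 1 → a * a = 1 → b * b = 1 →
    a = b := by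
  decide

/-- a subgroup strictly above a subgroup of order `2 ^ i` inside a subgroup of order `2 ^ (i+1)`
is everything -/
theorem d8_squeeze [Finite T] {A B C : Subgroup T} (i : ℕ) (hAB : A < B) (hBC : B ≤ C)
    (hA : Nat.card ↥A = 2 ^ i) (hC : Nat.card ↥C = 2 ^ (i + 1)) : B = C := by
  apply Subgroup.eq_of_le_of_card_ge hBC
  have h1 : Nat.card ↥A < Nat.card ↥B := by
    rcases lt_or_eq_of_le (Subgroup.card_le_of_le hAB.le) with h | h
    · exact h
    · exact absurd (Subgroup.eq_of_le_of_card_ge hAB.le (le_of_eq h.symm)) hAB.ne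
  have h2 : Nat.card ↥A ∣ Nat.card ↥B := Subgroup.card_dvd_of_le hAB.le
  obtain ⟨k, hk⟩ := h2
  have hk2 : 2 ≤ k := by
    by_contra hcon
    have : k = 0 ∨ k = 1 := by omega
    rcases this with rfl | rfl
    · rw [mul_zero] at hk; rw [hk] at h1; omega
    · rw [mul_one] at hk; omega
  rw [hC, hk, hA, pow_succ]
  exact Nat.mul_le_mul_left _ hk2

/-- an element centralising `y ∈ Z_2 \ Z_1` and `z ∈ Z_3 \ Z_2` centralises `Z_3` -/
theorem d8_cent_mem [Finite T]
    (hucs : ∀ i : ℕ, i ≤ 4 → Nat.card ↥(Subgroup.upperCentralSeries T i) = 2 ^ i)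
    (hW : W = Subgroup.centralizer ((Subgroup.upperCentralSeries T 3 : Subgroup T) : Set T))
    {y z : T} (hy2 : y ∈ Subgroup.upperCentralSeries T 2)
    (hy1 : y ∉ Subgroup.upperCentralSeries T 1) (hz3 : z ∈ Subgroup.upperCentralSeries T 3)
    (hz2 : z ∉ Subgroup.upperCentralSeries T 2) (t : T) (hty : y * t = t * y)
    (htz : z * t = t * z) : t ∈ W := by
  have c1 := hucs 1 (by omega)
  have c2 := hucs 2 (by omega)
  have c3 := hucs 3 (by omega)
  have m12 : Subgroup.upperCentralSeries T 1 ≤ Subgroup.upperCentralSeries T 2 :=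
    Subgroup.upperCentralSeries_mono T (by omega)
  have m23 : Subgroup.upperCentralSeries T 2 ≤ Subgroup.upperCentralSeries T 3 :=
    Subgroup.upperCentralSeries_mono T (by omega)
  let K : Subgroup T := Subgroup.upperCentralSeries T 3 ⊓ Subgroup.centralizer ({t} : Set T)
  have hyK : y ∈ Subgroup.centralizer ({t} : Set T) := by
    rw [Subgroup.mem_centralizer_iff]; intro x hx
    rw [Set.mem_singleton_iff] at hx; rw [hx]; exact hty.symm
  have hzK : z ∈ Subgroup.centralizer ({t} : Set T) := by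
    rw [Subgroup.mem_centralizer_iff]; intro x hx
    rw [Set.mem_singleton_iff] at hx; rw [hx]; exact htz.symm
  have hZ1 : Subgroup.upperCentralSeries T 1 ≤ Subgroup.centralizer ({t} : Set T) := by
    intro x hx
    rw [Subgroup.upperCentralSeries_one] at hx
    rw [Subgroup.mem_centralizer_iff]; intro u hu
    rw [Set.mem_singleton_iff] at hu; rw [hu]
    exact (Subgroup.mem_center_iff.mp hx t)
  have s1 : Subgroup.upperCentralSeries T 2 ⊓ Subgroup.centralizer ({t} : Set T)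
      = Subgroup.upperCentralSeries T 2 := by
    apply d8_squeeze 1 (A := Subgroup.upperCentralSeries T 1) _ inf_le_left (by rw [c1])
      (by rw [c2])
    refine lt_of_le_of_ne (le_inf m12 hZ1) (fun e => hy1 ?_)
    rw [e]; exact ⟨hy2, hyK⟩
  have hZ2 : Subgroup.upperCentralSeries T 2 ≤ Subgroup.centralizer ({t} : Set T) := by
    rw [← s1]; exact inf_le_right
  have s2 : K = Subgroup.upperCentralSeries T 3 := by
    apply d8_squeeze 2 (A := Subgroup.upperCentralSeries T 2) _ inf_le_left (by rw [c2])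
      (by rw [c3])
    refine lt_of_le_of_ne (le_inf m23 hZ2) (fun e => hz2 ?_)
    rw [e]; exact ⟨hz3, hzK⟩
  rw [hW, Subgroup.mem_centralizer_iff]
  intro x hx
  have hxK : x ∈ K := by rw [s2]; exact hx
  exact ((Subgroup.mem_centralizer_iff.mp hxK.2) t (Set.mem_singleton t)).symm

/-- D8: `T / W` is dihedral of order eight -/
theorem d8_of_full (F : Full W) : ∃ (_ : W.Normal), Nonempty (T ⧸ W ≃* DihedralGroup 4) := by
  classical
  have hfin : Finite T := F.hyp.finite
  have hWn : W.Normal := F.str.normal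
  refine ⟨hWn, ?_⟩
  have hW := F.hyp.hW
  have hucs := F.str.card_ucs
  have c0 := hucs 0 (by omega)
  have c1 := hucs 1 (by omega)
  have c2 := hucs 2 (by omega)
  have c3 := hucs 3 (by omega)
  have m01 : Subgroup.upperCentralSeries T 0 ≤ Subgroup.upperCentralSeries T 1 :=
    Subgroup.upperCentralSeries_mono T (by omega)
  have m12 : Subgroup.upperCentralSeries T 1 ≤ Subgroup.upperCentralSeries T 2 :=
    Subgroup.upperCentralSeries_mono T (by omega)
  have m23 : Subgroup.upperCentralSeries T 2 ≤ Subgroup.upperCentralSeries T 3 :=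
    Subgroup.upperCentralSeries_mono T (by omega)
  have l01 : Subgroup.upperCentralSeries T 0 < Subgroup.upperCentralSeries T 1 := by
    refine lt_of_le_of_ne m01 (fun e => ?_)
    rw [e, c1] at c0; omega
  have l12 : Subgroup.upperCentralSeries T 1 < Subgroup.upperCentralSeries T 2 := by
    refine lt_of_le_of_ne m12 (fun e => ?_)
    rw [e, c2] at c1; omega
  have l23 : Subgroup.upperCentralSeries T 2 < Subgroup.upperCentralSeries T 3 := by
    refine lt_of_le_of_ne m23 (fun e => ?_)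
    rw [e, c3] at c2; omega
  obtain ⟨z1, hz1, hz10⟩ := SetLike.exists_of_lt l01
  obtain ⟨y, hy2, hy1⟩ := SetLike.exists_of_lt l12
  obtain ⟨z, hz3, hz2⟩ := SetLike.exists_of_lt l23
  have hz1ne : z1 ≠ 1 := by
    intro h; apply hz10; rw [h]; exact Subgroup.one_mem _
  have hz1c : ∀ g : T, g * z1 = z1 * g := by
    have := hz1
    rw [Subgroup.upperCentralSeries_one] at this
    exact Subgroup.mem_center_iff.mp this
  have hyc : ∀ g : T, g * y * g⁻¹ * y⁻¹ ∈ Subgroup.upperCentralSeries T 1 := by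
    intro g
    have := (Subgroup.mem_upperCentralSeries_succ_iff).mp hy2 g
    have e : g * y * g⁻¹ * y⁻¹ = (y * g * y⁻¹ * g⁻¹)⁻¹ := by group
    rw [e]; exact Subgroup.inv_mem _ this
  have hzc : ∀ g : T, g * z * g⁻¹ * z⁻¹ ∈ Subgroup.upperCentralSeries T 2 := by
    intro g
    have := (Subgroup.mem_upperCentralSeries_succ_iff).mp hz3 g
    have e : g * z * g⁻¹ * z⁻¹ = (z * g * z⁻¹ * g⁻¹)⁻¹ := by group
    rw [e]; exact Subgroup.inv_mem _ this
  have hsq : ∀ f ∈ Subgroup.upperCentralSeries T 3, f * f = 1 := by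
    intro f hf
    rw [← F.str.phi_eq] at hf
    have := F.phi_sq f hf
    rwa [pow_two] at this
  have hcent : ∀ t : T, y * t = t * y → z * t = t * z → t ∈ W :=
    fun t => d8_cent_mem hucs hW hy2 hy1 hz3 hz2 t
  have hWy : ∀ w ∈ W, y * w = w * y := by
    intro w hw
    rw [hW, Subgroup.mem_centralizer_iff] at hw
    exact hw y (m23 hy2)
  have hWz : ∀ w ∈ W, z * w = w * z := by
    intro w hw
    rw [hW, Subgroup.mem_centralizer_iff] at hw
    exact hw z hz3
  -- the invariants of a coset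
  have hcompat : ∀ a b : T, a⁻¹ * b ∈ W →
      a * y * a⁻¹ * y⁻¹ = b * y * b⁻¹ * y⁻¹ ∧ a * z * a⁻¹ * z⁻¹ = b * z * b⁻¹ * z⁻¹ := by
    intro a b hab
    have hb : b = a * (a⁻¹ * b) := by group
    have e1 := hWy _ hab
    have e2 := hWz _ hab
    constructor
    · rw [hb]
      calc a * y * a⁻¹ * y⁻¹ = a * (y * (a⁻¹ * b)) * (a⁻¹ * b)⁻¹ * a⁻¹ * y⁻¹ := by group
        _ = a * ((a⁻¹ * b) * y) * (a⁻¹ * b)⁻¹ * a⁻¹ * y⁻¹ := by rw [e1]
        _ = a * (a⁻¹ * b) * y * (a * (a⁻¹ * b))⁻¹ * y⁻¹ := by group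
    · rw [hb]
      calc a * z * a⁻¹ * z⁻¹ = a * (z * (a⁻¹ * b)) * (a⁻¹ * b)⁻¹ * a⁻¹ * z⁻¹ := by group
        _ = a * ((a⁻¹ * b) * z) * (a⁻¹ * b)⁻¹ * a⁻¹ * z⁻¹ := by rw [e2]
        _ = a * (a⁻¹ * b) * z * (a * (a⁻¹ * b))⁻¹ * z⁻¹ := by group
  let φ : T ⧸ W → ↥(Subgroup.upperCentralSeries T 1) × ↥(Subgroup.upperCentralSeries T 2) :=
    fun q => Quotient.liftOn' q
      (fun t => ((⟨t * y * t⁻¹ * y⁻¹, hyc t⟩ : ↥(Subgroup.upperCentralSeries T 1)),
        (⟨t * z * t⁻¹ * z⁻¹, hzc t⟩ : ↥(Subgroup.upperCentralSeries T 2))))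
      (by
        intro a b hab
        rw [QuotientGroup.leftRel_apply] at hab
        obtain ⟨h1, h2⟩ := hcompat a b hab
        exact Prod.ext (Subtype.ext h1) (Subtype.ext h2))
  have hφmk : ∀ t : T, φ (QuotientGroup.mk t) =
      ((⟨t * y * t⁻¹ * y⁻¹, hyc t⟩ : ↥(Subgroup.upperCentralSeries T 1)),
        (⟨t * z * t⁻¹ * z⁻¹, hzc t⟩ : ↥(Subgroup.upperCentralSeries T 2))) := fun t => rfl
  have hφinj : Function.Injective φ := by
    intro q q' h
    induction q using QuotientGroup.induction_on with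
    | H a =>
      induction q' using QuotientGroup.induction_on with
      | H b =>
        rw [hφmk, hφmk] at h
        have h1 : a * y * a⁻¹ * y⁻¹ = b * y * b⁻¹ * y⁻¹ := congrArg (fun p => (p.1 : T)) h
        have h2 : a * z * a⁻¹ * z⁻¹ = b * z * b⁻¹ * z⁻¹ := congrArg (fun p => (p.2 : T)) h
        rw [QuotientGroup.eq]
        apply hcent
        · have h1' : a * y * a⁻¹ = b * y * b⁻¹ := mul_right_cancel h1
          calc y * (a⁻¹ * b) = a⁻¹ * (a * y * a⁻¹) * b := by group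
            _ = a⁻¹ * (b * y * b⁻¹) * b := by rw [h1']
            _ = a⁻¹ * b * y := by group
        · have h2' : a * z * a⁻¹ = b * z * b⁻¹ := mul_right_cancel h2
          calc z * (a⁻¹ * b) = a⁻¹ * (a * z * a⁻¹) * b := by group
            _ = a⁻¹ * (b * z * b⁻¹) * b := by rw [h2']
            _ = a⁻¹ * b * z := by group
  have hcardQ : Nat.card (T ⧸ W) = 8 := by
    rw [← Subgroup.index_eq_card]; exact F.str.index_W
  have hφbij : Function.Bijective φ := by
    apply Function.Injective.bijective_of_nat_card_le hφinj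
    rw [Nat.card_prod, c1, c2, hcardQ]
    norm_num
  -- the two involutions
  obtain ⟨q1, hq1⟩ := hφbij.2 (⟨z1, hz1⟩, ⟨1, Subgroup.one_mem _⟩)
  obtain ⟨q2, hq2⟩ := hφbij.2 (⟨1, Subgroup.one_mem _⟩, ⟨y, hy2⟩)
  obtain ⟨t1, rfl⟩ := QuotientGroup.mk_surjective q1
  obtain ⟨t2, rfl⟩ := QuotientGroup.mk_surjective q2
  rw [hφmk] at hq1 hq2
  have a1 : t1 * y * t1⁻¹ * y⁻¹ = z1 := congrArg (fun p => (p.1 : T)) hq1
  have a2 : t1 * z * t1⁻¹ * z⁻¹ = 1 := congrArg (fun p => (p.2 : T)) hq1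
  have b1 : t2 * y * t2⁻¹ * y⁻¹ = 1 := congrArg (fun p => (p.1 : T)) hq2
  have b2 : t2 * z * t2⁻¹ * z⁻¹ = y := congrArg (fun p => (p.2 : T)) hq2
  have a1' : t1 * y * t1⁻¹ = z1 * y := by rw [← a1]; group
  have a2' : t1 * z * t1⁻¹ = z := by
    have := mul_inv_eq_one.mp a2
    exact this
  have b1' : t2 * y * t2⁻¹ = y := mul_inv_eq_one.mp b1
  have b2' : t2 * z * t2⁻¹ = y * z := by rw [← b2]; group
  have hz1sq : z1 * z1 = 1 := hsq z1 (m23 (m12 hz1))
  have hysq : y * y = 1 := hsq y (m23 hy2)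
  have ht1sq : t1 * t1 ∈ W := by
    apply hcent
    · have : (t1 * t1) * y * (t1 * t1)⁻¹ = y := by
        calc (t1 * t1) * y * (t1 * t1)⁻¹ = t1 * (t1 * y * t1⁻¹) * t1⁻¹ := by group
          _ = t1 * (z1 * y) * t1⁻¹ := by rw [a1']
          _ = (t1 * z1) * y * t1⁻¹ := by group
          _ = (z1 * t1) * y * t1⁻¹ := by rw [hz1c t1]
          _ = z1 * (t1 * y * t1⁻¹) := by group
          _ = z1 * (z1 * y) := by rw [a1']
          _ = (z1 * z1) * y := by group
          _ = y := by rw [hz1sq, one_mul]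
      calc y * (t1 * t1) = ((t1 * t1) * y * (t1 * t1)⁻¹) * (t1 * t1) := by rw [this]
        _ = t1 * t1 * y := by group
    · have : (t1 * t1) * z * (t1 * t1)⁻¹ = z := by
        calc (t1 * t1) * z * (t1 * t1)⁻¹ = t1 * (t1 * z * t1⁻¹) * t1⁻¹ := by group
          _ = z := by rw [a2', a2']
      calc z * (t1 * t1) = ((t1 * t1) * z * (t1 * t1)⁻¹) * (t1 * t1) := by rw [this]
        _ = t1 * t1 * z := by group
  have ht2sq : t2 * t2 ∈ W := by
    apply hcent
    · have : (t2 * t2) * y * (t2 * t2)⁻¹ = y := by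
        calc (t2 * t2) * y * (t2 * t2)⁻¹ = t2 * (t2 * y * t2⁻¹) * t2⁻¹ := by group
          _ = y := by rw [b1', b1']
      calc y * (t2 * t2) = ((t2 * t2) * y * (t2 * t2)⁻¹) * (t2 * t2) := by rw [this]
        _ = t2 * t2 * y := by group
    · have : (t2 * t2) * z * (t2 * t2)⁻¹ = z := by
        calc (t2 * t2) * z * (t2 * t2)⁻¹ = t2 * (t2 * z * t2⁻¹) * t2⁻¹ := by group
          _ = t2 * (y * z) * t2⁻¹ := by rw [b2']
          _ = (t2 * y * t2⁻¹) * (t2 * z * t2⁻¹) := by group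
          _ = y * (y * z) := by rw [b1', b2']
          _ = (y * y) * z := by group
          _ = z := by rw [hysq, one_mul]
      calc z * (t2 * t2) = ((t2 * t2) * z * (t2 * t2)⁻¹) * (t2 * t2) := by rw [this]
        _ = t2 * t2 * z := by group
  have hnc : (QuotientGroup.mk t1 : T ⧸ W) * QuotientGroup.mk t2 ≠
      QuotientGroup.mk t2 * QuotientGroup.mk t1 := by
    intro h
    rw [← QuotientGroup.mk_mul, ← QuotientGroup.mk_mul, QuotientGroup.eq] at h
    have hc := hWz _ h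
    -- `(t1 t2) z (t1 t2)⁻¹ = (t2 t1) z (t2 t1)⁻¹`
    have e1 : (t1 * t2) * z * (t1 * t2)⁻¹ = z1 * y * z := by
      calc (t1 * t2) * z * (t1 * t2)⁻¹ = t1 * (t2 * z * t2⁻¹) * t1⁻¹ := by group
        _ = t1 * (y * z) * t1⁻¹ := by rw [b2']
        _ = (t1 * y * t1⁻¹) * (t1 * z * t1⁻¹) := by group
        _ = z1 * y * z := by rw [a1', a2']
    have e2 : (t2 * t1) * z * (t2 * t1)⁻¹ = y * z := by
      calc (t2 * t1) * z * (t2 * t1)⁻¹ = t2 * (t1 * z * t1⁻¹) * t2⁻¹ := by group
        _ = t2 * z * t2⁻¹ := by rw [a2']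
        _ = y * z := b2'
    have e3 : (t1 * t2) * z * (t1 * t2)⁻¹ = (t2 * t1) * z * (t2 * t1)⁻¹ := by
      calc (t1 * t2) * z * (t1 * t2)⁻¹
          = (t1 * t2) * (z * ((t1 * t2)⁻¹ * (t2 * t1))) * (t2 * t1)⁻¹ := by group
        _ = (t1 * t2) * (((t1 * t2)⁻¹ * (t2 * t1)) * z) * (t2 * t1)⁻¹ := by rw [hc]
        _ = (t2 * t1) * z * (t2 * t1)⁻¹ := by group
    rw [e1, e2] at e3
    apply hz1ne
    have : z1 * (y * z) = 1 * (y * z) := by rw [one_mul, ← mul_assoc]; exact e3
    exact mul_right_cancel this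
  have hq1sq : (QuotientGroup.mk t1 : T ⧸ W) * QuotientGroup.mk t1 = 1 := by
    rw [← QuotientGroup.mk_mul]
    exact (QuotientGroup.eq_one_iff _).mpr ht1sq
  have hq2sq : (QuotientGroup.mk t2 : T ⧸ W) * QuotientGroup.mk t2 = 1 := by
    rw [← QuotientGroup.mk_mul]
    exact (QuotientGroup.eq_one_iff _).mpr ht2sq
  have hq1ne : (QuotientGroup.mk t1 : T ⧸ W) ≠ 1 := by
    intro h; apply hnc; rw [h, one_mul, mul_one]
  have hq2ne : (QuotientGroup.mk t2 : T ⧸ W) ≠ 1 := by
    intro h; apply hnc; rw [h, one_mul, mul_one]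
  have hq12 : (QuotientGroup.mk t1 : T ⧸ W) ≠ QuotientGroup.mk t2 := by
    intro h; apply hnc; rw [h]
  have hfinQ : Finite (T ⧸ W) := inferInstance
  rcases Cfsg.Agent.Lib.Helper3.S64.order8_classify hcardQ ⟨_, _, hnc⟩ with hD | ⟨⟨e⟩⟩
  · exact hD
  · exfalso
    apply hq12
    apply e.injective
    apply d8_quat_invol
    · intro h; apply hq1ne; apply e.injective; rw [h, map_one]
    · intro h; apply hq2ne; apply e.injective; rw [h, map_one]
    · rw [← map_mul, hq1sq, map_one]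
    · rw [← map_mul, hq2sq, map_one]

end Cfsg.Agent.Lib.Helper3.Ru2
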