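import Mathlib
import Cfsg.Prelude.Def_Transfer
import Cfsg.Agent.Lib.Helper3.Ru2Defs

/-!
# S3174 / S3175 swarm, package NC: if a Sylow 2-subgroup `P` has no nontrivial automorphism of odd
order, then `N_G(P)` has a normal 2-complement.
-/

set_option autoImplicit false

namespace Cfsg.Agent.Lib.Helper3.Ru2

/-- NC (general): if no automorphism of odd order of a Sylow 2-subgroup `P` is nontrivial, then
`N_G(P)` has a normal 2-complement -/
theorem normal_complement_of_aut {G : Type*} [Group G] [Finite G] (P : Sylow 2 G)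
    (haut : ∀ α : MulAut ↥(P : Subgroup G), Odd (orderOf α) → α = 1) :
    Cfsg.HasNormalPComplement 2 ↥(Subgroup.normalizer ((P : Subgroup G) : Set G)) := by
  classical
  have : Fact (Nat.Prime 2) := ⟨Nat.prime_two⟩
  have hle : (P : Subgroup G) ≤ Subgroup.normalizer ((P : Subgroup G) : Set G) :=
    Subgroup.le_normalizer
  let P' : Sylow 2 ↥(Subgroup.normalizer ((P : Subgroup G) : Set G)) := P.subtype hle
  have hP'coe : (P' : Subgroup ↥(Subgroup.normalizer ((P : Subgroup G) : Set G))) =
      (P : Subgroup G).subgroupOf (Subgroup.normalizer ((P : Subgroup G) : Set G)) :=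
    Sylow.coe_subtype P hle
  have hnorm : (P' : Subgroup ↥(Subgroup.normalizer ((P : Subgroup G) : Set G))).Normal := by
    rw [hP'coe]; exact Subgroup.normal_in_normalizer
  have hcop : Nat.Coprime
      (Nat.card (P' : Subgroup ↥(Subgroup.normalizer ((P : Subgroup G) : Set G))))
      (P' : Subgroup ↥(Subgroup.normalizer ((P : Subgroup G) : Set G))).index :=
    P'.card_coprime_index
  obtain ⟨K, hK⟩ := Subgroup.exists_right_complement'_of_coprime hcop
  -- `K` has odd order
  have hKodd : Odd (Nat.card ↥K) := by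
    have h1 : ¬ 2 ∣ (P' : Subgroup ↥(Subgroup.normalizer ((P : Subgroup G) : Set G))).index :=
      P'.not_dvd_index
    have h2 : Nat.card ↥K =
        (P' : Subgroup ↥(Subgroup.normalizer ((P : Subgroup G) : Set G))).index :=
      (hK.symm.index_eq_card).symm
    rw [h2]
    exact Nat.odd_iff.mpr (Nat.two_dvd_ne_zero.mp h1)
  -- every element of `K` centralises `P`
  have hcent : ∀ k ∈ K, ∀ x ∈ (P : Subgroup G), (k : G) * x = x * (k : G) := by
    intro k hk x hx
    have hαodd : Odd (orderOf ((P : Subgroup G).normalizerMonoidHom k)) := by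
      have d1 : orderOf ((P : Subgroup G).normalizerMonoidHom k) ∣ orderOf k :=
        orderOf_map_dvd _ k
      have d2 : orderOf (⟨k, hk⟩ : ↥K) ∣ Nat.card ↥K := orderOf_dvd_natCard _
      have d3 : orderOf (⟨k, hk⟩ : ↥K) = orderOf k := by
        rw [← Subgroup.orderOf_coe]
      rw [d3] at d2
      exact Odd.of_dvd_nat hKodd (d1.trans d2)
    have h1 := haut _ hαodd
    have h2 : (P : Subgroup G).normalizerMonoidHom k ⟨x, hx⟩ = ⟨x, hx⟩ := by
      rw [h1]; rfl
    have h3 := congrArg Subtype.val h2
    simp only [Subgroup.normalizerMonoidHom_apply_apply_coe] at h3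
    calc (k : G) * x = ((k : G) * x * (k : G)⁻¹) * (k : G) := by group
      _ = x * (k : G) := by rw [h3]
  -- `K` is normal
  have hKn : K.Normal := by
    refine ⟨fun k0 hk0 n => ?_⟩
    obtain ⟨⟨p, k⟩, hpk, -⟩ := (Subgroup.isComplement_iff_existsUnique.mp hK) n
    simp only at hpk
    have hpP : ((p : ↥(Subgroup.normalizer ((P : Subgroup G) : Set G))) : G) ∈
        (P : Subgroup G) := by
      have h0 : (p : ↥(Subgroup.normalizer ((P : Subgroup G) : Set G))) ∈
          (P' : Subgroup ↥(Subgroup.normalizer ((P : Subgroup G) : Set G))) := p.2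
      have h1 : (p : ↥(Subgroup.normalizer ((P : Subgroup G) : Set G))) ∈
          (P : Subgroup G).subgroupOf (Subgroup.normalizer ((P : Subgroup G) : Set G)) := by
        rw [← hP'coe]; exact h0
      exact Subgroup.mem_subgroupOf.mp h1
    have hkk : (k : ↥(Subgroup.normalizer ((P : Subgroup G) : Set G))) * k0 *
        (k : ↥(Subgroup.normalizer ((P : Subgroup G) : Set G)))⁻¹ ∈ K :=
      K.mul_mem (K.mul_mem k.2 hk0) (K.inv_mem k.2)
    have heq : n * k0 * n⁻¹ = (k : ↥(Subgroup.normalizer ((P : Subgroup G) : Set G))) * k0 *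
        (k : ↥(Subgroup.normalizer ((P : Subgroup G) : Set G)))⁻¹ := by
      have hc := hcent _ hkk _ hpP
      apply Subtype.ext
      rw [← hpk]
      simp only [Subgroup.coe_mul, Subgroup.coe_inv, mul_inv_rev] at hc ⊢
      calc (p : ↥(Subgroup.normalizer ((P : Subgroup G) : Set G))).1 * (k.1 : G) * (k0 : G) *
            ((k.1 : G)⁻¹ * ((p : ↥(Subgroup.normalizer ((P : Subgroup G) : Set G))).1 : G)⁻¹)
          = ((p : ↥(Subgroup.normalizer ((P : Subgroup G) : Set G))).1 : G) *
            ((k.1 : G) * (k0 : G) * (k.1 : G)⁻¹) *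
            ((p : ↥(Subgroup.normalizer ((P : Subgroup G) : Set G))).1 : G)⁻¹ := by group
        _ = (k.1 : G) * (k0 : G) * (k.1 : G)⁻¹ := by
          rw [← hc]; group
    rw [heq]
    exact hkk
  exact ⟨P', K, hKn, hK.symm⟩

end Cfsg.Agent.Lib.Helper3.Ru2
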