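import Mathlib
import Cfsg.Agent.Lib.Helper7.SubfDefs

set_option autoImplicit false

/-!
# S5639: the intermediate statements (as `Prop`-valued definitions), so that every package is provable from
Mathlib + `SubfDefs` + `SubfDefs2` alone
-/

namespace Cfsg.Agent.Lib.Helper7.Subf

open Matrix

variable {F : Type*} [Field F] {n : ℕ}

/-- RANK LEMMA: a transvection `1 + w ψᵀ` of `M` whose centre `w` is killed by two independent rational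
functionals is rational. -/
def RL (F₀ : Subfield F) (M : Subgroup (GL (Fin n) F)) : Prop :=
  ∀ w ψ φ₁ φ₂ : Fin n → F, ψ ⬝ᵥ w = 0 → Mm M (tvm 1 w ψ) → Rat F₀ φ₁ → Rat F₀ φ₂ → Indep φ₁ φ₂ →
    φ₁ ⬝ᵥ w = 0 → φ₂ ⬝ᵥ w = 0 → RatMat F₀ (vecMulVec w ψ)

/-- STABILISER LEMMA: an element of `M` mapping a rational point to a rational point is a scalar times a rational
matrix. -/
def SL3 (F₀ : Subfield F) (M : Subgroup (GL (Fin n) F)) : Prop :=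
  ∀ m ∈ M, ∀ (v₁ v₂ : Fin n → F) (lam : F), Rat F₀ v₁ → Rat F₀ v₂ → v₁ ≠ 0 → lam ≠ 0 →
    (m : Matrix (Fin n) (Fin n) F) *ᵥ v₁ = lam • v₂ →
    RatMat F₀ (lam⁻¹ • (m : Matrix (Fin n) (Fin n) F))

/-- NO-KILL LEMMA: for `g ∈ M` outside `N` no rational functional kills the image of a rational vector. -/
def NK (F₀ : Subfield F) (M : Subgroup (GL (Fin n) F)) : Prop :=
  ∀ g ∈ M, ¬ InN F₀ (g : Matrix (Fin n) (Fin n) F) → ∀ v φ : Fin n → F, Rat F₀ v → Rat F₀ φ →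
    v ≠ 0 → φ ≠ 0 → φ ⬝ᵥ ((g : Matrix (Fin n) (Fin n) F) *ᵥ v) ≠ 0

/-- DICKSON TRANSPORT: two transvections of `M` with `lam = φ(w) ψ(v) ≠ 0`, `lam² ≠ -1` generate (on the plane
`⟨w, v⟩`) a copy of `SL₂(𝔽_p(lam))`, so `M` contains `1 + c • v φᵀ` for all `c ∈ 𝔽_p(lam)`. -/
def DT (M : Subgroup (GL (Fin n) F)) : Prop :=
  ∀ v φ w ψ : Fin n → F, φ ⬝ᵥ v = 0 → ψ ⬝ᵥ w = 0 → Mm M (tvm 1 v φ) → Mm M (tvm 1 w ψ) →
    (φ ⬝ᵥ w) * (ψ ⬝ᵥ v) ≠ 0 → ((φ ⬝ᵥ w) * (ψ ⬝ᵥ v)) ^ 2 ≠ -1 →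
    ∀ c ∈ Subfield.closure ({(φ ⬝ᵥ w) * (ψ ⬝ᵥ v)} : Set F), Mm M (tvm c v φ)

end Cfsg.Agent.Lib.Helper7.Subf
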