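import Mathlib
import Cfsg.Agent.S3993

set_option autoImplicit false

/-!
# Counting elements of a given order: basic toolkit.
-/

namespace Cfsg.Agent.Lib.Helper7.SameOrd

variable {G : Type*} [Group G] [Finite G]

/-- the number of elements of order `m` -/
noncomputable def s (G : Type*) [Group G] (m : ℕ) : ℕ := Nat.card {g : G // orderOf g = m}

theorem s_pos_iff (m : ℕ) : 0 < s G m ↔ m ∈ Set.range (orderOf : G → ℕ) := by
  unfold s
  rw [Nat.card_pos_iff]
  constructor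
  · rintro ⟨⟨⟨g, hg⟩⟩, -⟩
    exact ⟨g, hg⟩
  · rintro ⟨g, hg⟩
    exact ⟨⟨⟨g, hg⟩⟩, inferInstance⟩

theorem s_eq_zero_iff (m : ℕ) : s G m = 0 ↔ m ∉ Set.range (orderOf : G → ℕ) := by
  rw [← s_pos_iff, Nat.pos_iff_ne_zero, not_not]

theorem s_one : s G 1 = 1 := by
  unfold s
  rw [Nat.card_eq_one_iff_unique]
  refine ⟨⟨fun a b => Subtype.ext ?_⟩, ⟨⟨1, orderOf_one⟩⟩⟩
  rw [orderOf_eq_one_iff.mp a.2, orderOf_eq_one_iff.mp b.2]

theorem totient_dvd_s (m : ℕ) : Nat.totient m ∣ s G m := by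
  have := Cfsg.Agent.S3993.dvd_card_of_dvd_totient (G := G) (fun d => d = m) (Nat.totient m)
    (fun d hd => by rw [hd])
  exact this

/-- `s m = 1` forces `m ≤ 2`. -/
theorem le_two_of_s_eq_one {m : ℕ} (h : s G m = 1) : m = 1 ∨ m = 2 := by
  have h1 := totient_dvd_s (G := G) m
  rw [h, Nat.dvd_one] at h1
  exact Nat.totient_eq_one_iff.mp h1

/-- solutions of `x ^ d = 1` sorted by order -/
theorem card_pow_eq_one (d : ℕ) (hd : 0 < d) (D : Finset ℕ) (hD : ∀ m, m ∣ d ↔ m ∈ D) :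
    Nat.card {g : G // g ^ d = 1} = ∑ m ∈ D, s G m := by
  classical
  haveI : Fintype G := Fintype.ofFinite G
  rw [Nat.card_eq_fintype_card, Fintype.card_subtype]
  rw [Finset.card_eq_sum_card_fiberwise (f := orderOf) (t := D)]
  · apply Finset.sum_congr rfl
    intro m hm
    unfold s
    rw [Nat.card_eq_fintype_card, Fintype.card_subtype]
    congr 1
    ext g
    simp only [Finset.mem_filter, Finset.mem_univ, true_and]
    constructor
    · rintro ⟨-, h⟩; exact h
    · intro h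
      refine ⟨?_, h⟩
      have := (hD m).mpr hm
      rw [← h] at this
      exact orderOf_dvd_iff_pow_eq_one.mp this
  · intro g hg
    have hg' : g ^ d = 1 := by simpa using hg
    have : orderOf g ∣ d := orderOf_dvd_of_pow_eq_one hg'
    exact (hD _).mp this

/-- Frobenius' theorem in summed form. -/
theorem frobenius_sum (d : ℕ) (hd : d ∣ Nat.card G) (D : Finset ℕ) (hD : ∀ m, m ∣ d ↔ m ∈ D) :
    d ∣ ∑ m ∈ D, s G m := by
  have hpos : 0 < d := Nat.pos_of_dvd_of_pos hd Nat.card_pos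
  rw [← card_pow_eq_one d hpos D hD]
  exact Cfsg.Agent.S3993.result d hd

theorem s_prime_pos {p : ℕ} (hp : p.Prime) (hpG : p ∣ Nat.card G) : 0 < s G p := by
  haveI := Fact.mk hp
  obtain ⟨g, hg⟩ := exists_prime_orderOf_dvd_card' p hpG
  exact (s_pos_iff p).mpr ⟨g, hg⟩

theorem dvd_card_of_s_pos {m : ℕ} (h : 0 < s G m) : m ∣ Nat.card G := by
  obtain ⟨g, hg⟩ := (s_pos_iff m).mp h
  rw [← hg]
  exact orderOf_dvd_natCard g

end Cfsg.Agent.Lib.Helper7.SameOrd
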