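import Mathlib
import Cfsg.Agent.Lib.Lead.SchDefs
import Cfsg.Agent.Lib.Helper7.SchLA0
import Cfsg.Agent.Lib.Helper7.SchLA1

/-!
# S4395, package LA3: two irreducible modules are isomorphic up to a power of the operator
-/

set_option autoImplicit false

universe u

namespace Cfsg.Agent.Lib.Lead.Sch

section
variable {V : Type u} [AddCommGroup V] [Finite V] (p q : ℕ) [Fact p.Prime] [Fact q.Prime]

/-- in coordinates, multiplication by `ζ ^ j` is the `j`-th iterate of `T` -/
theorem coord_pow_mul {K : Type u} [Field K] (T : V ≃+ V) (ζ : K) (e : K ≃+ V)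
    (he : ∀ k, e (ζ * k) = T (e k)) (j : ℕ) (k : K) : e (ζ ^ j * k) = (⇑T)^[j] (e k) := by
  induction j with
  | zero => simp
  | succ j ih =>
    rw [pow_succ', mul_assoc, he, ih, Function.iterate_succ_apply']

/-- LA3. -/
theorem irr_match {V' : Type u} [AddCommGroup V'] [Finite V'] (hpq : p ≠ q) (T : V ≃+ V)
    (T' : V' ≃+ V') (h : IrrMod p q V T) (h' : IrrMod p q V' T') :
    ∃ j : ℕ, j.Coprime q ∧ ∃ θ : V ≃+ V', ∀ v, θ (T v) = (⇑T')^[j] (θ v) := by
  classical
  obtain ⟨K, hF, hfin, ζ, e, hchar, hζq, hζ1, he, hgen⟩ := coord p q hpq T h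
  obtain ⟨K', hF', hfin', ζ', e', hchar', hζq', hζ1', he', hgen'⟩ := coord p q hpq T' h'
  haveI : Fintype K := Fintype.ofFinite K
  haveI : Fintype K' := Fintype.ofFinite K'
  have hq : q.Prime := Fact.out
  have hcard : Fintype.card K = Fintype.card K' := by
    rw [← Nat.card_eq_fintype_card, ← Nat.card_eq_fintype_card,
      field_card p q hpq ζ hζq hζ1 hgen, field_card p q hpq ζ' hζq' hζ1' hgen']
  let σ : K ≃+* K' := FiniteField.ringEquivOfCardEq hcard
  have hprim : IsPrimitiveRoot ζ' q := by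
    rw [IsPrimitiveRoot.iff_orderOf]
    exact orderOf_eq_prime hζq' hζ1'
  have hσq : (σ ζ) ^ q = 1 := by rw [← map_pow, hζq, map_one]
  haveI : NeZero q := ⟨hq.ne_zero⟩
  obtain ⟨j, hjq, hj⟩ := hprim.eq_pow_of_pow_eq_one hσq
  have hj0 : j ≠ 0 := by
    intro h0
    rw [h0, pow_zero] at hj
    apply hζ1
    apply σ.injective
    rw [← hj, map_one]
  have hcop : j.Coprime q := by
    apply Nat.Coprime.symm
    rw [Nat.Prime.coprime_iff_not_dvd hq]
    exact Nat.not_dvd_of_pos_of_lt (Nat.pos_of_ne_zero hj0) hjq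
  refine ⟨j, hcop, e.symm.trans (σ.toAddEquiv.trans e'), ?_⟩
  intro v
  obtain ⟨k, rfl⟩ := e.surjective v
  rw [← he]
  show e' (σ (e.symm (e (ζ * k)))) = (⇑T')^[j] (e' (σ (e.symm (e k))))
  rw [AddEquiv.symm_apply_apply, AddEquiv.symm_apply_apply, map_mul, ← hj]
  exact coord_pow_mul T' ζ' e' he' j (σ k)

end

end Cfsg.Agent.Lib.Lead.Sch
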