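import Mathlib
import Cfsg.Agent.Lib.Lead.SchDefs
import Cfsg.Agent.Lib.Helper7.SchLA1

/-!
# S4395, package LA2a: the field-level count

`K` a finite field of characteristic `p` generated by `ζ`, `ζ ^ q = 1 ≠ ζ`.  The additive functionals
`l : K →+ ZMod p` with `l (ζ ^ i) = - l (ζ⁻¹ ^ i)` number at most `p ^ (a0 p q - ord_q(p))`.

`relR ζ` is the additive span of the pairs `(ζ ^ i, ζ⁻¹ ^ i)` in `K × K`; it is a subring, stable
under the swap, with both projections onto.  Either it contains some `(0, k₀)`, `k₀ ≠ 0` (then it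
contains all `(0, k)` and `l = 0`), or it is the graph of a ring involution `†` with
`l ∘ † = - l`.
-/

set_option autoImplicit false
set_option linter.style.haveILetI false

universe u

namespace Cfsg.Agent.Lib.Lead.Sch

/-- the number of additive maps from a finite group of exponent `p` to `ZMod p` -/
theorem card_addHom_zmod (p : ℕ) [Fact p.Prime] {A : Type u} [AddCommGroup A] [Finite A]
    (hA : ∀ x : A, p • x = 0) : Nat.card (A →+ ZMod p) = Nat.card A := by
  classical
  have inst : Module (ZMod p) A := AddCommGroup.zmodModule hA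
  haveI : Fintype A := Fintype.ofFinite A
  have e1 : (A →+ ZMod p) ≃ (A →ₗ[ZMod p] ZMod p) :=
    (AddMonoidHom.toZModLinearMapEquiv p).toEquiv
  rw [Nat.card_congr e1]
  haveI : Finite (Module.Dual (ZMod p) A) := by
    show Finite (A →ₗ[ZMod p] ZMod p)
    exact Finite.of_injective (fun f : A →ₗ[ZMod p] ZMod p => (f : A → ZMod p))
      DFunLike.coe_injective
  haveI : Fintype (Module.Dual (ZMod p) A) := Fintype.ofFinite _
  show Nat.card (Module.Dual (ZMod p) A) = Nat.card A
  have h1 : Fintype.card (Module.Dual (ZMod p) A) =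
      Fintype.card (ZMod p) ^ Module.finrank (ZMod p) (Module.Dual (ZMod p) A) :=
    @Module.card_eq_pow_finrank (ZMod p) (Module.Dual (ZMod p) A) _ _ _ _ _
  have h2 : Fintype.card A = Fintype.card (ZMod p) ^ Module.finrank (ZMod p) A :=
    Module.card_eq_pow_finrank
  rw [Nat.card_eq_fintype_card, Nat.card_eq_fintype_card, h1, h2, Subspace.dual_finrank_eq]

section Rel

variable {K : Type u} [Field K] (ζ : K)

/-- the additive span of the pairs `(ζ ^ i, ζ⁻¹ ^ i)` -/
def relR : AddSubgroup (K × K) :=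
  AddSubgroup.closure (Set.range fun i : ℕ => ((ζ ^ i, ζ⁻¹ ^ i) : K × K))

theorem relR_gen (i : ℕ) : ((ζ ^ i, ζ⁻¹ ^ i) : K × K) ∈ relR ζ :=
  AddSubgroup.subset_closure ⟨i, rfl⟩

theorem relR_one : (1 : K × K) ∈ relR ζ := by
  have := relR_gen ζ 0
  rw [pow_zero, pow_zero] at this
  exact this

theorem relR_mul_gen (i : ℕ) {z : K × K} (hz : z ∈ relR ζ) :
    ((ζ ^ i, ζ⁻¹ ^ i) : K × K) * z ∈ relR ζ := by
  unfold relR at hz
  induction hz using AddSubgroup.closure_induction with
  | mem x hx =>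
    obtain ⟨j, rfl⟩ := hx
    have : ((ζ ^ i, ζ⁻¹ ^ i) : K × K) * (ζ ^ j, ζ⁻¹ ^ j) = (ζ ^ (i + j), ζ⁻¹ ^ (i + j)) := by
      rw [Prod.mk_mul_mk, pow_add, pow_add]
    rw [this]
    exact relR_gen ζ (i + j)
  | zero => rw [mul_zero]; exact (relR ζ).zero_mem
  | add x y _ _ hx hy => rw [mul_add]; exact (relR ζ).add_mem hx hy
  | neg x _ hx => rw [mul_neg]; exact (relR ζ).neg_mem hx

theorem relR_mul {z w : K × K} (hz : z ∈ relR ζ) (hw : w ∈ relR ζ) : z * w ∈ relR ζ := by
  unfold relR at hz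
  induction hz using AddSubgroup.closure_induction with
  | mem x hx =>
    obtain ⟨i, rfl⟩ := hx
    exact relR_mul_gen ζ i hw
  | zero => rw [zero_mul]; exact (relR ζ).zero_mem
  | add x y _ _ hx hy => rw [add_mul]; exact (relR ζ).add_mem hx hy
  | neg x _ hx => rw [neg_mul]; exact (relR ζ).neg_mem hx

theorem relR_swap {q : ℕ} (hq : 0 < q) (hζq : ζ ^ q = 1) {z : K × K} (hz : z ∈ relR ζ) :
    z.swap ∈ relR ζ := by
  have hζ0 : ζ ≠ 0 := by
    intro h0
    rw [h0, zero_pow hq.ne'] at hζq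
    exact zero_ne_one hζq
  have hinv : ζ ^ (q - 1) = ζ⁻¹ := by
    apply eq_inv_of_mul_eq_one_left
    rw [← pow_succ, Nat.sub_add_cancel hq, hζq]
  have hinv' : ζ⁻¹ ^ (q - 1) = ζ := by
    rw [inv_pow, hinv, inv_inv]
  unfold relR at hz
  induction hz using AddSubgroup.closure_induction with
  | mem x hx =>
    obtain ⟨i, rfl⟩ := hx
    have : ((ζ ^ i, ζ⁻¹ ^ i) : K × K).swap = (ζ ^ ((q - 1) * i), ζ⁻¹ ^ ((q - 1) * i)) := by
      rw [Prod.swap_prod_mk, pow_mul, pow_mul, hinv, hinv']
    rw [this]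
    exact relR_gen ζ _
  | zero => exact (relR ζ).zero_mem
  | add x y _ _ hx hy => exact (relR ζ).add_mem hx hy
  | neg x _ hx => exact (relR ζ).neg_mem hx

theorem relR_fst_surj (hgen : ∀ S : Subring K, ζ ∈ S → S = ⊤) (k : K) :
    ∃ k' : K, (k, k') ∈ relR ζ := by
  let S : Subring K :=
    { carrier := {k | ∃ k' : K, (k, k') ∈ relR ζ}
      mul_mem' := by
        rintro a b ⟨a', ha⟩ ⟨b', hb⟩
        exact ⟨a' * b', relR_mul ζ ha hb⟩
      one_mem' := ⟨1, relR_one ζ⟩
      add_mem' := by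
        rintro a b ⟨a', ha⟩ ⟨b', hb⟩
        exact ⟨a' + b', (relR ζ).add_mem ha hb⟩
      zero_mem' := ⟨0, (relR ζ).zero_mem⟩
      neg_mem' := by
        rintro a ⟨a', ha⟩
        exact ⟨-a', (relR ζ).neg_mem ha⟩ }
  have hζS : ζ ∈ S := by
    refine ⟨ζ⁻¹, ?_⟩
    have := relR_gen ζ 1
    simpa using this
  have := hgen S hζS
  have hk : k ∈ S := by rw [this]; trivial
  exact hk

theorem relR_apply {p : ℕ} (l : K →+ ZMod p) (hl : ∀ i : ℕ, l (ζ ^ i) = - l (ζ⁻¹ ^ i))
    {z : K × K} (hz : z ∈ relR ζ) : l z.1 = - l z.2 := by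
  unfold relR at hz
  induction hz using AddSubgroup.closure_induction with
  | mem x hx =>
    obtain ⟨i, rfl⟩ := hx
    exact hl i
  | zero => simp
  | add x y _ _ hx hy =>
    rw [Prod.fst_add, Prod.snd_add, map_add, map_add, hx, hy, neg_add]
  | neg x _ hx =>
    rw [Prod.fst_neg, Prod.snd_neg, map_neg, map_neg, hx]

/-- case A -/
theorem relR_caseA {q : ℕ} (hq : 0 < q) (hζq : ζ ^ q = 1)
    (hgen : ∀ S : Subring K, ζ ∈ S → S = ⊤) {k₀ : K} (hk₀ : k₀ ≠ 0)
    (h0 : ((0 : K), k₀) ∈ relR ζ) (k : K) : ((0 : K), k) ∈ relR ζ := by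
  obtain ⟨u, hu⟩ := relR_fst_surj ζ hgen (k / k₀)
  have hu' := relR_swap ζ hq hζq hu
  rw [Prod.swap_prod_mk] at hu'
  have := relR_mul ζ h0 hu'
  rw [Prod.mk_mul_mk, zero_mul, mul_div_cancel₀ k hk₀] at this
  exact this

end Rel

section Dagger

variable {K : Type u} [Field K] (ζ : K)

/-- case B: `relR ζ` is the graph of a ring involution -/
theorem exists_dagger {q : ℕ} (hq : 0 < q) (hζq : ζ ^ q = 1)
    (hgen : ∀ S : Subring K, ζ ∈ S → S = ⊤)
    (hB : ∀ k : K, ((0 : K), k) ∈ relR ζ → k = 0) :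
    ∃ d : K →+* K, (∀ k, (k, d k) ∈ relR ζ) ∧ (∀ k, d (d k) = k) ∧ d ζ = ζ⁻¹ := by
  classical
  have huniq : ∀ k k₁ k₂ : K, (k, k₁) ∈ relR ζ → (k, k₂) ∈ relR ζ → k₁ = k₂ := by
    intro k k₁ k₂ h1 h2
    have := (relR ζ).sub_mem h1 h2
    rw [Prod.mk_sub_mk, sub_self] at this
    exact sub_eq_zero.mp (hB _ this)
  choose f hf using relR_fst_surj ζ hgen
  have hf' : ∀ k k' : K, (k, k') ∈ relR ζ → f k = k' := fun k k' h => huniq k _ _ (hf k) h
  let d : K →+* K :=
    { toFun := f
      map_one' := hf' 1 1 (relR_one ζ)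
      map_mul' := by
        intro a b
        apply hf'
        have := relR_mul ζ (hf a) (hf b)
        rwa [Prod.mk_mul_mk] at this
      map_zero' := hf' 0 0 (relR ζ).zero_mem
      map_add' := by
        intro a b
        apply hf'
        have := (relR ζ).add_mem (hf a) (hf b)
        rwa [Prod.mk_add_mk] at this }
  refine ⟨d, hf, ?_, ?_⟩
  · intro k
    apply hf'
    have := relR_swap ζ hq hζq (hf k)
    rwa [Prod.swap_prod_mk] at this
  · apply hf'
    have := relR_gen ζ 1
    rwa [pow_one, pow_one] at this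

/-- a ring involution `d ≠ id` of a finite field: `|K| = x ^ 2` and `|im (d + 1)| = x`. -/
theorem dagger_card [Finite K] (d : K →+* K) (hdd : ∀ k, d (d k) = k) (hne : ∃ g, d g ≠ g) :
    ∃ x : ℕ, Nat.card K = x ^ 2 ∧
      Nat.card (AddMonoidHom.range (d.toAddMonoidHom + AddMonoidHom.id K)) = x := by
  classical
  obtain ⟨g, hg⟩ := hne
  let N : K →+ K := d.toAddMonoidHom + AddMonoidHom.id K
  have hN : ∀ k, N k = d k + k := fun k => rfl
  let K₀ : AddSubgroup K := AddMonoidHom.ker (d.toAddMonoidHom - AddMonoidHom.id K)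
  have hK₀ : ∀ k, k ∈ K₀ ↔ d k = k := by
    intro k
    show d k - k = 0 ↔ d k = k
    exact sub_eq_zero
  have hKm : ∀ k, k ∈ N.ker ↔ d k = -k := by
    intro k
    show d k + k = 0 ↔ d k = -k
    exact add_eq_zero_iff_eq_neg
  -- (i)
  have h1 : Nat.card N.ker ≤ Nat.card K₀ := by
    by_cases hc : ∃ c ∈ N.ker, c ≠ 0
    · obtain ⟨c, hc, hc0⟩ := hc
      have hdc := (hKm c).mp hc
      apply Nat.card_le_card_of_injective
        (fun k : N.ker => (⟨(k : K) * c⁻¹, by
          rw [hK₀, map_mul, map_inv₀, (hKm k).mp k.2, hdc, inv_neg, neg_mul_neg]⟩ : K₀))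
      intro a b hab
      have := congrArg Subtype.val hab
      simp only at this
      exact Subtype.ext (mul_right_cancel₀ (inv_ne_zero hc0) this)
    · push Not at hc
      have hbot : N.ker = ⊥ := by
        rw [eq_bot_iff]
        intro c hcm
        rw [AddSubgroup.mem_bot]
        exact hc c hcm
      rw [hbot, AddSubgroup.card_bot]
      exact Nat.card_pos
  -- (ii)
  have h2 : Nat.card K₀ * Nat.card K₀ ≤ Nat.card K := by
    rw [← Nat.card_prod]
    apply Nat.card_le_card_of_injective (fun z : K₀ × K₀ => (z.1 : K) + (z.2 : K) * g)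
    rintro ⟨⟨a, ha⟩, ⟨b, hb⟩⟩ ⟨⟨a', ha'⟩, ⟨b', hb'⟩⟩ hab
    simp only at hab
    rw [hK₀] at ha hb ha' hb'
    have hbb : b = b' := by
      by_contra hne
      apply hg
      have hsub : b - b' ≠ 0 := sub_ne_zero.mpr hne
      have hgeq : g = (a' - a) / (b - b') := by
        rw [eq_div_iff hsub]
        linear_combination hab
      rw [hgeq, map_div₀, map_sub, map_sub, ha, ha', hb, hb']
    subst hbb
    have haa : a = a' := by
      have := add_right_cancel hab
      exact this
    subst haa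
    rfl
  -- (iii)
  have h3 : Nat.card N.ker * Nat.card N.range = Nat.card K := by
    rw [← AddSubgroup.index_ker]
    exact AddSubgroup.card_mul_index N.ker
  -- (iv)
  have h4 : Nat.card N.range ≤ Nat.card K₀ := by
    apply AddSubgroup.card_le_of_le
    rintro _ ⟨k, rfl⟩
    rw [hK₀, hN, map_add, hdd, add_comm]
  have hpos : 0 < Nat.card K₀ := Nat.card_pos
  refine ⟨Nat.card K₀, ?_, ?_⟩
  · rw [sq]
    apply le_antisymm _ h2
    rw [← h3]
    exact Nat.mul_le_mul h1 h4
  · apply le_antisymm h4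
    have : Nat.card K₀ * Nat.card K₀ ≤ Nat.card K₀ * Nat.card N.range := by
      calc Nat.card K₀ * Nat.card K₀ ≤ Nat.card K := h2
        _ = Nat.card N.ker * Nat.card N.range := h3.symm
        _ ≤ Nat.card K₀ * Nat.card N.range := Nat.mul_le_mul_right _ h1
    exact Nat.le_of_mul_le_mul_left this hpos

end Dagger

section Count

variable (p q : ℕ) [Fact p.Prime] [Fact q.Prime]

/-- LA2a (field level): the additive functionals `l` with `l(ζ^i) = -l(ζ^{-i})`. -/
theorem field_count (hpq : p ≠ q) {K : Type u} [Field K] [Finite K] [CharP K p] (ζ : K)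
    (hζq : ζ ^ q = 1) (hζ1 : ζ ≠ 1) (hgen : ∀ S : Subring K, ζ ∈ S → S = ⊤) :
    Nat.card {l : K →+ ZMod p // ∀ i : ℕ, l (ζ ^ i) = - l (ζ⁻¹ ^ i)} ≤
      p ^ (a0 p q - orderOf (p : ZMod q)) := by
  classical
  have hp : p.Prime := Fact.out
  have hq0 : 0 < q := (Fact.out : q.Prime).pos
  haveI : Finite (K →+ ZMod p) :=
    Finite.of_injective (fun f : K →+ ZMod p => (f : K → ZMod p)) DFunLike.coe_injective
  have hζ0 : ζ ≠ 0 := by
    intro h0
    rw [h0, zero_pow hq0.ne'] at hζq
    exact zero_ne_one hζq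
  -- the trivial case
  have htriv : (∀ l : {l : K →+ ZMod p // ∀ i : ℕ, l (ζ ^ i) = - l (ζ⁻¹ ^ i)}, ∀ k, l.1 k = 0) →
      Nat.card {l : K →+ ZMod p // ∀ i : ℕ, l (ζ ^ i) = - l (ζ⁻¹ ^ i)} ≤
        p ^ (a0 p q - orderOf (p : ZMod q)) := by
    intro h0
    have hsub : Subsingleton {l : K →+ ZMod p // ∀ i : ℕ, l (ζ ^ i) = - l (ζ⁻¹ ^ i)} := by
      refine ⟨fun l l' => ?_⟩
      apply Subtype.ext
      apply AddMonoidHom.ext
      intro k
      rw [h0 l k, h0 l' k]
    exact le_trans (Finite.card_le_one_iff_subsingleton.mpr hsub) (Nat.one_le_pow _ _ hp.pos)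
  by_cases hA : ∃ k₀ : K, k₀ ≠ 0 ∧ ((0 : K), k₀) ∈ relR ζ
  · -- case A
    obtain ⟨k₀, hk₀, h0⟩ := hA
    apply htriv
    intro l k
    have := relR_apply ζ l.1 l.2 (relR_caseA ζ hq0 hζq hgen hk₀ h0 k)
    simp only [map_zero] at this
    exact neg_eq_zero.mp this.symm
  · -- case B
    have hB : ∀ k : K, ((0 : K), k) ∈ relR ζ → k = 0 := by
      intro k hk
      by_contra hk0
      exact hA ⟨k, hk0, hk⟩
    obtain ⟨d, hd, hdd, hdζ⟩ := exists_dagger ζ hq0 hζq hgen hB
    have hld : ∀ l : {l : K →+ ZMod p // ∀ i : ℕ, l (ζ ^ i) = - l (ζ⁻¹ ^ i)}, ∀ k,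
        l.1 (d k) = - l.1 k := by
      intro l k
      have := relR_apply ζ l.1 l.2 (hd k)
      simp only at this
      rw [this, neg_neg]
    by_cases hid : ∀ g, d g = g
    · -- `d = id`
      apply htriv
      intro l k
      have hζζ : ζ⁻¹ = ζ := by rw [← hdζ, hid]
      have h1 : ζ * ζ = 1 := by
        nth_rewrite 1 [← hζζ]
        exact inv_mul_cancel₀ hζ0
      have h2 : (ζ - 1) * (ζ + 1) = 0 := by ring_nf; rw [sq, h1]; ring
      have h3 : ζ = -1 := by
        rcases mul_eq_zero.mp h2 with h | h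
        · exact absurd (sub_eq_zero.mp h) hζ1
        · exact eq_neg_of_add_eq_zero_left h
      have hp2 : p ≠ 2 := by
        intro hp2
        apply hζ1
        have h4 : ((p : ℕ) : K) = 0 := CharP.cast_eq_zero K p
        rw [hp2] at h4
        have h5 : (1 : K) + 1 = 0 := by
          have : ((2 : ℕ) : K) = 1 + 1 := by norm_num
          rw [← this]; exact h4
        rw [h3]
        exact (eq_neg_of_add_eq_zero_left h5).symm
      have h6 : l.1 k = - l.1 k := by
        have := hld l k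
        rwa [hid] at this
      have h7 : (2 : ZMod p) * l.1 k = 0 := by
        rw [two_mul]
        nth_rewrite 1 [h6]
        exact neg_add_cancel _
      have h8 : (2 : ZMod p) ≠ 0 := by
        intro h20
        have : ((2 : ℕ) : ZMod p) = 0 := by exact_mod_cast h20
        rw [ZMod.natCast_eq_zero_iff] at this
        have hle := Nat.le_of_dvd (by norm_num) this
        have := hp.two_le
        omega
      rcases mul_eq_zero.mp h7 with h | h
      · exact absurd h h8
      · exact h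
    · -- `d ≠ id`
      push Not at hid
      obtain ⟨x, hx2, hxI⟩ := dagger_card d hdd hid
      have hK : Nat.card K = p ^ orderOf (p : ZMod q) := field_card p q hpq ζ hζq hζ1 hgen
      have hxpos : 0 < x := by
        rcases Nat.eq_zero_or_pos x with h | h
        · exfalso
          rw [h] at hx2
          have : 0 < Nat.card K := Nat.card_pos
          rw [hx2] at this
          norm_num at this
        · exact h
      -- `x = p ^ s`, `a = 2 s`
      have hxdvd : x ∣ p ^ orderOf (p : ZMod q) := by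
        rw [← hK, hx2, sq]
        exact dvd_mul_right x x
      obtain ⟨s, -, hs⟩ := (Nat.dvd_prime_pow hp).mp hxdvd
      have ha2 : orderOf (p : ZMod q) = 2 * s := by
        have : p ^ orderOf (p : ZMod q) = p ^ (2 * s) := by
          rw [← hK, hx2, hs, ← pow_mul, mul_comm]
        exact Nat.pow_right_injective hp.two_le this
      have ha0 : a0 p q - orderOf (p : ZMod q) = s := by
        unfold a0
        rw [ha2]
        have : 2 * s % 2 ≠ 1 := by omega
        rw [if_neg this]
        omega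
      rw [ha0]
      -- the count
      let I : AddSubgroup K := AddMonoidHom.range (d.toAddMonoidHom + AddMonoidHom.id K)
      have hkill : ∀ l : {l : K →+ ZMod p // ∀ i : ℕ, l (ζ ^ i) = - l (ζ⁻¹ ^ i)},
          I ≤ l.1.ker := by
        rintro l _ ⟨k, rfl⟩
        rw [AddMonoidHom.mem_ker]
        show l.1 (d k + k) = 0
        rw [map_add, hld l k, neg_add_cancel]
      let Φ : {l : K →+ ZMod p // ∀ i : ℕ, l (ζ ^ i) = - l (ζ⁻¹ ^ i)} → (K ⧸ I →+ ZMod p) :=
        fun l => QuotientAddGroup.lift I l.1 (hkill l)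
      have hΦ : Function.Injective Φ := by
        intro l l' hll'
        apply Subtype.ext
        apply AddMonoidHom.ext
        intro k
        have := congrArg (fun f : K ⧸ I →+ ZMod p => f (k : K ⧸ I)) hll'
        exact this
      haveI : Finite (K ⧸ I →+ ZMod p) :=
        Finite.of_injective (fun f : K ⧸ I →+ ZMod p => (f : K ⧸ I → ZMod p))
          DFunLike.coe_injective
      have hexp : ∀ z : K ⧸ I, p • z = 0 := by
        intro z
        induction z using QuotientAddGroup.induction_on with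
        | H k =>
          rw [← QuotientAddGroup.mk_nsmul, nsmul_eq_mul, CharP.cast_eq_zero K p, zero_mul]
          rfl
      have hcard : Nat.card (K ⧸ I →+ ZMod p) = p ^ s := by
        rw [card_addHom_zmod p hexp, ← AddSubgroup.index_eq_card]
        have h1 := AddSubgroup.index_mul_card I
        rw [hxI, hx2, sq] at h1
        rw [← hs]
        exact Nat.eq_of_mul_eq_mul_right hxpos h1
      rw [← hcard]
      exact Nat.card_le_card_of_injective Φ hΦ

end Count

end Cfsg.Agent.Lib.Lead.Sch
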