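import Mathlib
import Cfsg.Agent.Lib.Lead.SchDefs
import Cfsg.Agent.Lib.Helper7.SchLA0
import Cfsg.Agent.Lib.Helper7.SchLA3

/-!
# S4395, package LA2b: `alt_count` from the field-level count

The invariant alternating forms `β` on an `IrrMod` `(V, T)` inject into the additive functionals
`l` on the coordinate field `K` with `l (ζ ^ i) = - l (ζ⁻¹ ^ i)`, via `l k = β (e 1) (e k)`.
-/

set_option autoImplicit false

universe u

namespace Cfsg.Agent.Lib.Lead.Sch

/-- the statement of package LA2a -/
def FieldCountStatement (p q : ℕ) : Prop :=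
  ∀ {K : Type u} [Field K] [Finite K] [CharP K p] (ζ : K), ζ ^ q = 1 → ζ ≠ 1 →
    (∀ S : Subring K, ζ ∈ S → S = ⊤) →
    Nat.card {l : K →+ ZMod p // ∀ i : ℕ, l (ζ ^ i) = - l (ζ⁻¹ ^ i)} ≤
      p ^ (a0 p q - orderOf (p : ZMod q))

section
variable {V : Type u} [AddCommGroup V] [Finite V] (p q : ℕ) [Fact p.Prime] [Fact q.Prime]

/-- invariance under iterates -/
theorem inv_iterate (T : V ≃+ V) (β : V →+ V →+ ZMod p)
    (hinv : ∀ v w, β (T v) (T w) = β v w) (i : ℕ) (v w : V) :
    β ((⇑T)^[i] v) ((⇑T)^[i] w) = β v w := by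
  induction i generalizing v w with
  | zero => rfl
  | succ i ih => rw [Function.iterate_succ_apply, Function.iterate_succ_apply, ih, hinv]

/-- skew-symmetry of an alternating form -/
theorem skew_of_alt (β : V →+ V →+ ZMod p) (halt : ∀ v, β v v = 0) (v w : V) :
    β v w = - β w v := by
  have h := halt (v + w)
  simp only [map_add, AddMonoidHom.add_apply, halt, zero_add, add_zero] at h
  exact eq_neg_of_add_eq_zero_right h

/-- LA2b: `alt_count` from the field count. -/
theorem alt_count_of (hfc : FieldCountStatement.{u} p q) (hpq : p ≠ q) (T : V ≃+ V)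
    (h : IrrMod p q V T) :
    Nat.card {β : V →+ V →+ ZMod p // (∀ v, β v v = 0) ∧ ∀ v w, β (T v) (T w) = β v w} ≤
      p ^ (a0 p q - orderOf (p : ZMod q)) := by
  classical
  obtain ⟨K, hF, hfin, ζ, e, hchar, hζq, hζ1, he, hgen⟩ := coord p q hpq T h
  refine le_trans ?_ (hfc ζ hζq hζ1 hgen)
  have hζ0 : ζ ≠ 0 := by
    intro h0
    rw [h0, zero_pow (Fact.out : q.Prime).ne_zero] at hζq
    exact zero_ne_one hζq
  have he1 : e 1 ≠ 0 := by
    intro h0
    have : (1 : K) = 0 := e.injective (by rw [h0, map_zero])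
    exact one_ne_zero this
  have : Finite (K →+ ZMod p) :=
    Finite.of_injective (fun f : K →+ ZMod p => (f : K → ZMod p)) DFunLike.coe_injective
  -- the map
  let Φ : {β : V →+ V →+ ZMod p // (∀ v, β v v = 0) ∧ ∀ v w, β (T v) (T w) = β v w} →
      {l : K →+ ZMod p // ∀ i : ℕ, l (ζ ^ i) = - l (ζ⁻¹ ^ i)} := fun β =>
    ⟨(β.1 (e 1)).comp e.toAddMonoidHom, by
      intro i
      show β.1 (e 1) (e (ζ ^ i)) = - β.1 (e 1) (e (ζ⁻¹ ^ i))
      have h1 : e (ζ ^ i) = (⇑T)^[i] (e 1) := by
        have := coord_pow_mul T ζ e he i 1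
        rwa [mul_one] at this
      have h2 : e 1 = (⇑T)^[i] (e (ζ⁻¹ ^ i)) := by
        have := coord_pow_mul T ζ e he i (ζ⁻¹ ^ i)
        rw [← mul_pow, mul_inv_cancel₀ hζ0, one_pow] at this
        exact this
      rw [h1]
      nth_rewrite 1 [h2]
      rw [inv_iterate p T β.1 β.2.2, skew_of_alt p β.1 β.2.1]⟩
  have hΦ : Function.Injective Φ := by
    intro β β' hββ'
    have hl : ∀ v, β.1 (e 1) v = β'.1 (e 1) v := by
      intro v
      obtain ⟨k, rfl⟩ := e.surjective v
      have := congrArg (fun l => l.1 k) hββ'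
      exact this
    -- the subgroup where `β` and `β'` agree
    let N : AddSubgroup V :=
      { carrier := {u | ∀ v, β.1 u v = β'.1 u v}
        zero_mem' := by
          intro v
          simp
        add_mem' := by
          intro a b ha hb v
          show β.1 (a + b) v = β'.1 (a + b) v
          rw [map_add, map_add, AddMonoidHom.add_apply, AddMonoidHom.add_apply, ha v, hb v]
        neg_mem' := by
          intro a ha v
          show β.1 (-a) v = β'.1 (-a) v
          rw [map_neg, map_neg, AddMonoidHom.neg_apply, AddMonoidHom.neg_apply, ha v] }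
    have hN := h.irr N (by
      intro u hu v
      obtain ⟨v', rfl⟩ := T.surjective v
      rw [β.2.2, β'.2.2]
      exact hu v')
    rcases hN with hbot | htop
    · exfalso
      apply he1
      have : e 1 ∈ N := hl
      rw [hbot, AddSubgroup.mem_bot] at this
      exact this
    · apply Subtype.ext
      apply AddMonoidHom.ext
      intro u
      apply AddMonoidHom.ext
      intro v
      have : u ∈ N := by rw [htop]; trivial
      exact this v
  exact Nat.card_le_card_of_injective Φ hΦ

end

end Cfsg.Agent.Lib.Lead.Sch
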