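import Mathlib
import Cfsg.Agent.Lib.Lead.SchDefs
import Cfsg.Agent.Lib.Helper7.SchLA2a
import Cfsg.Agent.Lib.Helper7.SchLA2b

/-!
# S4395, package LA2: `alt_count` (exact stub signature)
-/

set_option autoImplicit false

universe u

namespace Cfsg.Agent.Lib.Lead.Sch

section
variable {V : Type u} [AddCommGroup V] [Finite V] (p q : ℕ) [Fact p.Prime] [Fact q.Prime]

/-- LA2: the number of invariant alternating forms on an `IrrMod`. -/
theorem alt_count (hpq : p ≠ q) (T : V ≃+ V) (h : IrrMod p q V T) :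
    Nat.card {β : V →+ V →+ ZMod p // (∀ v, β v v = 0) ∧ ∀ v w, β (T v) (T w) = β v w} ≤
      p ^ (a0 p q - orderOf (p : ZMod q)) :=
  alt_count_of p q (fun ζ h1 h2 h3 => field_count p q hpq ζ h1 h2 h3) hpq T h

end

end Cfsg.Agent.Lib.Lead.Sch
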