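import Mathlib
import Cfsg.Prelude.Def_GeometricClasses
import Cfsg.Agent.Lib.Helper1.SpBasic
import Cfsg.Agent.Lib.Helper2.Symp4
import Cfsg.Agent.Lib.Helper7.SubgDefs

set_option autoImplicit false
set_option linter.unusedSectionVars false

/-!
# S5650 (subfield groups are maximal in `Sp_2m`): definitions and basic calculus

We work in Mathlib's `Matrix.symplecticGroup (Fin m) F` with the API of `Helper1.SpBasic` (`T v c` = the symplectic
transvection `x ↦ x + c B(x,v) v`, `conj_T`, `ext_mulVec`, ...), `B = Cfsg.sympForm m F`.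
`sig u u' a` = the short root element `x ↦ x + a B(x,u') u + a B(x,u) u'` (for `B(u,u') = 0`), defined as a product of
transvections so that membership in a subgroup is immediate.
Rational vectors / matrices: `Subg.Rat`, `Subg.RatMat`, `Subg.InN` at `ι = Fin m ⊕ Fin m`.
-/

namespace Cfsg.Agent.Lib.Helper7.SpSub

open Matrix Cfsg.Agent.Lib.Helper1.SpBasic Cfsg.Agent.Lib.Helper2.Symp Cfsg.Agent.Lib.Helper7.Subg

variable {F : Type*} [Field F] {m : ℕ}

/-! ## definitions -/

/-- `M` contains the rational symplectic transvections -/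
def HasRatT (F₀ : Subfield F) (M : Subgroup (Matrix.symplecticGroup (Fin m) F)) : Prop :=
  ∀ v : Fin m ⊕ Fin m → F, Rat F₀ v → ∀ c ∈ F₀, T v c ∈ M

/-- the coefficient set of the long root groups of `M` at rational vectors -/
def AL (F₀ : Subfield F) (M : Subgroup (Matrix.symplecticGroup (Fin m) F)) : Set F :=
  {a | ∀ v : Fin m ⊕ Fin m → F, Rat F₀ v → T v a ∈ M}

/-- the long root groups of `M` at rational vectors are rational -/
def SSl (F₀ : Subfield F) (M : Subgroup (Matrix.symplecticGroup (Fin m) F)) : Prop :=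
  ∀ (v : Fin m ⊕ Fin m → F) (a : F), Rat F₀ v → v ≠ 0 → T v a ∈ M → a ∈ F₀

/-- the short root element `x ↦ x + a B(x,u') u + a B(x,u) u'` (when `B(u,u') = 0`) -/
def sig (u u' : Fin m ⊕ Fin m → F) (a : F) : Matrix.symplecticGroup (Fin m) F :=
  T (u + u') a * (T u (-a) * T u' (-a))

/-- the group generated by the rational transvections (a copy of `Sp_2m(F₀)`) -/
def RR (F₀ : Subfield F) : Subgroup (Matrix.symplecticGroup (Fin m) F) :=
  Subgroup.closure {A | ∃ (v : Fin m ⊕ Fin m → F) (c : F), Rat F₀ v ∧ c ∈ F₀ ∧ A = T v c}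

/-- KEY LEMMA: an element `sig v z α * T v β` of `M` at a rational orthogonal independent pair is rational -/
def KL (F₀ : Subfield F) (M : Subgroup (Matrix.symplecticGroup (Fin m) F)) : Prop :=
  ∀ (v z : Fin m ⊕ Fin m → F) (α β : F), Rat F₀ v → Rat F₀ z → Cfsg.sympForm m F v z = 0 → Indep v z →
    sig v z α * T v β ∈ M → α ∈ F₀ ∧ β ∈ F₀

/-- RANK LEMMA: a transvection of `M` whose centre is orthogonal to a non-zero rational vector has a
(projectively) rational centre -/
def RLs (F₀ : Subfield F) (M : Subgroup (Matrix.symplecticGroup (Fin m) F)) : Prop :=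
  ∀ (w u : Fin m ⊕ Fin m → F), Rat F₀ u → u ≠ 0 → Cfsg.sympForm m F w u = 0 → T w 1 ∈ M →
    ∃ c : F, c ≠ 0 ∧ Rat F₀ (c • w)

/-- STABILISER LEMMA: an element of `M` mapping a rational point to a rational point is a scalar times a rational
matrix -/
def SL3s (F₀ : Subfield F) (M : Subgroup (Matrix.symplecticGroup (Fin m) F)) : Prop :=
  ∀ g ∈ M, ∀ (v₁ v₂ : Fin m ⊕ Fin m → F) (lam : F), Rat F₀ v₁ → Rat F₀ v₂ → v₁ ≠ 0 → lam ≠ 0 →
    (g : Matrix (Fin m ⊕ Fin m) (Fin m ⊕ Fin m) F) *ᵥ v₁ = lam • v₂ →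
    RatMat F₀ (lam⁻¹ • (g : Matrix (Fin m ⊕ Fin m) (Fin m ⊕ Fin m) F))

/-- NO-KILL LEMMA: an element of `M` mapping a non-zero rational vector into a rational hyperplane lies in `N` -/
def NKs (F₀ : Subfield F) (M : Subgroup (Matrix.symplecticGroup (Fin m) F)) : Prop :=
  ∀ g ∈ M, ∀ (u v : Fin m ⊕ Fin m → F), Rat F₀ u → Rat F₀ v → u ≠ 0 → v ≠ 0 →
    Cfsg.sympForm m F ((g : Matrix (Fin m ⊕ Fin m) (Fin m ⊕ Fin m) F) *ᵥ v) u = 0 →
    InN F₀ (g : Matrix (Fin m ⊕ Fin m) (Fin m ⊕ Fin m) F)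

/-! ## the short root elements -/

theorem sig_mulVec (u u' : Fin m ⊕ Fin m → F) (h : Cfsg.sympForm m F u u' = 0) (a : F)
    (x : Fin m ⊕ Fin m → F) :
    ((sig u u' a : Matrix.symplecticGroup (Fin m) F) : Matrix (Fin m ⊕ Fin m) (Fin m ⊕ Fin m) F) *ᵥ x =
      x + (a * Cfsg.sympForm m F x u') • u + (a * Cfsg.sympForm m F x u) • u' := by
  have h' : Cfsg.sympForm m F u' u = 0 := by rw [sympForm_swap, h, neg_zero]
  rw [sig, coe_mul_mulVec, T_mul_T_mulVec u u' h, T_mulVec]
  simp only [sympForm_add_left, sympForm_add_right, sympForm_smul_left, sympForm_self, h, h', mul_zero,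
    add_zero]
  module

theorem sig_mem {M : Subgroup (Matrix.symplecticGroup (Fin m) F)} {u u' : Fin m ⊕ Fin m → F} {a : F}
    (h1 : T (u + u') a ∈ M) (h2 : T u a ∈ M) (h3 : T u' a ∈ M) : sig u u' a ∈ M := by
  refine M.mul_mem h1 (M.mul_mem ?_ ?_)
  · rw [← T_inv]; exact M.inv_mem h2
  · rw [← T_inv]; exact M.inv_mem h3

/-- conjugating a short root element -/
theorem conj_sig (A : Matrix.symplecticGroup (Fin m) F) (u u' : Fin m ⊕ Fin m → F) (a : F) :
    A * sig u u' a * A⁻¹ =
      sig ((A : Matrix (Fin m ⊕ Fin m) (Fin m ⊕ Fin m) F) *ᵥ u)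
        ((A : Matrix (Fin m ⊕ Fin m) (Fin m ⊕ Fin m) F) *ᵥ u') a := by
  have e : A * sig u u' a * A⁻¹ =
      (A * T (u + u') a * A⁻¹) * ((A * T u (-a) * A⁻¹) * (A * T u' (-a) * A⁻¹)) := by
    rw [sig]; group
  rw [e, conj_T, conj_T, conj_T, Matrix.mulVec_add, sig]

theorem sig_symm (u u' : Fin m ⊕ Fin m → F) (h : Cfsg.sympForm m F u u' = 0) (a : F) :
    sig u u' a = sig u' u a := by
  have h' : Cfsg.sympForm m F u' u = 0 := by rw [sympForm_swap, h, neg_zero]
  apply ext_mulVec
  intro x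
  rw [sig_mulVec u u' h, sig_mulVec u' u h']
  abel

theorem sig_smul_right (u u' : Fin m ⊕ Fin m → F) (h : Cfsg.sympForm m F u u' = 0) (k a : F) :
    sig u (k • u') a = sig u u' (k * a) := by
  have h1 : Cfsg.sympForm m F u (k • u') = 0 := by rw [sympForm_smul_right, h, mul_zero]
  apply ext_mulVec
  intro x
  rw [sig_mulVec u _ h1, sig_mulVec u u' h, sympForm_smul_right]
  module

theorem sig_smul_left (u u' : Fin m ⊕ Fin m → F) (h : Cfsg.sympForm m F u u' = 0) (k a : F) :
    sig (k • u) u' a = sig u u' (k * a) := by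
  have h1 : Cfsg.sympForm m F (k • u) u' = 0 := by rw [sympForm_smul_left, h, mul_zero]
  apply ext_mulVec
  intro x
  rw [sig_mulVec _ u' h1, sig_mulVec u u' h, sympForm_smul_right]
  module

theorem sig_zero (u u' : Fin m ⊕ Fin m → F) : sig u u' (0 : F) = 1 := by
  rw [sig, neg_zero, T_zero, T_zero, T_zero, mul_one, mul_one]

theorem sig_zero_right (u : Fin m ⊕ Fin m → F) (a : F) : sig u (0 : Fin m ⊕ Fin m → F) a = 1 := by
  rw [sig, add_zero, T_zero_left, mul_one, ← T_inv, mul_inv_cancel]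

/-- the long root element splits along an orthogonal decomposition of its centre -/
theorem T_add_eq (u u' : Fin m ⊕ Fin m → F) (a : F) :
    T (u + u') a = sig u u' a * (T u' a * T u a) := by
  rw [sig]
  have e1 : T u (-a) = (T u a)⁻¹ := (T_inv u a).symm
  have e2 : T u' (-a) = (T u' a)⁻¹ := (T_inv u' a).symm
  rw [e1, e2]
  group

/-- the one-parameter group `a ↦ sig u u' a` -/
theorem sig_add (u u' : Fin m ⊕ Fin m → F) (h : Cfsg.sympForm m F u u' = 0) (a b : F) :
    sig u u' a * sig u u' b = sig u u' (a + b) := by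
  have h' : Cfsg.sympForm m F u' u = 0 := by rw [sympForm_swap, h, neg_zero]
  apply ext_mulVec
  intro x
  rw [coe_mul_mulVec, sig_mulVec u u' h, sig_mulVec u u' h, sig_mulVec u u' h]
  simp only [sympForm_add_left, sympForm_smul_left, sympForm_self, h, h', mul_zero, add_zero]
  module

theorem sig_inv (u u' : Fin m ⊕ Fin m → F) (h : Cfsg.sympForm m F u u' = 0) (a : F) :
    (sig u u' a)⁻¹ = sig u u' (-a) := by
  rw [inv_eq_iff_mul_eq_one, sig_add u u' h, add_neg_cancel, sig_zero]

/-- multiplication in the unipotent radical `Q_v` -/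
theorem sig_mul_sig (v y₁ y₂ : Fin m ⊕ Fin m → F) (h1 : Cfsg.sympForm m F v y₁ = 0)
    (h2 : Cfsg.sympForm m F v y₂ = 0) (a : F) :
    sig v y₁ a * sig v y₂ a = sig v (y₁ + y₂) a * T v (a * a * Cfsg.sympForm m F y₂ y₁) := by
  have h1' : Cfsg.sympForm m F y₁ v = 0 := by rw [sympForm_swap, h1, neg_zero]
  have h2' : Cfsg.sympForm m F y₂ v = 0 := by rw [sympForm_swap, h2, neg_zero]
  have h3 : Cfsg.sympForm m F v (y₁ + y₂) = 0 := by rw [sympForm_add_right, h1, h2, add_zero]
  apply ext_mulVec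
  intro x
  rw [coe_mul_mulVec, coe_mul_mulVec, sig_mulVec v y₂ h2, sig_mulVec v y₁ h1, T_mulVec, sig_mulVec v _ h3]
  simp only [sympForm_add_left, sympForm_add_right, sympForm_smul_left, sympForm_self, h1, h2, h2',
    mul_zero, add_zero]
  module

/-- `T v c` is central in `Q_v` -/
theorem T_mul_sig_comm (v y : Fin m ⊕ Fin m → F) (h : Cfsg.sympForm m F v y = 0) (a c : F) :
    T v c * sig v y a = sig v y a * T v c := by
  have h' : Cfsg.sympForm m F y v = 0 := by rw [sympForm_swap, h, neg_zero]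
  apply ext_mulVec
  intro x
  rw [coe_mul_mulVec, coe_mul_mulVec, sig_mulVec v y h, T_mulVec, T_mulVec, sig_mulVec v y h]
  simp only [sympForm_add_left, sympForm_smul_left, sympForm_self, h, h', mul_zero, add_zero]
  module

/-- the commutator of a short root element with a long root element -/
theorem sig_T_comm (u u' z : Fin m ⊕ Fin m → F) (h : Cfsg.sympForm m F u u' = 0)
    (hz : Cfsg.sympForm m F z u = 0) (a b : F) :
    sig u u' a * T z b * (sig u u' a)⁻¹ * (T z b)⁻¹ =
      sig z u (a * Cfsg.sympForm m F z u' * b) *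
        T u (a * Cfsg.sympForm m F z u' * (a * Cfsg.sympForm m F z u') * b) := by
  have hz' : Cfsg.sympForm m F u z = 0 := by rw [sympForm_swap, hz, neg_zero]
  rw [conj_T, sig_mulVec u u' h, hz, mul_zero, zero_smul, add_zero]
  set k : F := a * Cfsg.sympForm m F z u' with hk
  rw [T_add_eq z (k • u) b, mul_assoc, mul_assoc, mul_inv_cancel, mul_one, T_smul,
    sig_smul_right z u hz]

end Cfsg.Agent.Lib.Helper7.SpSub
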