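import Mathlib
import Cfsg.Prelude.Def_GeometricClasses
import Cfsg.Agent.Lib.Helper7.SpSubDefs

set_option autoImplicit false
set_option linter.unusedSectionVars false

/-!
# S5650, package PK-TR: the rational transvections act transitively on non-zero rational vectors and on rational
orthogonal independent pairs
-/

namespace Cfsg.Agent.Lib.Helper7.SpSub

open Matrix Cfsg.Agent.Lib.Helper1.SpBasic Cfsg.Agent.Lib.Helper2.Symp Cfsg.Agent.Lib.Helper7.Subg

variable {F : Type*} [Field F] {m : ℕ}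

namespace PkTR

/-- the partner index -/
def pr : Fin m ⊕ Fin m → Fin m ⊕ Fin m
  | Sum.inl i => Sum.inr i
  | Sum.inr i => Sum.inl i

theorem pr_pr (k : Fin m ⊕ Fin m) : pr (pr k) = k := by
  rcases k with k | k <;> rfl

theorem pr_ne (k : Fin m ⊕ Fin m) : pr k ≠ k := by
  rcases k with k | k <;> simp [pr]

/-- the form against a basis vector -/
theorem form_single (x : Fin m ⊕ Fin m → F) (k : Fin m ⊕ Fin m) :
    Cfsg.sympForm m F x (Pi.single (pr k) 1) = x k ∨ Cfsg.sympForm m F x (Pi.single (pr k) 1) = - x k := by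
  rcases k with k | k
  · right; exact sympForm_single_inr x k
  · left; exact sympForm_single_inl x k

theorem form_single_ne_zero (x : Fin m ⊕ Fin m → F) (k : Fin m ⊕ Fin m) (h : x k ≠ 0) :
    Cfsg.sympForm m F x (Pi.single (pr k) 1) ≠ 0 := by
  rcases form_single x k with e | e <;> rw [e]
  · exact h
  · exact neg_ne_zero.mpr h

theorem form_single_eq_zero (x : Fin m ⊕ Fin m → F) (k : Fin m ⊕ Fin m) (h : x k = 0) :
    Cfsg.sympForm m F x (Pi.single (pr k) 1) = 0 := by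
  rcases form_single x k with e | e <;> rw [e, h]
  exact neg_zero

theorem rat_J {F₀ : Subfield F} {v : Fin m ⊕ Fin m → F} (hv : Rat F₀ v) :
    Rat F₀ (Matrix.J (Fin m) F *ᵥ v) := by
  intro k
  rcases k with k | k
  · rw [J_mulVec_apply_inl]; exact F₀.neg_mem (hv _)
  · rw [J_mulVec_apply_inr]; exact hv _

theorem form_zero_left' (x : Fin m ⊕ Fin m → F) : Cfsg.sympForm m F 0 x = 0 := by
  unfold Cfsg.sympForm; rw [zero_dotProduct]

/-- three candidates, one of which is non-orthogonal to both -/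
theorem both_ne (a b y₁ y₂ : Fin m ⊕ Fin m → F) (h1 : Cfsg.sympForm m F a y₁ ≠ 0)
    (h2 : Cfsg.sympForm m F b y₂ ≠ 0) :
    ∃ y, (y = y₁ ∨ y = y₂ ∨ y = y₁ + y₂) ∧ Cfsg.sympForm m F a y ≠ 0 ∧ Cfsg.sympForm m F b y ≠ 0 := by
  by_cases h3 : Cfsg.sympForm m F b y₁ = 0
  · by_cases h4 : Cfsg.sympForm m F a y₂ = 0
    · refine ⟨y₁ + y₂, Or.inr (Or.inr rfl), ?_, ?_⟩
      · rw [sympForm_add_right, h4, add_zero]; exact h1
      · rw [sympForm_add_right, h3, zero_add]; exact h2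
    · exact ⟨y₂, Or.inr (Or.inl rfl), h4, h2⟩
  · exact ⟨y₁, Or.inl rfl, h1, h3⟩

theorem step_mulVec (x y : Fin m ⊕ Fin m → F) (h : Cfsg.sympForm m F x y ≠ 0) :
    ((T (x - y) (Cfsg.sympForm m F x y)⁻¹ : Matrix.symplecticGroup (Fin m) F) :
      Matrix (Fin m ⊕ Fin m) (Fin m ⊕ Fin m) F) *ᵥ x = y := by
  rw [T_mulVec, sympForm_sub_right, sympForm_self, zero_sub, mul_neg, inv_mul_cancel₀ h, neg_one_smul]
  abel

theorem step_fix (x y t : Fin m ⊕ Fin m → F) (c : F) (h1 : Cfsg.sympForm m F t x = 0)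
    (h2 : Cfsg.sympForm m F t y = 0) :
    ((T (x - y) c : Matrix.symplecticGroup (Fin m) F) :
      Matrix (Fin m ⊕ Fin m) (Fin m ⊕ Fin m) F) *ᵥ t = t := by
  rw [T_mulVec, sympForm_sub_right, h1, h2, sub_zero, mul_zero, zero_smul, add_zero]

end PkTR

open PkTR

theorem ratMat_T {F₀ : Subfield F} {v : Fin m ⊕ Fin m → F} {c : F} (hv : Rat F₀ v) (hc : c ∈ F₀) :
    RatMat F₀ ((T v c : Matrix.symplecticGroup (Fin m) F) : Matrix (Fin m ⊕ Fin m) (Fin m ⊕ Fin m) F) := by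
  intro i j
  rw [T_coe, Cfsg.sympTransvection, Matrix.add_apply, Matrix.smul_apply, vecMulVec_apply]
  exact F₀.add_mem (RatMat.one F₀ i j) (F₀.mul_mem hc (F₀.mul_mem (hv i) (rat_J hv j)))

theorem rat_form {F₀ : Subfield F} {x y : Fin m ⊕ Fin m → F} (hx : Rat F₀ x) (hy : Rat F₀ y) :
    Cfsg.sympForm m F x y ∈ F₀ := Rat.dot hx (rat_J hy)

theorem rr_le {F₀ : Subfield F} {M : Subgroup (Matrix.symplecticGroup (Fin m) F)} (hT : HasRatT F₀ M) :
    RR F₀ ≤ M := by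
  rw [RR, Subgroup.closure_le]
  rintro A ⟨v, c, hv, hc, rfl⟩
  exact hT v hv c hc

theorem T_mem_rr {F₀ : Subfield F} {v : Fin m ⊕ Fin m → F} {c : F} (hv : Rat F₀ v) (hc : c ∈ F₀) :
    T v c ∈ RR (m := m) F₀ := Subgroup.subset_closure ⟨v, c, hv, hc, rfl⟩

/-- elements of `RR` and their inverses are rational -/
theorem rr_ratMat' {F₀ : Subfield F} {A : Matrix.symplecticGroup (Fin m) F} (hA : A ∈ RR F₀) :
    RatMat F₀ (A : Matrix (Fin m ⊕ Fin m) (Fin m ⊕ Fin m) F) ∧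
      RatMat F₀ ((A⁻¹ : Matrix.symplecticGroup (Fin m) F) :
        Matrix (Fin m ⊕ Fin m) (Fin m ⊕ Fin m) F) := by
  rw [RR] at hA
  induction hA using Subgroup.closure_induction with
  | mem A hA =>
    obtain ⟨v, c, hv, hc, rfl⟩ := hA
    refine ⟨ratMat_T hv hc, ?_⟩
    rw [T_inv]
    exact ratMat_T hv (F₀.neg_mem hc)
  | one =>
    rw [inv_one]
    exact ⟨RatMat.one F₀, RatMat.one F₀⟩
  | mul A B _ _ hA hB =>
    refine ⟨RatMat.mul hA.1 hB.1, ?_⟩
    rw [_root_.mul_inv_rev]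
    exact RatMat.mul hB.2 hA.2
  | inv A _ hA =>
    rw [inv_inv]
    exact ⟨hA.2, hA.1⟩

theorem rr_ratMat {F₀ : Subfield F} {A : Matrix.symplecticGroup (Fin m) F} (hA : A ∈ RR F₀) :
    RatMat F₀ (A : Matrix (Fin m ⊕ Fin m) (Fin m ⊕ Fin m) F) := (rr_ratMat' hA).1

theorem rr_rat_mulVec {F₀ : Subfield F} {A : Matrix.symplecticGroup (Fin m) F} (hA : A ∈ RR F₀)
    {v : Fin m ⊕ Fin m → F} (hv : Rat F₀ v) :
    Rat F₀ ((A : Matrix (Fin m ⊕ Fin m) (Fin m ⊕ Fin m) F) *ᵥ v) := (rr_ratMat hA).mulVec hv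

/-- the basic move: `x ↦ y` by rational transvections fixing a vector `t` orthogonal to everything in sight -/
theorem tr_core (F₀ : Subfield F) (x y y₁ y₂ t : Fin m ⊕ Fin m → F) (hx : Rat F₀ x) (hy : Rat F₀ y)
    (hy₁ : Rat F₀ y₁) (hy₂ : Rat F₀ y₂) (h1 : Cfsg.sympForm m F x y₁ ≠ 0)
    (h2 : Cfsg.sympForm m F y y₂ ≠ 0) (htx : Cfsg.sympForm m F t x = 0) (hty : Cfsg.sympForm m F t y = 0)
    (ht1 : Cfsg.sympForm m F t y₁ = 0) (ht2 : Cfsg.sympForm m F t y₂ = 0) :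
    ∃ A ∈ RR (m := m) F₀, (A : Matrix (Fin m ⊕ Fin m) (Fin m ⊕ Fin m) F) *ᵥ x = y ∧
      (A : Matrix (Fin m ⊕ Fin m) (Fin m ⊕ Fin m) F) *ᵥ t = t := by
  by_cases hxy : Cfsg.sympForm m F x y = 0
  · obtain ⟨z, hz, hxz, hyz⟩ := both_ne x y y₁ y₂ h1 h2
    have hzr : Rat F₀ z := by
      rcases hz with rfl | rfl | rfl
      · exact hy₁
      · exact hy₂
      · exact hy₁.add hy₂
    have htz : Cfsg.sympForm m F t z = 0 := by
      rcases hz with rfl | rfl | rfl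
      · exact ht1
      · exact ht2
      · rw [sympForm_add_right, ht1, ht2, add_zero]
    have hzy : Cfsg.sympForm m F z y ≠ 0 := by
      rw [sympForm_swap]; exact neg_ne_zero.mpr hyz
    refine ⟨T (z - y) (Cfsg.sympForm m F z y)⁻¹ * T (x - z) (Cfsg.sympForm m F x z)⁻¹, ?_, ?_, ?_⟩
    · exact (RR F₀).mul_mem (T_mem_rr (hzr.sub hy) (F₀.inv_mem (rat_form hzr hy)))
        (T_mem_rr (hx.sub hzr) (F₀.inv_mem (rat_form hx hzr)))
    · rw [coe_mul_mulVec, step_mulVec x z hxz, step_mulVec z y hzy]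
    · rw [coe_mul_mulVec, step_fix x z t _ htx htz, step_fix z y t _ htz hty]
  · refine ⟨T (x - y) (Cfsg.sympForm m F x y)⁻¹, ?_, step_mulVec x y hxy, step_fix x y t _ htx hty⟩
    exact T_mem_rr (hx.sub hy) (F₀.inv_mem (rat_form hx hy))

theorem exists_coord_ne_zero {x : Fin m ⊕ Fin m → F} (hx : x ≠ 0) : ∃ k, x k ≠ 0 := by
  by_contra h
  push Not at h
  exact hx (funext h)

theorem tr_vec (F₀ : Subfield F) (x y : Fin m ⊕ Fin m → F) (hx : Rat F₀ x) (hy : Rat F₀ y)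
    (hx0 : x ≠ 0) (hy0 : y ≠ 0) :
    ∃ A ∈ RR (m := m) F₀, (A : Matrix (Fin m ⊕ Fin m) (Fin m ⊕ Fin m) F) *ᵥ x = y := by
  obtain ⟨k, hk⟩ := exists_coord_ne_zero hx0
  obtain ⟨l, hl⟩ := exists_coord_ne_zero hy0
  obtain ⟨A, hA, h, _⟩ := tr_core F₀ x y (Pi.single (pr k) 1) (Pi.single (pr l) 1) 0 hx hy
    (Rat.single F₀ _ F₀.one_mem) (Rat.single F₀ _ F₀.one_mem) (form_single_ne_zero x k hk)
    (form_single_ne_zero y l hl) (form_zero_left' _) (form_zero_left' _) (form_zero_left' _)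
    (form_zero_left' _)
  exact ⟨A, hA, h⟩

theorem tr_pair (F₀ : Subfield F) (v z : Fin m ⊕ Fin m → F) (hv : Rat F₀ v) (hz : Rat F₀ z)
    (hvz : Cfsg.sympForm m F v z = 0) (hI : Indep v z) (i j : Fin m) (hij : i ≠ j) :
    ∃ A ∈ RR (m := m) F₀,
      (A : Matrix (Fin m ⊕ Fin m) (Fin m ⊕ Fin m) F) *ᵥ v = Pi.single (Sum.inl i) 1 ∧
      (A : Matrix (Fin m ⊕ Fin m) (Fin m ⊕ Fin m) F) *ᵥ z = Pi.single (Sum.inl j) 1 := by
  have hv0 : v ≠ 0 := by
    rintro rfl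
    obtain ⟨a, b, hab⟩ := hI
    simp at hab
  have he0 : (Pi.single (Sum.inl i) 1 : Fin m ⊕ Fin m → F) ≠ 0 := by
    intro h
    have := congrFun h (Sum.inl i)
    simp at this
  obtain ⟨A₁, hA₁, h1⟩ := tr_vec F₀ v (Pi.single (Sum.inl i) 1) hv (Rat.single F₀ _ F₀.one_mem) hv0 he0
  set z' := (A₁ : Matrix (Fin m ⊕ Fin m) (Fin m ⊕ Fin m) F) *ᵥ z with hz'
  have hz'r : Rat F₀ z' := rr_rat_mulVec hA₁ hz
  -- `z'` is orthogonal to `e_i`
  have hez' : Cfsg.sympForm m F (Pi.single (Sum.inl i) 1) z' = 0 := by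
    rw [← h1, hz', form_mulVec, hvz]
  have hz'i : z' (Sum.inr i) = 0 := by
    have := sympForm_single_inl z' i
    rw [sympForm_swap, hez', neg_zero] at this
    exact this.symm
  -- `z'` has a non-zero coordinate outside `inl i`
  obtain ⟨k, hk, hki⟩ : ∃ k, z' k ≠ 0 ∧ k ≠ Sum.inl i := by
    by_contra hcon
    push Not at hcon
    -- then `z' = c e_i`, so `z = c v`
    have e1 : z' = z' (Sum.inl i) • (Pi.single (Sum.inl i) 1 : Fin m ⊕ Fin m → F) := by
      funext k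
      by_cases hk : k = Sum.inl i
      · subst hk; simp
      · have : z' k = 0 := by
          by_contra h0
          exact hk (hcon k h0)
        rw [this]; simp [Pi.single_eq_of_ne hk]
    have e2 : z = z' (Sum.inl i) • v := by
      have := congrArg (fun x => ((A₁⁻¹ : Matrix.symplecticGroup (Fin m) F) :
        Matrix (Fin m ⊕ Fin m) (Fin m ⊕ Fin m) F) *ᵥ x) e1
      simp only [hz', Matrix.mulVec_smul] at this
      rw [inv_mulVec_mulVec, ← h1, inv_mulVec_mulVec] at this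
      exact this
    obtain ⟨a, b, hab⟩ := hI
    apply hab
    rw [e2]
    simp only [Pi.smul_apply, smul_eq_mul]
    ring
  have hkr : k ≠ Sum.inr i := by
    rintro rfl
    exact hk hz'i
  -- helper vectors orthogonal to `e_i`
  have ht1 : Cfsg.sympForm m F (Pi.single (Sum.inl i) 1) (Pi.single (pr k) 1) = 0 := by
    apply form_single_eq_zero
    rw [Pi.single_eq_of_ne hki]
  have ht2 : Cfsg.sympForm m F (Pi.single (Sum.inl i) 1) (Pi.single (Sum.inr j) 1) = 0 := by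
    rw [sympForm_single_inr, Pi.single_eq_of_ne (by simpa using hij.symm), neg_zero]
  have hej : Cfsg.sympForm m F (Pi.single (Sum.inl i) 1) (Pi.single (Sum.inl j) 1) = 0 := by
    rw [sympForm_single_inl, Pi.single_eq_of_ne (by simp)]
  have h2 : Cfsg.sympForm m F (Pi.single (Sum.inl j) 1) (Pi.single (Sum.inr j) 1) ≠ 0 := by
    rw [sympForm_single_inr, Pi.single_eq_same]
    exact neg_ne_zero.mpr one_ne_zero
  obtain ⟨A₂, hA₂, h3, h4⟩ := tr_core F₀ z' (Pi.single (Sum.inl j) 1) (Pi.single (pr k) 1)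
    (Pi.single (Sum.inr j) 1) (Pi.single (Sum.inl i) 1) hz'r (Rat.single F₀ _ F₀.one_mem)
    (Rat.single F₀ _ F₀.one_mem) (Rat.single F₀ _ F₀.one_mem) (form_single_ne_zero z' k hk) h2 hez' hej
    ht1 ht2
  refine ⟨A₂ * A₁, (RR F₀).mul_mem hA₂ hA₁, ?_, ?_⟩
  · rw [coe_mul_mulVec, h1, h4]
  · rw [coe_mul_mulVec, ← hz', h3]

theorem ssl_of_al (F₀ : Subfield F) (M : Subgroup (Matrix.symplecticGroup (Fin m) F)) (hT : HasRatT F₀ M)
    (h : AL F₀ M = (F₀ : Set F)) : SSl F₀ M := by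
  intro v a hv hv0 hM
  have ha : a ∈ AL F₀ M := by
    intro v' hv'
    by_cases hv'0 : v' = 0
    · rw [hv'0, T_zero_left]; exact M.one_mem
    · obtain ⟨A, hA, hAv⟩ := tr_vec F₀ v v' hv hv' hv0 hv'0
      have hAM : A ∈ M := rr_le hT hA
      have := M.mul_mem (M.mul_mem hAM hM) (M.inv_mem hAM)
      rwa [conj_T, hAv] at this
  rw [h] at ha
  exact ha

end Cfsg.Agent.Lib.Helper7.SpSub
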