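import Mathlib
import Cfsg.Prelude.Def_GeometricClasses
import Cfsg.Agent.Lib.Helper9.SpMax1
import Cfsg.Agent.Lib.Helper7.SpSubDefs
import Cfsg.Agent.Lib.Helper7.SpSub_TR
import Cfsg.Agent.Lib.Helper7.Subg_N

set_option autoImplicit false
set_option linter.unusedSectionVars false

/-!
# S5650: bridge between subgroups of `Matrix.symplecticGroup (Fin m) F` and subgroups of `GL (Fin m ⊕ Fin m) F`
(the index-generic `Subg` library: `tvm`, `Mm`, `NK`, `DT`, `InN`)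
-/

namespace Cfsg.Agent.Lib.Helper7.SpSub

open Matrix Cfsg.Agent.Lib.Helper1.SpBasic Cfsg.Agent.Lib.Helper2.Symp Cfsg.Agent.Lib.Helper7.Subg
open Cfsg.Agent.H9SpMax

variable {F : Type*} [Field F] {m : ℕ}

/-- the image of `M` in `GL` -/
def MG (M : Subgroup (Matrix.symplecticGroup (Fin m) F)) : Subgroup (GL (Fin m ⊕ Fin m) F) :=
  M.map (toGL m F)

theorem toGL_injective : Function.Injective (toGL m F) := by
  intro A B h
  apply Subtype.ext
  have := congrArg (fun g : GL (Fin m ⊕ Fin m) F => (g : Matrix (Fin m ⊕ Fin m) (Fin m ⊕ Fin m) F)) h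
  simpa [toGL_coe] using this

theorem mem_MG_iff (M : Subgroup (Matrix.symplecticGroup (Fin m) F)) (g : GL (Fin m ⊕ Fin m) F) :
    g ∈ MG M ↔ ∃ A ∈ M, toGL m F A = g := by
  rw [MG, Subgroup.mem_map]

theorem toGL_mem_MG_iff (M : Subgroup (Matrix.symplecticGroup (Fin m) F))
    (A : Matrix.symplecticGroup (Fin m) F) : toGL m F A ∈ MG M ↔ A ∈ M := by
  rw [mem_MG_iff]
  constructor
  · rintro ⟨B, hB, h⟩
    rwa [← toGL_injective h]
  · intro h
    exact ⟨A, h, rfl⟩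

theorem mm_MG_iff (M : Subgroup (Matrix.symplecticGroup (Fin m) F))
    (X : Matrix (Fin m ⊕ Fin m) (Fin m ⊕ Fin m) F) :
    Mm (MG M) X ↔ ∃ A ∈ M, (A : Matrix (Fin m ⊕ Fin m) (Fin m ⊕ Fin m) F) = X := by
  constructor
  · rintro ⟨g, hg, rfl⟩
    obtain ⟨A, hA, rfl⟩ := (mem_MG_iff M g).1 hg
    exact ⟨A, hA, rfl⟩
  · rintro ⟨A, hA, rfl⟩
    exact ⟨toGL m F A, (toGL_mem_MG_iff M A).2 hA, rfl⟩

/-- the matrix of a symplectic transvection -/
theorem T_coe_tvm (v : Fin m ⊕ Fin m → F) (c : F) :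
    ((T v c : Matrix.symplecticGroup (Fin m) F) : Matrix (Fin m ⊕ Fin m) (Fin m ⊕ Fin m) F) =
      tvm c v (Matrix.J (Fin m) F *ᵥ v) := rfl

/-- `B(x, v) = (J v) ⬝ x` -/
theorem J_dot (v x : Fin m ⊕ Fin m → F) :
    (Matrix.J (Fin m) F *ᵥ v) ⬝ᵥ x = Cfsg.sympForm m F x v := by
  unfold Cfsg.sympForm
  rw [dotProduct_comm]

/-- a matrix is determined by its action on vectors -/
theorem mat_ext_mulVec {A B : Matrix (Fin m ⊕ Fin m) (Fin m ⊕ Fin m) F} (h : ∀ x, A *ᵥ x = B *ᵥ x) :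
    A = B := by
  ext i j
  have := congrFun (h (Pi.single j 1)) i
  simpa using this

/-- the matrix of a short root element -/
theorem sig_coe (u u' : Fin m ⊕ Fin m → F) (h : Cfsg.sympForm m F u u' = 0) (a : F) :
    ((sig u u' a : Matrix.symplecticGroup (Fin m) F) : Matrix (Fin m ⊕ Fin m) (Fin m ⊕ Fin m) F) =
      1 + a • (vecMulVec u (Matrix.J (Fin m) F *ᵥ u') + vecMulVec u' (Matrix.J (Fin m) F *ᵥ u)) := by
  apply mat_ext_mulVec
  intro x
  rw [sig_mulVec u u' h, Matrix.add_mulVec, Matrix.one_mulVec, Matrix.smul_mulVec, Matrix.add_mulVec,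
    vmv_mulVec, vmv_mulVec, J_dot, J_dot]
  module

/-- `J` is rational and invertible: every rational functional is `B(·, u)` for a rational `u` -/
theorem exists_rat_form_eq (F₀ : Subfield F) (φ : Fin m ⊕ Fin m → F) (hφ : Rat F₀ φ) (hφ0 : φ ≠ 0) :
    ∃ u : Fin m ⊕ Fin m → F, Rat F₀ u ∧ u ≠ 0 ∧ ∀ x, Cfsg.sympForm m F x u = φ ⬝ᵥ x := by
  refine ⟨-(Matrix.J (Fin m) F *ᵥ φ), (PkTR.rat_J hφ).neg, ?_, ?_⟩
  · intro h
    apply hφ0
    have := congrArg (fun y => Matrix.J (Fin m) F *ᵥ y) h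
    simp only [Matrix.mulVec_neg, J_mulVec_J_mulVec, neg_neg, Matrix.mulVec_zero] at this
    exact this
  · intro x
    unfold Cfsg.sympForm
    rw [Matrix.mulVec_neg, J_mulVec_J_mulVec, neg_neg, dotProduct_comm]

/-- the generic no-kill statement for the image of `M` in `GL` -/
theorem nk_of_nks (F₀ : Subfield F) (M : Subgroup (Matrix.symplecticGroup (Fin m) F)) (h : NKs F₀ M) :
    NK F₀ (MG M) := by
  intro g hg hgN v φ hv hφ hv0 hφ0 hkill
  obtain ⟨A, hA, rfl⟩ := (mem_MG_iff M g).1 hg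
  obtain ⟨u, hu, hu0, hform⟩ := exists_rat_form_eq F₀ φ hφ hφ0
  apply hgN
  rw [toGL_coe]
  apply h A hA u v hu hv hu0 hv0
  rw [hform]
  rw [toGL_coe] at hkill
  exact hkill

end Cfsg.Agent.Lib.Helper7.SpSub
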