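import Mathlib
import Cfsg.Prelude.Def_Involutions
import Cfsg.Agent.Lib.Helper7.SubgDefs
import Cfsg.Agent.Lib.Helper7.Subg_N
import Cfsg.Agent.Lib.Helper3.StrEmb

set_option autoImplicit false
set_option linter.unusedSectionVars false

/-!
# index-generic copy of the general part of `Helper3.Subf_E`: characteristic two

`H = N ∩ M` is strongly embedded in `M` unless `M ≤ N`; then two involutions of `H` with `s - 1` of rank one
and `t - 1` of rank two would be conjugate.
-/

namespace Cfsg.Agent.Lib.Helper7.Subg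

open Matrix

variable {F : Type*} [Field F] {ι : Type} [Fintype ι] [DecidableEq ι]

namespace PkE

/-- characteristic two: equal squares are equal -/
theorem eq_of_mul_self_eq_two (h2 : (2 : F) = 0) {x y : F} (h : x * x = y * y) : x = y := by
  have h0 : (x - y) * (x - y) = 0 := by linear_combination (-1 : F) * h + (x * x - x * y) * h2
  exact sub_eq_zero.mp (mul_self_eq_zero.mp h0)

/-- in a finite field of characteristic two, square roots of elements of a subfield lie in the subfield -/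
theorem mem_of_mul_self_mem_two [Finite F] (h2 : (2 : F) = 0) (F₀ : Subfield F) {c : F}
    (hc : c * c ∈ F₀) : c ∈ F₀ := by
  have hinj : Function.Injective (fun x : F₀ => x * x) := by
    intro x y hxy
    apply Subtype.ext
    apply eq_of_mul_self_eq_two h2
    exact congrArg Subtype.val hxy
  have hsurj : Function.Surjective (fun x : F₀ => x * x) := Finite.injective_iff_surjective.mp hinj
  obtain ⟨d, hd⟩ := hsurj ⟨c * c, hc⟩
  have hd' : (d : F) * (d : F) = c * c := congrArg Subtype.val hd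
  have := eq_of_mul_self_eq_two h2 hd'
  rw [← this]
  exact d.2

/-- characteristic two: an involution of `N` is rational -/
theorem ratMat_of_inN_of_mul_self [Finite F] (h2 : (2 : F) = 0) (i₀ : ι) (F₀ : Subfield F)
    {X : Matrix ι ι F} (hX : InN F₀ X) (hXX : X * X = 1) : RatMat F₀ X := by
  obtain ⟨c, hc0, hA⟩ := hX
  have hsq : (c • X) * (c • X) = (c * c) • (1 : Matrix ι ι F) := by
    rw [smul_mul_smul_comm, hXX]
  have hcc : c * c ∈ F₀ := by
    have h := (hA.mul hA) i₀ i₀
    rw [hsq, Matrix.smul_apply, Matrix.one_apply_eq, smul_eq_mul, mul_one] at h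
    exact h
  have hc : c ∈ F₀ := mem_of_mul_self_mem_two h2 F₀ hcc
  have e : X = c⁻¹ • (c • X) := by rw [smul_smul, inv_mul_cancel₀ hc0, one_smul]
  rw [e]
  exact RatMat.smul (F₀.inv_mem hc) hA

/-- the key step: `g ∈ M` outside `N` cannot conjugate a rational involution to a rational matrix -/
theorem even_star (h2 : (2 : F) = 0) (F₀ : Subfield F) (M : Subgroup (GL ι F)) (hNK : NK F₀ M)
    (g : GL ι F) (hg : g ∈ M) (hgN : ¬ InN F₀ (g : Matrix ι ι F))
    (X Y : Matrix ι ι F) (hX : RatMat F₀ X) (hY : RatMat F₀ Y) (hYY : Y * Y = 1)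
    (hY1 : Y ≠ 1) (hc : (g : Matrix ι ι F) * Y = X * (g : Matrix ι ι F)) :
    False := by
  have hNN : (Y - 1) * (Y - 1) = 0 := by
    have e : (Y - 1) * (Y - 1) = Y * Y - Y - Y + 1 := by
      rw [sub_mul, mul_sub, mul_one, one_mul]
      abel
    rw [e, hYY]
    have e2 : (1 : Matrix ι ι F) - Y - Y + 1 = (2 : F) • (1 - Y) := by
      rw [two_smul]
      abel
    rw [e2, h2, zero_smul]
  have hN0 : Y - 1 ≠ 0 := sub_ne_zero.mpr hY1
  obtain ⟨i, j, hij⟩ : ∃ i j, (Y - 1) i j ≠ 0 := by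
    by_contra hcon
    simp only [not_exists, not_not] at hcon
    exact hN0 (by ext i j; exact hcon i j)
  have hvr : Rat F₀ (fun k => (Y - 1) k j) := fun k => F₀.sub_mem (hY k j) (RatMat.one F₀ k j)
  have hv0 : (fun k => (Y - 1) k j) ≠ 0 := fun h => hij (congrFun h i)
  have hNv : (Y - 1) *ᵥ (fun k => (Y - 1) k j) = 0 := by
    ext k
    have := congrFun (congrFun hNN k) j
    rw [Matrix.mul_apply] at this
    exact this
  have hYv : Y *ᵥ (fun k => (Y - 1) k j) = (fun k => (Y - 1) k j) := by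
    rw [Matrix.sub_mulVec, Matrix.one_mulVec, sub_eq_zero] at hNv
    exact hNv
  have hXAv : X *ᵥ ((g : Matrix ι ι F) *ᵥ (fun k => (Y - 1) k j)) =
      (g : Matrix ι ι F) *ᵥ (fun k => (Y - 1) k j) := by
    rw [Matrix.mulVec_mulVec, ← hc, ← Matrix.mulVec_mulVec, hYv]
  have hX1 : X ≠ 1 := by
    intro h
    rw [h, one_mul] at hc
    apply hY1
    have hinv : ((g⁻¹ : GL ι F) : Matrix ι ι F) * (g : Matrix ι ι F) = 1 := by
      rw [← Units.val_mul, inv_mul_cancel, Units.val_one]
    calc Y = (((g⁻¹ : GL ι F) : Matrix ι ι F) * (g : Matrix ι ι F)) * Y := by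
          rw [hinv, one_mul]
      _ = 1 := by rw [mul_assoc, hc, hinv]
  obtain ⟨i', j', hij'⟩ : ∃ i j, (X - 1) i j ≠ 0 := by
    by_contra hcon
    simp only [not_exists, not_not] at hcon
    exact (sub_ne_zero.mpr hX1) (by ext i j; exact hcon i j)
  have hρr : Rat F₀ (fun l => (X - 1) i' l) := fun l => F₀.sub_mem (hX i' l) (RatMat.one F₀ i' l)
  have hρ0 : (fun l => (X - 1) i' l) ≠ 0 := fun h => hij' (congrFun h j')
  have hkill : (fun l => (X - 1) i' l) ⬝ᵥ
      ((g : Matrix ι ι F) *ᵥ (fun k => (Y - 1) k j)) = 0 := by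
    have h0 : (X - 1) *ᵥ ((g : Matrix ι ι F) *ᵥ (fun k => (Y - 1) k j)) = 0 := by
      rw [Matrix.sub_mulVec, Matrix.one_mulVec, hXAv, sub_self]
    exact congrFun h0 i'
  exact hNK g hg hgN _ _ hvr hρr hv0 hρ0 hkill

/-- the matrix of an element of `M` -/
def matOf (M : Subgroup (GL ι F)) (x : ↥M) : Matrix ι ι F :=
  ((x : GL ι F) : Matrix ι ι F)

theorem matOf_mul (M : Subgroup (GL ι F)) (x y : ↥M) : matOf M (x * y) = matOf M x * matOf M y := rfl

theorem matOf_one (M : Subgroup (GL ι F)) : matOf M 1 = 1 := rfl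

theorem matOf_injective (M : Subgroup (GL ι F)) : Function.Injective (matOf M) := fun _ _ h =>
  Subtype.ext (Units.ext h)

theorem matOf_mul_self_of_orderOf (M : Subgroup (GL ι F)) {x : ↥M} (hx : orderOf x = 2) :
    matOf M x * matOf M x = 1 := by
  rw [← matOf_mul, Cfsg.Agent.Lib.Helper3.StrEmb.invol_mul_self hx, matOf_one]

theorem matOf_ne_one_of_orderOf (M : Subgroup (GL ι F)) {x : ↥M} (hx : orderOf x = 2) :
    matOf M x ≠ 1 := by
  intro h
  have h1 : x = 1 := matOf_injective M (h.trans (matOf_one M).symm)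
  rw [h1, orderOf_one] at hx
  exact absurd hx (by norm_num)

theorem orderOf_eq_two_of_matOf (M : Subgroup (GL ι F)) {x : ↥M} (h1 : matOf M x * matOf M x = 1)
    (h2 : matOf M x ≠ 1) : orderOf x = 2 := by
  have : Fact (Nat.Prime 2) := ⟨Nat.prime_two⟩
  refine orderOf_eq_prime ?_ ?_
  · apply matOf_injective M
    rw [sq, matOf_mul, h1, matOf_one]
  · intro h
    exact h2 (by rw [h, matOf_one])

/-- `N ∩ M` is strongly embedded in `M` when `M` is not contained in `N` (characteristic two) -/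
theorem even_stronglyEmbedded [Finite F] (h2 : (2 : F) = 0) (i₀ : ι) (F₀ : Subfield F)
    (M : Subgroup (GL ι F)) (hNK : NK F₀ M)
    (g₀ : ↥M) (hg₀ : ¬ InN F₀ (matOf M g₀))
    (s : ↥M) (hs : orderOf s = 2) (hsN : InN F₀ (matOf M s)) :
    Cfsg.IsStronglyEmbedded ((nnSubgroup (ι := ι) F₀).subgroupOf M) := by
  refine ⟨?_, ?_, ?_⟩
  · intro htop
    have h : g₀ ∈ (nnSubgroup (ι := ι) F₀).subgroupOf M := by rw [htop]; exact Subgroup.mem_top _
    exact hg₀ (Subgroup.mem_subgroupOf.mp h)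
  · rw [even_iff_two_dvd]
    have hsH : s ∈ (nnSubgroup (ι := ι) F₀).subgroupOf M := Subgroup.mem_subgroupOf.mpr hsN
    have h : orderOf (⟨s, hsH⟩ : ↥((nnSubgroup (ι := ι) F₀).subgroupOf M)) = 2 := by
      rw [← hs]
      exact Subgroup.orderOf_mk _ _
    rw [← h]
    exact orderOf_dvd_natCard _
  · intro g hg
    by_contra hodd
    rw [Nat.not_odd_iff_even, even_iff_two_dvd] at hodd
    have : Fact (Nat.Prime 2) := ⟨Nat.prime_two⟩
    obtain ⟨x, hx⟩ := exists_prime_orderOf_dvd_card' 2 hodd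
    have hxmem := x.2
    rw [Subgroup.mem_inf] at hxmem
    obtain ⟨hxH, hxmap⟩ := hxmem
    rw [Subgroup.mem_map] at hxmap
    obtain ⟨y, hyH, hyx⟩ := hxmap
    have hx2 : orderOf (x : ↥M) = 2 := by rw [Subgroup.orderOf_coe]; exact hx
    have hyx' : g * y * g⁻¹ = (x : ↥M) := hyx
    have hy : y = g⁻¹ * (x : ↥M) * g := by rw [← hyx']; group
    have hy2 : orderOf y = 2 := by
      rw [hy, Cfsg.Agent.Lib.Helper3.StrEmb.orderOf_conj_inv]; exact hx2
    have hc : g * y = (x : ↥M) * g := by rw [← hyx']; group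
    have hXr : RatMat F₀ (matOf M (x : ↥M)) :=
      ratMat_of_inN_of_mul_self h2 i₀ F₀ (Subgroup.mem_subgroupOf.mp hxH) (matOf_mul_self_of_orderOf M hx2)
    have hYr : RatMat F₀ (matOf M y) :=
      ratMat_of_inN_of_mul_self h2 i₀ F₀ (Subgroup.mem_subgroupOf.mp hyH) (matOf_mul_self_of_orderOf M hy2)
    exact even_star h2 F₀ M hNK (g : GL ι F) g.2
      (fun h => hg (Subgroup.mem_subgroupOf.mpr h)) _ _ hXr hYr (matOf_mul_self_of_orderOf M hy2)
      (matOf_ne_one_of_orderOf M hy2) (congrArg (matOf M) hc)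

/-- a product of two transvections with "disjoint supports" -/
theorem tvm_mul_tvm_disjoint (v φ v' φ' : ι → F) (h : φ ⬝ᵥ v' = 0) :
    tvm 1 v φ * tvm 1 v' φ' = 1 + vecMulVec v φ + vecMulVec v' φ' := by
  simp only [tvm, one_smul, add_mul, mul_add, one_mul, mul_one, vmv_mul, h, zero_smul, add_zero]

/-- reading off an off-diagonal entry -/
theorem even_entry (x y : ι → F) (i0 i1 i2 i3 a b : ι) (hab : a ≠ b)
    (h : tvm 1 x y = 1 + vecMulVec (Pi.single i0 (1 : F)) (Pi.single i1 (1 : F)) +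
      vecMulVec (Pi.single i2 (1 : F)) (Pi.single i3 (1 : F))) :
    x a * y b = (Pi.single i0 (1 : F) : ι → F) a * (Pi.single i1 (1 : F) : ι → F) b +
      (Pi.single i2 (1 : F) : ι → F) a * (Pi.single i3 (1 : F) : ι → F) b := by
  have := congrFun (congrFun h a) b
  simp only [tvm, Matrix.add_apply, Matrix.smul_apply, vecMulVec_apply, smul_eq_mul, one_mul,
    Matrix.one_apply_ne hab, zero_add] at this
  exact this

/-- a rank one matrix is not `E₀₁ + E₂₃` -/
theorem even_final (x y : ι → F) (i0 i1 i2 i3 : ι) (h01 : i0 ≠ i1) (h02 : i0 ≠ i2) (h03 : i0 ≠ i3)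
    (h13 : i1 ≠ i3) (h23 : i2 ≠ i3)
    (h : tvm 1 x y = 1 + vecMulVec (Pi.single i0 (1 : F)) (Pi.single i1 (1 : F)) +
      vecMulVec (Pi.single i2 (1 : F)) (Pi.single i3 (1 : F))) : False := by
  have e1 := even_entry _ _ i0 i1 i2 i3 i0 i1 h01 h
  have e2 := even_entry _ _ i0 i1 i2 i3 i2 i3 h23 h
  have e3 := even_entry _ _ i0 i1 i2 i3 i0 i3 h03 h
  simp only [Pi.single_apply, h02, h13, h02.symm, h13.symm, if_true, if_false, mul_one, mul_zero,
    add_zero, zero_add] at e1 e2 e3
  have hone : (1 : F) = 0 := by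
    linear_combination (-1 : F) * e1 - (x i0 * y i1) * e2 + (x i2 * y i1) * e3
  exact one_ne_zero hone

end PkE

end Cfsg.Agent.Lib.Helper7.Subg
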