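import Mathlib
import Cfsg.Prelude
import Cfsg.Agent.Lib.Helper5.SpRU.Act
import Cfsg.Agent.Lib.Helper4.SpRUFin

set_option autoImplicit false
set_option linter.unusedSectionVars false

open Matrix

/-! # S2281 package PK3 (CHASE), core: from `u`, `v_ε` and one long-root subgroup to all the
generators of `fin_top` (which enters as the hypothesis `FinTopStmt`) -/

namespace Cfsg.Agent.Lib.Helper5.SpRU

variable {F : Type*} [Field F] {m : ℕ}

/-- the statement of package PK1 (`fin_top`) -/
def FinTopStmt (m : ℕ) (F : Type*) [Field F] : Prop :=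
  ∀ (H : Subgroup (Matrix.symplecticGroup (Fin (m + 1)) F)),
    (∀ (i : Fin (m + 1)) (c : F), tS (eV i) c ∈ H) →
    (∀ (i : Fin (m + 1)) (c : F), tS (fV i) c ∈ H) →
    (∀ (i j : Fin (m + 1)), i.val + 1 = j.val → ∀ c : F, tS (eV i + eV j) c ∈ H) → H = ⊤

/-- the vectors all of whose transvections lie in `H` -/
def chD (H : Subgroup (Matrix.symplecticGroup (Fin (m + 1)) F))
    (p : Fin (m + 1) ⊕ Fin (m + 1) → F) : Prop :=
  ∀ c : F, tS p c ∈ H

variable {H : Subgroup (Matrix.symplecticGroup (Fin (m + 1)) F)}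

theorem chD_smul {p : Fin (m + 1) ⊕ Fin (m + 1) → F} (hp : chD H p) (a : F) :
    chD H (a • p) := by
  intro c
  rw [tS_smul]
  exact hp _

theorem chD_act {g : Matrix.symplecticGroup (Fin (m + 1)) F} (hg : g ∈ H)
    {p : Fin (m + 1) ⊕ Fin (m + 1) → F} (hp : chD H p) :
    chD H ((g : Matrix _ _ F) *ᵥ p) := by
  intro c
  rw [← tS_conj]
  exact H.mul_mem (H.mul_mem hg (hp c)) (H.inv_mem hg)

theorem chD_act_inv {g : Matrix.symplecticGroup (Fin (m + 1)) F} (hg : g ∈ H)
    {p : Fin (m + 1) ⊕ Fin (m + 1) → F} (hp : chD H ((g : Matrix _ _ F) *ᵥ p)) :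
    chD H p := by
  have h1 := chD_act (H.inv_mem hg) hp
  have h3 : (g⁻¹).1 * g.1 = 1 := congrArg Subtype.val (inv_mul_cancel g)
  rw [Matrix.mulVec_mulVec, h3, Matrix.one_mulVec] at h1
  exact h1

theorem chD_add {p r : Fin (m + 1) ⊕ Fin (m + 1) → F} (hp : chD H p) (hr : chD H r)
    (h : Cfsg.sympForm (m + 1) F p r ≠ 0) : chD H (p + r) := by
  have h1 := chD_act (hr (Cfsg.sympForm (m + 1) F p r)⁻¹) hp
  rw [tS_coe, Cfsg.Agent.Lib.Helper2.Symp.sympTransvection_mulVec, inv_mul_cancel₀ h,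
    one_smul] at h1
  exact h1

theorem chD_sub {p r : Fin (m + 1) ⊕ Fin (m + 1) → F} (hp : chD H p) (hr : chD H r)
    (h : Cfsg.sympForm (m + 1) F p r ≠ 0) : chD H (p - r) := by
  have h1 : chD H (p + (-1 : F) • r) := by
    apply chD_add hp (chD_smul hr _)
    rw [Cfsg.Agent.Lib.Helper2.Symp.sympForm_smul_right]
    simpa using h
  have e : p + (-1 : F) • r = p - r := by
    rw [neg_smul, one_smul, sub_eq_add_neg]
  rwa [e] at h1

theorem ch_sf_eV (x : Fin (m + 1) ⊕ Fin (m + 1) → F) (j : Fin (m + 1)) :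
    Cfsg.sympForm (m + 1) F x (eV j) = x (Sum.inr j) :=
  Cfsg.Agent.Lib.Helper2.Symp.sympForm_single_inl x j

theorem ch_sf_fV (x : Fin (m + 1) ⊕ Fin (m + 1) → F) (j : Fin (m + 1)) :
    Cfsg.sympForm (m + 1) F x (fV j) = - x (Sum.inl j) :=
  Cfsg.Agent.Lib.Helper2.Symp.sympForm_single_inr x j

theorem ch_uv_coe (ε : F) :
    ((uS m F * vS m ε : Matrix.symplecticGroup (Fin (m + 1)) F) : Matrix _ _ F) =
      uMat m F * vMat m ε := rfl

theorem ch_vu_coe (ε : F) :
    ((vS m ε * uS m F : Matrix.symplecticGroup (Fin (m + 1)) F) : Matrix _ _ F) =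
      vMat m ε * uMat m F := rfl

/-- the chase, once all `e_i` are known -/
theorem chase_common (hfin : FinTopStmt m F) (hm : 1 ≤ m) (ε : F) (hε : ε ≠ 0)
    (hu : uS m F ∈ H) (hv : vS m ε ∈ H) (hE : ∀ i : Fin (m + 1), chD H (eV i)) : H = ⊤ := by
  have huv : uS m F * vS m ε ∈ H := H.mul_mem hu hv
  -- `f_last`
  have hFl : chD H (fV (Fin.last m)) := by
    have h1 : chD H (eV (Fin.last m) - ε • fV (Fin.last m)) := by
      have := chD_act hv (hE (Fin.last m))
      rwa [vS_coe ε, vMat_eV_last] at this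
    have h2 : Cfsg.sympForm (m + 1) F (eV (Fin.last m))
        (eV (Fin.last m) - ε • fV (Fin.last m)) ≠ 0 := by
      have : Cfsg.sympForm (m + 1) F (eV (Fin.last m))
          (eV (Fin.last m) - ε • fV (Fin.last m)) = ε := by
        rw [Cfsg.Agent.Lib.Helper2.Symp.sympForm_sub_right,
          Cfsg.Agent.Lib.Helper2.Symp.sympForm_smul_right, ch_sf_eV, ch_sf_fV]
        simp [eV]
      rw [this]
      exact hε
    have h3 := chD_sub (hE (Fin.last m)) h1 h2
    rw [sub_sub_cancel] at h3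
    have h4 := chD_smul h3 ε⁻¹
    rwa [smul_smul, inv_mul_cancel₀ hε, one_smul] at h4
  -- `p = -2 e_last + f_last`
  have hp : chD H ((-2 : F) • eV (Fin.last m) + fV (Fin.last m)) := by
    by_cases h2 : (2 : F) = 0
    · have e : (-2 : F) • eV (F := F) (Fin.last m) + fV (F := F) (Fin.last m) =
          fV (F := F) (Fin.last m) := by
        rw [neg_smul, h2, zero_smul, neg_zero, zero_add]
      rw [e]
      exact hFl
    · apply chD_add (chD_smul (hE (Fin.last m)) _) hFl
      rw [ch_sf_fV]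
      simpa [eV] using h2
  -- the index `last - 1`
  obtain ⟨i, hi⟩ : ∃ i : Fin (m + 1), i.val + 1 = m := ⟨⟨m - 1, by omega⟩, by simp; omega⟩
  have hil : i ≠ Fin.last m := by
    intro h
    have := congrArg Fin.val h
    simp at this
    omega
  -- `f_i + e_last`
  have hw : chD H (fV i + eV (Fin.last m)) := by
    have hz : chD H (fV i + eV (Fin.last m) + eV i) := by
      have := chD_act huv hFl
      rwa [ch_uv_coe, uMat_vMat_fV_last ε i hi] at this
    have h2 : Cfsg.sympForm (m + 1) F (fV i + eV (Fin.last m) + eV i) (eV i) ≠ 0 := by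
      rw [ch_sf_eV]
      simp [eV, fV]
    have h3 := chD_sub hz (hE i) h2
    rwa [add_sub_cancel_right] at h3
  -- `f_{last-1}`
  have hFi : chD H (fV i) := by
    have h2 : Cfsg.sympForm (m + 1) F (fV i + eV (Fin.last m))
        ((-2 : F) • eV (Fin.last m) + fV (Fin.last m)) ≠ 0 := by
      rw [Cfsg.Agent.Lib.Helper2.Symp.sympForm_add_right,
        Cfsg.Agent.Lib.Helper2.Symp.sympForm_smul_right, ch_sf_eV, ch_sf_fV]
      simp [eV, fV, hil]
    have h3 := chD_add hw hp h2
    have e : fV (F := F) i + eV (F := F) (Fin.last m) +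
        ((-2 : F) • eV (F := F) (Fin.last m) + fV (F := F) (Fin.last m)) =
        fV (F := F) i - eV (F := F) (Fin.last m) + fV (F := F) (Fin.last m) := by
      module
    rw [e] at h3
    have h4 := chD_act hu h3
    rwa [uS_coe, uMat_special i hi] at h4
  -- all `f_j`
  have hFdown : ∀ (n : ℕ) (j : Fin (m + 1)), j.val + 1 + n = m → chD H (fV j) := by
    intro n
    induction n with
    | zero =>
      intro j hj
      have : j = i := Fin.ext (by omega)
      rw [this]
      exact hFi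
    | succ n ih =>
      intro j hj
      have h1 := ih ⟨j.val + 1, by omega⟩ (by simp only []; omega)
      have h2 := chD_act huv h1
      rwa [ch_uv_coe, uMat_vMat_fV ε j ⟨j.val + 1, by omega⟩ rfl (by simp only []; omega)] at h2
  have hF : ∀ j : Fin (m + 1), chD H (fV j) := by
    intro j
    by_cases hj : j = Fin.last m
    · rw [hj]
      exact hFl
    · have hlt : j.val < m := by
        have := j.isLt
        have : j.val ≠ m := fun h => hj (Fin.ext (by simpa using h))
        omega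
      exact hFdown (m - (j.val + 1)) j (by omega)
  -- connectors
  apply hfin H hE hF
  intro a b hab c
  have h1 := chD_act hu (hE b)
  rw [uS_coe, uMat_eV_succ a b hab, add_comm] at h1
  exact h1 c

theorem chase_core (hfin : FinTopStmt m F) (hm : 1 ≤ m) (ε : F) (hε : ε ≠ 0)
    (hu : uS m F ∈ H) (hv : vS m ε ∈ H) (hT : ∀ c : F, tS (eV (Fin.last m)) c ∈ H) : H = ⊤ := by
  have hvu : vS m ε * uS m F ∈ H := H.mul_mem hv hu
  have hEdown : ∀ (n : ℕ) (j : Fin (m + 1)), j.val + n = m → chD H (eV j) := by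
    intro n
    induction n with
    | zero =>
      intro j hj
      have : j = Fin.last m := Fin.ext (by simpa using hj)
      rw [this]
      exact hT
    | succ n ih =>
      intro j hj
      have h1 := ih ⟨j.val + 1, by omega⟩ (by simp only []; omega)
      have h2 := chD_act hvu h1
      rwa [ch_vu_coe, vMat_uMat_eV ε j ⟨j.val + 1, by omega⟩ rfl] at h2
  exact chase_common hfin hm ε hε hu hv
    (fun j => hEdown (m - j.val) j (by have := j.isLt; omega))

theorem chase_core' (hfin : FinTopStmt m F) (hm : 1 ≤ m) (ε : F) (hε : ε ≠ 0)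
    (hu : uS m F ∈ H) (hv : vS m ε ∈ H)
    (hT : ∀ c : F, tS (eV (0 : Fin (m + 1))) c ∈ H) : H = ⊤ := by
  have hvu : vS m ε * uS m F ∈ H := H.mul_mem hv hu
  have hEup : ∀ (n : ℕ) (j : Fin (m + 1)), j.val = n → chD H (eV j) := by
    intro n
    induction n with
    | zero =>
      intro j hj
      have : j = 0 := Fin.ext (by simpa using hj)
      rw [this]
      exact hT
    | succ n ih =>
      intro j hj
      have h1 := ih ⟨n, by have := j.isLt; omega⟩ rfl
      apply chD_act_inv hvu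
      rw [ch_vu_coe, vMat_uMat_eV ε ⟨n, by have := j.isLt; omega⟩ j (by simp only []; omega)]
      exact h1
  exact chase_common hfin hm ε hε hu hv (fun j => hEup j.val j rfl)

theorem finTopStmt_holds : FinTopStmt m F := fun H he hf hc => fin_top H he hf hc

theorem chase_top (hm : 1 ≤ m) (H : Subgroup (Matrix.symplecticGroup (Fin (m + 1)) F)) (ε : F)
    (hε : ε ≠ 0) (hu : uS m F ∈ H) (hv : vS m ε ∈ H)
    (hT : ∀ c : F, tS (eV (Fin.last m)) c ∈ H) : H = ⊤ :=
  chase_core finTopStmt_holds hm ε hε hu hv hT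

theorem chase_top' (hm : 1 ≤ m) (H : Subgroup (Matrix.symplecticGroup (Fin (m + 1)) F)) (ε : F)
    (hε : ε ≠ 0) (hu : uS m F ∈ H) (hv : vS m ε ∈ H)
    (hT : ∀ c : F, tS (eV (0 : Fin (m + 1))) c ∈ H) : H = ⊤ :=
  chase_core' finTopStmt_holds hm ε hε hu hv hT

end Cfsg.Agent.Lib.Helper5.SpRU
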