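import Mathlib
import Cfsg.Prelude.Def_LieTypeChar
import Cfsg.Agent.Lib.Helper3.SylAbGen
import Cfsg.Agent.Lib.Helper5.SLnUni2
import Cfsg.Agent.Lib.Helper9.PSLFus2

set_option autoImplicit false

/-!
# S4625, package PK-SL: the Sylow 2-subgroups of `PSL_n(F)`, `char F = 2`

The upper unitriangular subgroup is generated by the positive transvections, which are involutions
in characteristic 2; its image in `PSL_n(F)` is a Sylow 2-subgroup.
-/

open Cfsg Cfsg.Agent.Lib.Helper3.SylAb

namespace Cfsg.Agent.Lib.Helper3.SylAb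

open Matrix Matrix.SpecialLinearGroup Cfsg.Agent.Lib.Helper5.SLnBN Cfsg.Agent.Lib.Helper5.SLnAut
  Cfsg.Agent.H9PF

/-- the unitriangular subgroup of `SL_n(F)` is generated by involutions in characteristic 2 -/
theorem genSq_unip_SL {F : Type*} [Field F] [CharP F 2] (n : ℕ) : GenSq (unip n F) := by
  apply genSq_of_involutions (unip n F) (posRoots n F)
  · apply le_antisymm unip_le_closure
    rw [Subgroup.closure_le]
    rintro g ⟨a, b, hab, t, rfl⟩
    exact transvection_mem_unip hab t
  · rintro g ⟨a, b, hab, t, rfl⟩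
    rw [pow_two, ← transvection_add, CharTwo.add_self_eq_zero, transvection_coeff_zero]

/-- PK-SL -/
theorem sqComm_PSL {F : Type*} [Field F] [Fintype F] [CharP F 2] (n : ℕ) (hn : 2 ≤ n)
    (hex : n = 2 → 4 ≤ Fintype.card F) :
    SqComm (Matrix.ProjectiveSpecialLinearGroup (Fin n) F) := by
  have : Fact (Nat.Prime 2) := ⟨Nat.prime_two⟩
  obtain ⟨f, -, hF⟩ := FiniteField.card F 2
  have hf : 1 ≤ (f : ℕ) := f.2
  have h1 : GenSq (unipBar n F) := (genSq_unip_SL (F := F) n).map piN
  exact sqComm_of_subgroup (unipBar n F) (isPGroup_unipBar hF)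
    (not_dvd_index_unipBar hf hF (by omega)) h1

end Cfsg.Agent.Lib.Helper3.SylAb
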