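import Mathlib
import Cfsg.Agent.Lib.Lead.Hx3Defs
import Cfsg.Agent.Lib.Lead.Hx3Calc
import Cfsg.Agent.Lib.Lead.Hx3R
import Cfsg.Agent.Lib.Helper3.S64l
import Cfsg.Agent.Lib.Helper2.Hx3E2

set_option autoImplicit false

/-!
# S2933 swarm, package A3: case (c) of the induction is impossible

`a3_core` is the statement `a3_case` of the stub with the class-two property `C2 T`
(package E2, `e2_class_two`) taken as a hypothesis.
-/

namespace Cfsg.Agent.Lib.Lead.Hx3

open Cfsg.Agent.Lib.Helper3.S64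
open scoped commutatorElement

variable {T : Type*} [Group T]

/-- (F3): an automorphism of order at most two of a nontrivial finite 2-group (here an invariant
subgroup `N`) fixes a nontrivial element. -/
theorem a3_f3 [Finite T] (t : MulAut T) (N : Subgroup T) (hN2 : IsPGroup 2 N) (hNne : N ≠ ⊥)
    (hNt : Inv t N) (ht2 : ∀ y : T, t (t y) = y) : ∃ n ∈ N, n ≠ 1 ∧ t n = n := by
  classical
  haveI : Fintype N := Fintype.ofFinite N
  haveI : Fact (Nat.Prime 2) := ⟨Nat.prime_two⟩
  let f : Function.End N := fun y => ⟨t y, hNt _ y.2⟩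
  have hf : f ^ 2 ^ 1 = 1 := by
    funext y
    apply Subtype.ext
    show t (t (y : T)) = y
    exact ht2 _
  have h1 := Equiv.Perm.card_fixedPoints_modEq (p := 2) (n := 1) (f := f) hf
  have hNcard : 2 ∣ Fintype.card N := by
    obtain ⟨k, hk⟩ := IsPGroup.iff_card.mp hN2
    rw [← Nat.card_eq_fintype_card, hk]
    cases k with
    | zero =>
      exfalso
      rw [pow_zero] at hk
      exact hNne (Subgroup.card_eq_one.mp hk)
    | succ k => exact dvd_pow_self 2 (Nat.succ_ne_zero k)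
  have h2 : 2 ∣ Fintype.card (Function.fixedPoints f) := by
    have := (Nat.modEq_zero_iff_dvd.mpr hNcard).symm.trans h1
    exact Nat.modEq_zero_iff_dvd.mp this.symm
  have h1fix : (1 : N) ∈ Function.fixedPoints f := by
    show f 1 = 1
    apply Subtype.ext
    show t ((1 : N) : T) = ((1 : N) : T)
    simp
  have hlt : 1 < Fintype.card (Function.fixedPoints f) := by
    have hpos : 0 < Fintype.card (Function.fixedPoints f) :=
      Fintype.card_pos_iff.mpr ⟨⟨1, h1fix⟩⟩
    have := Nat.le_of_dvd hpos h2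
    omega
  obtain ⟨⟨a, ha⟩, ⟨b, hb⟩, hab⟩ := Fintype.exists_pair_of_one_lt_card hlt
  have key : ∀ c : N, c ∈ Function.fixedPoints f → c ≠ 1 → ∃ n ∈ N, n ≠ 1 ∧ t n = n := by
    intro c hc hc1
    refine ⟨(c : T), c.2, fun h => hc1 (Subtype.ext h), ?_⟩
    exact congrArg Subtype.val hc
  by_cases ha1 : a = 1
  · have hb1 : b ≠ 1 := by
      intro hb1
      apply hab
      apply Subtype.ext
      simp [ha1, hb1]
    exact key b hb hb1
  · exact key a ha ha1

/-- lifting generation through a quotient -/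
theorem a3_lift (V : Subgroup T) [V.Normal] (B : Subgroup T) (hVB : V ≤ B)
    (hmap : ∀ g : T ⧸ V, g ∈ B.map (QuotientGroup.mk' V)) : B = ⊤ := by
  rw [eq_top_iff]
  intro g _
  obtain ⟨b, hb, hbg⟩ := hmap (QuotientGroup.mk g)
  have h1 : b⁻¹ * g ∈ V := by
    have : (QuotientGroup.mk b : T ⧸ V) = QuotientGroup.mk g := hbg
    exact QuotientGroup.eq.mp this
  have : g = b * (b⁻¹ * g) := by group
  rw [this]
  exact B.mul_mem hb (hVB h1)

/-- a subgroup generated by two commuting involutions has at most four elements -/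
theorem a3_card_le_four [Finite T] (c d : T) (hc : c ^ 2 = 1) (hd : d ^ 2 = 1)
    (hcd : c * d = d * c) : Nat.card (Subgroup.closure ({c, d} : Set T)) ≤ 4 := by
  classical
  let φ : Multiplicative F4 →* T :=
    MonoidHom.mk' (fun a => lin c d (Multiplicative.toAdd a)) (by
      intro a b
      exact lin_add c d hc hd hcd _ _)
  have hle : Subgroup.closure ({c, d} : Set T) ≤ φ.range := by
    rw [Subgroup.closure_le]
    rintro g (rfl | hg)
    · exact ⟨Multiplicative.ofAdd 1, lin_one g d⟩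
    · rw [Set.mem_singleton_iff] at hg
      subst hg
      exact ⟨Multiplicative.ofAdd F4.ω, lin_ω c g⟩
  have h1 : Nat.card φ.range ≤ Nat.card (Multiplicative F4) :=
    Nat.card_le_card_of_surjective φ.rangeRestrict φ.rangeRestrict_surjective
  have h2 : Nat.card (Multiplicative F4) = 4 := by
    rw [Nat.card_eq_fintype_card]
    exact F4.card
  exact (Subgroup.card_le_of_le hle).trans (h1.trans (le_of_eq h2))

/-- A3 with the class-two property as a hypothesis. -/
theorem a3_core [Finite T] {ρ t : MulAut T} {V : Subgroup T} [V.Normal] (h : HH ρ t V)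
    (hc2 : C2 T) (hcard : Nat.card (T ⧸ V) = 64) (hna : ∃ a b : T ⧸ V, a * b ≠ b * a) :
    False := by
  classical
  have hfpfb : Fpf3 (quotAut V ρ h.Vrho) := Fpf3.quot h.fpf V h.Vrho
  set ρb : MulAut (T ⧸ V) := quotAut V ρ h.Vrho with hρb
  have hyp : Hyp ρb := ⟨hcard, hna, hfpfb⟩
  -- the commutator subgroup of the quotient is its centre
  have hcomm_le : commutator (T ⧸ V) ≤ Subgroup.center (T ⧸ V) := by
    rw [commutator_def, Subgroup.commutator_le]
    intro a _ b _
    exact hyp.comm_mem_center a b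
  have hcomm_ne : commutator (T ⧸ V) ≠ ⊥ := by
    intro hbot
    obtain ⟨a, b, hab⟩ := hna
    apply hab
    have h1 : ⁅a, b⁆ ∈ commutator (T ⧸ V) := by
      rw [commutator_def]
      exact Subgroup.commutator_mem_commutator (Subgroup.mem_top a) (Subgroup.mem_top b)
    rw [hbot, Subgroup.mem_bot, commutatorElement_eq_one_iff_mul_comm] at h1
    exact h1
  have hcomm_card : Nat.card (commutator (T ⧸ V)) = 4 := by
    have h1 := hyp.card_inv (commutator (T ⧸ V)) (fun n hn => char_mem _ ρb hn)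
    have h2 := Subgroup.card_le_of_le hcomm_le
    rw [hyp.card_center] at h2
    have h3 : Nat.card (commutator (T ⧸ V)) ≠ 1 :=
      fun h1' => hcomm_ne (Subgroup.card_eq_one.mp h1')
    omega
  have hcomm_eq : commutator (T ⧸ V) = Subgroup.center (T ⧸ V) :=
    Subgroup.eq_of_le_of_card_ge hcomm_le (by rw [hcomm_card, hyp.card_center])
  have hcT : commutator T ≤ Subgroup.center T := by
    rw [commutator_def, Subgroup.commutator_le]
    intro a _ b _
    exact hc2 a b
  have hmapc : commutator (T ⧸ V) = (commutator T).map (QuotientGroup.mk' V) := by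
    rw [commutator_def, commutator_def, Subgroup.map_commutator, ← MonoidHom.range_eq_map,
      QuotientGroup.range_mk']
  -- preimages of central elements are central
  have hD : ∀ d : T, (QuotientGroup.mk d : T ⧸ V) ∈ Subgroup.center (T ⧸ V) →
      d ∈ Subgroup.center T := by
    intro d hd
    rw [← hcomm_eq, hmapc] at hd
    obtain ⟨c, hc, hcd⟩ := hd
    have h1 : c⁻¹ * d ∈ V := QuotientGroup.eq.mp hcd
    have : d = c * (c⁻¹ * d) := by group
    rw [this]
    exact Subgroup.mul_mem _ (hcT hc) (h.Vcen h1)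
  have hcen1 : ∀ d : T, d ∈ Subgroup.center T → ∀ g : T, ⁅g, d⁆ = 1 := by
    intro d hd g
    rw [commutatorElement_eq_one_iff_mul_comm]
    exact Subgroup.mem_center_iff.mp hd g
  have hcen1' : ∀ d : T, d ∈ Subgroup.center T → ∀ g : T, ⁅d, g⁆ = 1 := by
    intro d hd g
    rw [commutatorElement_eq_one_iff_mul_comm]
    exact (Subgroup.mem_center_iff.mp hd g).symm
  -- commutators have order at most two
  have hsq : ∀ x y : T, ⁅x, y⁆ ^ 2 = 1 := by
    intro x y
    rw [← hc2.comm_pow_left]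
    apply hcen1'
    apply hD
    have : (QuotientGroup.mk (x ^ 2) : T ⧸ V) = (QuotientGroup.mk x : T ⧸ V) ^ 2 := rfl
    rw [this]
    exact hyp.sq_mem_center _
  -- generators
  obtain ⟨ab, hab⟩ : ∃ ab : T ⧸ V, ab ∉ Subgroup.center (T ⧸ V) := by
    by_contra hcon
    push Not at hcon
    exact hyp.center_ne_top (eq_top_iff.mpr (fun g _ => hcon g))
  obtain ⟨x, rfl⟩ := QuotientGroup.mk_surjective ab
  have hv : (QuotientGroup.mk (QuotientGroup.mk x : T ⧸ V) : Cfsg.Agent.Lib.Helper3.S64.V (T ⧸ V)) ≠ 1 := by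
    rw [Ne, mk_eq_one_iff]
    exact hab
  obtain ⟨w, hw⟩ := hyp.exists_not_onLine (QuotientGroup.mk (QuotientGroup.mk x : T ⧸ V))
  obtain ⟨yb, rfl⟩ := QuotientGroup.mk_surjective w
  obtain ⟨y, rfl⟩ := QuotientGroup.mk_surjective yb
  have hgen := hyp.closure_eq_top (QuotientGroup.mk x) (QuotientGroup.mk y) hv hw
  -- the subgroup `C`
  set c : T := ⁅x, y⁆ with hc
  have hc2' : c ^ 2 = 1 := hsq x y
  have hρc2 : (ρ c) ^ 2 = 1 := by rw [← map_pow, hc2', map_one]
  have hccomm : c * ρ c = ρ c * c := by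
    have := hc2.comm_comm x y (ρ c)
    exact this
  set C : Subgroup T := Subgroup.closure ({c, ρ c} : Set T) with hC
  have hCcard : Nat.card C ≤ 4 := a3_card_le_four c (ρ c) hc2' hρc2 hccomm
  have hcC : c ∈ C := Subgroup.subset_closure (by simp)
  have hρcC : ρ c ∈ C := Subgroup.subset_closure (by simp)
  obtain ⟨r1, r2, r3, r4⟩ := r_rel h.fpf hc2 hsq x y
  obtain ⟨ry1, -, -, -⟩ := r_rel h.fpf hc2 hsq y y
  have Psymm : ∀ g k : T, ⁅g, k⁆ ∈ C → ⁅k, g⁆ ∈ C := by
    intro g k hgk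
    rw [C2.comm_symm g k]
    exact C.inv_mem hgk
  have hself : ∀ g : T, ⁅g, g⁆ ∈ C := by
    intro g
    rw [commutatorElement_self]
    exact C.one_mem
  have p_x_ρx : ⁅x, ρ x⁆ ∈ C := by rw [r1]; exact C.one_mem
  have p_x_y : ⁅x, y⁆ ∈ C := hcC
  have p_x_ρy : ⁅x, ρ y⁆ ∈ C := by rw [r4]; exact C.mul_mem hcC hρcC
  have p_ρx_y : ⁅ρ x, y⁆ ∈ C := by rw [r3]; exact p_x_ρy
  have p_ρx_ρy : ⁅ρ x, ρ y⁆ ∈ C := by rw [r2]; exact hρcC
  have p_y_ρy : ⁅y, ρ y⁆ ∈ C := by rw [ry1]; exact C.one_mem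
  let B₁ : Subgroup T :=
    { carrier := {k | ⁅x, k⁆ ∈ C ∧ ⁅ρ x, k⁆ ∈ C ∧ ⁅y, k⁆ ∈ C ∧ ⁅ρ y, k⁆ ∈ C}
      mul_mem' := by
        rintro a b ⟨a1, a2, a3, a4⟩ ⟨b1, b2, b3, b4⟩
        refine ⟨?_, ?_, ?_, ?_⟩ <;> rw [hc2.comm_mul_right]
        · exact C.mul_mem a1 b1
        · exact C.mul_mem a2 b2
        · exact C.mul_mem a3 b3
        · exact C.mul_mem a4 b4
      one_mem' := by
        refine ⟨?_, ?_, ?_, ?_⟩ <;> rw [C2.comm_one_right] <;> exact C.one_mem
      inv_mem' := by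
        rintro a ⟨a1, a2, a3, a4⟩
        refine ⟨?_, ?_, ?_, ?_⟩ <;> rw [hc2.comm_inv_right]
        · exact C.inv_mem a1
        · exact C.inv_mem a2
        · exact C.inv_mem a3
        · exact C.inv_mem a4 }
  have hcenB₁ : ∀ d : T, d ∈ Subgroup.center T → d ∈ B₁ := by
    intro d hd
    refine ⟨?_, ?_, ?_, ?_⟩ <;> rw [hcen1 d hd] <;> exact C.one_mem
  have hxB₁ : x ∈ B₁ := ⟨hself x, Psymm _ _ p_x_ρx, Psymm _ _ p_x_y, Psymm _ _ p_x_ρy⟩
  have hρxB₁ : ρ x ∈ B₁ := ⟨p_x_ρx, hself _, Psymm _ _ p_ρx_y, Psymm _ _ p_ρx_ρy⟩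
  have hyB₁ : y ∈ B₁ := ⟨p_x_y, p_ρx_y, hself _, Psymm _ _ p_y_ρy⟩
  have hρyB₁ : ρ y ∈ B₁ := ⟨p_x_ρy, p_ρx_ρy, p_y_ρy, hself _⟩
  -- a subgroup containing the centre and the four generators is everything
  have hlift : ∀ B : Subgroup T, (∀ d : T, d ∈ Subgroup.center T → d ∈ B) → x ∈ B → ρ x ∈ B →
      y ∈ B → ρ y ∈ B → B = ⊤ := by
    intro B hBc hBx hBρx hBy hBρy
    apply a3_lift V B (fun v hv => hBc v (h.Vcen hv))
    intro g
    have hle : Subgroup.closure ({(QuotientGroup.mk x : T ⧸ V), ρb (QuotientGroup.mk x),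
        (QuotientGroup.mk y : T ⧸ V), ρb (QuotientGroup.mk y)} ∪
        (Subgroup.center (T ⧸ V) : Set (T ⧸ V))) ≤ B.map (QuotientGroup.mk' V) := by
      rw [Subgroup.closure_le]
      rintro z (hz | hz)
      · rcases hz with rfl | rfl | rfl | hz
        · exact ⟨x, hBx, rfl⟩
        · exact ⟨ρ x, hBρx, rfl⟩
        · exact ⟨y, hBy, rfl⟩
        · rw [Set.mem_singleton_iff] at hz
          subst hz
          exact ⟨ρ y, hBρy, rfl⟩
      · obtain ⟨d, rfl⟩ := QuotientGroup.mk_surjective z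
        exact ⟨d, hBc d (hD d hz), rfl⟩
    rw [hgen] at hle
    exact hle (Subgroup.mem_top g)
  have hB₁top : B₁ = ⊤ := hlift B₁ hcenB₁ hxB₁ hρxB₁ hyB₁ hρyB₁
  have hB₁all : ∀ k : T, ⁅x, k⁆ ∈ C ∧ ⁅ρ x, k⁆ ∈ C ∧ ⁅y, k⁆ ∈ C ∧ ⁅ρ y, k⁆ ∈ C := by
    intro k
    have : k ∈ B₁ := hB₁top ▸ Subgroup.mem_top k
    exact this
  let B₂ : Subgroup T :=
    { carrier := {g | ∀ k : T, ⁅g, k⁆ ∈ C}
      mul_mem' := by
        intro a b ha hb k
        rw [hc2.comm_mul_left]
        exact C.mul_mem (ha k) (hb k)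
      one_mem' := by
        intro k
        rw [C2.comm_one_left]
        exact C.one_mem
      inv_mem' := by
        intro a ha k
        rw [hc2.comm_inv_left]
        exact C.inv_mem (ha k) }
  have hB₂top : B₂ = ⊤ := by
    apply hlift B₂
    · intro d hd k
      rw [hcen1' d hd]
      exact C.one_mem
    · exact fun k => (hB₁all k).1
    · exact fun k => (hB₁all k).2.1
    · exact fun k => (hB₁all k).2.2.1
    · exact fun k => (hB₁all k).2.2.2
  have hTC : commutator T ≤ C := by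
    rw [commutator_def, Subgroup.commutator_le]
    intro a _ b _
    have : a ∈ B₂ := hB₂top ▸ Subgroup.mem_top a
    exact this b
  -- the final contradiction
  have hT'ne : commutator T ≠ ⊥ := by
    intro hbot
    apply hcomm_ne
    rw [hmapc, hbot, Subgroup.map_bot]
  obtain ⟨n, hnT', hn1, htn⟩ := a3_f3 t (commutator T) (h.pg.to_subgroup _) hT'ne
    (fun n hn => char_mem _ t hn) h.tsq
  have hnV : n ∈ V := (h.fix n).mp htn
  have hWρ : Inv ρ (commutator T ⊓ V) := fun m hm => ⟨char_mem _ ρ hm.1, h.Vrho m hm.2⟩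
  have hWmod := h.fpf.card_mod (commutator T ⊓ V) hWρ
  have hWdvd : Nat.card (commutator T ⊓ V : Subgroup T) ∣ 4 := by
    rw [← h.Vcard]
    exact Subgroup.card_dvd_of_le inf_le_right
  have hWne1 : Nat.card (commutator T ⊓ V : Subgroup T) ≠ 1 := by
    intro h1
    have hbot : (commutator T ⊓ V : Subgroup T) = ⊥ := Subgroup.card_eq_one.mp h1
    have : n ∈ (commutator T ⊓ V : Subgroup T) := ⟨hnT', hnV⟩
    rw [hbot, Subgroup.mem_bot] at this
    exact hn1 this
  have hW4 : Nat.card (commutator T ⊓ V : Subgroup T) = 4 := by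
    have hle := Nat.le_of_dvd (by norm_num) hWdvd
    interval_cases hk : Nat.card (commutator T ⊓ V : Subgroup T) <;> omega
  have hWV : (commutator T ⊓ V : Subgroup T) = V :=
    Subgroup.eq_of_le_of_card_ge inf_le_right (by rw [hW4, h.Vcard])
  have hVT' : V ≤ commutator T := by
    rw [← hWV]
    exact inf_le_left
  have hT'card : Nat.card (commutator T) ≤ 4 := (Subgroup.card_le_of_le hTC).trans hCcard
  have hVeq : V = commutator T :=
    Subgroup.eq_of_le_of_card_ge hVT' (by rw [h.Vcard]; exact hT'card)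
  apply hcomm_ne
  rw [hmapc, ← hVeq]
  rw [eq_bot_iff]
  rintro _ ⟨v, hv, rfl⟩
  rw [Subgroup.mem_bot]
  exact (QuotientGroup.eq_one_iff v).mpr hv

/-- A3: case (c) of the induction is impossible. -/
theorem a3_case [Finite T] {ρ t : MulAut T} {V : Subgroup T} [V.Normal] (h : HH ρ t V)
    (hcard : Nat.card (T ⧸ V) = 64) (hna : ∃ a b : T ⧸ V, a * b ≠ b * a) : False :=
  a3_core h (e2_class_two h.pg h.fpf) hcard hna

end Cfsg.Agent.Lib.Lead.Hx3
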