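import Mathlib
import Cfsg.Agent.Lib.Helper7.PSolvable

set_option autoImplicit false
open scoped Pointwise

/-! Frattini argument for `p`-complements in `p`-solvable groups, and auxiliary lemmas for the
`p`-length statements S4378 / S4379. -/

namespace Cfsg.Agent.Lib.Helper7.PLen

open Cfsg Cfsg.Agent.Lib.Helper7

universe u

variable {G : Type u} [Group G]

theorem relIndex_subgroupOf_dvd' (A B K : Subgroup G) [A.Normal] :
    (A.subgroupOf K).relIndex (B.subgroupOf K) ∣ A.relIndex B := by
  have h1 : (A.subgroupOf K).relIndex (B.subgroupOf K) = A.relIndex (B ⊓ K) := by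
    rw [Subgroup.subgroupOf, Subgroup.subgroupOf, Subgroup.relIndex_comap, Subgroup.map_comap_eq,
      Subgroup.range_subtype, inf_comm]
  rw [h1]
  rw [← Subgroup.relIndex_sup_right (B ⊓ K) A, ← Subgroup.relIndex_sup_right B A]
  have h2 := Subgroup.relIndex_mul_relIndex A ((B ⊓ K) ⊔ A) (B ⊔ A) le_sup_right
    (sup_le_sup_right inf_le_left A)
  exact Dvd.intro _ h2

theorem isPSolvable_subgroup' {p : ℕ} [Fact p.Prime] (hG : IsPSolvable p G) (K : Subgroup G) :
    IsPSolvable p ↥K := by
  obtain ⟨n, H, h0, hn, hmono, hnormal, hfac⟩ := hG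
  refine ⟨n, fun i => (H i).subgroupOf K, ?_, ?_, ?_, ?_, ?_⟩
  · simp only [h0, Subgroup.bot_subgroupOf]
  · simp only [hn, Subgroup.top_subgroupOf]
  · intro i j hij
    exact Subgroup.comap_mono (hmono hij)
  · intro i
    haveI := hnormal i
    exact Subgroup.Normal.subgroupOf (hnormal i) K
  · intro i
    haveI := hnormal i.castSucc
    have hd := relIndex_subgroupOf_dvd' (H i.castSucc) (H i.succ) K
    rcases hfac i with ⟨m, hm⟩ | hc
    · left
      rw [hm] at hd
      obtain ⟨k, -, hk⟩ := (Nat.dvd_prime_pow (Fact.out : p.Prime)).mp hd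
      exact ⟨k, hk⟩
    · right
      exact Nat.Coprime.coprime_dvd_left hd hc

/-- Frattini argument for `p`-complements of a normal subgroup of a `p`-solvable group. -/
theorem frattini_pcompl [Finite G] {p : ℕ} [Fact p.Prime] (hG : IsPSolvable p G)
    (W K : Subgroup G) [hWn : W.Normal] (hKW : K ≤ W) (hKc : (Nat.card K).Coprime p)
    (hidx : ∃ n : ℕ, K.relIndex W = p ^ n) (g : G) :
    ∃ w ∈ W, cj (w * g) K = K := by
  have hW : IsPSolvable p ↥W := isPSolvable_subgroup' hG W
  obtain ⟨-, hconj, -⟩ := hallP_of_isPSolvable p hW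
  have hgKW : cj g K ≤ W := by
    intro x hx
    rw [mem_cj] at hx
    have h1 : g⁻¹ * x * g ∈ W := hKW hx
    have h2 := hWn.conj_mem _ h1 g
    have h3 : g * (g⁻¹ * x * g) * g⁻¹ = x := by group
    rwa [h3] at h2
  have hc1 : Nat.card (K.subgroupOf W) = Nat.card K :=
    Nat.card_congr (Subgroup.subgroupOfEquivOfLe hKW).toEquiv
  have hc2 : Nat.card ((cj g K).subgroupOf W) = Nat.card K := by
    rw [Nat.card_congr (Subgroup.subgroupOfEquivOfLe hgKW).toEquiv]
    exact Subgroup.card_map_of_injective (MulAut.conj g).injective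
  have hKpos : 0 < Nat.card K := Nat.card_pos
  have hP1 : IsPCompl p (K.subgroupOf W) := by
    refine ⟨by rw [hc1]; exact hKc, ?_⟩
    exact hidx
  have hP2 : IsPCompl p ((cj g K).subgroupOf W) := by
    refine ⟨by rw [hc2]; exact hKc, ?_⟩
    obtain ⟨n, hn⟩ := hidx
    refine ⟨n, ?_⟩
    have e1 := Subgroup.card_mul_index (K.subgroupOf W)
    have e2 := Subgroup.card_mul_index ((cj g K).subgroupOf W)
    rw [hc1] at e1
    rw [hc2] at e2
    have e3 : (K.subgroupOf W).index = p ^ n := hn
    rw [e3] at e1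
    rw [← e1] at e2
    exact Nat.eq_of_mul_eq_mul_left hKpos e2
  obtain ⟨w, hw⟩ := hconj _ _ hP1 hP2
  have hm1 : ((cj g K).subgroupOf W).map W.subtype = cj g K :=
    Subgroup.map_subgroupOf_eq_of_le hgKW
  have hm2 : (K.subgroupOf W).map W.subtype = K := Subgroup.map_subgroupOf_eq_of_le hKW
  have hm3 := map_subtype_cj W w (K.subgroupOf W)
  rw [← hw, hm1, hm2] at hm3
  refine ⟨(w : G)⁻¹, W.inv_mem w.2, ?_⟩
  rw [cj_mul, hm3, cj_inv_cj]

/-- a normal `p`-subgroup of `p'`-index in `W` has a complement in `W`. -/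
theorem exists_pcompl [Finite G] {p : ℕ} [Fact p.Prime] (W V : Subgroup G) [V.Normal]
    (hVW : V ≤ W) (hV : IsPGroup p V) (hidx : (V.relIndex W).Coprime p) :
    ∃ K : Subgroup G, K ≤ W ∧ (Nat.card K).Coprime p ∧ V ⊔ K = W ∧
      K.relIndex W = Nat.card V ∧ Nat.card K = V.relIndex W := by
  obtain ⟨a, ha⟩ := IsPGroup.iff_card.mp hV
  haveI : (V.subgroupOf W).Normal := Subgroup.Normal.subgroupOf inferInstance W
  have hcN : Nat.card (V.subgroupOf W) = Nat.card V :=
    Nat.card_congr (Subgroup.subgroupOfEquivOfLe hVW).toEquiv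
  have hcop : Nat.Coprime (Nat.card (V.subgroupOf W)) (V.subgroupOf W).index := by
    rw [hcN, ha]
    exact Nat.Coprime.pow_left a (Nat.Coprime.symm hidx)
  obtain ⟨K', hK'⟩ := Subgroup.exists_right_complement'_of_coprime hcop
  have hcard := hK'.card_mul_card
  have hidxN := Subgroup.card_mul_index (V.subgroupOf W)
  have hVpos : 0 < Nat.card (V.subgroupOf W) := Nat.card_pos
  have hK'card : Nat.card K' = V.relIndex W := by
    have : Nat.card (V.subgroupOf W) * Nat.card K' =
        Nat.card (V.subgroupOf W) * (V.subgroupOf W).index := by rw [hcard, hidxN]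
    exact Nat.eq_of_mul_eq_mul_left hVpos this
  have hKc : Nat.card (K'.map W.subtype) = Nat.card K' :=
    Subgroup.card_map_of_injective W.subtype_injective
  refine ⟨K'.map W.subtype, Subgroup.map_subtype_le K', ?_, ?_, ?_, ?_⟩
  · rw [hKc, hK'card]; exact hidx
  · have h1 := hK'.sup_eq_top
    have h2 : ((V.subgroupOf W) ⊔ K').map W.subtype = W := by
      rw [h1, ← MonoidHom.range_eq_map, Subgroup.range_subtype]
    rw [Subgroup.map_sup, Subgroup.map_subgroupOf_eq_of_le hVW] at h2
    exact h2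
  · have h1 : (K'.map W.subtype).relIndex W = K'.index := by
      rw [Subgroup.relIndex, Subgroup.subgroupOf, Subgroup.comap_map_eq_self_of_injective
        W.subtype_injective]
    rw [h1, ← hcN]
    have e1 := Subgroup.card_mul_index K'
    have hKpos : 0 < Nat.card K' := Nat.card_pos
    have : Nat.card K' * K'.index = Nat.card K' * Nat.card (V.subgroupOf W) := by
      rw [e1, mul_comm, hcard]
    exact Nat.eq_of_mul_eq_mul_left hKpos this
  · rw [hKc, hK'card]

/-- if `Y` is normal and meets `K` trivially then `|YK : K| = |Y|`. -/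
theorem relIndex_sup_of_disjoint [Finite G] (Y K : Subgroup G) [Y.Normal] (h : K ⊓ Y = ⊥) :
    K.relIndex (Y ⊔ K) = Nat.card Y := by
  rw [sup_comm, ← relIndex_eq_relIndex_sup_of_normal K Y, ← Subgroup.inf_relIndex_right, h,
    Subgroup.relIndex_bot_left]

end Cfsg.Agent.Lib.Helper7.PLen
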