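import Mathlib
import Cfsg.Agent.Lib.Helper4.LWB_Defs

/-!
# Livingstone–Wagner (b), package B: swappable ⇒ every permutation of `Δ` is induced
(helper7, for helper4's S0747/S0748 swarm; see `notes/S0747_S0748_PROOF_helper4.md`)
-/

set_option autoImplicit false

namespace Cfsg.Agent.Lib.Helper7.LWBB

open MulAction Cfsg.Agent.Lib.Helper4.LWB

variable {α : Type*} [Fintype α] [DecidableEq α]

/-- the permutations of `Δ` induced by elements of `G` (automatically stabilising `Δ`) -/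
def inducedOn (G : Subgroup (Equiv.Perm α)) (Δ : Finset α) : Subgroup (Equiv.Perm ↥Δ) where
  carrier := {σ | ∃ g ∈ G, ∀ x : ↥Δ, g (x : α) = σ x}
  mul_mem' := by
    rintro σ τ ⟨g, hg, h1⟩ ⟨k, hk, h2⟩
    refine ⟨g * k, G.mul_mem hg hk, fun x => ?_⟩
    rw [Equiv.Perm.mul_apply, h2 x, h1 (τ x)]
    rfl
  one_mem' := ⟨1, G.one_mem, fun x => rfl⟩
  inv_mem' := by
    rintro σ ⟨g, hg, h1⟩
    refine ⟨g⁻¹, G.inv_mem hg, fun x => ?_⟩
    rw [Equiv.Perm.inv_eq_iff_eq]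
    have h := h1 (σ⁻¹ x)
    have h2 : σ (σ⁻¹ x) = x := by simp
    rw [h2] at h
    exact h.symm

omit [Fintype α] [DecidableEq α] in
theorem mem_inducedOn (G : Subgroup (Equiv.Perm α)) (Δ : Finset α) (σ : Equiv.Perm ↥Δ) :
    σ ∈ inducedOn G Δ ↔ ∃ g ∈ G, ∀ x : ↥Δ, g (x : α) = σ x := Iff.rfl

theorem inducedOn_eq_top_of_swappable (G : Subgroup (Equiv.Perm α)) {Δ : Finset α}
    (h : Swappable G Δ) : inducedOn G Δ = ⊤ := by
  classical
  rw [eq_top_iff, ← Equiv.Perm.closure_isSwap, Subgroup.closure_le]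
  rintro σ ⟨x, y, hxy, rfl⟩
  obtain ⟨g, hg, hgx, hgy, hgz⟩ := h x x.2 y y.2 (fun h => hxy (Subtype.ext h))
  refine ⟨g, hg, fun z => ?_⟩
  by_cases hzx : z = x
  · subst hzx; rw [hgx, Equiv.swap_apply_left]
  by_cases hzy : z = y
  · subst hzy; rw [hgy, Equiv.swap_apply_right]
  · rw [Equiv.swap_apply_of_ne_of_ne hzx hzy]
    exact hgz z z.2 (fun h => hzx (Subtype.ext h)) (fun h => hzy (Subtype.ext h))

end Cfsg.Agent.Lib.Helper7.LWBB

namespace Cfsg.Agent.Lib.Helper4.LWB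

open Cfsg.Agent.Lib.Helper7.LWBB

variable {α : Type*} [Fintype α] [DecidableEq α]

/-- **Package B.** -/
theorem induced_of_swappable (G : Subgroup (Equiv.Perm α)) {Δ : Finset α} (h : Swappable G Δ)
    (σ : Equiv.Perm ↥Δ) : ∃ g ∈ G, ∀ x : ↥Δ, g (x : α) = σ x := by
  have h1 : σ ∈ inducedOn G Δ := by
    rw [inducedOn_eq_top_of_swappable G h]
    exact Subgroup.mem_top σ
  exact h1

end Cfsg.Agent.Lib.Helper4.LWB
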