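import Mathlib

set_option autoImplicit false

/-!
The semidirect product `V ⋊ H` of an additive group `V` by a group `H` acting on it, and the
orders of its elements when `V` has exponent `2` and the nontrivial elements of odd order of `H`
act fixed-point-freely.
-/

namespace Cfsg.Agent.Lib.Helper7

/-- the semidirect product `V ⋊ H` -/
structure AffGp (H V : Type*) where
  /-- translation part -/
  v : V
  /-- linear part -/
  g : H

namespace AffGp

variable {H V : Type*} [Group H] [AddCommGroup V] [DistribMulAction H V]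

theorem ext' {a b : AffGp H V} (hv : a.v = b.v) (hg : a.g = b.g) : a = b := by
  cases a; cases b; simp_all

instance : Mul (AffGp H V) := ⟨fun a b => ⟨a.v + a.g • b.v, a.g * b.g⟩⟩
instance : One (AffGp H V) := ⟨⟨0, 1⟩⟩
instance : Inv (AffGp H V) := ⟨fun a => ⟨-(a.g⁻¹ • a.v), a.g⁻¹⟩⟩

@[simp] theorem mul_v (a b : AffGp H V) : (a * b).v = a.v + a.g • b.v := rfl
@[simp] theorem mul_g (a b : AffGp H V) : (a * b).g = a.g * b.g := rfl
@[simp] theorem one_v : (1 : AffGp H V).v = 0 := rfl
@[simp] theorem one_g : (1 : AffGp H V).g = 1 := rfl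
@[simp] theorem inv_v (a : AffGp H V) : (a⁻¹).v = -(a.g⁻¹ • a.v) := rfl
@[simp] theorem inv_g (a : AffGp H V) : (a⁻¹).g = a.g⁻¹ := rfl

instance : Group (AffGp H V) :=
  Group.ofLeftAxioms
    (fun a b c => ext' (by simp [smul_add, mul_smul, add_assoc]) (by simp [mul_assoc]))
    (fun a => ext' (by simp) (by simp))
    (fun a => ext' (by simp) (by simp))

/-- the projection onto `H` -/
def rightHom : AffGp H V →* H where
  toFun a := a.g
  map_one' := rfl
  map_mul' _ _ := rfl

@[simp] theorem rightHom_apply (a : AffGp H V) : rightHom a = a.g := rfl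

/-- the embedding of `H` -/
def inr : H →* AffGp H V where
  toFun h := ⟨0, h⟩
  map_one' := rfl
  map_mul' a b := ext' (by simp) (by simp)

@[simp] theorem inr_g (h : H) : (inr h : AffGp H V).g = h := rfl
@[simp] theorem inr_v (h : H) : (inr h : AffGp H V).v = 0 := rfl

theorem inr_injective : Function.Injective (inr : H → AffGp H V) := by
  intro a b hab
  have := congrArg AffGp.g hab
  simpa using this

theorem orderOf_inr (h : H) : orderOf (inr h : AffGp H V) = orderOf h :=
  orderOf_injective inr inr_injective h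

theorem pow_g (a : AffGp H V) (k : ℕ) : (a ^ k).g = a.g ^ k := by
  have := map_pow (rightHom : AffGp H V →* H) a k
  simpa using this

/-- equivalence with the product -/
def equivProd : AffGp H V ≃ V × H where
  toFun a := (a.v, a.g)
  invFun x := ⟨x.1, x.2⟩
  left_inv a := by cases a; rfl
  right_inv x := by cases x; rfl

instance [Finite H] [Finite V] : Finite (AffGp H V) := Finite.of_equiv _ equivProd.symm

theorem card_ge [Finite H] [Finite V] : Nat.card V ≤ Nat.card (AffGp H V) := by
  apply Nat.card_le_card_of_injective (fun v : V => (⟨v, 1⟩ : AffGp H V))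
  intro a b hab
  exact congrArg AffGp.v hab

/-- `w ^ (orderOf w.g)` is a translation fixed by `w.g` -/
theorem pow_orderOf_g (w : AffGp H V) :
    w ^ orderOf w.g = ⟨(w ^ orderOf w.g).v, 1⟩ := by
  refine ext' ?_ ?_
  · rfl
  · show (w ^ orderOf w.g).g = 1
    rw [pow_g, pow_orderOf_eq_one]

theorem smul_pow_v (w : AffGp H V) : w.g • (w ^ orderOf w.g).v = (w ^ orderOf w.g).v := by
  have h1 : w * w ^ orderOf w.g = w ^ orderOf w.g * w := by
    rw [← pow_succ', ← pow_succ]
  have h2 := congrArg AffGp.v h1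
  rw [mul_v, mul_v, pow_g, pow_orderOf_eq_one, one_smul, add_comm] at h2
  exact add_right_cancel h2

theorem sq_trans (hV2 : ∀ v : V, v + v = 0) (u : V) : (⟨u, 1⟩ : AffGp H V) ^ 2 = 1 := by
  rw [pow_two]
  apply ext'
  · simp [hV2]
  · simp

theorem orderOf_dvd_two_mul [Finite H] (hV2 : ∀ v : V, v + v = 0) (w : AffGp H V) :
    orderOf w ∣ 2 * orderOf w.g := by
  apply orderOf_dvd_of_pow_eq_one
  rw [mul_comm, pow_mul, pow_orderOf_g, sq_trans hV2]

theorem orderOf_g_dvd (w : AffGp H V) : orderOf w.g ∣ orderOf w :=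
  orderOf_map_dvd (rightHom : AffGp H V →* H) w

theorem orderOf_eq_of_odd [Finite H]
    (hfpf : ∀ g : H, g ≠ 1 → Odd (orderOf g) → ∀ v : V, g • v = v → v = 0)
    (w : AffGp H V) (hg1 : w.g ≠ 1) (hodd : Odd (orderOf w.g)) : orderOf w = orderOf w.g := by
  apply Nat.dvd_antisymm _ (orderOf_g_dvd w)
  apply orderOf_dvd_of_pow_eq_one
  rw [pow_orderOf_g, hfpf w.g hg1 hodd _ (smul_pow_v w)]
  rfl

theorem orderOf_eq_four [Finite H] (hV2 : ∀ v : V, v + v = 0) (g : H) (hg : orderOf g = 2)
    (v : V) (hv : g • v ≠ v) : orderOf (⟨v, g⟩ : AffGp H V) = 4 := by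
  set w : AffGp H V := ⟨v, g⟩ with hw
  have h1 : orderOf w ∣ 2 ^ 2 := by
    have := orderOf_dvd_two_mul hV2 w
    rw [show w.g = g from rfl, hg] at this
    exact this
  have h2 : ¬ orderOf w ∣ 2 := by
    intro hd
    have h3 : w ^ 2 = 1 := orderOf_dvd_iff_pow_eq_one.mp hd
    have h4 := congrArg AffGp.v h3
    rw [pow_two, mul_v, one_v] at h4
    have h5 : g • v = v := by
      have h6 : w.g • w.v = g • v := rfl
      have h7 : w.v = v := rfl
      rw [h6, h7] at h4
      have h8 := hV2 v
      have : g • v = -v := by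
        rw [add_comm] at h4
        exact eq_neg_of_add_eq_zero_left h4
      rw [this]
      exact (eq_neg_of_add_eq_zero_left h8).symm
    exact hv h5
  obtain ⟨j, hj, hjo⟩ := (Nat.dvd_prime_pow Nat.prime_two).mp h1
  interval_cases j
  · rw [hjo] at h2; exact absurd (by norm_num) h2
  · rw [hjo] at h2; exact absurd (by norm_num) h2
  · rw [hjo]; norm_num

section main

variable [Finite H]
  (hV2 : ∀ v : V, v + v = 0)
  (hfpf : ∀ g : H, g ≠ 1 → Odd (orderOf g) → ∀ v : V, g • v = v → v = 0)
include hV2 hfpf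

/-- the order of `w` is `o` or `2 o` where `o` is the order of its linear part, and `o` if `o`
is odd and `≠ 1`. -/
theorem orderOf_cases (w : AffGp H V) :
    orderOf w = orderOf w.g ∨ (orderOf w = 2 * orderOf w.g ∧ (Even (orderOf w.g) ∨ w.g = 1)) := by
  have h1 := orderOf_dvd_two_mul hV2 w
  obtain ⟨c, hc⟩ := orderOf_g_dvd w
  have ho : 0 < orderOf w.g := orderOf_pos _
  rw [hc] at h1
  have h2 : c ∣ 2 := by
    rw [mul_comm 2] at h1
    exact Nat.dvd_of_mul_dvd_mul_left ho h1
  rcases (Nat.dvd_prime Nat.prime_two).mp h2 with rfl | rfl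
  · left; rw [hc, mul_one]
  · by_cases hg1 : w.g = 1
    · right; exact ⟨by rw [hc, mul_comm], Or.inr hg1⟩
    · rcases Nat.even_or_odd (orderOf w.g) with he | hodd
      · right; exact ⟨by rw [hc, mul_comm], Or.inl he⟩
      · left; exact orderOf_eq_of_odd hfpf w hg1 hodd

/-- edges of the prime graph are the same as those of `H` -/
theorem exists_orderOf_mul_iff (p q : ℕ) (hp : p.Prime) (hq : q.Prime) (hpq : p ≠ q) :
    (∃ w : AffGp H V, orderOf w = p * q) ↔ ∃ g : H, orderOf g = p * q := by
  constructor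
  · rintro ⟨w, hw⟩
    rcases orderOf_cases hV2 hfpf w with h | ⟨h, h'⟩
    · exact ⟨w.g, h ▸ hw⟩
    · exfalso
      rw [hw] at h
      rcases h' with he | h1
      · -- `4 ∣ p q`
        obtain ⟨c, hc⟩ := he
        have h4 : 4 ∣ p * q := ⟨c, by rw [h, hc]; ring⟩
        have h2 : (2 : ℕ) ∣ p * q := (by norm_num : (2 : ℕ) ∣ 4).trans h4
        rcases (Nat.Prime.dvd_mul Nat.prime_two).mp h2 with hd | hd
        · have hp2 : p = 2 := ((Nat.prime_dvd_prime_iff_eq Nat.prime_two hp).mp hd).symm
          subst hp2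
          have : 2 ∣ q := by
            have : 2 * 2 ∣ 2 * q := h4
            exact Nat.dvd_of_mul_dvd_mul_left two_pos this
          exact hpq ((Nat.prime_dvd_prime_iff_eq Nat.prime_two hq).mp this)
        · have hq2 : q = 2 := ((Nat.prime_dvd_prime_iff_eq Nat.prime_two hq).mp hd).symm
          subst hq2
          have : 2 ∣ p := by
            have : 2 * 2 ∣ p * 2 := h4
            rw [mul_comm p 2] at this
            exact Nat.dvd_of_mul_dvd_mul_left two_pos this
          exact hpq ((Nat.prime_dvd_prime_iff_eq Nat.prime_two hp).mp this).symm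
      · rw [h1, orderOf_one, mul_one] at h
        -- `p q = 2`
        have hp2 := hp.two_le
        have hq2 := hq.two_le
        nlinarith
  · rintro ⟨g, hg⟩
    exact ⟨inr g, by rw [orderOf_inr, hg]⟩

/-- prime divisors: elements of prime order -/
theorem exists_orderOf_prime_iff (h2 : ∃ g : H, orderOf g = 2) (p : ℕ) (hp : p.Prime) :
    (∃ w : AffGp H V, orderOf w = p) ↔ ∃ g : H, orderOf g = p := by
  constructor
  · rintro ⟨w, hw⟩
    rcases orderOf_cases hV2 hfpf w with h | ⟨h, -⟩
    · exact ⟨w.g, h ▸ hw⟩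
    · have hd : 2 ∣ p := ⟨_, hw ▸ h⟩
      have : p = 2 := ((Nat.prime_dvd_prime_iff_eq Nat.prime_two hp).mp hd).symm
      rw [this]; exact h2
  · rintro ⟨g, hg⟩
    exact ⟨inr g, by rw [orderOf_inr, hg]⟩

end main

end AffGp

end Cfsg.Agent.Lib.Helper7
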