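import Mathlib
import Cfsg.Agent.Lib.Helper7.AffExt

set_option autoImplicit false

/-!
`V ⋊ H` when every nontrivial element of `H` acts fixed-point-freely on `V`, and `V` has
exponent `p`: the spectrum is that of `H` together with `p`.
-/

namespace Cfsg.Agent.Lib.Helper7

namespace AffGp

variable {H V : Type*} [Group H] [AddCommGroup V] [DistribMulAction H V]

theorem trans_pow (v : V) (n : ℕ) : (⟨v, 1⟩ : AffGp H V) ^ n = ⟨n • v, 1⟩ := by
  induction n with
  | zero => rw [pow_zero, zero_smul]; rfl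
  | succ n ih =>
    rw [pow_succ, ih]
    apply ext'
    · simp [succ_nsmul]
    · simp

theorem orderOf_eq_of_fpf [Finite H]
    (hfpf : ∀ g : H, g ≠ 1 → ∀ v : V, g • v = v → v = 0)
    (w : AffGp H V) (hg1 : w.g ≠ 1) : orderOf w = orderOf w.g := by
  apply Nat.dvd_antisymm _ (orderOf_g_dvd w)
  apply orderOf_dvd_of_pow_eq_one
  rw [pow_orderOf_g, hfpf w.g hg1 _ (smul_pow_v w)]
  rfl

theorem spectrum_frob [Finite H] (p : ℕ) (hp : p.Prime)
    (hfpf : ∀ g : H, g ≠ 1 → ∀ v : V, g • v = v → v = 0)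
    (hVp : ∀ v : V, p • v = 0) (hV : ∃ v : V, v ≠ 0) :
    Set.range (orderOf : AffGp H V → ℕ) = Set.range (orderOf : H → ℕ) ∪ {p} := by
  ext m
  simp only [Set.mem_range, Set.mem_union, Set.mem_singleton_iff]
  constructor
  · rintro ⟨w, rfl⟩
    by_cases hg1 : w.g = 1
    · have hw : w = ⟨w.v, 1⟩ := ext' rfl hg1
      have h1 : w ^ p = 1 := by
        rw [hw, trans_pow, hVp]; rfl
      have h2 : orderOf w ∣ p := orderOf_dvd_of_pow_eq_one h1
      rcases (Nat.dvd_prime hp).mp h2 with h | h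
      · left; exact ⟨1, by rw [orderOf_one, h]⟩
      · right; exact h
    · left; exact ⟨w.g, (orderOf_eq_of_fpf hfpf w hg1).symm⟩
  · rintro (⟨g, rfl⟩ | rfl)
    · exact ⟨inr g, orderOf_inr g⟩
    · obtain ⟨v, hv⟩ := hV
      refine ⟨⟨v, 1⟩, ?_⟩
      have h1 : (⟨v, 1⟩ : AffGp H V) ^ m = 1 := by
        rw [trans_pow, hVp]; rfl
      have h2 : orderOf (⟨v, 1⟩ : AffGp H V) ∣ m := orderOf_dvd_of_pow_eq_one h1
      rcases (Nat.dvd_prime hp).mp h2 with h | h
      · exfalso
        rw [orderOf_eq_one_iff] at h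
        exact hv (congrArg AffGp.v h)
      · exact h

/-- translations -/
def inl : Multiplicative V →* AffGp H V where
  toFun v := ⟨Multiplicative.toAdd v, 1⟩
  map_one' := rfl
  map_mul' a b := by
    apply ext'
    · simp
    · simp

instance [Group.IsSolvable H] : Group.IsSolvable (AffGp H V) := by
  apply Group.isSolvable_of_ker_le_range (inl : Multiplicative V →* AffGp H V) rightHom
  intro w hw
  rw [MonoidHom.mem_ker, rightHom_apply] at hw
  exact ⟨Multiplicative.ofAdd w.v, ext' rfl hw.symm⟩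

end AffGp

end Cfsg.Agent.Lib.Helper7
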