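import Mathlib
import Cfsg.Agent.Lib.Helper7.McLB1

set_option autoImplicit false
set_option maxRecDepth 100000

/-! The McLaughlin group as a permutation group on 275 points: the checks of the data. -/

namespace Cfsg.Agent.Lib.Helper7.McLB

open Cfsg Cfsg.Agent.Lib.Helper1.LeechEnum

/-- the packed vector of an index -/
def vL (i : ℕ) : ℕ := L275.getD i 0

/-- the generator of a code -/
def gOf (c : ℕ) : List (List ℕ) := Nat.rec (motive := fun _ => List (List ℕ)) ga (fun _ _ => gb) c

theorem ga_ok : genOK [pD0, pU] ga = true := by decide +kernel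

theorem gb_ok : genOK [pD0, pU] gb = true := by decide +kernel

theorem tree_ok : allB (fun i => Nat.beq i 0 ||
    (Nat.beq (applyGen (gOf (pargL.getD i 0)) (vL (parL.getD i 0))) (vL i) &&
      Nat.blt (parL.getD i 0) i)) 275 = true := by decide +kernel

theorem actA_ok : allB (fun i => Nat.beq (applyGen ga (vL i)) (vL (tA.getD i 0))) 275 = true := by
  decide +kernel

theorem actB_ok : allB (fun i => Nat.beq (applyGen gb (vL i)) (vL (tB.getD i 0))) 275 = true := by
  decide +kernel

theorem inv_ok : allB (fun i =>
    Nat.blt (tA.getD i 0) 275 && Nat.blt (tB.getD i 0) 275 &&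
    Nat.blt (tAi.getD i 0) 275 && Nat.blt (tBi.getD i 0) 275 &&
    Nat.beq (tA.getD (tAi.getD i 0) 0) i && Nat.beq (tAi.getD (tA.getD i 0) 0) i &&
    Nat.beq (tB.getD (tBi.getD i 0) 0) i && Nat.beq (tBi.getD (tB.getD i 0) 0) i) 275 = true := by
  decide +kernel

theorem L275_nodup : L275.Nodup := by decide +kernel

theorem L275_length : L275.length = 275 := by decide +kernel

theorem L275_lt : allB (fun i => Nat.blt (vL i) (65536 ^ 24)) 275 = true := by decide +kernel

theorem vL_zero : vL 0 = pX1 := by decide +kernel

end Cfsg.Agent.Lib.Helper7.McLB
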