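import Mathlib
import Cfsg.Agent.Lib.Helper7.McLB2
import Cfsg.Agent.Lib.Helper1.EnC6
import Cfsg.Agent.Lib.Helper1.LeechEnum10
import Cfsg.Agent.S1580

set_option autoImplicit false
set_option maxRecDepth 100000

/-! The McLaughlin group as a permutation group on 275 points: the vectors. -/

namespace Cfsg.Agent.Lib.Helper7.McLB

open Cfsg MulAction Cfsg.Agent.Lib.Helper1 Cfsg.Agent.Lib.Helper1.LeechEnum
  Cfsg.Agent.Lib.Helper1.LeechConn Cfsg.Agent.Lib.Helper1.LeechAut

/-- the condition defining the 275 vectors -/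
def CC (z : GolayPt → ℤ) : Prop := dotInt d₀ z = 24 ∧ dotInt Cfsg.Spor.vecU z = 16

/-- the 275 vectors -/
def OmF : Set (GolayPt → ℤ) := {z | z ∈ leechLattice ∧ sqNorm z = 32 ∧ CC z}

theorem OmF_ncard : OmF.ncard = 275 :=
  EnC6.census (fun z => dotInt d₀ z = 24 ∧ dotInt Cfsg.Spor.vecU z = 16) Cfsg.Agent.S1580.cond_iff

theorem hY : ∀ y ∈ [pD0, pU], Good y := by
  intro y hy
  have : y = pD0 ∨ y = pU := by simpa using hy
  rcases this with rfl | rfl
  · exact good_pD0
  · exact good_pU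

/-- the first lattice vector -/
def D0L : leechLattice := ⟨d₀, d0_mem⟩

/-- what is preserved by the generators -/
theorem tracks_step {f : ℕ → ℕ} (hf : TracksFix [pD0, pU] f) {v : ℕ} (hv : Good v) :
    Good (f v) ∧ sqNorm (vec (f v)) = sqNorm (vec v) ∧
      dotInt d₀ (vec (f v)) = dotInt d₀ (vec v) ∧
      dotInt Cfsg.Spor.vecU (vec (f v)) = dotInt Cfsg.Spor.vecU (vec v) := by
  obtain ⟨F, hF, hFY, hFv⟩ := hf
  have h1 := hFv v hv
  have hd : F d₀ = d₀ := by
    have := hFY pD0 (by simp)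
    rwa [vec_pD0] at this
  have hu : F Cfsg.Spor.vecU = Cfsg.Spor.vecU := by
    have := hFY pU (by simp)
    rwa [vec_pU] at this
  obtain ⟨g, hg⟩ := hF
  have e0 := hg ⟨vec v, hv.1⟩
  have e1 := hg D0L
  have e2 := hg Cfsg.Spor.leechU
  refine ⟨IsAct.good ⟨g, hg⟩ hv h1, ?_, ?_, ?_⟩
  · rw [h1]
    exact IsAct.sqNorm ⟨g, hg⟩ hv.1
  · have := smul_dot g D0L ⟨vec v, hv.1⟩
    rw [e0, e1] at this
    rw [h1]
    show dotInt d₀ (F (vec v)) = dotInt d₀ (vec v)
    have hd' : F (D0L : GolayPt → ℤ) = d₀ := hd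
    rw [hd'] at this
    exact this
  · have := smul_dot g Cfsg.Spor.leechU ⟨vec v, hv.1⟩
    rw [e0, e2] at this
    rw [h1]
    have hu' : F (Cfsg.Spor.leechU : GolayPt → ℤ) = Cfsg.Spor.vecU := hu
    rw [hu'] at this
    exact this

theorem tracks_gOf (c : ℕ) : TracksFix [pD0, pU] (applyGen (gOf c)) := by
  cases c with
  | zero => exact genOK_sound hY ga_ok
  | succ n => exact genOK_sound hY gb_ok

theorem CC_root : CC vecX1 := by
  unfold CC
  constructor <;> decide +kernel

/-- the vectors of the list are among the 275 vectors -/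
theorem vL_props : ∀ i < 275, Good (vL i) ∧ sqNorm (vec (vL i)) = 32 ∧ CC (vec (vL i)) := by
  intro i
  induction i using Nat.strong_induction_on with
  | _ i ih =>
    intro hi
    have h := (allB_iff _ _).mp tree_ok i hi
    rw [Bool.or_eq_true] at h
    rcases h with h | h
    · have hi0 : i = 0 := (nbeq_iff _ _).mp h
      rw [hi0, vL_zero]
      refine ⟨good_pX1, ?_, ?_⟩
      · rw [vec_pX1]; exact vecX1_norm
      · rw [vec_pX1]; exact CC_root
    · rw [Bool.and_eq_true] at h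
      have h1 := (nbeq_iff _ _).mp h.1
      have h2 : parL.getD i 0 < i := by
        have := h.2
        rwa [Nat.blt_eq] at this
      obtain ⟨hg, hn, hc⟩ := ih _ h2 (lt_trans h2 hi)
      obtain ⟨a, b, c, d⟩ := tracks_step (tracks_gOf (pargL.getD i 0)) hg
      rw [h1] at a b c d
      refine ⟨a, by rw [b, hn], ?_, ?_⟩
      · rw [c]; exact hc.1
      · rw [d]; exact hc.2

end Cfsg.Agent.Lib.Helper7.McLB
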