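import Mathlib
import Cfsg.Agent.Lib.Helper7.McLB3
import Cfsg.Agent.S0404

set_option autoImplicit false
set_option maxRecDepth 100000

/-! The McLaughlin group as a permutation group on 275 points: the action. -/

namespace Cfsg.Agent.Lib.Helper7.McLB

open Cfsg MulAction Cfsg.Agent.Lib.Helper1 Cfsg.Agent.Lib.Helper1.LeechEnum
  Cfsg.Agent.Lib.Helper1.LeechConn Cfsg.Agent.Lib.Helper1.LeechAut

theorem vec_inj {v w : ℕ} (hv : v < 65536 ^ 24) (hw : w < 65536 ^ 24) (h : vec v = vec w) :
    v = w := by
  have hf : ∀ k < 24, fld k v = fld k w := by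
    intro k hk
    have := congrFun h (gUnidx k)
    rw [vec_apply, vec_apply, gIdx_gUnidx k hk] at this
    have h3 : (fld k v : ℤ) = (fld k w : ℤ) := by linarith
    exact_mod_cast h3
  have h1 : pkr 24 (fun k => fld k v) = v := by
    rw [pkr_flds]
    exact Nat.mod_eq_of_lt hv
  have h2 : pkr 24 (fun k => fld k w) = w := by
    rw [pkr_flds]
    exact Nat.mod_eq_of_lt hw
  have h3 : (List.range 24).map (fun k => fld k v) = (List.range 24).map (fun k => fld k w) := by
    apply List.map_congr_left
    intro k hk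
    exact hf k (List.mem_range.mp hk)
  have h4 : pkr 24 (fun k => fld k v) = pkr 24 (fun k => fld k w) := by
    unfold pkr
    rw [h3]
  rw [← h1, h4, h2]

theorem vL_lt (i : ℕ) (hi : i < 275) : vL i < 65536 ^ 24 := by
  have := (allB_iff _ _).mp L275_lt i hi
  rwa [Nat.blt_eq] at this

theorem vL_inj (i j : ℕ) (hi : i < 275) (hj : j < 275) (h : vL i = vL j) : i = j := by
  unfold vL at h
  rw [List.getD_eq_getElem _ _ (by rw [L275_length]; exact hi),
    List.getD_eq_getElem _ _ (by rw [L275_length]; exact hj)] at h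
  exact (List.Nodup.getElem_inj_iff L275_nodup).mp h

/-- the 275 vectors as lattice vectors -/
def OmL : Set leechLattice :=
  {x | sqNorm (x : GolayPt → ℤ) = 32 ∧ CC (x : GolayPt → ℤ)}

theorem OmL_ncard : OmL.ncard = 275 := by
  have := ncard_subtype (fun z => sqNorm z = 32 ∧ CC z)
  rw [← OmF_ncard]
  exact this

/-- the lattice vector of an index -/
def xL (i : Fin 275) : leechLattice := ⟨vec (vL i), (vL_props i i.isLt).1.1⟩

theorem xL_mem (i : Fin 275) : xL i ∈ OmL := (vL_props i i.isLt).2

theorem xL_injective : Function.Injective xL := by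
  intro i j h
  have h1 : vec (vL i) = vec (vL j) := congrArg Subtype.val h
  exact Fin.ext (vL_inj i j i.isLt j.isLt (vec_inj (vL_lt i i.isLt) (vL_lt j j.isLt) h1))

theorem range_xL : Set.range xL = OmL := by
  have hfin : OmL.Finite := Set.finite_of_ncard_ne_zero (by rw [OmL_ncard]; norm_num)
  apply Set.eq_of_subset_of_ncard_le _ _ hfin
  · rintro _ ⟨i, rfl⟩
    exact xL_mem i
  · rw [OmL_ncard, Set.ncard_range_of_injective xL_injective, Nat.card_eq_fintype_card,
      Fintype.card_fin]

/-- the index of one of the 275 vectors -/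
theorem exists_index (x : leechLattice) (hx : x ∈ OmL) : ∃ i : Fin 275, xL i = x := by
  rw [← range_xL] at hx
  exact hx

/-- the stabilizer of the two vectors -/
def M0 : Subgroup Co0 := stabilizer Co0 D0L ⊓ stabilizer Co0 Cfsg.Spor.leechU

theorem mem_M0 (g : Co0) : g ∈ M0 ↔ g • D0L = D0L ∧ g • Cfsg.Spor.leechU = Cfsg.Spor.leechU := by
  unfold M0
  rw [Subgroup.mem_inf, mem_stabilizer_iff, mem_stabilizer_iff]

theorem smul_mem_OmL (g : Co0) (hg : g ∈ M0) (x : leechLattice) (hx : x ∈ OmL) : g • x ∈ OmL := by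
  obtain ⟨h1, h2⟩ := (mem_M0 g).mp hg
  obtain ⟨hn, hc1, hc2⟩ := hx
  refine ⟨(smul_norm g x).trans hn, ?_, ?_⟩
  · have := smul_dot g D0L x
    rw [h1] at this
    exact this.trans hc1
  · have := smul_dot g Cfsg.Spor.leechU x
    rw [h2] at this
    exact this.trans hc2

/-- the equivalence with the indices -/
noncomputable def eqv : Fin 275 ≃ OmL :=
  Equiv.ofBijective (fun i => ⟨xL i, xL_mem i⟩)
    ⟨fun i j h => xL_injective (congrArg Subtype.val h),
      fun x => by
        obtain ⟨i, hi⟩ := exists_index x.1 x.2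
        exact ⟨i, Subtype.ext hi⟩⟩

theorem eqv_apply (i : Fin 275) : ((eqv i : OmL) : leechLattice) = xL i := rfl

/-- the action on the 275 vectors -/
def rho : M0 →* Equiv.Perm OmL where
  toFun g :=
    { toFun := fun x => ⟨g.1 • x.1, smul_mem_OmL g.1 g.2 x.1 x.2⟩
      invFun := fun x => ⟨g.1⁻¹ • x.1, smul_mem_OmL g.1⁻¹ (M0.inv_mem g.2) x.1 x.2⟩
      left_inv := fun x => Subtype.ext (inv_smul_smul g.1 x.1)
      right_inv := fun x => Subtype.ext (smul_inv_smul g.1 x.1) }
  map_one' := by
    apply Equiv.ext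
    intro x
    apply Subtype.ext
    show ((1 : M0).1 • x.1 : leechLattice) = x.1
    exact one_smul _ _
  map_mul' := by
    intro g h
    apply Equiv.ext
    intro x
    apply Subtype.ext
    show ((g * h).1 • x.1 : leechLattice) = g.1 • (h.1 • x.1)
    exact mul_smul _ _ _

theorem rho_apply (g : M0) (x : OmL) : ((rho g x : OmL) : leechLattice) = g.1 • x.1 := rfl

/-- the permutation representation -/
noncomputable def phi : M0 →* Equiv.Perm (Fin 275) :=
  (eqv.symm.permCongrHom.toMonoidHom).comp rho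

theorem phi_apply (g : M0) (i : Fin 275) : phi g i = eqv.symm (rho g (eqv i)) := rfl

theorem phi_eq_iff (g : M0) (i j : Fin 275) : phi g i = j ↔ g.1 • xL i = xL j := by
  rw [phi_apply, Equiv.symm_apply_eq]
  constructor
  · intro h
    have := congrArg Subtype.val h
    rwa [rho_apply, eqv_apply, eqv_apply] at this
  · intro h
    apply Subtype.ext
    rw [rho_apply, eqv_apply, eqv_apply]
    exact h

end Cfsg.Agent.Lib.Helper7.McLB
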