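import Mathlib
import Cfsg.Agent.Lib.Helper7.McLB4

set_option autoImplicit false
set_option maxRecDepth 100000

/-! The McLaughlin group as a permutation group on 275 points: the two generators. -/

namespace Cfsg.Agent.Lib.Helper7.McLB

open Cfsg MulAction Cfsg.Agent.Lib.Helper1 Cfsg.Agent.Lib.Helper1.LeechEnum
  Cfsg.Agent.Lib.Helper1.LeechConn Cfsg.Agent.Lib.Helper1.LeechAut

theorem dot_U_sub : dotInt Cfsg.Spor.vecU (d₀ - Cfsg.Spor.vecU) = -8 := by decide +kernel

theorem M0_eq : M0 = stabilizer Co0 Cfsg.Spor.leechU ⊓ stabilizer Co0 (D0L - Cfsg.Spor.leechU) := by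
  ext g
  rw [mem_M0, Subgroup.mem_inf, mem_stabilizer_iff, mem_stabilizer_iff]
  constructor
  · rintro ⟨a, b⟩
    refine ⟨b, ?_⟩
    rw [LeechEnum.smul_sub, a, b]
  · rintro ⟨a, b⟩
    refine ⟨?_, a⟩
    have e : D0L = (D0L - Cfsg.Spor.leechU) + Cfsg.Spor.leechU := by abel
    rw [e, smul_add', a, b]

theorem isMcL_M0 : IsMcL M0 := by
  rw [M0_eq]
  apply Cfsg.Agent.S0404.result
  · exact vecU_norm
  · exact d0_sub_vecU_norm
  · exact dot_U_sub

instance : IsSimpleGroup M0 := isMcL_M0.1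

theorem card_M0 : Nat.card M0 = 898128000 := isMcL_M0.2

instance : Finite M0 := Nat.finite_of_card_ne_zero (by rw [card_M0]; norm_num)

/-- the generators as elements of the stabilizer -/
theorem exists_elt (c : ℕ) : ∃ g : M0, ∀ v (hv : Good v),
    ((g.1 • (⟨vec v, hv.1⟩ : leechLattice) : leechLattice) : GolayPt → ℤ) =
      vec (applyGen (gOf c) v) := by
  obtain ⟨F, ⟨g, hg⟩, hFY, hFv⟩ := tracks_gOf c
  have hd : F d₀ = d₀ := by
    have := hFY pD0 (by simp)
    rwa [vec_pD0] at this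
  have hu : F Cfsg.Spor.vecU = Cfsg.Spor.vecU := by
    have := hFY pU (by simp)
    rwa [vec_pU] at this
  have hgM : g ∈ M0 := by
    rw [mem_M0]
    constructor
    · apply Subtype.ext
      rw [hg D0L]
      exact hd
    · apply Subtype.ext
      rw [hg Cfsg.Spor.leechU]
      exact hu
  refine ⟨⟨g, hgM⟩, fun v hv => ?_⟩
  rw [hg, hFv v hv]

/-- the first generator -/
noncomputable def gA : M0 := Classical.choose (exists_elt 0)

/-- the second generator -/
noncomputable def gB : M0 := Classical.choose (exists_elt 1)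

theorem gA_spec (v : ℕ) (hv : Good v) :
    ((gA.1 • (⟨vec v, hv.1⟩ : leechLattice) : leechLattice) : GolayPt → ℤ) = vec (applyGen ga v) :=
  Classical.choose_spec (exists_elt 0) v hv

theorem gB_spec (v : ℕ) (hv : Good v) :
    ((gB.1 • (⟨vec v, hv.1⟩ : leechLattice) : leechLattice) : GolayPt → ℤ) = vec (applyGen gb v) :=
  Classical.choose_spec (exists_elt 1) v hv

/-- the table of a list -/
def tb (l : List ℕ) (q : ℕ) : ℕ := l.getD q 0

theorem tb_lt : ∀ i < 275, tb tA i < 275 ∧ tb tB i < 275 ∧ tb tAi i < 275 ∧ tb tBi i < 275 := by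
  intro i hi
  have := (allB_iff _ _).mp inv_ok i hi
  simp only [Bool.and_eq_true, Nat.blt_eq] at this
  exact ⟨this.1.1.1.1.1.1.1, this.1.1.1.1.1.1.2, this.1.1.1.1.1.2, this.1.1.1.1.2⟩

theorem tb_inv : ∀ i < 275, tb tA (tb tAi i) = i ∧ tb tAi (tb tA i) = i ∧
    tb tB (tb tBi i) = i ∧ tb tBi (tb tB i) = i := by
  intro i hi
  have := (allB_iff _ _).mp inv_ok i hi
  simp only [Bool.and_eq_true, nbeq_iff] at this
  exact ⟨this.1.1.1.2, this.1.1.2, this.1.2, this.2⟩

theorem phi_gA (i : Fin 275) : (phi gA i).val = tb tA i.val := by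
  have hlt := (tb_lt i.val i.isLt).1
  have : phi gA i = ⟨tb tA i.val, hlt⟩ := by
    rw [phi_eq_iff]
    apply Subtype.ext
    have h1 := gA_spec (vL i) (vL_props i i.isLt).1
    have h2 := (allB_iff _ _).mp actA_ok i i.isLt
    rw [nbeq_iff] at h2
    rw [h2] at h1
    exact h1
  rw [this]

theorem phi_gB (i : Fin 275) : (phi gB i).val = tb tB i.val := by
  have hlt := (tb_lt i.val i.isLt).2.1
  have : phi gB i = ⟨tb tB i.val, hlt⟩ := by
    rw [phi_eq_iff]
    apply Subtype.ext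
    have h1 := gB_spec (vL i) (vL_props i i.isLt).1
    have h2 := (allB_iff _ _).mp actB_ok i i.isLt
    rw [nbeq_iff] at h2
    rw [h2] at h1
    exact h1
  rw [this]

theorem phi_inv_of (g : M0) (l l' : List ℕ) (hg : ∀ i : Fin 275, (phi g i).val = tb l i.val)
    (hlt : ∀ i < 275, tb l' i < 275) (hinv : ∀ i < 275, tb l (tb l' i) = i) (i : Fin 275) :
    ((phi g)⁻¹ i).val = tb l' i.val := by
  have : (phi g)⁻¹ i = ⟨tb l' i.val, hlt i.val i.isLt⟩ := by
    rw [Equiv.Perm.inv_eq_iff_eq]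
    apply Fin.ext
    rw [hg]
    exact (hinv i.val i.isLt).symm
  rw [this]

theorem phi_gA_inv (i : Fin 275) : ((phi gA)⁻¹ i).val = tb tAi i.val :=
  phi_inv_of gA tA tAi phi_gA (fun i hi => (tb_lt i hi).2.2.1) (fun i hi => (tb_inv i hi).1) i

theorem phi_gB_inv (i : Fin 275) : ((phi gB)⁻¹ i).val = tb tBi i.val :=
  phi_inv_of gB tB tBi phi_gB (fun i hi => (tb_lt i hi).2.2.2) (fun i hi => (tb_inv i hi).2.2.1) i

theorem tA_zero : tb tA 0 ≠ 0 := by decide +kernel

theorem phi_injective : Function.Injective phi := by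
  rw [← MonoidHom.ker_eq_bot_iff]
  rcases (phi.normal_ker).eq_bot_or_eq_top with h | h
  · exact h
  · exfalso
    have hA : gA ∈ phi.ker := by rw [h]; trivial
    rw [MonoidHom.mem_ker] at hA
    have := phi_gA 0
    rw [hA] at this
    exact tA_zero this.symm

end Cfsg.Agent.Lib.Helper7.McLB
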