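import Mathlib
import Cfsg.Agent.Lib.Helper7.McLB8

set_option autoImplicit false
set_option maxRecDepth 100000

/-! The McLaughlin group of the definitions as a permutation group on 275 points: the model with
strong generators and its stabilizer chain. -/

namespace Cfsg.Agent.Lib.Helper7.McLB

open Cfsg
open Cfsg.Agent.Lib.Helper6.TC Cfsg.Agent.Lib.Helper6.PM Cfsg.Agent.Lib.Helper2.PMS
open Cfsg.Agent.Lib.Helper5.Chain

theorem chk_slpM : chkSLP mclM.px mclM.n mclM.nl ds pm = true := chk_slp

/-- the model of the McLaughlin group with the strong generators as letters (19 letters) -/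
noncomputable def mclS : PModel := slpModel mclM ds pm chk_slpM

theorem mclS_G : mclS.G = ↥Cfsg.Spor.McL := rfl

theorem mclS_n : mclS.n = 275 := rfl

theorem mclS_nl : mclS.nl = 19 := slpModel_nl mclM ds pm chk_slpM

theorem mclS_px : mclS.px = pm := rfl

/-- the stabilizer chain -/
def DC : ChainData where
  base := baseC
  levels := levelsC

theorem factsC : ChainFacts mclS DC where
  hbase := by
    intro b hb
    have : b < 275 := by
      revert b
      decide
    exact this
  hlet := by
    rw [mclS_nl]
    exact letters_of_chkLet 19 levelsC chk_let
  hchain := isChain_of_chk pm baseC levelsC chk_chain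
  hcard := by
    show Nat.card ↥Cfsg.Spor.McL = _
    rw [card_McL]
    exact levels_prod.symm

end Cfsg.Agent.Lib.Helper7.McLB
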