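import Mathlib
import Cfsg.Agent.Lib.Helper8.SmTwoB
import Cfsg.Agent.Lib.Helper2.SmTwoPT
import Cfsg.Agent.Lib.Helper6.SmTwoPB
import Cfsg.Agent.Lib.Helper4.NgpDefs
import Cfsg.Agent.Lib.Helper7.NgpNL
import Cfsg.Agent.S0095

set_option autoImplicit false

/-! S1904, package NE2: the extraspecial case (`SpecialData X 2`). -/

namespace Cfsg.Agent.Lib.Helper4.Ngp

open Cfsg.Agent.Lib.Helper8.SmTwo
open scoped commutatorElement

universe u

variable {G : Type u} [Group G]

/-- elementwise context of an "extraspecial" `2`-group `X` with centre `{1, z}` -/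
structure EsCtx (X : Subgroup G) (z : G) : Prop where
  hz : z ∈ X
  hz1 : z ≠ 1
  hzz : z * z = 1
  cen : ∀ x ∈ X, z * x = x * z
  comm : ∀ x ∈ X, ∀ y ∈ X, x * y = y * x ∨ x * y = z * (y * x)
  sq : ∀ x ∈ X, x * x = 1 ∨ x * x = z
  ctr : ∀ x ∈ X, (∀ y ∈ X, x * y = y * x) → x = 1 ∨ x = z

/-- a finite set smaller than a subgroup misses one of its elements -/
theorem ne2_pick [Finite G] (C : Subgroup G) (D : Finset G) (h : D.card < Nat.card C) :
    ∃ y ∈ C, y ∉ D := by
  by_contra hcon
  push Not at hcon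
  have hsub : (C : Set G) ⊆ (D : Set G) := fun y hy => hcon y hy
  have h1 : (C : Set G).ncard ≤ (D : Set G).ncard := Set.ncard_le_ncard hsub (Finset.finite_toSet D)
  rw [Set.ncard_coe_finset] at h1
  have h2 : Nat.card C = (C : Set G).ncard := Nat.card_coe_set_eq (C : Set G)
  omega

/-- a finite subset of a subgroup is no bigger than the subgroup -/
theorem ne2_card_le [Finite G] (C : Subgroup G) (D : Finset G) (h : ∀ d ∈ D, d ∈ C) :
    D.card ≤ Nat.card C := by
  have hsub : (D : Set G) ⊆ (C : Set G) := fun y hy => h y hy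
  have h1 : (D : Set G).ncard ≤ (C : Set G).ncard := Set.ncard_le_ncard hsub (Set.toFinite _)
  rw [Set.ncard_coe_finset] at h1
  have h2 : Nat.card C = (C : Set G).ncard := Nat.card_coe_set_eq (C : Set G)
  omega

theorem esCtx_of_special [Finite G] (X : Subgroup G) (hs : SpecialData X 2) :
    ∃ z : G, EsCtx X z := by
  obtain ⟨hD, hsq, hcard⟩ := hs
  set Z : Subgroup G := X ⊓ Subgroup.centralizer (X : Set G) with hZ
  have hZne : Z ≠ ⊥ := by
    intro hb
    rw [hb, Subgroup.card_bot] at hcard
    omega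
  obtain ⟨⟨z, hzZ⟩, hz1'⟩ := (Subgroup.ne_bot_iff_exists_ne_one).mp hZne
  have hz1 : z ≠ 1 := fun h => hz1' (Subtype.ext h)
  have hZel : ∀ w ∈ Z, w = 1 ∨ w = z := by
    intro w hw
    by_contra hcon
    push Not at hcon
    have := nl_three_le_card hzZ hw hz1 hcon.1 (Ne.symm hcon.2)
    omega
  have hcen : ∀ w ∈ Z, ∀ x ∈ X, w * x = x * w := by
    intro w hw x hx
    exact ((Subgroup.mem_centralizer_iff.mp hw.2) x hx).symm
  have hzz : z * z = 1 := by
    rcases hZel (z * z) (Z.mul_mem hzZ hzZ) with h | h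
    · exact h
    · exfalso; apply hz1
      have := congrArg (fun t => z⁻¹ * t) h
      simpa using this
  refine ⟨z, hzZ.1, hz1, hzz, hcen z hzZ, ?_, ?_, ?_⟩
  · intro x hx y hy
    have hc : ⁅x, y⁆ ∈ Z := by
      rw [← hD]; exact Subgroup.commutator_mem_commutator hx hy
    have e : x * y = ⁅x, y⁆ * (y * x) := by rw [commutatorElement_def]; group
    rcases hZel _ hc with h | h
    · left; rw [e, h, one_mul]
    · right; rw [e, h]
  · intro x hx
    have hc : x ^ 2 ∈ Z := by rw [← hD]; exact hsq x hx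
    rw [pow_two] at hc
    exact hZel _ hc
  · intro x hx hxc
    apply hZel
    refine ⟨hx, ?_⟩
    show x ∈ Subgroup.centralizer (X : Set G)
    rw [Subgroup.mem_centralizer_iff]
    intro y hy
    exact (hxc y hy).symm

namespace EsCtx

variable {X : Subgroup G} {z : G}

theorem z_ne_of_comm (hc : EsCtx X z) {x y : G} (h : x * y = z * (y * x)) : x * y ≠ y * x := by
  intro h2
  rw [h2] at h
  apply hc.hz1
  have h3 : 1 * (y * x) = z * (y * x) := by rw [one_mul]; exact h
  exact (mul_right_cancel h3).symm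

/-- the centralizer of `x` in `T ≤ X` has index at most two -/
theorem card_le_two_mul [Finite G] (hc : EsCtx X z) {T : Subgroup G} (hT : T ≤ X) {x : G}
    (hx : x ∈ X) :
    Nat.card T ≤ 2 * Nat.card (T ⊓ Subgroup.centralizer ({x} : Set G) : Subgroup G) := by
  set C : Subgroup G := T ⊓ Subgroup.centralizer ({x} : Set G) with hC
  have hCT : C ≤ T := inf_le_left
  by_cases hne : C = T
  · rw [hne]; omega
  · have hidx : C.relIndex T = 2 := by
      apply pt_relIndex_two hCT hne
      intro y₁ hy₁ y₂ hy₂ h1 h2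
      refine ⟨T.mul_mem hy₁ hy₂, ?_⟩
      show y₁ * y₂ ∈ Subgroup.centralizer ({x} : Set G)
      rw [Subgroup.mem_centralizer_singleton_iff]
      have k1 : x * y₁ = z * (y₁ * x) := by
        rcases hc.comm x hx y₁ (hT hy₁) with h | h
        · exfalso; apply h1
          exact ⟨hy₁, Subgroup.mem_centralizer_singleton_iff.mpr h.symm⟩
        · exact h
      have k2 : x * y₂ = z * (y₂ * x) := by
        rcases hc.comm x hx y₂ (hT hy₂) with h | h
        · exfalso; apply h2
          exact ⟨hy₂, Subgroup.mem_centralizer_singleton_iff.mpr h.symm⟩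
        · exact h
      have cz := hc.cen y₁ (hT hy₁)
      calc y₁ * y₂ * x = y₁ * (y₂ * x) := by group
        _ = y₁ * (z * z * (y₂ * x)) := by rw [hc.hzz, one_mul]
        _ = y₁ * z * (z * (y₂ * x)) := by group
        _ = z * y₁ * (x * y₂) := by rw [← k2, cz]
        _ = z * (y₁ * x) * y₂ := by group
        _ = x * y₁ * y₂ := by rw [← k1]
        _ = x * (y₁ * y₂) := by group
    have := pt_relIndex_mul_card hCT
    rw [hidx] at this
    omega

/-- if some element of `T` does not commute with `x`, the centralizer has index exactly two -/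
theorem card_eq_two_mul [Finite G] (hc : EsCtx X z) {T : Subgroup G} (hT : T ≤ X) {x y : G}
    (hx : x ∈ X) (hy : y ∈ T) (hxy : x * y ≠ y * x) :
    Nat.card T = 2 * Nat.card (T ⊓ Subgroup.centralizer ({x} : Set G) : Subgroup G) := by
  set C : Subgroup G := T ⊓ Subgroup.centralizer ({x} : Set G) with hC
  have hCT : C ≤ T := inf_le_left
  have hne : C ≠ T := by
    intro h
    have : y ∈ C := h ▸ hy
    exact hxy (Subgroup.mem_centralizer_singleton_iff.mp this.2).symm
  have hidx : C.relIndex T = 2 := by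
    apply pt_relIndex_two hCT hne
    intro y₁ hy₁ y₂ hy₂ h1 h2
    refine ⟨T.mul_mem hy₁ hy₂, ?_⟩
    show y₁ * y₂ ∈ Subgroup.centralizer ({x} : Set G)
    rw [Subgroup.mem_centralizer_singleton_iff]
    have k1 : x * y₁ = z * (y₁ * x) := by
      rcases hc.comm x hx y₁ (hT hy₁) with h | h
      · exfalso; apply h1
        exact ⟨hy₁, Subgroup.mem_centralizer_singleton_iff.mpr h.symm⟩
      · exact h
    have k2 : x * y₂ = z * (y₂ * x) := by
      rcases hc.comm x hx y₂ (hT hy₂) with h | h
      · exfalso; apply h2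
        exact ⟨hy₂, Subgroup.mem_centralizer_singleton_iff.mpr h.symm⟩
      · exact h
    have cz := hc.cen y₁ (hT hy₁)
    calc y₁ * y₂ * x = y₁ * (y₂ * x) := by group
      _ = y₁ * (z * z * (y₂ * x)) := by rw [hc.hzz, one_mul]
      _ = y₁ * z * (z * (y₂ * x)) := by group
      _ = z * y₁ * (x * y₂) := by rw [← k2, cz]
      _ = z * (y₁ * x) * y₂ := by group
      _ = x * y₁ * y₂ := by rw [← k1]
      _ = x * (y₁ * y₂) := by group
  have := pt_relIndex_mul_card hCT
  rw [hidx] at this
  omega


/-- a non-central involution exists once `|X| ≥ 32` -/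
theorem exists_involution [Finite G] (hc : EsCtx X z) (hcard : 32 ≤ Nat.card X) :
    ∃ t ∈ X, t * t = 1 ∧ t ≠ 1 ∧ t ≠ z := by
  classical
  obtain ⟨x, hxX, hxD⟩ := ne2_pick X ({1, z} : Finset G)
    (lt_of_le_of_lt Finset.card_le_two (by omega))
  simp only [Finset.mem_insert, Finset.mem_singleton, not_or] at hxD
  have h1 := hc.card_le_two_mul (T := X) le_rfl hxX
  obtain ⟨y, hyC, hyD⟩ := ne2_pick (X ⊓ Subgroup.centralizer ({x} : Set G))
    ({1, z, x⁻¹, x⁻¹ * z} : Finset G) (lt_of_le_of_lt Finset.card_le_four (by omega))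
  simp only [Finset.mem_insert, Finset.mem_singleton, not_or] at hyD
  have hyX : y ∈ X := hyC.1
  have hxy : y * x = x * y := Subgroup.mem_centralizer_singleton_iff.mp hyC.2
  rcases hc.sq x hxX with hx2 | hx2
  · exact ⟨x, hxX, hx2, hxD.1, hxD.2⟩
  rcases hc.sq y hyX with hy2 | hy2
  · exact ⟨y, hyX, hy2, hyD.1, hyD.2.1⟩
  refine ⟨x * y, X.mul_mem hxX hyX, ?_, ?_, ?_⟩
  · calc x * y * (x * y) = x * (y * x) * y := by group
      _ = x * (x * y) * y := by rw [hxy]
      _ = (x * x) * (y * y) := by group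
      _ = 1 := by rw [hx2, hy2, hc.hzz]
  · intro h
    apply hyD.2.2.1
    exact (eq_inv_of_mul_eq_one_right h)
  · intro h
    apply hyD.2.2.2
    rw [← h]; group

/-- the involutions of `C_X(t)` are `z, t, tz` -/
theorem involution_centralizer [Finite G] (hc : EsCtx X z) (hN : NoNormalE8 X) {t : G}
    (ht : t ∈ X) (ht2 : t * t = 1) (ht1 : t ≠ 1) (htz : t ≠ z) {s : G} (hs : s ∈ X)
    (hst : s * t = t * s) (hs2 : s * s = 1) : s = 1 ∨ s = z ∨ s = t ∨ s = t * z := by
  classical
  by_contra hcon
  push Not at hcon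
  obtain ⟨hs1, hsz, hst', hstz⟩ := hcon
  set k : Set G := {z, t, s} with hk
  have hkX : k ⊆ (X : Set G) := by
    intro g hg
    rcases hg with rfl | rfl | rfl
    · exact hc.hz
    · exact ht
    · exact hs
  have hkcomm : ∀ a ∈ k, ∀ b ∈ k, a * b = b * a := by
    intro a ha b hb
    rcases ha with rfl | rfl | rfl <;> rcases hb with rfl | rfl | rfl
    · rfl
    · exact hc.cen _ ht
    · exact hc.cen _ hs
    · exact (hc.cen _ ht).symm
    · rfl
    · exact hst.symm
    · exact (hc.cen _ hs).symm
    · exact hst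
    · rfl
  set E : Subgroup G := Subgroup.closure k with hE
  have hEX : E ≤ X := (Subgroup.closure_le X).mpr hkX
  have hEab : ∀ a ∈ E, ∀ b ∈ E, a * b = b * a := by
    intro a ha b hb
    have := (Subgroup.isMulCommutative_closure hkcomm).is_comm.comm
      (⟨a, ha⟩ : Subgroup.closure k) ⟨b, hb⟩
    exact congrArg Subtype.val this
  have hEexp : ∀ e ∈ E, e ^ 2 = 1 := by
    intro e he
    rw [pow_two]
    induction he using Subgroup.closure_induction with
    | mem x hx =>
      rcases hx with rfl | rfl | rfl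
      · exact hc.hzz
      · exact ht2
      · exact hs2
    | one => simp
    | mul x y hx hy ihx ihy =>
      have := hEab x hx y hy
      calc x * y * (x * y) = x * (y * x) * y := by group
        _ = x * (x * y) * y := by rw [this]
        _ = (x * x) * (y * y) := by group
        _ = 1 := by rw [ihx, ihy, one_mul]
    | inv x hx ihx =>
      have : (x * x)⁻¹ = 1 := by rw [ihx, inv_one]
      rw [← this]; group
  have hzE : z ∈ E := Subgroup.subset_closure (by simp [hk])
  have htE : t ∈ E := Subgroup.subset_closure (by simp [hk])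
  have hsE : s ∈ E := Subgroup.subset_closure (by simp [hk])
  have hconj : ∀ x ∈ X, ∀ e ∈ E, x * e * x⁻¹ ∈ E := by
    intro x hx e he
    rcases hc.comm x hx e (hEX he) with h | h
    · rw [h, mul_inv_cancel_right]; exact he
    · rw [h]
      have : z * (e * x) * x⁻¹ = z * e := by group
      rw [this]; exact E.mul_mem hzE he
  have hXN : X ≤ Subgroup.normalizer (E : Set G) := by
    intro x hx
    refine mem_normalizer_of_conj_mem (hconj x hx) (fun e he => ?_)
    have := hconj x⁻¹ (X.inv_mem hx) e he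
    simpa using this
  have h4 := hN E hEX hXN hEexp
  have h5 : ({1, z, t, t * z, s} : Finset G).card ≤ Nat.card E := by
    apply ne2_card_le
    intro d hd
    simp only [Finset.mem_insert, Finset.mem_singleton] at hd
    rcases hd with rfl | rfl | rfl | rfl | rfl
    · exact E.one_mem
    · exact hzE
    · exact htE
    · exact E.mul_mem htE hzE
    · exact hsE
  have htz1 : t * z ≠ 1 := by
    intro h
    apply htz
    have : t = z⁻¹ := eq_inv_of_mul_eq_one_left h
    rw [this]
    exact inv_eq_of_mul_eq_one_left hc.hzz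
  have h6 : ({1, z, t, t * z, s} : Finset G).card = 5 := by
    rw [Finset.card_insert_of_notMem, Finset.card_insert_of_notMem, Finset.card_insert_of_notMem,
      Finset.card_insert_of_notMem, Finset.card_singleton]
    · simp only [Finset.mem_singleton]; exact Ne.symm hstz
    · simp only [Finset.mem_insert, Finset.mem_singleton, not_or]
      refine ⟨?_, Ne.symm hst'⟩
      intro h
      apply hc.hz1
      have := congrArg (fun g => t⁻¹ * g) h
      simpa using this.symm
    · simp only [Finset.mem_insert, Finset.mem_singleton, not_or]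
      refine ⟨Ne.symm htz, ?_, Ne.symm hsz⟩
      intro h
      apply ht1
      have := congrArg (fun g => g * z⁻¹) h
      simpa using this.symm
    · simp only [Finset.mem_insert, Finset.mem_singleton, not_or]
      exact ⟨Ne.symm hc.hz1, Ne.symm ht1, Ne.symm htz1, Ne.symm hs1⟩
  omega


/-- `|X| < 64` -/
theorem card_lt [Finite G] (hc : EsCtx X z) (hN : NoNormalE8 X) : Nat.card X < 64 := by
  classical
  by_contra hcon
  push Not at hcon
  obtain ⟨t, ht, ht2, ht1, htz⟩ := hc.exists_involution (by omega)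
  have h1 := hc.card_le_two_mul (T := X) le_rfl ht
  set T : Subgroup G := X ⊓ Subgroup.centralizer ({t} : Set G) with hT
  have hTX : T ≤ X := inf_le_left
  obtain ⟨x, hxT, hxD⟩ := ne2_pick T ({1, z, t, t * z} : Finset G)
    (lt_of_le_of_lt Finset.card_le_four (by omega))
  simp only [Finset.mem_insert, Finset.mem_singleton, not_or] at hxD
  have hxX : x ∈ X := hTX hxT
  have hxt : x * t = t * x := Subgroup.mem_centralizer_singleton_iff.mp hxT.2
  have h2 := hc.card_le_two_mul (T := T) hTX hxX
  have hD2 : ({1, z, t, t * z} ∪ {x⁻¹, x⁻¹ * z, x⁻¹ * t, x⁻¹ * (t * z)} : Finset G).card ≤ 8 := by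
    refine (Finset.card_union_le _ _).trans ?_
    have a1 := Finset.card_le_four (a := (1 : G)) (b := z) (c := t) (d := t * z)
    have a2 := Finset.card_le_four (a := x⁻¹) (b := x⁻¹ * z) (c := x⁻¹ * t) (d := x⁻¹ * (t * z))
    omega
  obtain ⟨y, hyC, hyD⟩ := ne2_pick (T ⊓ Subgroup.centralizer ({x} : Set G))
    ({1, z, t, t * z} ∪ {x⁻¹, x⁻¹ * z, x⁻¹ * t, x⁻¹ * (t * z)} : Finset G)
    (lt_of_le_of_lt hD2 (by omega))
  simp only [Finset.mem_union, Finset.mem_insert, Finset.mem_singleton, not_or] at hyD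
  obtain ⟨⟨hy1, hyz, hyt, hytz⟩, hy1', hyz', hyt', hytz'⟩ := hyD
  have hyT : y ∈ T := hyC.1
  have hyX : y ∈ X := hTX hyT
  have hyt2 : y * t = t * y := Subgroup.mem_centralizer_singleton_iff.mp hyT.2
  have hyx : y * x = x * y := Subgroup.mem_centralizer_singleton_iff.mp hyC.2
  rcases hc.sq x hxX with hx2 | hx2
  · rcases hc.involution_centralizer hN ht ht2 ht1 htz hxX hxt hx2 with h | h | h | h
    · exact hxD.1 h
    · exact hxD.2.1 h
    · exact hxD.2.2.1 h
    · exact hxD.2.2.2 h
  rcases hc.sq y hyX with hy2 | hy2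
  · rcases hc.involution_centralizer hN ht ht2 ht1 htz hyX hyt2 hy2 with h | h | h | h
    · exact hy1 h
    · exact hyz h
    · exact hyt h
    · exact hytz h
  have hxy2 : x * y * (x * y) = 1 := by
    calc x * y * (x * y) = x * (y * x) * y := by group
      _ = x * (x * y) * y := by rw [hyx]
      _ = (x * x) * (y * y) := by group
      _ = 1 := by rw [hx2, hy2, hc.hzz]
  have hxyt : x * y * t = t * (x * y) := by
    calc x * y * t = x * (y * t) := by group
      _ = x * (t * y) := by rw [hyt2]
      _ = (x * t) * y := by group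
      _ = t * (x * y) := by rw [hxt]; group
  rcases hc.involution_centralizer hN ht ht2 ht1 htz (X.mul_mem hxX hyX) hxyt hxy2 with h | h | h | h
  · exact hy1' (eq_inv_of_mul_eq_one_right h)
  · apply hyz'; rw [← h]; group
  · apply hyt'; rw [← h]; group
  · apply hytz'; rw [← h]; group

/-- for `|X| = 32` there are exactly `11` involutions -/
theorem card_involutions [Finite G] (hc : EsCtx X z) (hN : NoNormalE8 X)
    (hcard : Nat.card X = 32) : Nat.card {g : G // g ∈ X ∧ orderOf g = 2} = 11 := by
  classical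
  have : Fact (Nat.Prime 2) := ⟨Nat.prime_two⟩
  obtain ⟨t, ht, ht2, ht1, htz⟩ := hc.exists_involution (by omega)
  have hord : ∀ g : G, orderOf g = 2 ↔ g ≠ 1 ∧ g * g = 1 := by
    intro g
    constructor
    · intro h
      refine ⟨fun h1 => ?_, ?_⟩
      · rw [h1, orderOf_one] at h; omega
      · rw [← pow_two, ← h]; exact pow_orderOf_eq_one g
    · rintro ⟨h1, h2⟩
      exact orderOf_eq_prime (by rw [pow_two]; exact h2) h1
  -- an element not commuting with t
  obtain ⟨y₀, hy₀, hy₀t⟩ : ∃ y ∈ X, t * y ≠ y * t := by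
    by_contra hcon
    push Not at hcon
    rcases hc.ctr t ht hcon with h | h
    · exact ht1 h
    · exact htz h
  set T : Subgroup G := X ⊓ Subgroup.centralizer ({t} : Set G) with hT
  have hTX : T ≤ X := inf_le_left
  have hTcard : Nat.card T = 16 := by
    have h16 : Nat.card X = 2 * Nat.card T := hc.card_eq_two_mul (T := X) le_rfl ht hy₀ hy₀t
    omega
  have hmemT : ∀ g : G, g ∈ T ↔ g ∈ X ∧ g * t = t * g := by
    intro g
    rw [hT, Subgroup.mem_inf, Subgroup.mem_centralizer_singleton_iff]
  -- key computation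
  have hkey : ∀ g ∈ X, g * t ≠ t * g → g * t * (g * t) = z * (g * g) := by
    intro g hg hgt
    have h1 : g * t = z * (t * g) := by
      rcases hc.comm g hg t ht with h | h
      · exact absurd h hgt
      · exact h
    have h2 : t * g = z * (g * t) := by
      rw [h1, ← mul_assoc, hc.hzz, one_mul]
    calc g * t * (g * t) = g * (t * g) * t := by group
      _ = g * (z * (g * t)) * t := by rw [h2]
      _ = (g * z) * g * (t * t) := by group
      _ = z * (g * g) := by rw [← hc.cen g hg, ht2]; group
  set I : Set G := {g | g ∈ X ∧ g * t ≠ t * g ∧ g * g = 1} with hI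
  set J : Set G := {g | g ∈ X ∧ g * t ≠ t * g ∧ g * g = z} with hJ
  have hmulnc : ∀ g : G, g * t ≠ t * g → g * t * t ≠ t * (g * t) := by
    intro g hgt h
    apply hgt
    have := congrArg (fun w => w * t⁻¹) h
    simp only [mul_inv_cancel_right] at this
    rw [this]; group
  have hIJ : J = (fun g => g * t) '' I := by
    ext j
    constructor
    · rintro ⟨hjX, hjt, hj2⟩
      refine ⟨j * t, ⟨X.mul_mem hjX ht, hmulnc j hjt, ?_⟩, ?_⟩
      · rw [hkey j hjX hjt, hj2, hc.hzz]
      · show j * t * t = j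
        rw [mul_assoc, ht2, mul_one]
    · rintro ⟨i, ⟨hiX, hit, hi2⟩, rfl⟩
      refine ⟨X.mul_mem hiX ht, hmulnc i hit, ?_⟩
      rw [hkey i hiX hit, hi2, mul_one]
  have hIJcard : J.ncard = I.ncard := by
    rw [hIJ]
    exact Set.ncard_image_of_injective _ (mul_left_injective t)
  have hunion : I ∪ J = (X : Set G) \ (T : Set G) := by
    ext g
    simp only [Set.mem_union, Set.mem_sdiff, SetLike.mem_coe, hmemT, hI, hJ, Set.mem_ofPred_eq]
    constructor
    · rintro (⟨h1, h2, _⟩ | ⟨h1, h2, _⟩) <;> exact ⟨h1, fun h => h2 h.2⟩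
    · rintro ⟨h1, h2⟩
      have h3 : g * t ≠ t * g := fun h => h2 ⟨h1, h⟩
      rcases hc.sq g h1 with h | h
      · left; exact ⟨h1, h3, h⟩
      · right; exact ⟨h1, h3, h⟩
  have hdisj : Disjoint I J := by
    rw [Set.disjoint_left]
    rintro g ⟨_, _, h1⟩ ⟨_, _, h2⟩
    rw [h1] at h2
    exact hc.hz1 h2.symm
  have hXT : ((X : Set G) \ (T : Set G)).ncard = 16 := by
    rw [Set.ncard_sdiff (fun g hg => hTX hg) (Set.toFinite _)]
    have e1 : (X : Set G).ncard = 32 := by
      rw [← hcard]; exact (Nat.card_coe_set_eq (X : Set G)).symm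
    have e2 : (T : Set G).ncard = 16 := by
      rw [← hTcard]; exact (Nat.card_coe_set_eq (T : Set G)).symm
    rw [e1, e2]
  have hIcard : I.ncard = 8 := by
    have := Set.ncard_union_eq hdisj (Set.toFinite I) (Set.toFinite J)
    rw [hunion, hXT, hIJcard] at this
    omega
  -- the set of involutions
  have htz1 : t * z ≠ 1 := by
    intro h
    apply htz
    have : t = z⁻¹ := eq_inv_of_mul_eq_one_left h
    rw [this]
    exact inv_eq_of_mul_eq_one_left hc.hzz
  have htzz : t * z ≠ z := by
    intro h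
    apply ht1
    have := congrArg (fun g => g * z⁻¹) h
    simpa using this
  have htzt : t * z ≠ t := by
    intro h
    apply hc.hz1
    have := congrArg (fun g => t⁻¹ * g) h
    simpa using this
  have hS : {g : G | g ∈ X ∧ orderOf g = 2} = (({z, t, t * z} : Finset G) : Set G) ∪ I := by
    ext g
    simp only [Set.mem_ofPred_eq, Set.mem_union, Finset.coe_insert, Finset.coe_singleton,
      Set.mem_insert_iff, Set.mem_singleton_iff, hI, hord]
    constructor
    · rintro ⟨hgX, hg1, hg2⟩
      by_cases hgt : g * t = t * g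
      · left
        rcases hc.involution_centralizer hN ht ht2 ht1 htz hgX hgt hg2 with h | h | h | h
        · exact absurd h hg1
        · exact Or.inl h
        · exact Or.inr (Or.inl h)
        · exact Or.inr (Or.inr h)
      · right
        exact ⟨hgX, hgt, hg2⟩
    · rintro ((rfl | rfl | rfl) | ⟨hgX, hgt, hg2⟩)
      · exact ⟨hc.hz, hc.hz1, hc.hzz⟩
      · exact ⟨ht, ht1, ht2⟩
      · refine ⟨X.mul_mem ht hc.hz, htz1, ?_⟩
        calc t * z * (t * z) = t * (z * t) * z := by group
          _ = t * (t * z) * z := by rw [hc.cen t ht]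
          _ = (t * t) * (z * z) := by group
          _ = 1 := by rw [ht2, hc.hzz, one_mul]
      · refine ⟨hgX, ?_, hg2⟩
        rintro rfl
        apply hgt; group
  have hdisj2 : Disjoint ((({z, t, t * z} : Finset G) : Set G)) I := by
    rw [Set.disjoint_left]
    intro g hg hgI
    simp only [Finset.coe_insert, Finset.coe_singleton, Set.mem_insert_iff,
      Set.mem_singleton_iff] at hg
    apply hgI.2.1
    rcases hg with rfl | rfl | rfl
    · exact hc.cen t ht
    · rfl
    · calc t * z * t = t * (z * t) := by group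
        _ = t * (t * z) := by rw [hc.cen t ht]
  have h3 : ({z, t, t * z} : Finset G).card = 3 := by
    rw [Finset.card_insert_of_notMem, Finset.card_insert_of_notMem, Finset.card_singleton]
    · simp only [Finset.mem_singleton]; exact Ne.symm htzt
    · simp only [Finset.mem_insert, Finset.mem_singleton, not_or]
      exact ⟨Ne.symm htz, Ne.symm htzz⟩
  have e : Nat.card {g : G // g ∈ X ∧ orderOf g = 2} =
      Set.ncard {g : G | g ∈ X ∧ orderOf g = 2} := Nat.card_coe_set_eq _
  rw [e, hS, Set.ncard_union_eq hdisj2 (Set.toFinite _) (Set.toFinite _),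
    Set.ncard_coe_finset, h3, hIcard]

end EsCtx

theorem of_special_two [Finite G] (X A : Subgroup G) (h : Hyp X A) (hs : SpecialData X 2) :
    Nonempty (↥X ≃* QuaternionGroup 2) ∨
      (Nat.card X = 32 ∧ Nat.card {t : G // t ∈ X ∧ orderOf t = 2} = 11) := by
  have : Fact (Nat.Prime 2) := ⟨Nat.prime_two⟩
  obtain ⟨z, hc⟩ := esCtx_of_special X hs
  have hsp := Cfsg.Agent.Lib.Helper8.SmTwo.isSpecial_of_specialData X h.hX 2 hs
  have hex : Cfsg.IsExtraspecial 2 ↥X := ⟨hsp.1, hsp.2⟩
  obtain ⟨n, hn1, hn⟩ := Cfsg.Agent.S0095.result hex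
  have hlt := hc.card_lt h.hN
  have hn3 : n < 3 := by
    by_contra hcon
    push Not at hcon
    have : 2 ^ (2 * 3 + 1) ≤ 2 ^ (2 * n + 1) := Nat.pow_le_pow_right (by norm_num) (by omega)
    rw [← hn] at this
    omega
  interval_cases n
  · left
    have h8 : Nat.card X = 8 := by rw [hn]; norm_num
    have hna : ∃ a ∈ X, ∃ b ∈ X, a * b ≠ b * a := by
      by_contra hcon
      push Not at hcon
      exact h.hna hcon
    exact na8_quaternion X A ⟨h8, hna⟩ h.hodd h.hAX h.hcomm
  · right
    have h32 : Nat.card X = 32 := by rw [hn]; norm_num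
    exact ⟨h32, hc.card_involutions h.hN h32⟩

end Cfsg.Agent.Lib.Helper4.Ngp
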