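import Mathlib
import Cfsg.Agent.Lib.Helper4.SUClass.Defs
import Cfsg.Agent.Lib.Helper5.SSOrderU2
import Cfsg.Agent.Lib.Helper5.SemisimpleExists
import Cfsg.Agent.S2388
import Cfsg.Agent.S2588
import Cfsg.Agent.Lib.Helper5.SUClass_CNT

set_option autoImplicit false
set_option linter.unusedSectionVars false
set_option linter.unusedVariables false

/-!
# S2481, PK-UL : the lower bound `q^(n-1) ≤ k(SU_n(q))`
-/

namespace Cfsg.Agent.Lib.Helper4.SUClass

open Polynomial Cfsg.Agent.S0278 Cfsg.Agent.Lib.Helper5.GLClass Cfsg.Agent.Lib.Helper5.SLClass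
open Cfsg.Agent.Lib.Helper5.Wall

universe u

variable {K : Type u} [Field K] [Fintype K] {q : ℕ}

namespace PkUL

open Cfsg.Agent.Lib.Helper5 Cfsg.Agent.Lib.Helper5.SSOrder Cfsg.Agent.Lib.Helper5.Pal

theorem rc_map_eq_tl (hK : Fintype.card K = q ^ 2) (f : K[X]) :
    rc (f.map (powQ hK)) = tl hK f := by
  unfold rc tl
  rw [coeff_map]

/-- a special unitary matrix with a prescribed self-conjugate-reciprocal characteristic polynomial -/
theorem exists_su_of_charpoly (hK : Fintype.card K = q ^ 2) {n : ℕ} (f : K[X])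
    (hf : f ∈ PolyDU hK n) (h0 : f.coeff 0 = (-1) ^ n) :
    ∃ B : ↥(Cfsg.SU n K q),
      ((B : Matrix.SpecialLinearGroup (Fin n) K) : Matrix (Fin n) (Fin n) K).charpoly = f := by
  obtain ⟨⟨hfm, hdeg, hf0⟩, htl⟩ := hf
  obtain ⟨p, hp⟩ := CharP.exists K
  haveI : Fact p.Prime := ⟨CharP.char_is_prime K p⟩
  obtain ⟨A0, k, hk0, hkp, hAk, hAf⟩ := exists_semisimple_of_charpoly p f hfm hdeg hf0
  obtain ⟨k', rfl⟩ : ∃ k', k = k' + 1 := ⟨k - 1, by omega⟩
  let A : GL (Fin n) K := ⟨A0, A0 ^ k', by rw [← pow_succ', hAk], by rw [← pow_succ, hAk]⟩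
  have hAval : (A : Matrix (Fin n) (Fin n) K) = A0 := rfl
  have hAr : A ^ (k' + 1) = 1 := by
    apply Units.ext
    rw [Units.val_pow_eq_pow_val, Units.val_one]
    exact hAk
  have h1 : (A : Matrix (Fin n) (Fin n) K) * ((A⁻¹ : GL (Fin n) K) : Matrix (Fin n) (Fin n) K) = 1 :=
    Units.mul_inv A
  have h2 : ((A⁻¹ : GL (Fin n) K) : Matrix (Fin n) (Fin n) K) * (A : Matrix (Fin n) (Fin n) K) = 1 :=
    Units.inv_mul A
  set A' : GL (Fin n) K := ⟨ct hK ((A⁻¹ : GL (Fin n) K) : Matrix (Fin n) (Fin n) K),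
    ct hK (A : Matrix (Fin n) (Fin n) K), by rw [← ct_mul, h1, ct_one],
    by rw [← ct_mul, h2, ct_one]⟩ with hA'
  have hA'r : (A' : Matrix (Fin n) (Fin n) K) ^ (k' + 1) = 1 := by
    show ct hK ((A⁻¹ : GL (Fin n) K) : Matrix (Fin n) (Fin n) K) ^ (k' + 1) = 1
    rw [← ct_pow, ← Units.val_pow_eq_pow_val, inv_pow, hAr, inv_one, Units.val_one, ct_one]
  have hA'c : (A' : Matrix (Fin n) (Fin n) K).charpoly = f := by
    show (ct hK ((A⁻¹ : GL (Fin n) K) : Matrix (Fin n) (Fin n) K)).charpoly = f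
    rw [charpoly_ct, charpoly_inv_eq_rc_matrix _ _ h1, hAval, hAf, ← rc_map_powQ, rc_map_eq_tl]
    exact htl
  obtain ⟨P, hP, hPM⟩ := Cfsg.Agent.S2388.exists_gl_conj p (A : Matrix (Fin n) (Fin n) K)
    (A' : Matrix (Fin n) (Fin n) K) (k' + 1) hkp hAk hA'r (by rw [hAval, hAf, hA'c])
  have hconjM : IsConj (A : Matrix (Fin n) (Fin n) K)
      (((A : Matrix (Fin n) (Fin n) K).map (fun x : K => x ^ q)).transpose)⁻¹ := by
    have h3 : (((A : Matrix (Fin n) (Fin n) K).map (fun x : K => x ^ q)).transpose)⁻¹ =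
        (A' : Matrix (Fin n) (Fin n) K) := by
      apply Matrix.inv_eq_right_inv
      show ct hK (A : Matrix (Fin n) (Fin n) K) *
        ct hK ((A⁻¹ : GL (Fin n) K) : Matrix (Fin n) (Fin n) K) = 1
      rw [← ct_mul, h2, ct_one]
    rw [h3]
    have hPu : IsUnit P := (Matrix.isUnit_iff_isUnit_det P).2 hP
    obtain ⟨c, hc⟩ := hPu
    exact ⟨c, by
      show (c : Matrix (Fin n) (Fin n) K) * _ = _ * (c : Matrix (Fin n) (Fin n) K)
      rw [hc]
      exact hPM⟩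
  obtain ⟨B, hB⟩ := (Cfsg.Agent.S2588.result hK A).2 hconjM
  rw [isConj_iff] at hB
  obtain ⟨c, hc⟩ := hB
  have hBc : ((B : GL (Fin n) K) : Matrix (Fin n) (Fin n) K).charpoly = f := by
    rw [← hc, Units.val_mul, Units.val_mul, Matrix.coe_units_inv, Matrix.charpoly_units_conj,
      hAval, hAf]
  have hBdet : ((B : GL (Fin n) K) : Matrix (Fin n) (Fin n) K).det = 1 := by
    rw [Matrix.det_eq_sign_charpoly_coeff, hBc, h0, Fintype.card_fin, ← mul_pow]
    simp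
  refine ⟨⟨⟨((B : GL (Fin n) K) : Matrix (Fin n) (Fin n) K), hBdet⟩, fun u v => B.2 u v⟩, ?_⟩
  exact hBc

theorem neg_one_pow_mem (hK : Fintype.card K = q ^ 2) (n : ℕ) :
    ((-1 : K) ^ n) ^ (q + 1) = 1 := by
  have h1 : (-1 : K) ^ q = -1 := by
    have := map_neg (powQ hK) (1 : K)
    rw [map_one] at this
    exact this
  rw [← pow_mul, mul_comm, pow_mul, pow_succ, h1]
  simp

end PkUL

open PkUL

theorem le_card_conjClasses_su (hK : Fintype.card K = q ^ 2) (n : ℕ) (hn : 1 ≤ n) :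
    q ^ (n - 1) ≤ Nat.card (ConjClasses ↥(Cfsg.SU n K q)) := by
  classical
  obtain ⟨d, rfl⟩ : ∃ d, n = d + 1 := ⟨n - 1, by omega⟩
  have hcard := card_PolyDU_coeff hK d ((-1 : K) ^ (d + 1)) (neg_one_pow_mem hK (d + 1))
  rw [Nat.add_sub_cancel, ← hcard]
  have hex : ∀ f : {f : K[X] // f ∈ PolyDU hK (d + 1) ∧ f.coeff 0 = (-1 : K) ^ (d + 1)},
      ∃ B : ↥(Cfsg.SU (d + 1) K q),
        ((B : Matrix.SpecialLinearGroup (Fin (d + 1)) K) :
          Matrix (Fin (d + 1)) (Fin (d + 1)) K).charpoly = f.1 :=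
    fun f => exists_su_of_charpoly hK f.1 f.2.1 f.2.2
  choose Bf hBf using hex
  haveI : Finite (ConjClasses ↥(Cfsg.SU (d + 1) K q)) := by
    unfold ConjClasses
    infer_instance
  apply Nat.card_le_card_of_injective (fun f => ConjClasses.mk (Bf f))
  intro f g hfg
  have hconj : IsConj (Bf f) (Bf g) := ConjClasses.mk_eq_mk_iff_isConj.1 hfg
  rw [isConj_iff] at hconj
  obtain ⟨c, hc⟩ := hconj
  apply Subtype.ext
  rw [← hBf f, ← hBf g, ← hc]
  have e1 : (((c * Bf f * c⁻¹ : ↥(Cfsg.SU (d + 1) K q)) : Matrix.SpecialLinearGroup (Fin (d + 1)) K) :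
      Matrix (Fin (d + 1)) (Fin (d + 1)) K) =
      ((c : Matrix.SpecialLinearGroup (Fin (d + 1)) K) : Matrix (Fin (d + 1)) (Fin (d + 1)) K) *
      ((Bf f : Matrix.SpecialLinearGroup (Fin (d + 1)) K) : Matrix (Fin (d + 1)) (Fin (d + 1)) K) *
      (((c⁻¹ : ↥(Cfsg.SU (d + 1) K q)) : Matrix.SpecialLinearGroup (Fin (d + 1)) K) :
        Matrix (Fin (d + 1)) (Fin (d + 1)) K) := by
    simp only [Subgroup.coe_mul, Matrix.SpecialLinearGroup.coe_mul]
  have e2 : (((c⁻¹ : ↥(Cfsg.SU (d + 1) K q)) : Matrix.SpecialLinearGroup (Fin (d + 1)) K) :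
        Matrix (Fin (d + 1)) (Fin (d + 1)) K) *
      ((c : Matrix.SpecialLinearGroup (Fin (d + 1)) K) : Matrix (Fin (d + 1)) (Fin (d + 1)) K) = 1 := by
    rw [← Matrix.SpecialLinearGroup.coe_mul, ← Subgroup.coe_mul, inv_mul_cancel]
    rfl
  rw [e1, Matrix.charpoly_mul_comm, ← Matrix.mul_assoc, e2, Matrix.one_mul]

end Cfsg.Agent.Lib.Helper4.SUClass
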