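import Mathlib
import Cfsg.Agent.Lib.Helper4.SUClass.Defs
import Cfsg.Agent.Lib.Helper5.SLClass.UniqueGL
import Cfsg.Agent.Lib.Helper4.SUClass.TL

set_option autoImplicit false
set_option linter.unusedSectionVars false
set_option linter.unusedVariables false

/-!
# S2481, PK-UT1 : the type of a unitary matrix is `tl`-symmetric (`kap_tl`, `seqOf_tl`)
-/

namespace Cfsg.Agent.Lib.Helper4.SUClass

open Polynomial Cfsg.Agent.S0278 Cfsg.Agent.Lib.Helper5.GLClass Cfsg.Agent.Lib.Helper5.SLClass
open Cfsg.Agent.Lib.Helper5.Wall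

universe u

variable {K : Type u} [Field K] [Fintype K] {q : ℕ}

namespace PkUT1

/-- entrywise `σ` is a bijection of the kernels of `M.map σ` and `M` -/
theorem map_mem_ker (hK : Fintype.card K = q ^ 2) {n : ℕ} (M : Matrix (Fin n) (Fin n) K)
    (v : Fin n → K) (hv : Matrix.toLin' M v = 0) :
    Matrix.toLin' (M.map (powQ hK)) (fun i => powQ hK (v i)) = 0 := by
  funext i
  have h := congrFun hv i
  rw [Matrix.toLin'_apply] at h ⊢
  simp only [Matrix.mulVec, dotProduct, Matrix.map_apply, Pi.zero_apply] at h ⊢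
  rw [← map_zero (powQ hK), ← h, map_sum]
  apply Finset.sum_congr rfl
  intro j _
  rw [map_mul]

theorem map_map_powQ (hK : Fintype.card K = q ^ 2) {n : ℕ} (M : Matrix (Fin n) (Fin n) K) :
    (M.map (powQ hK)).map (powQ hK) = M := by
  ext i j
  simp only [Matrix.map_apply]
  exact powQ_powQ hK _

theorem finrank_ker_map_powQ (hK : Fintype.card K = q ^ 2) {n : ℕ} (M : Matrix (Fin n) (Fin n) K) :
    Module.finrank K (LinearMap.ker (Matrix.toLin' (M.map (powQ hK)))) =
      Module.finrank K (LinearMap.ker (Matrix.toLin' M)) := by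
  have hcard : Nat.card (LinearMap.ker (Matrix.toLin' (M.map (powQ hK)))) =
      Nat.card (LinearMap.ker (Matrix.toLin' M)) := by
    apply Nat.card_congr
    refine ⟨fun v => ⟨fun i => powQ hK (v.1 i), ?_⟩, fun v => ⟨fun i => powQ hK (v.1 i), ?_⟩, ?_, ?_⟩
    · rw [LinearMap.mem_ker]
      have := map_mem_ker hK (M.map (powQ hK)) v.1 (LinearMap.mem_ker.1 v.2)
      rwa [map_map_powQ] at this
    · rw [LinearMap.mem_ker]
      exact map_mem_ker hK M v.1 (LinearMap.mem_ker.1 v.2)
    · intro v
      apply Subtype.ext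
      funext i
      exact powQ_powQ hK _
    · intro v
      apply Subtype.ext
      funext i
      exact powQ_powQ hK _
  rw [Module.natCard_eq_pow_finrank (K := K)
      (V := LinearMap.ker (Matrix.toLin' (M.map (powQ hK)))),
    Module.natCard_eq_pow_finrank (K := K) (V := LinearMap.ker (Matrix.toLin' M))] at hcard
  have h1 : 1 < Nat.card K := by
    rw [Nat.card_eq_fintype_card]
    exact Fintype.one_lt_card
  exact Nat.pow_right_injective h1 hcard

theorem finrank_ker_transpose {n : ℕ} (M : Matrix (Fin n) (Fin n) K) :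
    Module.finrank K (LinearMap.ker (Matrix.toLin' M.transpose)) =
      Module.finrank K (LinearMap.ker (Matrix.toLin' M)) := by
  have h1 := LinearMap.finrank_range_add_finrank_ker (Matrix.toLin' M)
  have h2 := LinearMap.finrank_range_add_finrank_ker (Matrix.toLin' M.transpose)
  have h3 : Module.finrank K (LinearMap.range (Matrix.toLin' M.transpose)) =
      Module.finrank K (LinearMap.range (Matrix.toLin' M)) := by
    have := Matrix.rank_transpose M
    unfold Matrix.rank at this
    exact this
  omega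

theorem finrank_ker_ct (hK : Fintype.card K = q ^ 2) {n : ℕ} (M : Matrix (Fin n) (Fin n) K) :
    Module.finrank K (LinearMap.ker (Matrix.toLin' (ct hK M))) =
      Module.finrank K (LinearMap.ker (Matrix.toLin' M)) := by
  unfold ct
  rw [finrank_ker_transpose, finrank_ker_map_powQ]

theorem toLin'_aeval {n : ℕ} (A : Matrix (Fin n) (Fin n) K) (P : K[X]) :
    Matrix.toLin' (aeval A P) = aeval (Matrix.toLin' A) P := by
  have := (aeval_algHom_apply (Matrix.toLinAlgEquiv' : Matrix (Fin n) (Fin n) K ≃ₐ[K] _).toAlgHom A P)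
  exact this.symm

end PkUT1

open PkUT1

theorem kap_tl (hK : Fintype.card K = q ^ 2) {n : ℕ} (g : Matrix.GeneralLinearGroup (Fin n) K)
    (hg : g ∈ Cfsg.GU n K q) (P : K[X]) (h0 : P.coeff 0 ≠ 0) (k : ℕ) :
    kap g (tl hK P) k = kap g P k := by
  have h1 : ct hK g.val * g.val = 1 := (mem_GU_iff hK g).1 hg
  have h2 : g.val * ct hK g.val = 1 := mul_eq_one_comm.1 h1
  have h0k : (P ^ k).coeff 0 ≠ 0 := by
    rw [coeff_zero_eq_eval_zero, eval_pow, ← coeff_zero_eq_eval_zero]
    exact pow_ne_zero _ h0
  have h3 := ct_aeval hK g.val (ct hK g.val) h2 rfl (P ^ k) h0k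
  rw [tl_pow hK h0] at h3
  unfold kap
  rw [← toLin'_aeval, ← toLin'_aeval, ← finrank_ker_ct hK (aeval g.val (P ^ k)), h3]
  have hker : LinearMap.ker (Matrix.toLin' (aeval g.val (tl hK P ^ k))) =
      LinearMap.ker (Matrix.toLin' ((P ^ k).coeff 0 ^ q •
        (ct hK g.val ^ (P ^ k).natDegree * aeval g.val (tl hK P ^ k)))) := ?_
  · rw [hker]
  ext v
  rw [LinearMap.mem_ker, LinearMap.mem_ker, Matrix.toLin'_apply, Matrix.toLin'_apply,
    Matrix.smul_mulVec, ← Matrix.mulVec_mulVec]
  constructor
  · intro h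
    rw [h, Matrix.mulVec_zero, smul_zero]
  · intro h
    have hc : (P ^ k).coeff 0 ^ q ≠ 0 := pow_ne_zero _ h0k
    have h4 := (smul_eq_zero.1 h).resolve_left hc
    have h5 : g.val ^ (P ^ k).natDegree * ct hK g.val ^ (P ^ k).natDegree = 1 := by
      rw [← (Commute.mul_pow (by
        show g.val * ct hK g.val = ct hK g.val * g.val
        rw [h1, h2])), h2, one_pow]
    have h6 := congrArg (fun w => (g.val ^ (P ^ k).natDegree).mulVec w) h4
    simp only [Matrix.mulVec_mulVec, Matrix.mulVec_zero] at h6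
    rw [← Matrix.mul_assoc, h5, Matrix.one_mul] at h6
    exact h6

namespace PkUT1

/-- a multiset is invariant under a map which is an involution on it and preserves multiplicities -/
theorem map_eq_self_of_invol {α : Type*} [DecidableEq α] (s : Multiset α) (f : α → α)
    (h1 : ∀ a ∈ s, f (f a) = a) (h2 : ∀ a ∈ s, Multiset.count (f a) s = Multiset.count a s) :
    s.map f = s := by
  ext b
  by_cases hb : b ∈ s.map f
  · obtain ⟨a0, ha0, rfl⟩ := Multiset.mem_map.1 hb
    rw [Multiset.count_map, h2 a0 ha0, Multiset.count_eq_card_filter_eq]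
    congr 1
    apply Multiset.filter_congr
    intro a ha
    constructor
    · intro h
      rw [← h1 a ha, ← h, h1 a0 ha0]
    · intro h
      rw [h]
  · rw [Multiset.count_eq_zero_of_notMem hb]
    symm
    rw [Multiset.count_eq_zero]
    intro hbs
    apply hb
    have h3 : f b ∈ s := by
      rw [← Multiset.count_pos, h2 b hbs, Multiset.count_pos]
      exact hbs
    rw [Multiset.mem_map]
    exact ⟨f b, h3, h1 b hbs⟩

theorem count_level (m : Multiset (K[X] × ℕ)) (k : ℕ) (a : K[X]) :
    open scoped Classical in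
    Multiset.count a ((m.filter (fun x => x.2 = k)).map Prod.fst) = Multiset.count (a, k) m := by
  classical
  have h1 := filter_eq_map_fst m k
  have h2 : Multiset.count (a, k) (m.filter (fun x => x.2 = k)) = Multiset.count (a, k) m :=
    Multiset.count_filter_of_pos rfl
  rw [← h2, h1, Multiset.map_map]
  have hinj : Function.Injective (fun P : K[X] => (P, k)) := fun P Q h => (Prod.mk.inj h).1
  rw [Multiset.count_map_eq_count' _ _ hinj]
  congr 1
  rw [← Multiset.map_map, ← h1]

/-- the multiplicity of a block is `tl`-symmetric -/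
theorem count_tl (hK : Fintype.card K = q ^ 2) {n : ℕ} (g : Matrix.GeneralLinearGroup (Fin n) K)
    (hg : g ∈ Cfsg.GU n K q) {m : Multiset (K[X] × ℕ)} (hm : IsType g m) (P : K[X])
    (hP : Irreducible P) (hPm : P.Monic) (h0 : P.coeff 0 ≠ 0) (k : ℕ) (hk : 1 ≤ k) :
    open scoped Classical in
    Multiset.count (tl hK P, k) m = Multiset.count (P, k) m := by
  classical
  have e1 := isType_count hm P hP hPm k hk
  have e2 := isType_count hm (tl hK P) (tl_irreducible hK hP hPm h0) (tl_monic hK h0) k hk
  rw [kap_tl hK g hg P h0, kap_tl hK g hg P h0, kap_tl hK g hg P h0, tl_natDegree hK h0] at e2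
  have hd : 0 < P.natDegree := hP.natDegree_pos
  have h3 : Multiset.count (tl hK P, k) m * P.natDegree = Multiset.count (P, k) m * P.natDegree := by
    omega
  exact Nat.eq_of_mul_eq_mul_right hd h3

end PkUT1

theorem seqOf_tl (hK : Fintype.card K = q ^ 2) {n : ℕ} (g : Matrix.GeneralLinearGroup (Fin n) K)
    (hg : g ∈ Cfsg.GU n K q) {m : Multiset (K[X] × ℕ)} (hm : IsType g m) (j : Fin n) :
    tl hK (seqOf n m j) = seqOf n m j := by
  classical
  obtain ⟨hgood, h0, _⟩ := hm.facts
  unfold seqOf
  have hmem : ∀ a ∈ (m.filter (fun x => x.2 = j.val + 1)).map Prod.fst, (a, j.val + 1) ∈ m := by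
    intro a ha
    obtain ⟨x, hx, rfl⟩ := Multiset.mem_map.1 ha
    obtain ⟨hx1, hx2⟩ := Multiset.mem_filter.1 hx
    have : x = (x.1, j.val + 1) := by rw [← hx2]
    rw [← this]
    exact hx1
  rw [tl_multiset_prod hK _ (fun a ha => h0 _ (hmem a ha))]
  congr 1
  apply map_eq_self_of_invol
  · intro a ha
    obtain ⟨hirr, hmon, _, _⟩ := hgood _ (hmem a ha)
    exact tl_tl hK hmon (h0 _ (hmem a ha))
  · intro a ha
    obtain ⟨hirr, hmon, _, _⟩ := hgood _ (hmem a ha)
    have := count_tl hK g hg hm a hirr hmon (h0 _ (hmem a ha)) (j.val + 1) (by omega)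
    rw [count_level, count_level]
    convert this

end Cfsg.Agent.Lib.Helper4.SUClass
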