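import Mathlib
import Cfsg.Agent.Lib.Helper9.SchmPA2

/-!
# S4395: common definitions

`WAct`: Helper9's `MinAct` without the non-commutativity clause.
`Irr`: an elementary abelian `p`-group with an irreducible automorphism of order `q`.
`FD`: a finite field of order `p ^ ord_q(p)` with an element `ζ` of order `q`.
`mulZ`: multiplication by `ζ` on the additive group of a field, written multiplicatively.
-/

set_option autoImplicit false

namespace Cfsg.Agent.Lib.Helper7.SchX

open Cfsg.Agent.Lib.Helper9.Schm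

universe u

/-- `MinAct` without non-commutativity: a `p`-group `T` with an automorphism `φ`, `φ ^ q = 1`,
`φ ≠ 1`, every proper `φ`-invariant subgroup fixed pointwise. -/
structure WAct (p q : ℕ) (T : Type u) [Group T] (φ : T ≃* T) : Prop where
  pgrp : IsPGroup p T
  hqp : q ≠ p
  powq : ∀ x : T, (⇑φ)^[q] x = x
  min : ∀ N : Subgroup T, N ≠ ⊤ → (∀ x ∈ N, φ x ∈ N) → ∀ x ∈ N, φ x = x
  nt : ∃ x : T, φ x ≠ x

theorem WAct.of_minAct {p q : ℕ} {T : Type u} [Group T] {φ : T ≃* T} (h : MinAct p q T φ) :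
    WAct p q T φ :=
  ⟨h.pgrp, h.hqp, h.powq, h.min, h.nt⟩

theorem WAct.minAct {p q : ℕ} {T : Type u} [Group T] {φ : T ≃* T} (h : WAct p q T φ)
    (hn : ∃ a b : T, a * b ≠ b * a) : MinAct p q T φ :=
  ⟨h.pgrp, h.hqp, h.powq, h.min, h.nt, hn⟩

/-- An abelian group of exponent `p` with an automorphism `φ`, `φ ^ q = 1`, `φ ≠ 1`, without
proper nontrivial `φ`-invariant subgroups. -/
structure Irr (p q : ℕ) (V : Type u) [Group V] (φ : V ≃* V) : Prop where
  comm : ∀ a b : V, a * b = b * a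
  exp : ∀ x : V, x ^ p = 1
  powq : ∀ x : V, (⇑φ)^[q] x = x
  nt : ∃ x : V, φ x ≠ x
  irr : ∀ N : Subgroup V, (∀ x ∈ N, φ x ∈ N) → N = ⊥ ∨ N = ⊤

/-- A finite field with `p ^ ord_q(p)` elements and an element of multiplicative order `q`. -/
structure FD (p q : ℕ) (K : Type) [Field K] [Fintype K] (ζ : K) : Prop where
  char : CharP K p
  card : Fintype.card K = p ^ orderOf (p : ZMod q)
  ord : orderOf ζ = q

/-- multiplication by `ζ ≠ 0` on the additive group of `K`, written multiplicatively -/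
def mulZ {K : Type} [Field K] (ζ : K) (hζ : ζ ≠ 0) : Multiplicative K ≃* Multiplicative K where
  toFun x := Multiplicative.ofAdd (ζ * x.toAdd)
  invFun x := Multiplicative.ofAdd (ζ⁻¹ * x.toAdd)
  left_inv x := by
    show Multiplicative.ofAdd (ζ⁻¹ * (ζ * x.toAdd)) = x
    rw [← mul_assoc, inv_mul_cancel₀ hζ, one_mul]; rfl
  right_inv x := by
    show Multiplicative.ofAdd (ζ * (ζ⁻¹ * x.toAdd)) = x
    rw [← mul_assoc, mul_inv_cancel₀ hζ, one_mul]; rfl
  map_mul' x y := by
    show Multiplicative.ofAdd (ζ * (x.toAdd + y.toAdd)) = _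
    rw [mul_add]; rfl

@[simp] theorem mulZ_apply {K : Type} [Field K] (ζ : K) (hζ : ζ ≠ 0) (x : Multiplicative K) :
    mulZ ζ hζ x = Multiplicative.ofAdd (ζ * x.toAdd) := rfl

end Cfsg.Agent.Lib.Helper7.SchX
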