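import Mathlib
import Cfsg.Agent.Lib.Helper8.SmTwoDefs
import Cfsg.Agent.Lib.Helper8.SmTwoB

set_option autoImplicit false

/-! S4409, package PN (part): the lemmas (N2) and (N2'). -/

namespace Cfsg.Agent.Lib.Helper8.SmTwo

universe u

variable {G : Type u} [Group G]

/-- in a `2`-group `T`, a proper subgroup `N` has an element of `T` outside it whose square lies
in it -/
theorem pn3_exists_sq_mem [Finite G] (N T : Subgroup G) (hT : IsPGroup 2 T) (hNT : N ≤ T)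
    (hne : N ≠ T) : ∃ t ∈ T, t ∉ N ∧ t ^ 2 ∈ N := by
  classical
  have hex : ∃ t₀ ∈ T, t₀ ∉ N := by
    by_contra hno
    push Not at hno
    exact hne (le_antisymm hNT hno)
  obtain ⟨t₀, ht₀T, ht₀N⟩ := hex
  have hpow : ∃ k : ℕ, t₀ ^ 2 ^ k ∈ N := by
    obtain ⟨k, hk⟩ := hT ⟨t₀, ht₀T⟩
    refine ⟨k, ?_⟩
    have : t₀ ^ 2 ^ k = 1 := by
      have := congrArg Subtype.val hk
      simpa using this
    rw [this]; exact N.one_mem
  have hk0 : Nat.find hpow ≠ 0 := by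
    intro h0
    have := Nat.find_spec hpow
    rw [h0, pow_zero, pow_one] at this
    exact ht₀N this
  obtain ⟨k, hk⟩ : ∃ k, Nat.find hpow = k + 1 := ⟨Nat.find hpow - 1, by omega⟩
  refine ⟨t₀ ^ 2 ^ k, T.pow_mem ht₀T _, ?_, ?_⟩
  · intro hmem
    have := Nat.find_min' hpow hmem
    omega
  · have := Nat.find_spec hpow
    rw [hk, pow_succ, pow_mul] at this
    exact this

/-- (N2) -/
theorem not_small_of_na8_of_mem [Finite G] (Y₀ Y : Subgroup G) (h0 : IsNA8 Y₀) (hle : Y₀ ≤ Y)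
    (t : G) (htY : t ∈ Y) (htc : t ∈ Subgroup.centralizer (Y₀ : Set G)) (htn : t ∉ Y₀)
    (ht2 : t ^ 2 ∈ Y₀) : ¬ Small Y := by
  obtain ⟨z, hzY, hz1, hz2, hzc, hsq, hcomm, hcen, i, hiY, hi2⟩ := h0.facts
  have htcomm : ∀ y ∈ Y₀, t * y = y * t := fun y hy =>
    (Subgroup.mem_centralizer_iff.mp htc y hy).symm
  -- `t ^ 2` is central in `Y₀`
  have ht2c : ∀ y ∈ Y₀, t ^ 2 * y = y * t ^ 2 := by
    intro y hy
    have h1 : Commute t y := htcomm y hy
    exact (h1.pow_left 2).eq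
  have ht2cases : t ^ 2 = 1 ∨ t ^ 2 = z := hcen _ ht2 ht2c
  have hi4 : i ^ 2 ^ (1 + 1) = 1 := by
    have : i ^ 2 ^ (1 + 1) = (i ^ 2) ^ 2 := by rw [← pow_mul]; norm_num
    rw [this, hi2, hz2]
  have hi2' : ¬ i ^ 2 ^ 1 = 1 := by
    rw [pow_one, hi2]; exact hz1
  have hord : orderOf i = 2 ^ (1 + 1) := orderOf_eq_prime_pow hi2' hi4
  have hBle : Subgroup.zpowers i ≤ Y₀ := Subgroup.zpowers_le.mpr hiY
  have hB4 : Nat.card (Subgroup.zpowers i) = 4 := by
    rw [Nat.card_zpowers, hord]; norm_num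
  have hbad : Bad (Subgroup.zpowers i ⊔ Subgroup.zpowers t) := by
    apply bad_sup_zpowers (Subgroup.zpowers i) t hB4
    · intro a ha b hb
      obtain ⟨m, rfl⟩ := Subgroup.mem_zpowers_iff.mp ha
      obtain ⟨n, rfl⟩ := Subgroup.mem_zpowers_iff.mp hb
      exact ((Commute.refl i).zpow_zpow m n).eq
    · intro a ha
      obtain ⟨m, rfl⟩ := Subgroup.mem_zpowers_iff.mp ha
      have h4 : i ^ 4 = 1 := by
        have : (4 : ℕ) = 2 ^ (1 + 1) := by norm_num
        rw [this]; exact hi4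
      rw [← zpow_natCast, ← zpow_mul, mul_comm, zpow_mul, zpow_natCast, h4, one_zpow]
    · intro a ha
      exact htcomm a (hBle ha)
    · intro hmem
      exact htn (hBle hmem)
    · rcases ht2cases with h | h
      · rw [h]; exact Subgroup.one_mem _
      · rw [h, ← hi2]; exact Subgroup.pow_mem _ (Subgroup.mem_zpowers i) 2
    · have : t ^ 4 = (t ^ 2) ^ 2 := by rw [← pow_mul]
      rw [this]
      rcases ht2cases with h | h
      · rw [h, one_pow]
      · rw [h, hz2]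
  intro hs
  apply hs _ _ hbad
  exact sup_le (hBle.trans hle) (Subgroup.zpowers_le.mpr htY)

/-- (N2') -/
theorem not_small_of_na8_centralizer [Finite G] (Y₀ Y : Subgroup G) (hY : IsPGroup 2 Y)
    (h0 : IsNA8 Y₀) (hle : Y₀ ≤ Y)
    (hT : ¬ (Y ⊓ Subgroup.centralizer (Y₀ : Set G) ≤ Y₀)) : ¬ Small Y := by
  have hne : (Y ⊓ Subgroup.centralizer (Y₀ : Set G)) ⊓ Y₀ ≠ Y ⊓ Subgroup.centralizer (Y₀ : Set G) :=
    fun heq => hT (inf_eq_left.mp heq)
  obtain ⟨t, htT, htN, ht2⟩ := pn3_exists_sq_mem _ _ (hY.to_le inf_le_left) inf_le_left hne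
  exact not_small_of_na8_of_mem Y₀ Y h0 hle t htT.1 htT.2 (fun h => htN ⟨htT, h⟩) ht2.2

end Cfsg.Agent.Lib.Helper8.SmTwo
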