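import Mathlib
import Cfsg.Prelude.Def_Classical

set_option autoImplicit false

namespace Cfsg.Agent.Lib.Helper7.LawAux

open Matrix

universe u

/-- `A ↦ diag(A, A⁻ᵀ)` as a monoid hom into matrices. -/
noncomputable def hypMat (F : Type u) [Field F] (k : ℕ) :
    GL (Fin k) F →* Matrix (Fin k ⊕ Fin k) (Fin k ⊕ Fin k) F where
  toFun A := fromBlocks (A : Matrix (Fin k) (Fin k) F) 0 0
    ((A⁻¹ : GL (Fin k) F) : Matrix (Fin k) (Fin k) F)ᵀ
  map_one' := by
    rw [inv_one, Units.val_one, transpose_one, fromBlocks_one]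
  map_mul' A B := by
    rw [fromBlocks_multiply, _root_.mul_inv_rev, Units.val_mul, Units.val_mul, transpose_mul]
    simp only [Matrix.mul_zero, Matrix.zero_mul, add_zero, zero_add]

theorem hypMat_apply (F : Type u) [Field F] (k : ℕ) (A : GL (Fin k) F) :
    hypMat F k A = fromBlocks (A : Matrix (Fin k) (Fin k) F) 0 0
      ((A⁻¹ : GL (Fin k) F) : Matrix (Fin k) (Fin k) F)ᵀ := rfl

theorem hypMat_injective (F : Type u) [Field F] (k : ℕ) : Function.Injective (hypMat F k) := by
  intro A B h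
  rw [hypMat_apply, hypMat_apply] at h
  have := (fromBlocks_inj.mp h).1
  exact Units.ext this

theorem hypMat_mem_symplectic (F : Type u) [Field F] (k : ℕ) (A : GL (Fin k) F) :
    hypMat F k A ∈ Matrix.symplecticGroup (Fin k) F := by
  rw [_root_.SymplecticGroup.mem_iff, hypMat_apply, Matrix.J, fromBlocks_transpose,
    fromBlocks_multiply, fromBlocks_multiply, transpose_transpose]
  have h1 : (A : Matrix (Fin k) (Fin k) F) * ((A⁻¹ : GL (Fin k) F) : Matrix (Fin k) (Fin k) F) = 1 := by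
    rw [← Units.val_mul, mul_inv_cancel, Units.val_one]
  have h2 : (((A⁻¹ : GL (Fin k) F) : Matrix (Fin k) (Fin k) F))ᵀ * (A : Matrix (Fin k) (Fin k) F)ᵀ = 1 := by
    rw [← transpose_mul, h1, transpose_one]
  simp only [Matrix.mul_zero, Matrix.zero_mul, add_zero, zero_add, Matrix.mul_one, Matrix.mul_neg,
    Matrix.neg_mul, h1, h2, transpose_zero, neg_zero]

end Cfsg.Agent.Lib.Helper7.LawAux

namespace Cfsg.Agent.Lib.LawPkg

open Cfsg.Agent.Lib.Helper7.LawAux

universe u

/-- (E-Sp) `GL_k(F) → Sp_2k(F)`, `A ↦ fromBlocks A 0 0 (A⁻¹)ᵀ`. -/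
theorem sp_embed (F : Type u) [Field F] (k : ℕ) :
    ∃ φ : Matrix.GeneralLinearGroup (Fin k) F →* ↥(Matrix.symplecticGroup (Fin k) F),
      Function.Injective φ := by
  refine ⟨MonoidHom.codRestrict (hypMat F k) (Matrix.symplecticGroup (Fin k) F)
    (hypMat_mem_symplectic F k), ?_⟩
  intro A B h
  apply hypMat_injective F k
  have := congrArg Subtype.val h
  exact this

end Cfsg.Agent.Lib.LawPkg
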