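import Mathlib

set_option autoImplicit false

/-! S3782 swarm (Alperin), package F1: fixed points of an automorphism on a quotient / section. -/

namespace Cfsg.Agent.Lib.Helper7.AlpF1

/-- counting form: if `x⁻¹ α(x) ∈ Y` for all `x ∈ F` then `|F| ≤ |Y| · |C(α)|`. -/
theorem card_le_mul_card_fixed {P : Type*} [Group P] [Finite P] (α : P ≃* P) (F Y : Subgroup P)
    (hF : ∀ x ∈ F, x⁻¹ * α x ∈ Y) :
    Nat.card F ≤ Nat.card Y * Nat.card {g : P // α g = g} := by
  classical
  let φ : F → Y := fun x => ⟨(x : P)⁻¹ * α x, hF x x.2⟩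
  let r : Y → F := fun y => if h : ∃ x : F, φ x = y then h.choose else 1
  have hr : ∀ x : F, φ (r (φ x)) = φ x := by
    intro x
    have h : ∃ x' : F, φ x' = φ x := ⟨x, rfl⟩
    simp only [r, dif_pos h]
    exact h.choose_spec
  have hfix : ∀ x : F, α ((x : P) * ((r (φ x) : F) : P)⁻¹) = (x : P) * ((r (φ x) : F) : P)⁻¹ := by
    intro x
    have h1 := congrArg (fun y : Y => (y : P)) (hr x)
    simp only [φ] at h1
    -- h1 : r⁻¹ * α r = x⁻¹ * α x
    have h2 : α (x : P) = (x : P) * (((r (φ x) : F) : P)⁻¹ * α ((r (φ x) : F) : P)) := by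
      rw [h1]; group
    rw [map_mul, map_inv, h2]
    group
  let ι : F → Y × {g : P // α g = g} := fun x => (φ x, ⟨(x : P) * ((r (φ x) : F) : P)⁻¹, hfix x⟩)
  have hι : Function.Injective ι := by
    intro x x' h
    have h1 : φ x = φ x' := congrArg Prod.fst h
    have h2 := congrArg (fun z => ((Prod.snd z : {g : P // α g = g}) : P)) h
    simp only [ι] at h2
    rw [h1] at h2
    exact Subtype.ext (mul_right_cancel h2)
  calc Nat.card F ≤ Nat.card (Y × {g : P // α g = g}) := Nat.card_le_card_of_injective ι hι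
    _ = Nat.card Y * Nat.card {g : P // α g = g} := Nat.card_prod _ _

/-- (F1') section form, without quotient types: if `x⁻¹ α(x) ∈ Y` for all `x ∈ F` (`Y ≤ F`)
then `|F : Y| ≤ |C(α)|`. -/
theorem card_fixed_section_le {P : Type*} [Group P] [Finite P] (α : P ≃* P) (F Y : Subgroup P)
    (hYF : Y ≤ F) (hF : ∀ x ∈ F, x⁻¹ * α x ∈ Y) :
    Y.relIndex F ≤ Nat.card {g : P // α g = g} := by
  have h1 := card_le_mul_card_fixed α F Y hF
  have h2 : Y.relIndex F * Nat.card Y = Nat.card F := by
    have := (Y.subgroupOf F).index_mul_card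
    rw [Nat.card_congr (Subgroup.subgroupOfEquivOfLe hYF).toEquiv] at this
    exact this
  have h3 : 0 < Nat.card Y := Nat.card_pos
  rw [← h2, mul_comm] at h1
  exact Nat.le_of_mul_le_mul_left h1 h3

/-- (F1) fixed points on a quotient -/
theorem card_fixed_quotient_le {A : Type*} [Group A] [Finite A] (α : A ≃* A) (B : Subgroup A)
    [B.Normal] (hB : B.map (α : A →* A) = B) :
    Nat.card {q : A ⧸ B // QuotientGroup.congr B B α hB q = q} ≤ Nat.card {a : A // α a = a} := by
  -- the subgroup of fixed points of the induced automorphism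
  let K : Subgroup (A ⧸ B) :=
    { carrier := {q | QuotientGroup.congr B B α hB q = q}
      mul_mem' := by
        intro a b ha hb
        simp only [Set.mem_ofPred_eq] at ha hb ⊢
        rw [map_mul, ha, hb]
      one_mem' := by simp
      inv_mem' := by
        intro a ha
        simp only [Set.mem_ofPred_eq] at ha ⊢
        rw [map_inv, ha] }
  let D : Subgroup A := K.comap (QuotientGroup.mk' B)
  have hBD : B ≤ D := by
    intro b hb
    show QuotientGroup.mk' B b ∈ K
    have : (QuotientGroup.mk' B) b = 1 := (QuotientGroup.eq_one_iff b).2 hb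
    rw [this]; exact K.one_mem
  have hD : ∀ x ∈ D, x⁻¹ * α x ∈ B := by
    intro x hx
    have h1 : QuotientGroup.congr B B α hB (QuotientGroup.mk' B x) = QuotientGroup.mk' B x := hx
    rw [QuotientGroup.mk'_apply, QuotientGroup.congr_mk] at h1
    exact QuotientGroup.eq.1 h1.symm
  have h1 := card_fixed_section_le α D B hBD hD
  have h2 : B.relIndex D = Nat.card K := by
    have hmap : D.map (QuotientGroup.mk' B) = K :=
      Subgroup.map_comap_eq_self_of_surjective (QuotientGroup.mk'_surjective B) K
    have h3 := Subgroup.relIndex_ker (QuotientGroup.mk' B) (K := D)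
    rw [QuotientGroup.ker_mk', hmap] at h3
    exact h3
  rw [h2] at h1
  exact h1

end Cfsg.Agent.Lib.Helper7.AlpF1
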