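import Mathlib
import Cfsg.Agent.S4209
import Cfsg.Agent.Lib.Helper8.RegularP

set_option autoImplicit false

/-! General lemmas on the lower central series used for `p`-groups of maximal class. -/

namespace Cfsg.Agent.Lib.Helper7.MaxCls

open scoped commutatorElement

variable {S : Type*} [Group S]

instance lcs_normal (i : ℕ) : ((⊤ : Subgroup S).lowerCentralSeries i).Normal :=
  Subgroup.normal_of_characteristic _

/-- `[γ_{i+1}, γ_{j+1}] ≤ γ_{i+j+2}` -/
theorem lcs_comm [Finite S] (i j : ℕ) :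
    ⁅(⊤ : Subgroup S).lowerCentralSeries i, (⊤ : Subgroup S).lowerCentralSeries j⁆ ≤
      (⊤ : Subgroup S).lowerCentralSeries (i + j + 1) := by
  have h := Cfsg.Agent.S4209.gam_comm S (i + 1) (j + 1)
  have e : i + 1 + (j + 1) = (i + j + 1) + 1 := by omega
  rw [e] at h
  exact h

/-- if `D = ⟨g⟩ E` and `E` is central in `D` modulo `N` then `D` is abelian modulo `N` -/
theorem comm_le_of_cyclic (D E N : Subgroup S) [N.Normal] (hED : E ≤ D) (hDE : ⁅D, E⁆ ≤ N)
    (g : S) (hg : g ∈ D) (hgen : ∀ d ∈ D, ∃ a : ℤ, ∃ e ∈ E, d = g ^ a * e) : ⁅D, D⁆ ≤ N := by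
  rw [Subgroup.commutator_le]
  intro d₁ h₁ d₂ h₂
  set π := QuotientGroup.mk' N with hπ
  have hc : ∀ d ∈ D, ∀ e ∈ E, Commute (π d) (π e) := by
    intro d hd e he
    have h : ⁅d, e⁆ ∈ N := hDE (Subgroup.commutator_mem_commutator hd he)
    have h1 : π ⁅d, e⁆ = 1 := (QuotientGroup.eq_one_iff _).2 h
    rw [map_commutatorElement, commutatorElement_eq_one_iff_mul_comm] at h1
    exact h1
  obtain ⟨a, e₁, he₁, rfl⟩ := hgen d₁ h₁
  obtain ⟨b, e₂, he₂, rfl⟩ := hgen d₂ h₂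
  have hge₁ : Commute (π g) (π e₁) := hc g hg e₁ he₁
  have hge₂ : Commute (π g) (π e₂) := hc g hg e₂ he₂
  have hee : Commute (π e₁) (π e₂) := hc e₁ (hED he₁) e₂ he₂
  have hcomm : Commute (π (g ^ a * e₁)) (π (g ^ b * e₂)) := by
    simp only [map_mul, map_zpow]
    have h1 : Commute (π g ^ a) (π g ^ b) := (Commute.refl _).zpow_zpow a b
    have h2 : Commute (π g ^ a) (π e₂) := hge₂.zpow_left a
    have h3 : Commute (π e₁) (π g ^ b) := (hge₁.zpow_left b).symm
    exact (h1.mul_right h2).mul_left (h3.mul_right hee)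
  have : π ⁅g ^ a * e₁, g ^ b * e₂⁆ = 1 := by
    rw [map_commutatorElement, commutatorElement_eq_one_iff_mul_comm]
    exact hcomm
  exact (QuotientGroup.eq_one_iff _).1 this

/-- class estimate for a subgroup `H ≤ γ_{a+1}` with `[H,H] ≤ γ_{b+1}` -/
theorem rel_lcs_le [Finite S] (H : Subgroup S) (a b : ℕ)
    (hH : H ≤ (⊤ : Subgroup S).lowerCentralSeries a)
    (hHH : ⁅H, H⁆ ≤ (⊤ : Subgroup S).lowerCentralSeries b) :
    ∀ j, H.lowerCentralSeries (j + 1) ≤ (⊤ : Subgroup S).lowerCentralSeries (b + j * (a + 1)) := by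
  intro j
  induction j with
  | zero =>
    rw [Subgroup.lowerCentralSeries_succ, Subgroup.lowerCentralSeries_zero]
    simpa using hHH
  | succ j ih =>
    rw [Subgroup.lowerCentralSeries_succ]
    refine le_trans (Subgroup.commutator_mono ih hH) ?_
    refine le_trans (lcs_comm _ _) ?_
    apply Subgroup.lowerCentralSeries_antitone
    ring_nf
    omega

/-- the key congruence `(xy)^p ≡ x^p y^p` modulo `N`, for a subgroup `H` which has class `< p`
modulo `N` and whose commutators have `p`-th powers in `N`. -/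
theorem pow_mul_mod [Finite S] {p : ℕ} [Fact p.Prime] (H N : Subgroup S) [N.Normal]
    (hcl : H.lowerCentralSeries (p - 1) ≤ N) (hd : ∀ d ∈ ⁅H, H⁆, d ^ p ∈ N) :
    ∀ x ∈ H, ∀ y ∈ H, ((x * y) ^ p)⁻¹ * x ^ p * y ^ p ∈ N := by
  intro x hx y hy
  set π := QuotientGroup.mk' N with hπ
  set K : Subgroup (S ⧸ N) := H.map π with hK
  have hKcl : (⊤ : Subgroup ↥K).lowerCentralSeries (p - 1) = ⊥ := by
    have h1 : ((⊤ : Subgroup ↥K).lowerCentralSeries (p - 1)).map K.subtype ≤ ⊥ := by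
      rw [Subgroup.top_subtype_lowerCentralSeries, hK, ← Subgroup.map_lowerCentralSeries]
      intro z hz
      obtain ⟨w, hw, rfl⟩ := hz
      rw [Subgroup.mem_bot]
      exact (QuotientGroup.eq_one_iff _).2 (hcl hw)
    rw [le_bot_iff, Subgroup.map_eq_bot_iff_of_injective _ K.subtype_injective] at h1
    exact h1
  have hpc : Cfsg.powerClosure p 1 (commutator ↥K) = ⊥ := by
    apply Cfsg.Agent.Lib.Helper8.powerClosure_eq_bot
    intro z hz
    have hz1 : (z : S ⧸ N) ∈ ⁅K, K⁆ := by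
      have h2 : (commutator ↥K).map K.subtype = ⁅K, K⁆ := by
        rw [commutator_def, Subgroup.map_commutator, ← MonoidHom.range_eq_map,
          Subgroup.range_subtype]
      rw [← h2]
      exact Subgroup.mem_map_of_mem _ hz
    have hz2 : (z : S ⧸ N) ∈ (⁅H, H⁆).map π := by
      rw [Subgroup.map_commutator, ← hK]
      exact hz1
    obtain ⟨d, hdm, hdz⟩ := hz2
    apply Subtype.ext
    rw [pow_one, Subgroup.coe_pow, Subgroup.coe_one, ← hdz, ← map_pow]
    exact (QuotientGroup.eq_one_iff _).2 (hd d hdm)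
  have hxK : π x ∈ K := Subgroup.mem_map_of_mem _ hx
  have hyK : π y ∈ K := Subgroup.mem_map_of_mem _ hy
  have h := Cfsg.Agent.S4209.hp (X := ↥K) hKcl ⟨π x, hxK⟩ ⟨π y, hyK⟩
  rw [hpc, Subgroup.mem_bot] at h
  have h2 := congrArg (fun z : ↥K => (z : S ⧸ N)) h
  simp only [Subgroup.coe_mul, Subgroup.coe_inv, Subgroup.coe_pow, Subgroup.coe_one] at h2
  have h3 : π (((x * y) ^ p)⁻¹ * x ^ p * y ^ p) = 1 := by simpa using h2
  exact (QuotientGroup.eq_one_iff _).1 h3

/-- the elements of `H` with `p`-th power in `N` form a subgroup. -/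
def powSub (p : ℕ) (H N : Subgroup S) [N.Normal]
    (h : ∀ x ∈ H, ∀ y ∈ H, ((x * y) ^ p)⁻¹ * x ^ p * y ^ p ∈ N) : Subgroup S where
  carrier := {x | x ∈ H ∧ x ^ p ∈ N}
  one_mem' := ⟨H.one_mem, by simp [N.one_mem]⟩
  mul_mem' := by
    rintro x y ⟨hx, hxp⟩ ⟨hy, hyp⟩
    refine ⟨H.mul_mem hx hy, ?_⟩
    have hw := h x hx y hy
    generalize (x * y) ^ p = X at hw ⊢
    generalize x ^ p = A at hw hxp ⊢
    generalize y ^ p = B at hw hyp ⊢
    have : X = A * B * (X⁻¹ * A * B)⁻¹ := by group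
    rw [this]
    exact N.mul_mem (N.mul_mem hxp hyp) (N.inv_mem hw)
  inv_mem' := by
    rintro x ⟨hx, hxp⟩
    exact ⟨H.inv_mem hx, by rw [inv_pow]; exact N.inv_mem hxp⟩

theorem mem_powSub {p : ℕ} {H N : Subgroup S} [N.Normal]
    {h : ∀ x ∈ H, ∀ y ∈ H, ((x * y) ^ p)⁻¹ * x ^ p * y ^ p ∈ N} {x : S} :
    x ∈ powSub p H N h ↔ x ∈ H ∧ x ^ p ∈ N := Iff.rfl

/-- generation by one element modulo a subgroup of index `p` -/
theorem exists_zpow_mul [Finite S] {p : ℕ} [hp : Fact p.Prime] (D E : Subgroup S) [E.Normal]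
    (hED : E ≤ D) (hcard : Nat.card D = p * Nat.card E) (g : S) (hg : g ∈ D) (hgE : g ∉ E) :
    ∀ d ∈ D, ∃ a : ℤ, ∃ e ∈ E, d = g ^ a * e := by
  set M : Subgroup S := Subgroup.zpowers g ⊔ E with hM
  have hMD : M ≤ D := sup_le (by rw [Subgroup.zpowers_le]; exact hg) hED
  have hEM : E ≤ M := le_sup_right
  have hgM : g ∈ M := (le_sup_left : Subgroup.zpowers g ≤ M) (Subgroup.mem_zpowers g)
  have h1 : Nat.card E ∣ Nat.card M := Subgroup.card_dvd_of_le hEM
  have h2 : Nat.card M ∣ Nat.card D := Subgroup.card_dvd_of_le hMD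
  obtain ⟨t, ht⟩ := h1
  have hEpos : 0 < Nat.card E := Nat.card_pos
  have ht2 : t ∣ p := by
    rw [hcard, ht, mul_comm p] at h2
    exact (Nat.mul_dvd_mul_iff_left hEpos).1 h2
  have ht3 : t ≠ 1 := by
    intro h
    rw [h, mul_one] at ht
    have : M = E := (Subgroup.eq_of_le_of_card_ge hEM (le_of_eq ht)).symm
    exact hgE (this ▸ hgM)
  have ht4 : t = p := ((Nat.dvd_prime hp.out).1 ht2).resolve_left ht3
  have hMD2 : M = D := by
    apply Subgroup.eq_of_le_of_card_ge hMD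
    rw [hcard, ht, ht4, mul_comm]
  intro d hd
  rw [← hMD2, hM, Subgroup.mem_sup_of_normal_right] at hd
  obtain ⟨y, hy, z, hz, rfl⟩ := hd
  obtain ⟨a, rfl⟩ := Subgroup.mem_zpowers_iff.1 hy
  exact ⟨a, z, hz, rfl⟩

end Cfsg.Agent.Lib.Helper7.MaxCls
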