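import Mathlib
import Cfsg.Agent.Lib.Helper7.HkkDefs
import Cfsg.Agent.Lib.Helper7.MaxCls1

set_option autoImplicit false

/-! # HKK package P7: the graded Lie datum of the lower central series of a finite group -/

namespace Cfsg.Agent.Lib.Helper7.Hkk

universe u

open scoped commutatorElement
open Cfsg.Agent.Lib.Helper7.MaxCls (lcs_comm lcs_normal)

variable (G : Type u) [Group G]

/-- `Γ n`, the `n`-th term of the lower central series (`Γ 0 = ⊤`) -/
abbrev Gam (n : ℕ) : Subgroup G := (⊤ : Subgroup G).lowerCentralSeries n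

/-- the layer `Γ n / Γ (n+1)` -/
abbrev Q (n : ℕ) : Type u := Gam G n ⧸ (Gam G (n + 1)).subgroupOf (Gam G n)

/-- the projection `Γ n → Γ n / Γ (n+1)` -/
def qmk (n : ℕ) : Gam G n →* Q G n := QuotientGroup.mk' _

theorem qmk_surjective (n : ℕ) : Function.Surjective (qmk G n) := QuotientGroup.mk'_surjective _

theorem qmk_eq_one_iff (n : ℕ) (g : Gam G n) : qmk G n g = 1 ↔ (g : G) ∈ Gam G (n + 1) := by
  unfold qmk
  rw [QuotientGroup.mk'_apply, QuotientGroup.eq_one_iff, Subgroup.mem_subgroupOf]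

theorem qmk_eq_iff (n : ℕ) (g h : Gam G n) :
    qmk G n g = qmk G n h ↔ (g : G)⁻¹ * h ∈ Gam G (n + 1) := by
  unfold qmk
  rw [QuotientGroup.mk'_apply, QuotientGroup.mk'_apply, QuotientGroup.eq, Subgroup.mem_subgroupOf]
  simp

instance instCommGroupQ (n : ℕ) : CommGroup (Q G n) :=
  { (inferInstance : Group (Q G n)) with
    mul_comm := by
      intro a b
      obtain ⟨g, rfl⟩ := qmk_surjective G n a
      obtain ⟨h, rfl⟩ := qmk_surjective G n b
      rw [← map_mul, ← map_mul, qmk_eq_iff]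
      have h1 : ⁅(h : G)⁻¹, (g : G)⁻¹⁆ ∈ Gam G (n + 1) :=
        Subgroup.commutator_mem_commutator (inv_mem h.2) (Subgroup.mem_top _)
      have h2 : ((g * h : Gam G n) : G)⁻¹ * ((h * g : Gam G n) : G) = ⁅(h : G)⁻¹, (g : G)⁻¹⁆ := by
        simp only [Subgroup.coe_mul, commutatorElement_def]; group
      rw [h2]; exact h1 }

/-- the layer, written additively -/
abbrev Lay (n : ℕ) : Type u := Additive (Q G n)

/-- the class of `g ∈ Γ n` in the additive layer -/
def lay (n : ℕ) (g : Gam G n) : Lay G n := Additive.ofMul (qmk G n g)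

theorem lay_surjective (n : ℕ) : Function.Surjective (lay G n) := fun a => by
  obtain ⟨g, hg⟩ := qmk_surjective G n (Additive.toMul a)
  exact ⟨g, by simp [lay, hg]⟩

theorem lay_mul (n : ℕ) (g h : Gam G n) : lay G n (g * h) = lay G n g + lay G n h := by
  simp [lay]

theorem lay_one (n : ℕ) : lay G n 1 = 0 := by simp [lay]

theorem lay_inv (n : ℕ) (g : Gam G n) : lay G n g⁻¹ = - lay G n g := by simp [lay]

theorem lay_eq_zero_iff (n : ℕ) (g : Gam G n) : lay G n g = 0 ↔ (g : G) ∈ Gam G (n + 1) := by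
  rw [← qmk_eq_one_iff]; rfl

theorem lay_eq_iff (n : ℕ) (g h : Gam G n) :
    lay G n g = lay G n h ↔ (g : G)⁻¹ * h ∈ Gam G (n + 1) := by
  rw [← qmk_eq_iff]; rfl

variable [Finite G]

theorem comm_mem_Gam {i j n : ℕ} (h : i + j + 1 = n) {x y : G} (hx : x ∈ Gam G i)
    (hy : y ∈ Gam G j) : ⁅x, y⁆ ∈ Gam G n := by
  subst h
  exact lcs_comm i j (Subgroup.commutator_mem_commutator hx hy)

/-- the commutator of `x ∈ Γ i`, `y ∈ Γ j` as an element of `Γ n`, `n = i + j + 1` -/
def gcomm (i j n : ℕ) (h : i + j + 1 = n) (x : Gam G i) (y : Gam G j) : Gam G n :=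
  ⟨⁅(x : G), (y : G)⁆, comm_mem_Gam G h x.2 y.2⟩

/-- the graded bracket, defined through representatives -/
noncomputable def grB (i j n : ℕ) (h : i + j + 1 = n) (a : Lay G i) (b : Lay G j) : Lay G n :=
  lay G n (gcomm G i j n h (Classical.choose (lay_surjective G i a))
    (Classical.choose (lay_surjective G j b)))

namespace GC

variable {G}

theorem gam_anti {m n : ℕ} (h : m ≤ n) : Gam G n ≤ Gam G m :=
  Subgroup.lowerCentralSeries_antitone _ h

theorem lay_eq_zero_of_mem {n : ℕ} (g : Gam G n) (h : (g : G) ∈ Gam G (n + 1)) : lay G n g = 0 :=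
  (lay_eq_zero_iff G n g).2 h

/-- conjugation acts trivially on the layers -/
theorem lay_conj {n : ℕ} (g : G) (u : Gam G n) (h : g * (u : G) * g⁻¹ ∈ Gam G n) :
    lay G n ⟨g * (u : G) * g⁻¹, h⟩ = lay G n u := by
  rw [eq_comm, lay_eq_iff]
  have h1 : ⁅(u : G)⁻¹, g⁆ ∈ Gam G (n + 1) :=
    Subgroup.commutator_mem_commutator (inv_mem u.2) (Subgroup.mem_top _)
  have h2 : (u : G)⁻¹ * (g * (u : G) * g⁻¹) = ⁅(u : G)⁻¹, g⁆ := by
    simp only [commutatorElement_def]; group
  show (u : G)⁻¹ * (g * (u : G) * g⁻¹) ∈ Gam G (n + 1)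
  rw [h2]; exact h1

theorem lay_gcomm_mul_left (i j n : ℕ) (h : i + j + 1 = n) (x x' : Gam G i) (y : Gam G j) :
    lay G n (gcomm G i j n h (x * x') y) =
      lay G n (gcomm G i j n h x y) + lay G n (gcomm G i j n h x' y) := by
  have hm : ⁅(x : G), ⁅(x' : G), (y : G)⁆⁆ ∈ Gam G (n + 1) :=
    gam_anti (by omega) (comm_mem_Gam G (i := i) (j := n) (n := i + n + 1) rfl x.2
      (comm_mem_Gam G h x'.2 y.2))
  have hm' : ⁅(x : G), ⁅(x' : G), (y : G)⁆⁆ ∈ Gam G n := gam_anti (Nat.le_succ n) hm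
  have key : gcomm G i j n h (x * x') y =
      ⟨⁅(x : G), ⁅(x' : G), (y : G)⁆⁆, hm'⟩ * gcomm G i j n h x' y * gcomm G i j n h x y := by
    apply Subtype.ext
    simp only [gcomm, Subgroup.coe_mul, commutatorElement_def]
    group
  rw [key, lay_mul, lay_mul, lay_eq_zero_of_mem ⟨_, hm'⟩ hm, zero_add, add_comm]

theorem lay_gcomm_mul_right (i j n : ℕ) (h : i + j + 1 = n) (x : Gam G i) (y y' : Gam G j) :
    lay G n (gcomm G i j n h x (y * y')) =
      lay G n (gcomm G i j n h x y) + lay G n (gcomm G i j n h x y') := by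
  have hm : ⁅(y : G), ⁅(x : G), (y' : G)⁆⁆ ∈ Gam G (n + 1) :=
    gam_anti (by omega) (comm_mem_Gam G (i := j) (j := n) (n := j + n + 1) rfl y.2
      (comm_mem_Gam G h x.2 y'.2))
  have hm' : ⁅(y : G), ⁅(x : G), (y' : G)⁆⁆ ∈ Gam G n := gam_anti (Nat.le_succ n) hm
  have key : gcomm G i j n h x (y * y') =
      gcomm G i j n h x y * ⟨⁅(y : G), ⁅(x : G), (y' : G)⁆⁆, hm'⟩ * gcomm G i j n h x y' := by
    apply Subtype.ext
    simp only [gcomm, Subgroup.coe_mul, commutatorElement_def]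
    group
  rw [key, lay_mul, lay_mul, lay_eq_zero_of_mem ⟨_, hm'⟩ hm, add_zero]

theorem lay_gcomm_eq_zero_left (i j n : ℕ) (h : i + j + 1 = n) (x : Gam G i) (y : Gam G j)
    (hx : (x : G) ∈ Gam G (i + 1)) : lay G n (gcomm G i j n h x y) = 0 :=
  lay_eq_zero_of_mem _ (comm_mem_Gam G (i := i + 1) (j := j) (n := n + 1) (by omega) hx y.2)

theorem lay_gcomm_eq_zero_right (i j n : ℕ) (h : i + j + 1 = n) (x : Gam G i) (y : Gam G j)
    (hy : (y : G) ∈ Gam G (j + 1)) : lay G n (gcomm G i j n h x y) = 0 :=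
  lay_eq_zero_of_mem _ (comm_mem_Gam G (i := i) (j := j + 1) (n := n + 1) (by omega) x.2 hy)

theorem lay_gcomm_congr_left (i j n : ℕ) (h : i + j + 1 = n) (x x' : Gam G i) (y : Gam G j)
    (hxx : lay G i x = lay G i x') :
    lay G n (gcomm G i j n h x y) = lay G n (gcomm G i j n h x' y) := by
  have ht : ((x⁻¹ * x' : Gam G i) : G) ∈ Gam G (i + 1) := by
    have := (lay_eq_iff G i x x').1 hxx
    simpa using this
  have e : x' = x * (x⁻¹ * x') := by group
  rw [e, lay_gcomm_mul_left, lay_gcomm_eq_zero_left i j n h _ y ht, add_zero]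

theorem lay_gcomm_congr_right (i j n : ℕ) (h : i + j + 1 = n) (x : Gam G i) (y y' : Gam G j)
    (hyy : lay G j y = lay G j y') :
    lay G n (gcomm G i j n h x y) = lay G n (gcomm G i j n h x y') := by
  have ht : ((y⁻¹ * y' : Gam G j) : G) ∈ Gam G (j + 1) := by
    have := (lay_eq_iff G j y y').1 hyy
    simpa using this
  have e : y' = y * (y⁻¹ * y') := by group
  rw [e, lay_gcomm_mul_right, lay_gcomm_eq_zero_right i j n h x _ ht, add_zero]

end GC

/-- **P7 (a)**: the graded bracket of classes is the class of the commutator -/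
theorem grB_lay (i j n : ℕ) (h : i + j + 1 = n) (x : Gam G i) (y : Gam G j) :
    grB G i j n h (lay G i x) (lay G j y) = lay G n (gcomm G i j n h x y) := by
  unfold grB
  rw [GC.lay_gcomm_congr_left i j n h _ x _ (Classical.choose_spec (lay_surjective G i (lay G i x))),
    GC.lay_gcomm_congr_right i j n h x _ y
      (Classical.choose_spec (lay_surjective G j (lay G j y)))]

namespace GC

variable {G}

theorem grB_add_left (i j n : ℕ) (h : i + j + 1 = n) (a a' : Lay G i) (b : Lay G j) :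
    grB G i j n h (a + a') b = grB G i j n h a b + grB G i j n h a' b := by
  obtain ⟨x, rfl⟩ := lay_surjective G i a
  obtain ⟨x', rfl⟩ := lay_surjective G i a'
  obtain ⟨y, rfl⟩ := lay_surjective G j b
  rw [← lay_mul, grB_lay, grB_lay, grB_lay, lay_gcomm_mul_left]

theorem grB_add_right (i j n : ℕ) (h : i + j + 1 = n) (a : Lay G i) (b b' : Lay G j) :
    grB G i j n h a (b + b') = grB G i j n h a b + grB G i j n h a b' := by
  obtain ⟨x, rfl⟩ := lay_surjective G i a
  obtain ⟨y, rfl⟩ := lay_surjective G j b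
  obtain ⟨y', rfl⟩ := lay_surjective G j b'
  rw [← lay_mul, grB_lay, grB_lay, grB_lay, lay_gcomm_mul_right]

theorem grB_self (i n : ℕ) (h : i + i + 1 = n) (a : Lay G i) : grB G i i n h a a = 0 := by
  obtain ⟨x, rfl⟩ := lay_surjective G i a
  rw [grB_lay]
  have : gcomm G i i n h x x = 1 := by
    apply Subtype.ext
    simp [gcomm]
  rw [this, lay_one]

theorem grB_skew (i j n : ℕ) (h : i + j + 1 = n) (h' : j + i + 1 = n) (a : Lay G i) (b : Lay G j) :
    grB G i j n h a b = - grB G j i n h' b a := by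
  obtain ⟨x, rfl⟩ := lay_surjective G i a
  obtain ⟨y, rfl⟩ := lay_surjective G j b
  rw [grB_lay, grB_lay, ← lay_inv]
  congr 1
  apply Subtype.ext
  simp [gcomm, commutatorElement_inv]

theorem grB_zero_left (i j n : ℕ) (h : i + j + 1 = n) (b : Lay G j) :
    grB G i j n h 0 b = 0 := by
  have := grB_add_left i j n h 0 0 b
  rw [add_zero] at this
  exact left_eq_add.1 this

theorem grB_zero_right (i j n : ℕ) (h : i + j + 1 = n) (a : Lay G i) :
    grB G i j n h a 0 = 0 := by
  have := grB_add_right i j n h a 0 0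
  rw [add_zero] at this
  exact left_eq_add.1 this

theorem grB_neg_left (i j n : ℕ) (h : i + j + 1 = n) (a : Lay G i) (b : Lay G j) :
    grB G i j n h (-a) b = - grB G i j n h a b := by
  have := grB_add_left i j n h (-a) a b
  rw [neg_add_cancel, grB_zero_left] at this
  exact eq_neg_of_add_eq_zero_left this.symm

theorem grB_neg_right (i j n : ℕ) (h : i + j + 1 = n) (a : Lay G i) (b : Lay G j) :
    grB G i j n h a (-b) = - grB G i j n h a b := by
  have := grB_add_right i j n h a (-b) b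
  rw [neg_add_cancel, grB_zero_right] at this
  exact eq_neg_of_add_eq_zero_left this.symm

theorem conj_mem_Gam {n : ℕ} (g : G) {u : G} (hu : u ∈ Gam G n) : g * u * g⁻¹ ∈ Gam G n :=
  (inferInstance : (Gam G n).Normal).conj_mem u hu g

/-- Hall–Witt identity on the layers -/
theorem jac_aux (i j k ij jk ik n : ℕ) (hij : i + j + 1 = ij) (hjk : j + k + 1 = jk)
    (hik : i + k + 1 = ik) (h1 : ij + k + 1 = n) (h2 : i + jk + 1 = n) (h3 : j + ik + 1 = n)
    (x : Gam G i) (y : Gam G j) (z : Gam G k) :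
    lay G n (gcomm G i jk n h2 x (gcomm G j k jk hjk y z)) =
      - lay G n (gcomm G k ij n (by omega) z (gcomm G i j ij hij x⁻¹ y⁻¹))
      - lay G n (gcomm G j ik n h3 y⁻¹ (gcomm G k i ik (by omega) z⁻¹ x)) := by
  set u : Gam G n := gcomm G k ij n (by omega) z (gcomm G i j ij hij x⁻¹ y⁻¹) with hu
  set v : Gam G n := gcomm G j ik n h3 y⁻¹ (gcomm G k i ik (by omega) z⁻¹ x) with hv
  have hcu : (y : G) * x * ((u⁻¹ : Gam G n) : G) * ((y : G) * x)⁻¹ ∈ Gam G n :=
    conj_mem_Gam _ (u⁻¹).2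
  have hcv : (y : G) * z * ((v⁻¹ : Gam G n) : G) * ((y : G) * z)⁻¹ ∈ Gam G n :=
    conj_mem_Gam _ (v⁻¹).2
  have key : gcomm G i jk n h2 x (gcomm G j k jk hjk y z) =
      ⟨_, hcu⟩ * ⟨_, hcv⟩ := by
    apply Subtype.ext
    simp only [hu, hv, gcomm, Subgroup.coe_mul, Subgroup.coe_inv, commutatorElement_def]
    group
  rw [key, lay_mul, lay_conj _ _ hcu, lay_conj _ _ hcv, lay_inv, lay_inv]
  abel

theorem grB_jac (i j k ij jk ik n : ℕ) (hij : i + j + 1 = ij) (hjk : j + k + 1 = jk)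
    (hik : i + k + 1 = ik) (h1 : ij + k + 1 = n) (h2 : i + jk + 1 = n) (h3 : j + ik + 1 = n)
    (a : Lay G i) (b : Lay G j) (c : Lay G k) :
    grB G i jk n h2 a (grB G j k jk hjk b c) =
      grB G ij k n h1 (grB G i j ij hij a b) c + grB G j ik n h3 b (grB G i k ik hik a c) := by
  obtain ⟨x, rfl⟩ := lay_surjective G i a
  obtain ⟨y, rfl⟩ := lay_surjective G j b
  obtain ⟨z, rfl⟩ := lay_surjective G k c
  have e1 : grB G i jk n h2 (lay G i x) (grB G j k jk hjk (lay G j y) (lay G k z)) =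
      lay G n (gcomm G i jk n h2 x (gcomm G j k jk hjk y z)) := by
    rw [grB_lay, grB_lay]
  have e2 : lay G n (gcomm G k ij n (by omega) z (gcomm G i j ij hij x⁻¹ y⁻¹)) =
      grB G k ij n (by omega) (lay G k z) (grB G i j ij hij (lay G i x) (lay G j y)) := by
    rw [← grB_lay, ← grB_lay, lay_inv, lay_inv]
    simp only [grB_neg_left, grB_neg_right, neg_neg]
  have e3 : lay G n (gcomm G j ik n h3 y⁻¹ (gcomm G k i ik (by omega) z⁻¹ x)) =
      grB G j ik n h3 (lay G j y) (grB G k i ik (by omega) (lay G k z) (lay G i x)) := by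
    rw [← grB_lay, ← grB_lay, lay_inv, lay_inv]
    simp only [grB_neg_left, grB_neg_right, neg_neg]
  rw [e1, jac_aux i j k ij jk ik n hij hjk hik h1 h2 h3, e2, e3,
    grB_skew k ij n (by omega) h1, grB_skew k i ik (by omega) hik (lay G k z) (lay G i x),
    grB_neg_right]
  abel

end GC


/-- **P7 (b)**: the graded Lie datum of the lower central series -/
noncomputable def grLie : GrLie (Lay G) where
  B := grB G
  add_left := GC.grB_add_left
  add_right := GC.grB_add_right
  self := GC.grB_self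
  skew := GC.grB_skew
  jac := GC.grB_jac

theorem grLie_B (i j n : ℕ) (h : i + j + 1 = n) (a : Lay G i) (b : Lay G j) :
    (grLie G).B i j n h a b = grB G i j n h a b := rfl

end Cfsg.Agent.Lib.Helper7.Hkk
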