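import Mathlib
import Cfsg.Agent.Lib.Helper7.HkkDefs

set_option autoImplicit false

/-! # HKK package G3: a graded Lie datum `GrLie Λ` gives a Lie ring structure on `⨁ n, Λ n` -/

namespace Cfsg.Agent.Lib.Helper7.Hkk

universe u

open DirectSum

variable {Λ : ℕ → Type u} [∀ n, AddCommGroup (Λ n)] (S : GrLie Λ)

/-- the `(i,j)`-component of the bracket, as a bi-additive map into the direct sum -/
noncomputable def GrLie.bHom (i j : ℕ) : Λ i →+ Λ j →+ ⨁ n, Λ n :=
  AddMonoidHom.mk' (fun a => AddMonoidHom.mk'
    (fun b => DirectSum.of Λ (i + j + 1) (S.B i j _ rfl a b))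
    (by intro b b'; rw [S.add_right, map_add]))
    (by intro a a'; ext b; simp [S.add_left])

/-- the bracket on the direct sum, as a bi-additive map -/
noncomputable def GrLie.brkHom : (⨁ n, Λ n) →+ (⨁ n, Λ n) →+ ⨁ n, Λ n :=
  DirectSum.toAddMonoid fun i => AddMonoidHom.flip
    (DirectSum.toAddMonoid fun j => AddMonoidHom.flip (S.bHom i j))

theorem GrLie.brkHom_of_of (i j n : ℕ) (h : i + j + 1 = n) (a : Λ i) (b : Λ j) :
    S.brkHom (DirectSum.of Λ i a) (DirectSum.of Λ j b) = DirectSum.of Λ n (S.B i j n h a b) := by
  subst h
  simp [GrLie.brkHom, GrLie.bHom]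

theorem GrLie.brkHom_skew (x y : ⨁ n, Λ n) : S.brkHom x y = - S.brkHom y x := by
  induction x using DirectSum.induction_on with
  | zero => simp
  | add x x' hx hx' => rw [map_add, AddMonoidHom.add_apply, hx, hx', map_add]; abel
  | of i a =>
    induction y using DirectSum.induction_on with
    | zero => simp
    | add y y' hy hy' => rw [map_add, hy, hy', map_add, AddMonoidHom.add_apply]; abel
    | of j b =>
      rw [S.brkHom_of_of i j _ rfl, S.brkHom_of_of j i (i + j + 1) (by omega),
        S.skew i j _ rfl (by omega), map_neg]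

theorem GrLie.brkHom_self (x : ⨁ n, Λ n) : S.brkHom x x = 0 := by
  induction x using DirectSum.induction_on with
  | zero => simp
  | of i a => rw [S.brkHom_of_of i i _ rfl, S.self, map_zero]
  | add x y hx hy =>
    simp only [map_add, AddMonoidHom.add_apply, hx, hy]
    rw [S.brkHom_skew y x]
    abel

theorem GrLie.brkHom_leibniz (x y z : ⨁ n, Λ n) :
    S.brkHom x (S.brkHom y z) = S.brkHom (S.brkHom x y) z + S.brkHom y (S.brkHom x z) := by
  induction x using DirectSum.induction_on with
  | zero => simp
  | add x x' hx hx' =>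
    simp only [map_add, AddMonoidHom.add_apply, hx, hx']
    abel
  | of i a =>
    induction y using DirectSum.induction_on with
    | zero => simp
    | add y y' hy hy' =>
      simp only [map_add, AddMonoidHom.add_apply, hy, hy']
      abel
    | of j b =>
      induction z using DirectSum.induction_on with
      | zero => simp
      | add z z' hz hz' =>
        simp only [map_add, hz, hz']
        abel
      | of k c =>
        rw [S.brkHom_of_of j k _ rfl, S.brkHom_of_of i j _ rfl, S.brkHom_of_of i k _ rfl,
          S.brkHom_of_of i (j + k + 1) (i + j + 1 + k + 1) (by omega),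
          S.brkHom_of_of (i + j + 1) k (i + j + 1 + k + 1) rfl,
          S.brkHom_of_of j (i + k + 1) (i + j + 1 + k + 1) (by omega),
          S.jac i j k (i + j + 1) (j + k + 1) (i + k + 1) (i + j + 1 + k + 1) rfl rfl rfl rfl
            (by omega) (by omega), map_add]

/-- **Package G3.** The Lie ring structure on `⨁ n, Λ n` (a `def`, not an instance: use
`letI := S.lieRing`). The additive structure is the standard one and the bracket is `S.brkHom`. -/
@[reducible] noncomputable def GrLie.lieRing : LieRing (⨁ n, Λ n) :=
  { (inferInstance : AddCommGroup (⨁ n, Λ n)) with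
    bracket := fun x y => S.brkHom x y
    add_lie := fun x y z => by simp
    lie_add := fun x y z => by simp
    lie_self := S.brkHom_self
    leibniz_lie := S.brkHom_leibniz }

theorem GrLie.lie_of_of (i j n : ℕ) (h : i + j + 1 = n) (a : Λ i) (b : Λ j) :
    letI := S.lieRing
    ⁅DirectSum.of Λ i a, DirectSum.of Λ j b⁆ = DirectSum.of Λ n (S.B i j n h a b) :=
  S.brkHom_of_of i j n h a b

end Cfsg.Agent.Lib.Helper7.Hkk
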