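import Mathlib
import Cfsg.Agent.Lib.Helper7.HkkDefs
import Cfsg.Agent.Lib.Helper7.HkkGC
import Cfsg.Agent.Lib.Helper7.HkkGlue
import Cfsg.Agent.Lib.Helper9.HkkP8
import Cfsg.Agent.Lib.Helper2.AlpDefs
import Cfsg.Agent.Lib.Helper7.AlpF1

set_option autoImplicit false

/-! S3782 swarm (Alperin), package GA: deep lower central factors of a finite `p`-group with an
automorphism of order `p` with at most `p^m` fixed points have exponent dividing `p^(m+ξ+2)`;
in `_of` form (the Lie-ring theorem (L3) is a hypothesis). -/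

namespace Cfsg.Agent.Lib.Helper7.AlpGA

open Cfsg.Agent.Lib.Helper7.Hkk Cfsg.Agent.Lib.Helper2.Alp
open DirectSum
open scoped commutatorElement

universe u

/-- the statement of (L3) `lie_almost_regular` -/
def L3Statement : Prop :=
  ∀ {p : ℕ} [Fact p.Prime] {L : Type u} [LieRing L] (φ : L →+ L)
    (_ : ∀ x y, φ ⁅x, y⁆ = ⁅φ x, φ y⁆) (_ : ∀ x, φ^[p] x = x)
    (e : ℕ) (_ : ∀ x, φ x = x → e • x = 0),
    ∀ x ∈ lcs (⊤ : AddSubgroup L) (xi p), (e * p ^ (xi p + 2)) • x = 0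

section sec

variable {P : Type*} [Group P] [Finite P]

/-- the subgroup of the `x ∈ X` with `x⁻¹ α(x) ∈ Y`, for `Y` normal. -/
def fixMod (α : P ≃* P) (X Y : Subgroup P) [hY : Y.Normal] : Subgroup P where
  carrier := {x | x ∈ X ∧ x⁻¹ * α x ∈ Y}
  one_mem' := by
    refine ⟨X.one_mem, ?_⟩
    rw [map_one, inv_one, one_mul]; exact Y.one_mem
  mul_mem' := by
    rintro x y ⟨hx, hx'⟩ ⟨hy, hy'⟩
    refine ⟨X.mul_mem hx hy, ?_⟩
    have e : (x * y)⁻¹ * α (x * y) = (y⁻¹ * (x⁻¹ * α x) * y⁻¹⁻¹) * (y⁻¹ * α y) := by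
      rw [map_mul]; group
    rw [e]
    exact Y.mul_mem (hY.conj_mem _ hx' _) hy'
  inv_mem' := by
    rintro x ⟨hx, hx'⟩
    refine ⟨X.inv_mem hx, ?_⟩
    have e : x⁻¹⁻¹ * α x⁻¹ = x * (x⁻¹ * α x)⁻¹ * x⁻¹ := by
      rw [map_inv]; group
    rw [e]
    exact hY.conj_mem _ (Y.inv_mem hx') _

/-- an element of `X` fixed modulo `Y` has its `p^m`-th power in `Y`. -/
theorem pow_mem_of_fixed_mod {p : ℕ} [Fact p.Prime] (hP : IsPGroup p P) (α : P ≃* P) (m : ℕ)
    (hfix : Nat.card {g : P // α g = g} ≤ p ^ m) (X Y : Subgroup P) [hY : Y.Normal] (hYX : Y ≤ X)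
    (hαY : ∀ y ∈ Y, α y ∈ Y) (g : P) (hgX : g ∈ X) (hg : g⁻¹ * α g ∈ Y) :
    g ^ (p ^ m) ∈ Y := by
  have hp : p.Prime := Fact.out
  have hYF : Y ≤ fixMod α X Y := fun y hy => ⟨hYX hy, Y.mul_mem (Y.inv_mem hy) (hαY y hy)⟩
  have hF : ∀ x ∈ fixMod α X Y, x⁻¹ * α x ∈ Y := fun x hx => hx.2
  have h1 := (Cfsg.Agent.Lib.Helper7.AlpF1.card_fixed_section_le α (fixMod α X Y) Y hYF hF).trans hfix
  -- the index is a power of `p`
  obtain ⟨k, hk⟩ := IsPGroup.iff_card.1 hP
  have h2 : Y.relIndex (fixMod α X Y) ∣ p ^ k := by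
    rw [← hk]
    exact (Subgroup.relIndex_dvd_card _ _).trans (Subgroup.card_subgroup_dvd_card _)
  obtain ⟨j, _, hj⟩ := (Nat.dvd_prime_pow hp).1 h2
  have hjm : j ≤ m := by
    rw [hj] at h1
    exact (Nat.pow_le_pow_iff_right hp.one_lt).1 h1
  have h3 : (⟨g, ⟨hgX, hg⟩⟩ : fixMod α X Y) ^ (Y.subgroupOf (fixMod α X Y)).index ∈
      Y.subgroupOf (fixMod α X Y) := Subgroup.pow_index_mem _ _
  rw [Subgroup.mem_subgroupOf] at h3
  have h4 : g ^ (p ^ j) ∈ Y := by
    have : Y.relIndex (fixMod α X Y) = (Y.subgroupOf (fixMod α X Y)).index := rfl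
    rw [← hj, this]
    simpa using h3
  obtain ⟨c, rfl⟩ := Nat.exists_eq_add_of_le hjm
  rw [pow_add, pow_mul]
  exact Y.pow_mem h4 _

end sec

section main

variable {P : Type u} [Group P] [Finite P]

theorem lcs_top_succ_le {L : Type*} [LieRing L] (j : ℕ) :
    lcs (⊤ : AddSubgroup L) (j + 1) ≤ lcs (⊤ : AddSubgroup L) j := by
  induction j with
  | zero => exact le_top
  | succ j ih => exact Glue.brk_mono ih le_rfl

theorem lcs_top_anti {L : Type*} [LieRing L] {i j : ℕ} (h : i ≤ j) :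
    lcs (⊤ : AddSubgroup L) j ≤ lcs (⊤ : AddSubgroup L) i := by
  induction h with
  | refl => exact le_rfl
  | step _ ih => exact (lcs_top_succ_le _).trans ih

/-- a fixed element of a layer is killed by `p^m`. -/
theorem layMap_fixed_nsmul {p : ℕ} [Fact p.Prime] (hP : IsPGroup p P) (α : P ≃* P) (m : ℕ)
    (hfix : Nat.card {g : P // α g = g} ≤ p ^ m) (n : ℕ) (a : Lay P n)
    (ha : AL.layMap α n a = a) : (p ^ m) • a = 0 := by
  obtain ⟨g, rfl⟩ := lay_surjective P n a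
  rw [AL.layMap_lay, eq_comm, lay_eq_iff] at ha
  rw [← AL.lay_pow, lay_eq_zero_iff]
  have h1 : (g : P) ^ (p ^ m) ∈ Gam P (n + 1) :=
    pow_mem_of_fixed_mod hP α m hfix (Gam P n) (Gam P (n + 1))
      ((⊤ : Subgroup P).lowerCentralSeries_antitone (Nat.le_succ n))
      (fun y hy => AL.map_mem_Gam α (n + 1) hy) (g : P) g.2 ha
  simpa using h1

/-- (GA) in `_of` form. -/
theorem pow_mem_lcs_succ_of (h3 : L3Statement.{u}) {p : ℕ} [Fact p.Prime]
    (hP : IsPGroup p P) (α : P ≃* P) (hαp : α ^ p = 1) (m : ℕ)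
    (hfix : Nat.card {g : P // α g = g} ≤ p ^ m) (n : ℕ) (hn : xi p ≤ n) (g : P)
    (hg : g ∈ (⊤ : Subgroup P).lowerCentralSeries n) :
    g ^ (p ^ (m + xi p + 2)) ∈ (⊤ : Subgroup P).lowerCentralSeries (n + 1) := by
  have hL := @h3 p _ (⨁ k, Lay P k) (grLie P).lieRing (AL.bigMap α)
    (fun x y => AL.bigMap_brk α x y)
    (fun x => by rw [AL.bigMap_iterate, hαp, AL.bigMap_one])
    (p ^ m)
    (by
      intro x hx
      apply DFinsupp.ext
      intro k
      have h1 : (AL.bigMap α x) k = x k := by rw [hx]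
      rw [AL.bigMap_apply] at h1
      have h2 := layMap_fixed_nsmul hP α m hfix k (x k) h1
      have h3 : ((p ^ m) • x) k = (p ^ m) • x k :=
        map_nsmul (DFinsupp.evalAddMonoidHom k) (p ^ m) x
      rw [h3, h2]
      rfl)
  have h1 := AL.of_mem_lcs (G := P) n (lay P n ⟨g, hg⟩)
  have h2 := hL _ (@lcs_top_anti (⨁ k, Lay P k) (grLie P).lieRing _ _ hn _ h1)
  rw [← map_nsmul] at h2
  have h4 : (p ^ m * p ^ (xi p + 2)) • lay P n ⟨g, hg⟩ = 0 := by
    apply DirectSum.of_injective (β := Lay P) n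
    rw [h2, map_zero]
  rw [← AL.lay_pow, lay_eq_zero_iff] at h4
  have h5 : p ^ m * p ^ (xi p + 2) = p ^ (m + xi p + 2) := by
    rw [← pow_add]; congr 1
  rw [h5] at h4
  simpa using h4

/-- (GA') in `_of` form: the same for an `α`-invariant subgroup. -/
theorem pow_mem_lcs_succ_sub_of (h3 : L3Statement.{u}) {p : ℕ} [Fact p.Prime]
    (hP : IsPGroup p P) (α : P ≃* P) (hαp : α ^ p = 1) (m : ℕ)
    (hfix : Nat.card {g : P // α g = g} ≤ p ^ m) (H : Subgroup P)
    (hH : H.map (α : P →* P) = H) (n : ℕ) (hn : xi p ≤ n) (g : P)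
    (hg : g ∈ H.lowerCentralSeries n) :
    g ^ (p ^ (m + xi p + 2)) ∈ H.lowerCentralSeries (n + 1) := by
  have hmem : ∀ h : P, h ∈ H ↔ α h ∈ H := by
    intro h
    constructor
    · intro hh
      rw [← hH]; exact Subgroup.mem_map_of_mem _ hh
    · intro hh
      rw [← hH] at hh
      obtain ⟨h', hh', e⟩ := hh
      have : h' = h := α.injective e
      rwa [← this]
  -- the restriction of `α` to `H`
  let β : H ≃* H :=
    { toFun := fun h => ⟨α h, (hmem h).1 h.2⟩
      invFun := fun h => ⟨α.symm h, (hmem _).2 (by simp)⟩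
      left_inv := fun h => by ext; simp
      right_inv := fun h => by ext; simp
      map_mul' := fun a b => by ext; simp }
  have hβ : ∀ h : H, ((β h : H) : P) = α h := fun h => rfl
  have hβpow : ∀ (k : ℕ) (h : H), (((β ^ k) h : H) : P) = (α ^ k) h := by
    intro k
    induction k with
    | zero => intro h; simp
    | succ k ih => intro h; rw [pow_succ, pow_succ, MulAut.mul_apply, MulAut.mul_apply, ih, hβ]
  have hβp : β ^ p = 1 := by
    ext h
    rw [hβpow, hαp]; simp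
  have hfixβ : Nat.card {h : H // β h = h} ≤ p ^ m := by
    refine le_trans ?_ hfix
    apply Nat.card_le_card_of_injective
      (fun x : {h : H // β h = h} => (⟨(x.1 : P), by
        have := congrArg (fun z : H => (z : P)) x.2
        simpa [hβ] using this⟩ : {g : P // α g = g}))
    intro x y hxy
    apply Subtype.ext
    apply Subtype.ext
    exact congrArg (fun z : {g : P // α g = g} => (z : P)) hxy
  have hPH : IsPGroup p H := hP.to_subgroup H
  rw [← Subgroup.top_subtype_lowerCentralSeries] at hg ⊢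
  obtain ⟨g', hg', rfl⟩ := hg
  have := pow_mem_lcs_succ_of h3 hPH β hβp m hfixβ n hn g' hg'
  exact ⟨_, this, by simp⟩

end main

end Cfsg.Agent.Lib.Helper7.AlpGA
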