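import Mathlib
import Cfsg.Agent.Lib.Helper7.AlpGA
import Cfsg.Agent.Lib.Helper2.AlpL3

set_option autoImplicit false

/-! S3782 swarm (Alperin), package GA, exact form: `AlpGA` (the `_of` form) fed with the landed
Lie-ring theorem (L3) `Helper2.Alp.lie_almost_regular`. -/

namespace Cfsg.Agent.Lib.Helper7.AlpGA

open Cfsg.Agent.Lib.Helper7.Hkk Cfsg.Agent.Lib.Helper2.Alp

universe u

theorem l3Statement : L3Statement.{u} := by
  intro p _ L _ φ hφlie hφp e hfix
  exact lie_almost_regular φ hφlie hφp e hfix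

/-- (GA) **group form of the Lie theorem**: deep lower central factors have bounded exponent. -/
theorem pow_mem_lcs_succ {P : Type u} [Group P] [Finite P] {p : ℕ} [Fact p.Prime]
    (hP : IsPGroup p P) (α : P ≃* P) (hαp : α ^ p = 1) (m : ℕ)
    (hfix : Nat.card {g : P // α g = g} ≤ p ^ m) (n : ℕ) (hn : xi p ≤ n) (g : P)
    (hg : g ∈ (⊤ : Subgroup P).lowerCentralSeries n) :
    g ^ (p ^ (m + xi p + 2)) ∈ (⊤ : Subgroup P).lowerCentralSeries (n + 1) :=
  pow_mem_lcs_succ_of l3Statement hP α hαp m hfix n hn g hg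

/-- (GA') the same for an `α`-invariant subgroup. -/
theorem pow_mem_lcs_succ_sub {P : Type u} [Group P] [Finite P] {p : ℕ} [Fact p.Prime]
    (hP : IsPGroup p P) (α : P ≃* P) (hαp : α ^ p = 1) (m : ℕ)
    (hfix : Nat.card {g : P // α g = g} ≤ p ^ m) (H : Subgroup P)
    (hH : H.map (α : P →* P) = H) (n : ℕ) (hn : xi p ≤ n) (g : P)
    (hg : g ∈ H.lowerCentralSeries n) :
    g ^ (p ^ (m + xi p + 2)) ∈ H.lowerCentralSeries (n + 1) :=
  pow_mem_lcs_succ_sub_of l3Statement hP α hαp m hfix H hH n hn g hg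

end Cfsg.Agent.Lib.Helper7.AlpGA
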