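import Mathlib
import Cfsg.Agent.Lib.Helper5.FlvDefs
import Cfsg.Agent.Lib.Lead.CoprimeAction2
import Cfsg.Agent.Lib.Helper5.FlvF

set_option autoImplicit false

namespace Cfsg.Agent.Lib.Helper7.FlvC4

open scoped Pointwise commutatorElement
open Cfsg.Agent.Lib.Helper5.FlvDefs

universe u

section nucalc
variable {G : Type u} [Group G]

/-- `ν_h(μ) = [μ,h] = μ⁻¹ μ^h` -/
def nu (h μ : G) : G := μ⁻¹ * (h⁻¹ * μ * h)

/-- `[a,b] = a⁻¹ b⁻¹ a b` -/
def cm (a b : G) : G := a⁻¹ * b⁻¹ * a * b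

/-- `τ_y(a) = a⁻¹ a^y` -/
def tau (y a : G) : G := a⁻¹ * (y⁻¹ * a * y)

/-- abstract setting: `V ≤ M ≤ H`, `V` central in `H`, `M` abelian normal in `H`, `[M,H] ≤ V` -/
structure NuCtx (H M V : Subgroup G) : Prop where
  VM : V ≤ M
  MH : M ≤ H
  cen : ∀ v ∈ V, ∀ h ∈ H, v * h = h * v
  comm : ∀ a ∈ M, ∀ b ∈ M, a * b = b * a
  nrm : ∀ h ∈ H, ∀ μ ∈ M, h⁻¹ * μ * h ∈ M
  nuV : ∀ h ∈ H, ∀ μ ∈ M, nu h μ ∈ V

variable {H M V : Subgroup G}

theorem conj_of_comm {a c : G} (h : a * c = c * a) : c⁻¹ * a * c = a := by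
  rw [mul_assoc, h, ← mul_assoc, inv_mul_cancel, one_mul]

theorem NuCtx.conj_fix (c : NuCtx H M V) {v h : G} (hv : v ∈ V) (hh : h ∈ H) :
    h⁻¹ * v * h = v := conj_of_comm (c.cen v hv h hh)

theorem NuCtx.commV (c : NuCtx H M V) {v w : G} (hv : v ∈ V) (hw : w ∈ V) : v * w = w * v :=
  c.cen v hv w (c.MH (c.VM hw))

theorem NuCtx.nu_mul_right (c : NuCtx H M V) {h μ₁ μ₂ : G} (hh : h ∈ H) (h1 : μ₁ ∈ M)
    (h2 : μ₂ ∈ M) : nu h (μ₁ * μ₂) = nu h μ₁ * nu h μ₂ := by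
  have e : nu h (μ₁ * μ₂) = μ₂⁻¹ * nu h μ₁ * μ₂ * nu h μ₂ := by simp only [nu]; group
  rw [e, c.conj_fix (c.nuV h hh μ₁ h1) (c.MH h2)]

theorem nu_one_right (h : G) : nu h 1 = 1 := by simp [nu]

theorem nu_one_left (μ : G) : nu 1 μ = 1 := by simp [nu]

theorem NuCtx.nu_inv_right (c : NuCtx H M V) {h μ : G} (hh : h ∈ H) (h1 : μ ∈ M) :
    nu h μ⁻¹ = (nu h μ)⁻¹ := by
  have := c.nu_mul_right hh h1 (M.inv_mem h1)
  rw [mul_inv_cancel, nu_one_right] at this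
  exact (inv_eq_of_mul_eq_one_right this.symm).symm

theorem NuCtx.nu_of_V (c : NuCtx H M V) {h v : G} (hh : h ∈ H) (hv : v ∈ V) : nu h v = 1 := by
  unfold nu
  rw [c.conj_fix hv hh, inv_mul_cancel]

theorem NuCtx.nu_mul_left (c : NuCtx H M V) {h₁ h₂ μ : G} (hh1 : h₁ ∈ H) (hh2 : h₂ ∈ H)
    (hμ : μ ∈ M) : nu (h₁ * h₂) μ = nu h₁ μ * nu h₂ μ := by
  have e : nu (h₁ * h₂) μ = nu h₂ μ * (h₂⁻¹ * nu h₁ μ * h₂) := by simp only [nu]; group
  rw [e, c.conj_fix (c.nuV h₁ hh1 μ hμ) hh2, c.commV (c.nuV h₂ hh2 μ hμ) (c.nuV h₁ hh1 μ hμ)]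

theorem NuCtx.nu_inv_left (c : NuCtx H M V) {h μ : G} (hh : h ∈ H) (hμ : μ ∈ M) :
    nu h⁻¹ μ = (nu h μ)⁻¹ := by
  have := c.nu_mul_left hh (H.inv_mem hh) hμ
  rw [mul_inv_cancel, nu_one_left] at this
  exact (inv_eq_of_mul_eq_one_right this.symm).symm

theorem nu_eq_one_iff (h μ : G) : nu h μ = 1 ↔ μ * h = h * μ := by
  unfold nu
  constructor
  · intro e
    have : h⁻¹ * μ * h = μ := by
      have := congrArg (fun t => μ * t) e
      simpa using this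
    calc μ * h = h * (h⁻¹ * μ * h) := by group
      _ = h * μ := by rw [this]
  · intro e
    rw [conj_of_comm e, inv_mul_cancel]

theorem NuCtx.nu_cm (c : NuCtx H M V) {b b' μ : G} (hb : b ∈ H) (hb' : b' ∈ H) (hμ : μ ∈ M) :
    nu (cm b b') μ = 1 := by
  unfold cm
  rw [c.nu_mul_left (H.mul_mem (H.mul_mem (H.inv_mem hb) (H.inv_mem hb')) hb) hb' hμ,
    c.nu_mul_left (H.mul_mem (H.inv_mem hb) (H.inv_mem hb')) hb hμ,
    c.nu_mul_left (H.inv_mem hb) (H.inv_mem hb') hμ, c.nu_inv_left hb hμ, c.nu_inv_left hb' hμ]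
  have h1 := c.commV (c.nuV b hb μ hμ) (c.nuV b' hb' μ hμ)
  calc (nu b μ)⁻¹ * (nu b' μ)⁻¹ * nu b μ * nu b' μ
      = (nu b' μ * nu b μ)⁻¹ * (nu b μ * nu b' μ) := by group
    _ = 1 := by rw [← h1, inv_mul_cancel]

theorem NuCtx.cm_comm (c : NuCtx H M V) {b b' μ : G} (hb : b ∈ H) (hb' : b' ∈ H) (hμ : μ ∈ M) :
    μ * cm b b' = cm b b' * μ := (nu_eq_one_iff _ _).mp (c.nu_cm hb hb' hμ)

/-- (L4) the commutator formula -/
theorem NuCtx.cm_mul (c : NuCtx H M V) {b b' δ δ' : G} (hb : b ∈ H) (hb' : b' ∈ H)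
    (hδ : δ ∈ M) (hδ' : δ' ∈ M) :
    cm (b * δ) (b' * δ') = cm b b' * ((nu b δ')⁻¹ * nu b' δ) := by
  have e : cm (b * δ) (b' * δ') =
      δ⁻¹ * ((nu b δ')⁻¹ * (δ'⁻¹ * cm b b' * δ')) * δ * (cm δ δ' * (δ'⁻¹ * nu b' δ * δ')) := by
    simp only [cm, nu]; group
  have h1 : cm δ δ' = 1 := by
    unfold cm
    calc δ⁻¹ * δ'⁻¹ * δ * δ' = (δ' * δ)⁻¹ * (δ * δ') := by group
      _ = 1 := by rw [c.comm δ' hδ' δ hδ, inv_mul_cancel]
  have h2 : δ'⁻¹ * cm b b' * δ' = cm b b' := conj_of_comm (c.cm_comm hb hb' hδ').symm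
  have h3 : δ'⁻¹ * nu b' δ * δ' = nu b' δ := c.conj_fix (c.nuV b' hb' δ hδ) (c.MH hδ')
  have hv : (nu b δ')⁻¹ ∈ V := V.inv_mem (c.nuV b hb δ' hδ')
  have h4 : δ⁻¹ * ((nu b δ')⁻¹ * cm b b') * δ = (nu b δ')⁻¹ * cm b b' := by
    apply conj_of_comm
    calc (nu b δ')⁻¹ * cm b b' * δ = (nu b δ')⁻¹ * (cm b b' * δ) := by group
      _ = (nu b δ')⁻¹ * (δ * cm b b') := by rw [c.cm_comm hb hb' hδ]
      _ = ((nu b δ')⁻¹ * δ) * cm b b' := by group
      _ = (δ * (nu b δ')⁻¹) * cm b b' := by rw [c.cen _ hv δ (c.MH hδ)]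
      _ = δ * ((nu b δ')⁻¹ * cm b b') := by group
  have hcmH : cm b b' ∈ H := by
    unfold cm
    exact H.mul_mem (H.mul_mem (H.mul_mem (H.inv_mem hb) (H.inv_mem hb')) hb) hb'
  rw [e, h1, h2, h3, h4, one_mul, c.cen _ hv _ hcmH]
  group


/-- (ν7) `ν_{h^u}(μ) = ν_h(μ^{u⁻¹})` when `u` centralizes `V` and normalizes `M` -/
theorem NuCtx.nu_conj (c : NuCtx H M V) {h u μ : G} (hh : h ∈ H)
    (huV : ∀ v ∈ V, v * u = u * v) (hμ' : u * μ * u⁻¹ ∈ M) :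
    nu (u⁻¹ * h * u) μ = nu h (u * μ * u⁻¹) := by
  have e : nu (u⁻¹ * h * u) μ = u⁻¹ * nu h (u * μ * u⁻¹) * u := by simp only [nu]; group
  rw [e, conj_of_comm (huV _ (c.nuV h hh _ hμ'))]

/-- `ν_{[h,u]}(μ) = ν_h(μ⁻¹ μ^{u⁻¹})` -/
theorem NuCtx.nu_bracket (c : NuCtx H M V) {h u μ : G} (hh : h ∈ H) (hμ : μ ∈ M)
    (huV : ∀ v ∈ V, v * u = u * v) (hμ' : u * μ * u⁻¹ ∈ M) (hh' : u⁻¹ * h * u ∈ H) :
    nu (h⁻¹ * (u⁻¹ * h * u)) μ = nu h (μ⁻¹ * (u * μ * u⁻¹)) := by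
  rw [c.nu_mul_left (H.inv_mem hh) hh' hμ, c.nu_inv_left hh hμ, c.nu_conj hh huV hμ',
    c.nu_mul_right hh (M.inv_mem hμ) hμ', c.nu_inv_right hh hμ]

end nucalc

section finite
variable {A : Type u} [Group A] [Finite A]

theorem exists_iter2 (T : A →* A) (h : T.ker ⊓ T.range = ⊥) (a : A) : ∃ c : A, T a = T (T c) := by
  let f : T.range → T.range := fun x => ⟨T x.1, ⟨x.1, rfl⟩⟩
  have hinj : Function.Injective f := by
    rintro ⟨x, hx⟩ ⟨x', hx'⟩ hxx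
    have h1 : T x = T x' := congrArg Subtype.val hxx
    have h2 : x * x'⁻¹ ∈ T.ker ⊓ T.range := by
      refine Subgroup.mem_inf.mpr ⟨?_, T.range.mul_mem hx (T.range.inv_mem hx')⟩
      rw [MonoidHom.mem_ker, map_mul, map_inv, h1, mul_inv_cancel]
    rw [h, Subgroup.mem_bot] at h2
    have : x = x' := by
      have := congrArg (fun t => t * x') h2
      simpa using this
    exact Subtype.ext this
  have hsurj : Function.Surjective f := Finite.injective_iff_surjective.mp hinj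
  obtain ⟨⟨x, ⟨c, hc⟩⟩, hx⟩ := hsurj ⟨T a, ⟨a, rfl⟩⟩
  refine ⟨c, ?_⟩
  have h1 : T x = T a := congrArg Subtype.val hx
  rw [← h1, ← hc]

theorem exists_iter3 (T : A →* A) (h : T.ker ⊓ T.range = ⊥) (a : A) :
    ∃ c : A, T a = T (T (T c)) := by
  obtain ⟨c₁, h1⟩ := exists_iter2 T h a
  obtain ⟨c₂, h2⟩ := exists_iter2 T h c₁
  exact ⟨c₂, by rw [h1, h2]⟩

end finite

section darg
variable {G : Type u} [Group G]

theorem le_normalizer_of_conj {P K : Subgroup G} (h : ∀ u ∈ P, ∀ d ∈ K, u * d * u⁻¹ ∈ K) :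
    P ≤ Subgroup.normalizer (K : Set G) := by
  intro u hu
  rw [Subgroup.mem_normalizer_iff]
  intro d
  constructor
  · exact h u hu d
  · intro hd
    have := h u⁻¹ (P.inv_mem hu) _ hd
    simpa [mul_assoc] using this

variable [Finite G]

/-- the `D`-argument: an element of `B` lying in `B_m V` lies in `B_m` -/
theorem D_arg {p : ℕ} (hp : p.Prime) {P H B Bm V : Subgroup G}
    (hP : Nat.card P = p) (hcop : (Nat.card H).Coprime p)
    (hBH : B ≤ H) (hPB : P ≤ Subgroup.normalizer (B : Set G))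
    (hPBm : P ≤ Subgroup.normalizer (Bm : Set G))
    (hVH : ∀ v ∈ V, ∀ h ∈ H, v * h = h * v) (hVP : ∀ v ∈ V, ∀ u ∈ P, v * u = u * v)
    (hK : ∀ d ∈ B, ∀ v ∈ V, d ∈ Subgroup.centralizer (P : Set G) → d * v ∈ Bm → v = 1)
    {c w : G} (hc : c ∈ B) (hw : w ∈ V) (hcw : c * w ∈ Bm) : c ∈ Bm := by
  let D : Subgroup G :=
    { carrier := {d | d ∈ B ∧ ∃ v ∈ V, d * v ∈ Bm}
      one_mem' := ⟨B.one_mem, 1, V.one_mem, by simp [Bm.one_mem]⟩
      mul_mem' := by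
        rintro d₁ d₂ ⟨h1, v₁, hv1, hd1⟩ ⟨h2, v₂, hv2, hd2⟩
        refine ⟨B.mul_mem h1 h2, v₁ * v₂, V.mul_mem hv1 hv2, ?_⟩
        have : d₁ * d₂ * (v₁ * v₂) = (d₁ * v₁) * (d₂ * v₂) := by
          calc d₁ * d₂ * (v₁ * v₂) = d₁ * (d₂ * v₁) * v₂ := by group
            _ = d₁ * (v₁ * d₂) * v₂ := by rw [hVH v₁ hv1 d₂ (hBH h2)]
            _ = _ := by group
        rw [this]; exact Bm.mul_mem hd1 hd2
      inv_mem' := by
        rintro d ⟨h1, v, hv, hd⟩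
        refine ⟨B.inv_mem h1, v⁻¹, V.inv_mem hv, ?_⟩
        have : d⁻¹ * v⁻¹ = (d * v)⁻¹ := by
          rw [mul_inv_rev, hVH v⁻¹ (V.inv_mem hv) d⁻¹ (H.inv_mem (hBH h1))]
        rw [this]; exact Bm.inv_mem hd }
  have hDB : D ≤ B := fun d hd => hd.1
  have hPD : P ≤ Subgroup.normalizer (D : Set G) := by
    apply le_normalizer_of_conj
    rintro u hu d ⟨h1, v, hv, hdv⟩
    refine ⟨(Subgroup.mem_normalizer_iff.mp (hPB hu) d).mp h1, v, hv, ?_⟩
    have : u * d * u⁻¹ * v = u * (d * v) * u⁻¹ := by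
      calc u * d * u⁻¹ * v = u * d * (u⁻¹ * v) := by group
        _ = u * d * (v * u⁻¹) := by rw [hVP v hv u⁻¹ (P.inv_mem hu)]
        _ = _ := by group
    rw [this]
    exact (Subgroup.mem_normalizer_iff.mp (hPBm hu) _).mp hdv
  have hcopD : (Nat.card P).Coprime (Nat.card D) := by
    rw [hP]
    exact Nat.Coprime.coprime_dvd_right (Subgroup.card_dvd_of_le (hDB.trans hBH)) hcop.symm
  have hsup := Cfsg.Agent.Lib.Lead.coprime_commutator_sup_centralizer P D hPD hcopD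
    (Or.inl (Cfsg.Agent.Lib.Helper5.FlvF.isSolvable_of_card_prime hp hP))
  have hDBm : D ≤ Bm := by
    rw [← hsup]
    apply sup_le
    · rw [Subgroup.commutator_le]
      rintro d ⟨h1, v, hv, hdv⟩ u hu
      have e : ⁅d, u⁆ = (d * v) * (u * (d * v)⁻¹ * u⁻¹) := by
        rw [commutatorElement_def]
        calc d * u * d⁻¹ * u⁻¹ = d * (u * v) * v⁻¹ * d⁻¹ * u⁻¹ := by group
          _ = d * (v * u) * v⁻¹ * d⁻¹ * u⁻¹ := by rw [hVP v hv u hu]
          _ = _ := by group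
      rw [e]
      exact Bm.mul_mem hdv ((Subgroup.mem_normalizer_iff.mp (hPBm hu) _).mp (Bm.inv_mem hdv))
    · rintro d ⟨⟨h1, v, hv, hdv⟩, hdc⟩
      have hv1 := hK d h1 v hv hdc hdv
      rw [hv1, mul_one] at hdv
      exact hdv
  exact hDBm ⟨hc, w, hw, hcw⟩

end darg

section taucalc
variable {G : Type u} [Group G] {H M V : Subgroup G}

theorem tau_one (y : G) : tau y 1 = 1 := by simp [tau]

theorem tau_conj (y a : G) : tau y (y * a * y⁻¹) = y * tau y a * y⁻¹ := by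
  simp only [tau]; group

theorem tau_conj' (y a : G) : tau y (y⁻¹ * a * y) = y⁻¹ * tau y a * y := by
  simp only [tau]; group

theorem tau_inv_eq (y a : G) : tau y⁻¹ a = (y * tau y a * y⁻¹)⁻¹ := by
  simp only [tau]; group

theorem conj_eq_mul_tau (y a : G) : y⁻¹ * a * y = a * tau y a := by
  simp only [tau]; group

theorem NuCtx.tau_mem (_c : NuCtx H M V) {y a : G} (hyM' : ∀ μ ∈ M, y⁻¹ * μ * y ∈ M)
    (ha : a ∈ M) : tau y a ∈ M := M.mul_mem (M.inv_mem ha) (hyM' a ha)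

theorem NuCtx.tau_mul (c : NuCtx H M V) {y a b : G} (hyM' : ∀ μ ∈ M, y⁻¹ * μ * y ∈ M)
    (ha : a ∈ M) (hb : b ∈ M) : tau y (a * b) = tau y a * tau y b := by
  have e : tau y (a * b) = b⁻¹ * tau y a * (y⁻¹ * b * y) := by simp only [tau]; group
  rw [e, c.comm b⁻¹ (M.inv_mem hb) _ (c.tau_mem hyM' ha), mul_assoc]
  rfl

theorem NuCtx.tau_inv (c : NuCtx H M V) {y a : G} (hyM' : ∀ μ ∈ M, y⁻¹ * μ * y ∈ M)
    (ha : a ∈ M) : tau y a⁻¹ = (tau y a)⁻¹ := by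
  have := c.tau_mul hyM' ha (M.inv_mem ha)
  rw [mul_inv_cancel, tau_one] at this
  exact (inv_eq_of_mul_eq_one_right this.symm).symm

/-- `τ_y` as an endomorphism of `M` -/
def NuCtx.tauHom (c : NuCtx H M V) (y : G) (hyM' : ∀ μ ∈ M, y⁻¹ * μ * y ∈ M) : ↥M →* ↥M :=
  MonoidHom.mk' (fun a => ⟨tau y a.1, c.tau_mem hyM' a.2⟩)
    (by intro a b; apply Subtype.ext; exact c.tau_mul hyM' a.2 b.2)

theorem pow_conj {y a c : G} (h1 : y⁻¹ * a * y = a * c) (h2 : c * y = y * c) (k : ℕ) :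
    (y ^ k)⁻¹ * a * y ^ k = a * c ^ k := by
  induction k with
  | zero => simp
  | succ k ih =>
    have hck : c ^ k * y = y * c ^ k := (Commute.pow_left (show Commute c y from h2) k)
    calc (y ^ (k + 1))⁻¹ * a * y ^ (k + 1) = y⁻¹ * ((y ^ k)⁻¹ * a * y ^ k) * y := by
          rw [pow_succ]; group
      _ = y⁻¹ * (a * c ^ k) * y := by rw [ih]
      _ = (y⁻¹ * a * y) * (y⁻¹ * (c ^ k * y)) := by group
      _ = (a * c) * (y⁻¹ * (y * c ^ k)) := by rw [h1, hck]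
      _ = a * c ^ (k + 1) := by rw [pow_succ']; group

theorem NuCtx.tau_ker_range (c : NuCtx H M V) {p N : ℕ} (hcop : N.Coprime p) {y : G}
    (hyp : y ^ p = 1) (hMN : ∀ a ∈ M, a ^ N = 1) (hyM' : ∀ μ ∈ M, y⁻¹ * μ * y ∈ M) :
    (c.tauHom y hyM').ker ⊓ (c.tauHom y hyM').range = ⊥ := by
  rw [eq_bot_iff]
  rintro ⟨x, hxM⟩ hx
  obtain ⟨hker, ⟨⟨a, haM⟩, hrange⟩⟩ := Subgroup.mem_inf.mp hx
  rw [Subgroup.mem_bot]
  apply Subtype.ext
  show x = 1
  have h1 : tau y x = 1 := congrArg Subtype.val (MonoidHom.mem_ker.mp hker)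
  have h2 : tau y a = x := congrArg Subtype.val hrange
  have h3 : y⁻¹ * a * y = a * x := by rw [conj_eq_mul_tau, h2]
  have h4 : x * y = y * x := by
    have : y⁻¹ * x * y = x := by rw [conj_eq_mul_tau, h1, mul_one]
    calc x * y = y * (y⁻¹ * x * y) := by group
      _ = y * x := by rw [this]
  have h5 := pow_conj h3 h4 p
  rw [hyp] at h5
  have h6 : x ^ p = 1 := by
    have : a * x ^ p = a * 1 := by rw [← h5]; group
    exact mul_left_cancel this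
  have h7 : x ^ (Nat.gcd N p) = 1 := pow_gcd_eq_one.mpr ⟨hMN x hxM, h6⟩
  rw [Nat.Coprime] at hcop
  rw [hcop, pow_one] at h7
  exact h7

/-- the endgame: `ν∘τ² = ν∘τ'²` forces `ν` to be `y`-invariant -/
theorem NuCtx.endgame [Finite G] (c : NuCtx H M V) {p N : ℕ} (hcop : N.Coprime p) (hodd : Odd p)
    {y n : G} (hyp : y ^ p = 1) (hMN : ∀ a ∈ M, a ^ N = 1)
    (hyM : ∀ μ ∈ M, y * μ * y⁻¹ ∈ M) (hyM' : ∀ μ ∈ M, y⁻¹ * μ * y ∈ M) (hn : n ∈ H)
    (hstar : ∀ m ∈ M, nu n (tau y (tau y m)) = nu n (tau y⁻¹ (tau y⁻¹ m))) :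
    ∀ a ∈ M, nu n (y⁻¹ * a * y) = nu n a := by
  -- E1
  have E1 : ∀ m ∈ M, tau y⁻¹ (tau y⁻¹ m) = y * (y * tau y (tau y m) * y⁻¹) * y⁻¹ := by
    intro m hm
    have hTm : tau y m ∈ M := c.tau_mem hyM' hm
    rw [tau_inv_eq y (tau y⁻¹ m), tau_inv_eq y m, c.tau_inv hyM' (hyM _ hTm), tau_conj]
    generalize tau y (tau y m) = t
    simp only [mul_inv_rev, inv_inv, mul_assoc]
  -- the set S = τ²(M)
  have hS1 : ∀ m ∈ M, nu n (y * (y * tau y (tau y m) * y⁻¹) * y⁻¹) = nu n (tau y (tau y m)) := by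
    intro m hm
    rw [← E1 m hm, ← hstar m hm]
  have hpow : ∀ j : ℕ, ∀ m ∈ M,
      nu n (y ^ (2 * j) * tau y (tau y m) * (y ^ (2 * j))⁻¹) = nu n (tau y (tau y m)) := by
    intro j
    induction j with
    | zero => intro m hm; simp
    | succ j ih =>
      intro m hm
      have hm' : y * (y * m * y⁻¹) * y⁻¹ ∈ M := hyM _ (hyM _ hm)
      have e : y ^ (2 * (j + 1)) * tau y (tau y m) * (y ^ (2 * (j + 1)))⁻¹ =
          y ^ (2 * j) * tau y (tau y (y * (y * m * y⁻¹) * y⁻¹)) * (y ^ (2 * j))⁻¹ := by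
        rw [tau_conj, tau_conj, tau_conj, tau_conj]
        have : 2 * (j + 1) = 2 * j + 1 + 1 := by ring
        rw [this, pow_succ, pow_succ]
        group
      rw [e, ih _ hm', tau_conj, tau_conj, tau_conj, tau_conj]
      exact hS1 m hm
  have hS2 : ∀ m ∈ M, nu n (y * tau y (tau y m) * y⁻¹) = nu n (tau y (tau y m)) := by
    intro m hm
    obtain ⟨k, hk⟩ := hodd
    have h := hpow (k + 1) m hm
    have e : y ^ (2 * (k + 1)) = y := by
      have : 2 * (k + 1) = p + 1 := by omega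
      rw [this, pow_succ, hyp, one_mul]
    rw [e] at h
    exact h
  have hS3 : ∀ m ∈ M, nu n (tau y (tau y (tau y m))) = 1 := by
    intro m hm
    have hm' : y⁻¹ * m * y ∈ M := hyM' m hm
    have h := hS2 _ hm'
    rw [tau_conj', tau_conj'] at h
    have e : y * (y⁻¹ * tau y (tau y m) * y) * y⁻¹ = tau y (tau y m) := by group
    rw [e] at h
    have hTT : tau y (tau y m) ∈ M := c.tau_mem hyM' (c.tau_mem hyM' hm)
    have : tau y (tau y (tau y m)) = (tau y (tau y m))⁻¹ * (y⁻¹ * tau y (tau y m) * y) := rfl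
    rw [this, c.nu_mul_right hn (M.inv_mem hTT) (hyM' _ hTT), c.nu_inv_right hn hTT, ← h,
      inv_mul_cancel]
  have hS4 : ∀ a ∈ M, nu n (tau y a) = 1 := by
    intro a ha
    obtain ⟨⟨c₀, hc₀⟩, hc⟩ := exists_iter3 (c.tauHom y hyM')
      (c.tau_ker_range hcop hyp hMN hyM') ⟨a, ha⟩
    have : tau y a = tau y (tau y (tau y c₀)) := congrArg Subtype.val hc
    rw [this]
    exact hS3 c₀ hc₀
  intro a ha
  rw [conj_eq_mul_tau, c.nu_mul_right hn ha (c.tau_mem hyM' ha), hS4 a ha, mul_one]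

end taucalc

section main
variable {G : Type u} [Group G] [Finite G]

omit [Finite G] in
theorem tau_inv_def (y a : G) : tau y⁻¹ a = a⁻¹ * (y * a * y⁻¹) := by simp [tau]

theorem mem_zpowers_of_prime {q : ℕ} (hq : q.Prime) {z v : G} (hzq : orderOf z = q)
    (hv : v ∈ Subgroup.zpowers z) (hv1 : v ≠ 1) : z ∈ Subgroup.zpowers v := by
  have h1 : orderOf v ∣ orderOf z := orderOf_dvd_of_mem_zpowers hv
  rw [hzq] at h1
  have h2 : orderOf v = q := by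
    rcases (Nat.dvd_prime hq).mp h1 with h | h
    · exact absurd (orderOf_eq_one_iff.mp h) hv1
    · exact h
  have hle : Subgroup.zpowers v ≤ Subgroup.zpowers z := Subgroup.zpowers_le.mpr hv
  have hcard : Nat.card (Subgroup.zpowers z) ≤ Nat.card (Subgroup.zpowers v) := by
    rw [Nat.card_zpowers, Nat.card_zpowers, h2, hzq]
  have := Subgroup.eq_of_le_of_card_ge hle hcard
  rw [this]
  exact Subgroup.mem_zpowers z

theorem exists_gen {p : ℕ} (hp : p.Prime) {P : Subgroup G} (hP : Nat.card P = p) :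
    ∃ y ∈ P, ∀ u ∈ P, ∃ k : ℕ, y ^ k = u := by
  have : Fact p.Prime := ⟨hp⟩
  have : IsCyclic P := isCyclic_of_prime_card hP
  obtain ⟨g, hg⟩ := IsCyclic.exists_generator (α := P)
  refine ⟨g.1, g.2, ?_⟩
  intro u hu
  have h1 : (⟨u, hu⟩ : P) ∈ Subgroup.zpowers g := hg _
  have h2 : (⟨u, hu⟩ : P) ∈ Submonoid.powers g := mem_powers_iff_mem_zpowers.mpr h1
  obtain ⟨k, hk⟩ := (Submonoid.mem_powers_iff _ _).mp h2
  refine ⟨k, ?_⟩
  have := congrArg Subtype.val hk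
  simpa using this

open Cfsg.Agent.Lib.Helper5.FlvF in
/-- PKG-C4 = (II-b)(d),(e) of `notes/S3816_proof_helper5.md` (skeleton statement, verbatim) -/
theorem C4 {p : ℕ} {P H : Subgroup G} {q : ℕ} {z n : G} {M : Subgroup G}
    (h : MinCE p P H) (hz : CData P H z q) (hM : CMData P H z q M)
    (hn : CNData P H z M n) : False := by
  classical
  have hp := h.ctx.hp
  have hP := h.ctx.cardP
  have hcop := h.ctx.cop
  have hPH := h.ctx.norm
  have hodd : Odd p := hp.odd_of_ne_two h.ctx.hp2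
  set V : Subgroup G := Subgroup.zpowers z with hV
  have hVcH : V ≤ Subgroup.centralizer (H : Set G) := Subgroup.zpowers_le.mpr hz.zcentH
  have hVcP : V ≤ Subgroup.centralizer (P : Set G) := Subgroup.zpowers_le.mpr hz.zP
  have hVM : V ≤ M := Subgroup.zpowers_le.mpr hM.zM
  have hVH : ∀ v ∈ V, ∀ g ∈ H, v * g = g * v := fun v hv g hg =>
    ((Subgroup.mem_centralizer_iff.mp (hVcH hv)) g hg).symm
  have hVP : ∀ v ∈ V, ∀ u ∈ P, v * u = u * v := fun v hv u hu =>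
    ((Subgroup.mem_centralizer_iff.mp (hVcP hv)) u hu).symm
  have hc : NuCtx H M V :=
    { VM := hVM
      MH := hM.MH
      cen := hVH
      comm := hM.comm
      nrm := by
        intro g hg μ hμ
        have := (Subgroup.mem_normalizer_iff.mp (hM.nM.1 (H.inv_mem hg)) μ).mp hμ
        simpa using this
      nuV := by
        intro g hg μ hμ
        apply hn.comm_le
        have : nu g μ = ⁅μ⁻¹, g⁻¹⁆ := by simp [nu, commutatorElement_def, mul_assoc]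
        rw [this]
        exact Subgroup.commutator_mem_commutator (M.inv_mem hμ) (H.inv_mem hg) }
  obtain ⟨y, hyP, hPy⟩ := exists_gen hp hP
  have hyp : y ^ p = 1 := pow_card_eq_one_of_mem hP hyP
  have hPM : ∀ u ∈ P, ∀ μ ∈ M, u * μ * u⁻¹ ∈ M := fun u hu μ hμ =>
    (Subgroup.mem_normalizer_iff.mp (hM.nM.2 hu) μ).mp hμ
  have hPM' : ∀ u ∈ P, ∀ μ ∈ M, u⁻¹ * μ * u ∈ M := by
    intro u hu μ hμ
    have := hPM u⁻¹ (P.inv_mem hu) μ hμ
    simpa using this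
  have hPHc : ∀ u ∈ P, ∀ g ∈ H, u⁻¹ * g * u ∈ H := by
    intro u hu g hg
    have := (Subgroup.mem_normalizer_iff.mp (hPH (P.inv_mem hu)) g).mp hg
    simpa using this
  have hyM := hPM y hyP
  have hyM' := hPM' y hyP
  have hMN : ∀ a ∈ M, a ^ Nat.card H = 1 := by
    intro a ha
    have : (⟨a, hM.MH ha⟩ : H) ^ Nat.card H = 1 := pow_card_eq_one'
    exact congrArg Subtype.val this
  have hnH := hn.nH
  -- `ν_{[n,y]} = ν ∘ τ_{y⁻¹}`, `ν_{[n,y⁻¹]} = ν ∘ τ_y`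
  have hnub : ∀ μ ∈ M, nu (n⁻¹ * (y⁻¹ * n * y)) μ = nu n (tau y⁻¹ μ) := by
    intro μ hμ
    rw [tau_inv_def]
    exact hc.nu_bracket hnH hμ (fun v hv => hVP v hv y hyP) (hyM μ hμ) (hPHc y hyP n hnH)
  have hnub' : ∀ μ ∈ M, nu (n⁻¹ * (y * n * y⁻¹)) μ = nu n (tau y μ) := by
    intro μ hμ
    have := hc.nu_bracket (u := y⁻¹) hnH hμ (fun v hv => hVP v hv y⁻¹ (P.inv_mem hyP))
      (by simpa using hyM' μ hμ) (by simpa using hPHc y⁻¹ (P.inv_mem hyP) n hnH)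
    simpa [tau] using this
  have hstar : ∀ m ∈ M, nu n (tau y (tau y m)) = nu n (tau y⁻¹ (tau y⁻¹ m)) := by
    intro m hm
    have hnm : n * m ∈ H := H.mul_mem hnH (hM.MH hm)
    set b : G := n⁻¹ * (y⁻¹ * n * y) with hb
    set b' : G := n⁻¹ * (y * n * y⁻¹) with hb'
    set x : G := (n * m)⁻¹ * (y⁻¹ * (n * m) * y) with hx
    set x' : G := (n * m)⁻¹ * (y * (n * m) * y⁻¹) with hx'
    set δ : G := (nu b m)⁻¹ * tau y m with hδ
    set δ' : G := (nu b' m)⁻¹ * tau y⁻¹ m with hδ'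
    have hbB : b ∈ cmE P n := gen_mem_cmE P n hyP
    have hb'B : b' ∈ cmE P n := by
      have := gen_mem_cmE P n (P.inv_mem hyP)
      simp only [inv_inv] at this
      exact this
    have hxB : x ∈ cmE P (n * m) := gen_mem_cmE P (n * m) hyP
    have hx'B : x' ∈ cmE P (n * m) := by
      have := gen_mem_cmE P (n * m) (P.inv_mem hyP)
      simp only [inv_inv] at this
      exact this
    have hBH : cmE P n ≤ H := cmE_le hPH hnH
    have hbH : b ∈ H := hBH hbB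
    have hb'H : b' ∈ H := hBH hb'B
    have hτM : tau y m ∈ M := hc.tau_mem hyM' hm
    have hτ'M : tau y⁻¹ m ∈ M := by
      rw [tau_inv_def]; exact M.mul_mem (M.inv_mem hm) (hyM m hm)
    have hν1 : (nu b m)⁻¹ ∈ V := V.inv_mem (hc.nuV b hbH m hm)
    have hν2 : (nu b' m)⁻¹ ∈ V := V.inv_mem (hc.nuV b' hb'H m hm)
    have hδM : δ ∈ M := M.mul_mem (hVM hν1) hτM
    have hδ'M : δ' ∈ M := M.mul_mem (hVM hν2) hτ'M
    have exb : x = b * δ := by
      simp only [hx, hb, hδ, nu, tau]; group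
    have exb' : x' = b' * δ' := by
      simp only [hx', hb', hδ', nu, tau]; group
    have hw : (nu b δ')⁻¹ * nu b' δ ∈ V :=
      V.mul_mem (V.inv_mem (hc.nuV b hbH δ' hδ'M)) (hc.nuV b' hb'H δ hδM)
    have hL4 : cm x x' = cm b b' * ((nu b δ')⁻¹ * nu b' δ) := by
      rw [exb, exb']; exact hc.cm_mul hbH hb'H hδM hδ'M
    have hcB : cm b b' ∈ cmE P n := by
      unfold cm
      exact Subgroup.mul_mem _ (Subgroup.mul_mem _ (Subgroup.mul_mem _ (Subgroup.inv_mem _ hbB)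
        (Subgroup.inv_mem _ hb'B)) hbB) hb'B
    have hξB : cm x x' ∈ cmE P (n * m) := by
      unfold cm
      exact Subgroup.mul_mem _ (Subgroup.mul_mem _ (Subgroup.mul_mem _ (Subgroup.inv_mem _ hxB)
        (Subgroup.inv_mem _ hx'B)) hxB) hx'B
    have hK : ∀ d ∈ cmE P n, ∀ v ∈ V, d ∈ Subgroup.centralizer (P : Set G) →
        d * v ∈ cmE P (n * m) → v = 1 := by
      intro d hd v hv hdc hdv
      by_contra hv1
      have hzv : z ∈ Subgroup.zpowers v := mem_zpowers_of_prime hz.hq hz.zord hv hv1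
      have h1 : d ∈ KK P H := cmE_inf_le_KK hnH (Subgroup.mem_inf.mpr ⟨hd, hdc⟩)
      have h2 : d * v ∈ KK P H := cmE_inf_le_KK hnm
        (Subgroup.mem_inf.mpr ⟨hdv, Subgroup.mul_mem _ hdc (hVcP hv)⟩)
      have h3 : v ∈ KK P H := by
        have : v = d⁻¹ * (d * v) := by group
        rw [this]; exact Subgroup.mul_mem _ (Subgroup.inv_mem _ h1) h2
      exact hz.znotK ((Subgroup.zpowers_le.mpr h3) hzv)
    have hcBm : cm b b' ∈ cmE P (n * m) :=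
      D_arg hp hP hcop hBH (cmE_norm n) (cmE_norm (n * m)) hVH hVP hK hcB hw (hL4 ▸ hξB)
    have hw1 : (nu b δ')⁻¹ * nu b' δ = 1 := by
      have h1 : (nu b δ')⁻¹ * nu b' δ ∈ cmE P (n * m) := by
        have : (nu b δ')⁻¹ * nu b' δ = (cm b b')⁻¹ * cm x x' := by rw [hL4]; group
        rw [this]; exact Subgroup.mul_mem _ (Subgroup.inv_mem _ hcBm) hξB
      have h2 : (nu b δ')⁻¹ * nu b' δ ∈ cmE P (n * m) ⊓ M := Subgroup.mem_inf.mpr ⟨h1, hVM hw⟩
      rw [(hn.compl m hm).1, Subgroup.mem_bot] at h2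
      exact h2
    have hEq : nu b δ' = nu b' δ := inv_mul_eq_one.mp hw1
    have e1 : nu b' δ = nu n (tau y (tau y m)) := by
      rw [hδ, hc.nu_mul_right hb'H (hVM hν1) hτM, hc.nu_of_V hb'H hν1, one_mul]
      exact hnub' _ hτM
    have e2 : nu b δ' = nu n (tau y⁻¹ (tau y⁻¹ m)) := by
      rw [hδ', hc.nu_mul_right hbH (hVM hν2) hτ'M, hc.nu_of_V hbH hν2, one_mul]
      exact hnub _ hτ'M
    rw [← e1, ← e2, hEq]
  have hinv := hc.endgame hcop hodd hyp hMN hyM hyM' hnH hstar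
  -- all of `P` preserves `ν_n`
  have hk : ∀ k : ℕ, ∀ a ∈ M, (y ^ k)⁻¹ * a * y ^ k ∈ M ∧
      nu n ((y ^ k)⁻¹ * a * y ^ k) = nu n a := by
    intro k
    induction k with
    | zero => intro a ha; simpa using ha
    | succ k ih =>
      intro a ha
      have e : (y ^ (k + 1))⁻¹ * a * y ^ (k + 1) = y⁻¹ * ((y ^ k)⁻¹ * a * y ^ k) * y := by
        rw [pow_succ]; group
      rw [e]
      exact ⟨hyM' _ (ih a ha).1, by rw [hinv _ (ih a ha).1, (ih a ha).2]⟩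
  have hBc : cmE P n ≤ Subgroup.centralizer (M : Set G) := by
    apply cmE_le_of
    intro u hu
    rw [Subgroup.mem_centralizer_iff]
    intro μ hμ
    apply (nu_eq_one_iff _ _).mp
    rw [hc.nu_bracket hnH hμ (fun v hv => hVP v hv u hu) (hPM u hu μ hμ) (hPHc u hu n hnH),
      hc.nu_mul_right hnH (M.inv_mem hμ) (hPM u hu μ hμ), hc.nu_inv_right hnH hμ]
    obtain ⟨k, rfl⟩ := hPy u hu
    have := (hk k _ (hPM _ hu μ hμ)).2
    have e : (y ^ k)⁻¹ * (y ^ k * μ * (y ^ k)⁻¹) * y ^ k = μ := by group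
    rw [e] at this
    rw [← this, inv_mul_cancel]
  have hHc : H ≤ Subgroup.centralizer (M : Set G) := by
    have h1 := (hn.compl 1 M.one_mem).2
    rw [mul_one] at h1
    rw [← h1]
    apply sup_le _ hBc
    intro a ha
    rw [Subgroup.mem_centralizer_iff]
    intro μ hμ
    exact hM.comm μ hμ a ha
  exact hn.n_not (hHc hnH)

end main

end Cfsg.Agent.Lib.Helper7.FlvC4
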