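import Mathlib
import Cfsg.Agent.Lib.Helper5.FlvDefs
import Cfsg.Agent.Lib.Helper5.FlvF
import Cfsg.Agent.Lib.Helper5.FlvM
import Cfsg.Agent.Lib.Helper5.FlvR1
import Cfsg.Agent.Lib.Helper4.FlvR2
import Cfsg.Agent.Lib.Lead.Coprime
import Cfsg.Agent.Lib.Lead.CoprimeAction2
import Cfsg.Agent.Lib.Lead.CoprimeAction3
import Cfsg.Agent.Lib.Helper7.FlvC4

set_option autoImplicit false

/-!
# S3816, package C3 = (II-b)(a),(b),(c) of `notes/S3816_proof_helper5.md`
-/

namespace Cfsg.Agent.Lib.Helper7.FlvC3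

open scoped Pointwise commutatorElement
open Cfsg.Agent.Lib.Helper5.FlvDefs Cfsg.Agent.Lib.Helper5.FlvF Cfsg.Agent.Lib.Helper7.FlvC4

universe u

section nst
variable {G : Type u} [Group G]

theorem le_normalizer_sup {X A B : Subgroup G} (hA : X ≤ Subgroup.normalizer (A : Set G))
    (hB : X ≤ Subgroup.normalizer (B : Set G)) :
    X ≤ Subgroup.normalizer ((A ⊔ B : Subgroup G) : Set G) := by
  apply le_normalizer_of_conj
  intro u hu d hd
  have hle : A ⊔ B ≤ (A ⊔ B).comap (MulAut.conj u).toMonoidHom := by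
    apply sup_le
    · intro a ha
      rw [Subgroup.mem_comap]
      exact Subgroup.mem_sup_left ((Subgroup.mem_normalizer_iff.mp (hA hu) a).mp ha)
    · intro b hb
      rw [Subgroup.mem_comap]
      exact Subgroup.mem_sup_right ((Subgroup.mem_normalizer_iff.mp (hB hu) b).mp hb)
  exact hle hd

theorem le_normalizer_inf {X A B : Subgroup G} (hA : X ≤ Subgroup.normalizer (A : Set G))
    (hB : X ≤ Subgroup.normalizer (B : Set G)) :
    X ≤ Subgroup.normalizer ((A ⊓ B : Subgroup G) : Set G) := by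
  intro x hx
  rw [Subgroup.mem_normalizer_iff]
  intro g
  rw [Subgroup.mem_inf, Subgroup.mem_inf, ← Subgroup.mem_normalizer_iff.mp (hA hx) g,
    ← Subgroup.mem_normalizer_iff.mp (hB hx) g]

theorem conj_mem_of_le_normalizer {X A : Subgroup G} (hA : X ≤ Subgroup.normalizer (A : Set G))
    {x a : G} (hx : x ∈ X) (ha : a ∈ A) : x * a * x⁻¹ ∈ A :=
  (Subgroup.mem_normalizer_iff.mp (hA hx) a).mp ha

theorem conj_mem_of_le_normalizer' {X A : Subgroup G} (hA : X ≤ Subgroup.normalizer (A : Set G))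
    {x a : G} (hx : x ∈ X) (ha : a ∈ A) : x⁻¹ * a * x ∈ A := by
  have := conj_mem_of_le_normalizer hA (X.inv_mem hx) ha
  simpa using this

/-- `N* = C_H(M/V)` -/
def Nst (H M V : Subgroup G) (hVH : ∀ v ∈ V, ∀ h ∈ H, v * h = h * v)
    (hMn : ∀ h ∈ H, ∀ μ ∈ M, h⁻¹ * μ * h ∈ M) : Subgroup G where
  carrier := {g | g ∈ H ∧ ∀ m ∈ M, nu g m ∈ V}
  one_mem' := ⟨H.one_mem, fun m _ => by rw [nu_one_left]; exact V.one_mem⟩
  mul_mem' := by
    rintro a b ⟨ha, ha'⟩ ⟨hb, hb'⟩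
    refine ⟨H.mul_mem ha hb, fun m hm => ?_⟩
    have e : nu (a * b) m = nu b m * (b⁻¹ * nu a m * b) := by simp only [nu]; group
    rw [e, conj_of_comm (hVH _ (ha' m hm) b hb)]
    exact V.mul_mem (hb' m hm) (ha' m hm)
  inv_mem' := by
    rintro a ⟨ha, ha'⟩
    refine ⟨H.inv_mem ha, fun m hm => ?_⟩
    have hm' : a * m * a⁻¹ ∈ M := by
      have := hMn a⁻¹ (H.inv_mem ha) m hm
      simpa using this
    have e : nu a⁻¹ m = (nu a (a * m * a⁻¹))⁻¹ := by simp only [nu]; group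
    rw [e]
    exact V.inv_mem (ha' _ hm')

variable {H M V : Subgroup G} {hVH : ∀ v ∈ V, ∀ h ∈ H, v * h = h * v}
  {hMn : ∀ h ∈ H, ∀ μ ∈ M, h⁻¹ * μ * h ∈ M}

theorem mem_Nst {g : G} : g ∈ Nst H M V hVH hMn ↔ g ∈ H ∧ ∀ m ∈ M, nu g m ∈ V := Iff.rfl

theorem Nst_le : Nst H M V hVH hMn ≤ H := fun _ hg => hg.1

theorem nuCtx_Nst (hVM : V ≤ M) (hMH : M ≤ H) (hcomm : ∀ a ∈ M, ∀ b ∈ M, a * b = b * a) :
    NuCtx (Nst H M V hVH hMn) M V where
  VM := hVM
  MH := by
    intro m' hm'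
    refine ⟨hMH hm', fun m hm => ?_⟩
    have : nu m' m = 1 := (nu_eq_one_iff _ _).mpr (hcomm m hm m' hm')
    rw [this]; exact V.one_mem
  cen := fun v hv h hh => hVH v hv h hh.1
  comm := hcomm
  nrm := fun h hh μ hμ => hMn h hh.1 μ hμ
  nuV := fun h hh μ hμ => hh.2 μ hμ

end nst

section stepC
variable {G : Type u} [Group G] [Finite G] {p : ℕ} {P H : Subgroup G} {q : ℕ} {z : G}
  {M : Subgroup G}

theorem z_not_mem_comm (h : MinCE p P H) (hz : CData P H z q) {H₁ : Subgroup G} (h1 : H₁ ≤ H)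
    (hne : H₁ ≠ H) (hn : P ≤ Subgroup.normalizer (H₁ : Set G)) : z ∉ ⁅H₁, P⁆ := by
  intro hmem
  exact hz.znotK (Cfsg.Agent.Lib.Helper5.FlvR1.R1 h h1 hne hn (Subgroup.mem_inf.mpr ⟨hmem, hz.zP⟩))

omit [Finite G] in
theorem z_not_mem_cmE (hz : CData P H z q) {g : G} (hg : g ∈ H) : z ∉ cmE P g := by
  intro hmem
  exact hz.znotK (cmE_inf_le_KK hg (Subgroup.mem_inf.mpr ⟨hmem, hz.zP⟩))

omit [Finite G] in
theorem z_ne_one (hz : CData P H z q) : z ≠ 1 := by
  intro h1
  have := hz.zord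
  rw [h1, orderOf_one] at this
  exact hz.hq.one_lt.ne this

/-- a nontrivial subgroup of `⟨z⟩` contains `z` -/
theorem z_mem_of_le_zpowers (hz : CData P H z q) {X : Subgroup G} (hX : X ≤ Subgroup.zpowers z)
    (hne : X ≠ ⊥) : z ∈ X := by
  obtain ⟨⟨x, hx⟩, hx1⟩ := (Subgroup.ne_bot_iff_exists_ne_one).mp hne
  have hx1' : x ≠ 1 := fun h => hx1 (Subtype.ext h)
  exact (Subgroup.zpowers_le.mpr hx) (mem_zpowers_of_prime hz.hq hz.zord (hX hx) hx1')

omit [Finite G] in
/-- a nontrivial `(H,P)`-normal subgroup of `H` contains `z` -/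
theorem z_mem_of_normBy (hz : CData P H z q) {X : Subgroup G} (hX : X ≤ H) (hne : X ≠ ⊥)
    (hn : NormBy P H X) : z ∈ X := hz.zmin X hX hne hn

/-- Step (c): from an element `n` with `[n,P] ≤ N*`, `[n,P] ≰ C(M)` to `CNData` -/
theorem cndata_of (h : MinCE p P H) (hz : CData P H z q) (hM : CMData P H z q M)
    {n : G} (hnH : n ∈ H)
    (hBV : ∀ b ∈ cmE P n, ∀ m ∈ M, nu b m ∈ Subgroup.zpowers z)
    (hBM : ¬ cmE P n ≤ Subgroup.centralizer (M : Set G)) : CNData P H z M n := by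
  classical
  have hPH := h.ctx.norm
  set V : Subgroup G := Subgroup.zpowers z with hV
  have hVcH : V ≤ Subgroup.centralizer (H : Set G) := Subgroup.zpowers_le.mpr hz.zcentH
  have hVcP : V ≤ Subgroup.centralizer (P : Set G) := Subgroup.zpowers_le.mpr hz.zP
  have hVM : V ≤ M := Subgroup.zpowers_le.mpr hM.zM
  have hVH : ∀ v ∈ V, ∀ g ∈ H, v * g = g * v := fun v hv g hg =>
    ((Subgroup.mem_centralizer_iff.mp (hVcH hv)) g hg).symm
  have hMn : ∀ g ∈ H, ∀ μ ∈ M, g⁻¹ * μ * g ∈ M := fun g hg μ hμ =>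
    conj_mem_of_le_normalizer' hM.nM.1 hg hμ
  set B : Subgroup G := cmE P n with hB
  have hBH : B ≤ H := cmE_le hPH hnH
  have hPB : P ≤ Subgroup.normalizer (B : Set G) := cmE_norm n
  -- 1. `[M,B] ≤ V`
  have h1 : ⁅M, B⁆ ≤ V := by
    rw [Subgroup.commutator_le]
    intro m hm b hb
    have e : ⁅m, b⁆ = nu b⁻¹ m⁻¹ := by simp only [nu, commutatorElement_def]; group
    rw [e]
    exact hBV _ (B.inv_mem hb) _ (M.inv_mem hm)
  -- 2. `z ∈ [M,B]`
  have h2 : z ∈ ⁅M, B⁆ := by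
    apply z_mem_of_le_zpowers hz h1
    intro hbot
    apply hBM
    intro b hb
    rw [Subgroup.mem_centralizer_iff]
    intro m hm
    have : ⁅m, b⁆ ∈ (⊥ : Subgroup G) := hbot ▸ Subgroup.commutator_mem_commutator hm hb
    rw [Subgroup.mem_bot, commutatorElement_eq_one_iff_commute] at this
    exact this.eq
  -- 3. `[M,B] ≤ [MB,P]`
  have h3 : ⁅M, B⁆ ≤ ⁅M ⊔ B, P⁆ := by
    have hBL : B ≤ ⁅M ⊔ B, P⁆ := by
      calc B = ⁅B, P⁆ := (cmE_comm h.ctx hnH).symm
        _ ≤ ⁅M ⊔ B, P⁆ := Subgroup.commutator_mono le_sup_right le_rfl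
    have hnL := Cfsg.Agent.Lib.Lead.le_normalizer_commutator_left (M ⊔ B) P
    rw [Subgroup.commutator_le]
    intro m hm b hb
    have e : ⁅m, b⁆ = (m * b * m⁻¹) * b⁻¹ := by simp only [commutatorElement_def]
    rw [e]
    exact Subgroup.mul_mem _ (conj_mem_of_le_normalizer hnL (Subgroup.mem_sup_left hm) (hBL hb))
      (Subgroup.inv_mem _ (hBL hb))
  -- 4. `MB = H`
  have h4 : M ⊔ B = H := by
    by_contra hne
    exact z_not_mem_comm h hz (sup_le hM.MH hBH) hne (le_normalizer_sup hM.nM.2 hPB) (h3 h2)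
  -- 5. `[M,H] ≤ V`
  have hHN : H ≤ Nst H M V hVH hMn := by
    have hle : M ⊔ B ≤ Nst H M V hVH hMn := by
      apply sup_le
      · exact (nuCtx_Nst (hVH := hVH) (hMn := hMn) hVM hM.MH hM.comm).MH
      · intro b hb
        exact ⟨hBH hb, hBV b hb⟩
    intro g hg
    have hg' : g ∈ M ⊔ B := by rw [h4]; exact hg
    exact hle hg'
  have hnu : ∀ g ∈ H, ∀ m ∈ M, nu g m ∈ V := fun g hg => (hHN hg).2
  have h5 : ⁅M, H⁆ ≤ V := by
    rw [Subgroup.commutator_le]
    intro m hm g hg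
    have e : ⁅m, g⁆ = nu g⁻¹ m⁻¹ := by simp only [nu, commutatorElement_def]; group
    rw [e]
    exact hnu _ (H.inv_mem hg) _ (M.inv_mem hm)
  -- 6. `C_M(P) = V`
  have h6 : M ⊓ Subgroup.centralizer (P : Set G) = V := by
    have hX : NormBy P H (M ⊓ Subgroup.centralizer (P : Set G)) := by
      constructor
      · apply le_normalizer_of_conj
        rintro g hg m ⟨hm, hmc⟩
        have hv : nu g⁻¹ m ∈ V := hnu _ (H.inv_mem hg) m hm
        have e : g * m * g⁻¹ = m * nu g⁻¹ m := by simp only [nu]; group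
        rw [e]
        exact Subgroup.mul_mem _ (Subgroup.mem_inf.mpr ⟨hm, hmc⟩)
          (Subgroup.mem_inf.mpr ⟨hVM hv, hVcP hv⟩)
      · apply le_normalizer_inf hM.nM.2
        apply le_normalizer_of_conj
        intro u hu c hc
        rw [Subgroup.mem_centralizer_iff] at hc ⊢
        intro w hw
        have hc1 := hc u hu
        have hc2 := hc w hw
        have hc3 := hc u⁻¹ (P.inv_mem hu)
        calc w * (u * c * u⁻¹) = w * (c * u * u⁻¹) := by rw [hc1]
          _ = w * c := by group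
          _ = c * w := hc2
          _ = (c * u * u⁻¹) * w := by group
          _ = u * c * u⁻¹ * w := by rw [hc1]
    rcases hM.chief _ inf_le_left (Subgroup.mem_inf.mpr ⟨hM.zM, hz.zP⟩) hX with hc | hc
    · exact hc
    · exact absurd (hc ▸ inf_le_right : M ≤ Subgroup.centralizer (P : Set G)) hM.notP
  -- 7. `n ∉ C(M)`
  have h7 : n ∉ Subgroup.centralizer (M : Set G) := by
    intro hn
    apply hBM
    apply cmE_le_of
    intro u hu
    have hPc : P ≤ Subgroup.normalizer ((Subgroup.centralizer (M : Set G) : Subgroup G) : Set G) := by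
      apply le_normalizer_of_conj
      intro u hu c hc
      rw [Subgroup.mem_centralizer_iff] at hc ⊢
      intro m hm
      have hm' : u⁻¹ * m * u ∈ M := conj_mem_of_le_normalizer' hM.nM.2 hu hm
      have := hc _ hm'
      calc m * (u * c * u⁻¹) = u * ((u⁻¹ * m * u) * c) * u⁻¹ := by group
        _ = u * (c * (u⁻¹ * m * u)) * u⁻¹ := by rw [this]
        _ = u * c * u⁻¹ * m := by group
    exact Subgroup.mul_mem _ (Subgroup.inv_mem _ hn) (conj_mem_of_le_normalizer' hPc hu hn)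
  -- 8. complements
  have h8 : ∀ m ∈ M, cmE P (n * m) ⊓ M = ⊥ ∧ M ⊔ cmE P (n * m) = H := by
    intro m hm
    have hnm : n * m ∈ H := H.mul_mem hnH (hM.MH hm)
    have hsup : M ⊔ cmE P (n * m) = H := by
      have := (cmE_mul_sup (P := P) hM.nM.2 hm (hM.nM.1 hnH)).2
      rw [sup_comm, this, sup_comm]
      exact h4
    refine ⟨?_, hsup⟩
    by_contra hne
    have hBmH : cmE P (n * m) ≤ H := cmE_le hPH hnm
    have hY : NormBy P H (cmE P (n * m) ⊓ M) := by
      constructor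
      · rw [← hsup]
        apply sup_le
        · apply le_normalizer_of_conj
          rintro μ hμ y ⟨hy, hyM⟩
          have : μ * y * μ⁻¹ = y := by
            rw [hM.comm μ hμ y hyM]; group
          rw [this]
          exact Subgroup.mem_inf.mpr ⟨hy, hyM⟩
        · exact le_normalizer_inf Subgroup.le_normalizer (hBmH.trans hM.nM.1)
      · exact le_normalizer_inf (cmE_norm (n * m)) hM.nM.2
    have hzY := z_mem_of_normBy hz (inf_le_right.trans hM.MH) hne hY
    exact z_not_mem_cmE hz hnm hzY.1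
  exact ⟨hnH, h5, h6, h7, h8⟩

end stepC

section stepB
variable {G : Type u} [Group G] [Finite G] {p : ℕ} {P H : Subgroup G} {q : ℕ} {z : G}
  {M : Subgroup G}

omit [Finite G] in
theorem le_normalizer_centralizer {X F : Subgroup G}
    (hF : X ≤ Subgroup.normalizer (F : Set G)) :
    X ≤ Subgroup.normalizer ((Subgroup.centralizer (F : Set G) : Subgroup G) : Set G) := by
  apply le_normalizer_of_conj
  intro g hg c hc
  rw [Subgroup.mem_centralizer_iff] at hc ⊢
  intro f hf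
  have hf' : g⁻¹ * f * g ∈ F := conj_mem_of_le_normalizer' hF hg hf
  have := hc _ hf'
  calc f * (g * c * g⁻¹) = g * ((g⁻¹ * f * g) * c) * g⁻¹ := by group
    _ = g * (c * (g⁻¹ * f * g)) * g⁻¹ := by rw [this]
    _ = g * c * g⁻¹ * f := by group

/-- Step (b): some `n ∈ F` has `[n,P] ≰ C(M)` -/
theorem exists_n (h : MinCE p P H) (hz : CData P H z q) (hM : CMData P H z q M)
    {F : Subgroup G} (hFH : F ≤ H) (hFn : NormBy P H F)
    (hFV : ∀ f ∈ F, ∀ m ∈ M, nu f m ∈ Subgroup.zpowers z)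
    (hFM : ¬ F ≤ Subgroup.centralizer (M : Set G)) :
    ∃ n ∈ F, ¬ cmE P n ≤ Subgroup.centralizer (M : Set G) := by
  classical
  by_contra hall
  push Not at hall
  set V : Subgroup G := Subgroup.zpowers z with hV
  have hVcH : V ≤ Subgroup.centralizer (H : Set G) := Subgroup.zpowers_le.mpr hz.zcentH
  have hVcP : V ≤ Subgroup.centralizer (P : Set G) := Subgroup.zpowers_le.mpr hz.zP
  have hVM : V ≤ M := Subgroup.zpowers_le.mpr hM.zM
  have hVH : ∀ v ∈ V, ∀ g ∈ H, v * g = g * v := fun v hv g hg =>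
    ((Subgroup.mem_centralizer_iff.mp (hVcH hv)) g hg).symm
  have hVP : ∀ v ∈ V, ∀ u ∈ P, v * u = u * v := fun v hv u hu =>
    ((Subgroup.mem_centralizer_iff.mp (hVcP hv)) u hu).symm
  have hMn : ∀ g ∈ H, ∀ μ ∈ M, g⁻¹ * μ * g ∈ M := fun g hg μ hμ =>
    conj_mem_of_le_normalizer' hM.nM.1 hg hμ
  have hc : NuCtx (Nst H M V hVH hMn) M V := nuCtx_Nst hVM hM.MH hM.comm
  have hFN : F ≤ Nst H M V hVH hMn := fun f hf => ⟨hFH hf, hFV f hf⟩
  -- `F` centralizes `[M,P]`
  have hcomm : ⁅M, P⁆ ≤ Subgroup.centralizer (F : Set G) := by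
    rw [Subgroup.commutator_le]
    intro m hm u hu
    rw [Subgroup.mem_centralizer_iff]
    intro n hn
    have hμ : m⁻¹ ∈ M := M.inv_mem hm
    have hμ' : u * m⁻¹ * u⁻¹ ∈ M := conj_mem_of_le_normalizer hM.nM.2 hu hμ
    have hn' : u⁻¹ * n * u ∈ F := conj_mem_of_le_normalizer' hFn.2 hu hn
    have h1 := hc.nu_bracket (hFN hn) hμ (fun v hv => hVP v hv u hu) hμ' (hFN hn')
    have h2 : nu (n⁻¹ * (u⁻¹ * n * u)) m⁻¹ = 1 := by
      apply (nu_eq_one_iff _ _).mpr
      exact (Subgroup.mem_centralizer_iff.mp (hall n hn (gen_mem_cmE P n hu))) _ hμ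
    rw [h2] at h1
    have h3 := (nu_eq_one_iff _ _).mp h1.symm
    have e : ⁅m, u⁆ = m⁻¹⁻¹ * (u * m⁻¹ * u⁻¹) := by simp only [commutatorElement_def]; group
    rw [e]
    exact h3.symm
  have hMP : ⁅M, P⁆ ≤ M := Cfsg.Agent.Lib.Lead.commutator_le_left_of_le_normalizer M P hM.nM.2
  have hX : NormBy P H (M ⊓ Subgroup.centralizer (F : Set G)) :=
    ⟨le_normalizer_inf hM.nM.1 (le_normalizer_centralizer hFn.1),
      le_normalizer_inf hM.nM.2 (le_normalizer_centralizer hFn.2)⟩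
  have hzX : z ∈ M ⊓ Subgroup.centralizer (F : Set G) := by
    refine Subgroup.mem_inf.mpr ⟨hM.zM, ?_⟩
    rw [Subgroup.mem_centralizer_iff]
    intro f hf
    exact (hVH z (Subgroup.mem_zpowers z) f (hFH hf)).symm
  rcases hM.chief _ inf_le_left hzX hX with hX1 | hX1
  · -- `[M,P] ≤ V`, so `[M,P] = 1`
    have h1 : ⁅M, P⁆ ≤ V := by
      rw [hV, ← hX1]; exact le_inf hMP hcomm
    have h2 : ⁅⁅M, P⁆, P⁆ = ⊥ :=
      Subgroup.commutator_eq_bot_iff_le_centralizer.mpr (h1.trans hVcP)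
    have hcopM : (Nat.card P).Coprime (Nat.card M) := by
      rw [h.ctx.cardP]
      exact Nat.Coprime.coprime_dvd_right (Subgroup.card_dvd_of_le hM.MH) h.ctx.cop.symm
    have h3 := Cfsg.Agent.Lib.Lead.coprime_commutator_stable P M hM.nM.2 hcopM
      (Or.inl (isSolvable_of_card_prime h.ctx.hp h.ctx.cardP))
    rw [h2] at h3
    exact hM.notP (Subgroup.commutator_eq_bot_iff_le_centralizer.mp h3.symm)
  · apply hFM
    intro f hf
    rw [Subgroup.mem_centralizer_iff]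
    intro m hm
    have hm' : m ∈ M ⊓ Subgroup.centralizer (F : Set G) := by rw [hX1]; exact hm
    exact ((Subgroup.mem_centralizer_iff.mp hm'.2) f hf).symm

/-- Steps (b),(c) combined -/
theorem C3_of_F (h : MinCE p P H) (hz : CData P H z q) (hM : CMData P H z q M)
    {F : Subgroup G} (hFH : F ≤ H) (hFn : NormBy P H F)
    (hFV : ∀ f ∈ F, ∀ m ∈ M, nu f m ∈ Subgroup.zpowers z)
    (hFM : ¬ F ≤ Subgroup.centralizer (M : Set G)) : ∃ n, CNData P H z M n := by
  obtain ⟨n, hnF, hn⟩ := exists_n h hz hM hFH hFn hFV hFM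
  refine ⟨n, cndata_of h hz hM (hFH hnF) ?_ hn⟩
  have hBF : cmE P n ≤ F := by
    apply cmE_le_of
    intro u hu
    exact F.mul_mem (F.inv_mem hnF) (conj_mem_of_le_normalizer' hFn.2 hu hnF)
  intro b hb m hm
  exact hFV b (hBF hb) m hm

end stepB

section sylowdec

theorem sylow_sup_eq_top {T : Type*} [Group T] [Finite T] {s : ℕ} [Fact s.Prime]
    (N : Subgroup T) [N.Normal] (hN : ∀ t : T, t ^ s ∈ N) (S : Sylow s T) :
    (S : Subgroup T) ⊔ N = ⊤ := by
  have hs : s.Prime := Fact.out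
  have hQ : IsPGroup s (T ⧸ N) := by
    intro x
    induction x using QuotientGroup.induction_on with
    | H t =>
      refine ⟨1, ?_⟩
      rw [pow_one, ← QuotientGroup.mk_pow]
      exact (QuotientGroup.eq_one_iff _).mpr (hN t)
  obtain ⟨k, hk⟩ := IsPGroup.iff_card.mp hQ
  have hNi : N.index = s ^ k := by rw [Subgroup.index_eq_card]; exact hk
  have h1 : ((S : Subgroup T) ⊔ N).index ∣ (S : Subgroup T).index :=
    Subgroup.index_dvd_of_le le_sup_left
  have h2 : ((S : Subgroup T) ⊔ N).index ∣ s ^ k := by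
    rw [← hNi]; exact Subgroup.index_dvd_of_le le_sup_right
  obtain ⟨j, -, hj⟩ := (Nat.dvd_prime_pow hs).mp h2
  have hj0 : j = 0 := by
    by_contra hne
    have : s ∣ ((S : Subgroup T) ⊔ N).index := by
      rw [hj]; exact dvd_pow_self s hne
    exact S.not_dvd_index (this.trans h1)
  rw [hj0, pow_zero] at hj
  exact Subgroup.index_eq_one.mp hj

variable {G : Type u} [Group G] [Finite G]

theorem exists_sylow_dec {F C : Subgroup G} {s : ℕ} [Fact s.Prime]
    (hFC : F ≤ Subgroup.normalizer (C : Set G)) (hpow : ∀ f ∈ F, f ^ s ∈ C) :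
    ∃ S : Subgroup G, S ≤ F ∧ IsPGroup s S ∧ ∀ f ∈ F, ∃ x ∈ S, ∃ c ∈ C, f = x * c := by
  have hnorm : (C.subgroupOf F).Normal := by
    constructor
    intro n hn g
    rw [Subgroup.mem_subgroupOf] at hn ⊢
    have := conj_mem_of_le_normalizer hFC g.2 hn
    simpa using this
  have hN : ∀ t : ↥F, t ^ s ∈ C.subgroupOf F := by
    intro t
    rw [Subgroup.mem_subgroupOf]
    have := hpow t.1 t.2
    simpa using this
  obtain ⟨S'⟩ : Nonempty (Sylow s ↥F) := inferInstance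
  have htop := sylow_sup_eq_top (C.subgroupOf F) hN S'
  refine ⟨(S' : Subgroup ↥F).map F.subtype, ?_, S'.isPGroup'.map F.subtype, ?_⟩
  · rintro _ ⟨x, -, rfl⟩
    exact x.2
  · intro f hf
    have hmem : (⟨f, hf⟩ : ↥F) ∈ (((S' : Subgroup ↥F) ⊔ C.subgroupOf F : Subgroup ↥F) : Set ↥F) := by
      rw [htop]; trivial
    rw [Subgroup.mul_normal] at hmem
    obtain ⟨x, hx, c, hc, hxc⟩ := hmem
    refine ⟨x.1, ⟨x, hx, rfl⟩, c.1, Subgroup.mem_subgroupOf.mp hc, ?_⟩
    have := congrArg Subtype.val hxc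
    simpa using this.symm

end sylowdec

section stepA
open Cfsg.Agent.Lib.Helper4.FlvR2

variable {G : Type u} [Group G]

/-- preimage in `H` of a subgroup of `N_G(N)/N` -/
def pull (N H : Subgroup G) (hHL : H ≤ Subgroup.normalizer (N : Set G))
    (X : Subgroup (↥(Subgroup.normalizer (N : Set G)) ⧸
      N.subgroupOf (Subgroup.normalizer (N : Set G)))) : Subgroup G where
  carrier := {g | ∃ hg : g ∈ H, pr N ⟨g, hHL hg⟩ ∈ X}
  one_mem' := by
    refine ⟨H.one_mem, ?_⟩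
    have : (⟨1, hHL H.one_mem⟩ : ↥(Subgroup.normalizer (N : Set G))) = 1 := rfl
    rw [this, map_one]; exact X.one_mem
  mul_mem' := by
    rintro a b ⟨ha, ha'⟩ ⟨hb, hb'⟩
    refine ⟨H.mul_mem ha hb, ?_⟩
    have : (⟨a * b, hHL (H.mul_mem ha hb)⟩ : ↥(Subgroup.normalizer (N : Set G))) =
        ⟨a, hHL ha⟩ * ⟨b, hHL hb⟩ := rfl
    rw [this, map_mul]; exact X.mul_mem ha' hb'
  inv_mem' := by
    rintro a ⟨ha, ha'⟩
    refine ⟨H.inv_mem ha, ?_⟩
    have : (⟨a⁻¹, hHL (H.inv_mem ha)⟩ : ↥(Subgroup.normalizer (N : Set G))) =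
        (⟨a, hHL ha⟩ : ↥(Subgroup.normalizer (N : Set G)))⁻¹ := rfl
    rw [this, map_inv]; exact X.inv_mem ha'

theorem mem_pull {N H : Subgroup G} {hHL : H ≤ Subgroup.normalizer (N : Set G)}
    {X : Subgroup (↥(Subgroup.normalizer (N : Set G)) ⧸
      N.subgroupOf (Subgroup.normalizer (N : Set G)))} {g : G} :
    g ∈ pull N H hHL X ↔ ∃ hg : g ∈ H, pr N ⟨g, hHL hg⟩ ∈ X := Iff.rfl

variable [Finite G] {p : ℕ} {P H : Subgroup G} {q : ℕ} {z : G} {M : Subgroup G}

/-- Step (a) -/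
theorem exists_F (h : MinCE p P H) (hz : CData P H z q) (hM : CMData P H z q M) :
    ∃ F : Subgroup G, F ≤ H ∧ NormBy P H F ∧
      (∀ f ∈ F, ∀ m ∈ M, nu f m ∈ Subgroup.zpowers z) ∧
      ¬ F ≤ Subgroup.centralizer (M : Set G) := by
  classical
  have hPH := h.ctx.norm
  have hqp : q.Prime := hz.hq
  have : Fact q.Prime := ⟨hqp⟩
  set V : Subgroup G := Subgroup.zpowers z with hV
  have hVcH : V ≤ Subgroup.centralizer (H : Set G) := Subgroup.zpowers_le.mpr hz.zcentH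
  have hVcP : V ≤ Subgroup.centralizer (P : Set G) := Subgroup.zpowers_le.mpr hz.zP
  have hVM : V ≤ M := Subgroup.zpowers_le.mpr hM.zM
  have hVH : ∀ v ∈ V, ∀ g ∈ H, v * g = g * v := fun v hv g hg =>
    ((Subgroup.mem_centralizer_iff.mp (hVcH hv)) g hg).symm
  have hVP : ∀ v ∈ V, ∀ u ∈ P, v * u = u * v := fun v hv u hu =>
    ((Subgroup.mem_centralizer_iff.mp (hVcP hv)) u hu).symm
  have : IsMulCommutative ↥M := ⟨⟨fun a b => Subtype.ext (hM.comm a a.2 b b.2)⟩⟩
  have hMq : IsPGroup q M := by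
    intro m
    refine ⟨1, ?_⟩
    apply Subtype.ext
    rw [pow_one]
    simpa using hM.exp m.1 m.2
  have hcopM : (Nat.card P).Coprime (Nat.card M) := by
    rw [h.ctx.cardP]
    exact Nat.Coprime.coprime_dvd_right (Subgroup.card_dvd_of_le hM.MH) h.ctx.cop.symm
  have hMP : ⁅M, P⁆ ≤ M := Cfsg.Agent.Lib.Lead.commutator_le_left_of_le_normalizer M P hM.nM.2
  have hMPne : ⁅M, P⁆ ≠ ⊥ := fun h0 =>
    hM.notP (Subgroup.commutator_eq_bot_iff_le_centralizer.mp h0)
  -- A0 : `H ≰ C(M)`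
  have hA0 : ¬ H ≤ Subgroup.centralizer (M : Set G) := by
    intro hHc
    have hn : NormBy P H ⁅M, P⁆ := by
      constructor
      · apply le_normalizer_of_conj
        intro g hg a ha
        have : g * a * g⁻¹ = a := by
          have := (Subgroup.mem_centralizer_iff.mp (hHc hg)) a (hMP ha)
          rw [← this]; group
        rw [this]; exact ha
      · exact Cfsg.Agent.Lib.Lead.le_normalizer_commutator_right M P hM.nM.2
    have hzA := z_mem_of_normBy hz (hMP.trans hM.MH) hMPne hn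
    have hdec := (Cfsg.Agent.Lib.Lead.coprime_abelian_decomp P M hM.nM.2 hcopM).1
    have : z ∈ (M ⊓ Subgroup.centralizer (P : Set G)) ⊓ ⁅M, P⁆ :=
      Subgroup.mem_inf.mpr ⟨Subgroup.mem_inf.mpr ⟨hM.zM, hz.zP⟩, hzA⟩
    rw [hdec, Subgroup.mem_bot] at this
    exact z_ne_one hz this
  -- the quotient by `C1 = C_H(M)`
  set C1 : Subgroup G := H ⊓ Subgroup.centralizer (M : Set G) with hC1
  have hC1H : C1 ≤ H := inf_le_left
  have hHL : H ≤ Subgroup.normalizer (C1 : Set G) :=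
    le_normalizer_inf Subgroup.le_normalizer (le_normalizer_centralizer hM.nM.1)
  have hPL : P ≤ Subgroup.normalizer (C1 : Set G) :=
    le_normalizer_inf hPH (le_normalizer_centralizer hM.nM.2)
  have hctx := ctx_img h.ctx hHL hPL hC1H
  have hHbar : img C1 H ≠ ⊥ := by
    intro hbot
    apply hA0
    intro g hg
    have h1 : pr C1 ⟨g, hHL hg⟩ ∈ img C1 H := pr_mem_img _ hg
    rw [hbot, Subgroup.mem_bot, pr_eq_one_iff] at h1
    exact h1.2
  obtain ⟨Fb, hFb, -⟩ := Cfsg.Agent.Lib.Helper5.FlvM.exists_minNormal_le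
    (P := img C1 P) (H := img C1 H) (N := img C1 H) le_rfl hHbar
    ⟨Subgroup.le_normalizer, hctx.norm⟩
  obtain ⟨s, hs, -, hFbs, -, hFbexp⟩ := Cfsg.Agent.Lib.Helper5.FlvM.minNormal_elem hctx hFb
  have : Fact s.Prime := ⟨hs⟩
  obtain ⟨hFbH, hFbne, hFbn, -⟩ := hFb
  set F : Subgroup G := pull C1 H hHL Fb with hF
  have hFH : F ≤ H := fun g hg => hg.1
  -- `F` is normalised by `H` and `P`
  have hconj : ∀ x : G, ∀ hx : x ∈ Subgroup.normalizer (C1 : Set G),
      x ∈ Subgroup.normalizer (H : Set G) →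
      pr C1 ⟨x, hx⟩ ∈ Subgroup.normalizer (Fb : Set _) → ∀ f ∈ F, x * f * x⁻¹ ∈ F := by
    rintro x hx hxH hxF f ⟨hf, hf'⟩
    have hfx : x * f * x⁻¹ ∈ H := (Subgroup.mem_normalizer_iff.mp hxH f).mp hf
    refine ⟨hfx, ?_⟩
    have e : (⟨x * f * x⁻¹, hHL hfx⟩ : ↥(Subgroup.normalizer (C1 : Set G))) =
        ⟨x, hx⟩ * ⟨f, hHL hf⟩ * (⟨x, hx⟩ : ↥(Subgroup.normalizer (C1 : Set G)))⁻¹ := rfl
    rw [e, map_mul, map_mul, map_inv]
    exact (Subgroup.mem_normalizer_iff.mp hxF _).mp hf'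
  have hFn : NormBy P H F := by
    constructor
    · apply le_normalizer_of_conj
      intro x hx f hf
      exact hconj x (hHL hx) (Subgroup.le_normalizer hx) (hFbn.1 (pr_mem_img _ hx)) f hf
    · apply le_normalizer_of_conj
      intro x hx f hf
      exact hconj x (hPL hx) (hPH hx) (hFbn.2 (pr_mem_img _ hx)) f hf
  -- `F ≰ C(M)`
  have hFM : ¬ F ≤ Subgroup.centralizer (M : Set G) := by
    intro hle
    apply hFbne
    rw [eq_bot_iff]
    intro w hw
    rw [Subgroup.mem_bot]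
    obtain ⟨y, hy, rfl⟩ := (mem_img_iff C1 H _).mp (hFbH hw)
    have hyF : (y : G) ∈ F := ⟨hy, hw⟩
    exact (pr_eq_one_iff C1 y).mpr (Subgroup.mem_inf.mpr ⟨hy, hle hyF⟩)
  -- `f^s ∈ C(M)`
  have hFpow : ∀ f ∈ F, f ^ s ∈ C1 := by
    rintro f ⟨hf, hf'⟩
    have h1 := hFbexp _ hf'
    rw [← map_pow, pr_eq_one_iff] at h1
    exact h1
  obtain ⟨S, hSF, hSs, hdec⟩ := exists_sylow_dec (hFH.trans hHL) hFpow
  have hSH : S ≤ H := hSF.trans hFH
  have hSM : S ≤ Subgroup.normalizer (M : Set G) := hSH.trans hM.nM.1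
  -- (K1) `[X,F] ≤ [X,S]` for `X ≤ M`
  have hK1 : ∀ X : Subgroup G, X ≤ M → ⁅X, F⁆ ≤ ⁅X, S⁆ := by
    intro X hXM
    rw [Subgroup.commutator_le]
    intro a ha f hf
    obtain ⟨x, hx, c, hc, rfl⟩ := hdec f hf
    have hca : a⁻¹ * c = c * a⁻¹ :=
      (Subgroup.mem_centralizer_iff.mp hc.2) _ (M.inv_mem (hXM ha))
    have e : ⁅a, x * c⁆ = ⁅a, x⁆ := by
      simp only [commutatorElement_def]
      calc a * (x * c) * a⁻¹ * (x * c)⁻¹ = a * x * (c * a⁻¹) * c⁻¹ * x⁻¹ := by group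
        _ = a * x * (a⁻¹ * c) * c⁻¹ * x⁻¹ := by rw [hca]
        _ = a * x * a⁻¹ * x⁻¹ := by group
    rw [e]
    exact Subgroup.commutator_mem_commutator ha hx
  -- the normal subgroup `A = [M,F]`
  set A : Subgroup G := ⁅M, F⁆ with hA
  have hAM : A ≤ M := Cfsg.Agent.Lib.Lead.commutator_le_left_of_le_normalizer M F
    (hFH.trans hM.nM.1)
  have hAn : NormBy P H A :=
    ⟨fun g hg => Cfsg.Agent.Lib.Lead.normalizer_inf_le_normalizer_commutator M F
        ⟨hM.nM.1 hg, hFn.1 hg⟩,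
      fun g hg => Cfsg.Agent.Lib.Lead.normalizer_inf_le_normalizer_commutator M F
        ⟨hM.nM.2 hg, hFn.2 hg⟩⟩
  have hAne : A ≠ ⊥ := by
    intro h0
    apply hFM
    have : M ≤ Subgroup.centralizer (F : Set G) :=
      Subgroup.commutator_eq_bot_iff_le_centralizer.mp h0
    exact Subgroup.le_centralizer_iff.mp this
  have hzA : z ∈ A := z_mem_of_normBy hz (hAM.trans hM.MH) hAne hAn
  have hzS : z ∈ Subgroup.centralizer (S : Set G) := by
    rw [Subgroup.mem_centralizer_iff]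
    intro x hx
    exact (hVH z (Subgroup.mem_zpowers z) x (hSH hx)).symm
  -- `s = q`
  have hsq : s = q := by
    by_contra hne
    obtain ⟨a, ha⟩ := IsPGroup.iff_card.mp hSs
    obtain ⟨b, hb⟩ := IsPGroup.iff_card.mp hMq
    have hcop : (Nat.card S).Coprime (Nat.card M) := by
      rw [ha, hb]
      exact Nat.Coprime.pow _ _ ((Nat.coprime_primes hs hqp).mpr hne)
    have hdec2 := (Cfsg.Agent.Lib.Lead.coprime_abelian_decomp S M hSM hcop).1
    have : z ∈ (M ⊓ Subgroup.centralizer (S : Set G)) ⊓ ⁅M, S⁆ :=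
      Subgroup.mem_inf.mpr ⟨Subgroup.mem_inf.mpr ⟨hM.zM, hzS⟩, hK1 M le_rfl hzA⟩
    rw [hdec2, Subgroup.mem_bot] at this
    exact z_ne_one hz this
  subst hsq
  -- `A ≤ V`
  have hAV : A ≤ V := by
    have hVn : NormBy P H V := by
      constructor
      · apply le_normalizer_of_conj
        intro g hg v hv
        have : g * v * g⁻¹ = v := by rw [← hVH v hv g hg]; group
        rw [this]; exact hv
      · apply le_normalizer_of_conj
        intro g hg v hv
        have : g * v * g⁻¹ = v := by rw [← hVP v hv g hg]; group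
        rw [this]; exact hv
    have hAVn : NormBy P H (A ⊔ V) :=
      ⟨le_normalizer_sup hAn.1 hVn.1, le_normalizer_sup hAn.2 hVn.2⟩
    rcases hM.chief (A ⊔ V) (sup_le hAM hVM) (Subgroup.mem_sup_right (Subgroup.mem_zpowers z))
      hAVn with hc | hc
    · rw [hV, ← hc]; exact le_sup_left
    · -- `A ⊔ V = M` forces `[A,S] = A`, so `A = 1`
      exfalso
      have hSA : S ≤ Subgroup.normalizer (A : Set G) := hSH.trans hAn.1
      have hAq := hMq.to_le hAM
      apply Cfsg.Agent.Lib.Lead.commutator_ne_of_pgroups s A S hAq hSs hSA hAne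
      apply le_antisymm (Cfsg.Agent.Lib.Lead.commutator_le_left_of_le_normalizer A S hSA)
      have hMS : ⁅M, S⁆ ≤ ⁅A, S⁆ := by
        rw [Subgroup.commutator_le]
        intro m hm x hx
        have hm' : m ∈ ((A ⊔ V : Subgroup G) : Set G) := by rw [hc]; exact hm
        rw [Subgroup.coe_mul_of_right_le_normalizer_left A V
          ((hVM.trans hM.MH).trans hAn.1)] at hm'
        obtain ⟨a, ha, v, hv, rfl⟩ := hm'
        have hvx : v * x = x * v := hVH v hv x (hSH hx)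
        have e : ⁅a * v, x⁆ = ⁅a, x⁆ := by
          simp only [commutatorElement_def]
          calc a * v * x * (a * v)⁻¹ * x⁻¹ = a * (v * x) * v⁻¹ * a⁻¹ * x⁻¹ := by group
            _ = a * (x * v) * v⁻¹ * a⁻¹ * x⁻¹ := by rw [hvx]
            _ = a * x * a⁻¹ * x⁻¹ := by group
        rw [e]
        exact Subgroup.commutator_mem_commutator ha hx
      exact (hK1 M le_rfl).trans hMS
  refine ⟨F, hFH, hFn, ?_, hFM⟩
  intro f hf m hm
  apply hAV
  have e : nu f m = ⁅m⁻¹, f⁻¹⁆ := by simp only [nu, commutatorElement_def]; group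
  rw [e]
  exact Subgroup.commutator_mem_commutator (M.inv_mem hm) (F.inv_mem hf)

/-- PKG-C3 = (II-b)(a),(b),(c) of `notes/S3816_proof_helper5.md` (skeleton statement, verbatim) -/
theorem C3 (h : MinCE p P H) (hz : CData P H z q) (hM : CMData P H z q M) :
    ∃ n, CNData P H z M n := by
  obtain ⟨F, hFH, hFn, hFV, hFM⟩ := exists_F h hz hM
  exact C3_of_F h hz hM hFH hFn hFV hFM

end stepA

end Cfsg.Agent.Lib.Helper7.FlvC3
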