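import Mathlib
import Cfsg.Agent.Lib.Helper7.Conj

/-! Sims' theorem on primitive groups with a suborbit of length 3 (S3385, S3685), part 1:
conjugation lemmas and index-two lemmas. -/

set_option autoImplicit false

namespace Cfsg.Agent.Lib.Helper7.Sims3

open Cfsg.Agent.Lib.Helper7

variable {G : Type*} [Group G]

theorem card_cj (g : G) (H : Subgroup G) : Nat.card (cj g H) = Nat.card H := by
  unfold cj
  exact Nat.card_congr (H.equivMapOfInjective _ (MulAut.conj g).injective).symm.toEquiv

theorem cj_inf (g : G) (H K : Subgroup G) : cj g (H ⊓ K) = cj g H ⊓ cj g K :=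
  Subgroup.map_inf H K _ (MulAut.conj g).injective

theorem cj_injective (g : G) : Function.Injective (cj g : Subgroup G → Subgroup G) :=
  Subgroup.map_injective (MulAut.conj g).injective

theorem cj_le_cj_iff (g : G) {H K : Subgroup G} : cj g H ≤ cj g K ↔ H ≤ K :=
  Subgroup.map_le_map_iff_of_injective (MulAut.conj g).injective

theorem cj_bot (g : G) : cj g (⊥ : Subgroup G) = ⊥ := Subgroup.map_bot _

theorem relIndex_cj (g : G) (H K : Subgroup G) : (cj g H).relIndex (cj g K) = H.relIndex K :=
  Subgroup.relIndex_map_map_of_injective H K (MulAut.conj g).injective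

theorem cj_closure (g : G) (S : Set G) :
    cj g (Subgroup.closure S) = Subgroup.closure ((fun x => g * x * g⁻¹) '' S) := by
  unfold cj
  rw [MonoidHom.map_closure]
  rfl

theorem cj_le_iff (g : G) (H K : Subgroup G) : cj g H ≤ K ↔ H ≤ cj g⁻¹ K := by
  rw [← cj_le_cj_iff g⁻¹, cj_inv_cj]

theorem isPGroup_cj {p : ℕ} (g : G) {H : Subgroup G} (h : IsPGroup p H) : IsPGroup p (cj g H) :=
  h.map _

/-- `cj g` preserves being a coatom -/
theorem cj_eq_top (g : G) (H : Subgroup G) : cj g H = ⊤ ↔ H = ⊤ := by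
  constructor
  · intro h
    rw [eq_top_iff]
    intro x _
    have : g * x * g⁻¹ ∈ cj g H := h ▸ Subgroup.mem_top _
    rw [mem_cj] at this
    simpa [mul_assoc] using this
  · rintro rfl
    rw [eq_top_iff]
    intro x _
    rw [mem_cj]; trivial

section fin
variable [Finite G]

/-- equal cardinalities and inclusion give equality -/
theorem cj_eq_of_le {g : G} {H : Subgroup G} (h : H ≤ cj g H) : cj g H = H :=
  (Subgroup.eq_of_le_of_card_ge h (card_cj g H).le).symm

theorem cj_eq_of_ge {g : G} {H : Subgroup G} (h : cj g H ≤ H) : cj g H = H :=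
  Subgroup.eq_of_le_of_card_ge h (card_cj g H).ge

/-- two distinct subgroups of index two generate -/
theorem sup_eq_of_relIndex_two {H K L : Subgroup G} (hH : H ≤ L) (hK : K ≤ L)
    (hH2 : H.relIndex L = 2) (hne : ¬ K ≤ H) : H ⊔ K = L := by
  have h1 : H ≤ H ⊔ K := le_sup_left
  have h2 : H ⊔ K ≤ L := sup_le hH hK
  have h3 := Subgroup.relIndex_mul_relIndex H (H ⊔ K) L h1 h2
  rw [hH2] at h3
  have h4 : H.relIndex (H ⊔ K) ≠ 1 := by
    rw [Ne, Subgroup.relIndex_eq_one]
    intro h; exact hne (le_sup_right.trans h)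
  have h5 : H.relIndex (H ⊔ K) ∣ 2 := Dvd.intro _ h3
  have h6 : H.relIndex (H ⊔ K) = 2 := by
    rcases (Nat.dvd_prime Nat.prime_two).1 h5 with h | h
    · exact absurd h h4
    · exact h
  rw [h6] at h3
  have h7 : (H ⊔ K).relIndex L = 1 := by omega
  exact le_antisymm h2 (Subgroup.relIndex_eq_one.1 h7)

/-- a subgroup of relative index two is normalised -/
theorem le_normalizer_of_relIndex_two {H L : Subgroup G} (hH : H ≤ L) (hH2 : H.relIndex L = 2) :
    L ≤ Subgroup.normalizer (H : Set G) := by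
  have : (H.subgroupOf L).Normal := Subgroup.normal_of_index_eq_two hH2
  exact (Subgroup.normal_subgroupOf_iff_le_normalizer hH).1 inferInstance

/-- a maximal subgroup together with anything outside generates -/
theorem sup_eq_of_relIndex_prime {H K L : Subgroup G} {p : ℕ} (hp : p.Prime) (hH : H ≤ L)
    (hK : K ≤ L) (hHp : H.relIndex L = p) (hne : ¬ K ≤ H) : H ⊔ K = L := by
  have h1 : H ≤ H ⊔ K := le_sup_left
  have h2 : H ⊔ K ≤ L := sup_le hH hK
  have h3 := Subgroup.relIndex_mul_relIndex H (H ⊔ K) L h1 h2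
  rw [hHp] at h3
  have h4 : H.relIndex (H ⊔ K) ≠ 1 := by
    rw [Ne, Subgroup.relIndex_eq_one]
    intro h; exact hne (le_sup_right.trans h)
  have h5 : H.relIndex (H ⊔ K) ∣ p := Dvd.intro _ h3
  have h6 : H.relIndex (H ⊔ K) = p := by
    rcases (Nat.dvd_prime hp).1 h5 with h | h
    · exact absurd h h4
    · exact h
  rw [h6] at h3
  have h7 : (H ⊔ K).relIndex L = 1 := by
    have := hp.pos
    nlinarith [Nat.eq_of_mul_eq_mul_left hp.pos (by rw [h3, mul_one] : p * (H ⊔ K).relIndex L = p * 1)]
  exact le_antisymm h2 (Subgroup.relIndex_eq_one.1 h7)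

theorem card_eq_relIndex_mul {H L : Subgroup G} (hH : H ≤ L) :
    Nat.card L = H.relIndex L * Nat.card H := by
  have h1 := Subgroup.relIndex_mul_relIndex ⊥ H L bot_le hH
  rw [Subgroup.relIndex_bot_left, Subgroup.relIndex_bot_left] at h1
  rw [← h1, mul_comm]

end fin

end Cfsg.Agent.Lib.Helper7.Sims3
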