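import Mathlib
import Cfsg.Agent.Lib.Helper7.Sims3_1

/-! Sims' theorem (S3385, S3685), part 2: the chain `D j = P ∩ hPh⁻¹ ∩ … ∩ h^j P h^{-j}`. -/

set_option autoImplicit false

namespace Cfsg.Agent.Lib.Helper7.Sims3

open Cfsg.Agent.Lib.Helper7

variable {G : Type*} [Group G]

/-- the hypotheses: `P` maximal and core-free, `B` a 2-subgroup of index 3 in `P` and in `hPh⁻¹`,
`hBh⁻¹ ≠ B` -/
structure Setup (P B : Subgroup G) (h : G) : Prop where
  coatom : IsCoatom P
  core : ∀ N : Subgroup G, N.Normal → N ≤ P → N = ⊥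
  two : IsPGroup 2 B
  le : B ≤ P
  le' : B ≤ cj h P
  idx : B.relIndex P = 3
  ne : cj h P ≠ P
  neB : cj h B ≠ B

/-- `D j = P ∩ hPh⁻¹ ∩ … ∩ h^j P h^{-j}` -/
def D (P : Subgroup G) (h : G) : ℕ → Subgroup G
  | 0 => P
  | j + 1 => D P h j ⊓ cj h (D P h j)

theorem D_zero (P : Subgroup G) (h : G) : D P h 0 = P := rfl

theorem D_succ (P : Subgroup G) (h : G) (j : ℕ) : D P h (j + 1) = D P h j ⊓ cj h (D P h j) := rfl

theorem D_succ_le (P : Subgroup G) (h : G) (j : ℕ) : D P h (j + 1) ≤ D P h j := inf_le_left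

theorem D_succ_le' (P : Subgroup G) (h : G) (j : ℕ) : D P h (j + 1) ≤ cj h (D P h j) := inf_le_right

theorem D_anti (P : Subgroup G) (h : G) {i j : ℕ} (hij : i ≤ j) : D P h j ≤ D P h i := by
  induction j, hij using Nat.le_induction with
  | base => exact le_rfl
  | succ j _ ih => exact (D_succ_le P h j).trans ih

variable [Finite G] {P B : Subgroup G} {h : G}

theorem relIndex_ne_zero' (H K : Subgroup G) : H.relIndex K ≠ 0 := Subgroup.index_ne_zero_of_finite

namespace Setup

theorem D_one (S : Setup P B h) : D P h 1 = B := by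
  rw [D_succ, D_zero]
  set M := P ⊓ cj h P with hM
  have h1 : B ≤ M := le_inf S.le S.le'
  have h2 : M ≤ P := inf_le_left
  have h3 := Subgroup.relIndex_mul_relIndex B M P h1 h2
  rw [S.idx] at h3
  have h4 : M.relIndex P ≠ 1 := by
    rw [Ne, Subgroup.relIndex_eq_one]
    intro h5
    have h6 : P ≤ cj h P := h5.trans inf_le_right
    exact S.ne (cj_eq_of_le h6)
  have h5 : M.relIndex P ∣ 3 := Dvd.intro_left _ h3
  have h6 : M.relIndex P = 3 := by
    rcases (Nat.dvd_prime Nat.prime_three).1 h5 with h | h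
    · exact absurd h h4
    · exact h
  rw [h6] at h3
  have h7 : B.relIndex M = 1 := by omega
  exact le_antisymm (Subgroup.relIndex_eq_one.1 h7) h1

theorem card_P (S : Setup P B h) : Nat.card P = 3 * Nat.card B := by
  rw [card_eq_relIndex_mul S.le, S.idx]

theorem relIndex_cjP (S : Setup P B h) : B.relIndex (cj h P) = 3 := by
  have h1 := card_eq_relIndex_mul S.le'
  rw [card_cj, S.card_P] at h1
  have : 0 < Nat.card B := Nat.card_pos
  nlinarith [Nat.eq_of_mul_eq_mul_right this h1]

theorem relIndex_D_two (S : Setup P B h) : (D P h 2).relIndex (D P h 1) = 2 := by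
  rw [D_succ, S.D_one, Subgroup.inf_relIndex_left]
  have h1 : (cj h B).relIndex B ≤ (cj h B).relIndex (cj h P) :=
    Subgroup.relIndex_le_of_le_right S.le' (relIndex_ne_zero' _ _)
  rw [relIndex_cj, S.idx] at h1
  have h2 : (cj h B).relIndex B ≠ 1 := by
    rw [Ne, Subgroup.relIndex_eq_one]
    intro h3
    exact S.neB (cj_eq_of_le h3)
  have h3 : (cj h B).relIndex B ∣ Nat.card B := Subgroup.relIndex_dvd_card _ _
  obtain ⟨n, hn⟩ := S.two.exists_card_eq
  rw [hn] at h3
  obtain ⟨m, _, hm⟩ := (Nat.dvd_prime_pow Nat.prime_two).1 h3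
  rw [hm] at h1 h2 ⊢
  have : m = 1 := by
    rcases m with _ | _ | m
    · simp at h2
    · rfl
    · exfalso
      have : 2 ^ (m + 1 + 1) ≥ 4 := by
        have := Nat.one_le_two_pow (n := m)
        calc 2 ^ (m + 1 + 1) = 2 ^ m * 4 := by ring
          _ ≥ 4 := by omega
      omega
  rw [this]; rfl

/-- each step of the chain has index at most two -/
theorem relIndex_D_le (S : Setup P B h) (j : ℕ) : (D P h (j + 2)).relIndex (D P h (j + 1)) ≤ 2 := by
  induction j with
  | zero => exact S.relIndex_D_two.le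
  | succ j ih =>
    rw [D_succ P h (j + 1 + 1), Subgroup.inf_relIndex_left]
    have h1 : (cj h (D P h (j + 2))).relIndex (D P h (j + 2)) ≤
        (cj h (D P h (j + 2))).relIndex (cj h (D P h (j + 1))) :=
      Subgroup.relIndex_le_of_le_right (D_succ_le' P h (j + 1)) (relIndex_ne_zero' _ _)
    rw [relIndex_cj] at h1
    exact h1.trans ih

theorem D_le_B (S : Setup P B h) (j : ℕ) : D P h (j + 1) ≤ B := by
  rw [← S.D_one]; exact D_anti P h (by omega)

end Setup

end Cfsg.Agent.Lib.Helper7.Sims3
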