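import Mathlib
import Cfsg.Agent.Lib.Helper7.Sims3_2

/-! Sims' theorem (S3385, S3685), part 3: the chain `D j` halves until it is trivial. -/

set_option autoImplicit false

namespace Cfsg.Agent.Lib.Helper7.Sims3

open Cfsg.Agent.Lib.Helper7

variable {G : Type*} [Group G] [Finite G] {P B : Subgroup G} {h : G}

namespace Setup

theorem exists_stable (S : Setup P B h) : ∃ n, 1 ≤ n ∧ D P h (n + 1) = D P h n := by
  by_contra hcon
  push_neg at hcon
  have key : ∀ j, Nat.card (D P h (j + 1)) + j ≤ Nat.card (D P h 1) := by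
    intro j
    induction j with
    | zero => simp
    | succ j ih =>
      have h1 : D P h (j + 1 + 1) < D P h (j + 1) :=
        lt_of_le_of_ne (D_succ_le P h (j + 1)) (hcon (j + 1) (by omega))
      have h2 : Nat.card (D P h (j + 1 + 1)) < Nat.card (D P h (j + 1)) := by
        by_contra h3
        exact h1.ne (Subgroup.eq_of_le_of_card_ge h1.le (not_lt.1 h3))
      omega
  have := key (Nat.card (D P h 1))
  have h0 : 0 < Nat.card (D P h (Nat.card (D P h 1) + 1)) := Nat.card_pos
  omega

open Classical in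
/-- the first index at which the chain stops -/
noncomputable def stop (S : Setup P B h) : ℕ := Nat.find S.exists_stable

theorem one_le_stop (S : Setup P B h) : 1 ≤ S.stop := by
  classical exact (Nat.find_spec S.exists_stable).1

theorem D_stop (S : Setup P B h) : D P h (S.stop + 1) = D P h S.stop := by
  classical exact (Nat.find_spec S.exists_stable).2

theorem D_ne_of_lt (S : Setup P B h) {j : ℕ} (h1 : 1 ≤ j) (h2 : j < S.stop) :
    D P h (j + 1) ≠ D P h j := by
  classical
  intro h3
  exact Nat.find_min S.exists_stable h2 ⟨h1, h3⟩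

theorem relIndex_D_eq_two (S : Setup P B h) {j : ℕ} (h1 : 1 ≤ j) (h2 : j < S.stop) :
    (D P h (j + 1)).relIndex (D P h j) = 2 := by
  obtain ⟨i, rfl⟩ : ∃ i, j = i + 1 := ⟨j - 1, by omega⟩
  have h3 : (D P h (i + 1 + 1)).relIndex (D P h (i + 1)) ≤ 2 := S.relIndex_D_le i
  have h4 : (D P h (i + 1 + 1)).relIndex (D P h (i + 1)) ≠ 1 := by
    rw [Ne, Subgroup.relIndex_eq_one]
    intro h5
    exact S.D_ne_of_lt h1 h2 (le_antisymm (D_succ_le P h (i + 1)) h5)
  have h5 := relIndex_ne_zero' (D P h (i + 1 + 1)) (D P h (i + 1))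
  omega

theorem two_le_stop (S : Setup P B h) : 2 ≤ S.stop := by
  by_contra hcon
  have h1 : S.stop = 1 := by have := S.one_le_stop; omega
  have h2 := S.D_stop
  rw [h1] at h2
  have h3 := S.relIndex_D_two
  rw [h2, Subgroup.relIndex_self] at h3
  omega

theorem cj_D_stop (S : Setup P B h) : cj h (D P h S.stop) = D P h S.stop := by
  apply cj_eq_of_le
  have h1 := S.D_stop
  rw [D_succ] at h1
  exact inf_eq_left.1 h1

theorem h_mem_normalizer (S : Setup P B h) :
    h ∈ Subgroup.normalizer (D P h S.stop : Set G) :=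
  mem_normalizer_iff_cj.2 S.cj_D_stop

theorem not_le_cj (S : Setup P B h) {j : ℕ} (h1 : j + 1 < S.stop) :
    ¬ D P h (j + 1) ≤ cj h (D P h (j + 1)) := by
  intro h2
  have h3 : D P h (j + 1 + 1) = D P h (j + 1) := by
    rw [D_succ]; exact inf_eq_left.2 h2
  exact S.D_ne_of_lt (by omega) h1 h3

theorem cj_D_eq_sup (S : Setup P B h) {j : ℕ} (h1 : j + 1 < S.stop) :
    cj h (D P h j) = cj h (D P h (j + 1)) ⊔ D P h (j + 1) := by
  rcases Nat.eq_zero_or_pos j with rfl | hj
  · symm
    apply sup_eq_of_relIndex_prime Nat.prime_three (cj_mono h (D_succ_le P h 0)) (D_succ_le' P h 0)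
    · rw [relIndex_cj, S.D_one, D_zero, S.idx]
    · exact S.not_le_cj h1
  · symm
    apply sup_eq_of_relIndex_two (cj_mono h (D_succ_le P h j)) (D_succ_le' P h j)
    · rw [relIndex_cj]; exact S.relIndex_D_eq_two hj (by omega)
    · exact S.not_le_cj h1

theorem cj_D_le_normalizer (S : Setup P B h) (m : ℕ) : ∀ j, j + m = S.stop →
    cj h (D P h j) ≤ Subgroup.normalizer (D P h S.stop : Set G) := by
  have hN : cj h⁻¹ (Subgroup.normalizer (D P h S.stop : Set G)) =
      Subgroup.normalizer (D P h S.stop : Set G) :=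
    cj_eq_self_of_mem (Subgroup.inv_mem _ S.h_mem_normalizer)
  induction m using Nat.strong_induction_on with
  | _ m ih =>
    intro j hj
    rcases m with _ | _ | m
    · have : j = S.stop := by omega
      rw [this, S.cj_D_stop]
      exact Subgroup.le_normalizer
    · have hj1 : 1 ≤ j := by have := S.two_le_stop; omega
      have h1 : (cj h (D P h (j + 1))).relIndex (cj h (D P h j)) = 2 := by
        rw [relIndex_cj]; exact S.relIndex_D_eq_two hj1 (by omega)
      have h2 := le_normalizer_of_relIndex_two (cj_mono h (D_succ_le P h j)) h1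
      have h3 : j + 1 = S.stop := by omega
      rw [h3, S.cj_D_stop] at h2
      exact h2
    · have h1 : j + 1 < S.stop := by omega
      rw [S.cj_D_eq_sup h1]
      have h2 := ih (m + 1) (by omega) (j + 1) (by omega)
      apply sup_le h2
      have h3 := cj_mono h⁻¹ h2
      rw [cj_inv_cj, hN] at h3
      exact h3

theorem D_stop_eq_bot (S : Setup P B h) : D P h S.stop = ⊥ := by
  have hN : cj h⁻¹ (Subgroup.normalizer (D P h S.stop : Set G)) =
      Subgroup.normalizer (D P h S.stop : Set G) :=
    cj_eq_self_of_mem (Subgroup.inv_mem _ S.h_mem_normalizer)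
  have h1 : cj h P ≤ Subgroup.normalizer (D P h S.stop : Set G) :=
    S.cj_D_le_normalizer S.stop 0 (by omega)
  have h2 : P ≤ Subgroup.normalizer (D P h S.stop : Set G) := by
    have h3 := cj_mono h⁻¹ h1
    rwa [cj_inv_cj, hN] at h3
  have h3 : Subgroup.normalizer (D P h S.stop : Set G) = ⊤ := by
    by_contra hcon
    have h4 : P = Subgroup.normalizer (D P h S.stop : Set G) := by
      rcases eq_or_lt_of_le h2 with h5 | h5
      · exact h5
      · exact absurd (S.coatom.2 _ h5) hcon
    rw [← h4] at h1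
    exact S.ne (cj_eq_of_ge h1)
  have h4 : (D P h S.stop).Normal := Subgroup.normalizer_eq_top_iff.1 h3
  exact S.core _ h4 (D_anti P h (Nat.zero_le _))

end Setup

end Cfsg.Agent.Lib.Helper7.Sims3
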