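import Mathlib
import Cfsg.Agent.Lib.Helper7.Sims3_3

/-! Sims' theorem (S3385, S3685), part 4: windows `Y x p q = ⟨x p, …, x q⟩` of a sequence. -/

set_option autoImplicit false

namespace Cfsg.Agent.Lib.Helper7.Sims3

open Cfsg.Agent.Lib.Helper7

variable {G : Type*} [Group G]

/-- the window `⟨x p, …, x q⟩` -/
def Y (x : ℤ → G) (p q : ℤ) : Subgroup G := Subgroup.closure (x '' Set.Icc p q)

theorem x_mem_Y (x : ℤ → G) {p q i : ℤ} (h1 : p ≤ i) (h2 : i ≤ q) : x i ∈ Y x p q :=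
  Subgroup.subset_closure ⟨i, ⟨h1, h2⟩, rfl⟩

theorem Y_mono (x : ℤ → G) {p q p' q' : ℤ} (h1 : p' ≤ p) (h2 : q ≤ q') : Y x p q ≤ Y x p' q' :=
  Subgroup.closure_mono (Set.image_mono (Set.Icc_subset_Icc h1 h2))

theorem Y_empty (x : ℤ → G) {p q : ℤ} (h : q < p) : Y x p q = ⊥ := by
  unfold Y
  rw [Set.Icc_eq_empty (not_le.2 h), Set.image_empty, Subgroup.closure_empty]

theorem Y_le (x : ℤ → G) {p q : ℤ} {K : Subgroup G} (h : ∀ i, p ≤ i → i ≤ q → x i ∈ K) :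
    Y x p q ≤ K := by
  unfold Y
  rw [Subgroup.closure_le]
  rintro _ ⟨i, ⟨h1, h2⟩, rfl⟩
  exact h i h1 h2

theorem Y_sup (x : ℤ → G) {p q p' q' : ℤ} (h1 : p ≤ p') (h2 : p' ≤ q + 1) (h3 : q ≤ q')
    (h4 : p' ≤ q' + 1) : Y x p q ⊔ Y x p' q' = Y x p q' := by
  apply le_antisymm
  · exact sup_le (Y_mono x le_rfl h3) (Y_mono x h1 le_rfl)
  · apply Y_le
    intro i hi1 hi2
    by_cases hi : i ≤ q
    · exact (le_sup_left : Y x p q ≤ _) (x_mem_Y x hi1 hi)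
    · exact (le_sup_right : Y x p' q' ≤ _) (x_mem_Y x (by omega) hi2)

theorem Y_self (x : ℤ → G) (p : ℤ) : Y x p p = Subgroup.zpowers (x p) := by
  unfold Y
  rw [Set.Icc_self, Set.image_singleton, Subgroup.zpowers_eq_closure]

/-- a shifting element -/
def IsShift (x : ℤ → G) (h : G) : Prop := ∀ i, h * x i * h⁻¹ = x (i + 1)

theorem IsShift.inv {x : ℤ → G} {h : G} (hs : IsShift x h) (i : ℤ) : h⁻¹ * x i * h = x (i - 1) := by
  have := hs (i - 1)
  rw [sub_add_cancel] at this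
  rw [← this]; group

theorem IsShift.cj_Y {x : ℤ → G} {h : G} (hs : IsShift x h) (p q : ℤ) :
    cj h (Y x p q) = Y x (p + 1) (q + 1) := by
  unfold Y
  rw [cj_closure]
  congr 1
  ext g
  constructor
  · rintro ⟨_, ⟨i, ⟨h1, h2⟩, rfl⟩, rfl⟩
    exact ⟨i + 1, ⟨by omega, by omega⟩, (hs i).symm⟩
  · rintro ⟨i, ⟨h1, h2⟩, rfl⟩
    refine ⟨x (i - 1), ⟨i - 1, ⟨by omega, by omega⟩, rfl⟩, ?_⟩
    have := hs (i - 1)
    rw [sub_add_cancel] at this
    exact this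

theorem IsShift.cj_inv_Y {x : ℤ → G} {h : G} (hs : IsShift x h) (p q : ℤ) :
    cj h⁻¹ (Y x p q) = Y x (p - 1) (q - 1) := by
  have := hs.cj_Y (p - 1) (q - 1)
  rw [sub_add_cancel, sub_add_cancel] at this
  rw [← this, cj_inv_cj]

theorem IsShift.zpow {x : ℤ → G} {h : G} (hs : IsShift x h) (m i : ℤ) :
    h ^ m * x i * (h ^ m)⁻¹ = x (i + m) := by
  induction m using Int.induction_on generalizing i with
  | zero => simp
  | succ m ih =>
    have h1 : h ^ ((m : ℤ) + 1) * x i * (h ^ ((m : ℤ) + 1))⁻¹ =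
        h ^ (m : ℤ) * (h * x i * h⁻¹) * (h ^ (m : ℤ))⁻¹ := by
      rw [zpow_add_one]; group
    rw [h1, hs i, ih (i + 1)]
    congr 1; ring
  | pred m ih =>
    have h1 : h ^ (-(m : ℤ) - 1) * x i * (h ^ (-(m : ℤ) - 1))⁻¹ =
        h ^ (-(m : ℤ)) * (h⁻¹ * x i * h) * (h ^ (-(m : ℤ)))⁻¹ := by
      rw [zpow_sub_one]; group
    rw [h1, hs.inv i, ih (i - 1)]
    congr 1; ring

theorem IsShift.cj_zpow_Y {x : ℤ → G} {h : G} (hs : IsShift x h) (m p q : ℤ) :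
    cj (h ^ m) (Y x p q) = Y x (p + m) (q + m) := by
  unfold Y
  rw [cj_closure]
  congr 1
  ext g
  constructor
  · rintro ⟨_, ⟨i, ⟨h1, h2⟩, rfl⟩, rfl⟩
    exact ⟨i + m, ⟨by omega, by omega⟩, (hs.zpow m i).symm⟩
  · rintro ⟨i, ⟨h1, h2⟩, rfl⟩
    refine ⟨x (i - m), ⟨i - m, ⟨by omega, by omega⟩, rfl⟩, ?_⟩
    have := hs.zpow m (i - m)
    rw [sub_add_cancel] at this
    exact this

theorem IsShift.commute_iff {x : ℤ → G} {h : G} (hs : IsShift x h) (m i j : ℤ) :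
    Commute (x (i + m)) (x (j + m)) ↔ Commute (x i) (x j) := by
  rw [← hs.zpow m i, ← hs.zpow m j]
  constructor
  · intro hc
    have := hc.eq
    have h1 : x i * x j = (h ^ m)⁻¹ * ((h ^ m * x i * (h ^ m)⁻¹) * (h ^ m * x j * (h ^ m)⁻¹)) * h ^ m := by
      group
    have h2 : x j * x i = (h ^ m)⁻¹ * ((h ^ m * x j * (h ^ m)⁻¹) * (h ^ m * x i * (h ^ m)⁻¹)) * h ^ m := by
      group
    show x i * x j = x j * x i
    rw [h1, h2, this]
  · intro hc
    have := hc.eq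
    show (h ^ m * x i * (h ^ m)⁻¹) * (h ^ m * x j * (h ^ m)⁻¹) =
      (h ^ m * x j * (h ^ m)⁻¹) * (h ^ m * x i * (h ^ m)⁻¹)
    have h1 : (h ^ m * x i * (h ^ m)⁻¹) * (h ^ m * x j * (h ^ m)⁻¹) = h ^ m * (x i * x j) * (h ^ m)⁻¹ := by
      group
    have h2 : (h ^ m * x j * (h ^ m)⁻¹) * (h ^ m * x i * (h ^ m)⁻¹) = h ^ m * (x j * x i) * (h ^ m)⁻¹ := by
      group
    rw [h1, h2, this]

/-- an element commuting with the generators centralises the window -/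
theorem commute_of_forall (x : ℤ → G) {p q : ℤ} {g : G}
    (hg : ∀ i, p ≤ i → i ≤ q → Commute g (x i)) {y : G} (hy : y ∈ Y x p q) : Commute g y := by
  have : Y x p q ≤ Subgroup.centralizer {g} := by
    apply Y_le
    intro i h1 h2
    rw [Subgroup.mem_centralizer_iff]
    intro z hz
    rw [Set.mem_singleton_iff] at hz
    rw [hz]
    exact (hg i h1 h2).eq
  have h1 := this hy
  rw [Subgroup.mem_centralizer_iff] at h1
  exact (h1 g rfl)

/-- two windows whose generators commute pairwise commute elementwise -/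
theorem commute_of_forall₂ (x : ℤ → G) {p q p' q' : ℤ}
    (hg : ∀ i j, p ≤ i → i ≤ q → p' ≤ j → j ≤ q' → Commute (x i) (x j)) {y z : G}
    (hy : y ∈ Y x p q) (hz : z ∈ Y x p' q') : Commute y z := by
  apply commute_of_forall x _ hz
  intro j h1 h2
  exact (commute_of_forall x (fun i h3 h4 => (hg i j h3 h4 h1 h2).symm) hy).symm

end Cfsg.Agent.Lib.Helper7.Sims3
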