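import Mathlib
import Cfsg.Agent.Lib.Helper7.Sims3_4

/-! Sims' theorem (S3385, S3685), part 5: the involution sequence attached to the chain. -/

set_option autoImplicit false

namespace Cfsg.Agent.Lib.Helper7.Sims3

open Cfsg.Agent.Lib.Helper7

variable {G : Type*} [Group G]

/-- a "Tutte sequence": involutions `x i`, shifted by `h`, windows of length `≤ k` have order
`2 ^ length`, the window `⟨x 0, …, x k⟩` has order `3 * 2 ^ k`, and no nontrivial subgroup of
`⟨x 1, …, x k⟩` is normalised by `x 0, …, x (k+1)` -/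
structure TS (x : ℤ → G) (h : G) (k : ℕ) : Prop where
  sq : ∀ i, x i * x i = 1
  ne : ∀ i, x i ≠ 1
  shift : IsShift x h
  card : ∀ p q : ℤ, p ≤ q + 1 → q + 1 - p ≤ k → Nat.card (Y x p q) = 2 ^ (q + 1 - p).toNat
  cardP : Nat.card (Y x 0 k) = 3 * 2 ^ k
  nn : ∀ N : Subgroup G, N ≤ Y x 1 k →
    (∀ i : ℤ, 0 ≤ i → i ≤ k + 1 → x i ∈ Subgroup.normalizer (N : Set G)) → N = ⊥

variable [Finite G] {P B : Subgroup G} {h : G}

namespace Setup

theorem card_D (S : Setup P B h) (m : ℕ) (hm : m < S.stop) :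
    Nat.card (D P h (S.stop - m)) = 2 ^ m := by
  induction m with
  | zero => rw [Nat.sub_zero, S.D_stop_eq_bot, Subgroup.card_bot, pow_zero]
  | succ m ih =>
    have h1 : 1 ≤ S.stop - (m + 1) := by omega
    have h2 : S.stop - (m + 1) < S.stop := by omega
    have h3 := S.relIndex_D_eq_two h1 h2
    have h4 : S.stop - (m + 1) + 1 = S.stop - m := by omega
    rw [h4] at h3
    have h5 : D P h (S.stop - m) ≤ D P h (S.stop - (m + 1)) := D_anti P h (by omega)
    rw [card_eq_relIndex_mul h5, h3, ih (by omega), pow_succ, mul_comm]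

theorem card_B (S : Setup P B h) : Nat.card B = 2 ^ (S.stop - 1) := by
  have := S.card_D (S.stop - 1) (by have := S.two_le_stop; omega)
  have h1 : S.stop - (S.stop - 1) = 1 := by have := S.two_le_stop; omega
  rw [h1, S.D_one] at this
  exact this

theorem exists_gen (S : Setup P B h) : ∃ t : G, t ≠ 1 ∧ t * t = 1 ∧
    D P h (S.stop - 1) = Subgroup.zpowers t := by
  have h1 := S.card_D 1 (by have := S.two_le_stop; omega)
  rw [pow_one] at h1
  have hne : D P h (S.stop - 1) ≠ ⊥ := by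
    intro h2; rw [h2, Subgroup.card_bot] at h1; omega
  obtain ⟨⟨t, ht⟩, ht1⟩ := (Subgroup.ne_bot_iff_exists_ne_one).1 hne
  have ht1' : t ≠ 1 := fun h => ht1 (Subtype.ext h)
  have hd : orderOf t ∣ 2 := by
    rw [← h1]; exact Subgroup.orderOf_dvd_natCard _ ht
  have ho : orderOf t = 2 := by
    rcases (Nat.dvd_prime Nat.prime_two).1 hd with h | h
    · exact absurd (orderOf_eq_one_iff.1 h) ht1'
    · exact h
  refine ⟨t, ht1', ?_, ?_⟩
  · have := pow_orderOf_eq_one t
    rwa [ho, pow_two] at this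
  · symm
    apply Subgroup.eq_of_le_of_card_ge (Subgroup.zpowers_le.2 ht)
    rw [Nat.card_zpowers, ho, h1]

theorem D_eq_sup (S : Setup P B h) {j : ℕ} (h1 : j + 1 < S.stop) :
    D P h j = cj h⁻¹ (D P h (j + 1)) ⊔ D P h (j + 1) := by
  have h2 := congrArg (cj h⁻¹) (S.cj_D_eq_sup h1)
  rw [cj_inv_cj, cj_sup, cj_inv_cj, sup_comm] at h2
  exact h2

end Setup

/-- the sequence attached to a generator `t` of `D (stop - 1)` -/
def seq (h t : G) (k : ℕ) (i : ℤ) : G := h ^ (i - k) * t * (h ^ (i - k))⁻¹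

theorem seq_shift (h t : G) (k : ℕ) : IsShift (seq h t k) h := by
  intro i
  unfold seq
  have : i + 1 - (k : ℤ) = 1 + (i - k) := by ring
  rw [this, zpow_add, zpow_one]
  group

theorem seq_k (h t : G) (k : ℕ) : seq h t k k = t := by
  unfold seq; simp

theorem seq_sq (h t : G) (k : ℕ) (ht : t * t = 1) (i : ℤ) : seq h t k i * seq h t k i = 1 := by
  unfold seq
  have : h ^ (i - k) * t * (h ^ (i - k))⁻¹ * (h ^ (i - k) * t * (h ^ (i - k))⁻¹) =
      h ^ (i - k) * (t * t) * (h ^ (i - k))⁻¹ := by group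
  rw [this, ht]; group

theorem seq_ne (h t : G) (k : ℕ) (ht : t ≠ 1) (i : ℤ) : seq h t k i ≠ 1 := by
  unfold seq
  intro h1
  apply ht
  have : t = (h ^ (i - k))⁻¹ * (h ^ (i - k) * t * (h ^ (i - k))⁻¹) * h ^ (i - k) := by group
  rw [this, h1]; group

namespace Setup

theorem D_eq_Y (S : Setup P B h) {t : G} (ht : D P h (S.stop - 1) = Subgroup.zpowers t)
    (m : ℕ) (hm : m ≤ S.stop - 1) :
    D P h (S.stop - 1 - m) = Y (seq h t (S.stop - 1)) ((S.stop - 1 - m : ℕ) : ℤ) ((S.stop - 1 : ℕ) : ℤ) := by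
  induction m with
  | zero =>
    rw [Nat.sub_zero, Y_self, seq_k, ht]
  | succ m ih =>
    have h1 : S.stop - 1 - (m + 1) + 1 = S.stop - 1 - m := by omega
    have h2 : S.stop - 1 - (m + 1) + 1 < S.stop := by omega
    rw [S.D_eq_sup h2, h1, ih (by omega), (seq_shift h t (S.stop - 1)).cj_inv_Y]
    have h3 : ((S.stop - 1 - (m + 1) : ℕ) : ℤ) = ((S.stop - 1 - m : ℕ) : ℤ) - 1 := by omega
    rw [h3]
    apply Y_sup <;> omega

end Setup

end Cfsg.Agent.Lib.Helper7.Sims3
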