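import Mathlib
import Cfsg.Agent.Lib.Helper7.Sims3_5

/-! Sims' theorem (S3385, S3685), part 6: a `Setup` gives a Tutte sequence. -/

set_option autoImplicit false

namespace Cfsg.Agent.Lib.Helper7.Sims3

open Cfsg.Agent.Lib.Helper7

variable {G : Type*} [Group G] [Finite G] {P B : Subgroup G} {h : G}

namespace Setup

theorem sup_eq_top (S : Setup P B h) : P ⊔ cj h P = ⊤ := by
  by_contra hcon
  have h0 : P ≤ P ⊔ cj h P := le_sup_left
  have h1 : P ⊔ cj h P = P := by
    rcases eq_or_lt_of_le h0 with h5 | h5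
    · exact h5.symm
    · exact absurd (S.coatom.2 _ h5) hcon
  have h3 : cj h P ≤ P := by
    have h4 : cj h P ≤ P ⊔ cj h P := le_sup_right
    rwa [h1] at h4
  exact S.ne (cj_eq_of_ge h3)

theorem exists_TS (S : Setup P B h) : ∃ (x : ℤ → G) (k : ℕ), 1 ≤ k ∧ TS x h k ∧
    Y x 0 k = P ∧ Y x 1 k = B ∧ Y x 1 (k + 1) = cj h P := by
  obtain ⟨t, ht1, htt, htD⟩ := S.exists_gen
  have hstop := S.two_le_stop
  set k := S.stop - 1 with hk
  have hk1 : 1 ≤ k := by omega
  set x := seq h t k with hx
  have hs : IsShift x h := seq_shift h t k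
  have hDY : ∀ j : ℕ, j ≤ k → D P h j = Y x (j : ℤ) (k : ℤ) := by
    intro j hj
    have := S.D_eq_Y htD (k - j) (by omega)
    have h1 : S.stop - 1 - (k - j) = j := by omega
    rw [h1] at this
    exact this
  have hP : Y x 0 k = P := by
    have := hDY 0 (by omega)
    rw [D_zero] at this
    exact_mod_cast this.symm
  have hB : Y x 1 k = B := by
    have := hDY 1 hk1
    rw [S.D_one] at this
    exact_mod_cast this.symm
  have hP1 : Y x 1 (k + 1) = cj h P := by
    rw [← hP, hs.cj_Y]; norm_num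
  have hcardD : ∀ j : ℕ, 1 ≤ j → j ≤ k → Nat.card (D P h j) = 2 ^ (k + 1 - j) := by
    intro j hj1 hj2
    have := S.card_D (S.stop - j) (by omega)
    have h1 : S.stop - (S.stop - j) = j := by omega
    rw [h1] at this
    rw [this]; congr 1; omega
  refine ⟨x, k, hk1, ⟨seq_sq h t k htt, seq_ne h t k ht1, hs, ?_, ?_, ?_⟩, hP, hB, hP1⟩
  · intro p q hpq hqk
    rcases eq_or_lt_of_le hpq with h1 | h1
    · rw [Y_empty x (by omega), Subgroup.card_bot]
      have : (q + 1 - p).toNat = 0 := by omega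
      rw [this, pow_zero]
    · obtain ⟨j, hj⟩ : ∃ j : ℕ, (j : ℤ) = p - q + k := ⟨(p - q + k).toNat, by omega⟩
      have h2 := hs.cj_zpow_Y (q - k) (j : ℤ) (k : ℤ)
      have h3 : (j : ℤ) + (q - ↑k) = p := by omega
      have h4 : (k : ℤ) + (q - ↑k) = q := by ring
      rw [h3, h4] at h2
      rw [← h2, card_cj, ← hDY j (by omega), hcardD j (by omega) (by omega)]
      congr 1; omega
  · rw [hP, S.card_P, S.card_B]
  · intro N hN hnorm
    have h1 : P ≤ Subgroup.normalizer (N : Set G) := by
      rw [← hP]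
      apply Y_le
      intro i hi1 hi2
      exact hnorm i hi1 (by omega)
    have h2 : cj h P ≤ Subgroup.normalizer (N : Set G) := by
      rw [← hP1]
      apply Y_le
      intro i hi1 hi2
      exact hnorm i (by omega) hi2
    have h3 : Subgroup.normalizer (N : Set G) = ⊤ := by
      rw [eq_top_iff, ← S.sup_eq_top]
      exact sup_le h1 h2
    have h4 : N.Normal := Subgroup.normalizer_eq_top_iff.1 h3
    exact S.core N h4 ((hN.trans hB.le).trans S.le)

end Setup

end Cfsg.Agent.Lib.Helper7.Sims3
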