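import Mathlib
import Cfsg.Agent.Lib.Helper7.Sims3_6

/-! Sims' theorem (S3385, S3685), part 7: basic algebra of a Tutte sequence. -/

set_option autoImplicit false

namespace Cfsg.Agent.Lib.Helper7.Sims3

open Cfsg.Agent.Lib.Helper7

variable {G : Type*} [Group G] [Finite G]

theorem mul_mem_of_relIndex_two {H L : Subgroup G} (hHL : H ≤ L) (h2 : H.relIndex L = 2) {a b : G}
    (ha : a ∈ L) (hb : b ∈ L) (ha' : a ∉ H) (hb' : b ∉ H) : a * b ∈ H := by
  have h3 : (⟨a, ha⟩ : L) * ⟨b, hb⟩ ∈ H.subgroupOf L := by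
    rw [Subgroup.mul_mem_iff_of_index_two h2]
    simp only [Subgroup.mem_subgroupOf]
    exact ⟨fun h => absurd h ha', fun h => absurd h hb'⟩
  exact h3

theorem conj_mem_of_relIndex_two {H L : Subgroup G} (hHL : H ≤ L) (h2 : H.relIndex L = 2) {g a : G}
    (hg : g ∈ L) (ha : a ∈ H) : g * a * g⁻¹ ∈ H := by
  have h3 := le_normalizer_of_relIndex_two hHL h2 hg
  exact (Subgroup.mem_normalizer_iff.1 h3 a).1 ha

variable {x : ℤ → G} {h : G} {k : ℕ}

namespace TS

theorem inv_eq (T : TS x h k) (i : ℤ) : (x i)⁻¹ = x i :=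
  inv_eq_of_mul_eq_one_left (T.sq i)

theorem not_mem_left (T : TS x h k) {p q : ℤ} (h1 : p ≤ q) (h2 : q + 1 - p ≤ k) :
    x p ∉ Y x (p + 1) q := by
  intro h3
  have h4 : Y x p q ≤ Y x (p + 1) q := by
    apply Y_le
    intro i hi1 hi2
    rcases eq_or_lt_of_le hi1 with h5 | h5
    · rw [← h5]; exact h3
    · exact x_mem_Y x (by omega) hi2
  have h5 := Subgroup.card_le_of_le h4
  rw [T.card p q (by omega) h2, T.card (p + 1) q (by omega) (by omega)] at h5
  have h6 : (q + 1 - p).toNat = (q + 1 - (p + 1)).toNat + 1 := by omega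
  rw [h6, pow_succ] at h5
  have := Nat.one_le_two_pow (n := (q + 1 - (p + 1)).toNat)
  omega

theorem not_mem_right (T : TS x h k) {p q : ℤ} (h1 : p ≤ q) (h2 : q + 1 - p ≤ k) :
    x q ∉ Y x p (q - 1) := by
  intro h3
  have h4 : Y x p q ≤ Y x p (q - 1) := by
    apply Y_le
    intro i hi1 hi2
    rcases eq_or_lt_of_le hi2 with h5 | h5
    · rw [h5]; exact h3
    · exact x_mem_Y x hi1 (by omega)
  have h5 := Subgroup.card_le_of_le h4
  rw [T.card p q (by omega) h2, T.card p (q - 1) (by omega) (by omega)] at h5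
  have h6 : (q + 1 - p).toNat = (q - 1 + 1 - p).toNat + 1 := by omega
  rw [h6, pow_succ] at h5
  have := Nat.one_le_two_pow (n := (q - 1 + 1 - p).toNat)
  omega

theorem relIndex_left (T : TS x h k) {p q : ℤ} (h1 : p ≤ q) (h2 : q + 1 - p ≤ k) :
    (Y x (p + 1) q).relIndex (Y x p q) = 2 := by
  have h3 := card_eq_relIndex_mul (Y_mono x (by omega : p ≤ p + 1) (le_refl q))
  rw [T.card p q (by omega) h2, T.card (p + 1) q (by omega) (by omega)] at h3
  have h6 : (q + 1 - p).toNat = (q + 1 - (p + 1)).toNat + 1 := by omega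
  rw [h6, pow_succ] at h3
  have := Nat.one_le_two_pow (n := (q + 1 - (p + 1)).toNat)
  nlinarith

theorem relIndex_right (T : TS x h k) {p q : ℤ} (h1 : p ≤ q) (h2 : q + 1 - p ≤ k) :
    (Y x p (q - 1)).relIndex (Y x p q) = 2 := by
  have h3 := card_eq_relIndex_mul (Y_mono x (le_refl p) (by omega : q - 1 ≤ q))
  rw [T.card p q (by omega) h2, T.card p (q - 1) (by omega) (by omega)] at h3
  have h6 : (q + 1 - p).toNat = (q - 1 + 1 - p).toNat + 1 := by omega
  rw [h6, pow_succ] at h3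
  have := Nat.one_le_two_pow (n := (q - 1 + 1 - p).toNat)
  nlinarith

/-- left coset decomposition of a window -/
theorem mem_left_cases (T : TS x h k) {p q : ℤ} (h1 : p ≤ q) (h2 : q + 1 - p ≤ k) {g : G}
    (hg : g ∈ Y x p q) : g ∈ Y x (p + 1) q ∨ ∃ g' ∈ Y x (p + 1) q, g = x p * g' := by
  by_cases hg' : g ∈ Y x (p + 1) q
  · exact Or.inl hg'
  · right
    refine ⟨x p * g, ?_, ?_⟩
    · exact mul_mem_of_relIndex_two (Y_mono x (by omega) le_rfl) (T.relIndex_left h1 h2)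
        (x_mem_Y x le_rfl h1) hg (T.not_mem_left h1 h2) hg'
    · rw [← mul_assoc, T.sq, one_mul]

/-- right coset decomposition of a window -/
theorem mem_right_cases (T : TS x h k) {p q : ℤ} (h1 : p ≤ q) (h2 : q + 1 - p ≤ k) {g : G}
    (hg : g ∈ Y x p q) : g ∈ Y x p (q - 1) ∨ ∃ g' ∈ Y x p (q - 1), g = g' * x q := by
  by_cases hg' : g ∈ Y x p (q - 1)
  · exact Or.inl hg'
  · right
    refine ⟨g * x q, ?_, ?_⟩
    · exact mul_mem_of_relIndex_two (Y_mono x le_rfl (by omega)) (T.relIndex_right h1 h2)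
        hg (x_mem_Y x h1 le_rfl) hg' (T.not_mem_right h1 h2)
    · rw [mul_assoc, T.sq, mul_one]

theorem inf_eq (T : TS x h k) {p q : ℤ} (h1 : p < q) (h2 : q + 1 - p ≤ k) :
    Y x p (q - 1) ⊓ Y x (p + 1) q = Y x (p + 1) (q - 1) := by
  symm
  apply Subgroup.eq_of_le_of_card_ge
    (le_inf (Y_mono x (by omega) le_rfl) (Y_mono x le_rfl (by omega)))
  have h3 : (Y x p (q - 1) ⊓ Y x (p + 1) q).relIndex (Y x p (q - 1)) = 2 := by
    rw [Subgroup.inf_relIndex_left]
    have h4 : (Y x (p + 1) q).relIndex (Y x p (q - 1)) ≤ (Y x (p + 1) q).relIndex (Y x p q) :=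
      Subgroup.relIndex_le_of_le_right (Y_mono x le_rfl (by omega)) (relIndex_ne_zero' _ _)
    rw [T.relIndex_left h1.le h2] at h4
    have h5 : (Y x (p + 1) q).relIndex (Y x p (q - 1)) ≠ 1 := by
      rw [Ne, Subgroup.relIndex_eq_one]
      intro h6
      exact T.not_mem_left h1.le h2 (h6 (x_mem_Y x le_rfl (by omega)))
    have h6 := relIndex_ne_zero' (Y x (p + 1) q) (Y x p (q - 1))
    omega
  have h4 := card_eq_relIndex_mul (inf_le_left : Y x p (q - 1) ⊓ Y x (p + 1) q ≤ Y x p (q - 1))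
  rw [h3, T.card p (q - 1) (by omega) (by omega)] at h4
  rw [T.card (p + 1) (q - 1) (by omega) (by omega)]
  have h6 : (q - 1 + 1 - p).toNat = (q - 1 + 1 - (p + 1)).toNat + 1 := by omega
  rw [h6, pow_succ] at h4
  omega

/-- the commutator of the end points lies in the inner window -/
theorem comm_mem (T : TS x h k) {p q : ℤ} (h1 : p < q) (h2 : q + 1 - p ≤ k) :
    x p * x q * (x p)⁻¹ * (x q)⁻¹ ∈ Y x (p + 1) (q - 1) := by
  rw [← T.inf_eq h1 h2]
  refine Subgroup.mem_inf.2 ⟨?_, ?_⟩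
  · have h3 : x q * (x p)⁻¹ * (x q)⁻¹ ∈ Y x p (q - 1) :=
      conj_mem_of_relIndex_two (Y_mono x le_rfl (by omega)) (T.relIndex_right h1.le h2)
        (x_mem_Y x h1.le le_rfl) (Subgroup.inv_mem _ (x_mem_Y x le_rfl (by omega)))
    have h4 : x p * x q * (x p)⁻¹ * (x q)⁻¹ = x p * (x q * (x p)⁻¹ * (x q)⁻¹) := by group
    rw [h4]
    exact Subgroup.mul_mem _ (x_mem_Y x le_rfl (by omega)) h3
  · have h3 : x p * x q * (x p)⁻¹ ∈ Y x (p + 1) q :=
      conj_mem_of_relIndex_two (Y_mono x (by omega) le_rfl) (T.relIndex_left h1.le h2)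
        (x_mem_Y x le_rfl h1.le) (x_mem_Y x (by omega) le_rfl)
    exact Subgroup.mul_mem _ h3 (Subgroup.inv_mem _ (x_mem_Y x (by omega) le_rfl))

theorem commute_succ (T : TS x h k) (hk : 2 ≤ k) (i : ℤ) : Commute (x i) (x (i + 1)) := by
  have h1 := T.comm_mem (p := i) (q := i + 1) (by omega) (by omega)
  rw [Y_empty x (by omega), Subgroup.mem_bot] at h1
  show x i * x (i + 1) = x (i + 1) * x i
  have h2 : x i * x (i + 1) = (x i * x (i + 1) * (x i)⁻¹ * (x (i + 1))⁻¹) * x (i + 1) * x i := by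
    group
  rw [h2, h1, one_mul]

end TS

end Cfsg.Agent.Lib.Helper7.Sims3
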