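import Mathlib
import Cfsg.Agent.Lib.Helper7.Sims3_7

/-! Sims' theorem (S3385, S3685), part 8: the abelian range `ℓ` of a Tutte sequence; the
commutator `[x 0, x ℓ]` lies in a short window. -/

set_option autoImplicit false

namespace Cfsg.Agent.Lib.Helper7.Sims3

open Cfsg.Agent.Lib.Helper7

variable {G : Type*} [Group G] [Finite G] {x : ℤ → G} {h : G} {k : ℕ}

/-- `x 0` commutes with `x 1, …, x (ℓ - 1)` -/
def Ab (x : ℤ → G) (ℓ : ℕ) : Prop := ∀ j : ℤ, 1 ≤ j → j ≤ (ℓ : ℤ) - 1 → Commute (x 0) (x j)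

namespace TS

theorem comm_dist (T : TS x h k) {ℓ : ℕ} (hab : Ab x ℓ) (i j : ℤ) (h1 : i - j ≤ (ℓ : ℤ) - 1)
    (h2 : j - i ≤ (ℓ : ℤ) - 1) : Commute (x i) (x j) := by
  rcases lt_trichotomy i j with h3 | h3 | h3
  · have := (T.shift.commute_iff i 0 (j - i)).2 (hab (j - i) (by omega) h2)
    rwa [zero_add, sub_add_cancel] at this
  · rw [h3]
  · have := (T.shift.commute_iff j 0 (i - j)).2 (hab (i - j) (by omega) h1)
    rw [zero_add, sub_add_cancel] at this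
    exact this.symm

/-- a window commuting generatorwise with `x i` is centralised, hence normalised -/
theorem mem_normalizer_of_commute (x : ℤ → G) {p q : ℤ} {g : G}
    (hg : ∀ i, p ≤ i → i ≤ q → Commute g (x i)) : g ∈ Subgroup.normalizer (Y x p q : Set G) := by
  apply Subgroup.centralizer_le_normalizer
  rw [Subgroup.mem_centralizer_iff]
  intro y hy
  exact ((commute_of_forall x hg hy).eq).symm

/-- the abelian case: `k ≤ 2` -/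
theorem le_two_of_ab (T : TS x h k) (hab : Ab x k) : k ≤ 2 := by
  by_contra hcon
  have hk : 3 ≤ k := by omega
  have h1 : Y x 2 ((k : ℤ) - 1) = ⊥ := by
    apply T.nn _ (Y_mono x (by omega) (by omega))
    intro i hi1 hi2
    apply mem_normalizer_of_commute
    intro j hj1 hj2
    exact T.comm_dist hab i j (by omega) (by omega)
  have h2 : x 2 ∈ Y x 2 ((k : ℤ) - 1) := x_mem_Y x le_rfl (by omega)
  rw [h1, Subgroup.mem_bot] at h2
  exact T.ne 2 h2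

section nonab

variable {ℓ : ℕ}

/-- conjugating the commutator `c = [a, b]` by `y` when `y` commutes with `b` and
`d = [y, a]` commutes with `b` and `c` -/
theorem conj_comm_left {a b y : G} (hyb : Commute y b)
    (hdb : Commute (y * a * y⁻¹ * a⁻¹) b)
    (hdc : Commute (y * a * y⁻¹ * a⁻¹) (a * b * a⁻¹ * b⁻¹)) :
    Commute y (a * b * a⁻¹ * b⁻¹) := by
  set d := y * a * y⁻¹ * a⁻¹ with hd
  have h1 : y * a * y⁻¹ = d * a := by rw [hd]; group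
  have h2 : y * b * y⁻¹ = b := by rw [hyb.eq]; group
  have h3 : y * (a * b * a⁻¹ * b⁻¹) * y⁻¹ =
      (y * a * y⁻¹) * (y * b * y⁻¹) * (y * a * y⁻¹)⁻¹ * (y * b * y⁻¹)⁻¹ := by group
  have h4 : d⁻¹ * b⁻¹ = b⁻¹ * d⁻¹ := (hdb.inv_inv).eq
  have h5 : d * a * b * (d * a)⁻¹ * b⁻¹ = d * (a * b * a⁻¹) * (d⁻¹ * b⁻¹) := by group
  have h6 : d * (a * b * a⁻¹) * (b⁻¹ * d⁻¹) = d * (a * b * a⁻¹ * b⁻¹) * d⁻¹ := by group
  have h7 : y * (a * b * a⁻¹ * b⁻¹) * y⁻¹ = a * b * a⁻¹ * b⁻¹ := by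
    rw [h3, h1, h2, h5, h4, h6, hdc.eq]; group
  show y * (a * b * a⁻¹ * b⁻¹) = (a * b * a⁻¹ * b⁻¹) * y
  calc y * (a * b * a⁻¹ * b⁻¹) = (y * (a * b * a⁻¹ * b⁻¹) * y⁻¹) * y := by group
    _ = (a * b * a⁻¹ * b⁻¹) * y := by rw [h7]

/-- the mirror image: `y` commutes with `a`, `d = [y, b]` commutes with `a` and `c` -/
theorem conj_comm_right {a b y : G} (hya : Commute y a)
    (hda : Commute (y * b * y⁻¹ * b⁻¹) a)
    (hdc : Commute (y * b * y⁻¹ * b⁻¹) (a * b * a⁻¹ * b⁻¹)) :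
    Commute y (a * b * a⁻¹ * b⁻¹) := by
  set d := y * b * y⁻¹ * b⁻¹ with hd
  have h1 : y * b * y⁻¹ = d * b := by rw [hd]; group
  have h2 : y * a * y⁻¹ = a := by rw [hya.eq]; group
  have h3 : y * (a * b * a⁻¹ * b⁻¹) * y⁻¹ =
      (y * a * y⁻¹) * (y * b * y⁻¹) * (y * a * y⁻¹)⁻¹ * (y * b * y⁻¹)⁻¹ := by group
  have h4 : a * d = d * a := (hda.eq).symm
  have h4' : a⁻¹ * d⁻¹ = d⁻¹ * a⁻¹ := ((hda.inv_inv).eq).symm
  have h5 : a * (d * b) * a⁻¹ * (d * b)⁻¹ = (a * d) * b * (a⁻¹ * d⁻¹) * (d * b⁻¹ * d⁻¹) := by group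
  have h6 : (d * a) * b * (d⁻¹ * a⁻¹) * (d * b⁻¹ * d⁻¹) = d * (a * b * (d⁻¹ * a⁻¹ * d) * b⁻¹) * d⁻¹ := by group
  have h8 : d⁻¹ * a⁻¹ * d = a⁻¹ := by rw [← h4']; group
  have h7 : y * (a * b * a⁻¹ * b⁻¹) * y⁻¹ = a * b * a⁻¹ * b⁻¹ := by
    rw [h3, h1, h2, h5, h4, h4', h6, h8]
    have : d * (a * b * a⁻¹ * b⁻¹) * d⁻¹ = (d * (a * b * a⁻¹ * b⁻¹)) * d⁻¹ := by group
    rw [this, hdc.eq]; group
  show y * (a * b * a⁻¹ * b⁻¹) = (a * b * a⁻¹ * b⁻¹) * y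
  calc y * (a * b * a⁻¹ * b⁻¹) = (y * (a * b * a⁻¹ * b⁻¹) * y⁻¹) * y := by group
    _ = (a * b * a⁻¹ * b⁻¹) * y := by rw [h7]

end nonab

end TS

end Cfsg.Agent.Lib.Helper7.Sims3
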