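import Mathlib
import Cfsg.Agent.Lib.Helper7.Sims3_8

/-! Sims' theorem (S3385, S3685), part 9: the commutator `[x 0, x ℓ]` lies in
`⟨x (k-ℓ), …, x (2ℓ-k)⟩`; numerical consequences. -/

set_option autoImplicit false

namespace Cfsg.Agent.Lib.Helper7.Sims3

open Cfsg.Agent.Lib.Helper7

variable {G : Type*} [Group G] [Finite G] {x : ℤ → G} {h : G} {k : ℕ}

/-- the non-abelian hypotheses: `x 0` commutes with `x 1, …, x (ℓ-1)` but not with `x ℓ`,
`2 ≤ ℓ < k` -/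
structure NA (x : ℤ → G) (k ℓ : ℕ) : Prop where
  ab : Ab x ℓ
  lt : ℓ < k
  two : 2 ≤ ℓ
  nc : ¬ Commute (x 0) (x ℓ)

/-- the commutator `[x 0, x ℓ]` -/
def cm (x : ℤ → G) (ℓ : ℕ) : G := x 0 * x ℓ * (x 0)⁻¹ * (x ℓ)⁻¹

namespace TS

variable {ℓ : ℕ}

theorem cm_mem (T : TS x h k) (N : NA x k ℓ) : cm x ℓ ∈ Y x 1 ((ℓ : ℤ) - 1) := by
  have := T.comm_mem (p := 0) (q := ℓ) (by have := N.two; omega) (by have := N.lt; omega)
  rwa [zero_add] at this

theorem cm_ne (T : TS x h k) (N : NA x k ℓ) : cm x ℓ ≠ 1 := by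
  intro h1
  apply N.nc
  show x 0 * x ℓ = x ℓ * x 0
  have h2 : x 0 * x ℓ = cm x ℓ * x ℓ * x 0 := by unfold cm; group
  rw [h2, h1, one_mul]

theorem nc_shift (T : TS x h k) (N : NA x k ℓ) (m : ℤ) : ¬ Commute (x m) (x (m + ℓ)) := by
  intro h1
  apply N.nc
  have := (T.shift.commute_iff m 0 ℓ).1
  rw [zero_add, add_comm] at this
  exact this h1

theorem stepL (T : TS x h k) (N : NA x k ℓ) (m : ℤ) (h1 : 1 ≤ m) (h2 : m + ℓ ≤ (k : ℤ) - 1)
    (hc : cm x ℓ ∈ Y x m ((ℓ : ℤ) - 1)) : cm x ℓ ∈ Y x (m + 1) ((ℓ : ℤ) - 1) := by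
  have hℓk := N.lt
  have hm : m ≤ (ℓ : ℤ) - 1 := by
    by_contra hcon
    rw [Y_empty x (by omega), Subgroup.mem_bot] at hc
    exact T.cm_ne N hc
  rcases T.mem_left_cases hm (by omega) hc with h3 | ⟨c', hc', hcc'⟩
  · exact h3
  · exfalso
    set y := x (m + ℓ) with hy
    have hyc' : Commute y c' := by
      apply commute_of_forall x _ hc'
      intro i hi1 hi2
      exact T.comm_dist N.ab _ _ (by omega) (by omega)
    have hyb : Commute y (x ℓ) := T.comm_dist N.ab _ _ (by omega) (by omega)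
    have hd : y * x 0 * y⁻¹ * (x 0)⁻¹ ∈ Y x 1 (m + ℓ - 1) := by
      have h4 := T.comm_mem (p := 0) (q := m + ℓ) (by omega) (by omega)
      rw [zero_add] at h4
      have h5 : y * x 0 * y⁻¹ * (x 0)⁻¹ = (x 0 * x (m + ℓ) * (x 0)⁻¹ * (x (m + ℓ))⁻¹)⁻¹ := by
        rw [hy]; group
      rw [h5]
      exact Subgroup.inv_mem _ h4
    have hdb : Commute (y * x 0 * y⁻¹ * (x 0)⁻¹) (x ℓ) := by
      apply Commute.symm
      apply commute_of_forall x _ hd
      intro j hj1 hj2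
      exact T.comm_dist N.ab _ _ (by omega) (by omega)
    have hdc : Commute (y * x 0 * y⁻¹ * (x 0)⁻¹) (x 0 * x ℓ * (x 0)⁻¹ * (x ℓ)⁻¹) := by
      apply commute_of_forall₂ x _ hd hc
      intro i j hi1 hi2 hj1 hj2
      exact T.comm_dist N.ab _ _ (by omega) (by omega)
    have hyc : Commute y (cm x ℓ) := conj_comm_left hyb hdb hdc
    have hym : Commute y (x m) := by
      have h6 : x m = cm x ℓ * c'⁻¹ := by rw [hcc']; group
      rw [h6]
      exact hyc.mul_right hyc'.inv_right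
    exact T.nc_shift N m hym.symm

theorem stepR (T : TS x h k) (N : NA x k ℓ) (a m : ℤ) (h1 : 1 ≤ a)
    (h2 : 2 * (ℓ : ℤ) - m ≤ (k : ℤ) - 1) (h3 : m ≤ (ℓ : ℤ) - 1)
    (hc : cm x ℓ ∈ Y x a m) : cm x ℓ ∈ Y x a (m - 1) := by
  have hℓk := N.lt
  have hm : a ≤ m := by
    by_contra hcon
    rw [Y_empty x (by omega), Subgroup.mem_bot] at hc
    exact T.cm_ne N hc
  rcases T.mem_right_cases hm (by omega) hc with h3 | ⟨c', hc', hcc'⟩
  · exact h3
  · exfalso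
    set y := x (m - ℓ) with hy
    have hyc' : Commute y c' := by
      apply commute_of_forall x _ hc'
      intro i hi1 hi2
      exact T.comm_dist N.ab _ _ (by omega) (by omega)
    have hya : Commute y (x 0) := T.comm_dist N.ab _ _ (by omega) (by omega)
    have hd : y * x ℓ * y⁻¹ * (x ℓ)⁻¹ ∈ Y x (m - ℓ + 1) ((ℓ : ℤ) - 1) := by
      exact T.comm_mem (p := m - ℓ) (q := ℓ) (by omega) (by omega)
    have hda : Commute (y * x ℓ * y⁻¹ * (x ℓ)⁻¹) (x 0) := by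
      apply Commute.symm
      apply commute_of_forall x _ hd
      intro j hj1 hj2
      exact T.comm_dist N.ab _ _ (by omega) (by omega)
    have hdc : Commute (y * x ℓ * y⁻¹ * (x ℓ)⁻¹) (x 0 * x ℓ * (x 0)⁻¹ * (x ℓ)⁻¹) := by
      apply commute_of_forall₂ x _ hd hc
      intro i j hi1 hi2 hj1 hj2
      exact T.comm_dist N.ab _ _ (by omega) (by omega)
    have hyc : Commute y (cm x ℓ) := conj_comm_right hya hda hdc
    have hym : Commute y (x m) := by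
      have h6 : x m = c'⁻¹ * cm x ℓ := by rw [hcc']; group
      rw [h6]
      exact hyc'.inv_right.mul_right hyc
    have := T.nc_shift N (m - ℓ)
    rw [sub_add_cancel] at this
    exact this hym

theorem cm_mem_L (T : TS x h k) (N : NA x k ℓ) (n : ℕ) (hn : (1 : ℤ) + n ≤ (k : ℤ) - ℓ) :
    cm x ℓ ∈ Y x (1 + n) ((ℓ : ℤ) - 1) := by
  induction n with
  | zero => simpa using T.cm_mem N
  | succ n ih =>
    have h1 := T.stepL N (1 + n) (by omega) (by push_cast at hn; omega) (ih (by push_cast at hn ⊢; omega))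
    have h2 : (1 : ℤ) + (n + 1 : ℕ) = 1 + n + 1 := by push_cast; ring
    rw [h2]; exact h1

theorem cm_mem_LR (T : TS x h k) (N : NA x k ℓ) (n : ℕ)
    (hn : 2 * (ℓ : ℤ) - k ≤ (ℓ : ℤ) - 1 - n) :
    cm x ℓ ∈ Y x ((k : ℤ) - ℓ) ((ℓ : ℤ) - 1 - n) := by
  have hℓk := N.lt
  induction n with
  | zero =>
    have := T.cm_mem_L N (k - ℓ - 1) (by omega)
    have h1 : (1 : ℤ) + ((k - ℓ - 1 : ℕ) : ℤ) = (k : ℤ) - ℓ := by omega
    rw [h1] at this
    simpa using this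
  | succ n ih =>
    have h1 := T.stepR N ((k : ℤ) - ℓ) ((ℓ : ℤ) - 1 - n) (by omega)
      (by push_cast at hn; omega) (by omega) (ih (by push_cast at hn ⊢; omega))
    have h2 : (ℓ : ℤ) - 1 - (n + 1 : ℕ) = (ℓ : ℤ) - 1 - n - 1 := by push_cast; ring
    rw [h2]; exact h1

/-- the commutator lies in `⟨x (k-ℓ), …, x (2ℓ-k)⟩` -/
theorem cm_mem_window (T : TS x h k) (N : NA x k ℓ) :
    cm x ℓ ∈ Y x ((k : ℤ) - ℓ) (2 * (ℓ : ℤ) - k) := by
  have hℓk := N.lt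
  by_cases h1 : 2 * (ℓ : ℤ) - k ≤ (ℓ : ℤ) - 1
  · have := T.cm_mem_LR N ((ℓ : ℤ) - 1 - (2 * (ℓ : ℤ) - k)).toNat (by omega)
    have h2 : (ℓ : ℤ) - 1 - (((ℓ : ℤ) - 1 - (2 * (ℓ : ℤ) - k)).toNat : ℤ) = 2 * (ℓ : ℤ) - k := by
      omega
    rwa [h2] at this
  · omega

theorem window_ineq (T : TS x h k) (N : NA x k ℓ) : (k : ℤ) - ℓ ≤ 2 * (ℓ : ℤ) - k := by
  by_contra hcon
  have := T.cm_mem_window N
  rw [Y_empty x (by omega), Subgroup.mem_bot] at this
  exact T.cm_ne N this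

theorem window_le_two (T : TS x h k) (N : NA x k ℓ) : 2 * (ℓ : ℤ) - k ≤ 2 := by
  have hℓk := N.lt
  by_contra hcon
  have h1 : Y x ((k : ℤ) - ℓ + 2) ((ℓ : ℤ) - 1) = ⊥ := by
    apply T.nn _ (Y_mono x (by omega) (by omega))
    intro i hi1 hi2
    apply mem_normalizer_of_commute
    intro j hj1 hj2
    exact T.comm_dist N.ab i j (by omega) (by omega)
  have h2 : x ((k : ℤ) - ℓ + 2) ∈ Y x ((k : ℤ) - ℓ + 2) ((ℓ : ℤ) - 1) :=
    x_mem_Y x le_rfl (by omega)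
  rw [h1, Subgroup.mem_bot] at h2
  exact T.ne _ h2

/-- the possible parameters -/
theorem params (T : TS x h k) (N : NA x k ℓ) :
    (k = 3 ∧ ℓ = 2) ∨ (k = 4 ∧ ℓ = 3) ∨ (k = 6 ∧ ℓ = 4) := by
  have h1 := T.window_ineq N
  have h2 := T.window_le_two N
  have h3 := N.lt
  omega

end TS

end Cfsg.Agent.Lib.Helper7.Sims3
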