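import Mathlib
import Cfsg.Agent.Lib.Helper7.Sims3_9

/-! Sims' theorem (S3385, S3685), part 10: the parameters `(k, ℓ) = (6, 4)` are impossible;
`k ≤ 4`. -/

set_option autoImplicit false

namespace Cfsg.Agent.Lib.Helper7.Sims3

open Cfsg.Agent.Lib.Helper7

variable {G : Type*} [Group G] [Finite G] {x : ℤ → G} {h : G} {k : ℕ}

theorem mem_normalizer_of_conj_mem (x : ℤ → G) {p q : ℤ} {g : G}
    (hg : ∀ j, p ≤ j → j ≤ q → g * x j * g⁻¹ ∈ Y x p q) :
    g ∈ Subgroup.normalizer (Y x p q : Set G) := by
  rw [mem_normalizer_iff_cj]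
  apply cj_eq_of_ge
  unfold Y
  rw [cj_closure, Subgroup.closure_le]
  rintro _ ⟨_, ⟨j, ⟨h1, h2⟩, rfl⟩, rfl⟩
  exact hg j h1 h2

namespace TS

variable {ℓ : ℕ}

/-- windows inside the abelian range consist of involutions -/
theorem sq_of_mem (T : TS x h k) (hab : Ab x ℓ) {p q : ℤ} (hpq : q - p ≤ (ℓ : ℤ) - 1) {g : G}
    (hg : g ∈ Y x p q) : g * g = 1 := by
  unfold Y at hg
  induction hg using Subgroup.closure_induction with
  | mem y hy =>
    obtain ⟨i, _, rfl⟩ := hy
    exact T.sq i
  | one => simp
  | mul a b ha hb iha ihb =>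
    have hc : Commute a b := by
      apply commute_of_forall₂ x _ ha hb
      intro i j hi1 hi2 hj1 hj2
      exact T.comm_dist hab i j (by omega) (by omega)
    calc a * b * (a * b) = a * (b * a) * b := by group
      _ = a * (a * b) * b := by rw [hc.eq]
      _ = (a * a) * (b * b) := by group
      _ = 1 := by rw [iha, ihb, one_mul]
  | inv a ha iha =>
    have : a⁻¹ = a := inv_eq_of_mul_eq_one_left iha
    rw [this, iha]

theorem cm_shift (T : TS x h k) (m : ℤ) :
    x m * x (m + ℓ) * (x m)⁻¹ * (x (m + ℓ))⁻¹ = h ^ m * cm x ℓ * (h ^ m)⁻¹ := by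
  unfold cm
  have h1 := T.shift.zpow m 0
  have h2 := T.shift.zpow m ℓ
  rw [zero_add] at h1
  rw [add_comm] at h2
  rw [← h1, ← h2]
  group

/-- `e = [a, b]` with `e * e = 1`, `a`, `b` involutions: `e` commutes with `b` -/
theorem comm_commute_of_sq {a b : G} (hb : b * b = 1)
    (he : (a * b * a⁻¹ * b⁻¹) * (a * b * a⁻¹ * b⁻¹) = 1) :
    Commute (a * b * a⁻¹ * b⁻¹) b := by
  have hbi : b⁻¹ = b := inv_eq_of_mul_eq_one_left hb
  set e := a * b * a⁻¹ * b⁻¹ with hedef
  have h1 : e * b = a * b * a⁻¹ := by rw [hedef]; group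
  have h2 : (e * b) * (e * b) = 1 := by
    rw [h1]
    calc a * b * a⁻¹ * (a * b * a⁻¹) = a * (b * b) * a⁻¹ := by group
      _ = 1 := by rw [hb]; group
  -- e b e b = 1 and e e = 1 give b e b = e
  show e * b = b * e
  have h3 : b * e * b = e⁻¹ := by
    have : e * (b * e * b) = 1 := by
      calc e * (b * e * b) = (e * b) * (e * b) := by group
        _ = 1 := h2
    exact (inv_eq_of_mul_eq_one_right this).symm
  have h4 : e⁻¹ = e := inv_eq_of_mul_eq_one_left he
  rw [h4] at h3
  calc e * b = (b * e * b) * b := by rw [h3]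
    _ = b * e * (b * b) := by group
    _ = b * e := by rw [hb, mul_one]

theorem mem_zpowers_cases {t g : G} (ht : t * t = 1) (hg : g ∈ Subgroup.zpowers t) :
    g = 1 ∨ g = t := by
  obtain ⟨n, rfl⟩ := Subgroup.mem_zpowers_iff.1 hg
  rcases Int.emod_two_eq_zero_or_one n with h1 | h1
  · left
    obtain ⟨m, rfl⟩ : ∃ m, n = 2 * m := ⟨n / 2, by omega⟩
    rw [zpow_mul, zpow_two, ht, one_zpow]
  · right
    obtain ⟨m, rfl⟩ : ∃ m, n = 2 * m + 1 := ⟨n / 2, by omega⟩
    rw [zpow_add, zpow_mul, zpow_two, ht, one_zpow, one_mul, zpow_one]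

/-- the parameters `(6, 4)` do not occur -/
theorem not_six (T : TS x h 6) (N : NA x 6 4) : False := by
  have hab := N.ab
  -- the commutator is `x 2`
  have hc2 : cm x 4 = x 2 := by
    have h1 := T.cm_mem_window N
    norm_num at h1
    rw [Y_self] at h1
    rcases mem_zpowers_cases (T.sq 2) h1 with h2 | h2
    · exact absurd h2 (T.cm_ne N)
    · exact h2
  have hcm : ∀ m : ℤ, x m * x (m + 4) * (x m)⁻¹ * (x (m + 4))⁻¹ = x (m + 2) := by
    intro m
    have h1 := T.cm_shift (ℓ := 4) m
    rw [hc2, T.shift.zpow, add_comm 2 m] at h1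
    exact_mod_cast h1
  have hcomm : ∀ i j : ℤ, i - j ≤ 3 → j - i ≤ 3 → Commute (x i) (x j) := fun i j h1 h2 =>
    T.comm_dist hab i j (by norm_num; omega) (by norm_num; omega)
  have hA : Y x 2 5 = ⊥ := by
    apply T.nn _ (Y_mono x (by norm_num) (by norm_num))
    intro i hi1 hi2
    have hi2' : i ≤ 7 := by norm_num at hi2; omega
    by_cases hi : 2 ≤ i ∧ i ≤ 5
    · exact Subgroup.le_normalizer (x_mem_Y x hi.1 hi.2)
    · apply mem_normalizer_of_conj_mem
      intro j hj1 hj2
      by_cases hd : i - j ≤ 3 ∧ j - i ≤ 3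
      · have := (hcomm i j hd.1 hd.2).eq
        rw [this, mul_inv_cancel_right]
        exact x_mem_Y x hj1 hj2
      · -- the far pairs
        have hcases : (i = 1 ∧ j = 5) ∨ (i = 6 ∧ j = 2) ∨ (i = 0 ∧ j = 4) ∨ (i = 0 ∧ j = 5) ∨
            (i = 7 ∧ j = 3) ∨ (i = 7 ∧ j = 2) := by omega
        rcases hcases with ⟨rfl, rfl⟩ | ⟨rfl, rfl⟩ | ⟨rfl, rfl⟩ | ⟨rfl, rfl⟩ | ⟨rfl, rfl⟩ | ⟨rfl, rfl⟩
        · have h1 := hcm 1
          norm_num at h1
          have h2 : x 1 * x 5 * (x 1)⁻¹ = x 3 * x 5 := by rw [← h1]; group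
          rw [h2]
          exact Subgroup.mul_mem _ (x_mem_Y x (by norm_num) (by norm_num))
            (x_mem_Y x (by norm_num) (by norm_num))
        · have h1 := hcm 2
          norm_num at h1
          have h2 : x 6 * x 2 * (x 6)⁻¹ = (x 4)⁻¹ * x 2 := by rw [← h1]; group
          rw [h2]
          exact Subgroup.mul_mem _ (Subgroup.inv_mem _ (x_mem_Y x (by norm_num) (by norm_num)))
            (x_mem_Y x (by norm_num) (by norm_num))
        · have h1 := hcm 0
          norm_num at h1
          have h2 : x 0 * x 4 * (x 0)⁻¹ = x 2 * x 4 := by rw [← h1]; group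
          rw [h2]
          exact Subgroup.mul_mem _ (x_mem_Y x (by norm_num) (by norm_num))
            (x_mem_Y x (by norm_num) (by norm_num))
        · -- `e = [x 0, x 5] ∈ ⟨x 2, x 3, x 4⟩`
          have he := T.comm_mem (p := 0) (q := 5) (by norm_num) (by norm_num)
          norm_num at he
          have hesq := T.sq_of_mem hab (p := 1) (q := 4) (by norm_num) he
          have hec := comm_commute_of_sq (T.sq 5) hesq
          have he24 : x 0 * x 5 * (x 0)⁻¹ * (x 5)⁻¹ ∈ Y x 2 4 := by
            rcases T.mem_left_cases (p := 1) (q := 4) (by norm_num) (by norm_num) he with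
              h3 | ⟨e', he', hee'⟩
            · exact h3
            · exfalso
              have h4 : Commute e' (x 5) := by
                apply Commute.symm
                apply commute_of_forall x _ he'
                intro j hj1 hj2
                exact hcomm 5 j (by omega) (by omega)
              have h5 : x 1 = (x 0 * x 5 * (x 0)⁻¹ * (x 5)⁻¹) * e'⁻¹ := by rw [hee']; group
              have h6 : Commute (x 1) (x 5) := by
                rw [h5]; exact hec.mul_left h4.inv_left
              have := T.nc_shift N 1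
              norm_num at this
              exact this h6
          have h2 : x 0 * x 5 * (x 0)⁻¹ = (x 0 * x 5 * (x 0)⁻¹ * (x 5)⁻¹) * x 5 := by group
          rw [h2]
          exact Subgroup.mul_mem _ (Y_mono x (by norm_num) (by norm_num) he24)
            (x_mem_Y x (by norm_num) (by norm_num))
        · have h1 := hcm 3
          norm_num at h1
          have h2 : x 7 * x 3 * (x 7)⁻¹ = (x 5)⁻¹ * x 3 := by rw [← h1]; group
          rw [h2]
          exact Subgroup.mul_mem _ (Subgroup.inv_mem _ (x_mem_Y x (by norm_num) (by norm_num)))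
            (x_mem_Y x (by norm_num) (by norm_num))
        · -- `e = [x 7, x 2] ∈ ⟨x 3, x 4, x 5⟩`
          have he0 := T.comm_mem (p := 2) (q := 7) (by norm_num) (by norm_num)
          norm_num at he0
          have he : x 7 * x 2 * (x 7)⁻¹ * (x 2)⁻¹ ∈ Y x 3 6 := by
            have : x 7 * x 2 * (x 7)⁻¹ * (x 2)⁻¹ = (x 2 * x 7 * (x 2)⁻¹ * (x 7)⁻¹)⁻¹ := by group
            rw [this]; exact Subgroup.inv_mem _ he0
          have hesq := T.sq_of_mem hab (p := 3) (q := 6) (by norm_num) he
          have hec := comm_commute_of_sq (T.sq 2) hesq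
          have he35 : x 7 * x 2 * (x 7)⁻¹ * (x 2)⁻¹ ∈ Y x 3 5 := by
            rcases T.mem_right_cases (p := 3) (q := 6) (by norm_num) (by norm_num) he with
              h3 | ⟨e', he', hee'⟩
            · exact h3
            · exfalso
              norm_num at he'
              have h4 : Commute e' (x 2) := by
                apply Commute.symm
                apply commute_of_forall x _ he'
                intro j hj1 hj2
                exact hcomm 2 j (by omega) (by omega)
              have h5 : x 6 = e'⁻¹ * (x 7 * x 2 * (x 7)⁻¹ * (x 2)⁻¹) := by rw [hee']; group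
              have h6 : Commute (x 6) (x 2) := by
                rw [h5]; exact h4.inv_left.mul_left hec
              have := T.nc_shift N 2
              norm_num at this
              exact this h6.symm
          have h2 : x 7 * x 2 * (x 7)⁻¹ = (x 7 * x 2 * (x 7)⁻¹ * (x 2)⁻¹) * x 2 := by group
          rw [h2]
          exact Subgroup.mul_mem _ (Y_mono x (by norm_num) (by norm_num) he35)
            (x_mem_Y x (by norm_num) (by norm_num))
  have h2 : x 2 ∈ Y x 2 5 := x_mem_Y x le_rfl (by norm_num)
  rw [hA, Subgroup.mem_bot] at h2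
  exact T.ne 2 h2

end TS

end Cfsg.Agent.Lib.Helper7.Sims3
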