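import Mathlib
import Cfsg.Agent.Lib.Helper7.Sims3_10

/-! Sims' theorem (S3385, S3685), part 11: `k ≤ 4` for a Tutte sequence. -/

set_option autoImplicit false

namespace Cfsg.Agent.Lib.Helper7.Sims3

open Cfsg.Agent.Lib.Helper7

variable {G : Type*} [Group G] [Finite G] {x : ℤ → G} {h : G} {k : ℕ}

namespace TS

theorem ab_one (x : ℤ → G) : Ab x 1 := by
  intro j h1 h2
  norm_num at h2
  omega

theorem ab_two (T : TS x h k) (hk : 2 ≤ k) : Ab x 2 := by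
  intro j h1 h2
  norm_num at h2
  have : j = 0 + 1 := by omega
  rw [this]
  exact T.commute_succ hk 0

/-- either the window `⟨x 1, …, x k⟩` is abelian, or there is a non-abelian range -/
theorem ab_or_na (T : TS x h k) (hk : 1 ≤ k) : Ab x k ∨ ∃ ℓ, NA x k ℓ := by
  classical
  set ℓ := Nat.findGreatest (Ab x) k with hℓ
  have h1 : Ab x ℓ := Nat.findGreatest_spec hk (ab_one x)
  have h2 : ℓ ≤ k := Nat.findGreatest_le k
  rcases eq_or_lt_of_le h2 with h3 | h3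
  · left; rw [← h3]; exact h1
  · right
    have hk2 : 2 ≤ k := by
      have : 1 ≤ ℓ := Nat.le_findGreatest hk (ab_one x)
      omega
    have h4 : 2 ≤ ℓ := Nat.le_findGreatest hk2 (T.ab_two hk2)
    have h5 : ¬ Ab x (ℓ + 1) := Nat.findGreatest_is_greatest (Nat.lt_succ_self ℓ) h3
    refine ⟨ℓ, h1, h3, h4, ?_⟩
    intro h6
    apply h5
    intro j hj1 hj2
    by_cases hj : j ≤ (ℓ : ℤ) - 1
    · exact h1 j hj1 hj
    · have : j = ℓ := by push_cast at hj2; omega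
      rw [this]; exact h6

/-- the three cases -/
theorem cases (T : TS x h k) (hk : 1 ≤ k) :
    (k ≤ 2 ∧ Ab x k) ∨ (k = 3 ∧ NA x 3 2) ∨ (k = 4 ∧ NA x 4 3) := by
  rcases T.ab_or_na hk with h1 | ⟨ℓ, hN⟩
  · exact Or.inl ⟨T.le_two_of_ab h1, h1⟩
  · rcases T.params hN with ⟨rfl, rfl⟩ | ⟨rfl, rfl⟩ | ⟨rfl, rfl⟩
    · exact Or.inr (Or.inl ⟨rfl, hN⟩)
    · exact Or.inr (Or.inr ⟨rfl, hN⟩)
    · exact absurd (T.not_six hN) id

theorem k_le_four (T : TS x h k) (hk : 1 ≤ k) : k ≤ 4 := by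
  rcases T.cases hk with ⟨h1, _⟩ | ⟨h1, _⟩ | ⟨h1, _⟩ <;> omega

end TS

end Cfsg.Agent.Lib.Helper7.Sims3
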