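import Mathlib
import Cfsg.Prelude.Def_Characters
import Cfsg.Agent.Lib.Helper4.Characters
import Cfsg.Agent.Lib.Helper8.QB19
import Cfsg.Agent.S0135
import Cfsg.Agent.S0139

set_option autoImplicit false

/-!
# Irreducible characters of simple groups: an involution cannot act as a scalar
-/

namespace Cfsg.Agent.Lib.Helper7.BSW

open Cfsg Cfsg.Agent.Lib.Helper1 Cfsg.Agent.Lib.Helper4
open scoped ComplexConjugate

variable {G : Type*} [Group G]

/-- the degree of an irreducible character divides the group order. -/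
theorem irr_degree_dvd [Finite G] {χ : G → ℂ} (hχ : Cfsg.IsIrrCharacter G χ) {d : ℕ}
    (hd : χ 1 = d) : d ∣ Nat.card G := by
  obtain ⟨n, ρ, hρ, rfl⟩ := hχ
  haveI := hρ
  have h1 := Cfsg.Agent.S0135.result ρ
  rw [Module.finrank_fin_fun] at h1
  rw [Representation.char_one, Module.finrank_fin_fun] at hd
  have : n = d := by exact_mod_cast hd
  rwa [this] at h1

theorem false_of_sq_eq [Fintype G] [IsSimpleGroup G] (hnc : ∃ a b : G, a * b ≠ b * a)
    {Θ : G → ℂ} (hΘ : Cfsg.IsIrrCharacter G Θ) (hΘ1 : Θ 1 = 2) {z : G} (hz : z * z = 1)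
    (hz1 : z ≠ 1) (h : Θ z * Θ z = Θ 1 * Θ 1) : False := by
  have hcomm := Cfsg.Agent.Lib.Helper8.char_commutator_of_sq_eq (isCharacter_of_irr hΘ) hz h
  have hnorm := classInner_irr_self hΘ
  obtain ⟨n, ρ, hirr, hρ⟩ := hΘ
  have hker : ∀ g : G, g ∈ MonoidHom.ker ρ ↔ Θ g = Θ 1 := by
    intro g
    rw [MonoidHom.mem_ker, ← hρ, Representation.char_one]
    exact (Cfsg.Agent.S0139.result ρ g).symm
  have hLn : (MonoidHom.ker ρ).Normal := MonoidHom.normal_ker ρ
  rcases hLn.eq_bot_or_eq_top with hL | hL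
  · -- z is central
    have hzc : z ∈ Subgroup.center G := by
      rw [Subgroup.mem_center_iff]
      intro g
      have h1 : z * g * z⁻¹ * g⁻¹ ∈ MonoidHom.ker ρ := (hker _).2 (hcomm g)
      rw [hL, Subgroup.mem_bot] at h1
      have h2 : z * g = g * z := by
        have := congrArg (fun x => x * g * z) h1
        simpa [mul_assoc] using this
      exact h2.symm
    rcases (Subgroup.normal_of_characteristic (Subgroup.center G)).eq_bot_or_eq_top with hc | hc
    · rw [hc, Subgroup.mem_bot] at hzc
      exact hz1 hzc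
    · obtain ⟨a, b, hab⟩ := hnc
      apply hab
      have ha : a ∈ Subgroup.center G := by rw [hc]; trivial
      rw [Subgroup.mem_center_iff] at ha
      exact (ha b).symm
  · -- Θ is constant
    have hconst : ∀ g : G, Θ g = 2 := by
      intro g
      have : g ∈ MonoidHom.ker ρ := by rw [hL]; trivial
      rw [← hΘ1]
      exact (hker g).1 this
    rw [classInner_def] at hnorm
    simp only [hconst] at hnorm
    rw [Finset.sum_const, Finset.card_univ, nsmul_eq_mul, Nat.card_eq_fintype_card] at hnorm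
    have hG0 : (Fintype.card G : ℂ) ≠ 0 := Nat.cast_ne_zero.mpr Fintype.card_pos.ne'
    have h2 : (2 : ℂ) * conj (2 : ℂ) = 4 := by
      rw [map_ofNat]; norm_num
    rw [h2, ← mul_assoc, inv_mul_cancel₀ hG0, one_mul] at hnorm
    norm_num at hnorm

end Cfsg.Agent.Lib.Helper7.BSW
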