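import Mathlib

set_option autoImplicit false

/-!
# A self-centralizing subgroup of prime order: group-theoretic facts

`x` has prime order `p` and `C_G(x) = ⟨x⟩`.  Then `K = ⟨x⟩` is a T.I. subgroup containing the
centralizer of each of its non-identity elements, and `N_G(K)/K` is abelian.
-/

namespace Cfsg.Agent.Lib.Helper7.PTI

open Subgroup
open scoped commutatorElement

variable {G : Type*} [Group G]

/-- The configuration: `x` of prime order `p`, self-centralizing. -/
structure Cfg (x : G) (p : ℕ) : Prop where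
  prime : p.Prime
  order : orderOf x = p
  cent : Subgroup.centralizer ({x} : Set G) = Subgroup.zpowers x

variable {x : G} {p : ℕ}

theorem Cfg.card_K (h : Cfg x p) : Nat.card (zpowers x) = p := by
  rw [Nat.card_zpowers, h.order]

theorem Cfg.x_ne_one (h : Cfg x p) : x ≠ 1 := by
  intro h1
  have := h.order
  rw [h1, orderOf_one] at this
  exact h.prime.one_lt.ne this

theorem Cfg.finite_K (h : Cfg x p) : Finite (zpowers x) := by
  apply Nat.finite_of_card_ne_zero
  rw [h.card_K]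
  exact h.prime.ne_zero

theorem Cfg.orderOf_eq (h : Cfg x p) {k : G} (hk : k ∈ zpowers x) (hk1 : k ≠ 1) :
    orderOf k = p := by
  haveI := h.finite_K
  have h1 : orderOf (⟨k, hk⟩ : zpowers x) ∣ Nat.card (zpowers x) := orderOf_dvd_natCard _
  rw [h.card_K] at h1
  have h2 : orderOf (⟨k, hk⟩ : zpowers x) = orderOf k := by
    rw [← Subgroup.orderOf_coe]
  rw [h2] at h1
  rcases (Nat.dvd_prime h.prime).mp h1 with h3 | h3
  · exact absurd (orderOf_eq_one_iff.mp h3) hk1
  · exact h3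

theorem Cfg.zpowers_eq (h : Cfg x p) {k : G} (hk : k ∈ zpowers x) (hk1 : k ≠ 1) :
    zpowers k = zpowers x := by
  haveI := h.finite_K
  apply Subgroup.eq_of_le_of_card_ge
  · rw [Subgroup.zpowers_le]; exact hk
  · rw [Nat.card_zpowers, Nat.card_zpowers, h.orderOf_eq hk hk1, h.order]

theorem Cfg.cent_le (h : Cfg x p) {k : G} (hk : k ∈ zpowers x) (hk1 : k ≠ 1) :
    Subgroup.centralizer ({k} : Set G) ≤ zpowers x := by
  have h1 : Subgroup.centralizer ({k} : Set G) = Subgroup.centralizer ({x} : Set G) := by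
    rw [← Subgroup.centralizer_closure ({k} : Set G), ← Subgroup.centralizer_closure ({x} : Set G),
      ← Subgroup.zpowers_eq_closure, ← Subgroup.zpowers_eq_closure, h.zpowers_eq hk hk1]
  rw [h1, h.cent]

theorem Cfg.TI (h : Cfg x p) : ∀ g : G, g ∉ Subgroup.normalizer ((zpowers x : Subgroup G) : Set G) →
    ∀ k ∈ zpowers x, g * k * g⁻¹ ∈ zpowers x → k = 1 := by
  intro g hg k hk hgk
  by_contra hk1
  apply hg
  have hgk1 : g * k * g⁻¹ ≠ 1 := by
    intro h1
    apply hk1
    have : k = g⁻¹ * (g * k * g⁻¹) * g := by group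
    rw [this, h1]; group
  have e1 := h.zpowers_eq hk hk1
  have e2 := h.zpowers_eq hgk hgk1
  rw [Subgroup.mem_normalizer_iff]
  intro y
  constructor
  · intro hy
    rw [← e1] at hy
    obtain ⟨n, rfl⟩ := Subgroup.mem_zpowers_iff.mp hy
    rw [← conj_zpow, ← e2]
    exact Subgroup.zpow_mem_zpowers _ n
  · intro hy
    rw [← e2] at hy
    obtain ⟨n, hn⟩ := Subgroup.mem_zpowers_iff.mp hy
    rw [conj_zpow] at hn
    have : y = k ^ n := by
      have h3 : g⁻¹ * (g * k ^ n * g⁻¹) * g = g⁻¹ * (g * y * g⁻¹) * g := by rw [hn]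
      have h4 : g⁻¹ * (g * k ^ n * g⁻¹) * g = k ^ n := by group
      have h5 : g⁻¹ * (g * y * g⁻¹) * g = y := by group
      rw [h4, h5] at h3
      exact h3.symm
    rw [this, ← e1]
    exact Subgroup.zpow_mem_zpowers _ n

/-- the commutator of two elements of the normalizer lies in `K`. -/
theorem Cfg.commutator_mem (h : Cfg x p) {a b : G}
    (ha : a ∈ Subgroup.normalizer ((zpowers x : Subgroup G) : Set G))
    (hb : b ∈ Subgroup.normalizer ((zpowers x : Subgroup G) : Set G)) :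
    ⁅a, b⁆ ∈ zpowers x := by
  have hxK : x ∈ zpowers x := Subgroup.mem_zpowers x
  have hax : a * x * a⁻¹ ∈ zpowers x := (Subgroup.mem_normalizer_iff.mp ha x).mp hxK
  have hbx : b * x * b⁻¹ ∈ zpowers x := (Subgroup.mem_normalizer_iff.mp hb x).mp hxK
  obtain ⟨i, hi⟩ := Subgroup.mem_zpowers_iff.mp hax
  obtain ⟨j, hj⟩ := Subgroup.mem_zpowers_iff.mp hbx
  -- (ab) x (ab)⁻¹ = x^(j*i) = (ba) x (ba)⁻¹
  have h1 : (a * b) * x * (a * b)⁻¹ = x ^ (i * j) := by
    have : (a * b) * x * (a * b)⁻¹ = a * (b * x * b⁻¹) * a⁻¹ := by group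
    rw [this, ← hj, ← conj_zpow, ← hi, ← zpow_mul]
  have h2 : (b * a) * x * (b * a)⁻¹ = x ^ (i * j) := by
    have : (b * a) * x * (b * a)⁻¹ = b * (a * x * a⁻¹) * b⁻¹ := by group
    rw [this, ← hi, ← conj_zpow, ← hj, ← zpow_mul, mul_comm]
  -- ⁅a,b⁆ centralizes y := x^(i*j)
  set y := x ^ (i * j) with hy
  have hyK : y ∈ zpowers x := Subgroup.zpow_mem_zpowers _ _
  have hy1 : y ≠ 1 := by
    intro h0
    rw [h0] at h1
    apply h.x_ne_one
    have : x = (a * b)⁻¹ * ((a * b) * x * (a * b)⁻¹) * (a * b) := by group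
    rw [this, h1]; group
  apply h.cent_le hyK hy1
  rw [Subgroup.mem_centralizer_singleton_iff]
  -- ⁅a,b⁆ * y = y * ⁅a,b⁆
  have h3 : ⁅a, b⁆ = (a * b) * (b * a)⁻¹ := by
    rw [commutatorElement_def]; group
  rw [h3]
  calc (a * b) * (b * a)⁻¹ * y = (a * b) * (b * a)⁻¹ * ((b * a) * x * (b * a)⁻¹) := by rw [h2]
    _ = ((a * b) * x * (a * b)⁻¹) * ((a * b) * (b * a)⁻¹) := by group
    _ = y * ((a * b) * (b * a)⁻¹) := by rw [h1]

end Cfsg.Agent.Lib.Helper7.PTI
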