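import Mathlib
import Cfsg.Agent.Lib.Helper7.PTI1
import Cfsg.Agent.Lib.Helper2.FZ32
import Cfsg.Agent.Lib.Helper4.TE1

set_option autoImplicit false

/-!
# Abelian T.I. subgroup with abelian quotient `N/K`: coherence data

`K` is an abelian T.I. subgroup of `G` containing the centralizers of its non-identity elements,
`N = N_G(K)`, `N/K` abelian of order `e ≥ 2`, and `e (e + 2) < |K|`.  We collect the coherence
data from the Feit–Sibley development of Helper2.
-/

namespace Cfsg.Agent.Lib.Helper7.PTI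

open Cfsg Cfsg.Agent.Lib.Helper1 Cfsg.Agent.Lib.Helper2 Cfsg.Agent.Lib.Helper4
open scoped ComplexConjugate commutatorElement

variable {G : Type*} [Group G]

/-- the normalizer of `K`. -/
abbrev NK (K : Subgroup G) : Subgroup G := Subgroup.normalizer (K : Set G)

/-- `K` as a subgroup of its normalizer. -/
abbrev LK (K : Subgroup G) : Subgroup (NK K) := K.subgroupOf (NK K)

/-- The hypotheses. -/
structure Base (K : Subgroup G) (e : ℕ) : Prop where
  hTI : ∀ g : G, g ∉ Subgroup.normalizer (K : Set G) → ∀ k ∈ K, g * k * g⁻¹ ∈ K → k = 1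
  hC : ∀ k ∈ K, k ≠ 1 → Subgroup.centralizer ({k} : Set G) ≤ K
  hab : ∀ a ∈ K, ∀ b ∈ K, a * b = b * a
  hcomm : ∀ a ∈ Subgroup.normalizer (K : Set G), ∀ b ∈ Subgroup.normalizer (K : Set G),
    ⁅a, b⁆ ∈ K
  hidx : (K.subgroupOf (Subgroup.normalizer (K : Set G))).index = e
  he : 2 ≤ e
  hbig : e * (e + 2) + 1 ≤ Nat.card K

variable {K : Subgroup G} {e : ℕ}

theorem Base.hlt (h : Base K e) : K < Subgroup.normalizer (K : Set G) := by
  refine lt_of_le_of_ne Subgroup.le_normalizer ?_
  intro heq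
  have h1 : K.subgroupOf (Subgroup.normalizer (K : Set G)) = ⊤ := by
    rw [Subgroup.subgroupOf_eq_top]
    exact heq.ge
  have h2 := h.hidx
  rw [h1, Subgroup.index_top] at h2
  have := h.he
  omega

theorem Base.K_ne_bot (h : Base K e) : K ≠ ⊥ := by
  intro hb
  have h1 := h.hbig
  rw [hb, Subgroup.card_bot] at h1
  have := h.he
  nlinarith

theorem Base.card_L [Finite G] (_h : Base K e) : Nat.card (LK K) = Nat.card K :=
  Nat.card_congr (Subgroup.subgroupOfEquivOfLe Subgroup.le_normalizer).toEquiv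

theorem Base.card_N [Finite G] (h : Base K e) : Nat.card (NK K) = Nat.card K * e := by
  rw [← h.card_L, ← h.hidx]
  exact ((LK K).card_mul_index).symm

/-- the centralizer in `G` of a non-identity element of `K` is `K`. -/
theorem Base.cent_eq (h : Base K e) {k : G} (hk : k ∈ K) (hk1 : k ≠ 1) :
    Subgroup.centralizer ({k} : Set G) = K := by
  apply le_antisymm (h.hC k hk hk1)
  intro y hy
  rw [Subgroup.mem_centralizer_singleton_iff]
  exact h.hab y hy k hk

section Fin
variable [Fintype G]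

theorem Base.hyp (h : Base K e) [Fintype ↥(NK K)] [Fintype ↥(LK K)] :
    TIFN.Hyp (NK K) (LK K) :=
  TIFN.hyp_of_TI K h.hTI h.hlt h.hC

/-- the characters of `N` outside `S` are linear. -/
theorem Base.hT (h : Base K e) [Fintype ↥(NK K)] (η : IrrCharacter ↥(NK K))
    (hS : (η : ↥(NK K) → ℂ) ∉ TIFN.Sset (LK K)) : (η : ↥(NK K) → ℂ) 1 = 1 := by
  apply Cfsg.Agent.Lib.Helper4.TE.linear_of_trivial_on_commutator η.2
  intro c hc
  have hle : commutator ↥(NK K) ≤ LK K := by
    rw [commutator_def, Subgroup.commutator_le]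
    intro a _ b _
    rw [Subgroup.mem_subgroupOf]
    have := h.hcomm (a : G) a.2 (b : G) b.2
    simpa [commutatorElement_def] using this
  exact TIFN.const_of_not_mem (LK K) η.2 hS (hle hc)

/-- coherence. -/
theorem Base.exists_star (h : Base K e) [Fintype ↥(NK K)] :
    ∃ star : (↥(NK K) → ℂ) → (G → ℂ),
      IsLinearIsometryOn (zspan (TIFN.Sset (LK K))) star ∧
      (∀ α ∈ zspanOn (TIFN.Sset (LK K)) ({1}ᶜ : Set ↥(NK K)), star α = indFun (NK K) α) ∧
      ∃ χ ∈ TIFN.Sset (LK K), ∃ ξ ∈ TIFN.Sset (LK K), χ ≠ ξ := by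
  classical
  have hnil : Group.IsNilpotent K := by
    letI : CommGroup K :=
      { (inferInstance : Group K) with
        mul_comm := fun a b => Subtype.ext (h.hab a a.2 b b.2) }
    exact CommGroup.isNilpotent
  have hTI' : Cfsg.IsTISubset (K : Set G) := h.hTI
  rcases FZ.coh_or K (NK K) rfl h.K_ne_bot hnil hTI' h.hlt h.hC with h1 | ⟨-, ⟨u, v, huv⟩, -⟩ | h3
  · exfalso
    have h2 := h.hbig
    have h4 := h.hidx
    have h5 : (K.subgroupOf (NK K)).index = e := h4
    rw [h5] at h1
    have := h.he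
    nlinarith
  · exfalso
    exact huv (Subtype.ext (h.hab u u.2 v v.2))
  · obtain ⟨hne, star, hstar, hext⟩ := h3
    refine ⟨star, hstar, hext, ?_⟩
    exact FZ.two_of_nonzero (fun χ hχ => hχ.1) hne

end Fin

end Cfsg.Agent.Lib.Helper7.PTI
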