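import Mathlib
import Cfsg.Agent.Lib.Helper7.PTI2

set_option autoImplicit false

/-!
# Abelian T.I. subgroup with abelian quotient `N/K`: the coherence constant vanishes
-/

namespace Cfsg.Agent.Lib.Helper7.PTI

open Cfsg Cfsg.Agent.Lib.Helper1 Cfsg.Agent.Lib.Helper2 Cfsg.Agent.Lib.Helper4
open scoped ComplexConjugate commutatorElement

/-- a generalized character vanishing off the identity has degree divisible by the group order. -/
theorem card_dvd_of_vanish {H : Type*} [Group H] [Fintype H] {φ : H → ℂ}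
    (hφ : IsGeneralizedCharacter H φ) (h0 : ∀ x : H, x ≠ 1 → φ x = 0) :
    ∃ n : ℤ, φ 1 = (Nat.card H : ℂ) * n := by
  classical
  obtain ⟨n, hn⟩ := classInner_genChar_int hφ
    (isGenChar_of_irr (Cfsg.Agent.S0161.isIrrCharacter_one (G := H)))
  refine ⟨n, ?_⟩
  rw [classInner_def] at hn
  have hsum : ∑ x : H, φ x * conj ((fun _ : H => (1 : ℂ)) x) = φ 1 := by
    rw [Finset.sum_eq_single 1]
    · simp
    · intro x _ hx
      rw [h0 x hx]; simp
    · intro h
      exact absurd (Finset.mem_univ _) h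
  rw [hsum] at hn
  have hH : (Nat.card H : ℂ) ≠ 0 := Nat.cast_ne_zero.mpr Nat.card_pos.ne'
  rw [← hn]
  field_simp

variable {G : Type*} [Group G] [Fintype G]

/-- the coherence data. -/
structure Data (K : Subgroup G) (e : ℕ) [Fintype ↥(NK K)]
    (star : (↥(NK K) → ℂ) → (G → ℂ)) : Prop where
  base : Base K e
  hstar : IsLinearIsometryOn (zspan (TIFN.Sset (LK K))) star
  hext : ∀ α ∈ zspanOn (TIFN.Sset (LK K)) ({1}ᶜ : Set ↥(NK K)), star α = indFun (NK K) α
  htwo : ∃ χ ∈ TIFN.Sset (LK K), ∃ ξ ∈ TIFN.Sset (LK K), χ ≠ ξ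

variable {K : Subgroup G} {e : ℕ} [Fintype ↥(NK K)] [Fintype ↥(LK K)]
  {star : (↥(NK K) → ℂ) → (G → ℂ)}

theorem Data.triv_not_exc (d : Data K e star) :
    ¬ TIFN.IsExc (LK K) star (fun _ : G => (1 : ℂ)) := by
  intro hexc
  obtain ⟨a, -, b, -, -, -, hab⟩ :=
    (d.base.hyp.main_exc d.hstar d.hext d.htwo Cfsg.Agent.S0161.isIrrCharacter_one).mp hexc
  exact hab rfl

/-- a non-identity element of `L`. -/
theorem Data.exists_u (d : Data K e star) : ∃ u : ↥(NK K), u ∈ LK K ∧ u ≠ 1 := by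
  have hne := d.base.K_ne_bot
  rw [Ne, Subgroup.eq_bot_iff_forall] at hne
  push Not at hne
  obtain ⟨k, hk, hk1⟩ := hne
  refine ⟨⟨k, Subgroup.le_normalizer hk⟩, Subgroup.mem_subgroupOf.mpr hk, ?_⟩
  intro h
  exact hk1 (congrArg Subtype.val h)

theorem Data.card_cent (d : Data K e star) {u : ↥(NK K)} (hu : u ∈ LK K) (hu1 : u ≠ 1) :
    Nat.card (Subgroup.centralizer ({u} : Set ↥(NK K))) = Nat.card K ∧
    Nat.card (Subgroup.centralizer ({(u : G)} : Set G)) = Nat.card K := by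
  have huK : (u : G) ∈ K := Subgroup.mem_subgroupOf.mp hu
  have hu1' : (u : G) ≠ 1 := fun h => hu1 (Subtype.ext h)
  have h1 := d.base.cent_eq huK hu1'
  constructor
  · rw [FZ.card_centralizer_subgroup (NK K) u (by rw [h1]; exact Subgroup.le_normalizer), h1]
  · rw [h1]

/-- the constants of the non-exceptional characters. -/
theorem Data.exists_a (d : Data K e star) :
    ∃ a : IrrCharacter G → ℤ,
      (∀ θ : IrrCharacter G, TIFN.IsExc (LK K) star (θ : G → ℂ) → a θ = 0) ∧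
      (∀ θ : IrrCharacter G, ¬ TIFN.IsExc (LK K) star (θ : G → ℂ) →
        ∀ k : ↥(NK K), k ∈ LK K → k ≠ 1 → (θ : G → ℂ) k = a θ) := by
  classical
  have hex : ∀ θ : IrrCharacter G, ∃ z : ℤ,
      (TIFN.IsExc (LK K) star (θ : G → ℂ) → z = 0) ∧
      (¬ TIFN.IsExc (LK K) star (θ : G → ℂ) →
        ∀ k : ↥(NK K), k ∈ LK K → k ≠ 1 → (θ : G → ℂ) k = z) := by
    intro θ
    by_cases hexc : TIFN.IsExc (LK K) star (θ : G → ℂ)
    · exact ⟨0, fun _ => rfl, fun h => absurd hexc h⟩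
    · obtain ⟨z, hz⟩ := d.base.hyp.nonexc_const d.hstar d.hext θ.2 hexc
      exact ⟨z, fun h => absurd h hexc, fun _ => hz⟩
  choose a ha using hex
  exact ⟨a, fun θ => (ha θ).1, fun θ => (ha θ).2⟩

end Cfsg.Agent.Lib.Helper7.PTI
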