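import Mathlib
import Cfsg.Agent.Lib.Helper7.PTI3

set_option autoImplicit false

/-!
# Abelian T.I. subgroup with abelian quotient `N/K`: the main identity and `m = 0`
-/

namespace Cfsg.Agent.Lib.Helper7.PTI

open Cfsg Cfsg.Agent.Lib.Helper1 Cfsg.Agent.Lib.Helper2 Cfsg.Agent.Lib.Helper4
open scoped ComplexConjugate commutatorElement

variable {G : Type*} [Group G] [Fintype G]
variable {K : Subgroup G} {e : ℕ} [Fintype ↥(NK K)] [Fintype ↥(LK K)]
  {star : (↥(NK K) → ℂ) → (G → ℂ)}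

theorem classIndicator_self {H : Type*} [Group H] [Fintype H] (u : H) : classIndicator u u = 1 := by
  unfold classIndicator
  rw [if_pos (IsConj.refl u)]

theorem classIndicator_ne_one {H : Type*} [Group H] [Fintype H] {u : H} (hu : u ≠ 1) :
    classIndicator u (1 : H) = 0 := by
  unfold classIndicator
  rw [if_neg]
  intro hc
  exact hu (isConj_one_left.mp hc)

/-- the main identity from the column of `u`. -/
theorem Data.main_identity (d : Data K e star) [Fintype (IrrCharacter G)]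
    [Fintype (IrrCharacter ↥(NK K))] (m : ℤ)
    (hm : ∀ χ ∈ TIFN.Sset (LK K), ∀ k : ↥(NK K), k ∈ LK K → k ≠ 1 →
      star χ k - χ k = (m : ℂ) * χ 1 / ((LK K).index : ℂ))
    (a : IrrCharacter G → ℤ)
    (ha0 : ∀ θ : IrrCharacter G, TIFN.IsExc (LK K) star (θ : G → ℂ) → a θ = 0)
    (ha : ∀ θ : IrrCharacter G, ¬ TIFN.IsExc (LK K) star (θ : G → ℂ) →
        ∀ k : ↥(NK K), k ∈ LK K → k ≠ 1 → (θ : G → ℂ) k = a θ) :
    (e : ℤ) * ∑ θ : IrrCharacter G, a θ ^ 2
      = (e : ℤ) ^ 2 + 2 * m * e - m ^ 2 * ((Nat.card K : ℤ) - 1) := by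
  classical
  obtain ⟨u, hu, hu1⟩ := d.exists_u
  obtain ⟨hc1, hc2⟩ := d.card_cent hu hu1
  have hcol := column_orthogonality (G := G) (u : G) (u : G)
  rw [classIndicator_self, mul_one, hc2,
    ← Finset.sum_filter_add_sum_filter_not Finset.univ
    (fun θ : IrrCharacter G => TIFN.IsExc (LK K) star (θ : G → ℂ))] at hcol
  have hexc := TIFN.sum_exc (L := LK K) d.hstar (fun θ : G → ℂ => θ u * conj (θ u))
    (fun χ : ↥(NK K) → ℂ => star χ u * conj (star χ u)) (fun χ _ => rfl)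
    (fun χ _ => by
      show (-star χ) u * conj ((-star χ) u) = star χ u * conj (star χ u)
      rw [Pi.neg_apply, map_neg]; ring)
  have hsq := FZ.sum_star_sq d.base.hyp d.base.hT m hm hu hu1
  have hNE : ∑ θ ∈ Finset.univ.filter
        (fun θ : IrrCharacter G => ¬ TIFN.IsExc (LK K) star (θ : G → ℂ)),
        (θ : G → ℂ) u * conj ((θ : G → ℂ) u)
      = ((∑ θ : IrrCharacter G, a θ ^ 2 : ℤ) : ℂ) := by
    rw [← Finset.sum_filter_add_sum_filter_not Finset.univ
      (fun θ : IrrCharacter G => TIFN.IsExc (LK K) star (θ : G → ℂ)) (fun θ => a θ ^ 2)]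
    have hz : ∑ θ ∈ Finset.univ.filter
        (fun θ : IrrCharacter G => TIFN.IsExc (LK K) star (θ : G → ℂ)), a θ ^ 2 = 0 := by
      apply Finset.sum_eq_zero
      intro θ hθ
      rw [Finset.mem_filter] at hθ
      rw [ha0 θ hθ.2]; ring
    rw [hz, zero_add]
    push_cast
    refine Finset.sum_congr rfl fun θ hθ => ?_
    rw [Finset.mem_filter] at hθ
    rw [ha θ hθ.2 u hu hu1]
    simp only [map_intCast]
    ring
  rw [hNE] at hcol
  have hidx : ((LK K).index : ℂ) = (e : ℂ) := by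
    have := d.base.hidx
    exact_mod_cast this
  have hN : (Nat.card ↥(NK K) : ℂ) = (Nat.card K : ℂ) * e := by
    have := d.base.card_N
    exact_mod_cast this
  have he0 : (e : ℂ) ≠ 0 := by
    have := d.base.he
    exact Nat.cast_ne_zero.mpr (by omega)
  have h2 : ∑ θ ∈ Finset.univ.filter
          (fun θ : IrrCharacter G => TIFN.IsExc (LK K) star (θ : G → ℂ)),
        (θ : G → ℂ) u * conj ((θ : G → ℂ) u)
      = ∑ χ ∈ Finset.univ.filter (fun χ : IrrCharacter ↥(NK K) =>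
          (χ : ↥(NK K) → ℂ) ∈ TIFN.Sset (LK K)),
        star (χ : ↥(NK K) → ℂ) u * conj (star (χ : ↥(NK K) → ℂ) u) := by
    convert hexc using 2
  have h3 : ∑ χ ∈ Finset.univ.filter (fun χ : IrrCharacter ↥(NK K) =>
          (χ : ↥(NK K) → ℂ) ∈ TIFN.Sset (LK K)),
        star (χ : ↥(NK K) → ℂ) u * conj (star (χ : ↥(NK K) → ℂ) u)
      = (Nat.card (Subgroup.centralizer ({u} : Set ↥(NK K))) : ℂ) - ((LK K).index : ℂ)
        - 2 * (m : ℂ)
        + (m : ℂ) ^ 2 * ((Nat.card ↥(NK K) : ℂ) - ((LK K).index : ℂ)) / ((LK K).index : ℂ) ^ 2 := by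
    convert hsq using 2
  rw [h2, h3, hc1, hidx, hN] at hcol
  have hmain : ((e : ℂ)) * ((∑ θ : IrrCharacter G, a θ ^ 2 : ℤ) : ℂ)
      = (e : ℂ) ^ 2 + 2 * (m : ℂ) * (e : ℂ) - (m : ℂ) ^ 2 * ((Nat.card K : ℂ) - 1) := by
    have h4 : ((∑ θ : IrrCharacter G, a θ ^ 2 : ℤ) : ℂ) = (Nat.card K : ℂ) -
        ((Nat.card K : ℂ) - (e : ℂ) - 2 * (m : ℂ)
          + (m : ℂ) ^ 2 * ((Nat.card K : ℂ) * e - (e : ℂ)) / (e : ℂ) ^ 2) := by
      linear_combination hcol
    rw [h4]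
    field_simp
    ring
  have : ((((e : ℤ)) * ∑ θ : IrrCharacter G, a θ ^ 2 : ℤ) : ℂ)
      = (((e : ℤ) ^ 2 + 2 * m * e - m ^ 2 * ((Nat.card K : ℤ) - 1) : ℤ) : ℂ) := by
    push_cast
    push_cast at hmain
    exact hmain
  exact_mod_cast this

end Cfsg.Agent.Lib.Helper7.PTI
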