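import Mathlib
import Cfsg.Agent.Lib.Helper7.PTI4

set_option autoImplicit false

/-!
# Abelian T.I. subgroup with abelian quotient `N/K`: `m = 0` and the degree equation
-/

namespace Cfsg.Agent.Lib.Helper7.PTI

open Cfsg Cfsg.Agent.Lib.Helper1 Cfsg.Agent.Lib.Helper2 Cfsg.Agent.Lib.Helper4
open scoped ComplexConjugate commutatorElement

theorem arith_m0 (e q m S : ℤ) (he : 2 ≤ e) (hq : e * (e + 2) + 1 ≤ q) (hS : 1 ≤ S)
    (hE : e * S = e ^ 2 + 2 * m * e - m ^ 2 * (q - 1)) : m = 0 := by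
  by_contra hm0
  have h1 : 1 ≤ m ^ 2 := by
    have : 0 < m ^ 2 := by positivity
    omega
  have h2 : m ≤ m ^ 2 := by
    rcases le_or_gt m 0 with h | h
    · nlinarith
    · nlinarith
  have h3 : e * 1 ≤ e * S := by nlinarith
  have h4 : m ^ 2 * (e * (e + 2)) ≤ m ^ 2 * (q - 1) := by
    apply mul_le_mul_of_nonneg_left _ (by positivity)
    omega
  -- e ≤ e^2 + 2 m e - m^2 e (e+2)
  have h5 : e ≤ e ^ 2 + 2 * m * e - m ^ 2 * (e * (e + 2)) := by linarith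
  -- divide by e
  have h6 : e * 1 ≤ e * (e + 2 * m - m ^ 2 * (e + 2)) := by nlinarith
  have h7 : 1 ≤ e + 2 * m - m ^ 2 * (e + 2) := le_of_mul_le_mul_left h6 (by omega)
  nlinarith

variable {G : Type*} [Group G] [Fintype G]
variable {K : Subgroup G} {e : ℕ} [Fintype ↥(NK K)] [Fintype ↥(LK K)]
  {star : (↥(NK K) → ℂ) → (G → ℂ)}

/-- the trivial character has constant `1`. -/
theorem Data.a_triv (d : Data K e star) (a : IrrCharacter G → ℤ)
    (ha : ∀ θ : IrrCharacter G, ¬ TIFN.IsExc (LK K) star (θ : G → ℂ) →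
        ∀ k : ↥(NK K), k ∈ LK K → k ≠ 1 → (θ : G → ℂ) k = a θ)
    (θ : IrrCharacter G) (hθ : (θ : G → ℂ) = fun _ => 1) : a θ = 1 := by
  obtain ⟨u, hu, hu1⟩ := d.exists_u
  have hne : ¬ TIFN.IsExc (LK K) star (θ : G → ℂ) := by
    rw [hθ]; exact d.triv_not_exc
  have h1 := ha θ hne u hu hu1
  rw [hθ] at h1
  have : ((1 : ℤ) : ℂ) = (a θ : ℂ) := by
    push_cast; exact h1
  exact_mod_cast this.symm

/-- the coherence constant vanishes, and the squares of the constants sum to `e`. -/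
theorem Data.m_zero (d : Data K e star) [Fintype (IrrCharacter G)]
    [Fintype (IrrCharacter ↥(NK K))] (m : ℤ)
    (hm : ∀ χ ∈ TIFN.Sset (LK K), ∀ k : ↥(NK K), k ∈ LK K → k ≠ 1 →
      star χ k - χ k = (m : ℂ) * χ 1 / ((LK K).index : ℂ))
    (a : IrrCharacter G → ℤ)
    (ha0 : ∀ θ : IrrCharacter G, TIFN.IsExc (LK K) star (θ : G → ℂ) → a θ = 0)
    (ha : ∀ θ : IrrCharacter G, ¬ TIFN.IsExc (LK K) star (θ : G → ℂ) →
        ∀ k : ↥(NK K), k ∈ LK K → k ≠ 1 → (θ : G → ℂ) k = a θ) :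
    m = 0 ∧ ∑ θ : IrrCharacter G, a θ ^ 2 = (e : ℤ) := by
  have hid := d.main_identity m hm a ha0 ha
  have he := d.base.he
  have hbig := d.base.hbig
  let θ₁ : IrrCharacter G := ⟨fun _ => 1, Cfsg.Agent.S0161.isIrrCharacter_one⟩
  have h1 : a θ₁ = 1 := d.a_triv a ha θ₁ rfl
  have hS : 1 ≤ ∑ θ : IrrCharacter G, a θ ^ 2 := by
    have : a θ₁ ^ 2 ≤ ∑ θ : IrrCharacter G, a θ ^ 2 :=
      Finset.single_le_sum (f := fun θ => a θ ^ 2) (fun θ _ => sq_nonneg (a θ))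
        (Finset.mem_univ θ₁)
    rw [h1] at this
    linarith
  have hm0 : m = 0 := by
    apply arith_m0 (e : ℤ) (Nat.card K : ℤ) m _ (by exact_mod_cast he) (by exact_mod_cast hbig) hS
      hid
  refine ⟨hm0, ?_⟩
  rw [hm0] at hid
  have he0 : (e : ℤ) ≠ 0 := by
    have : (2 : ℤ) ≤ e := by exact_mod_cast he
    omega
  have : (e : ℤ) * ∑ θ : IrrCharacter G, a θ ^ 2 = (e : ℤ) * e := by
    rw [hid]; ring
  exact mul_left_cancel₀ he0 this

end Cfsg.Agent.Lib.Helper7.PTI
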