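import Mathlib
import Cfsg.Agent.Lib.Helper7.PTI5
import Cfsg.Agent.Lib.Helper2.TIFN3

set_option autoImplicit false

/-!
# Abelian T.I. subgroup with abelian quotient `N/K`: degree equation and congruences
-/

namespace Cfsg.Agent.Lib.Helper7.PTI

open Cfsg Cfsg.Agent.Lib.Helper1 Cfsg.Agent.Lib.Helper2 Cfsg.Agent.Lib.Helper4
open scoped ComplexConjugate commutatorElement

variable {G : Type*} [Group G] [Fintype G]
variable {K : Subgroup G} {e : ℕ} [Fintype ↥(NK K)] [Fintype ↥(LK K)]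
  {star : (↥(NK K) → ℂ) → (G → ℂ)}

theorem Data.hab' (d : Data K e star) : ∀ a b : ↥(LK K), a * b = b * a := by
  intro a b
  have := d.base.hab ((a : ↥(NK K)) : G) (Subgroup.mem_subgroupOf.mp a.2)
    ((b : ↥(NK K)) : G) (Subgroup.mem_subgroupOf.mp b.2)
  apply Subtype.ext
  apply Subtype.ext
  exact this

theorem Data.degree_S (d : Data K e star) {χ : ↥(NK K) → ℂ} (hχ : χ ∈ TIFN.Sset (LK K)) :
    χ 1 = (e : ℂ) := by
  rw [d.base.hyp.degree_of_comm d.hab' hχ]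
  have := d.base.hidx
  exact_mod_cast this

/-- all `star χ` have the same value at the identity. -/
theorem Data.star_one (d : Data K e star) {χ ξ : ↥(NK K) → ℂ} (hχ : χ ∈ TIFN.Sset (LK K))
    (hξ : ξ ∈ TIFN.Sset (LK K)) : star χ 1 = star ξ 1 := by
  have h1 := d.base.hyp.key_prop d.hstar d.hext hχ hξ (d.degree_S hχ) (d.degree_S hξ) 1
  rw [d.degree_S hχ, d.degree_S hξ] at h1
  have he0 : (e : ℂ) ≠ 0 := by
    have := d.base.he
    exact Nat.cast_ne_zero.mpr (by omega)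
  have h2 := mul_left_cancel₀ he0 h1
  have h3 : star χ ((1 : ↥(NK K)) : G) = star ξ ((1 : ↥(NK K)) : G) := by
    linear_combination h2
  simpa using h3

/-- the degree equation. -/
theorem Data.degree_identity (d : Data K e star) [Fintype (IrrCharacter G)]
    [Fintype (IrrCharacter ↥(NK K))]
    (hm : ∀ χ ∈ TIFN.Sset (LK K), ∀ k : ↥(NK K), k ∈ LK K → k ≠ 1 → star χ k = χ k)
    (a : IrrCharacter G → ℤ)
    (ha0 : ∀ θ : IrrCharacter G, TIFN.IsExc (LK K) star (θ : G → ℂ) → a θ = 0)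
    (ha : ∀ θ : IrrCharacter G, ¬ TIFN.IsExc (LK K) star (θ : G → ℂ) →
        ∀ k : ↥(NK K), k ∈ LK K → k ≠ 1 → (θ : G → ℂ) k = a θ)
    {χ₀ : ↥(NK K) → ℂ} (hχ₀ : χ₀ ∈ TIFN.Sset (LK K)) :
    ∑ θ : IrrCharacter G, (a θ : ℂ) * (θ : G → ℂ) 1 = star χ₀ 1 := by
  classical
  obtain ⟨u, hu, hu1⟩ := d.exists_u
  obtain ⟨hc1, hc2⟩ := d.card_cent hu hu1
  have hu1' : (u : G) ≠ 1 := fun h => hu1 (Subtype.ext h)
  have hcol := column_orthogonality (G := G) (u : G) (1 : G)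
  rw [classIndicator_ne_one hu1', mul_zero,
    ← Finset.sum_filter_add_sum_filter_not Finset.univ
    (fun θ : IrrCharacter G => TIFN.IsExc (LK K) star (θ : G → ℂ))] at hcol
  have hexc := TIFN.sum_exc (L := LK K) d.hstar (fun θ : G → ℂ => θ 1 * conj (θ u))
    (fun χ : ↥(NK K) → ℂ => star χ 1 * conj (star χ u)) (fun χ _ => rfl)
    (fun χ _ => by
      show (-star χ) 1 * conj ((-star χ) u) = star χ 1 * conj (star χ u)
      rw [Pi.neg_apply, Pi.neg_apply, map_neg]; ring)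
  have h2 : ∑ θ ∈ Finset.univ.filter
          (fun θ : IrrCharacter G => TIFN.IsExc (LK K) star (θ : G → ℂ)),
        (θ : G → ℂ) 1 * conj ((θ : G → ℂ) u)
      = ∑ χ ∈ Finset.univ.filter (fun χ : IrrCharacter ↥(NK K) =>
          (χ : ↥(NK K) → ℂ) ∈ TIFN.Sset (LK K)),
        star (χ : ↥(NK K) → ℂ) 1 * conj (star (χ : ↥(NK K) → ℂ) u) := by
    convert hexc using 2
  -- the sum over S
  have hns := FZ.nsum d.base.hyp d.base.hT hu (LK K).one_mem
  rw [classIndicator_ne_one hu1, mul_zero, zero_sub] at hns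
  have hidx : ((LK K).index : ℂ) = (e : ℂ) := by
    have := d.base.hidx
    exact_mod_cast this
  have he0 : (e : ℂ) ≠ 0 := by
    have := d.base.he
    exact Nat.cast_ne_zero.mpr (by omega)
  have hsumconj : ∑ χ ∈ Finset.univ.filter (fun χ : IrrCharacter ↥(NK K) =>
          (χ : ↥(NK K) → ℂ) ∈ TIFN.Sset (LK K)), conj ((χ : ↥(NK K) → ℂ) u) = -1 := by
    have h4 : ∑ χ ∈ Finset.univ.filter (fun χ : IrrCharacter ↥(NK K) =>
          (χ : ↥(NK K) → ℂ) ∈ TIFN.Sset (LK K)),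
          (χ : ↥(NK K) → ℂ) 1 * conj ((χ : ↥(NK K) → ℂ) u)
        = (e : ℂ) * ∑ χ ∈ Finset.univ.filter (fun χ : IrrCharacter ↥(NK K) =>
          (χ : ↥(NK K) → ℂ) ∈ TIFN.Sset (LK K)), conj ((χ : ↥(NK K) → ℂ) u) := by
      rw [Finset.mul_sum]
      refine Finset.sum_congr rfl fun χ hχ => ?_
      rw [Finset.mem_filter] at hχ
      rw [d.degree_S hχ.2]
    rw [h4, hidx] at hns
    have : (e : ℂ) * ∑ χ ∈ Finset.univ.filter (fun χ : IrrCharacter ↥(NK K) =>
          (χ : ↥(NK K) → ℂ) ∈ TIFN.Sset (LK K)), conj ((χ : ↥(NK K) → ℂ) u) = (e : ℂ) * (-1) := by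
      rw [hns]; ring
    exact mul_left_cancel₀ he0 this
  have h3 : ∑ χ ∈ Finset.univ.filter (fun χ : IrrCharacter ↥(NK K) =>
          (χ : ↥(NK K) → ℂ) ∈ TIFN.Sset (LK K)),
        star (χ : ↥(NK K) → ℂ) 1 * conj (star (χ : ↥(NK K) → ℂ) u) = - star χ₀ 1 := by
    have h5 : ∀ χ ∈ Finset.univ.filter (fun χ : IrrCharacter ↥(NK K) =>
          (χ : ↥(NK K) → ℂ) ∈ TIFN.Sset (LK K)),
        star (χ : ↥(NK K) → ℂ) 1 * conj (star (χ : ↥(NK K) → ℂ) u)
          = star χ₀ 1 * conj ((χ : ↥(NK K) → ℂ) u) := by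
      intro χ hχ
      rw [Finset.mem_filter] at hχ
      rw [d.star_one hχ.2 hχ₀, hm _ hχ.2 u hu hu1]
    rw [Finset.sum_congr rfl h5, ← Finset.mul_sum, hsumconj]
    ring
  rw [h2, h3] at hcol
  have hNE : ∑ θ ∈ Finset.univ.filter
        (fun θ : IrrCharacter G => ¬ TIFN.IsExc (LK K) star (θ : G → ℂ)),
        (θ : G → ℂ) 1 * conj ((θ : G → ℂ) u)
      = ∑ θ : IrrCharacter G, (a θ : ℂ) * (θ : G → ℂ) 1 := by
    rw [← Finset.sum_filter_add_sum_filter_not Finset.univ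
      (fun θ : IrrCharacter G => TIFN.IsExc (LK K) star (θ : G → ℂ))
      (fun θ => (a θ : ℂ) * (θ : G → ℂ) 1)]
    have hz : ∑ θ ∈ Finset.univ.filter
        (fun θ : IrrCharacter G => TIFN.IsExc (LK K) star (θ : G → ℂ)),
        (a θ : ℂ) * (θ : G → ℂ) 1 = 0 := by
      apply Finset.sum_eq_zero
      intro θ hθ
      rw [Finset.mem_filter] at hθ
      rw [ha0 θ hθ.2]; simp
    rw [hz, zero_add]
    refine Finset.sum_congr rfl fun θ hθ => ?_
    rw [Finset.mem_filter] at hθ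
    rw [ha θ hθ.2 u hu hu1]
    simp only [map_intCast]
    ring
  rw [hNE] at hcol
  linear_combination hcol

end Cfsg.Agent.Lib.Helper7.PTI
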