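import Mathlib
import Cfsg.Agent.Lib.Helper7.PTI6

set_option autoImplicit false

/-!
# Abelian T.I. subgroup with abelian quotient `N/K`: congruences and the main theorem
-/

namespace Cfsg.Agent.Lib.Helper7.PTI

open Cfsg Cfsg.Agent.Lib.Helper1 Cfsg.Agent.Lib.Helper2 Cfsg.Agent.Lib.Helper4
open scoped ComplexConjugate commutatorElement

theorem isGenChar_const {H : Type*} [Group H] (z : ℤ) :
    IsGeneralizedCharacter H (fun _ => (z : ℂ)) := by
  have h1 := TIFN.isGenChar_zsmul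
    (isGenChar_of_irr (Cfsg.Agent.S0161.isIrrCharacter_one (G := H))) z
  convert h1 using 1
  funext x
  simp

variable {G : Type*} [Group G] [Fintype G]
variable {K : Subgroup G} {e : ℕ} [Fintype ↥(NK K)] [Fintype ↥(LK K)]
  {star : (↥(NK K) → ℂ) → (G → ℂ)}

/-- congruence for the non-exceptional characters. -/
theorem Data.congr_nonexc (d : Data K e star) (a : IrrCharacter G → ℤ)
    (ha : ∀ θ : IrrCharacter G, ¬ TIFN.IsExc (LK K) star (θ : G → ℂ) →
        ∀ k : ↥(NK K), k ∈ LK K → k ≠ 1 → (θ : G → ℂ) k = a θ)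
    (θ : IrrCharacter G) (hθ : ¬ TIFN.IsExc (LK K) star (θ : G → ℂ)) :
    ∃ n : ℤ, (θ : G → ℂ) 1 - (a θ : ℂ) = (Nat.card K : ℂ) * n := by
  have hg : IsGeneralizedCharacter ↥(LK K)
      ((fun l : ↥(LK K) => (fun x : ↥(NK K) => (θ : G → ℂ) x) l) - fun _ => ((a θ : ℤ) : ℂ)) :=
    isGenChar_sub
      (TIFN.isGenChar_restrict (LK K) (TIFN.isGenChar_restrict (NK K) (isGenChar_of_irr θ.2)))
      (isGenChar_const (a θ))
  obtain ⟨n, hn⟩ := card_dvd_of_vanish hg (by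
    intro l hl
    have hl1 : (l : ↥(NK K)) ≠ 1 := fun h => hl (Subtype.ext h)
    have := ha θ hθ (l : ↥(NK K)) l.2 hl1
    simp only [Pi.sub_apply]
    rw [this, sub_self])
  refine ⟨n, ?_⟩
  rw [d.base.card_L] at hn
  rw [← hn]
  simp

/-- congruence for the exceptional degree. -/
theorem Data.congr_exc (d : Data K e star)
    (hm : ∀ χ ∈ TIFN.Sset (LK K), ∀ k : ↥(NK K), k ∈ LK K → k ≠ 1 → star χ k = χ k)
    {χ₀ : ↥(NK K) → ℂ} (hχ₀ : χ₀ ∈ TIFN.Sset (LK K)) :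
    ∃ n : ℤ, star χ₀ 1 - (e : ℂ) = (Nat.card K : ℂ) * n := by
  have hg : IsGeneralizedCharacter ↥(LK K)
      ((fun l : ↥(LK K) => (fun x : ↥(NK K) => star χ₀ x) l) - fun l : ↥(LK K) => χ₀ l) :=
    isGenChar_sub
      (TIFN.isGenChar_restrict (LK K) (TIFN.isGenChar_restrict (NK K)
        (lio_genChar d.hstar (mem_zspan_of_mem hχ₀))))
      (TIFN.isGenChar_restrict (LK K) (isGenChar_of_irr hχ₀.1))
  obtain ⟨n, hn⟩ := card_dvd_of_vanish hg (by
    intro l hl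
    have hl1 : (l : ↥(NK K)) ≠ 1 := fun h => hl (Subtype.ext h)
    have := hm χ₀ hχ₀ (l : ↥(NK K)) l.2 hl1
    simp only [Pi.sub_apply]
    rw [this, sub_self])
  refine ⟨n, ?_⟩
  rw [d.base.card_L] at hn
  rw [← hn]
  simp [d.degree_S hχ₀]

end Cfsg.Agent.Lib.Helper7.PTI
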