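import Mathlib
import Cfsg.Agent.Lib.Helper7.PTI7

set_option autoImplicit false

/-!
# Abelian T.I. subgroup with abelian quotient `N/K`: the main theorem

If `K` is an abelian T.I. subgroup of `G` containing the centralizers of its non-identity
elements, `N = N_G(K)` with `N/K` abelian of order `e ≥ 2` and `e (e + 2) < |K|`, then there are
integers `a θ` (the values of the non-exceptional characters on `K \ {1}`) and an integer `D`
(plus or minus the common degree of the exceptional characters) with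
`∑ a² = e`, `∑ a θ(1) = D`, `θ(1) ≡ a θ`, `D ≡ e` modulo `|K|`.
-/

namespace Cfsg.Agent.Lib.Helper7.PTI

open Cfsg Cfsg.Agent.Lib.Helper1 Cfsg.Agent.Lib.Helper2 Cfsg.Agent.Lib.Helper4
open scoped ComplexConjugate commutatorElement

variable {G : Type*} [Group G] [Fintype G] {K : Subgroup G} {e : ℕ}

theorem Base.main (h : Base K e) [Fintype (IrrCharacter G)] :
    ∃ (a : IrrCharacter G → ℤ) (deg : IrrCharacter G → ℕ) (D : ℤ) (θ₀ : IrrCharacter G),
      (∀ θ : IrrCharacter G, (θ : G → ℂ) 1 = deg θ) ∧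
      (∀ θ : IrrCharacter G, (θ : G → ℂ) = (fun _ => 1) → a θ = 1) ∧
      ∑ θ : IrrCharacter G, a θ ^ 2 = (e : ℤ) ∧
      ∑ θ : IrrCharacter G, a θ * (deg θ : ℤ) = D ∧
      (∀ θ : IrrCharacter G, a θ ≠ 0 → (Nat.card K : ℤ) ∣ (deg θ : ℤ) - a θ) ∧
      (Nat.card K : ℤ) ∣ D - e ∧
      (deg θ₀ : ℤ) = |D| := by
  classical
  haveI : Fintype ↥(NK K) := Fintype.ofFinite _
  haveI : Fintype ↥(LK K) := Fintype.ofFinite _
  haveI : Fintype (IrrCharacter ↥(NK K)) := Fintype.ofFinite _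
  obtain ⟨star, hstar, hext, htwo⟩ := h.exists_star
  have d : Data K e star := ⟨h, hstar, hext, htwo⟩
  obtain ⟨m, hm⟩ := h.hyp.main_const hstar hext
  obtain ⟨a, ha0, ha⟩ := d.exists_a
  obtain ⟨hm0, hsum⟩ := d.m_zero m hm a ha0 ha
  have hm' : ∀ χ ∈ TIFN.Sset (LK K), ∀ k : ↥(NK K), k ∈ LK K → k ≠ 1 → star χ k = χ k := by
    intro χ hχ k hk hk1
    have := hm χ hχ k hk hk1
    rw [hm0] at this
    simp only [Int.cast_zero, zero_mul, zero_div] at this
    exact sub_eq_zero.mp this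
  have hdeg : ∀ θ : IrrCharacter G, ∃ n : ℕ, (θ : G → ℂ) 1 = n := by
    intro θ
    obtain ⟨n, -, hn⟩ := irr_apply_one_pos θ.2
    exact ⟨n, hn⟩
  choose deg hdeg using hdeg
  obtain ⟨χ₀, hχ₀, -, -, -⟩ := htwo
  obtain ⟨θ₀f, hθ₀, hor⟩ := TIFN.star_pm_irr hstar hχ₀
  let θ₀ : IrrCharacter G := ⟨θ₀f, hθ₀⟩
  have hD : ∃ D : ℤ, star χ₀ 1 = (D : ℂ) ∧ (deg θ₀ : ℤ) = |D| := by
    rcases hor with h1 | h1
    · refine ⟨(deg θ₀ : ℤ), ?_, ?_⟩
      · rw [h1]
        have := hdeg θ₀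
        push_cast
        exact this
      · exact (abs_of_nonneg (Int.natCast_nonneg _)).symm
    · refine ⟨-(deg θ₀ : ℤ), ?_, ?_⟩
      · rw [h1, Pi.neg_apply]
        have := hdeg θ₀
        push_cast
        rw [← this]
      · rw [abs_neg]
        exact (abs_of_nonneg (Int.natCast_nonneg _)).symm
  obtain ⟨D, hD1, hD2⟩ := hD
  refine ⟨a, deg, D, θ₀, hdeg, d.a_triv a ha, hsum, ?_, ?_, ?_, hD2⟩
  · have hid := d.degree_identity hm' a ha0 ha hχ₀
    rw [hD1] at hid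
    have : ((∑ θ : IrrCharacter G, a θ * (deg θ : ℤ) : ℤ) : ℂ) = (D : ℂ) := by
      rw [← hid]
      push_cast
      refine Finset.sum_congr rfl fun θ _ => ?_
      rw [hdeg θ]
    exact_mod_cast this
  · intro θ hθ
    have hne : ¬ TIFN.IsExc (LK K) star (θ : G → ℂ) := fun hexc => hθ (ha0 θ hexc)
    obtain ⟨n, hn⟩ := d.congr_nonexc a ha θ hne
    refine ⟨n, ?_⟩
    rw [hdeg θ] at hn
    have : (((deg θ : ℤ) - a θ : ℤ) : ℂ) = (((Nat.card K : ℤ) * n : ℤ) : ℂ) := by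
      push_cast
      exact hn
    exact_mod_cast this
  · obtain ⟨n, hn⟩ := d.congr_exc hm' hχ₀
    refine ⟨n, ?_⟩
    rw [hD1] at hn
    have : ((D - (e : ℤ) : ℤ) : ℂ) = (((Nat.card K : ℤ) * n : ℤ) : ℂ) := by
      push_cast
      exact hn
    exact_mod_cast this

end Cfsg.Agent.Lib.Helper7.PTI
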