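import Mathlib
import Cfsg.Agent.Lib.Helper7.PTI1

set_option autoImplicit false

/-!
# Simple groups with a Sylow subgroup of prime order: the normalizer

If `|G| = p g` with `p ∤ g`, `g = n₀ e` with `e` prime, and the only divisors of `g` congruent
to `1` modulo `p` are `1` and `n₀`, then in a simple group `G` a Sylow `p`-subgroup is generated
by a self-centralizing element `x` with `|N_G(⟨x⟩)| = p e`.
-/

namespace Cfsg.Agent.Lib.Helper7.PTI

open Subgroup

variable {G : Type*} [Group G]

theorem card_sylow_of_not_dvd [Finite G] {p g : ℕ} [hp : Fact p.Prime]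
    (hcard : Nat.card G = p * g) (hpg : ¬ p ∣ g) (P : Sylow p G) : Nat.card P = p := by
  rw [Sylow.card_eq_multiplicity, hcard]
  have hg0 : g ≠ 0 := by
    rintro rfl
    exact hpg (dvd_zero p)
  rw [Nat.factorization_mul hp.out.ne_zero hg0]
  simp [hp.out.factorization_self, Nat.factorization_eq_zero_of_not_dvd hpg]

theorem exists_cfg [Finite G] [IsSimpleGroup G] {p g n₀ e : ℕ} (hp : p.Prime) (he : e.Prime)
    (hcard : Nat.card G = p * g) (hpg : ¬ p ∣ g) (hg : g = n₀ * e)
    (hdiv : ∀ n, n ∣ g → n % p = 1 → n = 1 ∨ n = n₀) :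
    ∃ x : G, Cfg x p ∧
      Nat.card (Subgroup.normalizer ((Subgroup.zpowers x : Subgroup G) : Set G)) = p * e := by
  classical
  haveI : Fact p.Prime := ⟨hp⟩
  obtain ⟨P⟩ : Nonempty (Sylow p G) := inferInstance
  have hP : Nat.card P = p := card_sylow_of_not_dvd hcard hpg P
  have hg0 : g ≠ 0 := by
    rintro rfl
    exact hpg (dvd_zero p)
  have hn0 : n₀ ≠ 0 := by
    rintro rfl
    rw [zero_mul] at hg
    exact hg0 hg
  have hidx : (P : Subgroup G).index = g := by
    have := Subgroup.card_mul_index (P : Subgroup G)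
    rw [hP, hcard] at this
    exact Nat.eq_of_mul_eq_mul_left hp.pos this
  have h1 := card_sylow_modEq_one p G
  have h2 : Nat.card (Sylow p G) ∣ g := by
    rw [← hidx]; exact Sylow.card_dvd_index P
  have h3 : Nat.card (Sylow p G) % p = 1 := by
    have : Nat.card (Sylow p G) % p = 1 % p := h1
    rw [this]
    exact Nat.mod_eq_of_lt hp.one_lt
  -- the number of Sylow subgroups is `n₀`
  have h4 : Nat.card (Sylow p G) = n₀ := by
    rcases hdiv _ h2 h3 with h5 | h5
    · exfalso
      have hnormal : (P : Subgroup G).Normal := by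
        have hsub : Subsingleton (Sylow p G) := (Nat.card_eq_one_iff_unique.mp h5).1
        exact Sylow.normal_of_subsingleton P
      rcases hnormal.eq_bot_or_eq_top with hb | ht
      · rw [hb, Subgroup.card_bot] at hP
        exact hp.one_lt.ne hP
      · rw [ht, Subgroup.card_top, hcard] at hP
        have hg1 : g = 1 := by
          have : p * g = p * 1 := by rw [hP, mul_one]
          exact Nat.eq_of_mul_eq_mul_left hp.pos this
        rw [hg1] at hg
        have := Nat.eq_one_of_mul_eq_one_left hg.symm
        exact he.one_lt.ne this.symm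
    · exact h5
  -- the order of the normalizer
  have hN : Nat.card (Subgroup.normalizer ((P : Subgroup G) : Set G)) = p * e := by
    have h5 : n₀ = (Subgroup.normalizer ((P : Subgroup G) : Set G)).index := by
      rw [← h4]; exact Sylow.card_eq_index_normalizer P
    have h6 := Subgroup.card_mul_index (Subgroup.normalizer ((P : Subgroup G) : Set G))
    rw [← h5, hcard, hg] at h6
    have h7 : Nat.card (Subgroup.normalizer ((P : Subgroup G) : Set G)) * n₀ = (p * e) * n₀ := by
      rw [h6]; ring
    exact Nat.eq_of_mul_eq_mul_right (Nat.pos_of_ne_zero hn0) h7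
  -- a generator
  have hPne : (P : Subgroup G) ≠ ⊥ := by
    intro hb
    rw [hb, Subgroup.card_bot] at hP
    exact hp.one_lt.ne hP
  rw [Ne, Subgroup.eq_bot_iff_forall] at hPne
  push Not at hPne
  obtain ⟨x, hxP, hx1⟩ := hPne
  have hox : orderOf x = p := by
    have h5 : orderOf (⟨x, hxP⟩ : (P : Subgroup G)) ∣ Nat.card (P : Subgroup G) :=
      orderOf_dvd_natCard _
    rw [hP] at h5
    have h6 : orderOf (⟨x, hxP⟩ : (P : Subgroup G)) = orderOf x := by
      rw [← Subgroup.orderOf_coe]
    rw [h6] at h5
    rcases (Nat.dvd_prime hp).mp h5 with h7 | h7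
    · exact absurd (orderOf_eq_one_iff.mp h7) hx1
    · exact h7
  have hzP : Subgroup.zpowers x = (P : Subgroup G) := by
    apply Subgroup.eq_of_le_of_card_ge
    · rw [Subgroup.zpowers_le]; exact hxP
    · rw [Nat.card_zpowers, hox, hP]
  refine ⟨x, ?_, by rw [hzP]; exact hN⟩
  -- the centralizer
  have hzC : Subgroup.zpowers x ≤ Subgroup.centralizer ({x} : Set G) := by
    rw [Subgroup.zpowers_le, Subgroup.mem_centralizer_singleton_iff]
  have hCN : Subgroup.centralizer ({x} : Set G) ≤
      Subgroup.normalizer ((P : Subgroup G) : Set G) := by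
    intro c hc
    rw [Subgroup.mem_centralizer_singleton_iff] at hc
    rw [← hzP, Subgroup.mem_normalizer_iff]
    have hconj : ∀ n : ℤ, c * x ^ n * c⁻¹ = x ^ n := by
      intro n
      rw [← conj_zpow]
      congr 1
      rw [hc]; group
    intro y
    constructor
    · intro hy
      obtain ⟨n, rfl⟩ := Subgroup.mem_zpowers_iff.mp hy
      rw [hconj]
      exact Subgroup.zpow_mem_zpowers _ n
    · intro hy
      obtain ⟨n, hn⟩ := Subgroup.mem_zpowers_iff.mp hy
      have : y = x ^ n := by
        have h5 : c⁻¹ * (c * y * c⁻¹) * c = y := by group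
        rw [← h5, ← hn]
        have h6 := hconj n
        calc c⁻¹ * x ^ n * c = c⁻¹ * (c * x ^ n * c⁻¹) * c := by rw [h6]
          _ = x ^ n := by group
      rw [this]
      exact Subgroup.zpow_mem_zpowers _ n
  have hd1 : p ∣ Nat.card (Subgroup.centralizer ({x} : Set G)) := by
    have := Subgroup.card_dvd_of_le hzC
    rwa [Nat.card_zpowers, hox] at this
  have hd2 : Nat.card (Subgroup.centralizer ({x} : Set G)) ∣ p * e := by
    have := Subgroup.card_dvd_of_le hCN
    rwa [hN] at this
  obtain ⟨k, hk⟩ := hd1
  rw [hk] at hd2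
  have hke : k ∣ e := Nat.dvd_of_mul_dvd_mul_left hp.pos hd2
  rcases (Nat.dvd_prime he).mp hke with hk1 | hk1
  · refine ⟨hp, hox, ?_⟩
    symm
    apply Subgroup.eq_of_le_of_card_ge hzC
    rw [hk, hk1, mul_one, Nat.card_zpowers, hox]
  · exfalso
    have hCeq : Subgroup.centralizer ({x} : Set G) =
        Subgroup.normalizer ((P : Subgroup G) : Set G) := by
      apply Subgroup.eq_of_le_of_card_ge hCN
      rw [hN, hk, hk1]
    have hNC : Subgroup.normalizer ((P : Subgroup G) : Set G) ≤
        Subgroup.centralizer ((P : Subgroup G) : Set G) := by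
      rw [← hCeq, ← hzP, Subgroup.zpowers_eq_closure, Subgroup.centralizer_closure]
    have hcomp := MonoidHom.ker_transferSylow_isComplement' P hNC
    have hker : (MonoidHom.transferSylow P hNC).ker.Normal := MonoidHom.normal_ker _
    have hcm := hcomp.card_mul_card
    rcases hker.eq_bot_or_eq_top with hb | ht
    · rw [hb, Subgroup.card_bot, one_mul, hP, hcard] at hcm
      have hg1 : g = 1 := by
        have : p * g = p * 1 := by rw [← hcm, mul_one]
        exact Nat.eq_of_mul_eq_mul_left hp.pos this
      rw [hg1] at hg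
      have := Nat.eq_one_of_mul_eq_one_left hg.symm
      exact he.one_lt.ne this.symm
    · rw [ht, Subgroup.card_top, hP, hcard] at hcm
      have : p * g * p = p * g * 1 := by rw [hcm, mul_one]
      have hp1 : p = 1 := Nat.eq_of_mul_eq_mul_left (Nat.mul_pos hp.pos (Nat.pos_of_ne_zero hg0)) this
      exact hp.one_lt.ne hp1.symm

end Cfsg.Agent.Lib.Helper7.PTI
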