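import Mathlib
import Cfsg.Agent.Lib.Helper7.PTI8
import Cfsg.Agent.Lib.Helper7.PTI9
import Cfsg.Agent.Lib.Helper7.BSW6
import Cfsg.Agent.Lib.Helper8.LinearCount

set_option autoImplicit false

/-!
# Simple groups with a Sylow subgroup of prime order: character degrees
-/

namespace Cfsg.Agent.Lib.Helper7.PTI

open Cfsg Cfsg.Agent.Lib.Helper1 Cfsg.Agent.Lib.Helper2 Cfsg.Agent.Lib.Helper4
open scoped ComplexConjugate commutatorElement

variable {G : Type*} [Group G]

theorem Cfg.base [Finite G] {x : G} {p e : ℕ} (h : Cfg x p)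
    (hN : Nat.card (Subgroup.normalizer ((Subgroup.zpowers x : Subgroup G) : Set G)) = p * e)
    (he : 2 ≤ e) (hbig : e * (e + 2) + 1 ≤ p) : Base (Subgroup.zpowers x) e where
  hTI := h.TI
  hC := fun k hk hk1 => h.cent_le hk hk1
  hab := by
    intro a ha b hb
    obtain ⟨i, rfl⟩ := Subgroup.mem_zpowers_iff.mp ha
    obtain ⟨j, rfl⟩ := Subgroup.mem_zpowers_iff.mp hb
    exact ((Commute.refl x).zpow_zpow i j).eq
  hcomm := fun a ha b hb => h.commutator_mem ha hb
  hidx := by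
    have h1 := (LK (Subgroup.zpowers x)).card_mul_index
    have h2 : Nat.card (LK (Subgroup.zpowers x)) = Nat.card (Subgroup.zpowers x) :=
      Nat.card_congr (Subgroup.subgroupOfEquivOfLe Subgroup.le_normalizer).toEquiv
    rw [h2, h.card_K] at h1
    have h3 : Nat.card ↥(NK (Subgroup.zpowers x)) = p * e := hN
    rw [h3] at h1
    exact Nat.eq_of_mul_eq_mul_left h.prime.pos h1
  he := he
  hbig := by rw [h.card_K]; exact hbig

/-- in a non-abelian simple group a linear character is trivial. -/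
theorem linear_trivial [IsSimpleGroup G] (hnc : ∃ a b : G, a * b ≠ b * a) {χ : G → ℂ}
    (hχ : IsIrrCharacter G χ) (h1 : χ 1 = 1) : χ = fun _ => 1 := by
  have hperf : commutator G = ⊤ := by
    rcases (inferInstance : (commutator G).Normal).eq_bot_or_eq_top with hb | ht
    · exfalso
      obtain ⟨a, b, hab⟩ := hnc
      apply hab
      have : ⁅a, b⁆ ∈ commutator G := Subgroup.commutator_mem_commutator
        (Subgroup.mem_top a) (Subgroup.mem_top b)
      rw [hb, Subgroup.mem_bot, commutatorElement_def] at this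
      have h2 : a * b = (a * b * a⁻¹ * b⁻¹) * (b * a) := by group
      rw [h2, this, one_mul]
    · exact ht
  funext c
  exact Cfsg.Agent.Lib.Helper8.linear_irr_commutator hχ h1 (by rw [hperf]; trivial)

theorem simple_main [Fintype G] [IsSimpleGroup G] [Fintype (IrrCharacter G)] {p g n₀ e : ℕ}
    (hp : p.Prime) (he : e.Prime) (hcard : Nat.card G = p * g) (hpg : ¬ p ∣ g)
    (hg : g = n₀ * e) (hdiv : ∀ n, n ∣ g → n % p = 1 → n = 1 ∨ n = n₀)
    (hbig : e * (e + 2) + 1 ≤ p) :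
    ∃ (a : IrrCharacter G → ℤ) (deg : IrrCharacter G → ℕ) (D : ℤ) (θ₀ θ₁ : IrrCharacter G),
      a θ₁ = 1 ∧ deg θ₁ = 1 ∧ (∀ θ : IrrCharacter G, θ ≠ θ₁ → deg θ ≠ 1) ∧
      (∀ θ : IrrCharacter G, deg θ ∣ p * g) ∧
      ∑ θ : IrrCharacter G, a θ ^ 2 = (e : ℤ) ∧
      ∑ θ : IrrCharacter G, a θ * (deg θ : ℤ) = D ∧
      (∀ θ : IrrCharacter G, a θ ≠ 0 → (p : ℤ) ∣ (deg θ : ℤ) - a θ) ∧
      (p : ℤ) ∣ D - e ∧ (deg θ₀ : ℤ) = |D| := by
  classical
  obtain ⟨x, hx, hN⟩ := exists_cfg hp he hcard hpg hg hdiv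
  have hb := hx.base hN he.two_le hbig
  obtain ⟨a, deg, D, θ₀, hdeg, htriv, hsq, hsum, hcong, hD, hθ₀⟩ := hb.main
  rw [hx.card_K] at hcong hD
  let θ₁ : IrrCharacter G := ⟨fun _ => 1, Cfsg.Agent.S0161.isIrrCharacter_one⟩
  -- G is not abelian
  have hnc : ∃ a b : G, a * b ≠ b * a := by
    by_contra hcomm
    push Not at hcomm
    have h1 : Subgroup.centralizer ({x} : Set G) = ⊤ := by
      rw [eq_top_iff]
      intro y _
      rw [Subgroup.mem_centralizer_singleton_iff]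
      exact hcomm y x
    have h2 : Nat.card (Subgroup.zpowers x) = Nat.card G := by
      rw [← hx.cent, h1, Subgroup.card_top]
    rw [hx.card_K, hcard] at h2
    have hg1 : g = 1 := by
      have : p * g = p * 1 := by rw [← h2, mul_one]
      exact Nat.eq_of_mul_eq_mul_left hp.pos this
    rw [hg1] at hg
    have := Nat.eq_one_of_mul_eq_one_left hg.symm
    exact he.one_lt.ne this.symm
  refine ⟨a, deg, D, θ₀, θ₁, htriv θ₁ rfl, ?_, ?_, ?_, hsq, hsum, hcong, hD, hθ₀⟩
  · have := hdeg θ₁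
    have h1 : ((1 : ℕ) : ℂ) = (deg θ₁ : ℂ) := by
      rw [← this]; simp [θ₁]
    exact_mod_cast h1.symm
  · intro θ hne h1
    apply hne
    apply Subtype.ext
    have h2 : (θ : G → ℂ) 1 = 1 := by rw [hdeg θ, h1]; simp
    exact linear_trivial hnc θ.2 h2
  · intro θ
    rw [← hcard]
    exact Cfsg.Agent.Lib.Helper7.BSW.irr_degree_dvd θ.2 (hdeg θ)

end Cfsg.Agent.Lib.Helper7.PTI
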