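import Mathlib
import Cfsg.Agent.Lib.Helper7.PTI10

set_option autoImplicit false

/-!
# Simple groups with a Sylow subgroup of prime order: the cases `e = 2` and `e = 3`
-/

namespace Cfsg.Agent.Lib.Helper7.PTI

open Cfsg Cfsg.Agent.Lib.Helper1 Cfsg.Agent.Lib.Helper2 Cfsg.Agent.Lib.Helper4
open scoped ComplexConjugate commutatorElement

variable {G : Type*} [Group G]

/-- removing the trivial character from the sums. -/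
theorem remove_triv {ι : Type*} [Fintype ι] [DecidableEq ι] (a : ι → ℤ) (deg : ι → ℕ) (i₁ : ι)
    (ha : a i₁ = 1) (hd : deg i₁ = 1) :
    ∑ i, (if i = i₁ then 0 else a i) * (if i = i₁ then 0 else a i) = ∑ i, a i ^ 2 - 1 ∧
    ∑ i, (if i = i₁ then 0 else a i) * (deg i : ℤ) = ∑ i, a i * (deg i : ℤ) - 1 := by
  constructor
  · have h1 : ∀ i, (if i = i₁ then 0 else a i) * (if i = i₁ then 0 else a i)
        = a i ^ 2 - (if i = i₁ then 1 else 0) := by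
      intro i
      by_cases h : i = i₁
      · subst h; simp [ha]
      · simp [h]; ring
    rw [Finset.sum_congr rfl fun i _ => h1 i, Finset.sum_sub_distrib]
    simp
  · have h1 : ∀ i, (if i = i₁ then 0 else a i) * (deg i : ℤ)
        = a i * (deg i : ℤ) - (if i = i₁ then 1 else 0) := by
      intro i
      by_cases h : i = i₁
      · subst h; simp [ha, hd]
      · simp [h]
    rw [Finset.sum_congr rfl fun i _ => h1 i, Finset.sum_sub_distrib]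
    simp

theorem simple_e2 [Fintype G] [IsSimpleGroup G] {p g n₀ : ℕ}
    (hp : p.Prime) (hcard : Nat.card G = p * g) (hpg : ¬ p ∣ g)
    (hg : g = n₀ * 2) (hdiv : ∀ n, n ∣ g → n % p = 1 → n = 1 ∨ n = n₀)
    (hbig : 9 ≤ p) :
    ∃ (a₂ : ℤ) (f d₀ : ℕ), (a₂ = 1 ∨ a₂ = -1) ∧ f ≠ 1 ∧ f ∣ p * g ∧ (p : ℤ) ∣ (f : ℤ) - a₂ ∧
      d₀ ∣ p * g ∧ (d₀ : ℤ) = |1 + a₂ * (f : ℤ)| ∧ (p : ℤ) ∣ (1 + a₂ * (f : ℤ)) - 2 := by
  classical
  haveI : Fintype (IrrCharacter G) := Fintype.ofFinite _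
  obtain ⟨a, deg, D, θ₀, θ₁, ha1, hd1, hne1, hdvd, hsq, hsum, hcong, hD, hθ₀⟩ :=
    simple_main hp Nat.prime_two hcard hpg hg hdiv (by omega)
  obtain ⟨h1, h2⟩ := remove_triv a deg θ₁ ha1 hd1
  rw [hsq] at h1
  rw [hsum] at h2
  have h1' : ∑ i, (if i = θ₁ then 0 else a i) * (if i = θ₁ then 0 else a i) = 1 := by
    rw [h1]; norm_num
  obtain ⟨θ₂, h3, h4⟩ := int_sq_sum_one _ h1'
  have hne : θ₂ ≠ θ₁ := by
    intro h
    rw [h] at h3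
    simp at h3
  rw [if_neg hne] at h3
  have h5 : ∑ i, (if i = θ₁ then 0 else a i) * (deg i : ℤ) = a θ₂ * (deg θ₂ : ℤ) := by
    rw [Finset.sum_eq_single θ₂]
    · rw [if_neg hne]
    · intro i _ hi
      rw [h4 i hi, zero_mul]
    · intro h; exact absurd (Finset.mem_univ _) h
  rw [h5] at h2
  have hDeq : D = 1 + a θ₂ * (deg θ₂ : ℤ) := by linarith
  have ha0 : a θ₂ ≠ 0 := by
    rcases h3 with h | h <;> rw [h] <;> norm_num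
  refine ⟨a θ₂, deg θ₂, deg θ₀, h3, hne1 θ₂ hne, hdvd θ₂, hcong θ₂ ha0, hdvd θ₀, ?_, ?_⟩
  · rw [hθ₀, hDeq]
  · rw [← hDeq]; exact_mod_cast hD

theorem simple_e3 [Fintype G] [IsSimpleGroup G] {p g n₀ : ℕ}
    (hp : p.Prime) (hcard : Nat.card G = p * g) (hpg : ¬ p ∣ g)
    (hg : g = n₀ * 3) (hdiv : ∀ n, n ∣ g → n % p = 1 → n = 1 ∨ n = n₀)
    (hbig : 16 ≤ p) :
    ∃ (a₂ a₃ : ℤ) (f₂ f₃ d₀ : ℕ), (a₂ = 1 ∨ a₂ = -1) ∧ (a₃ = 1 ∨ a₃ = -1) ∧ f₂ ≠ 1 ∧ f₃ ≠ 1 ∧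
      f₂ ∣ p * g ∧ f₃ ∣ p * g ∧ (p : ℤ) ∣ (f₂ : ℤ) - a₂ ∧ (p : ℤ) ∣ (f₃ : ℤ) - a₃ ∧
      d₀ ∣ p * g ∧ (d₀ : ℤ) = |1 + a₂ * (f₂ : ℤ) + a₃ * (f₃ : ℤ)| ∧
      (p : ℤ) ∣ (1 + a₂ * (f₂ : ℤ) + a₃ * (f₃ : ℤ)) - 3 := by
  classical
  haveI : Fintype (IrrCharacter G) := Fintype.ofFinite _
  obtain ⟨a, deg, D, θ₀, θ₁, ha1, hd1, hne1, hdvd, hsq, hsum, hcong, hD, hθ₀⟩ :=
    simple_main hp Nat.prime_three hcard hpg hg hdiv (by omega)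
  obtain ⟨h1, h2⟩ := remove_triv a deg θ₁ ha1 hd1
  rw [hsq] at h1
  rw [hsum] at h2
  have h1' : ∑ i, (if i = θ₁ then 0 else a i) * (if i = θ₁ then 0 else a i) = 2 := by
    rw [h1]; norm_num
  obtain ⟨θ₂, θ₃, h23, h3, h3', h4⟩ := int_sq_sum_two _ h1'
  have hne2 : θ₂ ≠ θ₁ := by
    intro h
    rw [h] at h3
    simp at h3
  have hne3 : θ₃ ≠ θ₁ := by
    intro h
    rw [h] at h3'
    simp at h3'
  rw [if_neg hne2] at h3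
  rw [if_neg hne3] at h3'
  have h5 : ∑ i, (if i = θ₁ then 0 else a i) * (deg i : ℤ)
      = a θ₂ * (deg θ₂ : ℤ) + a θ₃ * (deg θ₃ : ℤ) := by
    rw [Finset.sum_eq_add θ₂ θ₃ h23]
    · rw [if_neg hne2, if_neg hne3]
    · intro i _ hi
      rw [h4 i hi.1 hi.2, zero_mul]
    · intro h; exact absurd (Finset.mem_univ _) h
    · intro h; exact absurd (Finset.mem_univ _) h
  rw [h5] at h2
  have hDeq : D = 1 + a θ₂ * (deg θ₂ : ℤ) + a θ₃ * (deg θ₃ : ℤ) := by linarith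
  have ha2 : a θ₂ ≠ 0 := by
    rcases h3 with h | h <;> rw [h] <;> norm_num
  have ha3 : a θ₃ ≠ 0 := by
    rcases h3' with h | h <;> rw [h] <;> norm_num
  refine ⟨a θ₂, a θ₃, deg θ₂, deg θ₃, deg θ₀, h3, h3', hne1 θ₂ hne2, hne1 θ₃ hne3, hdvd θ₂,
    hdvd θ₃, hcong θ₂ ha2, hcong θ₃ ha3, hdvd θ₀, ?_, ?_⟩
  · rw [hθ₀, hDeq]
  · rw [← hDeq]; exact_mod_cast hD

end Cfsg.Agent.Lib.Helper7.PTI
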