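import Mathlib
import Cfsg.Agent.Lib.Helper7.PTI11

set_option autoImplicit false

/-!
# Arithmetic helpers for the degree enumeration
-/

namespace Cfsg.Agent.Lib.Helper7.PTI

/-- a degree congruent to `±1` modulo `p` dividing `p g` divides `g`. -/
theorem dvd_cofactor {p g f : ℕ} (hp : p.Prime) {a : ℤ} (ha : a = 1 ∨ a = -1)
    (hf : f ∣ p * g) (hfa : (p : ℤ) ∣ (f : ℤ) - a) : f ∣ g := by
  have hnd : ¬ p ∣ f := by
    intro hpf
    have h1 : (p : ℤ) ∣ (f : ℤ) := by exact_mod_cast hpf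
    have h2 : (p : ℤ) ∣ a := by
      have := dvd_sub h1 hfa
      simpa using this
    have h3 : (p : ℤ) ∣ 1 := by
      rcases ha with rfl | rfl
      · exact h2
      · simpa using h2
    have h4 : p ∣ 1 := by exact_mod_cast h3
    exact hp.one_lt.ne' (Nat.dvd_one.mp h4)
  have hcop : Nat.Coprime f p := ((Nat.Prime.coprime_iff_not_dvd hp).mpr hnd).symm
  exact hcop.dvd_of_dvd_mul_left hf

end Cfsg.Agent.Lib.Helper7.PTI
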