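import Mathlib
import Cfsg.Agent.S0286
import Cfsg.Agent.S0287
import Cfsg.Agent.S0288
import Cfsg.Agent.Lib.Helper7.OrdTwoAdic

set_option autoImplicit false

/-!
# 2-parts of the orders of the orthogonal groups over a field of odd order (S4629-31, package ORD)
-/

namespace Cfsg.Agent.Lib.Helper7.OrdTwoAdic

variable {F : Type*} [Field F] [Fintype F]

theorem one_lt_card_field : 1 < Fintype.card F := Fintype.one_lt_card

/-- `v₂ |GO_{2m+1}(q)| = m v₂(q² - 1) + v₂(m!) + 1` -/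
theorem val2_card_isometry_odd (hF : Odd (Fintype.card F)) (m : ℕ) :
    padicValNat 2 (Nat.card (Cfsg.isometryGroup F (Cfsg.quadFormOdd m F))) =
      m * padicValNat 2 (Fintype.card F ^ 2 - 1) + padicValNat 2 m.factorial + 1 := by
  rw [Cfsg.Agent.S0286.result (F := F) rfl hF m]
  exact val2_card_odd hF one_lt_card_field m

theorem card_isometry_plus (m : ℕ) (hm : 1 ≤ m) :
    Nat.card (Cfsg.isometryGroup F (Cfsg.quadFormPlus m F)) = cardPlus (Fintype.card F) m :=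
  Cfsg.Agent.S0287.result (F := F) rfl m hm

theorem card_isometry_minus (m : ℕ) (hm : 1 ≤ m) (a b : F)
    (hab : ∀ z₁ z₂ : F, z₁ ^ 2 + a * z₁ * z₂ + b * z₂ ^ 2 = 0 → z₁ = 0 ∧ z₂ = 0) :
    Nat.card (Cfsg.isometryGroup F (Cfsg.quadFormMinus (m - 1) F a b)) =
      cardMinus (Fintype.card F) m :=
  Cfsg.Agent.S0288.result (F := F) rfl m hm a b hab

/-- `v₂ |GO⁺_{2m}(q)|` when `m` is even or `q ≡ 1 (mod 4)` -/
theorem val2_card_isometry_plus_full (hF : Odd (Fintype.card F)) (m : ℕ) (hm : 1 ≤ m)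
    (h : Even m ∨ Fintype.card F % 4 = 1) :
    padicValNat 2 (Nat.card (Cfsg.isometryGroup F (Cfsg.quadFormPlus m F))) =
      m * padicValNat 2 (Fintype.card F ^ 2 - 1) + padicValNat 2 m.factorial := by
  rw [card_isometry_plus m hm]
  exact val2_cardPlus_full hF one_lt_card_field hm h

/-- `v₂ |GO⁺_{2m}(q)|` when `m` is odd and `q ≡ 3 (mod 4)` -/
theorem val2_card_isometry_plus_defect (m : ℕ) (hmo : Odd m) (h4 : Fintype.card F % 4 = 3) :
    padicValNat 2 (Nat.card (Cfsg.isometryGroup F (Cfsg.quadFormPlus m F))) =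
      (m - 1) * padicValNat 2 (Fintype.card F ^ 2 - 1) + padicValNat 2 (m - 1).factorial + 2 := by
  rw [card_isometry_plus m hmo.pos]
  exact val2_cardPlus_defect one_lt_card_field hmo h4

/-- `v₂ |GO⁻_{2m}(q)|` when `m` is odd and `q ≡ 3 (mod 4)` -/
theorem val2_card_isometry_minus_full (m : ℕ) (hmo : Odd m) (h4 : Fintype.card F % 4 = 3)
    (a b : F) (hab : ∀ z₁ z₂ : F, z₁ ^ 2 + a * z₁ * z₂ + b * z₂ ^ 2 = 0 → z₁ = 0 ∧ z₂ = 0) :
    padicValNat 2 (Nat.card (Cfsg.isometryGroup F (Cfsg.quadFormMinus (m - 1) F a b))) =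
      m * padicValNat 2 (Fintype.card F ^ 2 - 1) + padicValNat 2 m.factorial := by
  rw [card_isometry_minus m hmo.pos a b hab]
  exact val2_cardMinus_full one_lt_card_field hmo h4

/-- `v₂ |GO⁻_{2m}(q)|` when `m` is even or `q ≡ 1 (mod 4)` -/
theorem val2_card_isometry_minus_defect (hF : Odd (Fintype.card F)) (m : ℕ) (hm : 1 ≤ m)
    (h : Even m ∨ Fintype.card F % 4 = 1)
    (a b : F) (hab : ∀ z₁ z₂ : F, z₁ ^ 2 + a * z₁ * z₂ + b * z₂ ^ 2 = 0 → z₁ = 0 ∧ z₂ = 0) :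
    padicValNat 2 (Nat.card (Cfsg.isometryGroup F (Cfsg.quadFormMinus (m - 1) F a b))) =
      (m - 1) * padicValNat 2 (Fintype.card F ^ 2 - 1) + padicValNat 2 (m - 1).factorial + 2 := by
  rw [card_isometry_minus m hm a b hab]
  exact val2_cardMinus_defect hF one_lt_card_field hm h

end Cfsg.Agent.Lib.Helper7.OrdTwoAdic
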