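import Mathlib
import Cfsg.Agent.Lib.Helper9.S3452_SDP

/-!
# S3452 swarm, package FROB9 (helper7), part a: the group `C` of order 40 and its action on `F_3^4`.

`H_k = (Fin k → F_3^4) ⋊ C`, `C = C_5 ⋊ C_8 = ⟨a, b | a^5 = b^8 = 1, b a b⁻¹ = a^3⟩` of order 40, acting on `F_3^4 = F_81`
by explicit 4×4 matrices (`a` = multiplication by an element of order 5, `b = x ↦ β x^3`, `β^40 = -1`), fixed-point-freely.
By `frob_spec` the set of element orders is `spec C ∪ {3} = {1,2,4,8,5,10,3}`.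
-/

set_option autoImplicit false

namespace Cfsg.Agent.Lib.S3452

open Matrix

/-- the group `C_5 ⋊ C_8` of order 40, as pairs `(i, j) = a^i b^j` -/
structure frob9_C where
  i : ZMod 5
  j : ZMod 8
  deriving DecidableEq, Fintype

/-- `j ↦ 3^j` in `ZMod 5` -/
def frob9_e (j : ZMod 8) : ZMod 5 := 3 ^ j.val

instance frob9_instMul : Mul frob9_C := ⟨fun x y => ⟨x.i + frob9_e x.j * y.i, x.j + y.j⟩⟩
instance frob9_instOne : One frob9_C := ⟨⟨0, 0⟩⟩
instance frob9_instInv : Inv frob9_C := ⟨fun x => ⟨-(frob9_e (-x.j) * x.i), -x.j⟩⟩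

theorem frob9_mul_def (x y : frob9_C) : x * y = ⟨x.i + frob9_e x.j * y.i, x.j + y.j⟩ := rfl

theorem frob9_e_add : ∀ a b : ZMod 8, frob9_e (a + b) = frob9_e a * frob9_e b := by decide

theorem frob9_mul_assoc (a b c : frob9_C) : a * b * c = a * (b * c) := by
  simp only [frob9_mul_def, frob9_e_add]
  congr 1 <;> ring

theorem frob9_one_mul : ∀ a : frob9_C, 1 * a = a := by decide
theorem frob9_inv_mul : ∀ a : frob9_C, a⁻¹ * a = 1 := by decide

instance frob9_instGroup : Group frob9_C :=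
  Group.ofLeftAxioms frob9_mul_assoc frob9_one_mul frob9_inv_mul

/-- powers of `a` (multiplication by an element of order 5 of `F_81`) -/
def frob9_A : Matrix (Fin 4) (Fin 4) (ZMod 3) := !![2,0,2,0; 2,2,0,2; 2,2,2,0; 0,2,0,2]
/-- `b = x ↦ β x^3` -/
def frob9_B : Matrix (Fin 4) (Fin 4) (ZMod 3) := !![0,1,2,1; 1,0,1,0; 0,0,2,2; 0,2,2,1]

/-- the representation `a^i b^j ↦ A^i B^j` -/
def frob9_f (c : frob9_C) : Matrix (Fin 4) (Fin 4) (ZMod 3) := frob9_A ^ c.i.val * frob9_B ^ c.j.val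

theorem frob9_f_one : frob9_f 1 = 1 := by decide +kernel
theorem frob9_f_mul : ∀ x y : frob9_C, frob9_f (x * y) = frob9_f x * frob9_f y := by decide +kernel

/-- `F_3^4` -/
abbrev frob9_V : Type := Fin 4 → ZMod 3

instance frob9_instSMul : SMul frob9_C frob9_V := ⟨fun c v => (frob9_f c) *ᵥ (v : Fin 4 → ZMod 3)⟩

theorem frob9_smul_def (c : frob9_C) (v : frob9_V) : c • v = ((frob9_f c) *ᵥ (v : Fin 4 → ZMod 3) : Fin 4 → ZMod 3) := rfl

instance frob9_instDMA : DistribMulAction frob9_C frob9_V where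
  one_smul v := by
    show (frob9_f 1) *ᵥ (v : Fin 4 → ZMod 3) = v
    rw [frob9_f_one, Matrix.one_mulVec]
  mul_smul x y v := by
    show (frob9_f (x * y)) *ᵥ (v : Fin 4 → ZMod 3) = (frob9_f x) *ᵥ ((frob9_f y) *ᵥ (v : Fin 4 → ZMod 3))
    rw [frob9_f_mul, Matrix.mulVec_mulVec]
  smul_zero c := by
    show (frob9_f c) *ᵥ (0 : Fin 4 → ZMod 3) = 0
    exact Matrix.mulVec_zero _
  smul_add c v w := by
    show (frob9_f c) *ᵥ ((v : Fin 4 → ZMod 3) + w) = (frob9_f c) *ᵥ v + (frob9_f c) *ᵥ w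
    exact Matrix.mulVec_add _ _ _

/-- fixed-point-freeness on `F_3^4` -/
theorem frob9_fpf : ∀ c : frob9_C, c ≠ 1 → ∀ v : frob9_V, c • v = v → v = 0 := by decide +kernel

end Cfsg.Agent.Lib.S3452
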