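import Mathlib
import Cfsg.Agent.Lib.Helper9.S3452_SDP
import Cfsg.Agent.Lib.Helper7.S3452_FROB9a

/-!
# S3452 swarm, package FROB9 (helper7): `frob_nine`.
-/

set_option autoImplicit false

namespace Cfsg.Agent.Lib.S3452

theorem frob9_pow_cases : ∀ c : frob9_C, c ^ 8 = 1 ∨ c ^ 10 = 1 := by decide

theorem frob9_orderOf_eq (x : frob9_C) (n : ℕ) (hn : 0 < n)
    (h : x ^ n = 1 ∧ ∀ m < n, 0 < m → x ^ m ≠ 1) : orderOf x = n := (orderOf_eq_iff hn).2 h

theorem frob9_dvd8 (d : ℕ) (hd : d ∣ 8) : d = 1 ∨ d = 2 ∨ d = 4 ∨ d = 8 := by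
  have h1 : d ∈ Nat.divisors 8 := Nat.mem_divisors.2 ⟨hd, by norm_num⟩
  have h2 : Nat.divisors 8 = {1, 2, 4, 8} := by decide
  rw [h2] at h1
  simpa using h1

theorem frob9_dvd10 (d : ℕ) (hd : d ∣ 10) : d = 1 ∨ d = 2 ∨ d = 5 ∨ d = 10 := by
  have h1 : d ∈ Nat.divisors 10 := Nat.mem_divisors.2 ⟨hd, by norm_num⟩
  have h2 : Nat.divisors 10 = {1, 2, 5, 10} := by decide
  rw [h2] at h1
  simpa using h1

theorem frob9_range : Set.range (orderOf : frob9_C → ℕ) = {d | d ∣ 8 ∨ d ∣ 10} := by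
  ext d
  constructor
  · rintro ⟨c, rfl⟩
    rcases frob9_pow_cases c with h | h
    · exact Or.inl (orderOf_dvd_of_pow_eq_one h)
    · exact Or.inr (orderOf_dvd_of_pow_eq_one h)
  · intro hd
    have o1 : orderOf (1 : frob9_C) = 1 := orderOf_one
    have o2 : orderOf (⟨0, 4⟩ : frob9_C) = 2 := frob9_orderOf_eq _ _ (by norm_num) (by decide)
    have o4 : orderOf (⟨0, 2⟩ : frob9_C) = 4 := frob9_orderOf_eq _ _ (by norm_num) (by decide)
    have o8 : orderOf (⟨0, 1⟩ : frob9_C) = 8 := frob9_orderOf_eq _ _ (by norm_num) (by decide)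
    have o5 : orderOf (⟨1, 0⟩ : frob9_C) = 5 := frob9_orderOf_eq _ _ (by norm_num) (by decide)
    have o10 : orderOf (⟨1, 4⟩ : frob9_C) = 10 := frob9_orderOf_eq _ _ (by norm_num) (by decide)
    rcases hd with hd | hd
    · rcases frob9_dvd8 d hd with rfl | rfl | rfl | rfl
      exacts [⟨_, o1⟩, ⟨_, o2⟩, ⟨_, o4⟩, ⟨_, o8⟩]
    · rcases frob9_dvd10 d hd with rfl | rfl | rfl | rfl
      exacts [⟨_, o1⟩, ⟨_, o2⟩, ⟨_, o5⟩, ⟨_, o10⟩]

/-- the module `(F_3^4)^k` -/
abbrev frob9_W (k : ℕ) : Type := Fin k → frob9_V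

/-- the action of `C` on `Multiplicative ((F_3^4)^k)` -/
def frob9_phi (k : ℕ) : frob9_C →* MulAut (Multiplicative (frob9_W k)) :=
  (MulAutMultiplicative (frob9_W k)).symm.toMonoidHom.comp (DistribMulAction.toAddAut frob9_C (frob9_W k))

theorem frob9_phi_apply (k : ℕ) (c : frob9_C) (w : frob9_W k) :
    frob9_phi k c (Multiplicative.ofAdd w) = Multiplicative.ofAdd (c • w) := rfl

theorem frob9_phi_fpf (k : ℕ) (c : frob9_C) (hc : c ≠ 1) (z : Multiplicative (frob9_W k))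
    (hz : frob9_phi k c z = z) : z = 1 := by
  obtain ⟨w, rfl⟩ : ∃ w : frob9_W k, Multiplicative.ofAdd w = z := ⟨Multiplicative.toAdd z, rfl⟩
  rw [frob9_phi_apply] at hz
  have hw : c • w = w := Multiplicative.ofAdd.injective hz
  have : w = 0 := by
    funext j
    exact frob9_fpf c hc (w j) (congrFun hw j)
  rw [this]; rfl

theorem frob9_exp (k : ℕ) (z : Multiplicative (frob9_W k)) : z ^ 3 = 1 := by
  obtain ⟨w, rfl⟩ : ∃ w : frob9_W k, Multiplicative.ofAdd w = z := ⟨Multiplicative.toAdd z, rfl⟩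
  rw [← ofAdd_nsmul]
  have : (3 : ℕ) • w = 0 := by
    funext j a
    show (3 : ℕ) • (w j a) = 0
    rw [nsmul_eq_mul]
    have : ((3 : ℕ) : ZMod 3) = 0 := by decide
    rw [this, zero_mul]
  rw [this]; rfl

theorem frob_nine (N₀ : ℕ) : ∃ (H : Type) (_ : Group H) (_ : Fintype H), N₀ < Fintype.card H ∧
    Set.range (orderOf : H → ℕ) = {d | d ∣ 8 ∨ d ∣ 10 ∨ d = 3} := by
  let k : ℕ := N₀ + 1
  refine ⟨Multiplicative (frob9_W k) ⋊[frob9_phi k] frob9_C, inferInstance,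
    Fintype.ofEquiv _ SemidirectProduct.equivProd.symm, ?_, ?_⟩
  · rw [Fintype.ofEquiv_card, Fintype.card_prod]
    have h1 : Fintype.card (Multiplicative (frob9_W k)) = 81 ^ k := by
      simp [frob9_W, frob9_V, Fintype.card_pi, ZMod.card]
    rw [h1]
    have h2 : N₀ < 81 ^ N₀ := Nat.lt_pow_self (by norm_num)
    have h3 : 81 ^ N₀ ≤ 81 ^ k := Nat.pow_le_pow_right (by norm_num) (Nat.le_succ _)
    have h4 : 0 < Fintype.card frob9_C := Fintype.card_pos
    nlinarith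
  · have hne : ∃ z : Multiplicative (frob9_W k), z ≠ 1 := by
      refine ⟨Multiplicative.ofAdd (fun _ _ => 1), ?_⟩
      intro h
      have h' : (fun (_ : Fin k) (_ : Fin 4) => (1 : ZMod 3)) = 0 := Multiplicative.ofAdd.injective h
      have h'' : (1 : ZMod 3) = 0 := congrFun (congrFun h' ⟨0, Nat.succ_pos _⟩) 0
      exact absurd h'' (by decide)
    rw [frob_spec (frob9_phi k) 3 Nat.prime_three (frob9_exp k) hne (frob9_phi_fpf k), frob9_range]
    ext d
    constructor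
    · rintro (h | h)
      · rcases h with h | h
        · exact Or.inl h
        · exact Or.inr (Or.inl h)
      · exact Or.inr (Or.inr h)
    · rintro (h | h | h)
      · exact Or.inl (Or.inl h)
      · exact Or.inl (Or.inr h)
      · exact Or.inr h

end Cfsg.Agent.Lib.S3452
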