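import Mathlib
import Cfsg.Agent.Lib.Helper5.SpU0
import Cfsg.Agent.Lib.Helper5.AltForm

set_option autoImplicit false

/-!
Package F2 of S2676: congruence classes of nondegenerate skew-symmetric matrices over a field of
characteristic different from two: one class in even dimension, none in odd dimension.
-/

namespace Cfsg.Agent.Lib.Helper7.SkewForms

open Matrix Module Cfsg.Agent.Lib.Helper5.SpU Cfsg.Agent.Lib.Helper5.AltForm

variable {F : Type*} [Field F]

theorem even_card_of_skew' (h2 : (2 : F) ≠ 0) {ι : Type*} [Fintype ι] [DecidableEq ι]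
    (B : Matrix ι ι F) (hB : Bᵀ = -B) (hu : IsUnit B.det) : Even (Fintype.card ι) := by
  by_contra hodd
  rw [Nat.not_even_iff_odd] at hodd
  have h1 : B.det = -B.det := by
    have := congrArg Matrix.det hB
    rw [Matrix.det_transpose, Matrix.det_neg, hodd.neg_one_pow, neg_one_mul] at this
    exact this
  have h3 : (2 : F) * B.det = 0 := by
    have : B.det + B.det = 0 := by nth_rewrite 1 [h1]; exact neg_add_cancel _
    rw [two_mul]; exact this
  rcases mul_eq_zero.1 h3 with h | h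
  · exact h2 h
  · rw [h] at hu
    exact not_isUnit_zero hu

/-- the quadratic form of a skew matrix vanishes. -/
theorem dot_mulVec_self_eq_zero (h2 : (2 : F) ≠ 0) {ι : Type*} [Fintype ι] [DecidableEq ι]
    (B : Matrix ι ι F) (hB : Bᵀ = -B) (x : ι → F) : x ⬝ᵥ (B *ᵥ x) = 0 := by
  have h1 : x ⬝ᵥ (B *ᵥ x) = -(x ⬝ᵥ (B *ᵥ x)) := by
    calc x ⬝ᵥ (B *ᵥ x) = (x ᵥ* B) ⬝ᵥ x := Matrix.dotProduct_mulVec x B x
      _ = (Bᵀ *ᵥ x) ⬝ᵥ x := by rw [Matrix.mulVec_transpose]
      _ = ((-B) *ᵥ x) ⬝ᵥ x := by rw [hB]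
      _ = -((B *ᵥ x) ⬝ᵥ x) := by rw [Matrix.neg_mulVec, neg_dotProduct]
      _ = -(x ⬝ᵥ (B *ᵥ x)) := by rw [dotProduct_comm]
  have h3 : (2 : F) * (x ⬝ᵥ (B *ᵥ x)) = 0 := by
    have : x ⬝ᵥ (B *ᵥ x) + x ⬝ᵥ (B *ᵥ x) = 0 := by nth_rewrite 1 [h1]; exact neg_add_cancel _
    rw [two_mul]; exact this
  rcases mul_eq_zero.1 h3 with h | h
  · exact absurd h h2
  · exact h

/-- an invertible skew matrix is `Qᵀ J Q` for an invertible `Q`. -/
theorem exists_symplectic_coords (h2 : (2 : F) ≠ 0) {ι : Type*} [Fintype ι] [DecidableEq ι]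
    (B : Matrix ι ι F) (hB : Bᵀ = -B) (hu : IsUnit B.det) :
    ∃ (m : ℕ) (P : Matrix ι (Fin m ⊕ Fin m) F) (Q : Matrix (Fin m ⊕ Fin m) ι F),
      2 * m = Fintype.card ι ∧ P * Q = 1 ∧ Q * P = 1 ∧ Pᵀ * B * P = Matrix.J (Fin m) F := by
  classical
  set β : LinearMap.BilinForm F (ι → F) := Matrix.toBilin' B with hβ
  have hβapp : ∀ x y : ι → F, β x y = x ⬝ᵥ (B *ᵥ y) := fun x y => Matrix.toBilin'_apply' B x y
  have halt : β.IsAlt := by
    intro x
    rw [hβapp]
    exact dot_mulVec_self_eq_zero h2 B hB x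
  have hnd : ∀ x, (∀ y, β x y = 0) → x = 0 := by
    intro x hx
    have h1 : x ᵥ* B = 0 := by
      apply dotProduct_eq_zero
      intro y
      rw [← Matrix.dotProduct_mulVec, ← hβapp]
      exact hx y
    exact Matrix.eq_zero_of_vecMul_eq_zero hu.ne_zero h1
  obtain ⟨m, b, hm, hJ⟩ := exists_symplectic_basis halt hnd
  refine ⟨m, (Pi.basisFun F ι).toMatrix b, b.toMatrix (Pi.basisFun F ι), ?_, ?_, ?_, ?_⟩
  · rw [hm, Module.finrank_fintype_fun_eq_card]
  · exact Basis.toMatrix_mul_toMatrix_flip _ _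
  · exact Basis.toMatrix_mul_toMatrix_flip _ _
  · ext x y
    rw [← hJ x y, hβapp]
    have hP : ∀ i z, (Pi.basisFun F ι).toMatrix b i z = b z i := by
      intro i z
      rw [Basis.toMatrix_apply, Pi.basisFun_repr]
    simp only [Matrix.mul_apply, Matrix.transpose_apply, hP, dotProduct, Matrix.mulVec,
      Finset.sum_mul, Finset.mul_sum]
    rw [Finset.sum_comm]
    refine Finset.sum_congr rfl (fun i _ => Finset.sum_congr rfl (fun j _ => ?_))
    ring

/-- any two invertible skew matrices are congruent. -/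
theorem congr_of_skew (h2 : (2 : F) ≠ 0) {ι : Type*} [Fintype ι] [DecidableEq ι]
    (B B' : Matrix ι ι F) (hB : Bᵀ = -B) (hu : IsUnit B.det) (hB' : B'ᵀ = -B')
    (hu' : IsUnit B'.det) :
    ∃ g : Matrix ι ι F, IsUnit g.det ∧ gᵀ * B * g = B' := by
  classical
  obtain ⟨m, P, Q, hm, hPQ, hQP, hJ⟩ := exists_symplectic_coords h2 B hB hu
  obtain ⟨m', P', Q', hm', hPQ', hQP', hJ'⟩ := exists_symplectic_coords h2 B' hB' hu'
  have hmm : m = m' := by omega
  subst hmm
  have hB'eq : B' = Q'ᵀ * Matrix.J (Fin m) F * Q' := by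
    rw [← hJ']
    calc B' = (P' * Q')ᵀ * B' * (P' * Q') := by rw [hPQ', Matrix.transpose_one, one_mul, mul_one]
      _ = Q'ᵀ * (P'ᵀ * B' * P') * Q' := by
          rw [Matrix.transpose_mul]; simp only [Matrix.mul_assoc]
  refine ⟨P * Q', ?_, ?_⟩
  · have : (P * Q') * (P' * Q) = 1 := by
      calc (P * Q') * (P' * Q) = P * (Q' * P') * Q := by simp only [Matrix.mul_assoc]
        _ = 1 := by rw [hQP', Matrix.mul_one, hPQ]
    exact Matrix.isUnit_det_of_right_inverse this
  · rw [hB'eq, ← hJ, Matrix.transpose_mul]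
    simp only [Matrix.mul_assoc]

/-- existence of an invertible skew matrix in even dimension. -/
theorem exists_skew (ι : Type*) [Fintype ι] [DecidableEq ι] (he : Even (Fintype.card ι)) :
    ∃ B : Matrix ι ι F, Bᵀ = -B ∧ IsUnit B.det := by
  classical
  obtain ⟨m, hm⟩ := he
  have hc : Fintype.card ι = Fintype.card (Fin m ⊕ Fin m) := by
    rw [Fintype.card_sum, Fintype.card_fin, hm]
  let e : (Fin m ⊕ Fin m) ≃ ι := (Fintype.equivOfCardEq hc).symm
  refine ⟨Matrix.reindex e e (Matrix.J (Fin m) F), ?_, ?_⟩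
  · rw [Matrix.reindex_apply, Matrix.transpose_submatrix, Matrix.J_transpose]
    rfl
  · rw [Matrix.det_reindex_self]
    exact Matrix.isUnit_det_J _ _

/-- **Package F2.** -/
theorem card_forms_neg_one {F : Type*} [Field F] [Fintype F] (h2 : (2 : F) ≠ 0) (ι : Type*)
    [Fintype ι] [DecidableEq ι] :
    Nat.card (Quotient (formSetoid (-1 : F) ι)) = if Even (Fintype.card ι) then 1 else 0 := by
  classical
  have hskew : ∀ B : Forms F (-1 : F) ι, B.1ᵀ = -B.1 := by
    intro B
    have := B.2.1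
    rwa [neg_one_smul] at this
  by_cases he : Even (Fintype.card ι)
  · rw [if_pos he]
    obtain ⟨B₀, hB₀, hu₀⟩ := exists_skew (F := F) ι he
    have hne : Nonempty (Quotient (formSetoid (-1 : F) ι)) :=
      ⟨Quotient.mk _ ⟨B₀, by rw [neg_one_smul]; exact hB₀, hu₀⟩⟩
    have hss : Subsingleton (Quotient (formSetoid (-1 : F) ι)) := by
      refine ⟨fun x y => ?_⟩
      induction x using Quotient.inductionOn with
      | _ B =>
        induction y using Quotient.inductionOn with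
        | _ B' =>
          apply Quotient.sound
          exact congr_of_skew h2 B.1 B'.1 (hskew B) B.2.2 (hskew B') B'.2.2
    rw [Nat.card_eq_one_iff_unique]
    exact ⟨hss, hne⟩
  · rw [if_neg he]
    have : IsEmpty (Forms F (-1 : F) ι) :=
      ⟨fun B => he (even_card_of_skew' h2 B.1 (hskew B) B.2.2)⟩
    have : IsEmpty (Quotient (formSetoid (-1 : F) ι)) :=
      ⟨fun q => Quotient.inductionOn q (fun B => this.false B)⟩
    exact Nat.card_of_isEmpty

end Cfsg.Agent.Lib.Helper7.SkewForms
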