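import Mathlib
import Cfsg.Prelude
import Cfsg.Agent.Lib.Helper5.SpRU.Act

set_option autoImplicit false
set_option linter.unusedSectionVars false

open Matrix

/-! # S2281 package PK7 (CONJ + SEEDS): explicit conjugators for the regular unipotent `uS` -/

namespace Cfsg.Agent.Lib.Helper5.SpRU

variable {F : Type*} [Field F] {m : ℕ}

theorem cj_smul_one (lam : F) (hl : lam ≠ 0) :
    (lam • (1 : Matrix (Fin (m + 1)) (Fin (m + 1)) F)) * (lam⁻¹ • 1) = 1 := by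
  rw [Matrix.smul_mul, Matrix.one_mul, smul_smul, mul_inv_cancel₀ hl, one_smul]

/-- `D(λ) Q(E) = Q(λ² E) D(λ)` -/
theorem cj_scal_Qm (lam : F) (hl : lam ≠ 0) (S : Matrix (Fin (m + 1)) (Fin (m + 1)) F) :
    DD (lam • (1 : Matrix (Fin (m + 1)) (Fin (m + 1)) F)) (lam⁻¹ • 1) * Qm S =
      Qm ((lam ^ 2) • S) * DD (lam • 1) (lam⁻¹ • 1) := by
  rw [DD_mul_Qm (cj_smul_one lam hl)]
  congr 2
  rw [Matrix.transpose_smul, Matrix.transpose_one, Matrix.smul_mul, Matrix.one_mul,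
    Matrix.mul_smul, Matrix.mul_one, smul_smul, pow_two]

theorem cj_scal_DD (lam : F) :
    DD (lam • (1 : Matrix (Fin (m + 1)) (Fin (m + 1)) F)) (lam⁻¹ • 1) * DD (Ublk m F) (Vblk m F) =
      DD (Ublk m F) (Vblk m F) * DD (lam • 1) (lam⁻¹ • 1) := by
  rw [DD_mul, DD_mul]
  congr 1
  · rw [Matrix.smul_mul, Matrix.one_mul, Matrix.mul_smul, Matrix.mul_one]
  · rw [Matrix.smul_mul, Matrix.one_mul, Matrix.mul_smul, Matrix.mul_one]

/-- conjugating `u` by the scalar torus element `D(λ)` -/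
theorem cj_scal_uMat (lam : F) (hl : lam ≠ 0) :
    DD (lam • (1 : Matrix (Fin (m + 1)) (Fin (m + 1)) F)) (lam⁻¹ • 1) * uMat m F =
      DD (Ublk m F) (Vblk m F) * Qm ((lam ^ 2) • Ell m F) * DD (lam • 1) (lam⁻¹ • 1) := by
  unfold uMat
  rw [← Matrix.mul_assoc, cj_scal_DD, Matrix.mul_assoc, cj_scal_Qm lam hl, Matrix.mul_assoc]

theorem seed_scal (lam : F) (hl : lam ≠ 0) :
    ∃ g : Matrix.symplecticGroup (Fin (m + 1)) F,
      (uS m F)⁻¹ * (g * uS m F * g⁻¹) = tS (eV (Fin.last m)) (lam ^ 2 - 1) := by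
  refine ⟨DS (lam • 1) (lam⁻¹ • 1) (cj_smul_one lam hl), ?_⟩
  rw [inv_mul_eq_iff_eq_mul, mul_inv_eq_iff_eq_mul]
  apply Subtype.ext
  show DD (lam • (1 : Matrix (Fin (m + 1)) (Fin (m + 1)) F)) (lam⁻¹ • 1) * uMat m F =
    uMat m F * ((tS (eV (Fin.last m)) (lam ^ 2 - 1) : Matrix.symplecticGroup (Fin (m + 1)) F) :
      Matrix _ _ F) * DD (lam • 1) (lam⁻¹ • 1)
  rw [tS_eV_coe, cj_scal_uMat lam hl]
  unfold uMat
  rw [Matrix.mul_assoc (DD (Ublk m F) (Vblk m F)) (Qm (Ell m F)), Qm_mul]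
  congr 3
  show (lam ^ 2) • Ell m F = Ell m F + (lam ^ 2 - 1) • Ell m F
  rw [sub_smul, one_smul]
  abel


/-! ### the conjugator to the opposite element -/

theorem cj_J_Qm (S : Matrix (Fin (m + 1)) (Fin (m + 1)) F) :
    Matrix.J (Fin (m + 1)) F * Qm S = Qn (-S) * Matrix.J (Fin (m + 1)) F := by
  unfold Qm Qn Matrix.J
  rw [Matrix.fromBlocks_multiply, Matrix.fromBlocks_multiply]
  simp

theorem cj_J_DD (k k' : Matrix (Fin (m + 1)) (Fin (m + 1)) F) :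
    Matrix.J (Fin (m + 1)) F * DD k k' = DD k'ᵀ kᵀ * Matrix.J (Fin (m + 1)) F := by
  unfold DD Matrix.J
  rw [Matrix.fromBlocks_multiply, Matrix.fromBlocks_multiply]
  simp

/-- `J` as a group element -/
def cjJ (m : ℕ) (F : Type*) [Field F] : Matrix.symplecticGroup (Fin (m + 1)) F :=
  ⟨Matrix.J (Fin (m + 1)) F, SymplecticGroup.J_mem _ _⟩

theorem cj_smul_Ell_symm (a : F) : (a • Ell m F)ᵀ = a • Ell m F := by
  rw [Matrix.transpose_smul, Ell_transpose]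

theorem vS_conj (lam : F) (hl : lam ≠ 0) :
    ∃ g : Matrix.symplecticGroup (Fin (m + 1)) F, g * uS m F * g⁻¹ = vS m (lam ^ 2) := by
  refine ⟨cjJ m F * QS ((lam ^ 2) • Ell m F) (cj_smul_Ell_symm _) *
    DS (lam • 1) (lam⁻¹ • 1) (cj_smul_one lam hl), ?_⟩
  rw [mul_inv_eq_iff_eq_mul]
  apply Subtype.ext
  show Matrix.J (Fin (m + 1)) F * Qm ((lam ^ 2) • Ell m F) *
      DD (lam • (1 : Matrix (Fin (m + 1)) (Fin (m + 1)) F)) (lam⁻¹ • 1) * uMat m F =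
    vMat m (lam ^ 2) * (Matrix.J (Fin (m + 1)) F * Qm ((lam ^ 2) • Ell m F) *
      DD (lam • (1 : Matrix (Fin (m + 1)) (Fin (m + 1)) F)) (lam⁻¹ • 1))
  rw [Matrix.mul_assoc _ _ (uMat m F), cj_scal_uMat lam hl]
  unfold vMat
  rw [← Matrix.mul_assoc, ← Matrix.mul_assoc, ← Matrix.mul_assoc, ← Matrix.mul_assoc]
  congr 1
  congr 1
  rw [cj_J_Qm, Matrix.mul_assoc, cj_J_DD, ← Matrix.mul_assoc, neg_smul]

/-! ### seeds from the Siegel radical -/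

theorem seed_aux (X : Matrix (Fin (m + 1)) (Fin (m + 1)) F) (hX : Xᵀ = X) (c : F)
    (h : Ublk m F * (c • Matrix.single (0 : Fin (m + 1)) 0 (1 : F) + X) * (Ublk m F)ᵀ = X) :
    (uS m F)⁻¹ * (QS X hX * uS m F * (QS X hX)⁻¹) = tS (eV (0 : Fin (m + 1))) c := by
  rw [inv_mul_eq_iff_eq_mul, mul_inv_eq_iff_eq_mul]
  apply Subtype.ext
  show Qm X * uMat m F =
    uMat m F * ((tS (eV (0 : Fin (m + 1))) c : Matrix.symplecticGroup (Fin (m + 1)) F) :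
      Matrix _ _ F) * Qm X
  rw [tS_eV_coe]
  unfold uMat
  rw [Matrix.mul_assoc, Matrix.mul_assoc, Qm_mul, Qm_mul, DD_mul_Qm Ublk_mul_Vblk,
    DD_mul_Qm Ublk_mul_Vblk, ← Matrix.mul_assoc, Qm_mul]
  congr 2
  rw [Matrix.mul_add, Matrix.add_mul, h]
  exact add_comm _ _

theorem cj_conj_vmv (a b : Fin (m + 1) → F) :
    Ublk m F * Matrix.vecMulVec a b * (Ublk m F)ᵀ =
      Matrix.vecMulVec (Ublk m F *ᵥ a) (Ublk m F *ᵥ b) := by
  rw [Matrix.mul_vecMulVec, Matrix.vecMulVec_mul, Matrix.vecMul_transpose]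

theorem seed_odd (h2 : (2 : F) ≠ 0) (hm : 1 ≤ m) (c : F) :
    ∃ g : Matrix.symplecticGroup (Fin (m + 1)) F,
      (uS m F)⁻¹ * (g * uS m F * g⁻¹) = tS (eV (0 : Fin (m + 1))) c := by
  obtain ⟨a0, ha0⟩ : ∃ a0 : Fin (m + 1) → F, a0 = Pi.single (0 : Fin (m + 1)) 1 := ⟨_, rfl⟩
  obtain ⟨a1, ha1⟩ : ∃ a1 : Fin (m + 1) → F,
    a1 = Pi.single (⟨1, by omega⟩ : Fin (m + 1)) 1 := ⟨_, rfl⟩
  have hU0 : Ublk m F *ᵥ a0 = a0 := by rw [ha0]; exact Ublk_mulVec_zero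
  have hU1 : Ublk m F *ᵥ a1 = a1 + a0 := by
    rw [ha0, ha1]; exact Ublk_mulVec_succ 0 ⟨1, by omega⟩ (by simp)
  obtain ⟨X, hXdef⟩ : ∃ X : Matrix (Fin (m + 1)) (Fin (m + 1)) F,
    X = (-(c / 2)) • (Matrix.vecMulVec a0 a1 + Matrix.vecMulVec a1 a0) := ⟨_, rfl⟩
  have hX : Xᵀ = X := by
    rw [hXdef]
    ext i j
    simp only [Matrix.transpose_apply, Matrix.smul_apply, Matrix.add_apply,
      Matrix.vecMulVec_apply, smul_eq_mul]
    ring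
  refine ⟨QS X hX, seed_aux X hX c ?_⟩
  rw [Matrix.single_eq_single_vecMulVec_single, ← ha0, hXdef, Matrix.mul_add, Matrix.add_mul,
    Matrix.mul_smul, Matrix.smul_mul, Matrix.mul_smul, Matrix.smul_mul, Matrix.mul_add,
    Matrix.add_mul, cj_conj_vmv, cj_conj_vmv, cj_conj_vmv, hU0, hU1]
  ext i j
  simp only [Matrix.smul_apply, Matrix.add_apply, Matrix.vecMulVec_apply, smul_eq_mul,
    Pi.add_apply]
  field_simp
  ring

theorem seed_even (h2 : (2 : F) = 0) (hm : 2 ≤ m) (c : F) :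
    ∃ g : Matrix.symplecticGroup (Fin (m + 1)) F,
      (uS m F)⁻¹ * (g * uS m F * g⁻¹) = tS (eV (0 : Fin (m + 1))) c := by
  obtain ⟨a0, ha0⟩ : ∃ a0 : Fin (m + 1) → F, a0 = Pi.single (0 : Fin (m + 1)) 1 := ⟨_, rfl⟩
  obtain ⟨a1, ha1⟩ : ∃ a1 : Fin (m + 1) → F,
    a1 = Pi.single (⟨1, by omega⟩ : Fin (m + 1)) 1 := ⟨_, rfl⟩
  obtain ⟨a2, ha2⟩ : ∃ a2 : Fin (m + 1) → F,
    a2 = Pi.single (⟨2, by omega⟩ : Fin (m + 1)) 1 := ⟨_, rfl⟩
  have hU0 : Ublk m F *ᵥ a0 = a0 := by rw [ha0]; exact Ublk_mulVec_zero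
  have hU1 : Ublk m F *ᵥ a1 = a1 + a0 := by
    rw [ha0, ha1]; exact Ublk_mulVec_succ 0 ⟨1, by omega⟩ (by simp)
  have hU2 : Ublk m F *ᵥ a2 = a2 + a1 := by
    rw [ha1, ha2]; exact Ublk_mulVec_succ ⟨1, by omega⟩ ⟨2, by omega⟩ rfl
  obtain ⟨X, hXdef⟩ : ∃ X : Matrix (Fin (m + 1)) (Fin (m + 1)) F,
    X = c • (Matrix.vecMulVec a0 a2 + Matrix.vecMulVec a2 a0 + Matrix.vecMulVec a1 a1) :=
    ⟨_, rfl⟩
  have hX : Xᵀ = X := by
    rw [hXdef]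
    ext i j
    simp only [Matrix.transpose_apply, Matrix.smul_apply, Matrix.add_apply,
      Matrix.vecMulVec_apply, smul_eq_mul]
    ring
  refine ⟨QS X hX, seed_aux X hX c ?_⟩
  rw [Matrix.single_eq_single_vecMulVec_single, ← ha0, hXdef, Matrix.mul_add, Matrix.add_mul,
    Matrix.mul_smul, Matrix.smul_mul, Matrix.mul_smul, Matrix.smul_mul, Matrix.mul_add,
    Matrix.add_mul, Matrix.mul_add, Matrix.add_mul, cj_conj_vmv, cj_conj_vmv, cj_conj_vmv,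
    cj_conj_vmv, hU0, hU1, hU2]
  ext i j
  simp only [Matrix.smul_apply, Matrix.add_apply, Matrix.vecMulVec_apply, smul_eq_mul,
    Pi.add_apply]
  linear_combination (c * (a0 i * a0 j + a0 i * a1 j + a1 i * a0 j)) * h2

end Cfsg.Agent.Lib.Helper5.SpRU
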