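import Mathlib
import Cfsg.Prelude
import Cfsg.Agent.Lib.Helper5.SpRU.Defs3
import Cfsg.Agent.Lib.Helper5.RU.E1
import Cfsg.Agent.Lib.Helper2.SL3Two3

set_option autoImplicit false
set_option linter.unusedSectionVars false

open Matrix

/-! # S2281 package PK6 (SLGEN): `SL_{m+1}(F)` is generated by the Jordan block and a conjugate -/

namespace Cfsg.Agent.Lib.Helper5.SpRU

variable {F : Type*} [Field F] {m : ℕ}

theorem slgen_USL_two : USL 2 F = Cfsg.Agent.Lib.Helper2.SL3Two.u3 := by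
  apply Subtype.ext
  show Ublk 2 F = Cfsg.Agent.Lib.Helper2.SL3Two.uM
  ext i j
  fin_cases i <;> fin_cases j <;> simp [Ublk_apply, Cfsg.Agent.Lib.Helper2.SL3Two.uM]

theorem exists_sl_gen [Fintype F] (hm : 2 ≤ m) :
    ∃ g : Matrix.SpecialLinearGroup (Fin (m + 1)) F,
      Subgroup.closure ({USL m F, g * USL m F * g⁻¹} :
        Set (Matrix.SpecialLinearGroup (Fin (m + 1)) F)) = ⊤ := by
  rcases Nat.lt_or_ge m 3 with h3 | h3
  · obtain rfl : m = 2 := by omega
    rw [slgen_USL_two]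
    by_cases h2 : (2 : F) = 0
    · exact Cfsg.Agent.Lib.Helper2.SL3Two.pathB h2
    · exact Cfsg.Agent.Lib.Helper2.SL3Two.pathA h2
  · obtain ⟨θ, hθ⟩ := IsCyclic.exists_monoid_generator (α := Fˣ)
    refine ⟨Cfsg.Agent.Lib.Helper5.RU.Tm m 0 0 (θ : F), ?_⟩
    have key := Cfsg.Agent.Lib.Helper5.RU.closure_uSL_vconj (F := F) (m := m) h3 (θ : F)
      θ.ne_zero (by
        intro y hy
        obtain ⟨k, hk⟩ := hθ (Units.mk0 y hy)
        refine ⟨k, ?_⟩
        have := congrArg (fun u : Fˣ => (u : F)) hk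
        simpa using this.symm)
    rw [USL_eq_uSL]
    exact key

end Cfsg.Agent.Lib.Helper5.SpRU
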