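import Mathlib

set_option autoImplicit false

/-!
# General lemmas on Sylow numbers of normal subgroups and quotients
-/

namespace Cfsg.Agent.Lib.Helper7.Syl35

open Subgroup

variable {G : Type*} [Group G] [Finite G]

/-- `|G : H| = |N : H ∩ N|` when `HN = G`, `N` normal -/
theorem index_eq_relIndex_of_sup_eq_top (H N : Subgroup G) [N.Normal] (h : H ⊔ N = ⊤) :
    H.index = H.relIndex N := by
  have h1 : N.relIndex H = N.index := by
    rw [← relIndex_sup_right (H := H) (K := N), h, relIndex_top_right]
  -- cardinalities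
  have c1 : Nat.card (H ⊓ N : Subgroup G) * N.relIndex H = Nat.card H := by
    have := relIndex_mul_relIndex (H := (⊥ : Subgroup G)) (K := H ⊓ N) (L := H) bot_le inf_le_left
    rw [relIndex_bot_left, relIndex_bot_left, inf_relIndex_left] at this
    exact this
  have c2 : Nat.card (H ⊓ N : Subgroup G) * H.relIndex N = Nat.card N := by
    have := relIndex_mul_relIndex (H := (⊥ : Subgroup G)) (K := H ⊓ N) (L := N) bot_le inf_le_right
    rw [relIndex_bot_left, relIndex_bot_left, inf_relIndex_right] at this
    exact this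
  have c3 : Nat.card H * H.index = Nat.card G := card_mul_index H
  have c4 : Nat.card N * N.index = Nat.card G := card_mul_index N
  have hpos : 0 < Nat.card (H ⊓ N : Subgroup G) := Nat.card_pos
  have hpos2 : 0 < N.index := Nat.pos_of_ne_zero index_ne_zero_of_finite
  rw [← c1, h1] at c3
  rw [← c2] at c4
  have : Nat.card (H ⊓ N : Subgroup G) * N.index * H.index =
      Nat.card (H ⊓ N : Subgroup G) * N.index * H.relIndex N := by
    rw [c3, ← c4]; ring
  exact Nat.eq_of_mul_eq_mul_left (Nat.mul_pos hpos hpos2) this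

variable {p : ℕ} [Fact p.Prime]

/-- the number of Sylow subgroups of a normal subgroup, as an index in the whole group -/
theorem card_sylow_normal (N : Subgroup G) [N.Normal] (R : Sylow p N) :
    Nat.card (Sylow p N) =
      (normalizer (((R : Subgroup N).map N.subtype : Subgroup G) : Set G)).index := by
  have h1 := Sylow.normalizer_sup_eq_top R
  rw [index_eq_relIndex_of_sup_eq_top _ N h1, R.card_eq_index_normalizer]
  unfold relIndex
  have h2 : ((R : Subgroup N).map N.subtype) ≤ N := map_subtype_le _
  rw [subgroupOf_normalizer_eq h2]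
  have h3 : ((R : Subgroup N).map N.subtype).subgroupOf N = (R : Subgroup N) := by
    ext x
    rw [mem_subgroupOf]
    constructor
    · rintro ⟨y, hy, hyx⟩
      have : y = x := Subtype.ext hyx
      rw [← this]; exact hy
    · intro hx; exact ⟨x, hx, rfl⟩
  rw [h3]
  rfl

/-- Sylow numbers of normal subgroups divide -/
theorem card_sylow_normal_dvd (N : Subgroup G) [N.Normal] :
    Nat.card (Sylow p N) ∣ Nat.card (Sylow p G) := by
  obtain ⟨R⟩ : Nonempty (Sylow p N) := inferInstance
  obtain ⟨P, hP⟩ := Sylow.exists_comap_subtype_eq R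
  rw [card_sylow_normal N R, P.card_eq_index_normalizer]
  apply index_dvd_of_le
  -- N_G(P) ≤ N_G(P ⊓ N)
  have hR : ((R : Subgroup N).map N.subtype : Subgroup G) = (P : Subgroup G) ⊓ N := by
    rw [← hP]
    ext x
    constructor
    · rintro ⟨y, hy, rfl⟩
      exact ⟨hy, y.2⟩
    · rintro ⟨h1, h2⟩
      exact ⟨⟨x, h2⟩, h1, rfl⟩
  rw [hR]
  intro g hg0
  have hg : g ∈ normalizer ((P : Subgroup G) : Set G) := hg0
  rw [mem_normalizer_iff] at hg ⊢
  intro x
  constructor
  · rintro ⟨h1, h2⟩
    exact ⟨(hg x).mp h1, (inferInstance : N.Normal).conj_mem x h2 g⟩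
  · rintro ⟨h1, h2⟩
    refine ⟨(hg x).mpr h1, ?_⟩
    have := (inferInstance : N.Normal).conj_mem _ h2 g⁻¹
    simpa [mul_assoc] using this

/-- a normal subgroup containing a Sylow subgroup has the same Sylow number -/
theorem card_sylow_normal_eq (N : Subgroup G) [N.Normal] (P : Sylow p G)
    (hPN : (P : Subgroup G) ≤ N) : Nat.card (Sylow p N) = Nat.card (Sylow p G) := by
  rw [card_sylow_normal N (P.subtype hPN), P.card_eq_index_normalizer, Sylow.coe_subtype,
    subgroupOf_map_subtype, inf_of_le_left hPN]
  rfl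

end Cfsg.Agent.Lib.Helper7.Syl35
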