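import Mathlib
import Cfsg.Agent.Lib.Helper7.Syl35A

set_option autoImplicit false

namespace Cfsg.Agent.Lib.Helper7.Syl35

open Subgroup

variable {G : Type*} [Group G] [Finite G] {p : ℕ} [Fact p.Prime]

/-- the Sylow number of a quotient as an index upstairs -/
theorem card_sylow_quotient (M : Subgroup G) [M.Normal] (P : Sylow p G) :
    Nat.card (Sylow p (G ⧸ M)) =
      (normalizer (((P : Subgroup G) ⊔ M : Subgroup G) : Set G)).index := by
  have hf : Function.Surjective (QuotientGroup.mk' M) := QuotientGroup.mk'_surjective M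
  rw [(P.mapSurjective hf).card_eq_index_normalizer]
  have h1 : (normalizer (((P.mapSurjective hf : Sylow p (G ⧸ M)) : Subgroup (G ⧸ M)) :
      Set (G ⧸ M))).index =
      ((normalizer (((P.mapSurjective hf : Sylow p (G ⧸ M)) : Subgroup (G ⧸ M)) :
      Set (G ⧸ M))).comap (QuotientGroup.mk' M)).index :=
    (index_comap_of_surjective _ hf).symm
  have h2 : (normalizer (((P.mapSurjective hf : Sylow p (G ⧸ M)) : Subgroup (G ⧸ M)) :
      Set (G ⧸ M))) = normalizer (((P.mapSurjective hf : Sylow p (G ⧸ M)) : Subgroup (G ⧸ M)) :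
      Set (G ⧸ M)) := rfl
  calc (normalizer ((P.mapSurjective hf : Sylow p (G ⧸ M)) : Set (G ⧸ M))).index
      = (normalizer (((P.mapSurjective hf : Sylow p (G ⧸ M)) : Subgroup (G ⧸ M)) :
          Set (G ⧸ M))).index := rfl
    _ = _ := h1
    _ = _ := by
      rw [comap_normalizer_eq_of_surjective _ hf, Sylow.coe_mapSurjective, comap_map_eq,
        QuotientGroup.ker_mk']

theorem normalizer_le_normalizer_sup (H M : Subgroup G) [hM : M.Normal] :
    normalizer (H : Set G) ≤ normalizer ((H ⊔ M : Subgroup G) : Set G) := by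
  intro g hg
  rw [mem_normalizer_iff] at hg ⊢
  intro x
  constructor
  · intro hx
    obtain ⟨y, hy, z, hz, rfl⟩ := mem_sup_of_normal_right.mp hx
    have e : g * (y * z) * g⁻¹ = (g * y * g⁻¹) * (g * z * g⁻¹) := by group
    rw [e]
    exact mul_mem_sup ((hg y).mp hy) (hM.conj_mem z hz g)
  · intro hx
    obtain ⟨y, hy, z, hz, hyz⟩ := mem_sup_of_normal_right.mp hx
    have e : x = (g⁻¹ * y * g) * (g⁻¹ * z * g) := by
      rw [show (g⁻¹ * y * g) * (g⁻¹ * z * g) = g⁻¹ * (y * z) * g by group, hyz]; group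
    rw [e]
    refine mul_mem_sup ?_ (hM.conj_mem' z hz g)
    have := (hg (g⁻¹ * y * g)).mpr (by rw [show g * (g⁻¹ * y * g) * g⁻¹ = y by group]; exact hy)
    exact this

theorem card_sylow_quotient_dvd (M : Subgroup G) [M.Normal] :
    Nat.card (Sylow p (G ⧸ M)) ∣ Nat.card (Sylow p G) := by
  obtain ⟨P⟩ : Nonempty (Sylow p G) := inferInstance
  rw [card_sylow_quotient M P, P.card_eq_index_normalizer]
  apply index_dvd_of_le
  exact normalizer_le_normalizer_sup (P : Subgroup G) M

/-- if the quotient has a unique Sylow subgroup then `PM` is normal -/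
theorem sup_normal_of_card_sylow_quotient_eq_one (M : Subgroup G) [M.Normal] (P : Sylow p G)
    (h : Nat.card (Sylow p (G ⧸ M)) = 1) : ((P : Subgroup G) ⊔ M).Normal := by
  rw [card_sylow_quotient M P, index_eq_one] at h
  exact normalizer_eq_top_iff.mp h

/-- factoring out a normal `p`-subgroup does not change the Sylow number -/
theorem card_sylow_quotient_eq (M : Subgroup G) [M.Normal] (P : Sylow p G)
    (hMP : M ≤ (P : Subgroup G)) : Nat.card (Sylow p (G ⧸ M)) = Nat.card (Sylow p G) := by
  rw [card_sylow_quotient M P, P.card_eq_index_normalizer, sup_of_le_left hMP]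
  rfl

end Cfsg.Agent.Lib.Helper7.Syl35
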