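import Mathlib
import Cfsg.Agent.Lib.Helper7.Syl35B

set_option autoImplicit false

namespace Cfsg.Agent.Lib.Helper7.Syl35

open Subgroup

variable {G : Type*} [Group G] [Finite G]

/-- a subgroup of index prime to `p` contains a Sylow `p`-subgroup -/
theorem exists_sylow_le_of_not_dvd_index {p : ℕ} [Fact p.Prime] (H : Subgroup G)
    (h : ¬ p ∣ H.index) : ∃ P : Sylow p G, (P : Subgroup G) ≤ H := by
  obtain ⟨Q₀⟩ : Nonempty (Sylow p H) := inferInstance
  have hpQ : IsPGroup p ((Q₀ : Subgroup H).map H.subtype) := Q₀.2.map H.subtype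
  have hQ : ¬ p ∣ ((Q₀ : Subgroup H).map H.subtype).index := by
    rw [index_map_subtype]
    exact Nat.Prime.not_dvd_mul Fact.out Q₀.not_dvd_index h
  exact ⟨hpQ.toSylow hQ, map_subtype_le _⟩

/-- conjugation action of a subgroup on a subgroup it normalizes -/
@[reducible] def conjActOn (P R : Subgroup G) (h : P ≤ normalizer (R : Set G)) : MulAction P R where
  smul x r := ⟨x * r * x⁻¹, (mem_normalizer_iff.mp (h x.2) r).mp r.2⟩
  one_smul r := Subtype.ext (by show (1 : G) * r * (1 : G)⁻¹ = r; group)
  mul_smul x y r := Subtype.ext (by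
    show ((x : G) * y) * r * ((x : G) * y)⁻¹ = x * (y * r * (y : G)⁻¹) * (x : G)⁻¹; group)

/-- fixed point congruence for the conjugation action -/
theorem card_modEq_card_inf_centralizer {p : ℕ} [Fact p.Prime] (P R : Subgroup G)
    (hP : IsPGroup p P) (h : P ≤ normalizer (R : Set G)) :
    Nat.card R ≡ Nat.card (R ⊓ centralizer (P : Set G) : Subgroup G) [MOD p] := by
  letI := conjActOn P R h
  have h1 := hP.card_modEq_card_fixedPoints R
  have h2 : Nat.card (MulAction.fixedPoints P R) =
      Nat.card (R ⊓ centralizer (P : Set G) : Subgroup G) := by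
    apply Nat.card_congr
    refine ⟨fun r => ⟨(r : R), (r : R).2, ?_⟩, fun r => ⟨⟨r, r.2.1⟩, ?_⟩, ?_, ?_⟩
    · intro x hx
      have := r.2 ⟨x, hx⟩
      have h3 : x * ((r : R) : G) * x⁻¹ = ((r : R) : G) := congrArg Subtype.val this
      calc x * ((r : R) : G) = x * ((r : R) : G) * x⁻¹ * x := by group
        _ = ((r : R) : G) * x := by rw [h3]
    · intro x
      apply Subtype.ext
      show (x : G) * (r : G) * (x : G)⁻¹ = r
      have := r.2.2 x x.2
      rw [this]; group
    · intro r; rfl
    · intro r; rfl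
  rw [← h2]; exact h1

end Cfsg.Agent.Lib.Helper7.Syl35
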