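import Mathlib
import Cfsg.Agent.Lib.Helper7.Syl35C

set_option autoImplicit false

/-!
# A minimal group with 35 Sylow 17-subgroups has no proper nontrivial normal subgroup
-/

namespace Cfsg.Agent.Lib.Helper7.Syl35

open Subgroup

universe u

theorem prime17 : Nat.Prime 17 := by norm_num
theorem prime7 : Nat.Prime 7 := by norm_num

theorem dvd35_modEq {d : ℕ} (h1 : d ∣ 35) (h2 : d ≡ 1 [MOD 17]) : d = 1 ∨ d = 35 := by
  have hle : d ≤ 35 := Nat.le_of_dvd (by norm_num) h1
  interval_cases d <;> first | (left; rfl) | (right; rfl) | (exfalso; revert h1 h2; decide)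

theorem card_quotient_lt {G : Type*} [Group G] [Finite G] (M : Subgroup G) [M.Normal]
    (hM : M ≠ ⊥) : Nat.card (G ⧸ M) < Nat.card G := by
  have h1 := card_mul_index M
  have h2 : 1 < Nat.card M := (Subgroup.one_lt_card_iff_ne_bot M).mpr hM
  have h3 : 0 < M.index := Nat.pos_of_ne_zero index_ne_zero_of_finite
  rw [← index_eq_card, ← h1]
  nlinarith

theorem card_subgroup_lt {G : Type*} [Group G] [Finite G] (M : Subgroup G)
    (hM : M ≠ ⊤) : Nat.card M < Nat.card G := by
  apply lt_of_le_of_ne (card_le_card_group M)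
  intro h
  exact hM ((card_eq_iff_eq_top M).mp h)

/-- `|C| * |M : C| = |M|` in `relIndex` form -/
theorem card_inf_mul_relIndex {G : Type*} [Group G] [Finite G] (H N : Subgroup G) :
    Nat.card (H ⊓ N : Subgroup G) * H.relIndex N = Nat.card N := by
  have := relIndex_mul_relIndex (H := (⊥ : Subgroup G)) (K := H ⊓ N) (L := N) bot_le inf_le_right
  rw [relIndex_bot_left, relIndex_bot_left, inf_relIndex_right] at this
  exact this

section

variable {G : Type u} [Group G] [Finite G]

theorem card_sylow_one_or {H : Type u} [Group H] [Finite H]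
    (IH : Nat.card (Sylow 17 H) ≠ 35) (hd : Nat.card (Sylow 17 H) ∣ 35) :
    Nat.card (Sylow 17 H) = 1 := by
  haveI : Fact (Nat.Prime 17) := ⟨prime17⟩
  rcases dvd35_modEq hd (card_sylow_modEq_one 17 H) with h | h
  · exact h
  · exact absurd h IH

/-- a proper nontrivial normal subgroup of a minimal counterexample is a `17'`-group and is
complemented by every Sylow `17`-subgroup -/
theorem normal_facts
    (IH : ∀ (H : Type u) [Group H] [Finite H], Nat.card H < Nat.card G →
      Nat.card (Sylow 17 H) ≠ 35)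
    (h35 : Nat.card (Sylow 17 G) = 35) (M : Subgroup G) [M.Normal] (hM1 : M ≠ ⊥) (hM2 : M ≠ ⊤) :
    (¬ 17 ∣ Nat.card M) ∧ ∀ P : Sylow 17 G, (P : Subgroup G) ⊔ M = ⊤ := by
  haveI : Fact (Nat.Prime 17) := ⟨prime17⟩
  constructor
  · -- M is a 17'-group
    obtain ⟨R⟩ : Nonempty (Sylow 17 M) := inferInstance
    have hd : Nat.card (Sylow 17 M) ∣ 35 := h35 ▸ card_sylow_normal_dvd M
    have h1 : Nat.card (Sylow 17 M) = 1 :=
      card_sylow_one_or (IH M (card_subgroup_lt M hM2)) hd
    set D : Subgroup G := (R : Subgroup M).map M.subtype with hD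
    have hDn : D.Normal := by
      have := card_sylow_normal M R
      rw [h1] at this
      exact normalizer_eq_top_iff.mp (index_eq_one.mp this.symm)
    have hDbot : D = ⊥ := by
      by_contra hne
      have hDp : IsPGroup 17 D := R.2.map M.subtype
      obtain ⟨P, hDP⟩ := hDp.exists_le_sylow
      have h2 := card_sylow_quotient_eq D P hDP
      rw [h35] at h2
      exact IH (G ⧸ D) (card_quotient_lt D hne) h2
    have hRbot : (R : Subgroup M) = ⊥ :=
      (map_eq_bot_iff_of_injective _ M.subtype_injective).mp hDbot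
    intro hdvd
    exact R.ne_bot_of_dvd_card hdvd hRbot
  · intro P
    have hd : Nat.card (Sylow 17 (G ⧸ M)) ∣ 35 := h35 ▸ card_sylow_quotient_dvd M
    have h1 : Nat.card (Sylow 17 (G ⧸ M)) = 1 :=
      card_sylow_one_or (IH (G ⧸ M) (card_quotient_lt M hM1)) hd
    haveI hn : ((P : Subgroup G) ⊔ M).Normal := sup_normal_of_card_sylow_quotient_eq_one M P h1
    by_contra hne
    have h2 := card_sylow_normal_eq ((P : Subgroup G) ⊔ M) P le_sup_left
    rw [h35] at h2
    exact IH _ (card_subgroup_lt _ hne) h2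

end

end Cfsg.Agent.Lib.Helper7.Syl35
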