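import Mathlib
import Cfsg.Agent.Lib.Helper7.Syl35E

set_option autoImplicit false

/-!
# Pairs of Sylow 17-subgroups when there are 35 of them
-/

namespace Cfsg.Agent.Lib.Helper7.Syl35

open Subgroup MulAction

universe u

variable {G : Type u} [Group G] [Finite G]

theorem sylow_smul_self {p : ℕ} (Q : Sylow p G) {x : G} (hx : x ∈ Q) : x • Q = Q :=
  Sylow.smul_eq_iff_mem_normalizer.mpr (le_normalizer hx)

/-- any two distinct Sylow 17-subgroups meet in a subgroup of index 17 -/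
theorem relIndex_eq_17 (h35 : Nat.card (Sylow 17 G) = 35) (Q Q' : Sylow 17 G) (hne : Q ≠ Q') :
    (Q' : Subgroup G).relIndex (Q : Subgroup G) = 17 := by
  haveI : Fact (Nat.Prime 17) := ⟨prime17⟩
  -- the stabilizer of Q' in Q
  have hstab : stabilizer (Q : Subgroup G) Q' = (Q' : Subgroup G).subgroupOf (Q : Subgroup G) := by
    ext x
    rw [mem_stabilizer_iff, mem_subgroupOf]
    have h1 : x • Q' = (x : G) • Q' := rfl
    rw [h1, Sylow.smul_eq_iff_mem_normalizer]
    have h2 := IsPGroup.inf_normalizer_sylow Q.2 Q'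
    constructor
    · intro hx
      exact (h2.le ⟨x.2, hx⟩).2
    · intro hx
      exact le_normalizer hx
  have hidx : (Q' : Subgroup G).relIndex (Q : Subgroup G) =
      (orbit (Q : Subgroup G) Q').ncard := by
    rw [← index_stabilizer, hstab]; rfl
  -- a power of 17
  obtain ⟨k, hk⟩ := IsPGroup.index Q.2 ((Q' : Subgroup G).subgroupOf (Q : Subgroup G))
  have hk' : (Q' : Subgroup G).relIndex (Q : Subgroup G) = 17 ^ k := hk
  -- not 1
  have hk0 : k ≠ 0 := by
    intro h0
    rw [h0, pow_zero, relIndex_eq_one] at hk'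
    exact hne (Sylow.ext (Q.3 Q'.2 hk')).symm
  -- at most 34
  have hle : (orbit (Q : Subgroup G) Q').ncard ≤ 34 := by
    have hsub : orbit (Q : Subgroup G) Q' ⊆ {Q}ᶜ := by
      rintro _ ⟨x, rfl⟩ hmem
      have h1 : x • Q' = Q := hmem
      have h2 : Q' = x⁻¹ • Q := by rw [eq_inv_smul_iff]; exact h1
      have h3 : x⁻¹ • Q = Q := sylow_smul_self Q (x⁻¹).2
      exact hne (h2.trans h3).symm
    have h1 : (orbit (Q : Subgroup G) Q').ncard ≤ ({Q}ᶜ : Set (Sylow 17 G)).ncard :=
      Set.ncard_le_ncard hsub (Set.toFinite _)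
    have h2 : ({Q}ᶜ : Set (Sylow 17 G)).ncard = 34 := by
      rw [Set.ncard_compl, Set.ncard_singleton, h35]
    omega
  rw [hidx] at hk'
  rw [hidx, hk']
  rcases Nat.lt_or_ge k 2 with h2 | h2
  · have : k = 1 := by omega
    rw [this, pow_one]
  · exfalso
    have : 17 ^ 2 ≤ 17 ^ k := Nat.pow_le_pow_right (by norm_num) h2
    omega

/-- consequently `|Q ∩ Q'| * 17 = |Q|` -/
theorem card_inf_mul_17 (h35 : Nat.card (Sylow 17 G) = 35) (Q Q' : Sylow 17 G) (hne : Q ≠ Q') :
    Nat.card ((Q : Subgroup G) ⊓ Q' : Subgroup G) * 17 = Nat.card Q := by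
  have h1 := card_inf_mul_relIndex (Q' : Subgroup G) (Q : Subgroup G)
  rw [relIndex_eq_17 h35 Q Q' hne, inf_comm] at h1
  exact h1

end Cfsg.Agent.Lib.Helper7.Syl35
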