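import Mathlib
import Cfsg.Agent.Lib.Helper7.Syl35F

set_option autoImplicit false

namespace Cfsg.Agent.Lib.Helper7.Syl35

open Subgroup MulAction
open scoped Pointwise

universe u

variable {G : Type u} [Group G] [Finite G]

theorem mem_smul_sylow_iff {p : ℕ} {Q : Sylow p G} {x d : G} :
    d ∈ ((x • Q : Sylow p G) : Subgroup G) ↔ x⁻¹ * d * x ∈ (Q : Subgroup G) := by
  show d ∈ MulAut.conj x • (Q : Subgroup G) ↔ _
  rw [Subgroup.mem_pointwise_smul_iff_inv_smul_mem]
  simp [MulAut.smul_def, map_inv]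

/-- a set of Sylow subgroups containing `Q0` and invariant under `Q0` has `1 mod p` elements -/
theorem card_invariant_modEq {p : ℕ} [Fact p.Prime] (Q0 : Sylow p G) (A : Set (Sylow p G))
    (hA : ∀ x ∈ (Q0 : Subgroup G), ∀ Q ∈ A, x • Q ∈ A) (h0 : Q0 ∈ A) :
    Nat.card A ≡ 1 [MOD p] := by
  let S : SubMulAction (Q0 : Subgroup G) (Sylow p G) :=
    { carrier := A
      smul_mem' := fun x Q hQ => hA x x.2 Q hQ }
  have h1 := Q0.2.card_modEq_card_fixedPoints S
  have h2 : Nat.card (fixedPoints (Q0 : Subgroup G) S) = 1 := by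
    rw [Nat.card_eq_one_iff_unique]
    constructor
    · constructor
      rintro ⟨⟨a, ha⟩, hfa⟩ ⟨⟨b, hb⟩, hfb⟩
      have ha' : a ∈ fixedPoints (Q0 : Subgroup G) (Sylow p G) := by
        intro x
        have := hfa x
        exact congrArg Subtype.val this
      have hb' : b ∈ fixedPoints (Q0 : Subgroup G) (Sylow p G) := by
        intro x
        have := hfb x
        exact congrArg Subtype.val this
      rw [Q0.2.sylow_mem_fixedPoints_iff] at ha' hb'
      have e1 : a = Q0 := (Sylow.ext (Q0.3 a.2 ha'))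
      have e2 : b = Q0 := (Sylow.ext (Q0.3 b.2 hb'))
      apply Subtype.ext
      apply Subtype.ext
      show a = b
      rw [e1, e2]
    · refine ⟨⟨⟨Q0, h0⟩, ?_⟩⟩
      intro x
      apply Subtype.ext
      show (x : G) • Q0 = Q0
      exact sylow_smul_self Q0 x.2
  rw [h2] at h1
  exact h1

/-- Sylow subgroups containing a subgroup normalized by one of them -/
theorem card_ge_modEq {p : ℕ} [Fact p.Prime] (Q0 : Sylow p G) (D : Subgroup G)
    (hD : D ≤ (Q0 : Subgroup G)) (hDn : (Q0 : Subgroup G) ≤ normalizer (D : Set G)) :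
    Nat.card {Q : Sylow p G | D ≤ (Q : Subgroup G)} ≡ 1 [MOD p] := by
  apply card_invariant_modEq Q0 _ _ hD
  intro x hx Q hQ d hd
  have hQ' : D ≤ (Q : Subgroup G) := hQ
  show d ∈ ((x • Q : Sylow p G) : Subgroup G)
  rw [mem_smul_sylow_iff]
  apply hQ'
  have hx' : x⁻¹ ∈ normalizer (D : Set G) := inv_mem (hDn hx)
  have := (mem_normalizer_iff.mp hx' d).mp hd
  rwa [inv_inv] at this

/-- Sylow subgroups normalized by an element centralizing one of them -/
theorem card_fixed_modEq {p : ℕ} [Fact p.Prime] (P : Sylow p G) (z : G)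
    (hz : z ∈ centralizer ((P : Subgroup G) : Set G)) :
    Nat.card {Q : Sylow p G | z • Q = Q} ≡ 1 [MOD p] := by
  apply card_invariant_modEq P
  · intro x hx Q hQ
    have hQ' : z • Q = Q := hQ
    show z • (x • Q) = x • Q
    have hc : z * x = x * z := ((mem_centralizer_iff.mp hz) x hx).symm
    rw [← mul_smul, hc, mul_smul, hQ']
  · show z • P = P
    exact Sylow.smul_eq_iff_mem_normalizer.mpr
      ((centralizer_le_normalizer ((P : Subgroup G) : Set G)) hz)

end Cfsg.Agent.Lib.Helper7.Syl35
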