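import Mathlib
import Cfsg.Agent.Lib.Helper7.Syl35G

set_option autoImplicit false

/-!
# The case of Sylow 17-subgroups of order at least 17²: double counting
-/

namespace Cfsg.Agent.Lib.Helper7.Syl35

open Subgroup MulAction
open scoped Pointwise

universe u

variable {G : Type u} [Group G] [Finite G]

theorem sylow_card_eq {p : ℕ} [Fact p.Prime] (Q Q' : Sylow p G) : Nat.card Q = Nat.card Q' := by
  rw [Q.card_eq_multiplicity, Q'.card_eq_multiplicity]

/-- a nontrivial subgroup lying in all Sylow `p`-subgroups contradicts simplicity when there is more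
than one of them -/
theorem false_of_le_all {p : ℕ} [Fact p.Prime]
    (hsimp : ∀ M : Subgroup G, M.Normal → M = ⊥ ∨ M = ⊤) (hn : Nat.card (Sylow p G) ≠ 1)
    (D : Subgroup G) (hD1 : D ≠ ⊥) (hD : ∀ Q : Sylow p G, D ≤ (Q : Subgroup G)) : False := by
  obtain ⟨P⟩ : Nonempty (Sylow p G) := inferInstance
  have hle : normalClosure (D : Set G) ≤ (P : Subgroup G) := by
    unfold normalClosure
    rw [closure_le]
    intro x hx
    rw [Group.mem_conjugatesOfSet_iff] at hx
    obtain ⟨d, hd, hdx⟩ := hx
    rw [isConj_iff] at hdx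
    obtain ⟨c, rfl⟩ := hdx
    have h1 : d ∈ ((c⁻¹ • P : Sylow p G) : Subgroup G) := hD _ hd
    rw [mem_smul_sylow_iff, inv_inv] at h1
    exact h1
  rcases hsimp (normalClosure (D : Set G)) inferInstance with h | h
  · apply hD1
    rw [eq_bot_iff, ← h]
    exact le_normalClosure
  · rw [h, top_le_iff] at hle
    apply hn
    rw [Nat.card_eq_one_iff_unique]
    refine ⟨⟨fun Q Q' => ?_⟩, ⟨P⟩⟩
    have e1 : Q = P := (Sylow.ext (Q.3 P.2 (by rw [hle]; exact le_top))).symm
    have e2 : Q' = P := (Sylow.ext (Q'.3 P.2 (by rw [hle]; exact le_top))).symm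
    rw [e1, e2]

/-- the number of Sylow 17-subgroups containing the intersection of two distinct ones is 18 -/
theorem card_ge_inf (hsimp : ∀ M : Subgroup G, M.Normal → M = ⊥ ∨ M = ⊤)
    (h35 : Nat.card (Sylow 17 G) = 35) (Q1 Q2 : Sylow 17 G) (hne : Q1 ≠ Q2)
    (hbig : 17 ^ 2 ∣ Nat.card Q1) :
    Nat.card {Q : Sylow 17 G | (Q1 : Subgroup G) ⊓ Q2 ≤ (Q : Subgroup G)} = 18 := by
  haveI : Fact (Nat.Prime 17) := ⟨prime17⟩
  set D : Subgroup G := (Q1 : Subgroup G) ⊓ Q2 with hD
  have hcard := card_inf_mul_17 h35 Q1 Q2 hne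
  -- D is normal in Q1
  have hDn : (Q1 : Subgroup G) ≤ normalizer (D : Set G) := by
    rw [← normal_subgroupOf_iff_le_normalizer inf_le_left]
    apply normal_of_index_eq_minFac_card
    have h1 : (D.subgroupOf (Q1 : Subgroup G)).index = 17 := by
      have := relIndex_eq_17 h35 Q1 Q2 hne
      rw [← inf_relIndex_right, inf_comm] at this
      exact this
    rw [h1]
    obtain ⟨k, hk⟩ := Q1.2.exists_card_eq
    have hk0 : k ≠ 0 := by
      intro h0
      rw [hk, h0, pow_zero] at hbig
      norm_num at hbig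
    rw [hk, Nat.Prime.pow_minFac prime17 hk0]
  have hmod := card_ge_modEq Q1 D inf_le_left hDn
  set c := Nat.card {Q : Sylow 17 G | D ≤ (Q : Subgroup G)} with hc
  have hle : c ≤ 35 := by
    rw [← h35]
    exact Nat.card_le_card_of_injective (fun Q => (Q : Sylow 17 G)) Subtype.val_injective
  have hge : 2 ≤ c := by
    have : Fintype {Q : Sylow 17 G | D ≤ (Q : Subgroup G)} := Fintype.ofFinite _
    rw [hc, Nat.card_eq_fintype_card]
    have h1 : (⟨Q1, (show D ≤ (Q1 : Subgroup G) from inf_le_left)⟩ :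
        {Q : Sylow 17 G | D ≤ (Q : Subgroup G)}) ≠
        ⟨Q2, (show D ≤ (Q2 : Subgroup G) from inf_le_right)⟩ := by
      intro h; exact hne (congrArg Subtype.val h)
    exact Fintype.one_lt_card_iff.mpr ⟨_, _, h1⟩
  have hne35 : c ≠ 35 := by
    intro h
    -- then D lies in every Sylow subgroup
    have hall : ∀ Q : Sylow 17 G, D ≤ (Q : Subgroup G) := by
      intro Q
      have hbij : Function.Bijective
          (Subtype.val : {Q : Sylow 17 G | D ≤ (Q : Subgroup G)} → Sylow 17 G) :=
        Function.Injective.bijective_of_nat_card_le Subtype.val_injective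
          (by rw [h35, ← h])
      obtain ⟨⟨Q', hQ'⟩, rfl⟩ := hbij.2 Q
      exact hQ'
    have hD1 : D ≠ ⊥ := by
      intro h0
      rw [hD] at h0
      rw [h0, card_bot] at hcard
      obtain ⟨m, hm⟩ := hbig
      omega
    exact false_of_le_all hsimp (by rw [h35]; norm_num) D hD1 hall
  have h1 : c % 17 = 1 := by
    have := hmod
    unfold Nat.ModEq at this
    simpa using this
  omega

end Cfsg.Agent.Lib.Helper7.Syl35
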