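import Mathlib
import Cfsg.Agent.Lib.Helper7.Syl35H

set_option autoImplicit false

namespace Cfsg.Agent.Lib.Helper7.Syl35

open Subgroup MulAction
open scoped Pointwise

universe u

variable {G : Type u} [Group G] [Finite G]

/-- Sylow 17-subgroups of order at least `17²` are impossible in a simple group with 35 of them -/
theorem false_of_big (hsimp : ∀ M : Subgroup G, M.Normal → M = ⊥ ∨ M = ⊤)
    (h35 : Nat.card (Sylow 17 G) = 35) (P : Sylow 17 G) (hbig : 17 ^ 2 ∣ Nat.card P) : False := by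
  classical
  haveI : Fact (Nat.Prime 17) := ⟨prime17⟩
  haveI : Fintype (Sylow 17 G) := Fintype.ofFinite _
  have hU : (Finset.univ : Finset (Sylow 17 G)).card = 35 := by
    rw [Finset.card_univ, ← Nat.card_eq_fintype_card, h35]
  set S : Finset (Sylow 17 G × Sylow 17 G) := (Finset.univ : Finset (Sylow 17 G)).offDiag with hS
  have hScard : S.card = 1190 := by
    rw [hS, Finset.offDiag_card, hU]
  let f : Sylow 17 G × Sylow 17 G → Subgroup G := fun q => (q.1 : Subgroup G) ⊓ q.2
  have hsum := Finset.card_eq_sum_card_image f S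
  have hfib : ∀ D ∈ S.image f, (S.filter (fun a => f a = D)).card = 306 := by
    intro D hD
    obtain ⟨⟨Q1, Q2⟩, hq, rfl⟩ := Finset.mem_image.mp hD
    have hne : Q1 ≠ Q2 := by
      rw [hS, Finset.mem_offDiag] at hq
      exact hq.2.2
    have hbig1 : 17 ^ 2 ∣ Nat.card Q1 := by rw [sylow_card_eq Q1 P]; exact hbig
    have h18 := card_ge_inf hsimp h35 Q1 Q2 hne hbig1
    set T : Finset (Sylow 17 G) :=
      Finset.univ.filter (fun Q => (Q1 : Subgroup G) ⊓ Q2 ≤ (Q : Subgroup G)) with hT
    have hTcard : T.card = 18 := by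
      rw [← h18, hT]
      rw [Nat.card_eq_fintype_card]
      exact (Fintype.card_subtype _).symm
    have heq : S.filter (fun a => f a = f (Q1, Q2)) = T.offDiag := by
      ext ⟨Qa, Qb⟩
      rw [Finset.mem_filter, hS, Finset.mem_offDiag, Finset.mem_offDiag, hT, Finset.mem_filter,
        Finset.mem_filter]
      constructor
      · rintro ⟨⟨_, _, hab⟩, hf⟩
        have hf' : (Qa : Subgroup G) ⊓ Qb = (Q1 : Subgroup G) ⊓ Q2 := hf
        refine ⟨⟨Finset.mem_univ _, ?_⟩, ⟨Finset.mem_univ _, ?_⟩, hab⟩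
        · rw [← hf']; exact inf_le_left
        · rw [← hf']; exact inf_le_right
      · rintro ⟨⟨_, ha⟩, ⟨_, hb⟩, hab⟩
        refine ⟨⟨Finset.mem_univ _, Finset.mem_univ _, hab⟩, ?_⟩
        show (Qa : Subgroup G) ⊓ Qb = (Q1 : Subgroup G) ⊓ Q2
        symm
        apply eq_of_le_of_card_ge (le_inf ha hb)
        have c1 := card_inf_mul_17 h35 Q1 Q2 hne
        have c2 := card_inf_mul_17 h35 Qa Qb hab
        rw [sylow_card_eq Qa Q1] at c2
        have : Nat.card ((Qa : Subgroup G) ⊓ Qb : Subgroup G) =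
            Nat.card ((Q1 : Subgroup G) ⊓ Q2 : Subgroup G) := by omega
        rw [this]
    rw [heq, Finset.offDiag_card, hTcard]
  rw [Finset.sum_congr rfl hfib, Finset.sum_const, smul_eq_mul, hScard] at hsum
  omega

end Cfsg.Agent.Lib.Helper7.Syl35
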