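import Mathlib
import Cfsg.Agent.Lib.Helper7.Syl35I

set_option autoImplicit false

/-!
# The case of Sylow 17-subgroups of order 17: centralizers
-/

namespace Cfsg.Agent.Lib.Helper7.Syl35

open Subgroup MulAction
open scoped Pointwise

universe u

variable {G : Type u} [Group G] [Finite G]

/-- in a simple group with more than one Sylow `p`-subgroup the action on them is faithful -/
theorem eq_one_of_fixes_all {p : ℕ} [Fact p.Prime]
    (hsimp : ∀ M : Subgroup G, M.Normal → M = ⊥ ∨ M = ⊤) (hn : Nat.card (Sylow p G) ≠ 1)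
    (z : G) (hz : ∀ Q : Sylow p G, z • Q = Q) : z = 1 := by
  rcases hsimp (MulAction.toPermHom G (Sylow p G)).ker inferInstance with h | h
  · have : z ∈ (MulAction.toPermHom G (Sylow p G)).ker := by
      rw [MonoidHom.mem_ker]
      apply Equiv.ext
      intro Q
      exact hz Q
    rw [h, mem_bot] at this
    exact this
  · exfalso
    apply hn
    rw [Nat.card_eq_one_iff_unique]
    refine ⟨⟨fun Q1 Q2 => ?_⟩, inferInstance⟩
    obtain ⟨g, hg⟩ := MulAction.exists_smul_eq G Q1 Q2
    have : g ∈ (MulAction.toPermHom G (Sylow p G)).ker := by rw [h]; exact mem_top g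
    rw [MonoidHom.mem_ker] at this
    have h2 : (MulAction.toPermHom G (Sylow p G)) g Q1 = Q1 := by rw [this]; rfl
    rw [← hg]
    exact h2.symm

theorem pow_smul_end {α : Type*} [MulAction G α] (z : G) (f : Function.End α)
    (hf : ∀ b, f b = z • b) (n : ℕ) (a : α) : (f ^ n) a = z ^ n • a := by
  induction n generalizing a with
  | zero => rw [pow_zero, pow_zero, one_smul]; rfl
  | succ n ih =>
    rw [pow_succ, pow_succ]
    show (f ^ n) (f a) = _
    rw [ih, hf, ← mul_smul]

/-- an involution with exactly one fixed point on 35 points is an odd permutation -/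
theorem sign_eq_neg_one {α : Type*} [Fintype α] [DecidableEq α] (σ : Equiv.Perm α)
    (hcard : Fintype.card α = 35) (h2 : orderOf σ = 2)
    (hfix : Fintype.card (Function.fixedPoints σ) = 1) : Equiv.Perm.sign σ = -1 := by
  have hpr : (orderOf σ).Prime := by rw [h2]; exact Nat.prime_two
  obtain ⟨n, hn⟩ := Equiv.Perm.cycleType_prime_order hpr
  have h3 := Equiv.Perm.card_fixedPoints σ
  rw [hfix, hcard, hn, h2, Multiset.sum_replicate, smul_eq_mul] at h3
  have hn16 : n = 16 := by omega
  rw [Equiv.Perm.sign_of_cycleType, hn, h2, Multiset.sum_replicate, Multiset.card_replicate,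
    smul_eq_mul, hn16]
  decide

/-- a centralizing element of prime order `t ≠ 17` does not exist -/
theorem false_of_centralizing (hsimp : ∀ M : Subgroup G, M.Normal → M = ⊥ ∨ M = ⊤)
    (h35 : Nat.card (Sylow 17 G) = 35) (P : Sylow 17 G) (z : G)
    (hz : z ∈ centralizer ((P : Subgroup G) : Set G)) {t : ℕ} (ht : t.Prime) (hzt : orderOf z = t)
    (ht17 : t ≠ 17) : False := by
  classical
  haveI : Fact (Nat.Prime 17) := ⟨prime17⟩
  haveI : Fact t.Prime := ⟨ht⟩
  haveI : Fintype (Sylow 17 G) := Fintype.ofFinite _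
  have hn1 : Nat.card (Sylow 17 G) ≠ 1 := by rw [h35]; norm_num
  have hcardU : Fintype.card (Sylow 17 G) = 35 := by rw [← Nat.card_eq_fintype_card, h35]
  have hz1 : z ≠ 1 := by
    intro h; rw [h, orderOf_one] at hzt; exact ht.one_lt.ne hzt
  have hmod17 := card_fixed_modEq P z hz
  let f : Function.End (Sylow 17 G) := fun Q => z • Q
  have hf : f ^ t ^ 1 = 1 := by
    funext Q
    rw [pow_one, pow_smul_end z f (fun _ => rfl), ← hzt, pow_orderOf_eq_one, one_smul]; rfl
  have hmodt := Equiv.Perm.card_fixedPoints_modEq (p := t) (n := 1) (f := f) hf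
  have hFeq : Fintype.card (Function.fixedPoints f) =
      Nat.card {Q : Sylow 17 G | z • Q = Q} := by
    rw [Nat.card_eq_fintype_card]
    rfl
  set c := Nat.card {Q : Sylow 17 G | z • Q = Q} with hc
  rw [hFeq, hcardU] at hmodt
  have hle : c ≤ 35 := by
    rw [← h35]
    exact Nat.card_le_card_of_injective (fun Q => (Q : Sylow 17 G)) Subtype.val_injective
  have h17 : c % 17 = 1 := by
    have := hmod17
    unfold Nat.ModEq at this
    simpa using this
  have hcases : c = 1 ∨ c = 18 ∨ c = 35 := by omega
  rcases hcases with h1 | h18 | h35'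
  · -- t = 2 and the sign argument
    rw [h1] at hmodt
    have hdvd : t ∣ 35 - 1 := (Nat.modEq_iff_dvd' (by norm_num)).mp hmodt.symm
    have ht2 : t = 2 := by
      have h34 : t ∣ 2 * 17 := by norm_num at hdvd ⊢; exact hdvd
      rcases (Nat.Prime.dvd_mul ht).mp h34 with h | h
      · exact (Nat.prime_dvd_prime_iff_eq ht Nat.prime_two).mp h
      · exact absurd ((Nat.prime_dvd_prime_iff_eq ht prime17).mp h) ht17
    let σ : Equiv.Perm (Sylow 17 G) := MulAction.toPerm z
    have hσ2 : σ ^ 2 = 1 := by
      show (MulAction.toPermHom G (Sylow 17 G) z) ^ 2 = 1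
      rw [← map_pow, ← ht2, ← hzt, pow_orderOf_eq_one, map_one]
    have hσ1 : σ ≠ 1 := by
      intro h
      apply hz1
      apply eq_one_of_fixes_all hsimp hn1
      intro Q
      have : σ Q = Q := by rw [h]; rfl
      exact this
    have hσo : orderOf σ = 2 := orderOf_eq_prime hσ2 hσ1
    have hfixσ : Fintype.card (Function.fixedPoints σ) = 1 := by
      have : Fintype.card (Function.fixedPoints σ) = Fintype.card (Function.fixedPoints f) := rfl
      rw [this, hFeq, h1]
    have hsign := sign_eq_neg_one σ hcardU hσo hfixσ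
    let ε : G →* ℤˣ := Equiv.Perm.sign.comp (MulAction.toPermHom G (Sylow 17 G))
    rcases hsimp ε.ker inferInstance with h | h
    · -- ε injective, so |G| ≤ 2
      have hinj : Function.Injective ε := (MonoidHom.ker_eq_bot_iff ε).mp h
      have h2 : Nat.card G ≤ Nat.card ℤˣ := Nat.card_le_card_of_injective ε hinj
      have h3 : Nat.card ℤˣ = 2 := by
        rw [Nat.card_eq_fintype_card]; rfl
      have h4 : 35 ∣ Nat.card G := by
        rw [← h35]
        exact (P.card_dvd_index).trans (index_dvd_card _)
      have h5 : 35 ≤ Nat.card G := Nat.le_of_dvd Nat.card_pos h4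
      omega
    · have : z ∈ ε.ker := by rw [h]; exact mem_top z
      rw [MonoidHom.mem_ker] at this
      have h2 : ε z = Equiv.Perm.sign σ := rfl
      rw [h2, hsign] at this
      exact absurd this (by decide)
  · rw [h18] at hmodt
    have hdvd : t ∣ 35 - 18 := (Nat.modEq_iff_dvd' (by norm_num)).mp hmodt.symm
    have : t ∣ 17 := by norm_num at hdvd ⊢; exact hdvd
    exact ht17 ((Nat.prime_dvd_prime_iff_eq ht prime17).mp this)
  · -- z fixes everything
    apply hz1
    apply eq_one_of_fixes_all hsimp hn1
    intro Q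
    have hbij : Function.Bijective
        (Subtype.val : {Q : Sylow 17 G | z • Q = Q} → Sylow 17 G) :=
      Function.Injective.bijective_of_nat_card_le Subtype.val_injective
        (by rw [h35, ← hc, h35'])
    obtain ⟨⟨Q', hQ'⟩, rfl⟩ := hbij.2 Q
    exact hQ'

end Cfsg.Agent.Lib.Helper7.Syl35
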