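import Mathlib
import Cfsg.Agent.Lib.Helper7.Syl35J

set_option autoImplicit false

/-!
# The case of Sylow 17-subgroups of order 17: conclusion
-/

namespace Cfsg.Agent.Lib.Helper7.Syl35

open Subgroup MulAction
open scoped Pointwise

universe u

variable {G : Type u} [Group G] [Finite G]

/-- Sylow 17-subgroups of order 17 are self-centralizing -/
theorem centralizer_eq (hsimp : ∀ M : Subgroup G, M.Normal → M = ⊥ ∨ M = ⊤)
    (h35 : Nat.card (Sylow 17 G) = 35) (P : Sylow 17 G) (hP : Nat.card P = 17) :
    centralizer ((P : Subgroup G) : Set G) = (P : Subgroup G) := by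
  haveI : Fact (Nat.Prime 17) := ⟨prime17⟩
  haveI : IsCyclic (P : Subgroup G) := isCyclic_of_prime_card hP
  have hPC : (P : Subgroup G) ≤ centralizer ((P : Subgroup G) : Set G) := by
    intro x hx
    rw [mem_centralizer_iff]
    intro y hy
    have hy' : y ∈ (P : Subgroup G) := hy
    have := IsCyclic.commGroup.mul_comm (⟨y, hy'⟩ : (P : Subgroup G)) ⟨x, hx⟩
    exact congrArg Subtype.val this
  have hpg : IsPGroup 17 (centralizer ((P : Subgroup G) : Set G)) := by
    rintro ⟨g, hg⟩
    have hpow : orderOf g = 17 ^ (orderOf g).primeFactorsList.length := by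
      apply Nat.eq_prime_pow_of_unique_prime_dvd (orderOf_pos g).ne'
      intro t ht htd
      by_contra hne
      have hz : g ^ (orderOf g / t) ∈ centralizer ((P : Subgroup G) : Set G) := pow_mem hg _
      have ho : orderOf (g ^ (orderOf g / t)) = t :=
        orderOf_pow_orderOf_div (orderOf_pos g).ne' htd
      exact false_of_centralizing hsimp h35 P _ hz ht ho hne
    refine ⟨(orderOf g).primeFactorsList.length, ?_⟩
    apply Subtype.ext
    show g ^ 17 ^ (orderOf g).primeFactorsList.length = 1
    rw [← hpow, pow_orderOf_eq_one]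
  exact P.3 hpg hPC

/-- the conclusion in the case `|P| = 17` -/
theorem false_of_small (hsimp : ∀ M : Subgroup G, M.Normal → M = ⊥ ∨ M = ⊤)
    (h35 : Nat.card (Sylow 17 G) = 35) (P : Sylow 17 G) (hP : Nat.card P = 17) : False := by
  haveI : Fact (Nat.Prime 17) := ⟨prime17⟩
  haveI : Fact (Nat.Prime 2) := ⟨Nat.prime_two⟩
  have hn1 : Nat.card (Sylow 17 G) ≠ 1 := by rw [h35]; norm_num
  have h17G : 17 ∣ Nat.card G := hP ▸ card_subgroup_dvd_card (P : Subgroup G)
  by_cases h2 : 2 ∣ Nat.card G
  · -- a Sylow 2-subgroup is cyclic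
    obtain ⟨S⟩ : Nonempty (Sylow 2 G) := inferInstance
    have hodd : ¬ 2 ∣ Nat.card (Sylow 17 G) := by rw [h35]; norm_num
    obtain ⟨Q, hQ⟩ := S.2.nonempty_fixed_point_of_prime_not_dvd_card (Sylow 17 G) hodd
    have hSN : (S : Subgroup G) ≤ normalizer ((Q : Subgroup G) : Set G) :=
      (Subgroup.sylow_mem_fixedPoints_iff (S : Subgroup G)).mp hQ
    have hQc : Nat.card Q = 17 := by rw [sylow_card_eq Q P]; exact hP
    have hCQ := centralizer_eq hsimp h35 Q hQc
    haveI : IsCyclic (Q : Subgroup G) := isCyclic_of_prime_card hQc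
    haveI : Fact (Nat.card (Q : Subgroup G)).Prime := ⟨by rw [hQc]; exact prime17⟩
    haveI : IsCyclic (MulAut (Q : Subgroup G)) :=
      isCyclic_of_injective (IsCyclic.mulAutMulEquiv (Q : Subgroup G)).toMonoidHom
        (MulEquiv.injective _)
    let ψ : (S : Subgroup G) →* MulAut (Q : Subgroup G) :=
      (Q : Subgroup G).normalizerMonoidHom.comp (Subgroup.inclusion hSN)
    have hψ : Function.Injective ψ := by
      rw [← MonoidHom.ker_eq_bot_iff, eq_bot_iff]
      intro x hx
      rw [MonoidHom.mem_ker] at hx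
      have h1 : Subgroup.inclusion hSN x ∈ (Q : Subgroup G).normalizerMonoidHom.ker := hx
      rw [normalizerMonoidHom_ker, mem_subgroupOf] at h1
      have h3 : (x : G) ∈ centralizer ((Q : Subgroup G) : Set G) := h1
      rw [hCQ] at h3
      have h4 : (x : G) ∈ (S : Subgroup G) ⊓ (Q : Subgroup G) := ⟨x.2, h3⟩
      have h5 : (S : Subgroup G) ⊓ (Q : Subgroup G) = ⊥ :=
        inf_eq_bot_of_coprime
          (IsPGroup.coprime_card_of_ne 2 17 (by norm_num) (S : Subgroup G) (Q : Subgroup G) S.2 Q.2)
      rw [h5, mem_bot] at h4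
      rw [mem_bot]
      exact Subtype.ext h4
    have hScyc : IsCyclic (S : Subgroup G) := isCyclic_of_injective ψ hψ
    have hmin : (Nat.card G).minFac = 2 := (Nat.minFac_eq_two_iff _).mpr h2
    have hcomp := IsCyclic.isComplement' hmin hScyc
    rcases hsimp _ (inferInstance : (MonoidHom.transferSylow S
        (hScyc.normalizer_le_centralizer hmin)).ker.Normal) with h | h
    · rw [h, isComplement'_bot_left] at hcomp
      obtain ⟨m, hm⟩ := S.2.exists_card_eq
      have hcG : Nat.card G = 2 ^ m := by
        rw [← hm, ← card_top (G := G), ← hcomp]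
      rw [hcG] at h17G
      have := Nat.Prime.dvd_of_dvd_pow prime17 h17G
      norm_num at this
    · rw [h, isComplement'_top_left] at hcomp
      exact S.ne_bot_of_dvd_card h2 hcomp
  · -- odd order: Burnside
    have hNC : normalizer ((P : Subgroup G) : Set G) ≤ centralizer ((P : Subgroup G) : Set G) := by
      haveI : IsCyclic (P : Subgroup G) := isCyclic_of_prime_card hP
      have key := card_dvd_of_injective _
        (QuotientGroup.kerLift_injective (P : Subgroup G).normalizerMonoidHom)
      rw [normalizerMonoidHom_ker, ← index, ← relIndex] at key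
      rw [IsCyclic.card_mulAut, hP, Nat.totient_prime prime17] at key
      have h3 : (centralizer ((P : Subgroup G) : Set G)).relIndex
          (normalizer ((P : Subgroup G) : Set G)) ∣ Nat.card G :=
        (relIndex_dvd_card _ _).trans (card_subgroup_dvd_card _)
      have hcop : Nat.Coprime (17 - 1) (Nat.card G) := by
        have : (17 - 1 : ℕ) = 2 ^ 4 := by norm_num
        rw [this]
        exact Nat.Coprime.pow_left _ ((Nat.Prime.coprime_iff_not_dvd Nat.prime_two).mpr h2)
      exact relIndex_eq_one.mp (Nat.eq_one_of_dvd_coprimes hcop key h3)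
    have hcomp := MonoidHom.ker_transferSylow_isComplement' P hNC
    rcases hsimp _ (inferInstance : (MonoidHom.transferSylow P hNC).ker.Normal) with h | h
    · rw [h, isComplement'_bot_left] at hcomp
      apply hn1
      rw [Nat.card_eq_one_iff_unique]
      refine ⟨⟨fun Q Q' => ?_⟩, ⟨P⟩⟩
      have e1 : Q = P := (Sylow.ext (Q.3 P.2 (by rw [hcomp]; exact le_top))).symm
      have e2 : Q' = P := (Sylow.ext (Q'.3 P.2 (by rw [hcomp]; exact le_top))).symm
      rw [e1, e2]
    · rw [h, isComplement'_top_left] at hcomp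
      rw [hcomp, card_bot] at hP
      norm_num at hP

end Cfsg.Agent.Lib.Helper7.Syl35
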