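import Mathlib
import Cfsg.Agent.Lib.Helper7.Syl35K

set_option autoImplicit false

namespace Cfsg.Agent.Lib.Helper7.Syl35

open Subgroup

universe u

theorem no_35_aux : ∀ n : ℕ, ∀ (G : Type u) [Group G] [Finite G], Nat.card G = n →
    Nat.card (Sylow 17 G) ≠ 35 := by
  intro n
  induction n using Nat.strong_induction_on with
  | _ n IH =>
    intro G _ _ hcard h35
    haveI : Fact (Nat.Prime 17) := ⟨prime17⟩
    have IH' : ∀ (H : Type u) [Group H] [Finite H], Nat.card H < Nat.card G →
        Nat.card (Sylow 17 H) ≠ 35 := by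
      intro H _ _ hlt
      exact IH (Nat.card H) (hcard ▸ hlt) H rfl
    by_cases hs : ∃ M : Subgroup G, M.Normal ∧ M ≠ ⊥ ∧ M ≠ ⊤
    · obtain ⟨M, hMn, hM1, hM2⟩ := hs
      haveI := hMn
      exact false_of_normal IH' h35 M hM1 hM2
    · have hsimp : ∀ M : Subgroup G, M.Normal → M = ⊥ ∨ M = ⊤ := by
        intro M hM
        by_contra hcon
        push Not at hcon
        exact hs ⟨M, hM, hcon.1, hcon.2⟩
      obtain ⟨P⟩ : Nonempty (Sylow 17 G) := inferInstance
      obtain ⟨k, hk⟩ := P.2.exists_card_eq
      rcases Nat.lt_or_ge k 2 with hlt | hge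
      · interval_cases k
        · -- trivial Sylow subgroups
          have hall : ∀ Q : Sylow 17 G, (Q : Subgroup G) = ⊥ := by
            intro Q
            apply card_eq_one.mp
            rw [sylow_card_eq Q P, hk, pow_zero]
          have : Nat.card (Sylow 17 G) = 1 := by
            rw [Nat.card_eq_one_iff_unique]
            refine ⟨⟨fun Q Q' => Sylow.ext ?_⟩, ⟨P⟩⟩
            rw [hall Q, hall Q']
          omega
        · exact false_of_small hsimp h35 P (by rw [hk, pow_one])
      · apply false_of_big hsimp h35 P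
        rw [hk]
        exact pow_dvd_pow 17 hge

/-- no finite group has exactly 35 Sylow 17-subgroups -/
theorem no_35 (G : Type u) [Group G] [Finite G] : Nat.card (Sylow 17 G) ≠ 35 :=
  no_35_aux _ G rfl

end Cfsg.Agent.Lib.Helper7.Syl35
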