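import Mathlib
import Cfsg.Agent.Lib.Helper7.Syl35L

set_option autoImplicit false

/-!
# A minimal group with 21 Sylow 5-subgroups has no proper nontrivial normal subgroup
-/

namespace Cfsg.Agent.Lib.Helper7.Syl21

open Subgroup
open Cfsg.Agent.Lib.Helper7.Syl35

universe u

theorem prime5 : Nat.Prime 5 := by norm_num

theorem dvd21_modEq {d : ℕ} (h1 : d ∣ 21) (h2 : d ≡ 1 [MOD 5]) : d = 1 ∨ d = 21 := by
  have hle : d ≤ 21 := Nat.le_of_dvd (by norm_num) h1
  interval_cases d <;> first | (left; rfl) | (right; rfl) | (exfalso; revert h1 h2; decide)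

section

variable {G : Type u} [Group G] [Finite G]

theorem card_sylow_one_or {H : Type u} [Group H] [Finite H]
    (IH : Nat.card (Sylow 5 H) ≠ 21) (hd : Nat.card (Sylow 5 H) ∣ 21) :
    Nat.card (Sylow 5 H) = 1 := by
  haveI : Fact (Nat.Prime 5) := ⟨prime5⟩
  rcases dvd21_modEq hd (card_sylow_modEq_one 5 H) with h | h
  · exact h
  · exact absurd h IH

/-- a proper nontrivial normal subgroup of a minimal counterexample is a `5'`-group and is
complemented by every Sylow `5`-subgroup -/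
theorem normal_facts
    (IH : ∀ (H : Type u) [Group H] [Finite H], Nat.card H < Nat.card G →
      Nat.card (Sylow 5 H) ≠ 21)
    (h21 : Nat.card (Sylow 5 G) = 21) (M : Subgroup G) [M.Normal] (hM1 : M ≠ ⊥) (hM2 : M ≠ ⊤) :
    (¬ 5 ∣ Nat.card M) ∧ ∀ P : Sylow 5 G, (P : Subgroup G) ⊔ M = ⊤ := by
  haveI : Fact (Nat.Prime 5) := ⟨prime5⟩
  constructor
  · obtain ⟨R⟩ : Nonempty (Sylow 5 M) := inferInstance
    have hd : Nat.card (Sylow 5 M) ∣ 21 := h21 ▸ card_sylow_normal_dvd M
    have h1 : Nat.card (Sylow 5 M) = 1 :=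
      card_sylow_one_or (IH M (card_subgroup_lt M hM2)) hd
    set D : Subgroup G := (R : Subgroup M).map M.subtype with hD
    have hDn : D.Normal := by
      have := card_sylow_normal M R
      rw [h1] at this
      exact normalizer_eq_top_iff.mp (index_eq_one.mp this.symm)
    have hDbot : D = ⊥ := by
      by_contra hne
      have hDp : IsPGroup 5 D := R.2.map M.subtype
      obtain ⟨P, hDP⟩ := hDp.exists_le_sylow
      have h2 := card_sylow_quotient_eq D P hDP
      rw [h21] at h2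
      exact IH (G ⧸ D) (card_quotient_lt D hne) h2
    have hRbot : (R : Subgroup M) = ⊥ :=
      (map_eq_bot_iff_of_injective _ M.subtype_injective).mp hDbot
    intro hdvd
    exact R.ne_bot_of_dvd_card hdvd hRbot
  · intro P
    have hd : Nat.card (Sylow 5 (G ⧸ M)) ∣ 21 := h21 ▸ card_sylow_quotient_dvd M
    have h1 : Nat.card (Sylow 5 (G ⧸ M)) = 1 :=
      card_sylow_one_or (IH (G ⧸ M) (card_quotient_lt M hM1)) hd
    haveI hn : ((P : Subgroup G) ⊔ M).Normal := sup_normal_of_card_sylow_quotient_eq_one M P h1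
    by_contra hne
    have h2 := card_sylow_normal_eq ((P : Subgroup G) ⊔ M) P le_sup_left
    rw [h21] at h2
    exact IH _ (card_subgroup_lt _ hne) h2

/-- `G = MP` with `M` a normal `5'`-group is impossible when there are 21 Sylow 5-subgroups -/
theorem false_of_split (h21 : Nat.card (Sylow 5 G) = 21) (M : Subgroup G) [hMn : M.Normal]
    (h5 : ¬ 5 ∣ Nat.card M) (hsup : ∀ P : Sylow 5 G, (P : Subgroup G) ⊔ M = ⊤) : False := by
  haveI : Fact (Nat.Prime 5) := ⟨prime5⟩
  haveI : Fact (Nat.Prime 7) := ⟨prime7⟩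
  obtain ⟨R7⟩ : Nonempty (Sylow 7 M) := inferInstance
  set R' : Subgroup G := (R7 : Subgroup M).map M.subtype with hR'
  have hR'M : R' ≤ M := map_subtype_le _
  have hfr := Sylow.normalizer_sup_eq_top R7
  have hidx : ¬ 5 ∣ (normalizer (R' : Set G)).index := by
    rw [index_eq_relIndex_of_sup_eq_top _ M hfr]
    intro h
    exact h5 (h.trans (relIndex_dvd_card _ _))
  obtain ⟨P, hPN⟩ := exists_sylow_le_of_not_dvd_index _ hidx
  have hPM := hsup P
  set NP : Subgroup G := normalizer ((P : Subgroup G) : Set G) with hNP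
  have hNPM : NP ⊔ M = ⊤ := by
    rw [eq_top_iff, ← hPM]
    exact sup_le_sup_right le_normalizer M
  have hrel : NP.relIndex M = 21 := by
    rw [← index_eq_relIndex_of_sup_eq_top NP M hNPM, ← h21, P.card_eq_index_normalizer]
    rfl
  have hPMbot : (P : Subgroup G) ⊓ M = ⊥ := by
    have hp : IsPGroup 5 ((P : Subgroup G) ⊓ M : Subgroup G) := P.2.to_le inf_le_left
    obtain ⟨k, hk⟩ := hp.exists_card_eq
    have hdvd : 5 ^ k ∣ Nat.card M := hk ▸ card_dvd_of_le inf_le_right
    rcases Nat.eq_zero_or_pos k with h0 | h0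
    · rw [h0, pow_zero] at hk
      exact card_eq_one.mp hk
    · exact absurd ((dvd_pow_self 5 h0.ne').trans hdvd) h5
  have hcent : M ⊓ NP ≤ centralizer ((P : Subgroup G) : Set G) := by
    rintro r ⟨hrM, hrN⟩
    rw [mem_centralizer_iff]
    intro x hx
    have hx' : x ∈ (P : Subgroup G) := hx
    have h1 : r * x * r⁻¹ ∈ (P : Subgroup G) := (mem_normalizer_iff.mp hrN x).mp hx'
    have h2 : r * x * r⁻¹ * x⁻¹ ∈ (P : Subgroup G) ⊓ M := by
      refine ⟨(P : Subgroup G).mul_mem h1 ((P : Subgroup G).inv_mem hx'), ?_⟩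
      have h3 : x * r⁻¹ * x⁻¹ ∈ M := hMn.conj_mem _ (M.inv_mem hrM) x
      have e : r * x * r⁻¹ * x⁻¹ = r * (x * r⁻¹ * x⁻¹) := by group
      rw [e]; exact M.mul_mem hrM h3
    rw [hPMbot, mem_bot] at h2
    calc x * r = (r * x * r⁻¹ * x⁻¹)⁻¹ * (r * x) := by group
      _ = r * x := by rw [h2, inv_one, one_mul]
  set F : Subgroup G := R' ⊓ centralizer ((P : Subgroup G) : Set G) with hF
  have hmod := card_modEq_card_inf_centralizer (P : Subgroup G) R' P.2 hPN
  obtain ⟨e, he⟩ := R7.2.exists_card_eq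
  have hcR' : Nat.card R' = 7 ^ e := by
    rw [hR', card_map_of_injective M.subtype_injective]; exact he
  have hpR' : IsPGroup 7 R' := R7.2.map M.subtype
  have hpF : IsPGroup 7 F := hpR'.to_le inf_le_left
  obtain ⟨j, hj⟩ := hpF.exists_card_eq
  have hje : j ≤ e := by
    have : 7 ^ j ∣ 7 ^ e := by rw [← hj, ← hcR']; exact card_dvd_of_le inf_le_left
    exact (Nat.pow_dvd_pow_iff_le_right (by norm_num)).mp this
  set C : Subgroup G := NP ⊓ M with hC
  have hCcard : Nat.card C * 21 = Nat.card M := by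
    rw [← hrel]; exact card_inf_mul_relIndex NP M
  rcases Nat.lt_or_ge j e with hlt | hge
  · have h1 : NP.relIndex R' ≤ NP.relIndex M :=
      relIndex_le_of_le_right hR'M (by rw [hrel]; norm_num)
    have h2 : Nat.card (NP ⊓ R' : Subgroup G) * NP.relIndex R' = Nat.card R' :=
      card_inf_mul_relIndex NP R'
    have h3 : Nat.card (NP ⊓ R' : Subgroup G) ≤ Nat.card F := by
      apply Nat.card_le_card_of_injective (Subgroup.inclusion _) (Subgroup.inclusion_injective _)
      rintro x ⟨hxN, hxR⟩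
      exact ⟨hxR, hcent ⟨hR'M hxR, hxN⟩⟩
    rw [hrel] at h1
    rw [hcR'] at h2
    rw [hj] at h3
    have h4 : 7 ^ e ≤ 7 ^ j * 21 := by
      calc 7 ^ e = Nat.card (NP ⊓ R' : Subgroup G) * NP.relIndex R' := h2.symm
        _ ≤ 7 ^ j * 21 := Nat.mul_le_mul h3 h1
    have h5 : e = j + 1 := by
      by_contra hne
      have h6 : j + 2 ≤ e := by omega
      have h7 : 7 ^ (j + 2) ≤ 7 ^ e := Nat.pow_le_pow_right (by norm_num) h6
      have h8 : 7 ^ (j + 2) = 7 ^ j * 49 := by ring
      have h9 : 0 < 7 ^ j := Nat.pow_pos (by norm_num)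
      nlinarith
    rw [hcR', hj, h5] at hmod
    have h6 : 5 ∣ 7 ^ (j + 1) - 7 ^ j :=
      (Nat.modEq_iff_dvd' (Nat.pow_le_pow_right (by norm_num) (Nat.le_succ j))).mp hmod.symm
    have h7 : 7 ^ (j + 1) - 7 ^ j = 7 ^ j * 6 := by
      rw [pow_succ]; omega
    rw [h7] at h6
    rcases (Nat.Prime.dvd_mul prime5).mp h6 with h8 | h8
    · have := Nat.Prime.dvd_of_dvd_pow prime5 h8
      norm_num at this
    · norm_num at h8
  · have hje' : j = e := le_antisymm hje hge
    have hFR : F = R' := by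
      apply eq_of_le_of_card_ge inf_le_left
      rw [hj, hcR', hje']
    have hR'C : R' ≤ C := by
      intro x hx
      have hxF : x ∈ F := hFR ▸ hx
      exact ⟨(centralizer_le_normalizer ((P : Subgroup G) : Set G)) hxF.2, hR'M hx⟩
    have h1 : 7 ^ e ∣ Nat.card C := hcR' ▸ card_dvd_of_le hR'C
    have h2 : 7 ^ (e + 1) ∣ Nat.card M := by
      rw [← hCcard, pow_succ]
      exact Nat.mul_dvd_mul h1 (by norm_num)
    have h3 := R7.pow_dvd_card_of_pow_dvd_card h2
    rw [he] at h3
    have := (Nat.pow_dvd_pow_iff_le_right (by norm_num : 1 < 7)).mp h3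
    omega

/-- a minimal counterexample has no proper nontrivial normal subgroup -/
theorem false_of_normal
    (IH : ∀ (H : Type u) [Group H] [Finite H], Nat.card H < Nat.card G →
      Nat.card (Sylow 5 H) ≠ 21)
    (h21 : Nat.card (Sylow 5 G) = 21) (M : Subgroup G) [M.Normal] (hM1 : M ≠ ⊥) (hM2 : M ≠ ⊤) :
    False := by
  obtain ⟨h1, h2⟩ := normal_facts IH h21 M hM1 hM2
  exact false_of_split h21 M h1 h2

end

end Cfsg.Agent.Lib.Helper7.Syl21
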