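import Mathlib
import Cfsg.Agent.Lib.Helper7.Syl21A

set_option autoImplicit false

/-!
# Pairs of Sylow 5-subgroups when there are 21 of them; the case `|P| ≥ 25`
-/

namespace Cfsg.Agent.Lib.Helper7.Syl21

open Subgroup MulAction
open Cfsg.Agent.Lib.Helper7.Syl35

universe u

variable {G : Type u} [Group G] [Finite G]

/-- any two distinct Sylow 5-subgroups meet in a subgroup of index 5 -/
theorem relIndex_eq_5 (h21 : Nat.card (Sylow 5 G) = 21) (Q Q' : Sylow 5 G) (hne : Q ≠ Q') :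
    (Q' : Subgroup G).relIndex (Q : Subgroup G) = 5 := by
  haveI : Fact (Nat.Prime 5) := ⟨prime5⟩
  have hstab : stabilizer (Q : Subgroup G) Q' = (Q' : Subgroup G).subgroupOf (Q : Subgroup G) := by
    ext x
    rw [mem_stabilizer_iff, mem_subgroupOf]
    have h1 : x • Q' = (x : G) • Q' := rfl
    rw [h1, Sylow.smul_eq_iff_mem_normalizer]
    have h2 := IsPGroup.inf_normalizer_sylow Q.2 Q'
    constructor
    · intro hx
      exact (h2.le ⟨x.2, hx⟩).2
    · intro hx
      exact le_normalizer hx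
  have hidx : (Q' : Subgroup G).relIndex (Q : Subgroup G) =
      (orbit (Q : Subgroup G) Q').ncard := by
    rw [← index_stabilizer, hstab]; rfl
  obtain ⟨k, hk⟩ := IsPGroup.index Q.2 ((Q' : Subgroup G).subgroupOf (Q : Subgroup G))
  have hk' : (Q' : Subgroup G).relIndex (Q : Subgroup G) = 5 ^ k := hk
  have hk0 : k ≠ 0 := by
    intro h0
    rw [h0, pow_zero, relIndex_eq_one] at hk'
    exact hne (Sylow.ext (Q.3 Q'.2 hk')).symm
  have hle : (orbit (Q : Subgroup G) Q').ncard ≤ 20 := by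
    have hsub : orbit (Q : Subgroup G) Q' ⊆ {Q}ᶜ := by
      rintro _ ⟨x, rfl⟩ hmem
      have h1 : x • Q' = Q := hmem
      have h2 : Q' = x⁻¹ • Q := by rw [eq_inv_smul_iff]; exact h1
      have h3 : x⁻¹ • Q = Q := sylow_smul_self Q (x⁻¹).2
      exact hne (h2.trans h3).symm
    have h1 : (orbit (Q : Subgroup G) Q').ncard ≤ ({Q}ᶜ : Set (Sylow 5 G)).ncard :=
      Set.ncard_le_ncard hsub (Set.toFinite _)
    have h2 : ({Q}ᶜ : Set (Sylow 5 G)).ncard = 20 := by
      rw [Set.ncard_compl, Set.ncard_singleton, h21]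
    omega
  rw [hidx] at hk'
  rw [hidx, hk']
  rcases Nat.lt_or_ge k 2 with h2 | h2
  · have : k = 1 := by omega
    rw [this, pow_one]
  · exfalso
    have : 5 ^ 2 ≤ 5 ^ k := Nat.pow_le_pow_right (by norm_num) h2
    omega

/-- consequently `|Q ∩ Q'| * 5 = |Q|` -/
theorem card_inf_mul_5 (h21 : Nat.card (Sylow 5 G) = 21) (Q Q' : Sylow 5 G) (hne : Q ≠ Q') :
    Nat.card ((Q : Subgroup G) ⊓ Q' : Subgroup G) * 5 = Nat.card Q := by
  have h1 := card_inf_mul_relIndex (Q' : Subgroup G) (Q : Subgroup G)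
  rw [relIndex_eq_5 h21 Q Q' hne, inf_comm] at h1
  exact h1

/-- the intersection of two distinct Sylow 5-subgroups is normal in each -/
theorem le_normalizer_inf (h21 : Nat.card (Sylow 5 G) = 21) (Q1 Q2 : Sylow 5 G) (hne : Q1 ≠ Q2)
    (hbig : 5 ^ 2 ∣ Nat.card Q1) :
    (Q1 : Subgroup G) ≤ normalizer (((Q1 : Subgroup G) ⊓ Q2 : Subgroup G) : Set G) := by
  haveI : Fact (Nat.Prime 5) := ⟨prime5⟩
  rw [← normal_subgroupOf_iff_le_normalizer inf_le_left]
  apply normal_of_index_eq_minFac_card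
  have h1 : (((Q1 : Subgroup G) ⊓ Q2).subgroupOf (Q1 : Subgroup G)).index = 5 := by
    have := relIndex_eq_5 h21 Q1 Q2 hne
    rw [← inf_relIndex_right, inf_comm] at this
    exact this
  rw [h1]
  obtain ⟨k, hk⟩ := Q1.2.exists_card_eq
  have hk0 : k ≠ 0 := by
    intro h0
    rw [hk, h0, pow_zero] at hbig
    norm_num at hbig
  rw [hk, Nat.Prime.pow_minFac prime5 hk0]

/-- the number of Sylow 5-subgroups containing the intersection of two distinct ones lies
between 6 and 16 -/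
theorem card_ge_inf (hsimp : ∀ M : Subgroup G, M.Normal → M = ⊥ ∨ M = ⊤)
    (h21 : Nat.card (Sylow 5 G) = 21) (Q1 Q2 : Sylow 5 G) (hne : Q1 ≠ Q2)
    (hbig : 5 ^ 2 ∣ Nat.card Q1) :
    6 ≤ Nat.card {Q : Sylow 5 G | (Q1 : Subgroup G) ⊓ Q2 ≤ (Q : Subgroup G)} ∧
    Nat.card {Q : Sylow 5 G | (Q1 : Subgroup G) ⊓ Q2 ≤ (Q : Subgroup G)} ≤ 16 := by
  haveI : Fact (Nat.Prime 5) := ⟨prime5⟩
  set D : Subgroup G := (Q1 : Subgroup G) ⊓ Q2 with hD
  have hcard := card_inf_mul_5 h21 Q1 Q2 hne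
  have hDn := le_normalizer_inf h21 Q1 Q2 hne hbig
  have hmod := card_ge_modEq Q1 D inf_le_left hDn
  set c := Nat.card {Q : Sylow 5 G | D ≤ (Q : Subgroup G)} with hc
  have hle : c ≤ 21 := by
    rw [← h21]
    exact Nat.card_le_card_of_injective (fun Q => (Q : Sylow 5 G)) Subtype.val_injective
  have hge : 2 ≤ c := by
    have : Fintype {Q : Sylow 5 G | D ≤ (Q : Subgroup G)} := Fintype.ofFinite _
    rw [hc, Nat.card_eq_fintype_card]
    have h1 : (⟨Q1, (show D ≤ (Q1 : Subgroup G) from inf_le_left)⟩ :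
        {Q : Sylow 5 G | D ≤ (Q : Subgroup G)}) ≠
        ⟨Q2, (show D ≤ (Q2 : Subgroup G) from inf_le_right)⟩ := by
      intro h; exact hne (congrArg Subtype.val h)
    exact Fintype.one_lt_card_iff.mpr ⟨_, _, h1⟩
  have hne21 : c ≠ 21 := by
    intro h
    have hall : ∀ Q : Sylow 5 G, D ≤ (Q : Subgroup G) := by
      intro Q
      have hbij : Function.Bijective
          (Subtype.val : {Q : Sylow 5 G | D ≤ (Q : Subgroup G)} → Sylow 5 G) :=
        Function.Injective.bijective_of_nat_card_le Subtype.val_injective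
          (by rw [h21, ← h])
      obtain ⟨⟨Q', hQ'⟩, rfl⟩ := hbij.2 Q
      exact hQ'
    have hD1 : D ≠ ⊥ := by
      intro h0
      rw [hD] at h0
      rw [h0, card_bot] at hcard
      obtain ⟨m, hm⟩ := hbig
      omega
    exact false_of_le_all hsimp (by rw [h21]; norm_num) D hD1 hall
  have h1 : c % 5 = 1 := by
    have := hmod
    unfold Nat.ModEq at this
    simpa using this
  omega

end Cfsg.Agent.Lib.Helper7.Syl21
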