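import Mathlib
import Cfsg.Agent.Lib.Helper7.Syl21B

set_option autoImplicit false

/-!
# The case of Sylow 5-subgroups of order at least 25
-/

namespace Cfsg.Agent.Lib.Helper7.Syl21

open Subgroup MulAction
open Cfsg.Agent.Lib.Helper7.Syl35

universe u

variable {G : Type u} [Group G] [Finite G]

/-- two Sylow subgroups containing the intersection `D` of two others meet exactly in `D` -/
theorem inf_eq_of_le (h21 : Nat.card (Sylow 5 G) = 21) (Q1 Q2 R R' : Sylow 5 G)
    (hne : Q1 ≠ Q2) (hRR : R ≠ R')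
    (hR : (Q1 : Subgroup G) ⊓ Q2 ≤ (R : Subgroup G))
    (hR' : (Q1 : Subgroup G) ⊓ Q2 ≤ (R' : Subgroup G)) :
    (R : Subgroup G) ⊓ R' = (Q1 : Subgroup G) ⊓ Q2 := by
  haveI : Fact (Nat.Prime 5) := ⟨prime5⟩
  symm
  apply eq_of_le_of_card_ge (le_inf hR hR')
  have c1 := card_inf_mul_5 h21 Q1 Q2 hne
  have c2 := card_inf_mul_5 h21 R R' hRR
  rw [sylow_card_eq R Q1] at c2
  omega

/-- Sylow 5-subgroups of order at least `25` are impossible in a simple group with 21 of them -/
theorem false_of_big (hsimp : ∀ M : Subgroup G, M.Normal → M = ⊥ ∨ M = ⊤)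
    (h21 : Nat.card (Sylow 5 G) = 21) (P : Sylow 5 G) (hbig : 5 ^ 2 ∣ Nat.card P) : False := by
  classical
  haveI : Fact (Nat.Prime 5) := ⟨prime5⟩
  haveI : Fintype (Sylow 5 G) := Fintype.ofFinite _
  have hU : (Finset.univ : Finset (Sylow 5 G)).card = 21 := by
    rw [Finset.card_univ, ← Nat.card_eq_fintype_card, h21]
  have hbigQ : ∀ Q : Sylow 5 G, 5 ^ 2 ∣ Nat.card Q := by
    intro Q; rw [sylow_card_eq Q P]; exact hbig
  -- two distinct Sylow subgroups
  obtain ⟨Q1, Q2, hne⟩ : ∃ Q1 Q2 : Sylow 5 G, Q1 ≠ Q2 := by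
    have : 1 < Fintype.card (Sylow 5 G) := by
      rw [← Nat.card_eq_fintype_card, h21]; norm_num
    exact Fintype.one_lt_card_iff.mp this
  set D : Subgroup G := (Q1 : Subgroup G) ⊓ Q2 with hD
  set T : Finset (Sylow 5 G) := Finset.univ.filter (fun Q => D ≤ (Q : Subgroup G)) with hT
  have hTc := card_ge_inf hsimp h21 Q1 Q2 hne (hbigQ Q1)
  have hTcard : T.card = Nat.card {Q : Sylow 5 G | D ≤ (Q : Subgroup G)} := by
    rw [hT, Nat.card_eq_fintype_card]
    exact (Fintype.card_subtype _).symm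
  rw [← hTcard] at hTc
  -- a Sylow subgroup outside T
  obtain ⟨X, hX⟩ : ∃ X : Sylow 5 G, X ∉ T := by
    by_contra hcon
    push Not at hcon
    have : T = Finset.univ := Finset.eq_univ_iff_forall.mpr hcon
    rw [this, hU] at hTc
    omega
  have hXD : ¬ D ≤ (X : Subgroup G) := by
    intro h
    apply hX
    rw [hT, Finset.mem_filter]
    exact ⟨Finset.mem_univ _, h⟩
  let Φ : Sylow 5 G → Subgroup G := fun Y => (X : Subgroup G) ⊓ Y
  set U : Finset (Sylow 5 G) := Finset.univ.erase X with hUe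
  have hUcard : U.card = 20 := by
    rw [hUe, Finset.card_erase_of_mem (Finset.mem_univ _), hU]
  have hTU : T ⊆ U := by
    intro R hR
    rw [hUe, Finset.mem_erase]
    refine ⟨?_, Finset.mem_univ _⟩
    rintro rfl
    exact hX hR
  have hTmem : ∀ R ∈ T, D ≤ (R : Subgroup G) := by
    intro R hR
    rw [hT, Finset.mem_filter] at hR
    exact hR.2
  -- Φ is injective on T
  have hinj : Set.InjOn Φ (T : Set (Sylow 5 G)) := by
    intro R hR R' hR' hΦ
    by_contra hRR
    have hΦ' : (X : Subgroup G) ⊓ R = (X : Subgroup G) ⊓ R' := hΦ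
    have hRX : R ≠ X := by rintro rfl; exact hX hR
    have h1 := inf_eq_of_le h21 Q1 Q2 R R' hne hRR (hTmem R hR) (hTmem R' hR')
    have h2 : (X : Subgroup G) ⊓ R ≤ D := by
      rw [hD, ← h1]
      apply le_inf inf_le_right
      rw [hΦ']; exact inf_le_right
    have h3 : (X : Subgroup G) ⊓ R = D := by
      apply eq_of_le_of_card_ge h2
      have c1 : Nat.card D * 5 = Nat.card Q1 := card_inf_mul_5 h21 Q1 Q2 hne
      have c2 := card_inf_mul_5 h21 X R (Ne.symm hRX)
      rw [sylow_card_eq X Q1] at c2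
      omega
    apply hXD
    rw [← h3]; exact inf_le_left
  -- fibres over Φ(T) have at least 5 elements
  have hfib : ∀ E ∈ T.image Φ, 5 ≤ (U.filter (fun Y => Φ Y = E)).card := by
    intro E hE
    obtain ⟨R, hR, rfl⟩ := Finset.mem_image.mp hE
    have hRX : R ≠ X := by rintro rfl; exact hX hR
    have hn := le_normalizer_inf h21 X R (Ne.symm hRX) (hbigQ X)
    have hmod := card_ge_modEq X ((X : Subgroup G) ⊓ R) inf_le_left hn
    set A : Finset (Sylow 5 G) :=
      Finset.univ.filter (fun Y => (X : Subgroup G) ⊓ R ≤ (Y : Subgroup G)) with hA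
    have hAcard : A.card = Nat.card {Y : Sylow 5 G | (X : Subgroup G) ⊓ R ≤ (Y : Subgroup G)} := by
      rw [hA, Nat.card_eq_fintype_card]
      exact (Fintype.card_subtype _).symm
    rw [← hAcard] at hmod
    have hXA : X ∈ A := by
      rw [hA, Finset.mem_filter]; exact ⟨Finset.mem_univ _, inf_le_left⟩
    have hRA : R ∈ A := by
      rw [hA, Finset.mem_filter]; exact ⟨Finset.mem_univ _, inf_le_right⟩
    have h2 : 2 ≤ A.card := by
      have : ({X, R} : Finset (Sylow 5 G)) ⊆ A := by
        intro Y hY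
        rw [Finset.mem_insert, Finset.mem_singleton] at hY
        rcases hY with rfl | rfl
        · exact hXA
        · exact hRA
      have h3 := Finset.card_le_card this
      rw [Finset.card_pair (Ne.symm hRX)] at h3
      exact h3
    have h6 : 6 ≤ A.card := by
      have h1 : A.card % 5 = 1 := by
        have := hmod
        unfold Nat.ModEq at this
        simpa using this
      omega
    have hsub : A.erase X ⊆ U.filter (fun Y => Φ Y = Φ R) := by
      intro Y hY
      rw [Finset.mem_erase] at hY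
      obtain ⟨hYX, hYA⟩ := hY
      rw [hA, Finset.mem_filter] at hYA
      rw [Finset.mem_filter, hUe, Finset.mem_erase]
      refine ⟨⟨hYX, Finset.mem_univ _⟩, ?_⟩
      show (X : Subgroup G) ⊓ Y = (X : Subgroup G) ⊓ R
      symm
      apply eq_of_le_of_card_ge (le_inf inf_le_left hYA.2)
      have c1 := card_inf_mul_5 h21 X R (Ne.symm hRX)
      have c2 := card_inf_mul_5 h21 X Y (Ne.symm hYX)
      omega
    have h7 := Finset.card_le_card hsub
    rw [Finset.card_erase_of_mem hXA] at h7
    omega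
  -- counting
  have hsum := Finset.card_eq_sum_card_image Φ U
  have himg : T.image Φ ⊆ U.image Φ := Finset.image_subset_image hTU
  have h1 : ∑ E ∈ T.image Φ, (U.filter (fun Y => Φ Y = E)).card ≤
      ∑ E ∈ U.image Φ, (U.filter (fun Y => Φ Y = E)).card :=
    Finset.sum_le_sum_of_subset himg
  have h2 : (T.image Φ).card • 5 ≤ ∑ E ∈ T.image Φ, (U.filter (fun Y => Φ Y = E)).card :=
    Finset.card_nsmul_le_sum _ _ _ hfib
  have h3 : (T.image Φ).card = T.card := Finset.card_image_of_injOn hinj
  rw [h3, smul_eq_mul] at h2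
  rw [← hsum, hUcard] at h1
  omega

end Cfsg.Agent.Lib.Helper7.Syl21
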