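import Mathlib
import Cfsg.Agent.Lib.Helper7.Syl21C

set_option autoImplicit false

/-!
# Fixed point counts on the 21 Sylow 5-subgroups of a simple group
-/

namespace Cfsg.Agent.Lib.Helper7.Syl21

open Subgroup MulAction
open Cfsg.Agent.Lib.Helper7.Syl35
open scoped Pointwise

universe u

variable {G : Type u} [Group G] [Finite G]

/-- the number of Sylow 5-subgroups normalized by `g` -/
noncomputable def fx (g : G) : ℕ := Nat.card {Q : Sylow 5 G | g • Q = Q}

theorem fx_le (h21 : Nat.card (Sylow 5 G) = 21) (g : G) : fx g ≤ 21 := by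
  rw [← h21]
  exact Nat.card_le_card_of_injective (fun Q => (Q : Sylow 5 G)) Subtype.val_injective

/-- an even involution on 21 points has `1 mod 4` fixed points -/
theorem card_fixed_mod_four {α : Type*} [Fintype α] [DecidableEq α] (σ : Equiv.Perm α)
    (hcard : Fintype.card α = 21) (h2 : orderOf σ = 2) (hs : Equiv.Perm.sign σ = 1) :
    Fintype.card (Function.fixedPoints σ) % 4 = 1 := by
  have hpr : (orderOf σ).Prime := by rw [h2]; exact Nat.prime_two
  obtain ⟨n, hn⟩ := Equiv.Perm.cycleType_prime_order hpr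
  have h3 := Equiv.Perm.card_fixedPoints σ
  rw [hcard, hn, h2, Multiset.sum_replicate, smul_eq_mul] at h3
  rw [Equiv.Perm.sign_of_cycleType, hn, h2, Multiset.sum_replicate, Multiset.card_replicate,
    smul_eq_mul] at hs
  have hle : (n + 1) * 2 ≤ 21 := by
    have := Equiv.Perm.sum_cycleType_le σ
    rw [hn, h2, Multiset.sum_replicate, smul_eq_mul, hcard] at this
    exact this
  have heven : Even ((n + 1) * 2 + (n + 1)) := by
    by_contra hodd
    rw [Nat.not_even_iff_odd] at hodd
    rw [Odd.neg_one_pow hodd] at hs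
    exact absurd hs (by decide)
  obtain ⟨m, hm⟩ := heven
  omega

/-- in a simple group with 21 Sylow 5-subgroups every element acts as an even permutation -/
theorem sign_eq_one (hsimp : ∀ M : Subgroup G, M.Normal → M = ⊥ ∨ M = ⊤)
    (h21 : Nat.card (Sylow 5 G) = 21) [Fintype (Sylow 5 G)] [DecidableEq (Sylow 5 G)] (g : G) :
    Equiv.Perm.sign (MulAction.toPerm g : Equiv.Perm (Sylow 5 G)) = 1 := by
  haveI : Fact (Nat.Prime 5) := ⟨prime5⟩
  let ε : G →* ℤˣ := Equiv.Perm.sign.comp (MulAction.toPermHom G (Sylow 5 G))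
  rcases hsimp ε.ker inferInstance with h | h
  · exfalso
    have hinj : Function.Injective ε := (MonoidHom.ker_eq_bot_iff ε).mp h
    have h2 : Nat.card G ≤ Nat.card ℤˣ := Nat.card_le_card_of_injective ε hinj
    have h3 : Nat.card ℤˣ = 2 := by
      rw [Nat.card_eq_fintype_card]; rfl
    obtain ⟨P⟩ : Nonempty (Sylow 5 G) := inferInstance
    have h4 : 21 ∣ Nat.card G := by
      rw [← h21]
      exact (P.card_dvd_index).trans (index_dvd_card _)
    have h5 : 21 ≤ Nat.card G := Nat.le_of_dvd Nat.card_pos h4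
    omega
  · have : g ∈ ε.ker := by rw [h]; exact mem_top g
    rw [MonoidHom.mem_ker] at this
    exact this

/-- involutions have `1 mod 4` fixed points -/
theorem fx_mod_four (hsimp : ∀ M : Subgroup G, M.Normal → M = ⊥ ∨ M = ⊤)
    (h21 : Nat.card (Sylow 5 G) = 21) (g : G) (hg : orderOf g = 2) : fx g % 4 = 1 := by
  classical
  haveI : Fact (Nat.Prime 5) := ⟨prime5⟩
  haveI : Fintype (Sylow 5 G) := Fintype.ofFinite _
  have hn1 : Nat.card (Sylow 5 G) ≠ 1 := by rw [h21]; norm_num
  have hcardU : Fintype.card (Sylow 5 G) = 21 := by rw [← Nat.card_eq_fintype_card, h21]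
  have hg1 : g ≠ 1 := by
    intro h; rw [h, orderOf_one] at hg; norm_num at hg
  let σ : Equiv.Perm (Sylow 5 G) := MulAction.toPerm g
  have hσ2 : σ ^ 2 = 1 := by
    show (MulAction.toPermHom G (Sylow 5 G) g) ^ 2 = 1
    rw [← map_pow, ← hg, pow_orderOf_eq_one, map_one]
  have hσ1 : σ ≠ 1 := by
    intro h
    apply hg1
    apply eq_one_of_fixes_all hsimp hn1
    intro Q
    have : σ Q = Q := by rw [h]; rfl
    exact this
  have hσo : orderOf σ = 2 := orderOf_eq_prime hσ2 hσ1
  have hs : Equiv.Perm.sign σ = 1 := sign_eq_one hsimp h21 g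
  have := card_fixed_mod_four σ hcardU hσo hs
  have hF : Fintype.card (Function.fixedPoints σ) = fx g := by
    unfold fx
    rw [Nat.card_eq_fintype_card]
    rfl
  rw [hF] at this
  exact this

/-- the fixed point count is a class function -/
theorem fx_conj (g h : G) : fx (h⁻¹ * g * h) = fx g := by
  unfold fx
  apply Nat.card_congr
  refine ⟨fun Q => ⟨h • (Q : Sylow 5 G), ?_⟩, fun Q => ⟨h⁻¹ • (Q : Sylow 5 G), ?_⟩, ?_, ?_⟩
  · have hQ : (h⁻¹ * g * h) • (Q : Sylow 5 G) = Q := Q.2
    show g • (h • (Q : Sylow 5 G)) = h • (Q : Sylow 5 G)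
    calc g • (h • (Q : Sylow 5 G)) = h • ((h⁻¹ * g * h) • (Q : Sylow 5 G)) := by
          simp only [← mul_smul]; congr 1; group
      _ = h • (Q : Sylow 5 G) := by rw [hQ]
  · have hQ : g • (Q : Sylow 5 G) = Q := Q.2
    show (h⁻¹ * g * h) • (h⁻¹ • (Q : Sylow 5 G)) = h⁻¹ • (Q : Sylow 5 G)
    calc (h⁻¹ * g * h) • (h⁻¹ • (Q : Sylow 5 G)) = h⁻¹ • (g • (Q : Sylow 5 G)) := by
          simp only [← mul_smul]; congr 1; group
      _ = h⁻¹ • (Q : Sylow 5 G) := by rw [hQ]
  · intro Q
    apply Subtype.ext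
    show h⁻¹ • (h • (Q : Sylow 5 G)) = Q
    rw [inv_smul_smul]
  · intro Q
    apply Subtype.ext
    show h • (h⁻¹ • (Q : Sylow 5 G)) = Q
    rw [smul_inv_smul]

/-- an involution centralizing a Sylow 5-subgroup normalizes no other one -/
theorem fx_of_centralizing (hsimp : ∀ M : Subgroup G, M.Normal → M = ⊥ ∨ M = ⊤)
    (h21 : Nat.card (Sylow 5 G) = 21) (P : Sylow 5 G) (z : G)
    (hz : z ∈ centralizer ((P : Subgroup G) : Set G)) (hz2 : orderOf z = 2) : fx z = 1 := by
  haveI : Fact (Nat.Prime 5) := ⟨prime5⟩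
  have hn1 : Nat.card (Sylow 5 G) ≠ 1 := by rw [h21]; norm_num
  have h4 := fx_mod_four hsimp h21 z hz2
  have h5 : fx z % 5 = 1 := by
    have := card_fixed_modEq P z hz
    unfold Nat.ModEq at this
    unfold fx
    rw [this]
  have hle := fx_le h21 z
  have hne : fx z ≠ 21 := by
    intro h
    have hz1 : z = 1 := by
      apply eq_one_of_fixes_all hsimp hn1
      intro Q
      have hbij : Function.Bijective
          (Subtype.val : {Q : Sylow 5 G | z • Q = Q} → Sylow 5 G) :=
        Function.Injective.bijective_of_nat_card_le Subtype.val_injective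
          (by rw [h21]; exact h.ge)
      obtain ⟨⟨Q', hQ'⟩, rfl⟩ := hbij.2 Q
      exact hQ'
    rw [hz1, orderOf_one] at hz2
    norm_num at hz2
  omega

/-- if `g` normalizes `P` and has a single fixed point, that fixed point is `P` -/
theorem eq_of_fx_eq_one (P : Sylow 5 G) (g : G)
    (hg : g ∈ normalizer ((P : Subgroup G) : Set G)) (h1 : fx g = 1) (Q : Sylow 5 G)
    (hQ : g • Q = Q) : Q = P := by
  unfold fx at h1
  rw [Nat.card_eq_one_iff_unique] at h1
  obtain ⟨hsub, _⟩ := h1
  have hP : g • P = P := Sylow.smul_eq_iff_mem_normalizer.mpr hg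
  have := hsub.elim (⟨Q, hQ⟩ : {Q : Sylow 5 G | g • Q = Q}) ⟨P, hP⟩
  exact congrArg Subtype.val this

end Cfsg.Agent.Lib.Helper7.Syl21
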