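import Mathlib
import Cfsg.Agent.Lib.Helper7.Syl21D

set_option autoImplicit false

/-!
# Transfer arguments in a simple group with 21 Sylow 5-subgroups
-/

namespace Cfsg.Agent.Lib.Helper7.Syl21

open Subgroup MulAction
open Cfsg.Agent.Lib.Helper7.Syl35
open scoped Pointwise

universe u

variable {G : Type u} [Group G] [Finite G]

/-- a commutative group has a single Sylow 5-subgroup -/
theorem false_of_comm (h21 : Nat.card (Sylow 5 G) = 21) (hcomm : ∀ a b : G, a * b = b * a) :
    False := by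
  haveI : Fact (Nat.Prime 5) := ⟨prime5⟩
  have : Nat.card (Sylow 5 G) = 1 := by
    rw [Nat.card_eq_one_iff_unique]
    refine ⟨⟨fun Q Q' => ?_⟩, inferInstance⟩
    obtain ⟨g, hg⟩ := MulAction.exists_smul_eq G Q Q'
    have h1 : g • Q = Q := by
      have hgn : g ∈ normalizer ((Q : Subgroup G) : Set G) := by
        rw [mem_normalizer_iff]
        intro h
        have : g * h * g⁻¹ = h := by rw [hcomm g h, mul_assoc, mul_inv_cancel, mul_one]
        rw [this]
      exact Sylow.smul_eq_iff_mem_normalizer.mpr hgn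
    rw [← hg, h1]
  omega

/-- Sylow 2-subgroups of a simple group with 21 Sylow 5-subgroups are not cyclic -/
theorem false_of_cyclic (hsimp : ∀ M : Subgroup G, M.Normal → M = ⊥ ∨ M = ⊤)
    (h21 : Nat.card (Sylow 5 G) = 21) (S : Sylow 2 G) (h2 : 2 ∣ Nat.card G)
    (hScyc : IsCyclic (S : Subgroup G)) : False := by
  haveI : Fact (Nat.Prime 5) := ⟨prime5⟩
  haveI : Fact (Nat.Prime 2) := ⟨Nat.prime_two⟩
  have hmin : (Nat.card G).minFac = 2 := (Nat.minFac_eq_two_iff _).mpr h2
  have hcomp := IsCyclic.isComplement' hmin hScyc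
  rcases hsimp _ (inferInstance : (MonoidHom.transferSylow S
      (hScyc.normalizer_le_centralizer hmin)).ker.Normal) with h | h
  · rw [h, isComplement'_bot_left] at hcomp
    obtain ⟨m, hm⟩ := S.2.exists_card_eq
    have hcG : Nat.card G = 2 ^ m := by
      rw [← hm, ← card_top (G := G), ← hcomp]
    obtain ⟨P⟩ : Nonempty (Sylow 5 G) := inferInstance
    have h4 : 21 ∣ Nat.card G := by
      rw [← h21]
      exact (P.card_dvd_index).trans (index_dvd_card _)
    rw [hcG] at h4
    have h3 : 3 ∣ 2 ^ m := Dvd.dvd.trans (by norm_num) h4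
    have := Nat.Prime.dvd_of_dvd_pow Nat.prime_three h3
    norm_num at this
  · rw [h, isComplement'_top_left] at hcomp
    exact S.ne_bot_of_dvd_card h2 hcomp

/-- Burnside: `N(P) ≤ C(P)` is impossible -/
theorem false_of_normalizer_le (hsimp : ∀ M : Subgroup G, M.Normal → M = ⊥ ∨ M = ⊤)
    (h21 : Nat.card (Sylow 5 G) = 21) (P : Sylow 5 G) (hP : Nat.card P = 5)
    (hNC : normalizer ((P : Subgroup G) : Set G) ≤ centralizer ((P : Subgroup G) : Set G)) :
    False := by
  haveI : Fact (Nat.Prime 5) := ⟨prime5⟩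
  have hn1 : Nat.card (Sylow 5 G) ≠ 1 := by rw [h21]; norm_num
  have hcomp := MonoidHom.ker_transferSylow_isComplement' P hNC
  rcases hsimp _ (inferInstance : (MonoidHom.transferSylow P hNC).ker.Normal) with h | h
  · rw [h, isComplement'_bot_left] at hcomp
    apply hn1
    rw [Nat.card_eq_one_iff_unique]
    refine ⟨⟨fun Q Q' => ?_⟩, ⟨P⟩⟩
    have e1 : Q = P := (Sylow.ext (Q.3 P.2 (by rw [hcomp]; exact le_top))).symm
    have e2 : Q' = P := (Sylow.ext (Q'.3 P.2 (by rw [hcomp]; exact le_top))).symm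
    rw [e1, e2]
  · rw [h, isComplement'_top_left] at hcomp
    rw [hcomp, card_bot] at hP
    norm_num at hP

/-- an isolated involution of a Sylow 2-subgroup outside its commutator subgroup does not exist -/
theorem false_of_isolated (hsimp : ∀ M : Subgroup G, M.Normal → M = ⊥ ∨ M = ⊤)
    (h21 : Nat.card (Sylow 5 G) = 21) (S : Sylow 2 G) (t : G) (htS : t ∈ (S : Subgroup G))
    (ht2 : orderOf t = 2)
    (hiso : ∀ g : G, g⁻¹ * t * g ∈ (S : Subgroup G) → g⁻¹ * t * g = t)
    (htc : (⟨t, htS⟩ : (S : Subgroup G)) ∉ commutator (S : Subgroup G)) : False := by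
  haveI : Fact (Nat.Prime 2) := ⟨Nat.prime_two⟩
  let ϕ : (S : Subgroup G) →* Abelianization (S : Subgroup G) := Abelianization.of
  have ht2' : t ^ 2 = 1 := by rw [← ht2]; exact pow_orderOf_eq_one t
  have hpow : ∀ k : ℕ, t ^ k = 1 ∨ t ^ k = t := by
    intro k
    rcases Nat.even_or_odd k with ⟨m, hm⟩ | ⟨m, hm⟩
    · left
      rw [hm, ← two_mul, pow_mul, ht2', one_pow]
    · right
      rw [hm, pow_succ, pow_mul, ht2', one_pow, one_mul]
  have key : ∀ (k : ℕ) (g₀ : G), g₀⁻¹ * t ^ k * g₀ ∈ (S : Subgroup G) →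
      g₀⁻¹ * t ^ k * g₀ = t ^ k := by
    intro k g₀ h
    rcases hpow k with h1 | h1
    · rw [h1]; group
    · rw [h1] at h ⊢
      exact hiso g₀ h
  have htr := MonoidHom.transfer_eq_pow (ϕ := ϕ) t key
  have hodd : ¬ 2 ∣ (S : Subgroup G).index := S.not_dvd_index
  have hidx : t ^ (S : Subgroup G).index = t := by
    rcases Nat.even_or_odd (S : Subgroup G).index with he | ⟨m, hm⟩
    · exact absurd he.two_dvd hodd
    · rw [hm, pow_succ, pow_mul, ht2', one_pow, one_mul]
  have hval : MonoidHom.transfer ϕ t = ϕ ⟨t, htS⟩ := by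
    rw [htr]
    congr 1
    exact Subtype.ext hidx
  have hne : MonoidHom.transfer ϕ t ≠ 1 := by
    rw [hval]
    intro h
    apply htc
    have : (⟨t, htS⟩ : (S : Subgroup G)) ∈ (Abelianization.of : (S : Subgroup G) →* _).ker :=
      MonoidHom.mem_ker.mpr h
    rw [Abelianization.ker_of] at this
    exact this
  rcases hsimp (MonoidHom.transfer ϕ).ker inferInstance with h | h
  · have hinj : Function.Injective (MonoidHom.transfer ϕ) :=
      (MonoidHom.ker_eq_bot_iff _).mp h
    apply false_of_comm h21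
    intro a b
    apply hinj
    rw [map_mul, map_mul, mul_comm]
  · apply hne
    have : t ∈ (MonoidHom.transfer ϕ).ker := by rw [h]; exact mem_top t
    exact MonoidHom.mem_ker.mp this

end Cfsg.Agent.Lib.Helper7.Syl21
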