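import Mathlib
import Cfsg.Agent.Lib.Helper7.Syl21E

set_option autoImplicit false

/-!
# The action of the normalizer of a Sylow 5-subgroup of order 5 on the other 20 Sylow subgroups
-/

namespace Cfsg.Agent.Lib.Helper7.Syl21

open Subgroup MulAction
open Cfsg.Agent.Lib.Helper7.Syl35
open scoped Pointwise

universe u

variable {G : Type u} [Group G] [Finite G]

/-- `P` acts semiregularly on the other Sylow subgroups -/
theorem stab_trivial (h21 : Nat.card (Sylow 5 G) = 21) (P : Sylow 5 G) (hP : Nat.card P = 5)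
    (Q : Sylow 5 G) (hQ : Q ≠ P) (y : G) (hy : y ∈ (P : Subgroup G)) (hyQ : y • Q = Q) : y = 1 := by
  haveI : Fact (Nat.Prime 5) := ⟨prime5⟩
  have h1 : y ∈ normalizer ((Q : Subgroup G) : Set G) := Sylow.smul_eq_iff_mem_normalizer.mp hyQ
  have h2 : y ∈ (P : Subgroup G) ⊓ normalizer ((Q : Subgroup G) : Set G) := ⟨hy, h1⟩
  have h3 : (P : Subgroup G) ⊓ normalizer ((Q : Subgroup G) : Set G) = (P : Subgroup G) ⊓ Q :=
    IsPGroup.inf_normalizer_sylow P.2 Q
  rw [h3] at h2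
  have h4 := card_inf_mul_5 h21 P Q (Ne.symm hQ)
  rw [hP] at h4
  have h5 : Nat.card ((P : Subgroup G) ⊓ Q : Subgroup G) = 1 := by omega
  rw [card_eq_one] at h5
  rw [h5, mem_bot] at h2
  exact h2

/-- an element commuting with a nontrivial element of `P` centralizes `P` -/
theorem mem_centralizer_of_comm (P : Sylow 5 G) (hP : Nat.card P = 5) (s y : G)
    (hy : y ∈ (P : Subgroup G)) (hy1 : y ≠ 1) (hc : s * y = y * s) :
    s ∈ centralizer ((P : Subgroup G) : Set G) := by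
  haveI : Fact (Nat.Prime 5) := ⟨prime5⟩
  have htop : zpowers (⟨y, hy⟩ : (P : Subgroup G)) = ⊤ :=
    zpowers_eq_top_of_prime_card hP (fun h => hy1 (congrArg Subtype.val h))
  rw [mem_centralizer_iff]
  intro x hx
  have hx' : x ∈ (P : Subgroup G) := hx
  have : (⟨x, hx'⟩ : (P : Subgroup G)) ∈ zpowers (⟨y, hy⟩ : (P : Subgroup G)) := by
    rw [htop]; exact mem_top _
  obtain ⟨k, hk⟩ := mem_zpowers_iff.mp this
  have hk' : y ^ k = x := by
    have := congrArg Subtype.val hk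
    simpa using this
  rw [← hk']
  exact ((Commute.zpow_right (show Commute s y from hc) k).eq).symm

/-- two fixed points of a non-centralizing element of `N(P)` lie in different `P`-orbits -/
theorem eq_one_of_fixed (h21 : Nat.card (Sylow 5 G) = 21) (P : Sylow 5 G) (hP : Nat.card P = 5)
    (s : G) (hsN : s ∈ normalizer ((P : Subgroup G) : Set G))
    (hsC : s ∉ centralizer ((P : Subgroup G) : Set G))
    (Q : Sylow 5 G) (hQ : Q ≠ P) (hsQ : s • Q = Q) (y : G) (hy : y ∈ (P : Subgroup G))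
    (hsyQ : s • (y • Q) = y • Q) : y = 1 := by
  by_contra hy1
  have hw : y⁻¹ * (s * y * s⁻¹) ∈ (P : Subgroup G) :=
    (P : Subgroup G).mul_mem ((P : Subgroup G).inv_mem hy) ((mem_normalizer_iff.mp hsN y).mp hy)
  have hwQ : (y⁻¹ * (s * y * s⁻¹)) • Q = Q := by
    have h1 : s⁻¹ • Q = Q := by rw [inv_smul_eq_iff, hsQ]
    calc (y⁻¹ * (s * y * s⁻¹)) • Q = y⁻¹ • (s • (y • (s⁻¹ • Q))) := by
          simp only [← mul_smul]; congr 1; group
      _ = y⁻¹ • (s • (y • Q)) := by rw [h1]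
      _ = y⁻¹ • (y • Q) := by rw [hsyQ]
      _ = Q := inv_smul_smul y Q
  have h1 := stab_trivial h21 P hP Q hQ _ hw hwQ
  have hc : s * y = y * s := by
    calc s * y = y * (y⁻¹ * (s * y * s⁻¹)) * s := by group
      _ = y * s := by rw [h1, mul_one]
  exact hsC (mem_centralizer_of_comm P hP s y hy hy1 hc)

/-- the fixed points other than `P` -/
def fixOther (P : Sylow 5 G) (s : G) : Set (Sylow 5 G) := {Q | s • Q = Q} \ {P}

theorem card_fixOther (P : Sylow 5 G) (s : G)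
    (hsN : s ∈ normalizer ((P : Subgroup G) : Set G)) :
    Nat.card (fixOther P s) + 1 = fx s := by
  haveI : Fact (Nat.Prime 5) := ⟨prime5⟩
  have hP : P ∈ {Q : Sylow 5 G | s • Q = Q} := Sylow.smul_eq_iff_mem_normalizer.mpr hsN
  unfold fixOther fx
  rw [Nat.card_coe_set_eq, Nat.card_coe_set_eq,
    Set.ncard_diff_singleton_of_mem hP]
  have : 0 < ({Q : Sylow 5 G | s • Q = Q}).ncard :=
    (Set.ncard_pos (Set.toFinite _)).mpr ⟨P, hP⟩
  omega

/-- the map `(Q, y) ↦ y • Q` from pairs of a fixed point and an element of `P` -/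
def spread (P : Sylow 5 G) (s : G) :
    fixOther P s × (P : Subgroup G) → {Q : Sylow 5 G // Q ≠ P} :=
  fun a => ⟨(a.2 : G) • (a.1 : Sylow 5 G), by
    intro h
    have h1 : (a.1 : Sylow 5 G) = (a.2 : G)⁻¹ • P := by
      rw [eq_inv_smul_iff]; exact h
    have h2 : (a.2 : G)⁻¹ • P = P := sylow_smul_self P ((P : Subgroup G).inv_mem a.2.2)
    exact a.1.2.2 (h1.trans h2)⟩

theorem spread_injective (h21 : Nat.card (Sylow 5 G) = 21) (P : Sylow 5 G) (hP : Nat.card P = 5)
    (s : G) (hsN : s ∈ normalizer ((P : Subgroup G) : Set G))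
    (hsC : s ∉ centralizer ((P : Subgroup G) : Set G)) :
    Function.Injective (spread P s) := by
  rintro ⟨⟨Q, hQ⟩, ⟨y, hy⟩⟩ ⟨⟨Q', hQ'⟩, ⟨y', hy'⟩⟩ h
  have h1 : y • Q = y' • Q' := congrArg Subtype.val h
  have hQP : Q ≠ P := hQ.2
  have hsQ : s • Q = Q := hQ.1
  have hsQ' : s • Q' = Q' := hQ'.1
  have h2 : Q' = (y'⁻¹ * y) • Q := by
    rw [mul_smul, h1, inv_smul_smul]
  have h3 : s • ((y'⁻¹ * y) • Q) = (y'⁻¹ * y) • Q := by rw [← h2]; exact hsQ'
  have h4 := eq_one_of_fixed h21 P hP s hsN hsC Q hQP hsQ (y'⁻¹ * y)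
    ((P : Subgroup G).mul_mem ((P : Subgroup G).inv_mem hy') hy) h3
  have h5 : y = y' := by
    calc y = y' * (y'⁻¹ * y) := by group
      _ = y' := by rw [h4, mul_one]
  have h6 : Q' = Q := by rw [h2, h4, one_smul]
  subst h5
  subst h6
  rfl

theorem card_ne (h21 : Nat.card (Sylow 5 G) = 21) (P : Sylow 5 G) :
    Nat.card {Q : Sylow 5 G // Q ≠ P} = 20 := by
  have h1 : Nat.card {Q : Sylow 5 G // Q ≠ P} = ({P}ᶜ : Set (Sylow 5 G)).ncard := by
    rw [← Nat.card_coe_set_eq]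
    rfl
  rw [h1, Set.ncard_compl, Set.ncard_singleton, h21]

/-- a non-centralizing element of `N(P)` normalizes at most 5 Sylow subgroups -/
theorem fx_le_five (h21 : Nat.card (Sylow 5 G) = 21) (P : Sylow 5 G) (hP : Nat.card P = 5)
    (s : G) (hsN : s ∈ normalizer ((P : Subgroup G) : Set G))
    (hsC : s ∉ centralizer ((P : Subgroup G) : Set G)) : fx s ≤ 5 := by
  have h1 := Nat.card_le_card_of_injective _ (spread_injective h21 P hP s hsN hsC)
  rw [Nat.card_prod, hP, card_ne h21 P] at h1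
  have h2 := card_fixOther P s hsN
  omega

/-- a non-centralizing element of `N(P)` normalizing 5 Sylow subgroups fixes every `P`-orbit -/
theorem exists_smul_eq_of_fx (h21 : Nat.card (Sylow 5 G) = 21) (P : Sylow 5 G)
    (hP : Nat.card P = 5) (t : G) (htN : t ∈ normalizer ((P : Subgroup G) : Set G))
    (htC : t ∉ centralizer ((P : Subgroup G) : Set G)) (h5 : fx t = 5)
    (Q : Sylow 5 G) (hQ : Q ≠ P) : ∃ y ∈ (P : Subgroup G), t • Q = y • Q := by
  have hinj := spread_injective h21 P hP t htN htC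
  have hbij : Function.Bijective (spread P t) := by
    apply Function.Injective.bijective_of_nat_card_le hinj
    rw [Nat.card_prod, hP, card_ne h21 P]
    have h2 := card_fixOther P t htN
    omega
  obtain ⟨⟨⟨Q₀, hQ₀⟩, ⟨y₀, hy₀⟩⟩, h⟩ := hbij.2 ⟨Q, hQ⟩
  have h1 : y₀ • Q₀ = Q := congrArg Subtype.val h
  have htQ₀ : t • Q₀ = Q₀ := hQ₀.1
  refine ⟨t * y₀ * t⁻¹ * y₀⁻¹, ?_, ?_⟩
  · exact (P : Subgroup G).mul_mem ((mem_normalizer_iff.mp htN y₀).mp hy₀)
      ((P : Subgroup G).inv_mem hy₀)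
  · rw [← h1]
    have h2 : t⁻¹ • Q₀ = Q₀ := by rw [inv_smul_eq_iff, htQ₀]
    calc t • (y₀ • Q₀) = (t * y₀ * t⁻¹) • (t • Q₀) := by
          simp only [← mul_smul]; congr 1; group
      _ = (t * y₀ * t⁻¹) • Q₀ := by rw [htQ₀]
      _ = (t * y₀ * t⁻¹ * y₀⁻¹) • (y₀ • Q₀) := by
          simp only [← mul_smul]; congr 1; group

end Cfsg.Agent.Lib.Helper7.Syl21
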