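import Mathlib
import Cfsg.Agent.Lib.Helper7.Syl21F

set_option autoImplicit false

/-!
# Uniqueness of the involution with five fixed points
-/

namespace Cfsg.Agent.Lib.Helper7.Syl21

open Subgroup MulAction
open Cfsg.Agent.Lib.Helper7.Syl35
open scoped Pointwise

universe u

/-- a free action of a finite group on a finite set: the order divides the size of the set -/
theorem card_dvd_of_free {H X : Type*} [Group H] [MulAction H X] [Finite H] [Finite X]
    (hfree : ∀ (h : H) (x : X), h • x = x → h = 1) : Nat.card H ∣ Nat.card X := by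
  have hstab : ∀ b : X, MulAction.stabilizer H b = ⊥ := by
    intro b
    rw [eq_bot_iff]
    intro h hh
    rw [mem_bot]
    exact hfree h b (mem_stabilizer_iff.mp hh)
  have e := MulAction.selfEquivOrbitsQuotientProd hstab
  rw [Nat.card_congr e, Nat.card_prod]
  exact dvd_mul_left _ _

/-- a cyclic group has at most one involution -/
theorem eq_of_sq_eq_one {C : Type*} [Group C] [Finite C] [IsCyclic C] (a b : C)
    (ha : a ^ 2 = 1) (hb : b ^ 2 = 1) (ha1 : a ≠ 1) (hb1 : b ≠ 1) : a = b := by
  classical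
  haveI : Fintype C := Fintype.ofFinite C
  by_contra hab
  have h1 := IsCyclic.card_pow_eq_one_le (α := C) (n := 2) (by norm_num)
  have h2 : ({1, a, b} : Finset C) ⊆ Finset.univ.filter (fun x : C => x ^ 2 = 1) := by
    intro x hx
    rw [Finset.mem_insert, Finset.mem_insert, Finset.mem_singleton] at hx
    rw [Finset.mem_filter]
    refine ⟨Finset.mem_univ _, ?_⟩
    rcases hx with rfl | rfl | rfl
    · exact one_pow 2
    · exact ha
    · exact hb
  have h3 := Finset.card_le_card h2
  have h4 : ({1, a, b} : Finset C).card = 3 := by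
    rw [Finset.card_insert_of_notMem, Finset.card_pair hab]
    rw [Finset.mem_insert, Finset.mem_singleton]
    push Not
    exact ⟨Ne.symm ha1, Ne.symm hb1⟩
  omega

variable {G : Type u} [Group G] [Finite G]

/-- the product of two non-centralizing involutions of `N(P)` centralizes `P` -/
theorem mul_mem_centralizer (P : Sylow 5 G) (hP : Nat.card P = 5) (t t' : G)
    (htN : t ∈ normalizer ((P : Subgroup G) : Set G))
    (htN' : t' ∈ normalizer ((P : Subgroup G) : Set G))
    (htC : t ∉ centralizer ((P : Subgroup G) : Set G))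
    (htC' : t' ∉ centralizer ((P : Subgroup G) : Set G))
    (ht2 : t ^ 2 = 1) (ht2' : t' ^ 2 = 1) :
    t * t' ∈ centralizer ((P : Subgroup G) : Set G) := by
  haveI : Fact (Nat.Prime 5) := ⟨prime5⟩
  haveI : IsCyclic (P : Subgroup G) := isCyclic_of_prime_card hP
  haveI : Fact (Nat.card (P : Subgroup G)).Prime := ⟨by rw [hP]; exact prime5⟩
  haveI : IsCyclic (MulAut (P : Subgroup G)) :=
    isCyclic_of_injective (IsCyclic.mulAutMulEquiv (P : Subgroup G)).toMonoidHom
      (MulEquiv.injective _)
  let ψ := (P : Subgroup G).normalizerMonoidHom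
  have hker : ∀ s (hs : s ∈ normalizer ((P : Subgroup G) : Set G)),
      ψ ⟨s, hs⟩ = 1 ↔ s ∈ centralizer ((P : Subgroup G) : Set G) := by
    intro s hs
    rw [← MonoidHom.mem_ker, normalizerMonoidHom_ker, mem_subgroupOf]
  have ha : ψ ⟨t, htN⟩ ^ 2 = 1 := by
    rw [← map_pow]
    have : (⟨t, htN⟩ : normalizer ((P : Subgroup G) : Set G)) ^ 2 = 1 := Subtype.ext ht2
    rw [this, map_one]
  have hb : ψ ⟨t', htN'⟩ ^ 2 = 1 := by
    rw [← map_pow]
    have : (⟨t', htN'⟩ : normalizer ((P : Subgroup G) : Set G)) ^ 2 = 1 := Subtype.ext ht2'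
    rw [this, map_one]
  have ha1 : ψ ⟨t, htN⟩ ≠ 1 := fun h => htC ((hker t htN).mp h)
  have hb1 : ψ ⟨t', htN'⟩ ≠ 1 := fun h => htC' ((hker t' htN').mp h)
  have hab := eq_of_sq_eq_one _ _ ha hb ha1 hb1
  have hmul : ψ ⟨t * t', (normalizer ((P : Subgroup G) : Set G)).mul_mem htN htN'⟩ = 1 := by
    have : (⟨t * t', (normalizer ((P : Subgroup G) : Set G)).mul_mem htN htN'⟩ :
        normalizer ((P : Subgroup G) : Set G)) = ⟨t, htN⟩ * ⟨t', htN'⟩ := rfl
    rw [this, map_mul, ← hab, ← sq, ha]
  exact (hker _ _).mp hmul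

/-- two involutions of `N(P)` with five fixed points whose product is a 2-element coincide -/
theorem eq_of_fx_five (hsimp : ∀ M : Subgroup G, M.Normal → M = ⊥ ∨ M = ⊤)
    (h21 : Nat.card (Sylow 5 G) = 21) (P : Sylow 5 G) (hP : Nat.card P = 5) (t t' : G)
    (htN : t ∈ normalizer ((P : Subgroup G) : Set G))
    (htN' : t' ∈ normalizer ((P : Subgroup G) : Set G))
    (htC : t ∉ centralizer ((P : Subgroup G) : Set G))
    (htC' : t' ∉ centralizer ((P : Subgroup G) : Set G))
    (ht2 : t ^ 2 = 1) (ht2' : t' ^ 2 = 1) (h5 : fx t = 5) (h5' : fx t' = 5)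
    (j : ℕ) (hj : (t * t') ^ 2 ^ j = 1) : t = t' := by
  haveI : Fact (Nat.Prime 5) := ⟨prime5⟩
  have hn1 : Nat.card (Sylow 5 G) ≠ 1 := by rw [h21]; norm_num
  set g := t * t' with hg
  have hgC := mul_mem_centralizer P hP t t' htN htN' htC htC' ht2 ht2'
  have hgN : g ∈ normalizer ((P : Subgroup G) : Set G) :=
    (normalizer ((P : Subgroup G) : Set G)).mul_mem htN htN'
  have hg1 : g = 1 := by
    apply eq_one_of_fixes_all hsimp hn1
    intro Q
    by_cases hQ : Q = P
    · rw [hQ]; exact Sylow.smul_eq_iff_mem_normalizer.mpr hgN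
    · -- g maps Q into its P-orbit
      obtain ⟨y', hy', hty'⟩ := exists_smul_eq_of_fx h21 P hP t' htN' htC' h5' Q hQ
      have hQ' : y' • Q ≠ P := by
        intro h
        have h1 : Q = y'⁻¹ • P := by rw [eq_inv_smul_iff]; exact h
        have h2 : y'⁻¹ • P = P := sylow_smul_self P ((P : Subgroup G).inv_mem hy')
        exact hQ (h1.trans h2)
      obtain ⟨y'', hy'', hty''⟩ := exists_smul_eq_of_fx h21 P hP t htN htC h5 (y' • Q) hQ'
      set y := y'' * y' with hy
      have hyP : y ∈ (P : Subgroup G) := (P : Subgroup G).mul_mem hy'' hy'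
      have hgQ : g • Q = y • Q := by
        rw [hg, mul_smul, hty', hty'', hy, mul_smul]
      have hcomm : ∀ n : ℕ, g ^ n * y = y * g ^ n := by
        intro n
        have : Commute g y := (mem_centralizer_iff.mp hgC y hyP).symm
        exact (this.pow_left n).eq
      have hpow : ∀ n : ℕ, g ^ n • Q = y ^ n • Q := by
        intro n
        induction n with
        | zero => rw [pow_zero, pow_zero]
        | succ n ih =>
          calc g ^ (n + 1) • Q = g ^ n • (g • Q) := by rw [pow_succ, mul_smul]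
            _ = g ^ n • (y • Q) := by rw [hgQ]
            _ = y • (g ^ n • Q) := by rw [← mul_smul, hcomm n, mul_smul]
            _ = y • (y ^ n • Q) := by rw [ih]
            _ = y ^ (n + 1) • Q := by rw [← mul_smul, ← pow_succ']
      have h1 := hpow (2 ^ j)
      rw [hj, one_smul] at h1
      have h2 : y ^ 2 ^ j = 1 :=
        stab_trivial h21 P hP Q hQ _ ((P : Subgroup G).pow_mem hyP _) h1.symm
      have h3 : y ^ 5 = 1 := by
        have : (⟨y, hyP⟩ : (P : Subgroup G)) ^ Nat.card (P : Subgroup G) = 1 := pow_card_eq_one'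
        rw [hP] at this
        exact congrArg Subtype.val this
      have h4 : orderOf y ∣ Nat.gcd (2 ^ j) 5 :=
        Nat.dvd_gcd (orderOf_dvd_of_pow_eq_one h2) (orderOf_dvd_of_pow_eq_one h3)
      have h5c : Nat.gcd (2 ^ j) 5 = 1 := by
        have : Nat.Coprime (2 ^ j) 5 := Nat.Coprime.pow_left j (by norm_num)
        exact this
      rw [h5c, Nat.dvd_one, orderOf_eq_one_iff] at h4
      rw [hgQ, h4, one_smul]
  -- t * t' = 1
  have h1 : t * t' = 1 := hg1
  have h2 : t' = t⁻¹ := eq_inv_of_mul_eq_one_right h1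
  have h3 : t⁻¹ = t := by
    rw [inv_eq_iff_mul_eq_one, ← sq, ht2]
  rw [h2, h3]

end Cfsg.Agent.Lib.Helper7.Syl21
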