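import Mathlib
import Cfsg.Agent.Lib.Helper7.Syl21G

set_option autoImplicit false

/-!
# The case of Sylow 5-subgroups of order 5
-/

namespace Cfsg.Agent.Lib.Helper7.Syl21

open Subgroup MulAction
open Cfsg.Agent.Lib.Helper7.Syl35
open scoped Pointwise

universe u

variable {G : Type u} [Group G] [Finite G]

theorem pow_smul_eq_self {α : Type*} [MulAction G α] (s : G) (a : α) (h : s • a = a) (n : ℕ) :
    s ^ n • a = a := by
  induction n with
  | zero => rw [pow_zero, one_smul]
  | succ n ih => rw [pow_succ, mul_smul, h, ih]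

/-- conjugates of an involution are involutions -/
theorem orderOf_conj_two (t g : G) (ht : orderOf t = 2) : orderOf (g⁻¹ * t * g) = 2 := by
  have ht2 : t ^ 2 = 1 := by rw [← ht]; exact pow_orderOf_eq_one t
  have h1 : (g⁻¹ * t * g) ^ 2 = 1 := by
    have : (g⁻¹ * t * g) ^ 2 = g⁻¹ * t ^ 2 * g := by rw [sq, sq]; group
    rw [this, ht2]; group
  have h2 : g⁻¹ * t * g ≠ 1 := by
    intro h
    have : t = 1 := by
      calc t = g * (g⁻¹ * t * g) * g⁻¹ := by group
        _ = 1 := by rw [h]; group
    rw [this, orderOf_one] at ht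
    norm_num at ht
  exact orderOf_eq_prime h1 h2

/-- involutions of `N(P)` have one or five fixed points -/
theorem fx_involution (hsimp : ∀ M : Subgroup G, M.Normal → M = ⊥ ∨ M = ⊤)
    (h21 : Nat.card (Sylow 5 G) = 21) (P : Sylow 5 G) (hP : Nat.card P = 5) (t : G)
    (htN : t ∈ normalizer ((P : Subgroup G) : Set G)) (ht2 : orderOf t = 2) :
    fx t = 1 ∨ (fx t = 5 ∧ t ∉ centralizer ((P : Subgroup G) : Set G)) := by
  by_cases htC : t ∈ centralizer ((P : Subgroup G) : Set G)
  · left; exact fx_of_centralizing hsimp h21 P t htC ht2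
  · have h1 := fx_le_five h21 P hP t htN htC
    have h2 := fx_mod_four hsimp h21 t ht2
    have h3 : fx t = 1 ∨ fx t = 5 := by omega
    rcases h3 with h | h
    · left; exact h
    · right; exact ⟨h, htC⟩

/-- elements of a Sylow 2-subgroup have 2-power order -/
theorem exists_pow_eq_one (S : Sylow 2 G) (g : G) (hg : g ∈ (S : Subgroup G)) :
    ∃ j : ℕ, g ^ 2 ^ j = 1 := by
  obtain ⟨k, hk⟩ := S.2 ⟨g, hg⟩
  exact ⟨k, congrArg Subtype.val hk⟩

/-- the case where some involution of `S` has five fixed points -/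
theorem false_of_five (hsimp : ∀ M : Subgroup G, M.Normal → M = ⊥ ∨ M = ⊤)
    (h21 : Nat.card (Sylow 5 G) = 21) (P : Sylow 5 G) (hP : Nat.card P = 5) (S : Sylow 2 G)
    (hSN : (S : Subgroup G) ≤ normalizer ((P : Subgroup G) : Set G))
    (t : G) (htS : t ∈ (S : Subgroup G)) (ht2 : orderOf t = 2) (ht5 : fx t = 5) : False := by
  haveI : Fact (Nat.Prime 5) := ⟨prime5⟩
  have htN : t ∈ normalizer ((P : Subgroup G) : Set G) := hSN htS
  have htC : t ∉ centralizer ((P : Subgroup G) : Set G) := by
    intro h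
    have := fx_of_centralizing hsimp h21 P t h ht2
    omega
  have ht2' : t ^ 2 = 1 := by rw [← ht2]; exact pow_orderOf_eq_one t
  apply false_of_isolated hsimp h21 S t htS ht2
  · intro g hg
    have ho := orderOf_conj_two t g ht2
    have h5 : fx (g⁻¹ * t * g) = 5 := by rw [fx_conj]; exact ht5
    have hN' : g⁻¹ * t * g ∈ normalizer ((P : Subgroup G) : Set G) := hSN hg
    have hC' : g⁻¹ * t * g ∉ centralizer ((P : Subgroup G) : Set G) := by
      intro h
      have := fx_of_centralizing hsimp h21 P _ h ho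
      omega
    have hsq : (g⁻¹ * t * g) ^ 2 = 1 := by rw [← ho]; exact pow_orderOf_eq_one _
    obtain ⟨j, hj⟩ := exists_pow_eq_one S (t * (g⁻¹ * t * g)) ((S : Subgroup G).mul_mem htS hg)
    exact (eq_of_fx_five hsimp h21 P hP t (g⁻¹ * t * g) htN hN' htC hC' ht2' hsq ht5 h5 j hj).symm
  · intro hmem
    haveI : IsCyclic (P : Subgroup G) := isCyclic_of_prime_card hP
    let ϕ : (S : Subgroup G) →* (ZMod (Nat.card (P : Subgroup G)))ˣ :=
      (IsCyclic.mulAutMulEquiv (P : Subgroup G)).toMonoidHom.comp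
        ((P : Subgroup G).normalizerMonoidHom.comp (Subgroup.inclusion hSN))
    have h1 := Abelianization.commutator_subset_ker ϕ hmem
    rw [MonoidHom.mem_ker] at h1
    have h2 : (P : Subgroup G).normalizerMonoidHom (Subgroup.inclusion hSN ⟨t, htS⟩) = 1 := by
      apply (IsCyclic.mulAutMulEquiv (P : Subgroup G)).injective
      rw [map_one]
      exact h1
    have h3 : Subgroup.inclusion hSN ⟨t, htS⟩ ∈ (P : Subgroup G).normalizerMonoidHom.ker :=
      MonoidHom.mem_ker.mpr h2
    rw [normalizerMonoidHom_ker, mem_subgroupOf] at h3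
    exact htC h3

end Cfsg.Agent.Lib.Helper7.Syl21
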