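import Mathlib
import Cfsg.Agent.Lib.Helper7.Syl21H

set_option autoImplicit false

/-!
# The case of Sylow 5-subgroups of order 5: all involutions of `S` have a single fixed point
-/

namespace Cfsg.Agent.Lib.Helper7.Syl21

open Subgroup MulAction
open Cfsg.Agent.Lib.Helper7.Syl35
open scoped Pointwise

universe u

variable {G : Type u} [Group G] [Finite G]

/-- if all involutions of `S` have a single fixed point then `S` acts freely on the Sylow
subgroups other than `P` -/
theorem eq_of_smul_eq (P : Sylow 5 G) (S : Sylow 2 G)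
    (hSN : (S : Subgroup G) ≤ normalizer ((P : Subgroup G) : Set G))
    (hinv : ∀ t ∈ (S : Subgroup G), orderOf t = 2 → fx t = 1)
    (s : G) (hs : s ∈ (S : Subgroup G)) (hs1 : s ≠ 1) (Q : Sylow 5 G) (hQ : s • Q = Q) : Q = P := by
  obtain ⟨k, hk⟩ := exists_pow_eq_one S s hs
  have h1 : orderOf s ∣ 2 ^ k := orderOf_dvd_of_pow_eq_one hk
  obtain ⟨m, _, hm⟩ := (Nat.dvd_prime_pow Nat.prime_two).mp h1
  have hm0 : m ≠ 0 := by
    intro h0
    rw [h0, pow_zero, orderOf_eq_one_iff] at hm
    exact hs1 hm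
  have h2 : 2 ∣ orderOf s := by rw [hm]; exact dvd_pow_self 2 hm0
  have h3 : orderOf (s ^ (orderOf s / 2)) = 2 :=
    orderOf_pow_orderOf_div (orderOf_pos s).ne' h2
  have h4 : s ^ (orderOf s / 2) ∈ (S : Subgroup G) := (S : Subgroup G).pow_mem hs _
  have h5 := hinv _ h4 h3
  exact eq_of_fx_eq_one P _ (hSN h4) h5 Q (pow_smul_eq_self s Q hQ _)

/-- in that case the order of `S` divides 20 -/
theorem card_dvd_twenty (h21 : Nat.card (Sylow 5 G) = 21) (P : Sylow 5 G) (S : Sylow 2 G)
    (hSN : (S : Subgroup G) ≤ normalizer ((P : Subgroup G) : Set G))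
    (hinv : ∀ t ∈ (S : Subgroup G), orderOf t = 2 → fx t = 1) :
    Nat.card (S : Subgroup G) ∣ 20 := by
  let A : SubMulAction (S : Subgroup G) (Sylow 5 G) :=
    { carrier := {Q | Q ≠ P}
      smul_mem' := by
        intro s Q hQ h
        apply hQ
        have h1 : (s : G) • Q = P := h
        have h2 : Q = (s : G)⁻¹ • P := by rw [eq_inv_smul_iff]; exact h1
        have h3 : (s : G)⁻¹ • P = P :=
          Sylow.smul_eq_iff_mem_normalizer.mpr
            ((normalizer ((P : Subgroup G) : Set G)).inv_mem (hSN s.2))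
        exact h2.trans h3 }
  have hfree : ∀ (s : (S : Subgroup G)) (x : A), s • x = x → s = 1 := by
    intro s x hx
    by_contra hs1
    have h1 : (s : G) • (x : Sylow 5 G) = x := congrArg Subtype.val hx
    have h2 : (s : G) ≠ 1 := fun h => hs1 (Subtype.ext h)
    exact x.2 (eq_of_smul_eq P S hSN hinv s s.2 h2 x h1)
  have h := card_dvd_of_free hfree
  have hA : Nat.card A = 20 := card_ne h21 P
  rw [hA] at h
  exact h

/-- conjugating a centralizing involution with a single fixed point back into `N(P)` -/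
theorem conj_mem_centralizer (P : Sylow 5 G) (z g : G)
    (hz : z ∈ centralizer ((P : Subgroup G) : Set G))
    (hN : g⁻¹ * z * g ∈ normalizer ((P : Subgroup G) : Set G))
    (h1 : fx (g⁻¹ * z * g) = 1) : g⁻¹ * z * g ∈ centralizer ((P : Subgroup G) : Set G) := by
  have hzN : z ∈ normalizer ((P : Subgroup G) : Set G) :=
    centralizer_le_normalizer ((P : Subgroup G) : Set G) hz
  have hzP : z • P = P := Sylow.smul_eq_iff_mem_normalizer.mpr hzN
  have h2 : (g⁻¹ * z * g) • (g⁻¹ • P) = g⁻¹ • P := by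
    calc (g⁻¹ * z * g) • (g⁻¹ • P) = g⁻¹ • (z • P) := by
          simp only [← mul_smul]; congr 1; group
      _ = g⁻¹ • P := by rw [hzP]
  have h3 : g⁻¹ • P = P := eq_of_fx_eq_one P _ hN h1 _ h2
  have hgN : g⁻¹ ∈ normalizer ((P : Subgroup G) : Set G) :=
    Sylow.smul_eq_iff_mem_normalizer.mp h3
  have hgN' : g ∈ normalizer ((P : Subgroup G) : Set G) := by
    have := (normalizer ((P : Subgroup G) : Set G)).inv_mem hgN
    rwa [inv_inv] at this
  rw [mem_centralizer_iff]
  intro x hx
  have hx' : x ∈ (P : Subgroup G) := hx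
  have h4 : g * x * g⁻¹ ∈ (P : Subgroup G) := (mem_normalizer_iff.mp hgN' x).mp hx'
  have h5 : (g * x * g⁻¹) * z = z * (g * x * g⁻¹) := mem_centralizer_iff.mp hz _ h4
  calc x * (g⁻¹ * z * g) = g⁻¹ * ((g * x * g⁻¹) * z) * g := by group
    _ = g⁻¹ * (z * (g * x * g⁻¹)) * g := by rw [h5]
    _ = g⁻¹ * z * g * x := by group

/-- the case where all involutions of `S` have a single fixed point -/
theorem false_of_one (hsimp : ∀ M : Subgroup G, M.Normal → M = ⊥ ∨ M = ⊤)
    (h21 : Nat.card (Sylow 5 G) = 21) (P : Sylow 5 G) (hP : Nat.card P = 5) (S : Sylow 2 G)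
    (hSN : (S : Subgroup G) ≤ normalizer ((P : Subgroup G) : Set G))
    (hSC : ¬ (S : Subgroup G) ≤ centralizer ((P : Subgroup G) : Set G))
    (hcyc : ¬ IsCyclic (S : Subgroup G))
    (hinv : ∀ t ∈ (S : Subgroup G), orderOf t = 2 → fx t = 1) : False := by
  haveI : Fact (Nat.Prime 5) := ⟨prime5⟩
  haveI : Fact (Nat.Prime 2) := ⟨Nat.prime_two⟩
  have hdvd := card_dvd_twenty h21 P S hSN hinv
  obtain ⟨m, hm⟩ := S.2.exists_card_eq
  have hm2 : m ≤ 2 := by
    by_contra hgt
    push Not at hgt
    have h1 : 2 ^ 3 ∣ 2 ^ m := pow_dvd_pow 2 hgt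
    rw [← hm] at h1
    have h2 : 2 ^ 3 ∣ 20 := h1.trans hdvd
    norm_num at h2
  have hcard4 : Nat.card (S : Subgroup G) = 2 ^ 2 := by
    interval_cases m
    · exfalso
      apply hSC
      rw [pow_zero, card_eq_one] at hm
      rw [hm]; exact bot_le
    · exfalso
      rw [pow_one] at hm
      exact hcyc (isCyclic_of_prime_card hm)
    · exact hm
  have hcomm : ∀ a b : (S : Subgroup G), a * b = b * a :=
    (IsPGroup.isMulCommutative_of_card_eq_prime_sq hcard4).is_comm.comm
  set C := centralizer ((P : Subgroup G) : Set G) with hC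
  have hSCcard : Nat.card ((S : Subgroup G) ⊓ C : Subgroup G) ∣ 2 ^ 2 := by
    rw [← hcard4]; exact card_dvd_of_le inf_le_left
  obtain ⟨i, hi, hic⟩ := (Nat.dvd_prime_pow Nat.prime_two).mp hSCcard
  haveI : IsCyclic (P : Subgroup G) := isCyclic_of_prime_card hP
  haveI : Fact (Nat.card (P : Subgroup G)).Prime := ⟨by rw [hP]; exact prime5⟩
  haveI : IsCyclic (MulAut (P : Subgroup G)) :=
    isCyclic_of_injective (IsCyclic.mulAutMulEquiv (P : Subgroup G)).toMonoidHom
      (MulEquiv.injective _)
  interval_cases i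
  · -- S ∩ C = 1: S embeds in Aut(P)
    rw [pow_zero, card_eq_one] at hic
    let ψ : (S : Subgroup G) →* MulAut (P : Subgroup G) :=
      (P : Subgroup G).normalizerMonoidHom.comp (Subgroup.inclusion hSN)
    have hψ : Function.Injective ψ := by
      rw [← MonoidHom.ker_eq_bot_iff, eq_bot_iff]
      intro x hx
      rw [MonoidHom.mem_ker] at hx
      have h1 : Subgroup.inclusion hSN x ∈ (P : Subgroup G).normalizerMonoidHom.ker := hx
      rw [normalizerMonoidHom_ker, mem_subgroupOf] at h1
      have h3 : (x : G) ∈ C := h1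
      have h4 : (x : G) ∈ (S : Subgroup G) ⊓ C := ⟨x.2, h3⟩
      rw [hic, mem_bot] at h4
      rw [mem_bot]
      exact Subtype.ext h4
    exact hcyc (isCyclic_of_injective ψ hψ)
  · -- |S ∩ C| = 2
    rw [pow_one] at hic
    have hne : ((S : Subgroup G) ⊓ C : Subgroup G) ≠ ⊥ := by
      intro h
      rw [h, card_bot] at hic
      norm_num at hic
    obtain ⟨z, hz1⟩ := (Subgroup.ne_bot_iff_exists_ne_one).mp hne
    have hzS : (z : G) ∈ (S : Subgroup G) := z.2.1
    have hzC : (z : G) ∈ C := z.2.2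
    have hz1' : (z : G) ≠ 1 := fun h => hz1 (Subtype.ext h)
    have hzo : orderOf (z : G) = 2 := by
      have h1 : orderOf z ∣ 2 := by
        have := orderOf_dvd_natCard z
        rwa [hic] at this
      rw [Subgroup.orderOf_coe]
      rcases (Nat.dvd_prime Nat.prime_two).mp h1 with h | h
      · exact absurd (orderOf_eq_one_iff.mp h) hz1
      · exact h
    have huniq : ∀ w : G, w ∈ (S : Subgroup G) ⊓ C → w ≠ 1 → w = z := by
      intro w hw hw1
      obtain ⟨y, _, hy⟩ := (Nat.card_eq_two_iff' (1 : ((S : Subgroup G) ⊓ C : Subgroup G))).mp hic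
      have e1 : (⟨w, hw⟩ : ((S : Subgroup G) ⊓ C : Subgroup G)) = y :=
        hy _ (fun h => hw1 (congrArg Subtype.val h))
      have e2 : z = y := hy _ hz1
      rw [e2, ← e1]
    apply false_of_isolated hsimp h21 S (z : G) hzS hzo
    · intro g hg
      have ho := orderOf_conj_two (z : G) g hzo
      have h1 := hinv _ hg ho
      have h2 := conj_mem_centralizer P (z : G) g hzC (hSN hg) h1
      apply huniq _ ⟨hg, h2⟩
      intro h
      rw [h, orderOf_one] at ho
      norm_num at ho
    · intro hmem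
      have hbot : commutator (S : Subgroup G) = ⊥ := by
        rw [commutator_eq_bot_iff_center_eq_top, eq_top_iff]
        intro a _
        rw [mem_center_iff]
        intro b
        exact hcomm b a
      rw [hbot, mem_bot] at hmem
      exact hz1' (congrArg Subtype.val hmem)
  · -- S ≤ C
    apply hSC
    have : (S : Subgroup G) ⊓ C = (S : Subgroup G) := by
      apply eq_of_le_of_card_ge inf_le_left
      rw [hic, hcard4]
    rw [← this]
    exact inf_le_right

end Cfsg.Agent.Lib.Helper7.Syl21
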