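import Mathlib
import Cfsg.Agent.Lib.Helper7.Syl21I

set_option autoImplicit false

/-!
# No finite group has exactly 21 Sylow 5-subgroups
-/

namespace Cfsg.Agent.Lib.Helper7.Syl21

open Subgroup MulAction
open Cfsg.Agent.Lib.Helper7.Syl35
open scoped Pointwise

universe u

variable {G : Type u} [Group G] [Finite G]

/-- the conclusion in the case `|P| = 5` -/
theorem false_of_small (hsimp : ∀ M : Subgroup G, M.Normal → M = ⊥ ∨ M = ⊤)
    (h21 : Nat.card (Sylow 5 G) = 21) (P0 : Sylow 5 G) (hP0 : Nat.card P0 = 5) : False := by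
  haveI : Fact (Nat.Prime 5) := ⟨prime5⟩
  haveI : Fact (Nat.Prime 2) := ⟨Nat.prime_two⟩
  obtain ⟨S⟩ : Nonempty (Sylow 2 G) := inferInstance
  have hodd : ¬ 2 ∣ Nat.card (Sylow 5 G) := by rw [h21]; norm_num
  obtain ⟨P, hPfix⟩ := S.2.nonempty_fixed_point_of_prime_not_dvd_card (Sylow 5 G) hodd
  have hSN : (S : Subgroup G) ≤ normalizer ((P : Subgroup G) : Set G) :=
    (Subgroup.sylow_mem_fixedPoints_iff (S : Subgroup G)).mp hPfix
  have hP : Nat.card P = 5 := by rw [sylow_card_eq P P0]; exact hP0
  by_cases hSC : (S : Subgroup G) ≤ centralizer ((P : Subgroup G) : Set G)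
  · -- then N(P) = C(P)
    apply false_of_normalizer_le hsimp h21 P hP
    haveI : IsCyclic (P : Subgroup G) := isCyclic_of_prime_card hP
    have key := card_dvd_of_injective _
      (QuotientGroup.kerLift_injective (P : Subgroup G).normalizerMonoidHom)
    rw [normalizerMonoidHom_ker, ← index, ← relIndex] at key
    rw [IsCyclic.card_mulAut, hP, Nat.totient_prime prime5] at key
    have h3 : (centralizer ((P : Subgroup G) : Set G)).relIndex
        (normalizer ((P : Subgroup G) : Set G)) ∣
        (S : Subgroup G).relIndex (normalizer ((P : Subgroup G) : Set G)) :=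
      relIndex_dvd_of_le_left _ hSC
    have h4 : (S : Subgroup G).relIndex (normalizer ((P : Subgroup G) : Set G)) ∣
        (S : Subgroup G).index := relIndex_dvd_index_of_le hSN
    have h5 : ¬ 2 ∣ (S : Subgroup G).index := S.not_dvd_index
    have h6 : ¬ 2 ∣ (centralizer ((P : Subgroup G) : Set G)).relIndex
        (normalizer ((P : Subgroup G) : Set G)) := fun h => h5 (h.trans (h3.trans h4))
    have h7 : (centralizer ((P : Subgroup G) : Set G)).relIndex
        (normalizer ((P : Subgroup G) : Set G)) = 1 := by
      have h8 : (centralizer ((P : Subgroup G) : Set G)).relIndex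
          (normalizer ((P : Subgroup G) : Set G)) ∣ 2 ^ 2 := by
        have : (5 - 1 : ℕ) = 2 ^ 2 := by norm_num
        rw [← this]; exact key
      obtain ⟨i, _, hi⟩ := (Nat.dvd_prime_pow Nat.prime_two).mp h8
      rcases Nat.eq_zero_or_pos i with h0 | h0
      · rw [hi, h0, pow_zero]
      · exfalso
        apply h6
        rw [hi]
        exact dvd_pow_self 2 h0.ne'
    exact relIndex_eq_one.mp h7
  · have h2G : 2 ∣ Nat.card G := by
      by_contra h2
      apply hSC
      have : (S : Subgroup G) = ⊥ := by
        obtain ⟨m, hm⟩ := S.2.exists_card_eq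
        rcases Nat.eq_zero_or_pos m with h0 | h0
        · rw [h0, pow_zero, card_eq_one] at hm
          exact hm
        · exfalso
          apply h2
          have h1 : 2 ∣ Nat.card (S : Subgroup G) := by rw [hm]; exact dvd_pow_self 2 h0.ne'
          exact h1.trans (card_subgroup_dvd_card _)
      rw [this]
      exact bot_le
    by_cases hcyc : IsCyclic (S : Subgroup G)
    · exact false_of_cyclic hsimp h21 S h2G hcyc
    · by_cases hU : ∃ t ∈ (S : Subgroup G), orderOf t = 2 ∧ fx t = 5
      · obtain ⟨t, htS, ht2, ht5⟩ := hU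
        exact false_of_five hsimp h21 P hP S hSN t htS ht2 ht5
      · push Not at hU
        apply false_of_one hsimp h21 P hP S hSN hSC hcyc
        intro t htS ht2
        rcases fx_involution hsimp h21 P hP t (hSN htS) ht2 with h | ⟨h, _⟩
        · exact h
        · exact absurd h (hU t htS ht2)

theorem no_21_aux : ∀ n : ℕ, ∀ (G : Type u) [Group G] [Finite G], Nat.card G = n →
    Nat.card (Sylow 5 G) ≠ 21 := by
  intro n
  induction n using Nat.strong_induction_on with
  | _ n IH =>
    intro G _ _ hcard h21
    haveI : Fact (Nat.Prime 5) := ⟨prime5⟩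
    have IH' : ∀ (H : Type u) [Group H] [Finite H], Nat.card H < Nat.card G →
        Nat.card (Sylow 5 H) ≠ 21 := by
      intro H _ _ hlt
      exact IH (Nat.card H) (hcard ▸ hlt) H rfl
    by_cases hs : ∃ M : Subgroup G, M.Normal ∧ M ≠ ⊥ ∧ M ≠ ⊤
    · obtain ⟨M, hMn, hM1, hM2⟩ := hs
      haveI := hMn
      exact false_of_normal IH' h21 M hM1 hM2
    · have hsimp : ∀ M : Subgroup G, M.Normal → M = ⊥ ∨ M = ⊤ := by
        intro M hM
        by_contra hcon
        push Not at hcon
        exact hs ⟨M, hM, hcon.1, hcon.2⟩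
      obtain ⟨P⟩ : Nonempty (Sylow 5 G) := inferInstance
      obtain ⟨k, hk⟩ := P.2.exists_card_eq
      rcases Nat.lt_or_ge k 2 with hlt | hge
      · interval_cases k
        · have hall : ∀ Q : Sylow 5 G, (Q : Subgroup G) = ⊥ := by
            intro Q
            apply card_eq_one.mp
            rw [sylow_card_eq Q P, hk, pow_zero]
          have : Nat.card (Sylow 5 G) = 1 := by
            rw [Nat.card_eq_one_iff_unique]
            refine ⟨⟨fun Q Q' => Sylow.ext ?_⟩, ⟨P⟩⟩
            rw [hall Q, hall Q']
          omega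
        · exact false_of_small hsimp h21 P (by rw [hk, pow_one])
      · apply false_of_big hsimp h21 P
        rw [hk]
        exact pow_dvd_pow 5 hge

/-- no finite group has exactly 21 Sylow 5-subgroups -/
theorem no_21 (G : Type u) [Group G] [Finite G] : Nat.card (Sylow 5 G) ≠ 21 :=
  no_21_aux _ G rfl

end Cfsg.Agent.Lib.Helper7.Syl21
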