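import Cfsg.Agent.Lib.Helper6.C2Max.Basic

set_option autoImplicit false
set_option linter.unusedSectionVars false
set_option linter.unusedSimpArgs false

/-!
PK-F2 of the S5634 swarm: for a non-monomial element `y` of an overgroup `K` of the monomial group
without elementary transvections, all but at most three columns are proportional to a given column on
three rows where it does not vanish (`moved_le_three`), and all `2 × 2` minors with nonzero entries
vanish (`minor_zero`).  Here in hypothesis form (`PkF2.moved_le_three_of`, `PkF2.minor_zero_of`): the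
conclusions of PK-D3 (`hD`) and PK-F1 (`hcol`) are hypotheses.
-/

namespace Cfsg.Agent.Lib.Helper6.C2Max

open Matrix

variable {F : Type*} [Field F] [Fintype F] {ι : Type*} [Fintype ι] [DecidableEq ι]

namespace PkF2

/-- the 3-cycle `(a b c)` -/
def cyc3 (a b c : ι) : Equiv.Perm ι := Equiv.swap a b * Equiv.swap b c

theorem cyc3_a {a b c : ι} (hab : a ≠ b) (hac : a ≠ c) : cyc3 a b c a = b := by
  unfold cyc3
  rw [Equiv.Perm.mul_apply, Equiv.swap_apply_of_ne_of_ne hab hac, Equiv.swap_apply_left]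

theorem cyc3_b {a b c : ι} (hac : a ≠ c) (hbc : b ≠ c) : cyc3 a b c b = c := by
  unfold cyc3
  rw [Equiv.Perm.mul_apply, Equiv.swap_apply_left, Equiv.swap_apply_of_ne_of_ne hac.symm hbc.symm]

theorem cyc3_c {a b c : ι} : cyc3 a b c c = a := by
  unfold cyc3
  rw [Equiv.Perm.mul_apply, Equiv.swap_apply_right, Equiv.swap_apply_right]

theorem cyc3_of_ne {a b c k : ι} (ha : k ≠ a) (hb : k ≠ b) (hc : k ≠ c) : cyc3 a b c k = k := by
  unfold cyc3
  rw [Equiv.Perm.mul_apply, Equiv.swap_apply_of_ne_of_ne hb hc, Equiv.swap_apply_of_ne_of_ne ha hb]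

theorem cyc3_cube {a b c : ι} (hab : a ≠ b) (hac : a ≠ c) (hbc : b ≠ c) (k : ι) :
    cyc3 a b c (cyc3 a b c (cyc3 a b c k)) = k := by
  by_cases ha : k = a
  · subst ha
    rw [cyc3_a hab hac, cyc3_b hac hbc, cyc3_c]
  by_cases hb : k = b
  · subst hb
    rw [cyc3_b hac hbc, cyc3_c, cyc3_a hab hac]
  by_cases hc : k = c
  · subst hc
    rw [cyc3_c, cyc3_a hab hac, cyc3_b hac hbc]
  rw [cyc3_of_ne ha hb hc, cyc3_of_ne ha hb hc, cyc3_of_ne ha hb hc]

theorem sign_cyc3 {a b c : ι} (hab : a ≠ b) (hbc : b ≠ c) :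
    Equiv.Perm.sign (cyc3 a b c) = 1 := by
  unfold cyc3
  rw [map_mul, Equiv.Perm.sign_swap hab, Equiv.Perm.sign_swap hbc]
  rfl

omit [Fintype F] in
theorem monoMat_mul_monoMat (π π' : Equiv.Perm ι) (d d' : ι → F) :
    monoMat π d * monoMat π' d' = monoMat (π * π') (fun c => d (π' c) * d' c) := by
  ext r c
  rw [mul_monoMat_apply, monoMat_apply, monoMat_apply, Equiv.Perm.mul_apply]
  split_ifs <;> simp

omit [Fintype F] in
theorem monoMat_one : monoMat (1 : Equiv.Perm ι) (fun _ => (1 : F)) = 1 := by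
  ext r c
  rw [monoMat_apply, Matrix.one_apply, Equiv.Perm.one_apply]

/-- the monomial matrix with permutation `τ` fixing the nowhere zero vector `q` -/
def scl (τ : Equiv.Perm ι) (q : ι → F) : Matrix ι ι F := monoMat τ (fun k => q (τ k) / q k)

omit [Fintype F] in
theorem det_scl (τ : Equiv.Perm ι) (q : ι → F) (hq : ∀ k, q k ≠ 0) :
    (scl τ q).det = ((Equiv.Perm.sign τ : ℤˣ) : ℤ) := by
  unfold scl
  rw [det_monoMat, Finset.prod_div_distrib, Equiv.prod_comp τ q, div_self, mul_one]
  exact Finset.prod_ne_zero_iff.2 fun i _ => hq i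

omit [Fintype F] in
theorem scl_mul_apply (τ : Equiv.Perm ι) (q : ι → F) (A : Matrix ι ι F) (r c : ι) :
    (scl τ q * A) r c = q r / q (τ.symm r) * A (τ.symm r) c := by
  unfold scl
  rw [monoMat_mul_apply, Equiv.apply_symm_apply]

omit [Fintype F] in
theorem scl_cube (τ : Equiv.Perm ι) (q : ι → F) (hq : ∀ k, q k ≠ 0) (h3 : ∀ k, τ (τ (τ k)) = k) :
    scl τ q * scl τ q * scl τ q = 1 := by
  unfold scl
  rw [monoMat_mul_monoMat, monoMat_mul_monoMat]
  have h1 : τ * τ * τ = 1 := by
    ext k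
    simp [h3]
  rw [h1, ← monoMat_one]
  congr 1
  funext k
  have := hq k
  have := hq (τ k)
  have := hq (τ (τ k))
  rw [h3]
  field_simp


/-- four vectors supported on a set of at most three coordinates are linearly dependent -/
theorem dep4 (T : Finset ι) (hT : T.card ≤ 3) (v : Fin 4 → ι → F)
    (hv : ∀ i k, k ∉ T → v i k = 0) :
    ∃ g : Fin 4 → F, (∃ i, g i ≠ 0) ∧ ∀ k, ∑ i, g i * v i k = 0 := by
  classical
  let u : Fin 4 → (T → F) := fun i k => v i k
  have hu : ¬ LinearIndependent F u := by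
    intro h
    have h1 := h.fintype_card_le_finrank
    rw [Module.finrank_fintype_fun_eq_card, Fintype.card_fin, Fintype.card_coe] at h1
    omega
  obtain ⟨g, hg, hi⟩ := Fintype.not_linearIndependent_iff.1 hu
  refine ⟨g, hi, fun k => ?_⟩
  by_cases hk : k ∈ T
  · have := congrFun hg ⟨k, hk⟩
    simpa [u, Finset.sum_apply, Pi.smul_apply, smul_eq_mul] using this
  · apply Finset.sum_eq_zero
    intro i _
    rw [hv i k hk, mul_zero]

/-- the combinatorial core: a monomial conjugate of a matrix moving only three coordinates moves at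
most three columns.  `Y` invertible, `Y k r = μ r * Y k (π r)` off the rows in `T`, `π³ = 1`. -/
theorem moved_le_three_aux (Y Yi : Matrix ι ι F) (hYi : Yi * Y = 1) (π : Equiv.Perm ι) (μ : ι → F)
    (h3 : ∀ r, π (π (π r)) = r) (T : Finset ι) (hT : T.card ≤ 3)
    (hv : ∀ r k, k ∉ T → Y k r = μ r * Y k (π r)) :
    Set.ncard {r : ι | π r ≠ r} ≤ 3 := by
  classical
  by_contra hlt
  rw [not_le] at hlt
  have hne : {r : ι | π r ≠ r}.Nonempty := by
    rw [← Set.ncard_pos]
    omega
  obtain ⟨r1, hr1⟩ := hne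
  have hO : ((({r1, π r1, π (π r1)} : Finset ι) : Set ι)).ncard < {r : ι | π r ≠ r}.ncard := by
    rw [Set.ncard_coe_finset]
    have := Finset.card_le_three (a := r1) (b := π r1) (c := π (π r1))
    omega
  obtain ⟨r4, hr4, hr4O⟩ := Set.exists_mem_notMem_of_ncard_lt_ncard hO
  rw [Finset.mem_coe, Finset.mem_insert, Finset.mem_insert, Finset.mem_singleton] at hr4O
  push Not at hr4O
  obtain ⟨h41, h42, h43⟩ := hr4O
  have hr1 : π r1 ≠ r1 := hr1
  have hr4 : π r4 ≠ r4 := hr4
  -- names
  set r2 := π r1 with hr2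
  set r3 := π r2 with hr3
  set r5 := π r4 with hr5
  set r6 := π r5 with hr6
  have e31 : π r3 = r1 := h3 r1
  have e64 : π r6 = r4 := h3 r4
  -- the inequalities
  have n12 : r1 ≠ r2 := fun h => hr1 h.symm
  have n23 : r2 ≠ r3 := fun h => n12 (π.injective h)
  have n13 : r1 ≠ r3 := fun h => by
    have : π r1 = π r3 := congrArg π h
    rw [e31] at this
    exact hr1 this
  have n45 : r4 ≠ r5 := fun h => hr4 h.symm
  have n56 : r5 ≠ r6 := fun h => n45 (π.injective h)
  have n46 : r4 ≠ r6 := fun h => by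
    have : π r4 = π r6 := congrArg π h
    rw [e64] at this
    exact hr4 this
  have n14 : r1 ≠ r4 := fun h => h41 h.symm
  have n24 : r2 ≠ r4 := fun h => h42 h.symm
  have n34 : r3 ≠ r4 := fun h => h43 h.symm
  have n15 : r1 ≠ r5 := fun h => by
    -- r5 = π r4 = r1 = π r3 → r4 = r3
    have : π r3 = π r4 := by rw [e31, ← hr5, h]
    exact n34 (π.injective this)
  have n25 : r2 ≠ r5 := fun h => n14 (π.injective h)
  have n35 : r3 ≠ r5 := fun h => n24 (π.injective h)
  have n16 : r1 ≠ r6 := fun h => by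
    have : π r3 = π r5 := by rw [e31, ← hr6, h]
    exact n35 (π.injective this)
  have n26 : r2 ≠ r6 := fun h => n15 (π.injective h)
  -- the four vectors
  let ρ : Fin 4 → ι := ![r1, r2, r4, r5]
  obtain ⟨g, ⟨i0, hi0⟩, hg⟩ := dep4 T hT (fun i k => Y k (ρ i) - μ (ρ i) * Y k (π (ρ i)))
    (fun i k hk => by
      show Y k (ρ i) - μ (ρ i) * Y k (π (ρ i)) = 0
      rw [hv (ρ i) k hk, sub_self])
  -- apply `Yi`
  have hYi' : ∀ s r, ∑ k, Yi s k * Y k r = if s = r then 1 else 0 := by
    intro s r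
    have := congrFun (congrFun hYi s) r
    rw [Matrix.mul_apply, Matrix.one_apply] at this
    exact this
  have key : ∀ s, ∑ i, g i * ((if s = ρ i then 1 else 0) - μ (ρ i) * (if s = π (ρ i) then 1 else 0)) = 0 := by
    intro s
    have h1 : ∑ k, Yi s k * ∑ i, g i * (Y k (ρ i) - μ (ρ i) * Y k (π (ρ i))) = 0 := by
      apply Finset.sum_eq_zero
      intro k _
      rw [hg k, mul_zero]
    have h2 : ∑ i, g i * ((if s = ρ i then 1 else 0) - μ (ρ i) * (if s = π (ρ i) then 1 else 0)) =
        ∑ k, Yi s k * ∑ i, g i * (Y k (ρ i) - μ (ρ i) * Y k (π (ρ i))) := by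
      simp_rw [Finset.mul_sum]
      rw [Finset.sum_comm]
      apply Finset.sum_congr rfl
      intro i _
      have h5 : ∀ k, Yi s k * (g i * (Y k (ρ i) - μ (ρ i) * Y k (π (ρ i)))) =
          g i * (Yi s k * Y k (ρ i)) - g i * μ (ρ i) * (Yi s k * Y k (π (ρ i))) := fun k => by ring
      simp_rw [h5]
      rw [Finset.sum_sub_distrib, ← Finset.mul_sum, ← Finset.mul_sum, hYi', hYi']
      ring
    rw [h2, h1]
  have k1 := key r1
  have k2 := key r2
  have k4 := key r4
  have k5 := key r5
  simp only [Fin.sum_univ_four, ρ, Matrix.cons_val_zero, Matrix.cons_val_one, Matrix.cons_val_two,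
    Matrix.cons_val_three, Matrix.head_cons, Matrix.tail_cons] at k1 k2 k4 k5
  simp only [← hr2, ← hr3, ← hr5, ← hr6, if_true, n12, n12.symm, n13, n13.symm, n14, n14.symm, n15,
    n15.symm, n16, n16.symm, n23, n23.symm, n24, n24.symm, n25, n25.symm, n26, n26.symm, n34,
    n34.symm, n35, n35.symm, n45, n45.symm, n46, n46.symm, n56, n56.symm, if_false, mul_zero,
    sub_zero, mul_one, add_zero, zero_sub, zero_add] at k1 k2 k4 k5
  rw [k1, zero_mul, zero_add] at k2
  rw [k4, zero_mul, zero_add] at k5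
  fin_cases i0
  · exact hi0 k1
  · exact hi0 k2
  · exact hi0 k4
  · exact hi0 k5

omit [Fintype F] in
theorem sl_val_mul (A B : SpecialLinearGroup ι F) : (A * B).1 = A.1 * B.1 := rfl

omit [Fintype F] in
theorem sl_val_one : (1 : SpecialLinearGroup ι F).1 = 1 := rfl



/-- PK-F2a : for a column `j` without zero in the rows `a, b, c`, all but at most three columns are
proportional to it on these rows -/
theorem moved_le_three_of (h7 : 7 ≤ Fintype.card ι)
    {K : Subgroup (SpecialLinearGroup ι F)} (hK : Over K)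
    (hD : ∀ g ∈ K, ∀ j j' : ι, (∀ r, r ≠ j' → (g : SpecialLinearGroup ι F).1 r j = 0) → IsMono g.1)
    (y : SpecialLinearGroup ι F) (hy : y ∈ K)
    (hcol : ∀ j a b : ι, a ≠ b → y.1 a j = 0 → y.1 b j = 0 → False) (j a b c : ι)
    (hab : a ≠ b) (hac : a ≠ c) (hbc : b ≠ c)
    (ha : y.1 a j ≠ 0) (hb : y.1 b j ≠ 0) (hc : y.1 c j ≠ 0) :
    Set.ncard {r : ι | ¬ (y.1 a r * y.1 b j = y.1 b r * y.1 a j ∧
      y.1 a r * y.1 c j = y.1 c r * y.1 a j)} ≤ 3 := by
  classical
  have hYiY : (y⁻¹).1 * y.1 = 1 := by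
    rw [← PkF2.sl_val_mul, inv_mul_cancel, PkF2.sl_val_one]
  have hYYi : y.1 * (y⁻¹).1 = 1 := by
    rw [← PkF2.sl_val_mul, mul_inv_cancel, PkF2.sl_val_one]
  generalize hYi : (y⁻¹).1 = Yi at hYiY hYYi
  set Y := y.1 with hY
  set τ := PkF2.cyc3 a b c with hτ
  have τa : τ a = b := PkF2.cyc3_a hab hac
  have τb : τ b = c := PkF2.cyc3_b hac hbc
  have τc : τ c = a := PkF2.cyc3_c
  have τn : ∀ k, k ≠ a → k ≠ b → k ≠ c → τ k = k := fun k h1 h2 h3 => PkF2.cyc3_of_ne h1 h2 h3
  let q : ι → F := fun k => if k = a ∨ k = b ∨ k = c then Y k j else 1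
  have hqa : q a = Y a j := by simp [q]
  have hqb : q b = Y b j := by simp [q]
  have hqc : q c = Y c j := by simp [q]
  have hqn : ∀ k, k ≠ a → k ≠ b → k ≠ c → q k = 1 := by
    intro k h1 h2 h3
    simp [q, h1, h2, h3]
  have hq0 : ∀ k, q k ≠ 0 := by
    intro k
    by_cases h1 : k = a
    · rw [h1, hqa]; exact ha
    by_cases h2 : k = b
    · rw [h2, hqb]; exact hb
    by_cases h3 : k = c
    · rw [h3, hqc]; exact hc
    rw [hqn k h1 h2 h3]; exact one_ne_zero
  -- the scaled 3-cycle
  have hdet : (PkF2.scl τ q).det = 1 := by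
    rw [PkF2.det_scl _ _ hq0, hτ, PkF2.sign_cyc3 hab hbc]
    simp
  let M : SpecialLinearGroup ι F := ⟨PkF2.scl τ q, hdet⟩
  have hM : M ∈ K := hK M (isMono_monoMat _ _)
  have hfix' : ∀ k, q (τ k) / q k * Y k j = Y (τ k) j := by
    intro k
    by_cases h1 : k = a
    · rw [h1, τa, hqa, hqb]; field_simp
    by_cases h2 : k = b
    · rw [h2, τb, hqb, hqc]; field_simp
    by_cases h3 : k = c
    · rw [h3, τc, hqc, hqa]; field_simp
    rw [τn k h1 h2 h3, div_self (hq0 k), one_mul]
  have hfix : ∀ k, (PkF2.scl τ q * Y) k j = Y k j := by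
    intro k
    rw [PkF2.scl_mul_apply]
    have := hfix' (τ.symm k)
    rw [Equiv.apply_symm_apply] at this
    exact this
  -- the conjugate
  have hM' : y⁻¹ * M * y ∈ K := K.mul_mem (K.mul_mem (K.inv_mem hy) hM) hy
  have hM'val : (y⁻¹ * M * y).1 = Yi * PkF2.scl τ q * Y := by
    rw [PkF2.sl_val_mul, PkF2.sl_val_mul, hYi]
  have hcolj : ∀ r, (y⁻¹ * M * y).1 r j = (1 : Matrix ι ι F) r j := by
    intro r
    rw [hM'val, Matrix.mul_assoc, Matrix.mul_apply, ← hYiY, Matrix.mul_apply]
    apply Finset.sum_congr rfl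
    intro k _
    rw [hfix]
  obtain ⟨π, hπ⟩ := hD (y⁻¹ * M * y) hM' j j (fun r hr => by
    rw [hcolj, Matrix.one_apply_ne hr])
  set A := (y⁻¹ * M * y).1 with hA
  -- multiplication by the monomial matrix `A`
  have hmulA : ∀ (B : Matrix ι ι F) (s r : ι), (B * A) s r = B s (π r) * A (π r) r := by
    intro B s r
    rw [Matrix.mul_apply, Finset.sum_eq_single (π r)]
    · intro t _ ht
      have : A t r = 0 := by
        by_contra h
        exact ht (hπ t r h)
      rw [this, mul_zero]
    · intro h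
      exact absurd (Finset.mem_univ _) h
  -- the key relation
  have hrel : Y * A = PkF2.scl τ q * Y := by
    rw [hM'val, ← Matrix.mul_assoc, ← Matrix.mul_assoc, hYYi, Matrix.one_mul]
  have hstar : ∀ k r, Y (τ k) (π r) * A (π r) r = q (τ k) / q k * Y k r := by
    intro k r
    rw [← hmulA, hrel, PkF2.scl_mul_apply, Equiv.symm_apply_apply]
  -- the entries of `A` are nonzero
  have hμ0 : ∀ r, A (π r) r ≠ 0 := by
    intro r h0
    have hz : ∀ k, Y k r = 0 := by
      intro k
      have := hstar k r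
      rw [h0, mul_zero] at this
      rcases mul_eq_zero.1 this.symm with h | h
      · exact absurd h (div_ne_zero (hq0 _) (hq0 _))
      · exact h
    exact hcol r a b hab (hz a) (hz b)
  -- `π³ = 1`
  have h3 : ∀ r, π (π (π r)) = r := by
    intro r
    have hMc : M * M * M = 1 := by
      apply Subtype.ext
      show PkF2.scl τ q * PkF2.scl τ q * PkF2.scl τ q = 1
      exact PkF2.scl_cube τ q hq0 (PkF2.cyc3_cube hab hac hbc)
    have hconj : (y⁻¹ * M * y) * (y⁻¹ * M * y) * (y⁻¹ * M * y) = 1 := by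
      have : (y⁻¹ * M * y) * (y⁻¹ * M * y) * (y⁻¹ * M * y) = y⁻¹ * (M * M * M) * y := by group
      rw [this, hMc, mul_one, inv_mul_cancel]
    have hA3 : A * A * A = 1 := by
      have := congrArg Subtype.val hconj
      rw [PkF2.sl_val_mul, PkF2.sl_val_mul, PkF2.sl_val_one] at this
      exact this
    have h1 : (A * A * A) (π (π (π r))) r = A (π (π (π r))) (π (π r)) * A (π (π r)) (π r) * A (π r) r := by
      rw [hmulA, hmulA]
    rw [hA3] at h1
    by_contra hne
    rw [Matrix.one_apply_ne hne] at h1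
    exact mul_ne_zero (mul_ne_zero (hμ0 _) (hμ0 _)) (hμ0 _) h1.symm
  -- the hypothesis of the combinatorial core
  have hv : ∀ r k, k ∉ ({a, b, c} : Finset ι) → Y k r = A (π r) r * Y k (π r) := by
    intro r k hk
    rw [Finset.mem_insert, Finset.mem_insert, Finset.mem_singleton] at hk
    push Not at hk
    have := hstar k r
    rw [τn k hk.1 hk.2.1 hk.2.2, div_self (hq0 k), one_mul] at this
    rw [← this, mul_comm]
  have hmv := PkF2.moved_le_three_aux Y Yi hYiY π (fun r => A (π r) r) h3 {a, b, c}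
    Finset.card_le_three hv
  refine le_trans (Set.ncard_le_ncard ?_ (Set.toFinite _)) hmv
  intro r hr
  by_contra hfixr
  have hfixr : π r = r := not_not.1 hfixr
  apply hr
  -- the diagonal entry is one
  have hμ1 : A (π r) r = 1 := by
    by_contra hne
    have hz : ∀ k, k ∉ ({a, b, c} : Finset ι) → Y k r = 0 := by
      intro k hk
      have := hv r k hk
      rw [hfixr] at this
      have h4 : (1 - A r r) * Y k r = 0 := by
        rw [sub_mul, one_mul, ← this, sub_self]
      rcases mul_eq_zero.1 h4 with h | h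
      · exfalso
        apply hne
        rw [hfixr]
        exact (sub_eq_zero.1 h).symm
      · exact h
    have hcard : 1 < (Finset.univ \ ({a, b, c} : Finset ι)).card := by
      have h1 := Finset.card_sdiff_add_card_inter (Finset.univ : Finset ι) {a, b, c}
      have h2 : ((Finset.univ : Finset ι) ∩ {a, b, c}).card ≤ 3 :=
        le_trans (Finset.card_le_card Finset.inter_subset_right) Finset.card_le_three
      rw [Finset.card_univ] at h1
      omega
    obtain ⟨k1, hk1, k2, hk2, hk12⟩ := Finset.one_lt_card.1 hcard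
    exact hcol r k1 k2 hk12
      (hz k1 (Finset.mem_sdiff.1 hk1).2) (hz k2 (Finset.mem_sdiff.1 hk2).2)
  constructor
  · have := hstar a r
    rw [τa, hμ1, mul_one, hfixr, hqb, hqa] at this
    rw [this]
    field_simp
  · have := hstar c r
    rw [τc, hμ1, mul_one, hfixr, hqa, hqc] at this
    rw [this]
    field_simp


/-- PK-F2b -/
theorem minor_zero_of (h7 : 7 ≤ Fintype.card ι)
    {K : Subgroup (SpecialLinearGroup ι F)} (hK : Over K)
    (hD : ∀ g ∈ K, ∀ j j' : ι, (∀ r, r ≠ j' → (g : SpecialLinearGroup ι F).1 r j = 0) → IsMono g.1)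
    (y : SpecialLinearGroup ι F) (hy : y ∈ K)
    (hcol : ∀ j a b : ι, a ≠ b → y.1 a j = 0 → y.1 b j = 0 → False) (a b r s : ι)
    (hab : a ≠ b) (hrs : r ≠ s) (h1 : y.1 a r ≠ 0) (h2 : y.1 a s ≠ 0) (h3 : y.1 b r ≠ 0)
    (h4 : y.1 b s ≠ 0) : y.1 a r * y.1 b s = y.1 a s * y.1 b r := by
  classical
  -- a third row `c` on which the columns `r` and `s` do not vanish
  obtain ⟨c, hca, hcb, hcr, hcs⟩ : ∃ c, c ≠ a ∧ c ≠ b ∧ y.1 c r ≠ 0 ∧ y.1 c s ≠ 0 := by
    by_contra hno
    push Not at hno
    have hZ : ∀ t : ι, (Finset.univ.filter fun k => y.1 k t = 0).card ≤ 1 := by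
      intro t
      rw [Finset.card_le_one]
      intro k1 hk1 k2 hk2
      by_contra hne
      exact hcol t k1 k2 hne (Finset.mem_filter.1 hk1).2
        (Finset.mem_filter.1 hk2).2
    have hsub : (Finset.univ : Finset ι) ⊆
        ({a, b} ∪ Finset.univ.filter fun k => y.1 k r = 0) ∪ Finset.univ.filter fun k => y.1 k s = 0 := by
      intro k _
      by_cases hka : k = a
      · simp [hka]
      by_cases hkb : k = b
      · simp [hkb]
      by_cases hkr : y.1 k r = 0
      · simp [hkr]
      have := hno k hka hkb hkr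
      simp [this]
    have hc1 := Finset.card_le_card hsub
    have hc2 := Finset.card_union_le
      (({a, b} : Finset ι) ∪ Finset.univ.filter fun k => y.1 k r = 0)
      (Finset.univ.filter fun k => y.1 k s = 0)
    have hc3 := Finset.card_union_le ({a, b} : Finset ι) (Finset.univ.filter fun k => y.1 k r = 0)
    have hc4 : ({a, b} : Finset ι).card ≤ 2 := Finset.card_le_two
    have := hZ r
    have := hZ s
    rw [Finset.card_univ] at hc1
    omega
  have hBr := moved_le_three_of h7 hK hD y hy hcol r a b c hab hca.symm hcb.symm h1 h3 hcr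
  have hBs := moved_le_three_of h7 hK hD y hy hcol s a b c hab hca.symm hcb.symm h2 h4 hcs
  -- a column outside both exceptional sets
  obtain ⟨t, htr, hts⟩ : ∃ t, (y.1 a t * y.1 b r = y.1 b t * y.1 a r ∧
      y.1 a t * y.1 c r = y.1 c t * y.1 a r) ∧ (y.1 a t * y.1 b s = y.1 b t * y.1 a s ∧
      y.1 a t * y.1 c s = y.1 c t * y.1 a s) := by
    by_contra hno
    push Not at hno
    have hsub : (Set.univ : Set ι) ⊆
        {t : ι | ¬ (y.1 a t * y.1 b r = y.1 b t * y.1 a r ∧ y.1 a t * y.1 c r = y.1 c t * y.1 a r)} ∪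
        {t : ι | ¬ (y.1 a t * y.1 b s = y.1 b t * y.1 a s ∧ y.1 a t * y.1 c s = y.1 c t * y.1 a s)} := by
      intro t _
      by_cases ht : (y.1 a t * y.1 b r = y.1 b t * y.1 a r ∧ y.1 a t * y.1 c r = y.1 c t * y.1 a r)
      · right
        intro h
        exact hno t ht h.1 h.2
      · left
        exact ht
    have hc1 := Set.ncard_le_ncard hsub (Set.toFinite _)
    have hc2 := Set.ncard_union_le
      {t : ι | ¬ (y.1 a t * y.1 b r = y.1 b t * y.1 a r ∧ y.1 a t * y.1 c r = y.1 c t * y.1 a r)}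
      {t : ι | ¬ (y.1 a t * y.1 b s = y.1 b t * y.1 a s ∧ y.1 a t * y.1 c s = y.1 c t * y.1 a s)}
    rw [Set.ncard_univ, Nat.card_eq_fintype_card] at hc1
    omega
  -- the column `t` does not vanish in the row `a`
  have hat : y.1 a t ≠ 0 := by
    intro h0
    have hbt : y.1 b t = 0 := by
      have := htr.1
      rw [h0, zero_mul] at this
      rcases mul_eq_zero.1 this.symm with h | h
      · exact h
      · exact absurd h h1
    exact hcol t a b hab h0 hbt
  have e1 := htr.1
  have e2 := hts.1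
  have : y.1 a t * (y.1 a r * y.1 b s) = y.1 a t * (y.1 a s * y.1 b r) := by
    calc y.1 a t * (y.1 a r * y.1 b s) = y.1 a r * (y.1 a t * y.1 b s) := by ring
      _ = y.1 a r * (y.1 b t * y.1 a s) := by rw [e2]
      _ = y.1 a s * (y.1 b t * y.1 a r) := by ring
      _ = y.1 a s * (y.1 a t * y.1 b r) := by rw [e1]
      _ = y.1 a t * (y.1 a s * y.1 b r) := by ring
  exact mul_left_cancel₀ hat this

end PkF2

end Cfsg.Agent.Lib.Helper6.C2Max
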