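import Mathlib
import Cfsg.Agent.Lib.Lead.SCF1

set_option autoImplicit false

/-! Package K1 of the S5280 swarm: monotonicity and composition of control of strong fusion. -/

namespace Cfsg.Agent.Lib.Helper7.CstrK1

open Cfsg Cfsg.Agent.Lib.Lead Cfsg.Agent.Lib.Lead.SCF Cfsg.Agent.Lib.Helper4

/-- the image of the normalizer (inside a subgroup `N`) normalizes the image -/
theorem coe_mem_normalizer_map {Y : Type*} [Group Y] (N : Subgroup Y) (Q' : Subgroup ↥N) (y : ↥N)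
    (hy : y ∈ Subgroup.normalizer (Q' : Set ↥N)) :
    (y : Y) ∈ Subgroup.normalizer ((Q'.map N.subtype : Subgroup Y) : Set Y) := by
  have key : ∀ z : ↥N, z ∈ Subgroup.normalizer (Q' : Set ↥N) → ∀ q ∈ Q'.map N.subtype,
      (z : Y) * q * (z : Y)⁻¹ ∈ Q'.map N.subtype := by
    intro z hz q hq
    obtain ⟨q', hq', rfl⟩ := hq
    exact ⟨z * q' * z⁻¹, (Subgroup.mem_normalizer_iff.mp hz q').mp hq', by simp⟩
  rw [Subgroup.mem_normalizer_iff]
  intro h
  constructor
  · exact key y hy h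
  · intro hh
    have := key y⁻¹ (Subgroup.inv_mem _ hy) _ hh
    have e : ((y⁻¹ : ↥N) : Y) * ((y : Y) * h * (y : Y)⁻¹) * ((y⁻¹ : ↥N) : Y)⁻¹ = h := by
      simp only [Subgroup.coe_inv]; group
    rwa [e] at this

/-- K1a: monotonicity in the normalizer -/
theorem ctl_mono {Y : Type*} [Group Y] {Q Q' S : Subgroup Y}
    (h : Subgroup.normalizer (Q : Set Y) ≤ Subgroup.normalizer (Q' : Set Y)) (hc : Ctl Q S) :
    Ctl Q' S := by
  intro A g hA hg
  obtain ⟨x, hx, hxa⟩ := hc A g hA hg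
  exact ⟨x, h hx, hxa⟩

/-- K1b: composition of control through `H = N_Y(Q)` -/
theorem ctl_trans {Y : Type*} [Group Y] {Q S : Subgroup Y}
    (hSQ : S ≤ Subgroup.normalizer (Q : Set Y)) (hc : Ctl Q S)
    (Q' : Subgroup ↥(Subgroup.normalizer (Q : Set Y)))
    (hc' : Ctl Q' (S.subgroupOf (Subgroup.normalizer (Q : Set Y)))) :
    Ctl (Q'.map (Subgroup.normalizer (Q : Set Y)).subtype) S := by
  intro A g hA hg
  obtain ⟨x, hx, hxa⟩ := hc A g hA hg
  let x' : ↥(Subgroup.normalizer (Q : Set Y)) := ⟨x, hx⟩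
  let A' : Set ↥(Subgroup.normalizer (Q : Set Y)) := {a' | (a' : Y) ∈ A}
  have hA' : A' ⊆ ((S.subgroupOf (Subgroup.normalizer (Q : Set Y)) :
      Subgroup ↥(Subgroup.normalizer (Q : Set Y))) : Set ↥(Subgroup.normalizer (Q : Set Y))) := by
    intro a' ha'
    exact Subgroup.mem_subgroupOf.mpr (hA ha')
  have hlc : lc x' A' ⊆ ((S.subgroupOf (Subgroup.normalizer (Q : Set Y)) :
      Subgroup ↥(Subgroup.normalizer (Q : Set Y))) : Set ↥(Subgroup.normalizer (Q : Set Y))) := by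
    rintro _ ⟨a', ha', rfl⟩
    apply Subgroup.mem_subgroupOf.mpr
    have e : ((x' * a' * x'⁻¹ : ↥(Subgroup.normalizer (Q : Set Y))) : Y) = g * (a' : Y) * g⁻¹ := by
      have := hxa (a' : Y) ha'
      simpa [x'] using this
    rw [e]
    exact hg ⟨(a' : Y), ha', rfl⟩
  obtain ⟨y, hy, hya⟩ := hc' A' x' hA' hlc
  refine ⟨(y : Y), coe_mem_normalizer_map _ Q' y hy, ?_⟩
  intro a ha
  have ha' : (⟨a, hSQ (hA ha)⟩ : ↥(Subgroup.normalizer (Q : Set Y))) ∈ A' := ha
  have := congrArg (fun z : ↥(Subgroup.normalizer (Q : Set Y)) => (z : Y)) (hya _ ha')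
  simp only [Subgroup.coe_mul, Subgroup.coe_inv, x'] at this
  rw [this]
  exact hxa a ha

end Cfsg.Agent.Lib.Helper7.CstrK1
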