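import Mathlib
import Cfsg.Agent.Lib.Lead.SCF1
import Cfsg.Agent.Lib.Helper4.FusionLift3
import Cfsg.Agent.Lib.Helper7.CstrK1

set_option autoImplicit false

/-! Package K3 of the S5280 swarm: control of strong fusion lifts from a normal subgroup
(through Helper4's `lift_control'`). -/

namespace Cfsg.Agent.Lib.Helper7.CstrK3

open Cfsg Cfsg.Agent.Lib.Lead Cfsg.Agent.Lib.Lead.SCF Cfsg.Agent.Lib.Helper4

variable {p : ℕ} [Fact p.Prime]

/-- K3: control lifts from a normal subgroup (Helper4 `lift_control'`) -/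
theorem ctl_of_normal {Y : Type*} [Group Y] [Finite Y] (S : Sylow p Y) (C : Subgroup Y) [C.Normal]
    (Q : Subgroup Y) (hQ : Q ≤ (S : Subgroup Y) ⊓ C)
    (hN : Subgroup.normalizer ((((S : Subgroup Y) ⊓ C : Subgroup Y)) : Set Y) ≤
      Subgroup.normalizer (Q : Set Y))
    (h : Ctl (Q.subgroupOf C) (((S : Subgroup Y) ⊓ C).subgroupOf C)) : Ctl Q (S : Subgroup Y) := by
  have hQC : Q ≤ C := hQ.trans inf_le_right
  have hmap : (Q.subgroupOf C).map C.subtype = Q := by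
    rw [Subgroup.map_subgroupOf_eq_of_le hQC]
  -- the hypothesis of `lift_control'`
  have hctl : ∀ A : Subgroup Y, A ≤ (S : Subgroup Y) ⊓ C → ∀ n ∈ C,
      Helper7.cj n A ≤ (S : Subgroup Y) ⊓ C →
      ∃ h' ∈ C ⊓ Subgroup.normalizer (Q : Set Y), ∃ c ∈ C ⊓ Subgroup.centralizer (A : Set Y),
        n = h' * c := by
    intro A hA n hn hnA
    let n' : ↥C := ⟨n, hn⟩
    let A' : Set ↥C := {a' | (a' : Y) ∈ A}
    have hA' : A' ⊆ (((((S : Subgroup Y) ⊓ C).subgroupOf C : Subgroup ↥C)) : Set ↥C) := by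
      intro a' ha'
      exact Subgroup.mem_subgroupOf.mpr (hA ha')
    have hlc : lc n' A' ⊆ (((((S : Subgroup Y) ⊓ C).subgroupOf C : Subgroup ↥C)) : Set ↥C) := by
      rintro _ ⟨a', ha', rfl⟩
      apply Subgroup.mem_subgroupOf.mpr
      apply hnA
      refine Subgroup.mem_map.mpr ⟨(a' : Y), ha', ?_⟩
      simp [n', MulAut.conj_apply]
    obtain ⟨x', hx', hxa⟩ := h A' n' hA' hlc
    have hxN : (x' : Y) ∈ Subgroup.normalizer (Q : Set Y) := by
      have := Helper7.CstrK1.coe_mem_normalizer_map C (Q.subgroupOf C) x' hx'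
      rwa [hmap] at this
    refine ⟨(x' : Y), Subgroup.mem_inf.mpr ⟨x'.2, hxN⟩, (x' : Y)⁻¹ * n,
      Subgroup.mem_inf.mpr ⟨C.mul_mem (C.inv_mem x'.2) hn, ?_⟩, by group⟩
    refine Subgroup.mem_centralizer_iff.mpr ?_
    intro a ha
    have ha' : (⟨a, (hA ha).2⟩ : ↥C) ∈ A' := ha
    have e := congrArg (fun z : ↥C => (z : Y)) (hxa _ ha')
    simp only [Subgroup.coe_mul, Subgroup.coe_inv, n'] at e
    -- e : x' a x'⁻¹ = n a n⁻¹
    have e2 : n * a * n⁻¹ = (x' : Y) * a * (x' : Y)⁻¹ := e.symm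
    calc a * ((x' : Y)⁻¹ * n) = (x' : Y)⁻¹ * ((x' : Y) * a * (x' : Y)⁻¹) * n := by group
      _ = (x' : Y)⁻¹ * (n * a * n⁻¹) * n := by rw [e2]
      _ = (x' : Y)⁻¹ * n * a := by group
  intro A g hA hg
  have hAS : Subgroup.closure A ≤ (S : Subgroup Y) := (Subgroup.closure_le _).mpr hA
  have hgS : Helper7.cj g (Subgroup.closure A) ≤ (S : Subgroup Y) := by
    unfold Helper7.cj
    rw [MonoidHom.map_closure, Subgroup.closure_le]
    rintro _ ⟨a, ha, rfl⟩
    exact hg ⟨a, ha, rfl⟩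
  obtain ⟨h', hh', c, hc, hgc⟩ := lift_control' C S (Subgroup.normalizer (Q : Set Y)) hN hctl
    (Subgroup.closure A) hAS g hgS
  refine ⟨h', hh', ?_⟩
  intro a ha
  have hca : a * c = c * a :=
    (Subgroup.mem_centralizer_iff.mp hc) a (Subgroup.subset_closure ha)
  rw [hgc]
  calc h' * a * h'⁻¹ = h' * (a * c) * c⁻¹ * h'⁻¹ := by group
    _ = h' * (c * a) * c⁻¹ * h'⁻¹ := by rw [hca]
    _ = h' * c * a * (h' * c)⁻¹ := by group

end Cfsg.Agent.Lib.Helper7.CstrK3
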