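import Mathlib
import Cfsg.Prelude.Def_G2
import Cfsg.Agent.Lib.Helper6.G2O_Defs
import Cfsg.Agent.Lib.Helper6.G2O_Defs2

set_option autoImplicit false

/-!
# S4632, package PK-SQ: squares in `Stil F` are commutators modulo the scalar pairs
-/

open Cfsg Cfsg.Lie Matrix
open scoped commutatorElement

namespace Cfsg.Agent.Lib.Helper6.G2O

variable {F : Type*} [Field F]

namespace SQ

theorem scal_mul_comm (c : Fˣ) (g : GL (Fin 2) F) : scal c * g = g * scal c := by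
  apply Units.ext
  rw [Units.val_mul, Units.val_mul, scal_val]
  simp

theorem scal_mul_scal (c c' : Fˣ) : scal (c * c') = scal c * scal c' := by
  apply Units.ext
  rw [Units.val_mul, scal_val, scal_val, scal_val]
  simp [smul_smul, mul_comm]

theorem scal_one' : scal (1 : Fˣ) = (1 : GL (Fin 2) F) := by
  apply Units.ext
  rw [scal_val]
  simp

theorem scal_inv' (c : Fˣ) : (scal c)⁻¹ = scal c⁻¹ := by
  rw [inv_eq_iff_mul_eq_one, ← scal_mul_scal, mul_inv_cancel, scal_one']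

/-- the norm: `t * conj t = det t` for `t` in the torus -/
theorem mul_conj_eq_scal {t : GL (Fin 2) F} (ht : t ∈ Tplus F) :
    t * (Dg * t * Dg) = scal (Matrix.GeneralLinearGroup.det t) := by
  obtain ⟨x, y, h⟩ := ht
  apply Units.ext
  rw [Units.val_mul, Units.val_mul, Units.val_mul, Dg_val, h, Dg_mul_cplx_mul_Dg, cplx_mul, scal_val,
    Matrix.GeneralLinearGroup.val_det_apply, h, det_cplx]
  ext i j
  fin_cases i <;> fin_cases j <;> simp [cplx] <;> ring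

/-- `⁅Dg, t⁆ = det t * t⁻²` -/
theorem comm_Dg_eq {t : GL (Fin 2) F} (ht : t ∈ Tplus F) :
    ⁅(Dg : GL (Fin 2) F), t⁆ = scal (Matrix.GeneralLinearGroup.det t) * t⁻¹ * t⁻¹ := by
  have h : Dg * t * Dg = t⁻¹ * scal (Matrix.GeneralLinearGroup.det t) := by
    rw [← mul_conj_eq_scal ht]; group
  rw [commutatorElement_def, Dg_inv, h, ← scal_mul_comm]

/-- `t² = det t * ⁅Dg, t⁆⁻¹` -/
theorem sq_eq_scal_mul {t : GL (Fin 2) F} (ht : t ∈ Tplus F) :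
    t ^ 2 = scal (Matrix.GeneralLinearGroup.det t) * ⁅(Dg : GL (Fin 2) F), t⁆⁻¹ := by
  have hc := scal_mul_comm (Matrix.GeneralLinearGroup.det t) (t * t)
  rw [comm_Dg_eq ht, mul_assoc, _root_.mul_inv_rev, _root_.mul_inv_rev, inv_inv,
    ← mul_assoc, hc, mul_assoc, mul_inv_cancel, mul_one, pow_two]

/-- `(t Dg)² = det t` -/
theorem mul_Dg_sq {t : GL (Fin 2) F} (ht : t ∈ Tplus F) :
    (t * Dg) ^ 2 = scal (Matrix.GeneralLinearGroup.det t) := by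
  rw [← mul_conj_eq_scal ht, pow_two]
  group

theorem det_Dg : Matrix.GeneralLinearGroup.det (Dg : GL (Fin 2) F) = -1 := by
  apply Units.ext
  rw [Matrix.GeneralLinearGroup.val_det_apply, Dg_val, Matrix.det_fin_two_of]
  simp

/-- the element `i` of the torus -/
def iT : GL (Fin 2) F :=
  ⟨cplx 0 1, cplx 0 (-1), by rw [cplx_mul, ← cplx_one]; congr 1 <;> ring,
    by rw [cplx_mul, ← cplx_one]; congr 1 <;> ring⟩

theorem iT_mem_Tplus : (iT : GL (Fin 2) F) ∈ Tplus F := ⟨0, 1, rfl⟩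

theorem iT_sq : (iT : GL (Fin 2) F) ^ 2 = scal (-1 : Fˣ) := by
  apply Units.ext
  rw [pow_two, Units.val_mul, scal_val]
  show cplx (0 : F) 1 * cplx 0 1 = _
  rw [cplx_mul]
  ext i j
  fin_cases i <;> fin_cases j <;> simp [cplx]

theorem scal_neg_one_sq : (scal (-1 : Fˣ) : GL (Fin 2) F) ^ 2 = 1 := by
  rw [pow_two, ← scal_mul_scal]
  simp [scal_one']

theorem iT_mem_T2 : (iT : GL (Fin 2) F) ∈ T2 F := by
  refine ⟨iT_mem_Tplus, 2, ?_⟩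
  rw [show (2 : ℕ) ^ 2 = 2 * 2 by norm_num, pow_mul, iT_sq, scal_neg_one_sq]

theorem det_iT : Matrix.GeneralLinearGroup.det (iT : GL (Fin 2) F) = 1 := by
  apply Units.ext
  rw [Matrix.GeneralLinearGroup.val_det_apply]
  show (cplx (0 : F) 1).det = _
  rw [det_cplx]
  simp

/-- `⁅Dg, i⁆ = -1` -/
theorem comm_Dg_iT : ⁅(Dg : GL (Fin 2) F), iT⁆ = scal (-1 : Fˣ) := by
  have h : (iT : GL (Fin 2) F) ^ 2 = scal (Matrix.GeneralLinearGroup.det (iT : GL (Fin 2) F)) *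
      ⁅(Dg : GL (Fin 2) F), iT⁆⁻¹ := sq_eq_scal_mul iT_mem_Tplus
  rw [det_iT, scal_one', one_mul, iT_sq] at h
  rw [← _root_.inv_inj, ← h, scal_inv']
  simp


theorem prod_comm_eq {G H : Type*} [Group G] [Group H] (a c : G) (b d : H) :
    ⁅((a, b) : G × H), (c, d)⁆ = (⁅a, c⁆, ⁅b, d⁆) := by
  rw [commutatorElement_def, commutatorElement_def, commutatorElement_def]
  rfl

theorem pair_tt_mem_Stil {t : GL (Fin 2) F} (ht : t ∈ T2 F) : (t, t) ∈ Stil F := by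
  rw [mem_Stil]
  exact ⟨⟨T2_le_S2 ht, T2_le_S2 ht⟩, rfl⟩

/-- `(⁅Dg, t⁆, 1)` is a commutator of `Stil F` -/
theorem comm_left_mem {u : GL (Fin 2) F} (hu : u ∈ T2 F)
    (hdu : Matrix.GeneralLinearGroup.det u = -1) {t : GL (Fin 2) F} (ht : t ∈ T2 F) :
    ((⁅(Dg : GL (Fin 2) F), t⁆, 1) : GL (Fin 2) F × GL (Fin 2) F) ∈ ⁅Stil F, Stil F⁆ := by
  have h1 : ((Dg, u) : GL (Fin 2) F × GL (Fin 2) F) ∈ Stil F := by
    rw [mem_Stil]
    exact ⟨⟨Dg_mem_S2, T2_le_S2 hu⟩, by rw [det_Dg, hdu]⟩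
  have h2 := Subgroup.commutator_mem_commutator h1 (pair_tt_mem_Stil ht)
  rw [prod_comm_eq] at h2
  have h3 : ⁅u, t⁆ = 1 := by
    rw [commutatorElement_eq_one_iff_mul_comm]
    exact Tplus_comm hu.1 ht.1
  rwa [h3] at h2

/-- `(1, ⁅Dg, t⁆)` is a commutator of `Stil F` -/
theorem comm_right_mem {u : GL (Fin 2) F} (hu : u ∈ T2 F)
    (hdu : Matrix.GeneralLinearGroup.det u = -1) {t : GL (Fin 2) F} (ht : t ∈ T2 F) :
    ((1, ⁅(Dg : GL (Fin 2) F), t⁆) : GL (Fin 2) F × GL (Fin 2) F) ∈ ⁅Stil F, Stil F⁆ := by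
  have h1 : ((u, Dg) : GL (Fin 2) F × GL (Fin 2) F) ∈ Stil F := by
    rw [mem_Stil]
    exact ⟨⟨T2_le_S2 hu, Dg_mem_S2⟩, by rw [det_Dg, hdu]⟩
  have h2 := Subgroup.commutator_mem_commutator h1 (pair_tt_mem_Stil ht)
  rw [prod_comm_eq] at h2
  have h3 : ⁅u, t⁆ = 1 := by
    rw [commutatorElement_eq_one_iff_mul_comm]
    exact Tplus_comm hu.1 ht.1
  rwa [h3] at h2

theorem pair_mem_of {K : Subgroup (GL (Fin 2) F × GL (Fin 2) F)} {a b : GL (Fin 2) F}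
    (ha : ((a, 1) : GL (Fin 2) F × GL (Fin 2) F) ∈ K)
    (hb : ((1, b) : GL (Fin 2) F × GL (Fin 2) F) ∈ K) :
    ((a, b) : GL (Fin 2) F × GL (Fin 2) F) ∈ K := by
  have := K.mul_mem ha hb
  simpa using this

theorem pair_inv_mem_of {K : Subgroup (GL (Fin 2) F × GL (Fin 2) F)} {a : GL (Fin 2) F}
    (ha : ((a, 1) : GL (Fin 2) F × GL (Fin 2) F) ∈ K) :
    ((a⁻¹, 1) : GL (Fin 2) F × GL (Fin 2) F) ∈ K := by
  have := K.inv_mem ha
  simpa using this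

theorem pair_inv_mem_of' {K : Subgroup (GL (Fin 2) F × GL (Fin 2) F)} {b : GL (Fin 2) F}
    (hb : ((1, b) : GL (Fin 2) F × GL (Fin 2) F) ∈ K) :
    ((1, b⁻¹) : GL (Fin 2) F × GL (Fin 2) F) ∈ K := by
  have := K.inv_mem hb
  simpa using this

theorem scal_pair_mem_Zc (c : Fˣ) :
    ((scal c, scal c) : GL (Fin 2) F × GL (Fin 2) F) ∈ Zc F := ⟨c, rfl⟩

/-- `t² * n⁻¹ = ⁅Dg, t⁆⁻¹` for `n = det t` -/
theorem sq_mul_scal_inv {t : GL (Fin 2) F} (ht : t ∈ Tplus F) :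
    t ^ 2 * scal (Matrix.GeneralLinearGroup.det t)⁻¹ = ⁅(Dg : GL (Fin 2) F), t⁆⁻¹ := by
  rw [sq_eq_scal_mul ht, scal_mul_comm, mul_assoc, ← scal_mul_scal, mul_inv_cancel, scal_one',
    mul_one]

theorem det_mul_Dg (t : GL (Fin 2) F) :
    Matrix.GeneralLinearGroup.det (t * Dg) = - Matrix.GeneralLinearGroup.det t := by
  rw [map_mul, det_Dg]
  simp

theorem scal_neg (c : Fˣ) : scal (-c) = scal (-1 : Fˣ) * scal c := by
  rw [← scal_mul_scal]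
  simp

end SQ

open SQ in
set_option linter.unusedVariables false in
/-- PK-SQ -/
theorem sq_mem_commutator_Stil (hF : (2 : F) ≠ 0)
    (hu : ∃ u ∈ T2 F, Matrix.GeneralLinearGroup.det u = -1)
    (s : GL (Fin 2) F × GL (Fin 2) F) (hs : s ∈ Stil F) :
    ∃ z ∈ Zc F, s ^ 2 * z ∈ ⁅Stil F, Stil F⁆ := by
  obtain ⟨u, hu, hdu⟩ := hu
  obtain ⟨s₁, s₂⟩ := s
  rw [mem_Stil] at hs
  obtain ⟨⟨h1, h2⟩, hdet⟩ := hs
  obtain ⟨t₁, ht₁, hs₁⟩ := h1
  obtain ⟨t₂, ht₂, hs₂⟩ := h2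
  simp only at hdet hs₁ hs₂
  have hm1 : ((scal (-1 : Fˣ), 1) : GL (Fin 2) F × GL (Fin 2) F) ∈ ⁅Stil F, Stil F⁆ := by
    rw [← comm_Dg_iT]; exact comm_left_mem hu hdu iT_mem_T2
  have hm2 : ((1, scal (-1 : Fˣ)) : GL (Fin 2) F × GL (Fin 2) F) ∈ ⁅Stil F, Stil F⁆ := by
    rw [← comm_Dg_iT]; exact comm_right_mem hu hdu iT_mem_T2
  rcases hs₁ with rfl | rfl <;> rcases hs₂ with rfl | rfl
  · -- (t₁, t₂)
    refine ⟨_, scal_pair_mem_Zc (Matrix.GeneralLinearGroup.det s₁)⁻¹, ?_⟩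
    have e : ((s₁, s₂) : GL (Fin 2) F × GL (Fin 2) F) ^ 2 *
        (scal (Matrix.GeneralLinearGroup.det s₁)⁻¹, scal (Matrix.GeneralLinearGroup.det s₁)⁻¹) =
        (⁅(Dg : GL (Fin 2) F), s₁⁆⁻¹, ⁅(Dg : GL (Fin 2) F), s₂⁆⁻¹) := by
      apply Prod.ext
      · exact sq_mul_scal_inv ht₁.1
      · show s₂ ^ 2 * scal (Matrix.GeneralLinearGroup.det s₁)⁻¹ = _
        rw [hdet]; exact sq_mul_scal_inv ht₂.1
    rw [e]
    exact pair_mem_of (pair_inv_mem_of (comm_left_mem hu hdu ht₁))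
      (pair_inv_mem_of' (comm_right_mem hu hdu ht₂))
  · -- (t₁, t₂ Dg)
    rw [det_mul_Dg] at hdet
    refine ⟨_, scal_pair_mem_Zc (Matrix.GeneralLinearGroup.det s₁)⁻¹, ?_⟩
    have e : ((s₁, t₂ * Dg) : GL (Fin 2) F × GL (Fin 2) F) ^ 2 *
        (scal (Matrix.GeneralLinearGroup.det s₁)⁻¹, scal (Matrix.GeneralLinearGroup.det s₁)⁻¹) =
        (⁅(Dg : GL (Fin 2) F), s₁⁆⁻¹, scal (-1 : Fˣ)) := by
      apply Prod.ext
      · exact sq_mul_scal_inv ht₁.1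
      · show (t₂ * Dg) ^ 2 * scal (Matrix.GeneralLinearGroup.det s₁)⁻¹ = _
        rw [mul_Dg_sq ht₂.1, hdet, ← scal_mul_scal]
        congr 1
        simp
    rw [e]
    exact pair_mem_of (pair_inv_mem_of (comm_left_mem hu hdu ht₁)) hm2
  · -- (t₁ Dg, t₂)
    rw [det_mul_Dg] at hdet
    refine ⟨_, scal_pair_mem_Zc (Matrix.GeneralLinearGroup.det s₂)⁻¹, ?_⟩
    have e : ((t₁ * Dg, s₂) : GL (Fin 2) F × GL (Fin 2) F) ^ 2 *
        (scal (Matrix.GeneralLinearGroup.det s₂)⁻¹, scal (Matrix.GeneralLinearGroup.det s₂)⁻¹) =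
        (scal (-1 : Fˣ), ⁅(Dg : GL (Fin 2) F), s₂⁆⁻¹) := by
      apply Prod.ext
      · show (t₁ * Dg) ^ 2 * scal (Matrix.GeneralLinearGroup.det s₂)⁻¹ = _
        rw [mul_Dg_sq ht₁.1, ← hdet, ← scal_mul_scal]
        congr 1
        simp
      · exact sq_mul_scal_inv ht₂.1
    rw [e]
    exact pair_mem_of hm1 (pair_inv_mem_of' (comm_right_mem hu hdu ht₂))
  · -- (t₁ Dg, t₂ Dg)
    rw [det_mul_Dg, det_mul_Dg, neg_inj] at hdet
    refine ⟨_, scal_pair_mem_Zc (Matrix.GeneralLinearGroup.det t₁)⁻¹, ?_⟩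
    have e : ((t₁ * Dg, t₂ * Dg) : GL (Fin 2) F × GL (Fin 2) F) ^ 2 *
        (scal (Matrix.GeneralLinearGroup.det t₁)⁻¹, scal (Matrix.GeneralLinearGroup.det t₁)⁻¹) = 1 := by
      apply Prod.ext
      · show (t₁ * Dg) ^ 2 * scal (Matrix.GeneralLinearGroup.det t₁)⁻¹ = 1
        rw [mul_Dg_sq ht₁.1, ← scal_mul_scal, mul_inv_cancel, scal_one']
      · show (t₂ * Dg) ^ 2 * scal (Matrix.GeneralLinearGroup.det t₁)⁻¹ = 1
        rw [mul_Dg_sq ht₂.1, hdet, ← scal_mul_scal, mul_inv_cancel, scal_one']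
    rw [e]
    exact Subgroup.one_mem _

end Cfsg.Agent.Lib.Helper6.G2O
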