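import Mathlib
import Cfsg.Agent.Lib.Helper7.OrdTwoAdic

set_option autoImplicit false

/-!
# 2-part of `q^6 (q^6 - 1) (q^2 - 1)` for odd `q` (S4632, arithmetic part of package ORD)
-/

namespace Cfsg.Agent.Lib.Helper7.OrdTwoAdic

/-- `v₂(q^6 - 1) = v₂(q² - 1)` for odd `q` -/
theorem val2_pow_six_sub_one {q : ℕ} (hq : Odd q) (hq1 : 1 < q) :
    padicValNat 2 (q ^ 6 - 1) = padicValNat 2 (q ^ 2 - 1) := by
  have h := val2_pow_even_sub_one hq hq1 (i := 3) (by norm_num)
  have h3 : padicValNat 2 3 = 0 := val2_of_odd (by decide)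
  rw [h3, add_zero] at h
  exact h

/-- the 2-part of `|G₂(q)| = q^6 (q^6 - 1) (q^2 - 1)`, `q` odd -/
theorem val2_card_G2 {q : ℕ} (hq : Odd q) (hq1 : 1 < q) :
    padicValNat 2 (q ^ 6 * (q ^ 6 - 1) * (q ^ 2 - 1)) = 2 * padicValNat 2 (q ^ 2 - 1) := by
  have hq0 : q ≠ 0 := by omega
  have h6 : q ^ 6 - 1 ≠ 0 := by
    have := one_lt_pow_of_odd hq1 (n := 6) (by norm_num); omega
  have h2 : q ^ 2 - 1 ≠ 0 := by
    have := one_lt_pow_of_odd hq1 (n := 2) (by norm_num); omega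
  rw [padicValNat.mul (by positivity) h2, padicValNat.mul (by positivity) h6, val2_odd_pow hq,
    val2_pow_six_sub_one hq hq1]
  ring

/-- a natural number is `2 ^ v₂(n)` times an odd number -/
theorem exists_odd_mul_of_val2 {n : ℕ} (hn : n ≠ 0) :
    ∃ m, Odd m ∧ n = 2 ^ padicValNat 2 n * m := by
  obtain ⟨k, m, hm, e⟩ := Nat.exists_eq_pow_mul_and_not_dvd hn 2 (by norm_num)
  have hm0 : m ≠ 0 := by rintro rfl; exact hm (dvd_zero 2)
  have hk : padicValNat 2 n = k := by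
    rw [e, padicValNat.mul (by positivity) hm0, padicValNat.prime_pow,
      padicValNat.eq_zero_of_not_dvd hm, add_zero]
  refine ⟨m, ?_, by rw [hk]; exact e⟩
  rw [← Nat.not_even_iff_odd, even_iff_two_dvd]
  exact hm

/-- a subgroup of order `2 ^ v₂ |G|` has odd index -/
theorem not_two_dvd_index_of_card {G : Type*} [Group G] [Finite G] (P : Subgroup G)
    (h : Nat.card P = 2 ^ padicValNat 2 (Nat.card G)) : ¬ 2 ∣ P.index := by
  obtain ⟨m, hm, e⟩ := exists_odd_mul_of_val2 (n := Nat.card G) Nat.card_pos.ne'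
  have h1 := P.card_mul_index
  rw [h] at h1
  have h2 : P.index = m := by
    apply Nat.eq_of_mul_eq_mul_left (pow_pos (by norm_num : 0 < 2) (padicValNat 2 (Nat.card G)))
    rw [h1]; exact e
  rw [h2, ← even_iff_two_dvd, Nat.not_even_iff_odd]
  exact hm

end Cfsg.Agent.Lib.Helper7.OrdTwoAdic
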