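import Mathlib
import Cfsg.Agent.Lib.Helper5.HigDefs
import Cfsg.Agent.Lib.Helper5.HigPhi
import Cfsg.Agent.Lib.Helper8.HigSimple

/-!
# S3050 swarm, package A1: the squaring map is additive along natural submodules
-/

set_option autoImplicit false
set_option linter.unusedSectionVars false

namespace Cfsg.Agent.Lib.Helper5.Hig

section A
variable {K : Type*} [Field K] [Fintype K] [CharP K 2] {V : Type*} [AddCommGroup V] [Finite V]
  {Z : Type*} [AddCommGroup Z] [Finite Z]
  (ρV : SL K →* AddMonoid.End V) (ρZ : SL K →* AddMonoid.End Z)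

/-- (II.a) the squaring map is additive along natural submodules -/
theorem sq_nat (hZ : CMod ρZ) (sq : V → Z) (hsq : ∀ g v, sq (ρV g v) = ρZ g (sq v))
    (hsq0 : sq 0 = 0) {f : (Fin 2 → K) →+ V} (hf : IsNat ρV f) :
    ∃ f' : (Fin 2 → K) →+ Z, IsNat ρZ f' ∧ ∀ n, sq (f n) = f' n := by
  have hfix : SFix ρZ (sq (f (e1 1))) := by
    intro b
    rw [← hsq, nat_sfix ρV hf 1 b]
  obtain ⟨f', hf', h1, -⟩ := exists_nat ρZ hZ hfix
  refine ⟨f', hf', ?_⟩
  have key : (fun n => sq (f n)) = (fun n => f' n) := by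
    apply equivariant_unique ρZ
    · intro g n
      show sq (f (g • n)) = ρZ g (sq (f n))
      rw [hf g n, hsq]
    · intro g n
      exact hf' g n
    · show sq (f 0) = f' 0
      rw [map_zero, map_zero, hsq0]
    · show sq (f (e1 1)) = f' (e1 1)
      rw [h1]
  intro n
  exact congrFun key n

end A

end Cfsg.Agent.Lib.Helper5.Hig
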