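import Mathlib
import Cfsg.Agent.Lib.Helper5.HigDefs
import Cfsg.Agent.Lib.Helper5.HigPhi
import Cfsg.Agent.Lib.Helper5.HigSum
import Cfsg.Agent.Lib.Helper8.HigMatA
import Cfsg.Agent.Lib.Helper8.HigMatB

/-!
# S3050 swarm, package A2 (core): an equivariant biadditive "polarized" pairing on the natural
module with values in a sum of natural modules vanishes
-/

set_option autoImplicit false
set_option linter.unusedSectionVars false

namespace Cfsg.Agent.Lib.Helper5.Hig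

namespace PairB

section
variable {K : Type*} [Field K] [Fintype K] [CharP K 2] {Z : Type*} [AddCommGroup Z]
  (ρ : SL K →* AddMonoid.End Z)

/-- decomposition data of a sum of natural modules, in terms of `SFix` -/
structure Dec : Prop where
  two : ∀ z : Z, z + z = 0
  d1 : ∀ z : Z, ∃ p r : Z, SFix ρ p ∧ SFix ρ r ∧ z = p + ρ ww r
  d2 : ∀ v : Z, SFix ρ v → SFix ρ (ρ ww v) → v = 0
  sww : ∀ v : Z, SFix ρ v → ∀ b : K, b ≠ 0 → ρ (uu b) (ρ ww v) = ρ ww v + ρ (hh b) v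

theorem dec_of_natSum (hρ : CMod ρ) (hsum : NatSum ρ) : Dec ρ := by
  obtain ⟨k, f, hf, hbij⟩ := hsum
  refine ⟨hρ.two, ?_, ?_, fun v hv b hb => sfix_ww ρ hρ hv hb⟩
  · intro z
    have hz : z ∈ (sumMap f).range := by
      obtain ⟨n, hn⟩ := hbij.2 z
      exact ⟨n, hn⟩
    obtain ⟨y, hy, y', hy', h⟩ := range_decomp ρ f hf hz
    exact ⟨y, y', (sfix_iff_of_natSum ρ f hf hbij y).mpr hy,
      (sfix_iff_of_natSum ρ f hf hbij y').mpr hy', h⟩
  · intro v hv hw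
    exact plusPart_inter_ww ρ f hf hbij.1 ((sfix_iff_of_natSum ρ f hf hbij v).mp hv)
      ((sfix_iff_of_natSum ρ f hf hbij _).mp hw)

theorem sfix_add {p r : Z} (hp : SFix ρ p) (hr : SFix ρ r) : SFix ρ (p + r) := by
  intro b
  rw [map_add, hp b, hr b]

theorem sfix_zero : SFix ρ (0 : Z) := by
  intro b
  rw [map_zero]

theorem eq_of_add_eq_zero (h2 : ∀ z : Z, z + z = 0) {x y : Z} (h : x + y = 0) : x = y := by
  have : x + y = y + y := by rw [h, h2]
  exact add_right_cancel this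

theorem ww_ww (v : Z) : ρ ww (ρ ww v) = v := by
  rw [← rep_mul_apply, ww_sq, rep_one_apply]

/-- uniqueness of the decomposition -/
theorem dec_unique (D : Dec ρ) {p r p' r' : Z} (hp : SFix ρ p) (hr : SFix ρ r) (hp' : SFix ρ p')
    (hr' : SFix ρ r') (h : p + ρ ww r = p' + ρ ww r') : p = p' ∧ r = r' := by
  have h1 : ρ ww (r + r') = p + p' := by
    rw [map_add]
    have e : (p + ρ ww r) + (p' + ρ ww r) = (p' + ρ ww r') + (p' + ρ ww r) := by rw [h]
    have e1 : (p + ρ ww r) + (p' + ρ ww r) = p + p' := by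
      calc (p + ρ ww r) + (p' + ρ ww r) = (p + p') + (ρ ww r + ρ ww r) := by abel
        _ = p + p' := by rw [D.two, add_zero]
    have e2 : (p' + ρ ww r') + (p' + ρ ww r) = ρ ww r + ρ ww r' := by
      calc (p' + ρ ww r') + (p' + ρ ww r) = (p' + p') + (ρ ww r + ρ ww r') := by abel
        _ = ρ ww r + ρ ww r' := by rw [D.two, zero_add]
    rw [← e2, ← e, e1]
  have h2 : r + r' = 0 := D.d2 _ (sfix_add ρ hr hr') (by rw [h1]; exact sfix_add ρ hp hp')
  have h3 : r = r' := eq_of_add_eq_zero D.two h2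
  refine ⟨?_, h3⟩
  rw [h3] at h
  exact add_right_cancel h

variable (B : (Fin 2 → K) → (Fin 2 → K) → Z)

/-- the hypotheses on the pairing -/
structure Pair : Prop where
  addl : ∀ n m n', B (n + m) n' = B n n' + B m n'
  addr : ∀ n n' m', B n (n' + m') = B n n' + B n m'
  equiv : ∀ (g : SL K) n n', B (g • n) (g • n') = ρ g (B n n')
  pol : ∀ (c : K) n n', B n (c • n') = B n' (c • n)

variable {ρ B}

theorem Pair.zero_left (hB : Pair ρ B) (n' : Fin 2 → K) : B 0 n' = 0 := by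
  have h := hB.addl 0 0 n'
  rw [add_zero] at h
  have : B 0 n' + 0 = B 0 n' + B 0 n' := by rw [add_zero]; exact h
  exact (add_left_cancel this).symm

theorem Pair.zero_right (hB : Pair ρ B) (n : Fin 2 → K) : B n 0 = 0 := by
  have h := hB.addr n 0 0
  rw [add_zero] at h
  have : B n 0 + 0 = B n 0 + B n 0 := by rw [add_zero]; exact h
  exact (add_left_cancel this).symm

theorem uu_e1 (b α : K) : uu b • e1 α = e1 α := by
  rw [uu_smul]; simp [e1]

theorem uu_e2 (b γ : K) : uu b • e2 γ = e1 (b * γ) + e2 γ := by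
  rw [uu_smul]
  ext i; fin_cases i <;> simp [e1, e2]

theorem ww_e1 (α : K) : (ww : SL K) • e1 α = e2 α := by
  rw [ww_smul]; simp [e1, e2]

theorem ww_e2 (γ : K) : (ww : SL K) • e2 γ = e1 γ := by
  rw [ww_smul]; simp [e1, e2]

theorem hh_e1 {a : K} (ha : a ≠ 0) (α : K) : hh a • e1 α = e1 (a * α) := by
  rw [hh_smul ha]; simp [e1]

theorem hh_e2 {a : K} (ha : a ≠ 0) (γ : K) : hh a • e2 γ = e2 (a⁻¹ * γ) := by
  rw [hh_smul ha]; simp [e2]

theorem smul_e1 (c α : K) : c • e1 α = e1 (c * α) := by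
  ext i; fin_cases i <;> simp [e1]

theorem smul_e2 (c γ : K) : c • e2 γ = e2 (c * γ) := by
  ext i; fin_cases i <;> simp [e2]

theorem e1_add (α α' : K) : e1 (α + α') = e1 α + e1 α' := by
  ext i; fin_cases i <;> simp [e1]

theorem eq_e1_add_e2 (n : Fin 2 → K) : n = e1 (n 0) + e2 (n 1) := by
  ext i; fin_cases i <;> simp [e1, e2]

/-- `κ δ = B e₁ (δ e₁)` is `S`-fixed -/
theorem Pair.kappa_sfix (hB : Pair ρ B) (δ : K) : SFix ρ (B (e1 1) (e1 δ)) := by
  intro b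
  rw [← hB.equiv, uu_e1, uu_e1]

/-- `u(c)`-equivariance -/
theorem Pair.step_uu (hB : Pair ρ B) (D : Dec ρ) {γ : K} {p r : Z} (hp : SFix ρ p)
    (hr : SFix ρ r) (h : B (e1 1) (e2 γ) = p + ρ ww r) {c : K} (hc : c ≠ 0) :
    B (e1 1) (e1 (c * γ)) = ρ (hh c) r := by
  have h1 : ρ (uu c) (B (e1 1) (e2 γ)) = B (e1 1) (e1 (c * γ)) + B (e1 1) (e2 γ) := by
    rw [← hB.equiv, uu_e1, uu_e2, hB.addr]
  have h2 : ρ (uu c) (p + ρ ww r) = p + (ρ ww r + ρ (hh c) r) := by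
    rw [map_add, hp c, D.sww r hr c hc]
  rw [h, h2] at h1
  have h3 : (p + ρ ww r) + ρ (hh c) r = B (e1 1) (e1 (c * γ)) + (p + ρ ww r) := by
    rw [← h1]; abel
  rw [add_comm (B (e1 1) (e1 (c * γ)))] at h3
  exact (add_left_cancel h3).symm

/-- `w`-equivariance and polarization -/
theorem Pair.step_ww (hB : Pair ρ B) (D : Dec ρ) {γ : K} {p r : Z} (hp : SFix ρ p)
    (hr : SFix ρ r) (h : B (e1 1) (e2 γ) = p + ρ ww r) : p = r := by
  have h1 : ρ ww (B (e1 1) (e2 γ)) = B (e2 1) (e1 γ) := by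
    rw [← hB.equiv, ww_e1, ww_e2]
  have h2 : B (e1 1) (e2 γ) = B (e2 1) (e1 γ) := by
    have := hB.pol γ (e1 1) (e2 1)
    rw [smul_e2, smul_e1, mul_one] at this
    exact this
  rw [← h2, h, map_add, ww_ww] at h1
  have h3 : r + ρ ww p = p + ρ ww r := by rw [← h1]; abel
  exact ((dec_unique ρ D hr hp hp hr h3).1).symm

/-- `hh a` after `ww` -/
theorem hh_ww_apply {a : K} (ha : a ≠ 0) (v : Z) : ρ (hh a) (ρ ww v) = ρ ww (ρ (hh a⁻¹) v) := by
  have e : hh a * ww = ww * hh a⁻¹ := by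
    rw [ww_hh (inv_ne_zero ha), inv_inv]
  rw [← rep_mul_apply, e, rep_mul_apply]

theorem hh_hh_apply {a b : K} (ha : a ≠ 0) (hb : b ≠ 0) (v : Z) :
    ρ (hh a) (ρ (hh b) v) = ρ (hh (a * b)) v := by
  rw [← rep_mul_apply, hh_mul ha hb]

theorem hh_one_apply (v : Z) : ρ (hh (1 : K)) v = v := by
  rw [hh_one, rep_one_apply]

/-- the shape of `P γ` -/
theorem Pair.shape (hB : Pair ρ B) (D : Dec ρ) {p1 r1 : Z} (hp1 : SFix ρ p1) (hr1 : SFix ρ r1)
    (h1 : B (e1 1) (e2 1) = p1 + ρ ww r1) {γ : K} (hγ : γ ≠ 0) :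
    B (e1 1) (e2 γ) = ρ (hh γ) r1 + ρ ww (ρ (hh γ) r1) := by
  obtain ⟨p, r, hp, hr, h⟩ := D.d1 (B (e1 1) (e2 γ))
  have hpr : p = r := hB.step_ww D hp hr h
  -- `κ 1 = r1`
  have k1 : B (e1 1) (e1 1) = r1 := by
    have := hB.step_uu D hp1 hr1 h1 (c := 1) one_ne_zero
    rw [mul_one, hh_one_apply] at this
    exact this
  have k2 : B (e1 1) (e1 1) = ρ (hh γ⁻¹) r := by
    have := hB.step_uu D hp hr h (c := γ⁻¹) (inv_ne_zero hγ)
    rw [inv_mul_cancel₀ hγ] at this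
    exact this
  have hr' : r = ρ (hh γ) r1 := by
    rw [← k1, k2, hh_hh_apply hγ (inv_ne_zero hγ), mul_inv_cancel₀ hγ, hh_one_apply]
  rw [h, hpr, hr']

/-- `h(a)`-equivariance -/
theorem Pair.step_hh (hB : Pair ρ B) (D : Dec ρ) {p1 r1 : Z} (hp1 : SFix ρ p1) (hr1 : SFix ρ r1)
    (h1 : B (e1 1) (e2 1) = p1 + ρ ww r1) {a : K} (ha : a ≠ 0) :
    B (e1 a) (e2 1) = ρ (hh (a * a)) r1 + ρ ww r1 := by
  have e1' : ρ (hh a) (B (e1 1) (e2 a)) = B (e1 a) (e2 1) := by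
    rw [← hB.equiv, hh_e1 ha, hh_e2 ha, mul_one, inv_mul_cancel₀ ha]
  rw [← e1', hB.shape D hp1 hr1 h1 ha, map_add, hh_hh_apply ha ha, hh_ww_apply ha,
    hh_hh_apply (inv_ne_zero ha) ha, inv_mul_cancel₀ ha, hh_one_apply]

/-- the key vanishing: `r1 = 0` -/
theorem Pair.r1_zero (hB : Pair ρ B) (D : Dec ρ) (h4 : 4 ≤ Fintype.card K) {p1 r1 : Z}
    (hp1 : SFix ρ p1) (hr1 : SFix ρ r1) (h1 : B (e1 1) (e2 1) = p1 + ρ ww r1) : r1 = 0 := by
  classical
  -- an element different from `0`, `1`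
  have hcard : ({0, 1} : Finset K).card < (Finset.univ : Finset K).card := by
    rw [Finset.card_univ]
    calc ({0, 1} : Finset K).card ≤ 2 := Finset.card_le_two
      _ < Fintype.card K := by omega
  obtain ⟨ω, -, hω⟩ := Finset.exists_mem_notMem_of_card_lt_card hcard
  have hω0 : ω ≠ 0 := by
    intro h; apply hω; rw [h]; simp
  have hω1 : ω ≠ 1 := by
    intro h; apply hω; rw [h]; simp
  have hω2 : 1 + ω ≠ 0 := by
    intro h
    apply hω1
    have : (1 + ω) + 1 = 0 + 1 := by rw [h]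
    rw [zero_add] at this
    rw [← this]
    have h11 : (1 : K) + 1 = 0 := CharTwo.add_self_eq_zero 1
    calc ω = ω + ((1 : K) + 1) := by rw [h11, add_zero]
      _ = 1 + ω + 1 := by ring
  have a1 := hB.step_hh D hp1 hr1 h1 (a := 1) one_ne_zero
  have a2 := hB.step_hh D hp1 hr1 h1 hω0
  have a3 := hB.step_hh D hp1 hr1 h1 hω2
  rw [e1_add, hB.addl, a1, a2] at a3
  -- `W r1` is a sum of `S`-fixed vectors
  have key : ρ ww r1 = ρ (hh (1 * 1)) r1 + ρ (hh (ω * ω)) r1 + ρ (hh ((1 + ω) * (1 + ω))) r1 := by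
    have e : ρ (hh (1 * 1)) r1 + ρ ww r1 + (ρ (hh (ω * ω)) r1 + ρ ww r1) =
        ρ (hh (1 * 1)) r1 + ρ (hh (ω * ω)) r1 := by
      calc ρ (hh (1 * 1)) r1 + ρ ww r1 + (ρ (hh (ω * ω)) r1 + ρ ww r1)
          = ρ (hh (1 * 1)) r1 + ρ (hh (ω * ω)) r1 + (ρ ww r1 + ρ ww r1) := by abel
        _ = ρ (hh (1 * 1)) r1 + ρ (hh (ω * ω)) r1 := by rw [D.two, add_zero]
    rw [e] at a3
    -- a3 : X + Y = Zz + W r1
    have e2 : ρ ww r1 = ρ (hh (1 * 1)) r1 + ρ (hh (ω * ω)) r1 +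
        (ρ (hh ((1 + ω) * (1 + ω))) r1 + (ρ (hh ((1 + ω) * (1 + ω))) r1 + ρ ww r1)) -
        (ρ (hh (1 * 1)) r1 + ρ (hh (ω * ω)) r1) := by
      rw [← add_assoc (ρ (hh ((1 + ω) * (1 + ω))) r1), D.two, zero_add]; abel
    rw [← a3] at e2
    rw [e2]; abel
  have hfix : SFix ρ (ρ ww r1) := by
    rw [key]
    exact sfix_add ρ (sfix_add ρ (sfix_hh ρ hr1 (mul_ne_zero one_ne_zero one_ne_zero))
      (sfix_hh ρ hr1 (mul_ne_zero hω0 hω0))) (sfix_hh ρ hr1 (mul_ne_zero hω2 hω2))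
  exact D.d2 r1 hr1 hfix

/-- the core of (II.b) -/
theorem Pair.eq_zero (hB : Pair ρ B) (D : Dec ρ) (h4 : 4 ≤ Fintype.card K) :
    ∀ n n', B n n' = 0 := by
  obtain ⟨p1, r1, hp1, hr1, h1⟩ := D.d1 (B (e1 1) (e2 1))
  have hr10 : r1 = 0 := hB.r1_zero D h4 hp1 hr1 h1
  -- `κ ≡ 0`
  have hκ : ∀ c : K, B (e1 1) (e1 c) = 0 := by
    intro c
    by_cases hc : c = 0
    · rw [hc]
      have : e1 (0 : K) = 0 := by ext i; fin_cases i <;> simp [e1]
      rw [this, hB.zero_right]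
    · have := hB.step_uu D hp1 hr1 h1 hc
      rw [mul_one, hr10, map_zero] at this
      exact this
  -- `P ≡ 0`
  have hP : ∀ γ : K, B (e1 1) (e2 γ) = 0 := by
    intro γ
    obtain ⟨p, r, hp, hr, h⟩ := D.d1 (B (e1 1) (e2 γ))
    have hpr : p = r := hB.step_ww D hp hr h
    have := hB.step_uu D hp hr h (c := 1) one_ne_zero
    rw [one_mul, hκ, hh_one_apply] at this
    rw [h, hpr, ← this, map_zero, add_zero]
  have he1 : ∀ n', B (e1 1) n' = 0 := by
    intro n'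
    rw [eq_e1_add_e2 n', hB.addr, hκ, hP, add_zero]
  intro n n'
  by_cases hn : n = 0
  · rw [hn, hB.zero_left]
  · obtain ⟨g, hg⟩ := exists_smul_e1 hn
    have e : n' = g • (g⁻¹ • n') := by rw [smul_inv_smul]
    rw [← hg, e, hB.equiv, he1, map_zero]

end

end PairB

end Cfsg.Agent.Lib.Helper5.Hig
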