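import Mathlib
import Cfsg.Agent.Lib.Helper5.HigDefs
import Cfsg.Agent.Lib.Helper7.HigPairA
import Cfsg.Agent.Lib.Helper7.HigPairB0

/-!
# S3050 swarm, package A2 (reduction): the pairing between two natural submodules vanishes,
given that the target is a sum of natural modules
-/

set_option autoImplicit false
set_option linter.unusedSectionVars false

namespace Cfsg.Agent.Lib.Helper5.Hig

namespace PairB

section
variable {K : Type*} [Field K] [Fintype K] [CharP K 2] {V : Type*} [AddCommGroup V] [Finite V]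
  {Z : Type*} [AddCommGroup Z] [Finite Z]
  (ρV : SL K →* AddMonoid.End V) (ρZ : SL K →* AddMonoid.End Z)

/-- scalar multiplication commutes with the action of `SL₂` -/
theorem smul_smul_comm (g : SL K) (c : K) (n : Fin 2 → K) : g • (c • n) = c • (g • n) := by
  rw [smul_eq, smul_eq]
  ext i; fin_cases i <;> simp <;> ring

/-- `f_c = fa + fb ∘ (c • ·)` -/
def mix (fa fb : (Fin 2 → K) →+ V) (c : K) : (Fin 2 → K) →+ V where
  toFun n := fa n + fb (c • n)
  map_zero' := by simp
  map_add' a b := by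
    rw [smul_add, map_add, map_add]; abel

theorem mix_apply (fa fb : (Fin 2 → K) →+ V) (c : K) (n : Fin 2 → K) :
    mix fa fb c n = fa n + fb (c • n) := rfl

theorem mix_isNat {fa fb : (Fin 2 → K) →+ V} (hfa : IsNat ρV fa) (hfb : IsNat ρV fb) (c : K) :
    IsNat ρV (mix fa fb c) := by
  intro g n
  rw [mix_apply, mix_apply, ← smul_smul_comm, hfa g n, hfb g (c • n), map_add]

/-- (II.b) given that `Z` is a sum of natural modules -/
theorem pair_nat_of (hZ : CMod ρZ) (hsum : NatSum ρZ) (h4 : 4 ≤ Fintype.card K) (sq : V → Z)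
    (β : V → V → Z)
    (hsq : ∀ g v, sq (ρV g v) = ρZ g (sq v))
    (hβ : ∀ g u v, β (ρV g u) (ρV g v) = ρZ g (β u v))
    (hβl : ∀ u u' v, β (u + u') v = β u v + β u' v)
    (hβr : ∀ u v v', β u (v + v') = β u v + β u v')
    (hadd : ∀ u v, sq (u + v) = sq u + sq v + β u v) (hsq0 : sq 0 = 0)
    {fa fb : (Fin 2 → K) →+ V} (hfa : IsNat ρV fa) (hfb : IsNat ρV fb) :
    ∀ n n', β (fa n) (fb n') = 0 := by
  have D : Dec ρZ := dec_of_natSum ρZ hZ hsum
  -- `β u v = sq (u + v) + sq u + sq v`
  have hβsq : ∀ u v, β u v = sq (u + v) + sq u + sq v := by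
    intro u v
    rw [hadd]
    have e : sq u + sq v + β u v + sq u + sq v = β u v + ((sq u + sq u) + (sq v + sq v)) := by
      abel
    rw [e, hZ.two, hZ.two, add_zero, add_zero]
  obtain ⟨fa', -, hfa'⟩ := sq_nat ρV ρZ hZ sq hsq hsq0 hfa
  obtain ⟨fb', -, hfb'⟩ := sq_nat ρV ρZ hZ sq hsq hsq0 hfb
  -- `F c n = β (fa n) (fb (c • n))` is additive in `n`
  have hF : ∀ (c : K) (n m : Fin 2 → K), β (fa (n + m)) (fb (c • (n + m))) =
      β (fa n) (fb (c • n)) + β (fa m) (fb (c • m)) := by
    intro c n m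
    obtain ⟨fc', -, hfc'⟩ := sq_nat ρV ρZ hZ sq hsq hsq0 (mix_isNat ρV hfa hfb c)
    have e : ∀ k : Fin 2 → K, β (fa k) (fb (c • k)) = fc' k + fa' k + fb' (c • k) := by
      intro k
      rw [hβsq, ← mix_apply, hfc', hfa', hfb']
    rw [e, e, e, smul_add, map_add, map_add, map_add]
    abel
  refine Pair.eq_zero (ρ := ρZ) (B := fun n n' => β (fa n) (fb n')) ⟨?_, ?_, ?_, ?_⟩ D h4
  · intro n m n'
    show β (fa (n + m)) (fb n') = _
    rw [map_add, hβl]
  · intro n n' m'
    show β (fa n) (fb (n' + m')) = _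
    rw [map_add, hβr]
  · intro g n n'
    show β (fa (g • n)) (fb (g • n')) = ρZ g (β (fa n) (fb n'))
    rw [hfa g n, hfb g n', hβ]
  · intro c n n'
    show β (fa n) (fb (c • n')) = β (fa n') (fb (c • n))
    have h := hF c n n'
    rw [map_add, smul_add, map_add, hβl, hβr, hβr] at h
    -- h : (a + x) + (y + b) = a + b
    have e : β (fa n) (fb (c • n')) + β (fa n') (fb (c • n)) = 0 := by
      have e1 : β (fa n) (fb (c • n)) + β (fa n) (fb (c • n')) +
          (β (fa n') (fb (c • n)) + β (fa n') (fb (c • n'))) =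
          (β (fa n) (fb (c • n)) + β (fa n') (fb (c • n'))) +
          (β (fa n) (fb (c • n')) + β (fa n') (fb (c • n))) := by abel
      rw [e1] at h
      have h' : (β (fa n) (fb (c • n)) + β (fa n') (fb (c • n'))) +
          (β (fa n) (fb (c • n')) + β (fa n') (fb (c • n))) =
          (β (fa n) (fb (c • n)) + β (fa n') (fb (c • n'))) + 0 := by rw [add_zero]; exact h
      exact add_left_cancel h'
    exact eq_of_add_eq_zero hZ.two e

end

end PairB

end Cfsg.Agent.Lib.Helper5.Hig
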