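import Mathlib
import Cfsg.Agent.Lib.Helper5.HigDefs

/-!
# S3050 swarm, package A3 (core): a biadditive pairing vanishing on pairs of natural submodules
vanishes on a sum of natural modules
-/

set_option autoImplicit false
set_option linter.unusedSectionVars false

namespace Cfsg.Agent.Lib.Helper5.Hig

namespace PairC

section
variable {K : Type*} [Field K] {V : Type*} [AddCommGroup V]
  {Z : Type*} [AddCommGroup Z]
  (ρV : SL K →* AddMonoid.End V)

theorem zero_left (β : V → V → Z) (hβl : ∀ u u' v, β (u + u') v = β u v + β u' v) (v : V) :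
    β 0 v = 0 := by
  have h := hβl 0 0 v
  rw [add_zero] at h
  have : β 0 v + 0 = β 0 v + β 0 v := by rw [add_zero]; exact h
  exact (add_left_cancel this).symm

theorem zero_right (β : V → V → Z) (hβr : ∀ u v v', β u (v + v') = β u v + β u v') (u : V) :
    β u 0 = 0 := by
  have h := hβr u 0 0
  rw [add_zero] at h
  have : β u 0 + 0 = β u 0 + β u 0 := by rw [add_zero]; exact h
  exact (add_left_cancel this).symm

theorem sum_left {ι : Type*} (β : V → V → Z)
    (hβl : ∀ u u' v, β (u + u') v = β u v + β u' v) (s : Finset ι) (x : ι → V) (v : V) :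
    β (∑ i ∈ s, x i) v = ∑ i ∈ s, β (x i) v := by
  classical
  induction s using Finset.induction_on with
  | empty => simp [zero_left β hβl]
  | insert a s ha ih => rw [Finset.sum_insert ha, Finset.sum_insert ha, hβl, ih]

theorem sum_right {ι : Type*} (β : V → V → Z)
    (hβr : ∀ u v v', β u (v + v') = β u v + β u v') (s : Finset ι) (x : ι → V) (u : V) :
    β u (∑ i ∈ s, x i) = ∑ i ∈ s, β u (x i) := by
  classical
  induction s using Finset.induction_on with
  | empty => simp [zero_right β hβr]
  | insert a s ha ih => rw [Finset.sum_insert ha, Finset.sum_insert ha, hβr, ih]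

/-- core of (II.c) -/
theorem pairing_zero_of (β : V → V → Z)
    (hβl : ∀ u u' v, β (u + u') v = β u v + β u' v)
    (hβr : ∀ u v v', β u (v + v') = β u v + β u v')
    (hsum : NatSum ρV)
    (hpair : ∀ fa fb : (Fin 2 → K) →+ V, IsNat ρV fa → IsNat ρV fb →
      ∀ n n', β (fa n) (fb n') = 0) :
    ∀ u v, β u v = 0 := by
  obtain ⟨k, f, hf, hbij⟩ := hsum
  intro u v
  obtain ⟨n, rfl⟩ := hbij.2 u
  obtain ⟨n', rfl⟩ := hbij.2 v
  rw [sumMap_apply, sumMap_apply, sum_left β hβl]
  apply Finset.sum_eq_zero
  intro i _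
  rw [sum_right β hβr]
  apply Finset.sum_eq_zero
  intro j _
  exact hpair (f i) (f j) (hf i) (hf j) (n i) (n' j)

end

end PairC

end Cfsg.Agent.Lib.Helper5.Hig
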