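import Mathlib
import Cfsg.Agent.Lib.Helper5.HigDefs
import Cfsg.Agent.Lib.Helper5.HigThmI
import Cfsg.Agent.Lib.Helper7.HigPairB
import Cfsg.Agent.Lib.Helper7.HigPairC0

/-!
# S3050 swarm, package A3: the commutator pairing vanishes
-/

set_option autoImplicit false
set_option linter.unusedSectionVars false

namespace Cfsg.Agent.Lib.Helper5.Hig

section A
variable {K : Type*} [Field K] [Fintype K] [CharP K 2] {V : Type*} [AddCommGroup V] [Finite V]
  {Z : Type*} [AddCommGroup Z] [Finite Z]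
  (ρV : SL K →* AddMonoid.End V) (ρZ : SL K →* AddMonoid.End Z)

/-- (II.c) -/
theorem pairing_zero (hV : CMod ρV) (hZ : CMod ρZ) (h4 : 4 ≤ Fintype.card K) (sq : V → Z)
    (β : V → V → Z)
    (hsq : ∀ g v, sq (ρV g v) = ρZ g (sq v))
    (hβ : ∀ g u v, β (ρV g u) (ρV g v) = ρZ g (β u v))
    (hβl : ∀ u u' v, β (u + u') v = β u v + β u' v)
    (hβr : ∀ u v v', β u (v + v') = β u v + β u v')
    (hadd : ∀ u v, sq (u + v) = sq u + sq v + β u v) (hsq0 : sq 0 = 0) :
    ∀ u v, β u v = 0 :=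
  PairC.pairing_zero_of ρV β hβl hβr (natSum_of_cmod ρV hV h4)
    (fun _ _ hfa hfb => pair_nat ρV ρZ hV hZ h4 sq β hsq hβ hβl hβr hadd hsq0 hfa hfb)

end A

end Cfsg.Agent.Lib.Helper5.Hig
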