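import Mathlib
import Cfsg.Agent.Lib.Helper8.SmTwoDefs
import Cfsg.Agent.Lib.Helper8.SmTwoB
import Cfsg.Agent.Lib.Helper2.SmTwoPTDef

set_option autoImplicit false

/-! S4409, package PU: a `2`-group `T` normalising a non-abelian subgroup `O` of order `8` with
`C_T(O) ≤ O` is small. -/

namespace Cfsg.Agent.Lib.Helper8.SmTwo

universe u

variable {G : Type u} [Group G]

/-- elements of `T` acting trivially modulo the centre of `O` lie in `O` -/
theorem pu_mem_of_actsTrivMod (O T : Subgroup G) (hOT : O ≤ T)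
    (hn : T ≤ Subgroup.normalizer (O : Set G))
    (hc : T ⊓ Subgroup.centralizer (O : Set G) ≤ O)
    (hinner : ∀ t ∈ Subgroup.normalizer (O : Set G), ActsTrivMod O t →
      ∃ y ∈ O, y⁻¹ * t ∈ Subgroup.centralizer (O : Set G))
    (t : G) (ht : t ∈ T) (htr : ActsTrivMod O t) : t ∈ O := by
  obtain ⟨y, hy, hyc⟩ := hinner t (hn ht) htr
  have h1 : y⁻¹ * t ∈ O := hc ⟨T.mul_mem (T.inv_mem (hOT hy)) ht, hyc⟩
  have h2 : t = y * (y⁻¹ * t) := by group
  rw [h2]
  exact O.mul_mem hy h1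

/-- the product of two elements of `T` outside `O` lies in `O` -/
theorem pu_mul_mem (O T : Subgroup G)
    (hOT : O ≤ T) (hn : T ≤ Subgroup.normalizer (O : Set G))
    (hc : T ⊓ Subgroup.centralizer (O : Set G) ≤ O)
    (hinner : ∀ t ∈ Subgroup.normalizer (O : Set G), ActsTrivMod O t →
      ∃ y ∈ O, y⁻¹ * t ∈ Subgroup.centralizer (O : Set G))
    (haut : ∀ t₁ ∈ T, ∀ t₂ ∈ T, ¬ ActsTrivMod O t₁ → ¬ ActsTrivMod O t₂ →
      ActsTrivMod O (t₁ * t₂))
    (t₁ t₂ : G) (h1 : t₁ ∈ T) (h2 : t₂ ∈ T)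
    (h1' : t₁ ∉ O) (h2' : t₂ ∉ O) : t₁ * t₂ ∈ O := by
  apply pu_mem_of_actsTrivMod O T hOT hn hc hinner _ (T.mul_mem h1 h2)
  apply haut t₁ h1 t₂ h2
  · intro h; exact h1' (pu_mem_of_actsTrivMod O T hOT hn hc hinner t₁ h1 h)
  · intro h; exact h2' (pu_mem_of_actsTrivMod O T hOT hn hc hinner t₂ h2 h)

/-- package PU, with the lemmas (INN) and (AUT2 for the section) as hypotheses -/
theorem pu_small_of [Finite G] (O T : Subgroup G)
    (hO : IsNA8 O) (hOT : O ≤ T) (hn : T ≤ Subgroup.normalizer (O : Set G))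
    (hc : T ⊓ Subgroup.centralizer (O : Set G) ≤ O)
    (hinner : ∀ t ∈ Subgroup.normalizer (O : Set G), ActsTrivMod O t →
      ∃ y ∈ O, y⁻¹ * t ∈ Subgroup.centralizer (O : Set G))
    (haut : ∀ t₁ ∈ T, ∀ t₂ ∈ T, ¬ ActsTrivMod O t₁ → ¬ ActsTrivMod O t₂ →
      ActsTrivMod O (t₁ * t₂)) : Small T := by
  intro A₀ hA₀T hbad
  obtain ⟨hAc, hAnc, hA8⟩ := hbad
  obtain ⟨z, hzO, hz1, hz2, hzc, hsq, hcomm, hcen, -⟩ := hO.facts
  have hAcomm : ∀ u ∈ A₀, ∀ v ∈ A₀, u * v = v * u := fun u hu v hv =>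
    congrArg Subtype.val (hAc.is_comm.comm ⟨u, hu⟩ ⟨v, hv⟩)
  -- some element of `A₀` lies outside `O`
  have hex : ∃ a ∈ A₀, a ∉ O := by
    by_contra hno
    push Not at hno
    have hle : A₀ ≤ O := hno
    have heq : A₀ = O := Subgroup.eq_of_le_of_card_ge hle (by rw [hA8, hO.1])
    obtain ⟨u, hu, v, hv, huv⟩ := hO.2
    exact huv (hAcomm u (heq ▸ hu) v (heq ▸ hv))
  obtain ⟨a, haA, haO⟩ := hex
  have haT : a ∈ T := hA₀T haA
  obtain ⟨B, hB⟩ : ∃ B : Subgroup G, B = A₀ ⊓ O := ⟨_, rfl⟩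
  have hBA : B ≤ A₀ := by rw [hB]; exact inf_le_left
  have hBO : B ≤ O := by rw [hB]; exact inf_le_right
  have hmemB : ∀ g, g ∈ A₀ → g ∈ O → g ∈ B := by
    intro g h1 h2; rw [hB]; exact ⟨h1, h2⟩
  have haB : a ∉ B := fun h => haO (hBO h)
  have ha2 : a ^ 2 ∈ B := by
    apply hmemB _ (A₀.pow_mem haA 2)
    rw [pow_two]
    exact pu_mul_mem O T hOT hn hc hinner haut a a haT haT haO haO
  have haBc : ∀ b ∈ B, a * b = b * a := fun b hb => hAcomm a haA b (hBA hb)
  have hBab : ∀ u ∈ B, ∀ v ∈ B, u * v = v * u := fun u hu v hv =>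
    hAcomm u (hBA hu) v (hBA hv)
  have hconjB : ∀ b ∈ B, a * b * a⁻¹ = b := by
    intro b hb
    rw [haBc b hb, mul_inv_cancel_right]
  have haN : a ∈ Subgroup.normalizer (B : Set G) := by
    rw [Subgroup.mem_normalizer_iff]
    intro b
    constructor
    · intro hb
      rw [hconjB b hb]; exact hb
    · intro hb
      have h1 := hconjB _ hb
      have h2 : a * b * a⁻¹ = b := by
        have h3 : a * (a * b * a⁻¹) * a⁻¹ = a * b * a⁻¹ := h1
        have h4 : a⁻¹ * (a * (a * b * a⁻¹) * a⁻¹) * a = a⁻¹ * (a * b * a⁻¹) * a := by rw [h3]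
        have h5 : a⁻¹ * (a * (a * b * a⁻¹) * a⁻¹) * a = a * b * a⁻¹ := by group
        have h6 : a⁻¹ * (a * b * a⁻¹) * a = b := by group
        rw [h5, h6] at h4
        exact h4
      rw [← h2]; exact hb
  have hsupeq : B ⊔ Subgroup.zpowers a = A₀ := by
    apply le_antisymm
    · exact sup_le hBA (Subgroup.zpowers_le.mpr haA)
    · intro a' ha'
      by_cases h : a' ∈ O
      · exact Subgroup.mem_sup_left (hmemB _ ha' h)
      · have h1 : a⁻¹ * a' ∈ O :=
          pu_mul_mem O T hOT hn hc hinner haut a⁻¹ a' (T.inv_mem haT) (hA₀T ha')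
            (fun h' => haO (by simpa using O.inv_mem h')) h
        have hb : a⁻¹ * a' ∈ B := hmemB _ (A₀.mul_mem (A₀.inv_mem haA) ha') h1
        have h2 : a' = a * (a⁻¹ * a') := by group
        rw [h2]
        exact Subgroup.mul_mem _ (Subgroup.mem_sup_right (Subgroup.mem_zpowers a))
          (Subgroup.mem_sup_left hb)
  have hBcard : Nat.card B = 4 := by
    have := card_sup_zpowers_of_sq_mem B a haN haB ha2
    rw [hsupeq, hA8] at this
    omega
  -- `B` has index two in `O`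
  have hidx : (B.subgroupOf O).index = 2 := by
    have h3 := Subgroup.relIndex_mul_relIndex (⊥ : Subgroup G) B O bot_le hBO
    rw [Subgroup.relIndex_bot_left, Subgroup.relIndex_bot_left, hBcard, hO.1] at h3
    have h4 : B.relIndex O = 2 := by omega
    exact h4
  have hmul2 : ∀ u ∈ O, ∀ v ∈ O, u ∉ B → v ∉ B → u * v ∈ B := by
    intro u hu v hv hu' hv'
    have := Subgroup.mul_mem_iff_of_index_two hidx (a := ⟨u, hu⟩) (b := ⟨v, hv⟩)
    simp only [Subgroup.mem_subgroupOf, Subgroup.coe_mul] at this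
    exact this.mpr ⟨fun h => absurd h hu', fun h => absurd h hv'⟩
  -- the element `x`
  have hntr : ¬ ActsTrivMod O a := fun h => haO (pu_mem_of_actsTrivMod O T hOT hn hc hinner a haT h)
  unfold ActsTrivMod at hntr
  push Not at hntr
  obtain ⟨x, hxO, hxn⟩ := hntr
  have haxO : a * x * a⁻¹ ∈ O := (Subgroup.mem_normalizer_iff.mp (hn haT) x).mp hxO
  have hxB : x ∉ B := by
    intro h
    apply hxn
    rw [hconjB x h, inv_mul_cancel]
    exact Subgroup.one_mem _
  have haxB : a * x * a⁻¹ ∉ B := by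
    intro h
    apply hxB
    have h1 := hconjB _ h
    have h4 : a⁻¹ * (a * (a * x * a⁻¹) * a⁻¹) * a = a⁻¹ * (a * x * a⁻¹) * a := by rw [h1]
    have h5 : a⁻¹ * (a * (a * x * a⁻¹) * a⁻¹) * a = a * x * a⁻¹ := by group
    have h6 : a⁻¹ * (a * x * a⁻¹) * a = x := by group
    rw [h5, h6] at h4
    rw [← h4]; exact h
  obtain ⟨b₀, hb₀⟩ : ∃ b₀ : G, b₀ = x⁻¹ * (a * x * a⁻¹) := ⟨_, rfl⟩
  have hxinvB : x⁻¹ ∉ B := fun h => hxB (by simpa using B.inv_mem h)
  have hb₀B : b₀ ∈ B := by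
    rw [hb₀]; exact hmul2 _ (O.inv_mem hxO) _ haxO hxinvB haxB
  have hb₀O : b₀ ∈ O := hBO hb₀B
  have haxeq : a * x * a⁻¹ = x * b₀ := by rw [hb₀]; group
  have hb₀nc : ∃ y ∈ O, y * b₀ ≠ b₀ * y := by
    by_contra hno
    push Not at hno
    apply hxn
    rw [← hb₀]
    exact ⟨hb₀O, Subgroup.mem_centralizer_iff.mpr hno⟩
  -- an element of `B` commuting with `x` is central in `O`
  have hcentral : ∀ c ∈ B, c * x = x * c → ∀ y ∈ O, c * y = y * c := by
    intro c hcB hcx y hy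
    by_cases hyB : y ∈ B
    · exact hBab c hcB y hyB
    · have h1 : x⁻¹ * y ∈ B := hmul2 _ (O.inv_mem hxO) _ hy hxinvB hyB
      have h2 := hBab c hcB _ h1
      calc c * y = c * (x * (x⁻¹ * y)) := by group
        _ = (c * x) * (x⁻¹ * y) := by group
        _ = (x * c) * (x⁻¹ * y) := by rw [hcx]
        _ = x * (c * (x⁻¹ * y)) := by group
        _ = x * ((x⁻¹ * y) * c) := by rw [h2]
        _ = y * c := by group
  have hxb : x * b₀ ≠ b₀ * x := by
    intro h
    obtain ⟨y, hy, hyne⟩ := hb₀nc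
    exact hyne (hcentral b₀ hb₀B h.symm y hy).symm
  have hxbz : x * b₀ = b₀ * x * z := (hcomm x hxO b₀ hb₀O).resolve_left hxb
  have hzx : z * x = x * z := hzc x hxO
  have hzb : z * b₀ = b₀ * z := hzc b₀ hb₀O
  have hzz : z * z = 1 := by rw [← pow_two]; exact hz2
  have hsqeq : (x * b₀) * (x * b₀) = a * (x * x) * a⁻¹ := by
    rw [← haxeq]; group
  have hexp : (x * b₀) * (x * b₀) = b₀ * (x * x) * b₀ * z := by
    calc (x * b₀) * (x * b₀) = (b₀ * x * z) * (x * b₀) := by rw [← hxbz]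
      _ = b₀ * x * (z * x) * b₀ := by group
      _ = b₀ * x * (x * z) * b₀ := by rw [hzx]
      _ = b₀ * (x * x) * (z * b₀) := by group
      _ = b₀ * (x * x) * (b₀ * z) := by rw [hzb]
      _ = b₀ * (x * x) * b₀ * z := by group
  rcases hsq b₀ hb₀O with hb2 | hb2
  · -- `b₀ ^ 2 = 1`
    have hbb : b₀ * b₀ = 1 := by rw [← pow_two]; exact hb2
    rcases hsq x hxO with hx2 | hx2
    · have hxx : x * x = 1 := by rw [← pow_two]; exact hx2
      rw [hxx] at hsqeq hexp
      rw [hsqeq] at hexp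
      have : z = 1 := by
        have h1 : a * 1 * a⁻¹ = 1 := by group
        rw [h1, mul_one, hbb, one_mul] at hexp
        exact hexp.symm
      exact hz1 this
    · have hxx : x * x = z := by rw [← pow_two]; exact hx2
      rw [hxx] at hsqeq hexp
      rw [hsqeq] at hexp
      have h1 : b₀ * z * b₀ * z = 1 := by
        calc b₀ * z * b₀ * z = b₀ * (z * b₀) * z := by group
          _ = b₀ * (b₀ * z) * z := by rw [hzb]
          _ = (b₀ * b₀) * (z * z) := by group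
          _ = 1 := by rw [hbb, hzz, one_mul]
      rw [h1] at hexp
      have : z = 1 := by
        have h2 : a⁻¹ * (a * z * a⁻¹) * a = a⁻¹ * 1 * a := by rw [hexp]
        have h3 : a⁻¹ * (a * z * a⁻¹) * a = z := by group
        have h4 : a⁻¹ * 1 * a = 1 := by group
        rw [h3, h4] at h2
        exact h2
      exact hz1 this
  · -- `b₀ ^ 2 = z`: then `a` has order `8`
    have hbb : b₀ * b₀ = z := by rw [← pow_two]; exact hb2
    obtain ⟨w, hw⟩ : ∃ w : G, w = a ^ 2 := ⟨_, rfl⟩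
    have hwB : w ∈ B := hw ▸ ha2
    have hwO : w ∈ O := hBO hwB
    have hwx : w * x * w⁻¹ = x * z := by
      have h1 : a * b₀ * a⁻¹ = b₀ := hconjB b₀ hb₀B
      calc w * x * w⁻¹ = a * (a * x * a⁻¹) * a⁻¹ := by rw [hw, pow_two]; group
        _ = a * (x * b₀) * a⁻¹ := by rw [haxeq]
        _ = (a * x * a⁻¹) * (a * b₀ * a⁻¹) := by group
        _ = (x * b₀) * b₀ := by rw [haxeq, h1]
        _ = x * (b₀ * b₀) := by group
        _ = x * z := by rw [hbb]
    have hbx : b₀ * x * b₀⁻¹ = x * z := by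
      have h1 : b₀ * x = x * b₀ * z := by
        calc b₀ * x = (b₀ * x * z) * z := by rw [mul_assoc (b₀ * x), hzz, mul_one]
          _ = x * b₀ * z := by rw [← hxbz]
      calc b₀ * x * b₀⁻¹ = (x * b₀ * z) * b₀⁻¹ := by rw [h1]
        _ = x * (b₀ * z) * b₀⁻¹ := by group
        _ = x * (z * b₀) * b₀⁻¹ := by rw [hzb]
        _ = x * z := by group
    have hzw : z * w = w * z := hzc w hwO
    have hcx : (w⁻¹ * b₀) * x = x * (w⁻¹ * b₀) := by
      have h1 : w⁻¹ * (x * z) * w = x := by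
        have : w⁻¹ * (w * x * w⁻¹) * w = x := by group
        rw [hwx] at this; exact this
      have h2 : (w⁻¹ * b₀) * x * (w⁻¹ * b₀)⁻¹ = x := by
        calc (w⁻¹ * b₀) * x * (w⁻¹ * b₀)⁻¹ = w⁻¹ * (b₀ * x * b₀⁻¹) * w := by group
          _ = w⁻¹ * (x * z) * w := by rw [hbx]
          _ = x := h1
      calc (w⁻¹ * b₀) * x = ((w⁻¹ * b₀) * x * (w⁻¹ * b₀)⁻¹) * (w⁻¹ * b₀) := by group
        _ = x * (w⁻¹ * b₀) := by rw [h2]
    have hcB : w⁻¹ * b₀ ∈ B := B.mul_mem (B.inv_mem hwB) hb₀B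
    have hcc := hcentral _ hcB hcx
    have hww : w * w = z := by
      rcases hcen _ (hBO hcB) hcc with h | h
      · have : b₀ = w := by
          calc b₀ = w * (w⁻¹ * b₀) := by group
            _ = w := by rw [h, mul_one]
        rw [← this]; exact hbb
      · have : b₀ = w * z := by
          calc b₀ = w * (w⁻¹ * b₀) := by group
            _ = w * z := by rw [h]
        calc w * w = (w * w) * (z * z) := by rw [hzz, mul_one]
          _ = w * (w * z) * z := by group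
          _ = w * (z * w) * z := by rw [hzw]
          _ = (w * z) * (w * z) := by group
          _ = b₀ * b₀ := by rw [← this]
          _ = z := hbb
    have ha4 : a ^ 2 ^ 2 = z := by
      have : a ^ 2 ^ 2 = (a ^ 2) * (a ^ 2) := by
        rw [show (2 : ℕ) ^ 2 = 2 + 2 by norm_num, pow_add]
      rw [this, ← hw]; exact hww
    have ha8 : a ^ 2 ^ (2 + 1) = 1 := by
      have : a ^ 2 ^ (2 + 1) = (a ^ 2 ^ 2) * (a ^ 2 ^ 2) := by
        rw [show (2 : ℕ) ^ (2 + 1) = 2 ^ 2 + 2 ^ 2 by norm_num, pow_add]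
      rw [this, ha4]; exact hzz
    have hord : orderOf a = 2 ^ (2 + 1) :=
      orderOf_eq_prime_pow (by rw [ha4]; exact hz1) ha8
    apply hAnc
    apply isCyclic_of_orderOf_eq_card (⟨a, haA⟩ : ↥A₀)
    rw [Subgroup.orderOf_mk, hord, hA8]; norm_num

end Cfsg.Agent.Lib.Helper8.SmTwo
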