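import Mathlib
import Cfsg.Agent.Lib.Helper7.SmTwoPUa
import Cfsg.Agent.Lib.Helper2.SmTwoPT
import Cfsg.Agent.Lib.Helper9.SmTwoPQb

set_option autoImplicit false

/-! S4409, package PU (exact stub signature). -/

namespace Cfsg.Agent.Lib.Helper8.SmTwo

universe u

variable {G : Type u} [Group G]

theorem small_of_na8_self_centralizing [Finite G] (O T : Subgroup G) (hT : IsPGroup 2 T)
    (hO : IsNA8 O) (hOT : O ≤ T) (hn : T ≤ Subgroup.normalizer (O : Set G))
    (hc : T ⊓ Subgroup.centralizer (O : Set G) ≤ O) : Small T :=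
  pu_small_of O T hO hOT hn hc (fun t ht h => na8_inner O hO t ht h) (na8_aut_two O T hO hT hn)

end Cfsg.Agent.Lib.Helper8.SmTwo
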