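import Mathlib

set_option autoImplicit false

namespace Cfsg.Agent.Lib.Helper7

set_option maxRecDepth 100000 in
theorem a5_pow_cases : ∀ σ : alternatingGroup (Fin 5), σ ^ 2 = 1 ∨ σ ^ 3 = 1 ∨ σ ^ 5 = 1 := by
  decide

theorem a5_orderOf (σ : alternatingGroup (Fin 5)) :
    orderOf σ = 1 ∨ orderOf σ = 2 ∨ orderOf σ = 3 ∨ orderOf σ = 5 := by
  rcases a5_pow_cases σ with h | h | h
  · have := orderOf_dvd_of_pow_eq_one h
    rcases (Nat.dvd_prime Nat.prime_two).mp this with h1 | h1
    · exact Or.inl h1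
    · exact Or.inr (Or.inl h1)
  · have := orderOf_dvd_of_pow_eq_one h
    rcases (Nat.dvd_prime Nat.prime_three).mp this with h1 | h1
    · exact Or.inl h1
    · exact Or.inr (Or.inr (Or.inl h1))
  · have := orderOf_dvd_of_pow_eq_one h
    rcases (Nat.dvd_prime Nat.prime_five).mp this with h1 | h1
    · exact Or.inl h1
    · exact Or.inr (Or.inr (Or.inr h1))

/-- an element of order 2 -/
def a5c2 : alternatingGroup (Fin 5) :=
  ⟨Equiv.swap 0 1 * Equiv.swap 2 3, by rw [Equiv.Perm.mem_alternatingGroup]; decide⟩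

/-- an element of order 3 -/
def a5c3 : alternatingGroup (Fin 5) :=
  ⟨Equiv.swap 0 1 * Equiv.swap 1 2, by rw [Equiv.Perm.mem_alternatingGroup]; decide⟩

/-- an element of order 5 -/
def a5c5 : alternatingGroup (Fin 5) :=
  ⟨finRotate 5, by rw [Equiv.Perm.mem_alternatingGroup]; decide⟩

theorem orderOf_a5c2 : orderOf a5c2 = 2 := by
  haveI : Fact (Nat.Prime 2) := ⟨Nat.prime_two⟩
  apply orderOf_eq_prime
  · decide
  · decide

theorem orderOf_a5c3 : orderOf a5c3 = 3 := by
  haveI : Fact (Nat.Prime 3) := ⟨Nat.prime_three⟩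
  apply orderOf_eq_prime
  · decide
  · decide

theorem orderOf_a5c5 : orderOf a5c5 = 5 := by
  haveI : Fact (Nat.Prime 5) := ⟨Nat.prime_five⟩
  apply orderOf_eq_prime
  · decide
  · decide

end Cfsg.Agent.Lib.Helper7
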