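import Mathlib
import Cfsg.Agent.Lib.Helper7.A5Orders

set_option autoImplicit false

namespace Cfsg.Agent.Lib.Helper7.A5Deg

open Cfsg.Agent.Lib.Helper7

set_option maxRecDepth 1000000 in
theorem a5_class_reps : ∀ σ : alternatingGroup (Fin 5),
    (∃ x : alternatingGroup (Fin 5), x * 1 * x⁻¹ = σ) ∨
    (∃ x : alternatingGroup (Fin 5), x * a5c2 * x⁻¹ = σ) ∨
    (∃ x : alternatingGroup (Fin 5), x * a5c3 * x⁻¹ = σ) ∨
    (∃ x : alternatingGroup (Fin 5), x * a5c5 * x⁻¹ = σ) ∨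
    (∃ x : alternatingGroup (Fin 5), x * (a5c5 * a5c5) * x⁻¹ = σ) := by
  decide

end Cfsg.Agent.Lib.Helper7.A5Deg
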