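import Mathlib
import Cfsg.Prelude.Def_DegreeGraph
import Cfsg.Agent.Lib.Helper7.A5Deg1
import Cfsg.Agent.Lib.Helper1.CharFound4
import Cfsg.Agent.Lib.Helper8.PC6
import Cfsg.Agent.Lib.Helper8.Deflation
import Cfsg.Agent.Lib.Helper8.LinearCount

set_option autoImplicit false

namespace Cfsg.Agent.Lib.Helper7.A5Deg

open Cfsg.Agent.Lib.Helper7 Cfsg.Agent.Lib.Helper1 Cfsg.Agent.Lib.Helper8
open scoped commutatorElement

theorem card_conjClasses_le : Nat.card (ConjClasses (alternatingGroup (Fin 5))) ≤ 5 := by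
  let reps : Fin 5 → alternatingGroup (Fin 5) := ![1, a5c2, a5c3, a5c5, a5c5 * a5c5]
  have hsurj : Function.Surjective (fun i => ConjClasses.mk (reps i)) := by
    intro c
    obtain ⟨σ, rfl⟩ := ConjClasses.mk_surjective c
    rcases a5_class_reps σ with ⟨x, hx⟩ | ⟨x, hx⟩ | ⟨x, hx⟩ | ⟨x, hx⟩ | ⟨x, hx⟩
    · exact ⟨0, ConjClasses.mk_eq_mk_iff_isConj.mpr (isConj_iff.mpr ⟨x, hx⟩)⟩
    · exact ⟨1, ConjClasses.mk_eq_mk_iff_isConj.mpr (isConj_iff.mpr ⟨x, hx⟩)⟩
    · exact ⟨2, ConjClasses.mk_eq_mk_iff_isConj.mpr (isConj_iff.mpr ⟨x, hx⟩)⟩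
    · exact ⟨3, ConjClasses.mk_eq_mk_iff_isConj.mpr (isConj_iff.mpr ⟨x, hx⟩)⟩
    · exact ⟨4, ConjClasses.mk_eq_mk_iff_isConj.mpr (isConj_iff.mpr ⟨x, hx⟩)⟩
  have := Nat.card_le_card_of_surjective _ hsurj
  simpa using this

theorem a5_noncomm : ∃ a b : alternatingGroup (Fin 5), a * b ≠ b * a := by decide

theorem a5_commutator : commutator (alternatingGroup (Fin 5)) = ⊤ := by
  haveI := alternatingGroup.isSimpleGroup_five
  rcases (inferInstance : (commutator (alternatingGroup (Fin 5))).Normal).eq_bot_or_eq_top with h | h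
  · exfalso
    obtain ⟨a, b, hab⟩ := a5_noncomm
    apply hab
    have h1 : ⁅a, b⁆ ∈ commutator (alternatingGroup (Fin 5)) :=
      Subgroup.commutator_mem_commutator (Subgroup.mem_top a) (Subgroup.mem_top b)
    rw [h, Subgroup.mem_bot] at h1
    exact commutatorElement_eq_one_iff_mul_comm.mp h1
  · exact h

/-- `A₅` has an irreducible character of degree divisible by `5`. -/
theorem exists_degree_five :
    ∃ χ : Cfsg.IrrCharacter (alternatingGroup (Fin 5)),
      5 ∣ Cfsg.charDegree (χ : alternatingGroup (Fin 5) → ℂ) := by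
  classical
  by_contra hcon
  push Not at hcon
  set A := alternatingGroup (Fin 5) with hA
  haveI : Fintype (Cfsg.IrrCharacter A) := Fintype.ofFinite _
  set d : Cfsg.IrrCharacter A → ℕ := fun χ => Cfsg.charDegree (χ : A → ℂ) with hd
  have hcardA : Nat.card A = 60 := by
    rw [hA, nat_card_alternatingGroup]
    simp [Nat.factorial]
  have hsum : ∑ χ : Cfsg.IrrCharacter A, d χ ^ 2 = 60 := by
    rw [← hcardA]
    exact sum_charDegree_sq A
  have hcardI : Fintype.card (Cfsg.IrrCharacter A) ≤ 5 := by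
    rw [← Nat.card_eq_fintype_card, card_irr_eq_card_conjClasses]
    exact card_conjClasses_le
  have hdvals : ∀ χ, d χ ∈ ({1, 2, 3, 4, 6} : Finset ℕ) := by
    intro χ
    have h1 : d χ ∣ 60 := by
      rw [← hcardA]; exact charDegree_dvd_card χ.2
    have h2 : ¬ 5 ∣ d χ := hcon χ
    have h3 : d χ ∣ 12 := by
      have hc : Nat.Coprime (d χ) 5 :=
        (Nat.Coprime.symm ((Nat.Prime.coprime_iff_not_dvd Nat.prime_five).mpr h2))
      exact hc.dvd_of_dvd_mul_right (by simpa using h1)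
    have h4 : d χ ^ 2 ≤ 60 := by
      rw [← hsum]
      exact Finset.single_le_sum (f := fun χ => d χ ^ 2) (fun _ _ => Nat.zero_le _)
        (Finset.mem_univ χ)
    have h5 : d χ ≤ 7 := by
      by_contra hlt
      push Not at hlt
      have : 8 ^ 2 ≤ d χ ^ 2 := Nat.pow_le_pow_left hlt 2
      omega
    have h6 : 0 < d χ := (irr_apply_one_eq_charDegree χ.2).2
    interval_cases h : d χ <;> simp_all
  -- counts
  set a : ℕ → ℕ := fun k => (Finset.univ.filter (fun χ => d χ = k)).card with ha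
  have hsum2 : ∑ χ : Cfsg.IrrCharacter A, d χ ^ 2 =
      ∑ k ∈ ({1, 2, 3, 4, 6} : Finset ℕ), a k * k ^ 2 := by
    rw [← Finset.sum_fiberwise_of_maps_to (s := Finset.univ) (t := ({1, 2, 3, 4, 6} : Finset ℕ))
      (g := d) (fun χ _ => hdvals χ)]
    refine Finset.sum_congr rfl fun k _ => ?_
    rw [ha]
    simp only
    rw [Finset.card_eq_sum_ones, Finset.sum_mul]
    refine Finset.sum_congr rfl fun χ hχ => ?_
    rw [(Finset.mem_filter.mp hχ).2, one_mul]
  have hcount : Fintype.card (Cfsg.IrrCharacter A) =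
      ∑ k ∈ ({1, 2, 3, 4, 6} : Finset ℕ), a k := by
    rw [← Finset.card_univ]
    exact Finset.card_eq_sum_card_fiberwise (fun χ _ => hdvals χ)
  have ha1 : a 1 = 1 := by
    have h1 := card_linear_irr (G := A)
    rw [a5_commutator, Subgroup.index_top] at h1
    have h3 : a 1 = Nat.card {χ : Cfsg.IrrCharacter A // (χ : A → ℂ) 1 = 1} := by
      rw [Nat.card_eq_fintype_card, Fintype.card_subtype]
      apply congrArg Finset.card
      ext χ
      simp only [Finset.mem_filter, Finset.mem_univ, true_and]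
      have h2 := (irr_apply_one_eq_charDegree χ.2).1
      constructor
      · intro h
        have h' : Cfsg.charDegree (χ : A → ℂ) = 1 := h
        rw [h2, h']; simp
      · intro h
        rw [h2] at h
        have : Cfsg.charDegree (χ : A → ℂ) = 1 := by exact_mod_cast h
        exact this
    exact h3.trans h1
  rw [hsum2] at hsum
  rw [hcount] at hcardI
  have e1 : ∑ k ∈ ({1, 2, 3, 4, 6} : Finset ℕ), a k * k ^ 2 =
      a 1 * 1 ^ 2 + (a 2 * 2 ^ 2 + (a 3 * 3 ^ 2 + (a 4 * 4 ^ 2 + a 6 * 6 ^ 2))) := by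
    rw [Finset.sum_insert (by decide), Finset.sum_insert (by decide), Finset.sum_insert (by decide),
      Finset.sum_insert (by decide), Finset.sum_singleton]
  have e2 : ∑ k ∈ ({1, 2, 3, 4, 6} : Finset ℕ), a k = a 1 + (a 2 + (a 3 + (a 4 + a 6))) := by
    rw [Finset.sum_insert (by decide), Finset.sum_insert (by decide), Finset.sum_insert (by decide),
      Finset.sum_insert (by decide), Finset.sum_singleton]
  rw [e1] at hsum
  rw [e2] at hcardI
  omega

end Cfsg.Agent.Lib.Helper7.A5Deg
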