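import Mathlib
import Cfsg.Agent.Lib.Helper5.AltOrders

set_option autoImplicit false

namespace Cfsg.Agent.Lib.Helper7

open Cfsg.Agent.Lib.Helper5

theorem a6_forward : ∀ l ∈ partsAux 6 6 6, (l.sum + l.length) % 2 = 0 → listLcm l ∈ [1, 2, 3, 4, 5] := by
  decide

theorem a6_backward : ∀ k ∈ [1, 2, 3, 4, 5], ∃ l ∈ partsAux 6 6 6, listLcm l = k ∧
    (l.sum + l.length) % 2 = 0 ∧ l.sum ≤ 6 ∧ ∀ a ∈ l, 2 ≤ a := by
  decide

/-- the spectrum of `A₆` -/
theorem a6_spectrum : Set.range (orderOf : alternatingGroup (Fin 6) → ℕ) = {1, 2, 3, 4, 5} := by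
  ext k
  rw [mem_range_orderOf_alternatingGroup_iff_list]
  have hspec : k ∈ ({1, 2, 3, 4, 5} : Set ℕ) ↔ k ∈ [1, 2, 3, 4, 5] := by simp
  rw [hspec]
  constructor
  · rintro ⟨l, hl, rfl, hev, -, -⟩
    exact a6_forward l hl hev
  · intro hk
    exact a6_backward k hk

end Cfsg.Agent.Lib.Helper7
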