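import Mathlib

set_option autoImplicit false

/-! Subgroups of order `2520` of the automorphism group of a four-dimensional space over the
field with two elements: basic counting. -/

namespace Cfsg.Agent.Lib.Helper7.A7GL

open MulAction

section basics

variable {F V : Type*} [Field F] [AddCommGroup V] [Module F V]

/-- the fixed space of an automorphism -/
def fixS (g : (Module.End F V)ˣ) : Submodule F V := LinearMap.ker ((g : Module.End F V) - 1)

theorem mem_fixS (g : (Module.End F V)ˣ) (x : V) : x ∈ fixS g ↔ (g : Module.End F V) x = x := by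
  unfold fixS
  rw [LinearMap.mem_ker, LinearMap.sub_apply, Module.End.one_apply, sub_eq_zero]

theorem smul_eq (g : (Module.End F V)ˣ) (x : V) : g • x = (g : Module.End F V) x := rfl

theorem mul_apply' (g h : (Module.End F V)ˣ) (x : V) :
    ((g * h : (Module.End F V)ˣ) : Module.End F V) x = (g : Module.End F V) ((h : Module.End F V) x) := by
  rw [Units.val_mul]; rfl

theorem inv_apply_self' (g : (Module.End F V)ˣ) (x : V) :
    ((g⁻¹ : (Module.End F V)ˣ) : Module.End F V) ((g : Module.End F V) x) = x := by
  rw [← mul_apply', inv_mul_cancel]; rfl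

theorem apply_inv_self' (g : (Module.End F V)ˣ) (x : V) :
    (g : Module.End F V) (((g⁻¹ : (Module.End F V)ˣ) : Module.End F V) x) = x := by
  rw [← mul_apply', mul_inv_cancel]; rfl

theorem apply_injective (g : (Module.End F V)ˣ) : Function.Injective (g : Module.End F V) := by
  intro x y h
  have := congrArg ((g⁻¹ : (Module.End F V)ˣ) : Module.End F V) h
  rwa [inv_apply_self', inv_apply_self'] at this

theorem apply_ne_zero (g : (Module.End F V)ˣ) {x : V} (hx : x ≠ 0) : (g : Module.End F V) x ≠ 0 := by
  intro h
  apply hx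
  apply apply_injective g
  rw [h, map_zero]

theorem eq_one_of_forall (g : (Module.End F V)ˣ) (h : ∀ x, (g : Module.End F V) x = x) : g = 1 := by
  apply Units.ext
  apply LinearMap.ext
  intro x
  rw [h x]; rfl

theorem pow_apply_of_fixed (g : (Module.End F V)ˣ) {x : V} (h : (g : Module.End F V) x = x) (k : ℕ) :
    ((g ^ k : (Module.End F V)ˣ) : Module.End F V) x = x := by
  induction k with
  | zero => rfl
  | succ k ih => rw [pow_succ, mul_apply', h, ih]

end basics

section counting

variable {F V : Type*} [Field F] [AddCommGroup V] [Module F V] [Finite V]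

theorem card_submodule_dvd (W : Submodule F V) : Nat.card W ∣ Nat.card V :=
  ⟨_, Submodule.card_eq_card_quotient_mul_card W⟩

theorem card_ker_mul_card_range (f : Module.End F V) :
    Nat.card (LinearMap.ker f) * Nat.card (LinearMap.range f) = Nat.card V := by
  rw [Submodule.card_eq_card_quotient_mul_card (LinearMap.ker f),
    Nat.card_congr f.quotKerEquivRange.toEquiv]

theorem card_submodule_cases (hV : Nat.card V = 16) (W : Submodule F V) :
    Nat.card W = 1 ∨ Nat.card W = 2 ∨ Nat.card W = 4 ∨ Nat.card W = 8 ∨ Nat.card W = 16 := by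
  have h := card_submodule_dvd W
  rw [hV] at h
  have hle : Nat.card W ≤ 16 := Nat.le_of_dvd (by norm_num) h
  interval_cases (Nat.card W) <;> simp_all

/-- the fixed points of the cyclic group generated by `g` -/
theorem fixedPoints_zpowers (g : (Module.End F V)ˣ) :
    fixedPoints (Subgroup.zpowers g) V = (fixS g : Set V) := by
  ext x
  rw [mem_fixedPoints, SetLike.mem_coe, mem_fixS]
  constructor
  · intro h
    exact h ⟨g, Subgroup.mem_zpowers g⟩
  · intro h
    rintro ⟨k, hk⟩
    have hst : g ∈ stabilizer (Module.End F V)ˣ x := h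
    exact (Subgroup.zpowers_le.mpr hst) hk

/-- counting fixed points of an element of prime order -/
theorem card_modEq_card_fixS (g : (Module.End F V)ˣ) (p : ℕ) [hp : Fact p.Prime] (hg : g ^ p = 1) :
    Nat.card V ≡ Nat.card (fixS g) [MOD p] := by
  have hP : IsPGroup p (Subgroup.zpowers g) := by
    by_cases h1 : g = 1
    · apply IsPGroup.of_card (n := 0)
      rw [Nat.card_zpowers, h1, orderOf_one, pow_zero]
    · apply IsPGroup.of_card (n := 1)
      rw [Nat.card_zpowers, pow_one]
      exact orderOf_eq_prime hg h1
  have := hP.card_modEq_card_fixedPoints V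
  rw [fixedPoints_zpowers] at this
  exact this

theorem zero_mem_fixS (g : (Module.End F V)ˣ) : (0 : V) ∈ fixS g := Submodule.zero_mem _

theorem fixS_eq_top_iff (g : (Module.End F V)ˣ) : Nat.card (fixS g) = Nat.card V ↔ g = 1 := by
  constructor
  · intro h
    apply eq_one_of_forall
    intro x
    rw [← mem_fixS]
    have : (fixS g : Set V) = Set.univ := by
      apply Set.eq_of_subset_of_ncard_le (Set.subset_univ _)
      rw [Set.ncard_univ, ← h]
      exact le_of_eq (Nat.card_coe_set_eq _).symm
    have hx : x ∈ (fixS g : Set V) := by rw [this]; trivial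
    exact hx
  · rintro rfl
    have : fixS (1 : (Module.End F V)ˣ) = ⊤ := by
      ext x
      rw [mem_fixS]
      simp
    rw [this]
    exact Nat.card_congr (Submodule.topEquiv (R := F) (M := V)).toEquiv

/-- an element of order `7` has exactly one non-zero fixed point -/
theorem card_fixS_seven (hV : Nat.card V = 16) (g : (Module.End F V)ˣ) (hg : g ^ 7 = 1) (h1 : g ≠ 1) :
    Nat.card (fixS g) = 2 := by
  haveI : Fact (Nat.Prime 7) := ⟨by norm_num⟩
  have h := card_modEq_card_fixS g 7 hg
  rw [hV] at h
  have hne : Nat.card (fixS g) ≠ 16 := by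
    intro h16
    exact h1 ((fixS_eq_top_iff g).mp (by rw [h16, hV]))
  rcases card_submodule_cases hV (fixS g) with h' | h' | h' | h' | h' <;> rw [h'] at h hne
  · exact absurd h (by decide)
  · exact h'
  · exact absurd h (by decide)
  · exact absurd h (by decide)
  · exact absurd rfl hne

/-- an element of order `5` has no non-zero fixed point -/
theorem card_fixS_five (hV : Nat.card V = 16) (g : (Module.End F V)ˣ) (hg : g ^ 5 = 1) (h1 : g ≠ 1) :
    Nat.card (fixS g) = 1 := by
  haveI : Fact (Nat.Prime 5) := ⟨by norm_num⟩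
  have h := card_modEq_card_fixS g 5 hg
  rw [hV] at h
  have hne : Nat.card (fixS g) ≠ 16 := by
    intro h16
    exact h1 ((fixS_eq_top_iff g).mp (by rw [h16, hV]))
  rcases card_submodule_cases hV (fixS g) with h' | h' | h' | h' | h' <;> rw [h'] at h hne
  · exact h'
  · exact absurd h (by decide)
  · exact absurd h (by decide)
  · exact absurd h (by decide)
  · exact absurd rfl hne

theorem eq_zero_of_fixed_five (hV : Nat.card V = 16) (g : (Module.End F V)ˣ) (hg : g ^ 5 = 1)
    (h1 : g ≠ 1) (x : V) (hx : (g : Module.End F V) x = x) : x = 0 := by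
  have hc := card_fixS_five hV g hg h1
  have hsub : Subsingleton (fixS g) := (Nat.card_eq_one_iff_unique.mp hc).1
  have := Subsingleton.elim (⟨x, (mem_fixS g x).mpr hx⟩ : fixS g) ⟨0, zero_mem_fixS g⟩
  exact congrArg Subtype.val this

/-- two non-zero fixed points of an element of order `7` are equal -/
theorem eq_of_fixed_seven (hV : Nat.card V = 16) (g : (Module.End F V)ˣ) (hg : g ^ 7 = 1)
    (h1 : g ≠ 1) (x y : V) (hx : (g : Module.End F V) x = x) (hy : (g : Module.End F V) y = y)
    (hx0 : x ≠ 0) (hy0 : y ≠ 0) : x = y := by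
  have hc := card_fixS_seven hV g hg h1
  obtain ⟨w, -, hw⟩ := (Nat.card_eq_two_iff' (⟨0, zero_mem_fixS g⟩ : fixS g)).mp hc
  have e1 := hw ⟨x, (mem_fixS g x).mpr hx⟩ (fun h => hx0 (congrArg Subtype.val h))
  have e2 := hw ⟨y, (mem_fixS g y).mpr hy⟩ (fun h => hy0 (congrArg Subtype.val h))
  exact congrArg Subtype.val (e1.trans e2.symm)

end counting

end Cfsg.Agent.Lib.Helper7.A7GL
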