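import Mathlib
import Cfsg.Agent.Lib.Helper7.A7GL1

set_option autoImplicit false

/-! Subgroups of order `2520` of the automorphism group of a four-dimensional space over the
field with two elements: orbits, transitivity. -/

namespace Cfsg.Agent.Lib.Helper7.A7GL

open MulAction

section orbits

variable {F V : Type*} [Field F] [AddCommGroup V] [Module F V] [Finite V]

local notation "U" => (Module.End F V)ˣ

/-- the stabilizer of a point in a subgroup, as a subgroup of the whole group -/
def stab (K : Subgroup U) (x : V) : Subgroup U := K ⊓ stabilizer U x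

theorem mem_stab (K : Subgroup U) (x : V) (g : U) :
    g ∈ stab K x ↔ g ∈ K ∧ (g : Module.End F V) x = x := by
  unfold stab
  rw [Subgroup.mem_inf, mem_stabilizer_iff]
  rfl

theorem mem_orbit_iff' (K : Subgroup U) (x y : V) :
    y ∈ orbit K x ↔ ∃ g ∈ K, (g : Module.End F V) x = y := by
  constructor
  · rintro ⟨g, rfl⟩
    exact ⟨g.1, g.2, rfl⟩
  · rintro ⟨g, hg, rfl⟩
    exact ⟨⟨g, hg⟩, rfl⟩

theorem ncard_orbit_mul_card_stab (K : Subgroup U) [Finite K] (x : V) :
    (orbit K x).ncard * Nat.card (stab K x) = Nat.card K := by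
  classical
  have h1 : Nat.card (stabilizer K x) = Nat.card (stab K x) := by
    have e : (stabilizer K x).map K.subtype = stab K x := by
      ext g
      rw [Subgroup.mem_map, mem_stab]
      constructor
      · rintro ⟨k, hk, rfl⟩
        exact ⟨k.2, hk⟩
      · rintro ⟨hg, hx⟩
        exact ⟨⟨g, hg⟩, hx, rfl⟩
    rw [← e, Subgroup.card_map_of_injective K.subtype_injective]
  have h2 : (orbit K x).ncard = (stabilizer K x).index := (index_stabilizer K x).symm
  rw [h2, ← h1, mul_comm]
  exact Subgroup.card_mul_index _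

/-- counting the points of an orbit modulo `p` through an element of order `p` -/
theorem ncard_orbit_modEq (K : Subgroup U) (x : V) (g : U) (hgK : g ∈ K) (p : ℕ)
    [hp : Fact p.Prime] (hg : g ^ p = 1) :
    (orbit K x).ncard ≡ (orbit K x ∩ (fixS g : Set V)).ncard [MOD p] := by
  let g' : K := ⟨g, hgK⟩
  have hg' : g' ^ p = 1 := Subtype.ext (by rw [Subgroup.coe_pow, Subgroup.coe_one]; exact hg)
  have hP : IsPGroup p (Subgroup.zpowers g') := by
    by_cases h1 : g' = 1
    · apply IsPGroup.of_card (n := 0)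
      rw [Nat.card_zpowers, h1, orderOf_one, pow_zero]
    · apply IsPGroup.of_card (n := 1)
      rw [Nat.card_zpowers, pow_one]
      exact orderOf_eq_prime hg' h1
  have h := hP.card_modEq_card_fixedPoints (orbit K x)
  have e1 : Nat.card (orbit K x) = (orbit K x).ncard := Nat.card_coe_set_eq _
  have e2 : Nat.card (fixedPoints (Subgroup.zpowers g') (orbit K x)) =
      (orbit K x ∩ (fixS g : Set V)).ncard := by
    rw [← Nat.card_coe_set_eq]
    apply Nat.card_congr
    refine ⟨fun y => ⟨y.1.1, y.1.2, ?_⟩, fun y => ⟨⟨y.1, y.2.1⟩, ?_⟩, ?_, ?_⟩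
    · have := y.2 ⟨g', Subgroup.mem_zpowers g'⟩
      have h2 : (g : Module.End F V) y.1.1 = y.1.1 := congrArg Subtype.val this
      exact (mem_fixS g _).mpr h2
    · rintro ⟨k, hk⟩
      have hst : g' ∈ stabilizer K (⟨y.1, y.2.1⟩ : orbit K x) := by
        rw [mem_stabilizer_iff]
        apply Subtype.ext
        exact (mem_fixS g _).mp y.2.2
      exact (Subgroup.zpowers_le.mpr hst) hk
    · intro y; rfl
    · intro y; rfl
  rw [e1, e2] at h
  exact h

theorem exists_prime_order (K : Subgroup U) [Finite K] (p : ℕ) [hp : Fact p.Prime]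
    (hd : p ∣ Nat.card K) : ∃ g ∈ K, g ^ p = 1 ∧ g ≠ 1 := by
  obtain ⟨g, hg⟩ := exists_prime_orderOf_dvd_card' (G := K) p hd
  refine ⟨g.1, g.2, ?_, ?_⟩
  · have := pow_orderOf_eq_one g
    rw [hg] at this
    have h2 := congrArg Subtype.val this
    rwa [Subgroup.coe_pow, Subgroup.coe_one] at h2
  · intro h1
    have : g = 1 := Subtype.ext h1
    rw [this, orderOf_one] at hg
    exact hp.out.one_lt.ne hg

end orbits

section transitive

variable {F V : Type*} [Field F] [AddCommGroup V] [Module F V] [Finite V]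

local notation "U" => (Module.End F V)ˣ

theorem ncard_nonzero (hV : Nat.card V = 16) : ({y : V | y ≠ 0} : Set V).ncard = 15 := by
  have h : ({y : V | y ≠ 0} : Set V) = ({0} : Set V)ᶜ := by
    ext y; simp
  rw [h, Set.ncard_compl, Set.ncard_singleton, hV]

theorem orbit_subset_nonzero (K : Subgroup U) {x : V} (hx : x ≠ 0) :
    orbit K x ⊆ {y : V | y ≠ 0} := by
  intro y hy
  obtain ⟨g, -, rfl⟩ := (mem_orbit_iff' K x y).mp hy
  exact apply_ne_zero g hx

/-- a subgroup of order `2520` is transitive on the non-zero vectors -/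
theorem ncard_orbit_eq (hV : Nat.card V = 16) (H : Subgroup U) (hH : Nat.card H = 2520)
    {x : V} (hx : x ≠ 0) : (orbit H x).ncard = 15 := by
  haveI : Finite H := Nat.finite_of_card_ne_zero (by rw [hH]; norm_num)
  haveI : Fact (Nat.Prime 5) := ⟨by norm_num⟩
  haveI : Fact (Nat.Prime 7) := ⟨by norm_num⟩
  obtain ⟨g5, hg5H, hg5, hg51⟩ := exists_prime_order H 5 (by rw [hH]; norm_num)
  obtain ⟨g7, hg7H, hg7, hg71⟩ := exists_prime_order H 7 (by rw [hH]; norm_num)
  have hsub := orbit_subset_nonzero H hx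
  have hle : (orbit H x).ncard ≤ 15 := by
    rw [← ncard_nonzero hV]
    exact Set.ncard_le_ncard hsub (Set.toFinite _)
  have hpos : 0 < (orbit H x).ncard := by
    rw [Set.ncard_pos (Set.toFinite _)]
    exact ⟨x, mem_orbit_self x⟩
  have h5 := ncard_orbit_modEq H x g5 hg5H 5 hg5
  have h7 := ncard_orbit_modEq H x g7 hg7H 7 hg7
  have e5 : (orbit H x ∩ (fixS g5 : Set V)).ncard = 0 := by
    rw [Set.ncard_eq_zero (Set.toFinite _), Set.eq_empty_iff_forall_notMem]
    rintro y ⟨hy1, hy2⟩
    exact hsub hy1 (eq_zero_of_fixed_five hV g5 hg5 hg51 y ((mem_fixS g5 y).mp hy2))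
  have e7 : (orbit H x ∩ (fixS g7 : Set V)).ncard ≤ 1 := by
    rw [Set.ncard_le_one (Set.toFinite _)]
    rintro y ⟨hy1, hy2⟩ z ⟨hz1, hz2⟩
    exact eq_of_fixed_seven hV g7 hg7 hg71 y z ((mem_fixS g7 y).mp hy2) ((mem_fixS g7 z).mp hz2)
      (hsub hy1) (hsub hz1)
  rw [e5] at h5
  have h5' : (orbit H x).ncard % 5 = 0 := h5
  have h7' : (orbit H x).ncard % 7 = (orbit H x ∩ (fixS g7 : Set V)).ncard % 7 := h7
  generalize (orbit H x).ncard = n at *
  generalize (orbit H x ∩ (fixS g7 : Set V)).ncard = m at *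
  interval_cases n <;> interval_cases m <;> omega

theorem orbit_eq (hV : Nat.card V = 16) (H : Subgroup U) (hH : Nat.card H = 2520)
    {x : V} (hx : x ≠ 0) : orbit H x = {y : V | y ≠ 0} := by
  apply Set.eq_of_subset_of_ncard_le (orbit_subset_nonzero H hx)
  · rw [ncard_nonzero hV, ncard_orbit_eq hV H hH hx]

theorem exists_map (hV : Nat.card V = 16) (H : Subgroup U) (hH : Nat.card H = 2520)
    {x y : V} (hx : x ≠ 0) (hy : y ≠ 0) : ∃ g ∈ H, (g : Module.End F V) x = y := by
  rw [← mem_orbit_iff', orbit_eq hV H hH hx]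
  exact hy

theorem card_stab_eq (hV : Nat.card V = 16) (H : Subgroup U) (hH : Nat.card H = 2520)
    {x : V} (hx : x ≠ 0) : Nat.card (stab H x) = 168 := by
  haveI : Finite H := Nat.finite_of_card_ne_zero (by rw [hH]; norm_num)
  have h := ncard_orbit_mul_card_stab H x
  rw [ncard_orbit_eq hV H hH hx, hH] at h
  omega

end transitive

end Cfsg.Agent.Lib.Helper7.A7GL
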