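import Mathlib
import Cfsg.Agent.Lib.Helper7.A7GL2

set_option autoImplicit false

/-! Subgroups of order `2520` of the automorphism group of a four-dimensional space over the
field with two elements: the point stabilizers. -/

namespace Cfsg.Agent.Lib.Helper7.A7GL

open MulAction

section setstab

variable {F V : Type*} [Field F] [AddCommGroup V] [Module F V] [Finite V]

local notation "U" => (Module.End F V)ˣ

/-- the stabilizer of a subspace -/
def setStab (W : Submodule F V) : Subgroup U where
  carrier := {s | ∀ y, (s : Module.End F V) y ∈ W ↔ y ∈ W}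
  one_mem' := by intro y; rfl
  mul_mem' := by
    intro a b ha hb y
    rw [mul_apply']
    exact (ha _).trans (hb y)
  inv_mem' := by
    intro a ha y
    have := ha (((a⁻¹ : U) : Module.End F V) y)
    rw [apply_inv_self'] at this
    exact this.symm

theorem mem_setStab (W : Submodule F V) (s : U) :
    s ∈ setStab W ↔ ∀ y, (s : Module.End F V) y ∈ W ↔ y ∈ W := Iff.rfl

theorem mem_setStab_of_forall (W : Submodule F V) (s : U)
    (h : ∀ y ∈ W, (s : Module.End F V) y ∈ W) : s ∈ setStab W := by
  intro y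
  constructor
  · intro hy
    let f : W → W := fun z => ⟨(s : Module.End F V) z.1, h z.1 z.2⟩
    have hf : Function.Injective f := by
      intro z z' hzz
      apply Subtype.ext
      apply apply_injective s
      exact congrArg Subtype.val hzz
    obtain ⟨z, hz⟩ := (Finite.injective_iff_surjective.mp hf) ⟨_, hy⟩
    have : (s : Module.End F V) z.1 = (s : Module.End F V) y := congrArg Subtype.val hz
    rw [← apply_injective s this]
    exact z.2
  · exact h y

end setstab

section stabilizer

variable {F V : Type*} [Field F] [AddCommGroup V] [Module F V] [Finite V]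

local notation "U" => (Module.End F V)ˣ

theorem ncard_two_removed (hV : Nat.card V = 16) {v : V} (hv : v ≠ 0) :
    ({y : V | y ≠ 0 ∧ y ≠ v} : Set V).ncard = 14 := by
  have h : ({y : V | y ≠ 0 ∧ y ≠ v} : Set V) = ({0, v} : Set V)ᶜ := by
    ext y; simp
  rw [h, Set.ncard_compl, Set.ncard_pair hv.symm, hV]

theorem suborbit_subset (H : Subgroup U) {v w : V} (hw : w ≠ 0) (hwv : w ≠ v) :
    orbit (stab H v) w ⊆ {y : V | y ≠ 0 ∧ y ≠ v} := by
  intro y hy
  obtain ⟨g, hg, rfl⟩ := (mem_orbit_iff' _ w y).mp hy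
  refine ⟨apply_ne_zero g hw, ?_⟩
  intro h
  have hgv := ((mem_stab H v g).mp hg).2
  rw [← hgv] at h
  exact hwv (apply_injective g h)

/-- an element of order seven in the point stabilizer -/
theorem exists_seven (hV : Nat.card V = 16) (H : Subgroup U) (hH : Nat.card H = 2520)
    {v : V} (hv : v ≠ 0) :
    ∃ g ∈ stab H v, g ^ 7 = 1 ∧ g ≠ 1 ∧ ∀ y, (g : Module.End F V) y = y → y = 0 ∨ y = v := by
  haveI : Fact (Nat.Prime 7) := ⟨by norm_num⟩
  haveI : Finite (stab H v) :=
    Nat.finite_of_card_ne_zero (by rw [card_stab_eq hV H hH hv]; norm_num)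
  obtain ⟨g, hgS, hg7, hg1⟩ := exists_prime_order (stab H v) 7
    (by rw [card_stab_eq hV H hH hv]; norm_num)
  refine ⟨g, hgS, hg7, hg1, ?_⟩
  intro y hy
  by_cases hy0 : y = 0
  · exact Or.inl hy0
  · right
    exact eq_of_fixed_seven hV g hg7 hg1 y v hy ((mem_stab H v g).mp hgS).2 hy0 hv

theorem suborbit_ncard (hV : Nat.card V = 16) (H : Subgroup U) (hH : Nat.card H = 2520)
    {v w : V} (hv : v ≠ 0) (hw : w ≠ 0) (hwv : w ≠ v) :
    (orbit (stab H v) w).ncard = 7 ∨ (orbit (stab H v) w).ncard = 14 := by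
  haveI : Fact (Nat.Prime 7) := ⟨by norm_num⟩
  obtain ⟨g, hgS, hg7, hg1, hfix⟩ := exists_seven hV H hH hv
  have hsub := suborbit_subset H hw hwv
  have hle : (orbit (stab H v) w).ncard ≤ 14 := by
    rw [← ncard_two_removed hV hv]
    exact Set.ncard_le_ncard hsub (Set.toFinite _)
  have hpos : 0 < (orbit (stab H v) w).ncard := by
    rw [Set.ncard_pos (Set.toFinite _)]
    exact ⟨w, mem_orbit_self w⟩
  have h7 := ncard_orbit_modEq (stab H v) w g hgS 7 hg7
  have e7 : (orbit (stab H v) w ∩ (fixS g : Set V)).ncard = 0 := by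
    rw [Set.ncard_eq_zero (Set.toFinite _), Set.eq_empty_iff_forall_notMem]
    rintro y ⟨hy1, hy2⟩
    rcases hfix y ((mem_fixS g y).mp hy2) with h | h
    · exact (hsub hy1).1 h
    · exact (hsub hy1).2 h
  rw [e7] at h7
  have h7' : (orbit (stab H v) w).ncard % 7 = 0 := h7
  omega

/-- the point stabilizer preserves a complement of the point -/
def BadAt (H : Subgroup U) (v : V) : Prop :=
  ∃ W : Submodule F V, Nat.card W = 8 ∧ v ∉ W ∧
    ∀ g ∈ stab H v, ∀ y ∈ W, (g : Module.End F V) y ∈ W

theorem odd_pow_apply (g : U) (y : V)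
    (h : (g : Module.End F V) ((g : Module.End F V) y) = y) (k : ℕ) :
    ((g ^ (2 * k + 1) : U) : Module.End F V) y = (g : Module.End F V) y := by
  induction k with
  | zero => simp
  | succ k ih =>
    have e : 2 * (k + 1) + 1 = (2 * k + 1) + 1 + 1 := by ring
    rw [e, pow_succ, pow_succ, mul_apply', mul_apply', h, ih]

theorem bad_of_seven (hV : Nat.card V = 16) (h2 : ∀ x : V, x + x = 0) (H : Subgroup U)
    (hH : Nat.card H = 2520) {v w : V} (hv : v ≠ 0) (hw : w ≠ 0) (hwv : w ≠ v)
    (h7 : (orbit (stab H v) w).ncard = 7) : BadAt H v := by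
  obtain ⟨g, hgS, hg7, hg1, hfix⟩ := exists_seven hV H hH hv
  have hgv : (g : Module.End F V) v = v := ((mem_stab H v g).mp hgS).2
  have hneg : ∀ x : V, -x = x := fun x => neg_eq_of_add_eq_zero_left (h2 x)
  set E : Module.End F V := (g : Module.End F V) with hE
  set N : Module.End F V := E - 1 with hN
  have hNa : ∀ y, N y = E y + y := by
    intro y
    rw [hN, LinearMap.sub_apply, Module.End.one_apply, sub_eq_add_neg, hneg]
  set W : Submodule F V := LinearMap.range N with hW
  -- the cardinality
  have hker : LinearMap.ker N = fixS g := rfl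
  have hcardW : Nat.card W = 8 := by
    have := card_ker_mul_card_range N
    rw [hker, card_fixS_seven hV g hg7 hg1, hV] at this
    have h' : 2 * Nat.card W = 16 := this
    omega
  -- `v` is not in the range
  have hvW : v ∉ W := by
    rintro ⟨y, hy⟩
    have h1 : E y = y + v := by
      have := hNa y
      rw [hy] at this
      rw [this, add_comm (E y) y, ← add_assoc, h2, zero_add]
    have h3 : E (E y) = y := by
      rw [h1, map_add, h1, hgv, add_assoc, h2, add_zero]
    have h4 := odd_pow_apply g y h3 3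
    have h5 : ((g ^ (2 * 3 + 1) : U) : Module.End F V) y = y := by
      rw [show 2 * 3 + 1 = 7 from rfl, hg7]; rfl
    rw [h5] at h4
    have h6 : N y = 0 := by
      rw [hNa y, ← h4, h2]
    rw [h6] at hy
    exact hv hy.symm
  -- the range is invariant under `g`
  have hgW : ∀ y ∈ W, E y ∈ W := by
    rintro y ⟨z, rfl⟩
    refine ⟨E z, ?_⟩
    rw [hNa, hNa, map_add]
  have hZW : Subgroup.zpowers g ≤ setStab W :=
    Subgroup.zpowers_le.mpr (mem_setStab_of_forall W g hgW)
  -- the translation vector
  obtain ⟨a, ha, hwa⟩ : ∃ a : V, (a = 0 ∨ a = v) ∧ w + a ∈ W := by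
    by_cases hwW : w ∈ W
    · exact ⟨0, Or.inl rfl, by rwa [add_zero]⟩
    · refine ⟨v, Or.inr rfl, ?_⟩
      have hq : Nat.card (V ⧸ W) = 2 := by
        have := Submodule.card_eq_card_quotient_mul_card W
        rw [hV, hcardW] at this
        omega
      obtain ⟨z, -, hz⟩ := (Nat.card_eq_two_iff' (0 : V ⧸ W)).mp hq
      have e1 := hz (Submodule.Quotient.mk w)
        (fun h => hwW ((Submodule.Quotient.mk_eq_zero W).mp h))
      have e2 := hz (Submodule.Quotient.mk v)
        (fun h => hvW ((Submodule.Quotient.mk_eq_zero W).mp h))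
      have e3 : (Submodule.Quotient.mk w : V ⧸ W) = Submodule.Quotient.mk v := e1.trans e2.symm
      rw [Submodule.Quotient.eq] at e3
      rwa [sub_eq_add_neg, hneg] at e3
  have hSa : ∀ s ∈ stab H v, (s : Module.End F V) a = a := by
    intro s hs
    rcases ha with h | h
    · rw [h]; exact map_zero _
    · rw [h]; exact ((mem_stab H v s).mp hs).2
  have hwa0 : w + a ≠ 0 := by
    intro h
    rcases ha with h' | h'
    · rw [h', add_zero] at h; exact hw h
    · rw [h'] at h
      have : w = -v := eq_neg_of_add_eq_zero_left h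
      rw [hneg] at this
      exact hwv this
  -- the translate of the non-zero vectors of the range
  set T : Set V := {x | x + a ∈ W ∧ x + a ≠ 0} with hT
  have hTcard : T.ncard = 7 := by
    have e : T = (fun y => y + a) '' {y : V | y ∈ W ∧ y ≠ 0} := by
      ext x
      constructor
      · rintro ⟨h1, h3⟩
        refine ⟨x + a, ⟨h1, h3⟩, ?_⟩
        show x + a + a = x
        rw [add_assoc, h2, add_zero]
      · rintro ⟨y, ⟨hy1, hy2⟩, rfl⟩
        show y + a + a ∈ W ∧ y + a + a ≠ 0
        rw [add_assoc, h2, add_zero]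
        exact ⟨hy1, hy2⟩
    rw [e, Set.ncard_image_of_injective _ (add_left_injective a)]
    have e2 : {y : V | y ∈ W ∧ y ≠ 0} = (W : Set V) \ {0} := by
      ext y; simp
    rw [e2, Set.ncard_diff (by simpa using W.zero_mem), Set.ncard_singleton,
      ← Nat.card_coe_set_eq]
    show Nat.card W - 1 = 7
    rw [hcardW]
  -- the orbit of the cyclic group
  have hZS : Subgroup.zpowers g ≤ stab H v := Subgroup.zpowers_le.mpr hgS
  have hZorb : (orbit (Subgroup.zpowers g) w).ncard = 7 := by
    haveI : Fact (Nat.Prime 7) := ⟨by norm_num⟩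
    have hcZ : Nat.card (Subgroup.zpowers g) = 7 := by
      rw [Nat.card_zpowers]; exact orderOf_eq_prime hg7 hg1
    haveI : Finite (Subgroup.zpowers g) := Nat.finite_of_card_ne_zero (by rw [hcZ]; norm_num)
    have h := ncard_orbit_mul_card_stab (Subgroup.zpowers g) w
    rw [hcZ] at h
    have hd : Nat.card (stab (Subgroup.zpowers g) w) ∣ 7 := ⟨_, by rw [← h, mul_comm]⟩
    rcases (Nat.dvd_prime (by norm_num : Nat.Prime 7)).mp hd with h1 | h1
    · rw [h1, mul_one] at h; exact h
    · exfalso
      have hle : stab (Subgroup.zpowers g) w ≤ Subgroup.zpowers g := inf_le_left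
      have heq : stab (Subgroup.zpowers g) w = Subgroup.zpowers g :=
        Subgroup.eq_of_le_of_card_ge hle (by rw [h1, hcZ])
      have hgm : g ∈ stab (Subgroup.zpowers g) w := by
        rw [heq]; exact Subgroup.mem_zpowers g
      have hgw := ((mem_stab _ w g).mp hgm).2
      rcases hfix w hgw with h | h
      · exact hw h
      · exact hwv h
  have hZT : orbit (Subgroup.zpowers g) w ⊆ T := by
    intro x hx
    obtain ⟨z, hz, rfl⟩ := (mem_orbit_iff' _ w x).mp hx
    have hza : (z : Module.End F V) a = a := hSa z (hZS hz)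
    have e : (z : Module.End F V) w + a = (z : Module.End F V) (w + a) := by
      rw [map_add, hza]
    refine ⟨?_, ?_⟩
    · rw [e]
      exact ((mem_setStab W z).mp (hZW hz) _).mpr hwa
    · rw [e]
      exact apply_ne_zero z hwa0
  have hZO : orbit (Subgroup.zpowers g) w ⊆ orbit (stab H v) w := by
    intro x hx
    obtain ⟨z, hz, rfl⟩ := (mem_orbit_iff' _ w x).mp hx
    exact (mem_orbit_iff' _ w _).mpr ⟨z, hZS hz, rfl⟩
  have e1 : orbit (Subgroup.zpowers g) w = T :=
    Set.eq_of_subset_of_ncard_le hZT (by rw [hTcard, hZorb])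
  have e2 : orbit (Subgroup.zpowers g) w = orbit (stab H v) w :=
    Set.eq_of_subset_of_ncard_le hZO (by rw [h7, hZorb])
  have hOT : orbit (stab H v) w = T := e2.symm.trans e1
  -- conclusion
  refine ⟨W, hcardW, hvW, ?_⟩
  intro s hs y hy
  by_cases hy0 : y = 0
  · rw [hy0, map_zero]; exact W.zero_mem
  · have hx : y + a ∈ T := by
      show y + a + a ∈ W ∧ y + a + a ≠ 0
      rw [add_assoc, h2, add_zero]
      exact ⟨hy, hy0⟩
    rw [← hOT] at hx
    obtain ⟨s', hs', hs'x⟩ := (mem_orbit_iff' _ w _).mp hx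
    have hsx : (s : Module.End F V) (y + a) ∈ orbit (stab H v) w := by
      rw [← hs'x, ← mul_apply']
      exact (mem_orbit_iff' _ w _).mpr ⟨s * s', Subgroup.mul_mem _ hs hs', rfl⟩
    rw [hOT] at hsx
    have := hsx.1
    rwa [map_add, hSa s hs, add_assoc, h2, add_zero] at this

/-- the dichotomy for the point stabilizer -/
theorem trans_or_bad (hV : Nat.card V = 16) (h2 : ∀ x : V, x + x = 0) (H : Subgroup U)
    (hH : Nat.card H = 2520) {v : V} (hv : v ≠ 0) :
    (∀ w w' : V, w ≠ 0 → w ≠ v → w' ≠ 0 → w' ≠ v →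
      ∃ g ∈ stab H v, (g : Module.End F V) w = w') ∨ BadAt H v := by
  by_cases h : ∃ w : V, w ≠ 0 ∧ w ≠ v ∧ (orbit (stab H v) w).ncard = 7
  · obtain ⟨w, hw, hwv, h7⟩ := h
    exact Or.inr (bad_of_seven hV h2 H hH hv hw hwv h7)
  · left
    push Not at h
    intro w w' hw hwv hw' hwv'
    have h14 : (orbit (stab H v) w).ncard = 14 := by
      rcases suborbit_ncard hV H hH hv hw hwv with h7 | h14
      · exact absurd h7 (h w hw hwv)
      · exact h14
    have heq : orbit (stab H v) w = {y : V | y ≠ 0 ∧ y ≠ v} :=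
      Set.eq_of_subset_of_ncard_le (suborbit_subset H hw hwv)
        (by rw [ncard_two_removed hV hv, h14])
    rw [← mem_orbit_iff', heq]
    exact ⟨hw', hwv'⟩

end stabilizer

end Cfsg.Agent.Lib.Helper7.A7GL
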