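import Mathlib
import Cfsg.Agent.Lib.Helper7.A7GL3

set_option autoImplicit false

/-! Subgroups of order `2520` of the automorphism group of a four-dimensional space over the
field with two elements are doubly transitive on the non-zero vectors. -/

namespace Cfsg.Agent.Lib.Helper7.A7GL

open MulAction

section final

variable {F V : Type*} [Field F] [AddCommGroup V] [Module F V] [Finite V]

local notation "U" => (Module.End F V)ˣ

/-- the bad configuration is transported by the elements of the group -/
theorem badAt_map (H : Subgroup U) {v : V} (hb : BadAt H v) (h : U) (hh : h ∈ H) :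
    BadAt H ((h : Module.End F V) v) := by
  obtain ⟨W, hW, hvW, hinv⟩ := hb
  refine ⟨W.map (h : Module.End F V), ?_, ?_, ?_⟩
  · rw [← hW]
    exact (Nat.card_congr
      (Submodule.equivMapOfInjective (h : Module.End F V) (apply_injective h) W).toEquiv).symm
  · rintro ⟨w, hw, hwv⟩
    have : w = v := apply_injective h hwv
    rw [this] at hw
    exact hvW hw
  · rintro g hg y ⟨w, hw, rfl⟩
    have hg' := (mem_stab H _ g).mp hg
    have hc : h⁻¹ * g * h ∈ stab H v := by
      rw [mem_stab]
      refine ⟨H.mul_mem (H.mul_mem (H.inv_mem hh) hg'.1) hh, ?_⟩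
      rw [mul_apply', mul_apply', hg'.2, inv_apply_self']
    have h3 := hinv _ hc w hw
    refine ⟨_, h3, ?_⟩
    rw [mul_apply', mul_apply', apply_inv_self']

/-- no point stabilizer preserves a complement of the point -/
theorem not_badAt (hV : Nat.card V = 16) (h2 : ∀ x : V, x + x = 0) (H : Subgroup U)
    (hH : Nat.card H = 2520) {v : V} (hv : v ≠ 0) : ¬ BadAt H v := by
  intro hb
  haveI : Finite H := Nat.finite_of_card_ne_zero (by rw [hH]; norm_num)
  haveI : Fact (Nat.Prime 2) := ⟨by norm_num⟩
  obtain ⟨t, htH, ht2, ht1⟩ := exists_prime_order H 2 (by rw [hH]; norm_num)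
  have hneg : ∀ x : V, -x = x := fun x => neg_eq_of_add_eq_zero_left (h2 x)
  have htt : ∀ y, (t : Module.End F V) ((t : Module.End F V) y) = y := by
    intro y
    rw [← mul_apply', ← pow_two, ht2]; rfl
  -- a non-zero commutator
  obtain ⟨z, hz⟩ : ∃ z, (t : Module.End F V) z ≠ z := by
    by_contra hcon
    push Not at hcon
    exact ht1 (eq_one_of_forall t hcon)
  set x : V := (t : Module.End F V) z + z with hx
  have hx0 : x ≠ 0 := by
    intro h
    apply hz
    have := eq_neg_of_add_eq_zero_left h
    rwa [hneg] at this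
  have htx : (t : Module.End F V) x = x := by
    rw [hx, map_add, htt, add_comm]
  obtain ⟨h, hhH, hhv⟩ := exists_map hV H hH hv hx0
  have hbx : BadAt H x := by
    rw [← hhv]; exact badAt_map H hb h hhH
  obtain ⟨W, hW, hxW, hinv⟩ := hbx
  have htS : t ∈ stab H x := (mem_stab H x t).mpr ⟨htH, htx⟩
  have hq : Nat.card (V ⧸ W) = 2 := by
    have := Submodule.card_eq_card_quotient_mul_card W
    rw [hV, hW] at this
    omega
  by_cases hzW : z ∈ W
  · apply hxW
    rw [hx]
    exact W.add_mem (hinv t htS z hzW) hzW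
  · obtain ⟨c, -, hc⟩ := (Nat.card_eq_two_iff' (0 : V ⧸ W)).mp hq
    have e1 := hc (Submodule.Quotient.mk z)
      (fun h => hzW ((Submodule.Quotient.mk_eq_zero W).mp h))
    have e2 := hc (Submodule.Quotient.mk x)
      (fun h => hxW ((Submodule.Quotient.mk_eq_zero W).mp h))
    have e3 : (Submodule.Quotient.mk z : V ⧸ W) = Submodule.Quotient.mk x := e1.trans e2.symm
    rw [Submodule.Quotient.eq] at e3
    rw [sub_eq_add_neg, hneg] at e3
    apply hxW
    have h5 := W.add_mem (hinv t htS _ e3) e3
    have h6 : (t : Module.End F V) (z + x) + (z + x) = x := by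
      rw [map_add, htx, add_add_add_comm, h2, add_zero]
    rwa [h6] at h5

/-- a subgroup of order `2520` is doubly transitive on the non-zero vectors -/
theorem two_transitive (hV : Nat.card V = 16) (h2 : ∀ x : V, x + x = 0) (H : Subgroup U)
    (hH : Nat.card H = 2520) (v w v' w' : V) (hv : v ≠ 0) (hw : w ≠ 0) (hvw : v ≠ w)
    (hv' : v' ≠ 0) (hw' : w' ≠ 0) (hvw' : v' ≠ w') :
    ∃ g ∈ H, (g : Module.End F V) v = v' ∧ (g : Module.End F V) w = w' := by
  obtain ⟨h, hhH, hhv⟩ := exists_map hV H hH hv hv'
  have hw2 : (h : Module.End F V) w ≠ 0 := apply_ne_zero h hw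
  have hw3 : (h : Module.End F V) w ≠ v' := by
    rw [← hhv]
    intro h'
    exact hvw (apply_injective h h').symm
  rcases trans_or_bad hV h2 H hH hv' with htr | hbad
  · obtain ⟨g, hg, hgw⟩ := htr _ w' hw2 hw3 hw' (Ne.symm hvw')
    have hg' := (mem_stab H v' g).mp hg
    refine ⟨g * h, H.mul_mem hg'.1 hhH, ?_, ?_⟩
    · rw [mul_apply', hhv, hg'.2]
    · rw [mul_apply', hgw]
  · exact absurd hbad (not_badAt hV h2 H hH hv')

end final

end Cfsg.Agent.Lib.Helper7.A7GL
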