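import Mathlib
import Cfsg.Agent.Lib.Helper7.A7GL4
import Cfsg.Agent.Lib.Helper7.AltMul2

set_option autoImplicit false

/-! The alternating group of degree seven inside the general linear group of degree four over
a field with two elements. -/

namespace Cfsg.Agent.Lib.Helper7.A7GL

open Matrix

/-- five matrices of order three with pairwise products of order two -/
def mats : Fin 5 → Matrix (Fin 4) (Fin 4) (ZMod 2) :=
  ![!![0,1,0,0; 1,1,0,0; 1,0,0,1; 1,1,1,1],
    !![0,1,1,0; 1,1,1,1; 0,0,0,1; 0,0,1,1],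
    !![0,0,1,0; 0,1,1,1; 1,0,1,0; 1,1,1,0],
    !![1,1,1,0; 0,0,1,1; 1,0,1,1; 1,1,0,0],
    !![1,0,1,0; 1,0,1,1; 1,0,0,0; 1,1,0,1]]

theorem mats_cube : ∀ i, mats i * (mats i * mats i) = 1 := by decide +kernel

theorem mats_cube' : ∀ i, mats i * mats i * mats i = 1 := by decide +kernel

theorem mats_sq : ∀ i j, i ≠ j → mats i * mats j * (mats i * mats j) = 1 := by decide +kernel

theorem mats_zero : mats 0 0 0 = 0 := by decide +kernel

/-- the matrices as elements of the general linear group -/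
def gens (i : Fin 5) : GL (Fin 4) (ZMod 2) :=
  ⟨mats i, mats i * mats i, mats_cube i, mats_cube' i⟩

theorem gens_pow (i : Fin 5) : gens i ^ 3 = 1 := by
  apply Units.ext
  rw [pow_succ, pow_two, Units.val_mul, Units.val_mul]
  exact mats_cube' i

theorem gens_sq (i j : Fin 5) (hij : i ≠ j) : (gens i * gens j) ^ 2 = 1 := by
  apply Units.ext
  rw [pow_two, Units.val_mul, Units.val_mul]
  exact mats_sq i j hij

/-- a homomorphism from a simple group which is not trivial is injective -/
theorem injective_of_simple {G K : Type*} [Group G] [Group K] [IsSimpleGroup G] (φ : G →* K)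
    (g : G) (hg : φ g ≠ 1) : Function.Injective φ := by
  rw [← MonoidHom.ker_eq_bot_iff]
  rcases (φ.normal_ker).eq_bot_or_eq_top with h | h
  · exact h
  · exfalso
    apply hg
    rw [← MonoidHom.mem_ker, h]
    trivial

theorem exists_alt7 {F : Type*} [Field F] [Fintype F] (hF : Fintype.card F = 2) :
    ∃ H : Subgroup (GL (Fin 4) F), Nonempty (H ≃* alternatingGroup (Fin 7)) := by
  obtain ⟨φ, hφ⟩ := AltMul.exists_lift (G := GL (Fin 4) (ZMod 2)) (m := 5) gens gens_pow gens_sq
  let r : ZMod 2 ≃+* F := ZMod.ringEquivOfPrime F Nat.prime_two hF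
  let ψ : alternatingGroup (Fin 7) →* GL (Fin 4) F :=
    (Matrix.GeneralLinearGroup.map (n := Fin 4) (r : ZMod 2 →+* F)).comp φ
  haveI : IsSimpleGroup (alternatingGroup (Fin 7)) :=
    alternatingGroup.isSimpleGroup (by simp)
  have hinj : Function.Injective ψ := by
    apply injective_of_simple ψ (AltMul.cgen 5 0)
    intro h
    have h1 : ψ (AltMul.cgen 5 0) 0 0 = (1 : GL (Fin 4) F) 0 0 := by rw [h]
    have h2 : ψ (AltMul.cgen 5 0) 0 0 = r (gens 0 0 0) := by
      show Matrix.GeneralLinearGroup.map (r : ZMod 2 →+* F) (φ (AltMul.cgen 5 0)) 0 0 = _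
      rw [hφ, Matrix.GeneralLinearGroup.map_apply]
      rfl
    have h3 : (gens 0 0 0 : ZMod 2) = 0 := mats_zero
    rw [h2, h3] at h1
    simp at h1
  exact ⟨ψ.range, ⟨(MonoidHom.ofInjective hinj).symm⟩⟩

theorem two_transitive_alt7 {F : Type*} [Field F] [Fintype F] (hF : Fintype.card F = 2)
    (H : Subgroup (GL (Fin 4) F)) (hH : Nonempty (H ≃* alternatingGroup (Fin 7)))
    (v w v' w' : Fin 4 → F) (hv : v ≠ 0) (hw : w ≠ 0) (hvw : v ≠ w)
    (hv' : v' ≠ 0) (hw' : w' ≠ 0) (hvw' : v' ≠ w') :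
    ∃ g ∈ H, (g : Matrix (Fin 4) (Fin 4) F).mulVec v = v' ∧
      (g : Matrix (Fin 4) (Fin 4) F).mulVec w = w' := by
  obtain ⟨e⟩ := hH
  have hcard : Nat.card H = 2520 := by
    rw [Nat.card_congr e.toEquiv]
    have h5 : 2 * Nat.card (alternatingGroup (Fin 7)) = Nat.factorial 7 := AltMul.card_alt 5
    have h7 : Nat.factorial 7 = 5040 := by decide
    rw [h7] at h5
    omega
  have hV : Nat.card (Fin 4 → F) = 16 := by
    rw [Nat.card_fun, Nat.card_eq_fintype_card, Nat.card_eq_fintype_card, hF, Fintype.card_fin]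
    norm_num
  have h2F : ∀ a : F, a + a = 0 := by
    intro a
    have h := Nat.cast_card_eq_zero F
    rw [hF] at h
    have : a + a = ((2 : ℕ) : F) * a := by push_cast; ring
    rw [this, h, zero_mul]
  have h2 : ∀ x : Fin 4 → F, x + x = 0 := by
    intro x
    funext i
    exact h2F (x i)
  let T : GL (Fin 4) F →* (Module.End F (Fin 4 → F))ˣ :=
    (Matrix.GeneralLinearGroup.toLin (n := Fin 4) (R := F)).toMonoidHom
  have hT : Function.Injective T := (Matrix.GeneralLinearGroup.toLin (n := Fin 4) (R := F)).injective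
  have hcard' : Nat.card (H.map T) = 2520 := by
    rw [Subgroup.card_map_of_injective hT, hcard]
  obtain ⟨g', hg', h1, h3⟩ := two_transitive hV h2 (H.map T) hcard' v w v' w' hv hw hvw hv' hw' hvw'
  obtain ⟨g, hg, rfl⟩ := hg'
  exact ⟨g, hg, h1, h3⟩

end Cfsg.Agent.Lib.Helper7.A7GL
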