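import Mathlib
import Cfsg.Prelude.Def_Characters
import Cfsg.Agent.Lib.Helper1.IndFun
import Cfsg.Agent.Lib.Helper4.Characters
import Cfsg.Agent.S0146

set_option autoImplicit false

/-!
# An abelian T.I. subgroup inverted by an involution: induced functions

`A ≤ G` abelian, `t ∉ A` with `t * t = 1` inverting `A`, and whenever `g a g⁻¹ ∈ A` for some
`1 ≠ a ∈ A` then `g ∈ A ∪ A t`.
-/

namespace Cfsg.Agent.Lib.Helper7.BSW

open Cfsg Cfsg.Agent.Lib.Helper1 Cfsg.Agent.Lib.Helper4
open scoped ComplexConjugate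

variable {G : Type*} [Group G]

/-- The configuration. -/
structure Cfg (A : Subgroup G) (t : G) : Prop where
  comm : ∀ a ∈ A, ∀ b ∈ A, a * b = b * a
  notMem : t ∉ A
  sq : t * t = 1
  inv : ∀ a ∈ A, t * a * t⁻¹ = a⁻¹
  ti : ∀ g : G, ∀ a ∈ A, a ≠ 1 → g * a * g⁻¹ ∈ A → g ∈ A ∨ g * t ∈ A

variable {A : Subgroup G} {t : G}

theorem Cfg.t_inv (h : Cfg A t) : t⁻¹ = t := inv_eq_of_mul_eq_one_right h.sq

theorem Cfg.conj_of_mem (h : Cfg A t) {x a : G} (hx : x ∈ A) (ha : a ∈ A) :
    x * a * x⁻¹ = a := by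
  rw [h.comm x hx a ha, mul_assoc, mul_inv_cancel, mul_one]

theorem Cfg.conj_of_mul_mem (h : Cfg A t) {x a : G} (hx : x * t ∈ A) (ha : a ∈ A) :
    x * a * x⁻¹ = a⁻¹ := by
  have h1 : x * a * x⁻¹ = (x * t) * (t * a * t⁻¹) * (x * t)⁻¹ := by
    have e1 : (x * t) * (t * a * t⁻¹) * (x * t)⁻¹ = x * (t * t) * a * (t * t)⁻¹ * x⁻¹ := by group
    rw [e1, h.sq]
    group
  rw [h1, h.inv a ha]
  exact h.conj_of_mem hx (A.inv_mem ha)

theorem Cfg.not_both (h : Cfg A t) {x : G} (hx : x ∈ A) (hxt : x * t ∈ A) : False := by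
  apply h.notMem
  have : t = x⁻¹ * (x * t) := by group
  rw [this]
  exact A.mul_mem (A.inv_mem hx) hxt

section Ind

variable [Fintype G]

/-- value of an induced function at a nonidentity element of `A`. -/
theorem Cfg.indFun_apply (h : Cfg A t) (β : A → ℂ) {a : G} (ha : a ∈ A) (ha1 : a ≠ 1) :
    Cfsg.indFun A β a = β ⟨a, ha⟩ + β ⟨a⁻¹, A.inv_mem ha⟩ := by
  classical
  rw [Helper1.indFun_apply]
  have hpt : ∀ x : G, Cfsg.extendByZero A β (x⁻¹ * a * x) =
      (if x⁻¹ ∈ A then β ⟨a, ha⟩ else 0) + (if x⁻¹ * t ∈ A then β ⟨a⁻¹, A.inv_mem ha⟩ else 0) := by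
    intro x
    by_cases h1 : x⁻¹ ∈ A
    · have h2 : ¬ x⁻¹ * t ∈ A := fun h2 => h.not_both h1 h2
      rw [if_pos h1, if_neg h2, add_zero]
      have h3 : x⁻¹ * a * x = a := by
        have := h.conj_of_mem h1 ha
        rwa [inv_inv] at this
      rw [extendByZero_of_mem A β (by rw [h3]; exact ha)]
      congr 1
      exact Subtype.ext h3
    · rw [if_neg h1, zero_add]
      by_cases h2 : x⁻¹ * t ∈ A
      · rw [if_pos h2]
        have h3 : x⁻¹ * a * x = a⁻¹ := by
          have := h.conj_of_mul_mem h2 ha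
          rwa [inv_inv] at this
        rw [extendByZero_of_mem A β (by rw [h3]; exact A.inv_mem ha)]
        congr 1
        exact Subtype.ext h3
      · rw [if_neg h2]
        apply extendByZero_of_notMem
        intro h3
        have h4 : x⁻¹ * a * x⁻¹⁻¹ ∈ A := by rwa [inv_inv]
        rcases h.ti x⁻¹ a ha ha1 h4 with h5 | h5
        · exact h1 h5
        · exact h2 h5
  simp only [hpt]
  rw [Finset.sum_add_distrib]
  have hc1 : ∑ x : G, (if x⁻¹ ∈ A then β ⟨a, ha⟩ else 0) = (Nat.card A : ℂ) * β ⟨a, ha⟩ := by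
    rw [← Finset.sum_filter, Finset.sum_const, nsmul_eq_mul]
    congr 2
    rw [Nat.card_eq_fintype_card, ← Fintype.card_coe]
    apply Fintype.card_congr
    exact
      { toFun := fun x => ⟨(x : G)⁻¹, (Finset.mem_filter.mp x.2).2⟩
        invFun := fun y => ⟨(y : G)⁻¹, Finset.mem_filter.mpr ⟨Finset.mem_univ _, by
          rw [inv_inv]; exact y.2⟩⟩
        left_inv := fun x => by simp
        right_inv := fun y => by simp }
  have hc2 : ∑ x : G, (if x⁻¹ * t ∈ A then β ⟨a⁻¹, A.inv_mem ha⟩ else 0)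
      = (Nat.card A : ℂ) * β ⟨a⁻¹, A.inv_mem ha⟩ := by
    rw [← Finset.sum_filter, Finset.sum_const, nsmul_eq_mul]
    congr 2
    rw [Nat.card_eq_fintype_card, ← Fintype.card_coe]
    apply Fintype.card_congr
    exact
      { toFun := fun x => ⟨(x : G)⁻¹ * t, (Finset.mem_filter.mp x.2).2⟩
        invFun := fun y => ⟨t * (y : G)⁻¹, Finset.mem_filter.mpr ⟨Finset.mem_univ _, by
          have : (t * (y : G)⁻¹)⁻¹ * t = (y : G) * (t⁻¹ * t) := by group
          rw [this, inv_mul_cancel, mul_one]; exact y.2⟩⟩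
        left_inv := fun x => by
          apply Subtype.ext
          show t * ((x : G)⁻¹ * t)⁻¹ = x
          have : t * ((x : G)⁻¹ * t)⁻¹ = (t * t⁻¹) * x := by group
          rw [this, mul_inv_cancel, one_mul]
        right_inv := fun y => by
          apply Subtype.ext
          show (t * (y : G)⁻¹)⁻¹ * t = y
          have : (t * (y : G)⁻¹)⁻¹ * t = (y : G) * (t⁻¹ * t) := by group
          rw [this, inv_mul_cancel, mul_one] }
  rw [hc1, hc2]
  have hA0 : (Nat.card A : ℂ) ≠ 0 := Nat.cast_ne_zero.mpr Nat.card_pos.ne'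
  field_simp

/-- value at `1` of an induced function. -/
theorem indFun_one_of_zero (β : A → ℂ) (hβ : β 1 = 0) : Cfsg.indFun A β 1 = 0 := by
  rw [Helper1.indFun_apply]
  have : ∀ x : G, Cfsg.extendByZero A β (x⁻¹ * 1 * x) = 0 := by
    intro x
    have h1 : x⁻¹ * 1 * x = ((1 : A) : G) := by simp
    rw [h1, extendByZero_coe, hβ]
  rw [Finset.sum_eq_zero (fun x _ => this x), mul_zero]

/-- the restriction to `A` of a function induced from `A` (for functions vanishing at `1`). -/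
theorem Cfg.indFun_restrict (h : Cfg A t) (β : A → ℂ) (hβ : β 1 = 0) :
    (fun a : A => Cfsg.indFun A β a) = fun a : A => β a + β a⁻¹ := by
  funext a
  by_cases ha : a = 1
  · subst ha
    simp only [inv_one, hβ, add_zero]
    exact indFun_one_of_zero β hβ
  · have ha1 : (a : G) ≠ 1 := fun h1 => ha (Subtype.ext h1)
    rw [h.indFun_apply β a.2 ha1]
    rfl

/-- inner product of induced functions. -/
theorem Cfg.classInner_indFun [Fintype A] (h : Cfg A t) (α β : A → ℂ) (hβ : β 1 = 0) :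
    Cfsg.classInner (Cfsg.indFun A α) (Cfsg.indFun A β)
      = Cfsg.classInner α (fun a : A => β a + β a⁻¹) := by
  rw [Cfsg.Agent.S0146.result A α _ (indFun_isClassFunction A β), h.indFun_restrict β hβ]

end Ind

end Cfsg.Agent.Lib.Helper7.BSW
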