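import Mathlib
import Cfsg.Agent.Lib.Helper7.BSW1

set_option autoImplicit false

/-!
# Abstract Brauer-Suzuki-Wall: hypotheses and first consequences

`K` abelian, `t ∈ K` an involution with `C(t) = K ⊔ ⟨s⟩`, `s` an involution outside `K` inverting
`K` with `C_K(s) = ⟨t⟩`, `K` meets its conjugates by elements outside `C(t)` trivially, one class
of involutions.
-/

namespace Cfsg.Agent.Lib.Helper7.ABSW

open Cfsg.Agent.Lib.Helper7.BSW

variable {G : Type*} [Group G]

/-- The hypotheses. -/
structure Hyp (K : Subgroup G) (t s : G) : Prop where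
  ht : orderOf t = 2
  comm : ∀ a ∈ K, ∀ b ∈ K, a * b = b * a
  hKH : K ≤ Subgroup.centralizer ({t} : Set G)
  htK : t ∈ K
  hs : orderOf s = 2
  hsH : s ∈ Subgroup.centralizer ({t} : Set G)
  hsK : s ∉ K
  hH : K ⊔ Subgroup.zpowers s = Subgroup.centralizer ({t} : Set G)
  hCK : K ⊓ Subgroup.centralizer ({s} : Set G) = Subgroup.zpowers t
  hinv : ∀ x ∈ K, s * x * s⁻¹ = x⁻¹
  hTI : ∀ g : G, g ∉ Subgroup.centralizer ({t} : Set G) →
    K ⊓ K.map (MulAut.conj g).toMonoidHom = ⊥
  hconj : ∀ x y : G, orderOf x = 2 → orderOf y = 2 → IsConj x y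

variable {K : Subgroup G} {t s : G}

theorem sq_of_orderOf_two {x : G} (h : orderOf x = 2) : x * x = 1 := by
  rw [← pow_two, ← h, pow_orderOf_eq_one]

theorem inv_of_orderOf_two {x : G} (h : orderOf x = 2) : x⁻¹ = x :=
  inv_eq_of_mul_eq_one_right (sq_of_orderOf_two h)

theorem ne_one_of_orderOf_two {x : G} (h : orderOf x = 2) : x ≠ 1 := by
  intro h1
  rw [h1, orderOf_one] at h
  omega

theorem orderOf_two_of_sq {x : G} (h : x * x = 1) (h1 : x ≠ 1) : orderOf x = 2 := by
  apply orderOf_eq_prime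
  · rw [pow_two, h]
  · exact h1

theorem orderOf_conj_eq (g x : G) : orderOf (g * x * g⁻¹) = orderOf x := by
  have := MulEquiv.orderOf_eq (MulAut.conj g) x
  rwa [MulAut.conj_apply] at this

namespace Hyp

theorem ss (h : Hyp K t s) : s * s = 1 := sq_of_orderOf_two h.hs
theorem tt (h : Hyp K t s) : t * t = 1 := sq_of_orderOf_two h.ht
theorem s_inv (h : Hyp K t s) : s⁻¹ = s := inv_of_orderOf_two h.hs
theorem t_inv (h : Hyp K t s) : t⁻¹ = t := inv_of_orderOf_two h.ht
theorem t_ne_one (h : Hyp K t s) : t ≠ 1 := ne_one_of_orderOf_two h.ht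
theorem s_ne_one (h : Hyp K t s) : s ≠ 1 := ne_one_of_orderOf_two h.hs

/-- conjugation by `s` written with `s` on both sides. -/
theorem s_conj (h : Hyp K t s) {x : G} (hx : x ∈ K) : s * x * s = x⁻¹ := by
  have := h.hinv x hx
  rwa [h.s_inv] at this

/-- the auxiliary subgroup `K ∪ K s`. -/
def bigH (h : Hyp K t s) : Subgroup G where
  carrier := {g | g ∈ K ∨ g * s ∈ K}
  one_mem' := Or.inl K.one_mem
  mul_mem' := by
    rintro a b (ha | ha) (hb | hb)
    · exact Or.inl (K.mul_mem ha hb)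
    · right
      have : a * b * s = a * (b * s) := by group
      rw [this]
      exact K.mul_mem ha hb
    · right
      have e : a * b * s = (a * s) * (s * b * s) := by
        have : (a * s) * (s * b * s) = a * (s * s) * b * s := by group
        rw [this, h.ss]; group
      rw [e, h.s_conj hb]
      exact K.mul_mem ha (K.inv_mem hb)
    · left
      have e : a * b = (a * s) * (s * (b * s) * s) := by
        have : (a * s) * (s * (b * s) * s) = a * (s * s) * b * (s * s) := by group
        rw [this, h.ss]; group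
      rw [e, h.s_conj hb]
      exact K.mul_mem ha (K.inv_mem hb)
  inv_mem' := by
    rintro a (ha | ha)
    · exact Or.inl (K.inv_mem ha)
    · right
      have e : a⁻¹ * s = s * (a * s)⁻¹ * s := by
        have : s * (a * s)⁻¹ * s = (s * s⁻¹) * a⁻¹ * s := by group
        rw [this]; group
      rw [e, h.s_conj (K.inv_mem ha), inv_inv]
      exact ha

theorem mem_bigH (h : Hyp K t s) {g : G} : g ∈ h.bigH ↔ g ∈ K ∨ g * s ∈ K := Iff.rfl

/-- membership in the centralizer of `t`. -/
theorem mem_H_iff (h : Hyp K t s) {g : G} :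
    g ∈ Subgroup.centralizer ({t} : Set G) ↔ g ∈ K ∨ g * s ∈ K := by
  rw [← h.hH]
  constructor
  · intro hg
    have hle : K ⊔ Subgroup.zpowers s ≤ h.bigH := by
      apply sup_le
      · intro x hx; exact Or.inl hx
      · rw [Subgroup.zpowers_le]
        right
        rw [h.ss]; exact K.one_mem
    exact hle hg
  · rintro (hg | hg)
    · exact (le_sup_left : K ≤ K ⊔ Subgroup.zpowers s) hg
    · have e : g = (g * s) * s⁻¹ := by group
      rw [e]
      apply Subgroup.mul_mem
      · exact (le_sup_left : K ≤ K ⊔ Subgroup.zpowers s) hg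
      · apply Subgroup.inv_mem
        exact (le_sup_right : Subgroup.zpowers s ≤ K ⊔ Subgroup.zpowers s)
          (Subgroup.mem_zpowers s)

theorem comm_t_iff (h : Hyp K t s) {g : G} : g * t = t * g ↔ g ∈ K ∨ g * s ∈ K := by
  rw [← h.mem_H_iff, Subgroup.mem_centralizer_iff]
  constructor
  · intro hg x hx
    rw [Set.mem_singleton_iff] at hx
    rw [hx, hg]
  · intro hg
    exact (hg t rfl).symm

/-- the configuration of `BSW1`. -/
theorem cfg (h : Hyp K t s) : Cfg K s where
  comm := h.comm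
  notMem := h.hsK
  sq := h.ss
  inv := h.hinv
  ti := by
    intro g a ha ha1 hga
    rw [← h.mem_H_iff]
    by_contra hg
    have h1 := h.hTI g hg
    have h2 : g * a * g⁻¹ ∈ K ⊓ K.map (MulAut.conj g).toMonoidHom := by
      refine Subgroup.mem_inf.2 ⟨hga, ?_⟩
      rw [Subgroup.mem_map]
      exact ⟨a, ha, by simp [MulAut.conj_apply]⟩
    rw [h1, Subgroup.mem_bot] at h2
    apply ha1
    have : a = g⁻¹ * (g * a * g⁻¹) * g := by group
    rw [this, h2]; group

/-- the elements of `K` of order at most two. -/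
theorem sq_eq_one (h : Hyp K t s) {x : G} (hx : x ∈ K) (hx2 : x * x = 1) : x = 1 ∨ x = t := by
  have hxi : x⁻¹ = x := inv_eq_of_mul_eq_one_right hx2
  have h1 : x ∈ K ⊓ Subgroup.centralizer ({s} : Set G) := by
    refine Subgroup.mem_inf.2 ⟨hx, ?_⟩
    rw [Subgroup.mem_centralizer_iff]
    intro y hy
    rw [Set.mem_singleton_iff] at hy
    rw [hy]
    have := h.hinv x hx
    rw [hxi] at this
    have e : s * x = (s * x * s⁻¹) * s := by group
    rw [e, this]
  rw [h.hCK, Subgroup.mem_zpowers_iff] at h1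
  obtain ⟨j, hj⟩ := h1
  rcases Int.even_or_odd j with ⟨m, hm⟩ | ⟨m, hm⟩
  · left
    rw [← hj, hm, ← two_mul, zpow_mul, zpow_two, h.tt, one_zpow]
  · right
    rw [← hj, hm, zpow_add, zpow_mul, zpow_two, h.tt, one_zpow, one_mul, zpow_one]

/-- elements of `K s` are involutions. -/
theorem mul_s_sq (h : Hyp K t s) {g : G} (hg : g * s ∈ K) : g * g = 1 := by
  have e : g * g = (g * s) * (s * (g * s) * s) := by
    have : (g * s) * (s * (g * s) * s) = g * (s * s) * g * (s * s) := by group
    rw [this, h.ss]; group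
  rw [e, h.s_conj hg, mul_inv_cancel]

theorem mul_s_ne_one (h : Hyp K t s) {g : G} (hg : g * s ∈ K) : g ≠ 1 := by
  intro h1
  rw [h1, one_mul] at hg
  exact h.hsK hg

theorem mul_s_orderOf (h : Hyp K t s) {g : G} (hg : g * s ∈ K) : orderOf g = 2 :=
  orderOf_two_of_sq (h.mul_s_sq hg) (h.mul_s_ne_one hg)

/-- elements of `K s` invert `K`. -/
theorem mul_s_conj (h : Hyp K t s) {g x : G} (hg : g * s ∈ K) (hx : x ∈ K) :
    g * x * g⁻¹ = x⁻¹ := h.cfg.conj_of_mul_mem hg hx

/-- every involution is conjugate to `t`. -/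
theorem exists_conj_t (h : Hyp K t s) {a : G} (ha : orderOf a = 2) :
    ∃ c : G, c * t * c⁻¹ = a := by
  have := h.hconj t a h.ht ha
  rw [isConj_iff] at this
  exact this

end Hyp

/-- the union of the conjugates of `K`. -/
def InU (K : Subgroup G) (x : G) : Prop := ∃ g : G, g * x * g⁻¹ ∈ K

theorem inU_of_mem {x : G} (hx : x ∈ K) : InU K x := ⟨1, by simpa using hx⟩

theorem inU_conj {x : G} (c : G) (hx : InU K x) : InU K (c * x * c⁻¹) := by
  obtain ⟨g, hg⟩ := hx
  refine ⟨g * c⁻¹, ?_⟩
  have : g * c⁻¹ * (c * x * c⁻¹) * (g * c⁻¹)⁻¹ = g * x * g⁻¹ := by group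
  rw [this]; exact hg

theorem inU_conj_iff {x : G} (c : G) : InU K (c * x * c⁻¹) ↔ InU K x := by
  constructor
  · intro hx
    have := inU_conj (K := K) c⁻¹ hx
    have e : c⁻¹ * (c * x * c⁻¹) * c⁻¹⁻¹ = x := by group
    rwa [e] at this
  · exact inU_conj c

theorem inU_inv {x : G} (hx : InU K x) : InU K x⁻¹ := by
  obtain ⟨g, hg⟩ := hx
  refine ⟨g, ?_⟩
  have : g * x⁻¹ * g⁻¹ = (g * x * g⁻¹)⁻¹ := by group
  rw [this]; exact K.inv_mem hg

theorem inU_one : InU K (1 : G) := inU_of_mem K.one_mem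

namespace Hyp

/-- an involution lies in a conjugate of `K`. -/
theorem inU_of_orderOf_two (h : Hyp K t s) {a : G} (ha : orderOf a = 2) : InU K a := by
  obtain ⟨c, hc⟩ := h.exists_conj_t ha
  rw [← hc]
  exact inU_conj c (inU_of_mem h.htK)

/-- anything commuting with an involution lies in a conjugate of `K`. -/
theorem inU_of_comm_invol (h : Hyp K t s) {a x : G} (ha : orderOf a = 2) (hax : a * x = x * a) :
    InU K x := by
  obtain ⟨c, hc⟩ := h.exists_conj_t ha
  have h1 : (c⁻¹ * x * c) * t = t * (c⁻¹ * x * c) := by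
    have e1 : (c⁻¹ * x * c) * t = c⁻¹ * (x * (c * t * c⁻¹)) * c := by group
    have e2 : t * (c⁻¹ * x * c) = c⁻¹ * ((c * t * c⁻¹) * x) * c := by group
    rw [e1, e2, hc, hax]
  rcases h.comm_t_iff.1 h1 with h2 | h2
  · refine ⟨c⁻¹, ?_⟩
    rwa [inv_inv]
  · have h3 := h.inU_of_orderOf_two (h.mul_s_orderOf h2)
    have e : x = c * (c⁻¹ * x * c) * c⁻¹ := by group
    rw [e]
    exact inU_conj c h3

/-- an element of even order lies in a conjugate of `K`. -/
theorem inU_of_even (h : Hyp K t s) [Finite G] {x : G} (hx : Even (orderOf x)) : InU K x := by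
  obtain ⟨m, hm⟩ := hx
  have hm0 : 0 < m := by
    have := orderOf_pos x
    omega
  have ha : orderOf (x ^ m) = 2 := by
    rw [orderOf_pow' x hm0.ne', hm]
    have : Nat.gcd (m + m) m = m := by
      rw [← two_mul]; exact Nat.gcd_eq_right (Dvd.intro_left 2 rfl)
    rw [this, ← two_mul, Nat.mul_div_cancel _ hm0]
  apply h.inU_of_comm_invol ha
  rw [← pow_succ, ← pow_succ']

/-- the centralizer of an element of `K` other than `1`, `t`. -/
theorem centralizer_of_mem (h : Hyp K t s) {x : G} (hx : x ∈ K) (hx1 : x ≠ 1) (hxt : x ≠ t) :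
    Subgroup.centralizer ({x} : Set G) = K := by
  ext g
  rw [Subgroup.mem_centralizer_iff]
  constructor
  · intro hg
    have hgx : g * x * g⁻¹ = x := by
      have := hg x rfl
      rw [← this]; group
    have hmem : g * x * g⁻¹ ∈ K := by rw [hgx]; exact hx
    rcases h.cfg.ti g x hx hx1 hmem with h1 | h1
    · exact h1
    · exfalso
      have h2 := h.mul_s_conj h1 hx
      rw [hgx] at h2
      have h3 : x * x = 1 := by
        nth_rewrite 1 [h2]
        exact inv_mul_cancel x
      rcases h.sq_eq_one hx h3 with h4 | h4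
      · exact hx1 h4
      · exact hxt h4
  · intro hg y hy
    rw [Set.mem_singleton_iff] at hy
    rw [hy]
    exact h.comm x hx g hg

/-- if a non-involution `z ≠ 1` of the union commutes with `y` then `y` lies in the union. -/
theorem inU_of_comm (h : Hyp K t s) {z y : G} (hz : InU K z) (hz1 : z ≠ 1)
    (hz2 : orderOf z ≠ 2) (hzy : z * y = y * z) : InU K y := by
  obtain ⟨g, hg⟩ := hz
  have h1 : g * z * g⁻¹ ≠ 1 := by
    intro h1
    apply hz1
    have : z = g⁻¹ * (g * z * g⁻¹) * g := by group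
    rw [this, h1]; group
  have h2 : g * z * g⁻¹ ≠ t := by
    intro h2
    apply hz2
    rw [← orderOf_conj_eq g z, h2, h.ht]
  have h3 := h.centralizer_of_mem hg h1 h2
  refine ⟨g, ?_⟩
  rw [← h3, Subgroup.mem_centralizer_iff]
  intro w hw
  rw [Set.mem_singleton_iff] at hw
  rw [hw]
  have e1 : g * z * g⁻¹ * (g * y * g⁻¹) = g * (z * y) * g⁻¹ := by group
  have e2 : g * y * g⁻¹ * (g * z * g⁻¹) = g * (y * z) * g⁻¹ := by group
  rw [e1, e2, hzy]

end Hyp

end Cfsg.Agent.Lib.Helper7.ABSW
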