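import Mathlib
import Cfsg.Agent.Lib.Helper7.ABSW1

set_option autoImplicit false

/-!
# Abstract Brauer-Suzuki-Wall: real elements outside the conjugates of `K`

`y` lies in no conjugate of `K` and is inverted by the involution `a`.  Then `F = C(y)` is abelian,
inverted by `a`, is the centralizer of each of its non-identity elements, and
`N(F) = F · (N(F) ∩ C(a))`.
-/

namespace Cfsg.Agent.Lib.Helper7.ABSW

open Cfsg.Agent.Lib.Helper7.BSW

variable {G : Type*} [Group G]

/-- a free conjugation action of a subgroup on a finite invariant set. -/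
theorem card_dvd_of_free_conj [Finite G] (E : Subgroup G) :
    ∀ (n : ℕ) (S : Finset G), S.card = n → (∀ e ∈ E, ∀ z ∈ S, e * z * e⁻¹ ∈ S) →
      (∀ e ∈ E, ∀ z ∈ S, e * z * e⁻¹ = z → e = 1) → Nat.card E ∣ S.card := by
  classical
  intro n
  induction n using Nat.strong_induction_on with
  | _ n ih =>
    intro S hS hinv hfree
    by_cases hne : S.Nonempty
    · obtain ⟨z, hz⟩ := hne
      haveI : Fintype E := Fintype.ofFinite _
      set O : Finset G := Finset.univ.image (fun e : E => (e : G) * z * (e : G)⁻¹) with hO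
      have hOS : O ⊆ S := by
        intro w hw
        rw [hO, Finset.mem_image] at hw
        obtain ⟨e, -, rfl⟩ := hw
        exact hinv e e.2 z hz
      have hOcard : O.card = Nat.card E := by
        rw [hO, Finset.card_image_of_injective, Finset.card_univ, Nat.card_eq_fintype_card]
        intro e e' hee
        simp only at hee
        have h1 : ((e' : G)⁻¹ * e) * z * ((e' : G)⁻¹ * e)⁻¹ = z := by
          have : ((e' : G)⁻¹ * e) * z * ((e' : G)⁻¹ * e)⁻¹
              = (e' : G)⁻¹ * ((e : G) * z * (e : G)⁻¹) * e' := by group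
          rw [this, hee]; group
        have h2 := hfree _ (E.mul_mem (E.inv_mem e'.2) e.2) z hz h1
        apply Subtype.ext
        have : (e : G) = e' * ((e' : G)⁻¹ * e) := by group
        rw [this, h2, mul_one]
      have hlt : (S \ O).card < n := by
        rw [← hS]
        apply Finset.card_lt_card
        refine ⟨Finset.sdiff_subset, ?_⟩
        intro hsub
        have hzO : z ∈ O := by
          rw [hO, Finset.mem_image]
          exact ⟨1, Finset.mem_univ _, by simp⟩
        have := hsub hz
        rw [Finset.mem_sdiff] at this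
        exact this.2 hzO
      have h3 := ih _ hlt (S \ O) rfl ?_ ?_
      · have h4 : S.card = (S \ O).card + O.card := by
          rw [Finset.card_sdiff_of_subset hOS]
          have := Finset.card_le_card hOS
          omega
        rw [h4]
        exact Dvd.dvd.add h3 (by rw [hOcard])
      · intro e he w hw
        rw [Finset.mem_sdiff] at hw ⊢
        refine ⟨hinv e he w hw.1, ?_⟩
        intro hw2
        apply hw.2
        rw [hO, Finset.mem_image] at hw2 ⊢
        obtain ⟨e', -, he'⟩ := hw2
        refine ⟨⟨e⁻¹ * e', E.mul_mem (E.inv_mem he) e'.2⟩, Finset.mem_univ _, ?_⟩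
        simp only
        have : e⁻¹ * (e' : G) * z * (e⁻¹ * (e' : G))⁻¹ = e⁻¹ * ((e' : G) * z * (e' : G)⁻¹) * e := by
          group
        rw [this, he']; group
      · intro e he w hw
        rw [Finset.mem_sdiff] at hw
        exact hfree e he w hw.1
    · rw [Finset.not_nonempty_iff_eq_empty] at hne
      rw [hne, Finset.card_empty]
      exact dvd_zero _

variable {K : Subgroup G} {t s : G}

namespace Hyp

/-- no involution commutes with an element outside the union. -/
theorem not_comm_invol (h : Hyp K t s) {y b : G} (hy : ¬ InU K y) (hb : orderOf b = 2) :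
    b * y ≠ y * b := fun hby => hy (h.inU_of_comm_invol hb hby)

/-- nothing of the union commutes with an element outside the union. -/
theorem not_inU_of_comm (h : Hyp K t s) {y z : G} (hy : ¬ InU K y) (hzy : z * y = y * z)
    (hz1 : z ≠ 1) : ¬ InU K z := by
  intro hz
  by_cases hz2 : orderOf z = 2
  · exact h.not_comm_invol hy hz2 hzy
  · exact hy (h.inU_of_comm hz hz1 hz2 hzy)

theorem ne_one_of_not_inU {y : G} (hy : ¬ InU K y) : y ≠ 1 := by
  intro h1
  rw [h1] at hy
  exact hy inU_one

end Hyp

/-- The data: `y` outside the union, inverted by the involution `a`. -/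
structure RealOut (K : Subgroup G) (y a : G) : Prop where
  hy : ¬ InU K y
  ha : orderOf a = 2
  hay : a * y * a⁻¹ = y⁻¹

variable {y a : G}

namespace RealOut

theorem aa (r : RealOut K y a) : a * a = 1 := sq_of_orderOf_two r.ha
theorem a_inv (r : RealOut K y a) : a⁻¹ = a := inv_of_orderOf_two r.ha

theorem y_ne_one (r : RealOut K y a) : y ≠ 1 := Hyp.ne_one_of_not_inU r.hy

/-- `a` normalizes `C(y)`. -/
theorem conj_mem (r : RealOut K y a) {z : G} (hz : z ∈ Subgroup.centralizer ({y} : Set G)) :
    a * z * a⁻¹ ∈ Subgroup.centralizer ({y} : Set G) := by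
  rw [Subgroup.mem_centralizer_singleton_iff] at hz ⊢
  have h1 : a⁻¹ * y * a = y⁻¹ := by
    have := r.hay
    rw [r.a_inv] at this ⊢
    exact this
  have hz' : z * y⁻¹ = y⁻¹ * z := by
    have : z * y⁻¹ = y⁻¹ * (y * z) * y⁻¹ := by group
    rw [this, ← hz]; group
  have e1 : a * z * a⁻¹ * y = a * (z * (a⁻¹ * y * a)) * a⁻¹ := by group
  have e2 : y * (a * z * a⁻¹) = (a * ((a⁻¹ * y * a) * z) * a⁻¹) := by group
  rw [e1, e2, h1, hz']

end RealOut

section Main

variable [Finite G]

/-- an involution normalizing `C(y)` inverts it. -/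
theorem invol_inverts (h : Hyp K t s) {y b : G} (hy : ¬ InU K y) (hb : orderOf b = 2)
    (hbN : ∀ z ∈ Subgroup.centralizer ({y} : Set G), b * z * b⁻¹ ∈ Subgroup.centralizer ({y} : Set G))
    {z : G} (hz : z ∈ Subgroup.centralizer ({y} : Set G)) : b * z * b⁻¹ = z⁻¹ := by
  set F := Subgroup.centralizer ({y} : Set G) with hF
  let φ : F →* F :=
    { toFun := fun z => ⟨b * z * b⁻¹, hbN z z.2⟩
      map_one' := by apply Subtype.ext; simp
      map_mul' := by
        intro z w
        apply Subtype.ext
        simp only [Subgroup.coe_mul]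
        group }
  have hfpf : MonoidHom.FixedPointFree φ := by
    intro z hz
    have h1 : b * (z : G) * b⁻¹ = z := congrArg Subtype.val hz
    by_contra hz1
    have hz1' : (z : G) ≠ 1 := fun h' => hz1 (Subtype.ext h')
    have hzy : (z : G) * y = y * z := Subgroup.mem_centralizer_singleton_iff.1 z.2
    have h2 := h.not_inU_of_comm hy hzy hz1'
    apply h2
    apply h.inU_of_comm_invol hb
    have : b * (z : G) = (b * z * b⁻¹) * b := by group
    rw [this, h1]
  have hinv : Function.Involutive φ := by
    intro z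
    apply Subtype.ext
    show b * (b * (z : G) * b⁻¹) * b⁻¹ = z
    have : b * (b * (z : G) * b⁻¹) * b⁻¹ = (b * b) * z * (b * b)⁻¹ := by group
    rw [this, sq_of_orderOf_two hb]; group
  have h3 := hfpf.coe_eq_inv_of_involutive hinv
  have h4 := congrFun h3 ⟨z, hz⟩
  exact congrArg Subtype.val h4

namespace RealOut

/-- `a` inverts `C(y)`. -/
theorem inverts (h : Hyp K t s) (r : RealOut K y a) {z : G}
    (hz : z ∈ Subgroup.centralizer ({y} : Set G)) : a * z * a⁻¹ = z⁻¹ :=
  invol_inverts h r.hy r.ha (fun _ hw => r.conj_mem hw) hz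

/-- `C(y)` is abelian. -/
theorem comm (h : Hyp K t s) (r : RealOut K y a) {z w : G}
    (hz : z ∈ Subgroup.centralizer ({y} : Set G)) (hw : w ∈ Subgroup.centralizer ({y} : Set G)) :
    z * w = w * z := by
  have h1 := r.inverts h hz
  have h2 := r.inverts h hw
  have h3 := r.inverts h (Subgroup.mul_mem _ hz hw)
  have h4 : a * (z * w) * a⁻¹ = (a * z * a⁻¹) * (a * w * a⁻¹) := by group
  rw [h4, h1, h2] at h3
  have h5 : (z⁻¹ * w⁻¹)⁻¹ = ((z * w)⁻¹)⁻¹ := by rw [h3]
  rw [inv_inv, mul_inv_rev, inv_inv, inv_inv] at h5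
  exact h5.symm

/-- non-identity elements of `C(y)` are of the same kind. -/
theorem of_mem (h : Hyp K t s) (r : RealOut K y a) {z : G}
    (hz : z ∈ Subgroup.centralizer ({y} : Set G)) (hz1 : z ≠ 1) : RealOut K z a where
  hy := h.not_inU_of_comm r.hy (Subgroup.mem_centralizer_singleton_iff.1 hz) hz1
  ha := r.ha
  hay := r.inverts h hz

/-- `C(z) = C(y)` for `1 ≠ z ∈ C(y)`. -/
theorem centralizer_eq (h : Hyp K t s) (r : RealOut K y a) {z : G}
    (hz : z ∈ Subgroup.centralizer ({y} : Set G)) (hz1 : z ≠ 1) :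
    Subgroup.centralizer ({z} : Set G) = Subgroup.centralizer ({y} : Set G) := by
  have rz := r.of_mem h hz hz1
  have hyz : y ∈ Subgroup.centralizer ({z} : Set G) := by
    rw [Subgroup.mem_centralizer_singleton_iff]
    exact (Subgroup.mem_centralizer_singleton_iff.1 hz).symm
  ext g
  constructor
  · intro hg
    rw [Subgroup.mem_centralizer_singleton_iff]
    exact rz.comm h hg hyz
  · intro hg
    rw [Subgroup.mem_centralizer_singleton_iff]
    exact r.comm h hg hz

/-- `a ∉ C(y)`. -/
theorem a_not_mem (h : Hyp K t s) (r : RealOut K y a) :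
    a ∉ Subgroup.centralizer ({y} : Set G) := by
  intro ha
  exact h.not_comm_invol r.hy r.ha (Subgroup.mem_centralizer_singleton_iff.1 ha)

/-- an element of `C(y)` commuting with `a` is trivial. -/
theorem eq_one_of_comm (h : Hyp K t s) (r : RealOut K y a) {z : G}
    (hz : z ∈ Subgroup.centralizer ({y} : Set G)) (hza : a * z = z * a) : z = 1 := by
  by_contra hz1
  have h2 := h.not_inU_of_comm r.hy (Subgroup.mem_centralizer_singleton_iff.1 hz) hz1
  exact h2 (h.inU_of_comm_invol r.ha hza)

/-- `C(y)` is a T.I. set with normalizer `N(C(y))`. -/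
theorem ti (h : Hyp K t s) (r : RealOut K y a) {g z : G}
    (hz : z ∈ Subgroup.centralizer ({y} : Set G)) (hz1 : z ≠ 1)
    (hgz : g * z * g⁻¹ ∈ Subgroup.centralizer ({y} : Set G)) :
    g ∈ Subgroup.normalizer ((Subgroup.centralizer ({y} : Set G) : Subgroup G) : Set G) := by
  have h1 := r.centralizer_eq h hz hz1
  have hgz1 : g * z * g⁻¹ ≠ 1 := by
    intro h'
    apply hz1
    have : z = g⁻¹ * (g * z * g⁻¹) * g := by group
    rw [this, h']; group
  have h2 := r.centralizer_eq h hgz hgz1
  rw [Subgroup.mem_normalizer_iff]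
  intro w
  have hA : w ∈ Subgroup.centralizer ({y} : Set G) ↔ w * z = z * w := by
    rw [← h1, Subgroup.mem_centralizer_singleton_iff]
  have hB : g * w * g⁻¹ ∈ Subgroup.centralizer ({y} : Set G) ↔
      g * w * g⁻¹ * (g * z * g⁻¹) = g * z * g⁻¹ * (g * w * g⁻¹) := by
    rw [← h2, Subgroup.mem_centralizer_singleton_iff]
  rw [hA, hB]
  constructor
  · intro hw
    have e1 : g * w * g⁻¹ * (g * z * g⁻¹) = g * (w * z) * g⁻¹ := by group
    have e2 : g * z * g⁻¹ * (g * w * g⁻¹) = g * (z * w) * g⁻¹ := by group
    rw [e1, e2, hw]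
  · intro hw
    have e1 : w * z = g⁻¹ * (g * w * g⁻¹ * (g * z * g⁻¹)) * g := by group
    have e2 : z * w = g⁻¹ * (g * z * g⁻¹ * (g * w * g⁻¹)) * g := by group
    rw [e1, e2, hw]

/-- the involutions inverting `y` are the elements `z a`, `z ∈ C(y)`. -/
theorem invol_iff (h : Hyp K t s) (r : RealOut K y a) (b : G) :
    (orderOf b = 2 ∧ orderOf (b⁻¹ * y) = 2) ↔
      ∃ z ∈ Subgroup.centralizer ({y} : Set G), b = z * a := by
  constructor
  · rintro ⟨hb, hby⟩
    have hbi := inv_of_orderOf_two hb
    have h1 := sq_of_orderOf_two hby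
    rw [hbi] at h1
    have h2 : b * y * b⁻¹ = y⁻¹ := by
      rw [hbi]
      have : b * y * b = (b * y * (b * y)) * y⁻¹ := by group
      rw [this, h1, one_mul]
    refine ⟨b * a, ?_, ?_⟩
    · rw [Subgroup.mem_centralizer_singleton_iff]
      have e : b * a * y = b * (a * y * a⁻¹) * a := by group
      have h3 : b * y⁻¹ = y * b := by
        have : b * y⁻¹ = (b * y * b⁻¹)⁻¹ * b := by group
        rw [this, h2, inv_inv]
      rw [e, r.hay, h3, mul_assoc]
    · rw [mul_assoc, r.aa, mul_one]
  · rintro ⟨z, hz, rfl⟩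
    have hzi := r.inverts h hz
    have hsq : z * a * (z * a) = 1 := by
      have : z * a * (z * a) = z * (a * z * a⁻¹) * (a * a) := by group
      rw [this, hzi, r.aa]; group
    have hne : z * a ≠ 1 := by
      intro h1
      apply r.a_not_mem h
      have : a = z⁻¹ * (z * a) := by group
      rw [this, h1, mul_one]
      exact Subgroup.inv_mem _ hz
    have hb := orderOf_two_of_sq hsq hne
    refine ⟨hb, ?_⟩
    rw [inv_of_orderOf_two hb]
    apply orderOf_two_of_sq
    · have hzy : z * y⁻¹ = y⁻¹ * z := by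
        have hz' := Subgroup.mem_centralizer_singleton_iff.1 hz
        have : z * y⁻¹ = y⁻¹ * (y * z) * y⁻¹ := by group
        rw [this, ← hz']; group
      have : z * a * y * (z * a * y) = z * (a * y * a⁻¹) * (a * z * a⁻¹) * (a * a) * y := by group
      rw [this, r.hay, hzi, r.aa, hzy]; group
    · intro h1
      have : y = (z * a)⁻¹ := by
        rw [eq_inv_iff_mul_eq_one]
        have : y * (z * a) = (z * a)⁻¹ * (z * a * y) * (z * a) := by group
        rw [this, h1]; group
      apply r.hy
      rw [this, inv_of_orderOf_two hb]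
      exact h.inU_of_orderOf_two hb

/-- the number of involutions inverting `y`. -/
theorem card_invol (h : Hyp K t s) (r : RealOut K y a) :
    Nat.card {b : G // orderOf b = 2 ∧ orderOf (b⁻¹ * y) = 2}
      = Nat.card (Subgroup.centralizer ({y} : Set G)) := by
  symm
  apply Nat.card_congr
  refine Equiv.ofBijective (fun z => ⟨(z : G) * a, (r.invol_iff h _).2 ⟨z, z.2, rfl⟩⟩) ⟨?_, ?_⟩
  · intro z w hzw
    have := congrArg Subtype.val hzw
    simp only at this
    exact Subtype.ext (mul_right_cancel this)
  · rintro ⟨b, hb⟩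
    obtain ⟨z, hz, rfl⟩ := (r.invol_iff h b).1 hb
    exact ⟨⟨z, hz⟩, rfl⟩

end RealOut

end Main

end Cfsg.Agent.Lib.Helper7.ABSW
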