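import Mathlib
import Cfsg.Prelude.Def_Characters
import Cfsg.Agent.Lib.Helper7.ABSW1

set_option autoImplicit false

/-!
# Summation of a class function over the union of the conjugates of a T.I. subgroup
-/

namespace Cfsg.Agent.Lib.Helper7.ABSW

open Cfsg

variable {G : Type*} [Group G] [Fintype G]

/-- the number of elements conjugating `x` into `A`. -/
theorem card_conj_into (A N : Subgroup G)
    (hTI : ∀ g z : G, z ∈ A → z ≠ 1 → g * z * g⁻¹ ∈ A → g ∈ N)
    (hN : ∀ g ∈ N, ∀ z ∈ A, g * z * g⁻¹ ∈ A) {x : G} (hx1 : x ≠ 1) (hx : InU A x) :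
    Nat.card {g : G // g * x * g⁻¹ ∈ A} = Nat.card N := by
  obtain ⟨g₀, hg₀⟩ := hx
  have hne : g₀ * x * g₀⁻¹ ≠ 1 := by
    intro h1
    apply hx1
    have : x = g₀⁻¹ * (g₀ * x * g₀⁻¹) * g₀ := by group
    rw [this, h1]; group
  symm
  apply Nat.card_congr
  refine Equiv.ofBijective (fun n => ⟨(n : G) * g₀, ?_⟩) ⟨?_, ?_⟩
  · have : (n : G) * g₀ * x * ((n : G) * g₀)⁻¹ = n * (g₀ * x * g₀⁻¹) * (n : G)⁻¹ := by group
    rw [this]
    exact hN n n.2 _ hg₀
  · intro n m hnm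
    have := congrArg Subtype.val hnm
    simp only at this
    exact Subtype.ext (mul_right_cancel this)
  · rintro ⟨g, hg⟩
    have h1 : g * g₀⁻¹ ∈ N := by
      apply hTI (g * g₀⁻¹) (g₀ * x * g₀⁻¹) hg₀ hne
      have : g * g₀⁻¹ * (g₀ * x * g₀⁻¹) * (g * g₀⁻¹)⁻¹ = g * x * g⁻¹ := by group
      rw [this]; exact hg
    refine ⟨⟨g * g₀⁻¹, h1⟩, ?_⟩
    apply Subtype.ext
    simp

open Classical in
/-- summation over the union of the conjugates of a T.I. subgroup. -/
theorem sum_union_conj (A N : Subgroup G)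
    (hTI : ∀ g z : G, z ∈ A → z ≠ 1 → g * z * g⁻¹ ∈ A → g ∈ N)
    (hN : ∀ g ∈ N, ∀ z ∈ A, g * z * g⁻¹ ∈ A) (F : G → ℂ) (hF : IsClassFunction G F) :
    (Nat.card N : ℂ) * ∑ x : G, (if x ≠ 1 ∧ InU A x then F x else 0)
      = (Nat.card G : ℂ) * ∑ z : A, (if (z : G) ≠ 1 then F z else 0) := by
  have h1 : ∀ x : G, (Nat.card N : ℂ) * (if x ≠ 1 ∧ InU A x then F x else 0)
      = ∑ g : G, (if x ≠ 1 ∧ g * x * g⁻¹ ∈ A then F x else 0) := by
    intro x
    by_cases hx : x ≠ 1 ∧ InU A x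
    · rw [if_pos hx]
      have h2 : ∀ g : G, (if x ≠ 1 ∧ g * x * g⁻¹ ∈ A then F x else 0)
          = (if g * x * g⁻¹ ∈ A then F x else 0) := by
        intro g
        by_cases hg : g * x * g⁻¹ ∈ A
        · rw [if_pos ⟨hx.1, hg⟩, if_pos hg]
        · rw [if_neg hg, if_neg (fun h' => hg h'.2)]
      simp only [h2]
      rw [← Finset.sum_filter, Finset.sum_const, ← card_conj_into A N hTI hN hx.1 hx.2,
        Nat.card_eq_fintype_card, Fintype.card_subtype, nsmul_eq_mul]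
    · rw [if_neg hx, mul_zero]
      symm
      apply Finset.sum_eq_zero
      intro g _
      rw [if_neg]
      intro hg
      exact hx ⟨hg.1, ⟨g, hg.2⟩⟩
  rw [Finset.mul_sum]
  simp only [h1]
  rw [Finset.sum_comm]
  have h3 : ∀ g : G, ∑ x : G, (if x ≠ 1 ∧ g * x * g⁻¹ ∈ A then F x else 0)
      = ∑ z : A, (if (z : G) ≠ 1 then F z else 0) := by
    intro g
    have e1 : ∑ x : G, (if x ≠ 1 ∧ g * x * g⁻¹ ∈ A then F x else 0)
        = ∑ w : G, (if w ≠ 1 ∧ w ∈ A then F w else 0) := by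
      rw [← Equiv.sum_comp (MulAut.conj g⁻¹).toEquiv]
      refine Finset.sum_congr rfl fun w _ => ?_
      simp only [MulEquiv.toEquiv_eq_coe, MulEquiv.coe_toEquiv, MulAut.conj_apply, inv_inv]
      have e : g * (g⁻¹ * w * g) * g⁻¹ = w := by group
      have e' : g⁻¹ * w * g = g⁻¹ * w * g⁻¹⁻¹ := by group
      rw [e, e', hF w g⁻¹]
      have e'' : g⁻¹ * w * g⁻¹⁻¹ ≠ 1 ↔ w ≠ 1 := by
        constructor
        · intro h' hw; apply h'; rw [hw]; group
        · intro h' hw; apply h'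
          have : w = g * (g⁻¹ * w * g⁻¹⁻¹) * g⁻¹ := by group
          rw [this, hw]; group
      by_cases hw : w ≠ 1 ∧ w ∈ A
      · rw [if_pos hw, if_pos ⟨e''.2 hw.1, hw.2⟩]
      · rw [if_neg hw, if_neg (fun h' => hw ⟨e''.1 h'.1, h'.2⟩)]
    rw [e1]
    have e2 : ∑ w : G, (if w ≠ 1 ∧ w ∈ A then F w else 0)
        = ∑ w ∈ Finset.univ.filter (fun w : G => w ∈ A), (if w ≠ 1 then F w else 0) := by
      rw [Finset.sum_filter]
      refine Finset.sum_congr rfl fun w _ => ?_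
      by_cases hw : w ∈ A
      · rw [if_pos hw]
        by_cases hw1 : w ≠ 1
        · rw [if_pos ⟨hw1, hw⟩, if_pos hw1]
        · rw [if_neg hw1, if_neg (fun h' => hw1 h'.1)]
      · rw [if_neg hw, if_neg (fun h' => hw h'.2)]
    rw [e2]
    rw [← Finset.sum_subtype (Finset.univ.filter (fun w : G => w ∈ A))
      (fun w => by simp) (fun w => if w ≠ 1 then F w else 0)]
  simp only [h3]
  rw [Finset.sum_const, Finset.card_univ, nsmul_eq_mul, Nat.card_eq_fintype_card]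

open Classical in
/-- splitting a sum over `G`. -/
theorem sum_split (A : Subgroup G) (F : G → ℂ) :
    ∑ x : G, F x = F 1 + ∑ x : G, (if x ≠ 1 ∧ InU A x then F x else 0)
      + ∑ x : G, (if ¬ InU A x then F x else 0) := by
  have h1 : ∀ x : G, F x = (if x = 1 then F 1 else 0) + (if x ≠ 1 ∧ InU A x then F x else 0)
      + (if ¬ InU A x then F x else 0) := by
    intro x
    by_cases hx1 : x = 1
    · subst hx1
      rw [if_pos rfl, if_neg (fun h' => h'.1 rfl), if_neg (fun h' => h' inU_one)]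
      simp
    · by_cases hxU : InU A x
      · rw [if_neg hx1, if_pos ⟨hx1, hxU⟩, if_neg (fun h' => h' hxU)]
        simp
      · rw [if_neg hx1, if_neg (fun h' => hxU h'.2), if_pos hxU]
        simp
  conv_lhs => rw [Finset.sum_congr rfl (fun x _ => h1 x)]
  rw [Finset.sum_add_distrib, Finset.sum_add_distrib, Finset.sum_ite_eq' Finset.univ (1 : G)]
  simp

end Cfsg.Agent.Lib.Helper7.ABSW
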