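import Mathlib
import Cfsg.Prelude.Def_Characters
import Cfsg.Agent.Lib.Helper1.IndFun
import Cfsg.Agent.Lib.Helper1.CharFound8
import Cfsg.Agent.Lib.Helper4.Characters
import Cfsg.Agent.Lib.Helper4.VirtualChar
import Cfsg.Agent.Lib.Helper4.AbelianIrr
import Cfsg.Agent.Lib.Helper2.Exceptional
import Cfsg.Agent.Lib.Helper7.BSW1
import Cfsg.Agent.S0146
import Cfsg.Agent.S0148
import Cfsg.Agent.S0170

set_option autoImplicit false

/-!
# Exceptional characters for an abelian T.I. subgroup inverted by an involution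
-/

namespace Cfsg.Agent.Lib.Helper7.BSW

open Cfsg Cfsg.Agent.Lib.Helper1 Cfsg.Agent.Lib.Helper4
open scoped ComplexConjugate

variable {G : Type*} [Group G] {A : Subgroup G} {t : G} [Fintype A]

/-- the "inverse" (complex conjugate) character. -/
noncomputable def bar (μ : Cfsg.IrrCharacter A) : Cfsg.IrrCharacter A :=
  ⟨fun a => (μ : A → ℂ) a⁻¹, isIrrCharacter_inv_comp μ.2⟩

theorem bar_apply (μ : Cfsg.IrrCharacter A) (a : A) : (bar μ : A → ℂ) a = (μ : A → ℂ) a⁻¹ := rfl

theorem bar_bar (μ : Cfsg.IrrCharacter A) : bar (bar μ) = μ := by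
  apply Subtype.ext
  funext a
  rw [bar_apply, bar_apply, inv_inv]

theorem bar_injective : Function.Injective (bar : Cfsg.IrrCharacter A → Cfsg.IrrCharacter A) :=
  fun μ ν h => by rw [← bar_bar μ, h, bar_bar]

/-- a set of representatives of the non-real characters modulo conjugation. -/
structure Half (R : Set (Cfsg.IrrCharacter A)) : Prop where
  not_bar : ∀ μ ∈ R, bar μ ∉ R
  cover : ∀ μ : Cfsg.IrrCharacter A, bar μ ≠ μ → μ ∈ R ∨ bar μ ∈ R

theorem Half.ne_bar {R : Set (Cfsg.IrrCharacter A)} (hR : Half R) {μ : Cfsg.IrrCharacter A}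
    (hμ : μ ∈ R) : bar μ ≠ μ := by
  intro h
  have := hR.not_bar μ hμ
  rw [h] at this
  exact this hμ

theorem exists_half : ∃ R : Set (Cfsg.IrrCharacter A), Half R := by
  classical
  haveI : Finite (Cfsg.IrrCharacter A) := inferInstance
  haveI : Fintype (Cfsg.IrrCharacter A) := Fintype.ofFinite _
  let e := Fintype.equivFin (Cfsg.IrrCharacter A)
  refine ⟨{μ | e μ < e (bar μ)}, ?_, ?_⟩
  · intro μ hμ hμ'
    simp only [Set.mem_ofPred_eq, bar_bar] at hμ hμ'
    exact lt_asymm hμ hμ'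
  · intro μ hμ
    simp only [Set.mem_ofPred_eq, bar_bar]
    rcases lt_trichotomy (e μ) (e (bar μ)) with h | h | h
    · exact Or.inl h
    · exact absurd (e.injective h).symm hμ
    · exact Or.inr h

section Sys

omit [Fintype A] in
theorem irr_apply_one (hc : Cfg A t) (μ : Cfsg.IrrCharacter A) : (μ : A → ℂ) 1 = 1 := by
  have hcomm : ∀ a b : A, a * b = b * a := fun a b => Subtype.ext (hc.comm a a.2 b b.2)
  obtain ⟨φ, hφ⟩ := exists_hom_of_comm hcomm μ.2
  rw [hφ]
  simp

variable [Fintype G]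

/-- the basic inner product formula. -/
theorem inner_formula (hc : Cfg A t) (μ ν μ' ν' : Cfsg.IrrCharacter A) :
    Cfsg.classInner (Cfsg.indFun A ((μ : A → ℂ) - (ν : A → ℂ)))
      (Cfsg.indFun A ((μ' : A → ℂ) - (ν' : A → ℂ)))
    = (if μ = μ' then 1 else 0) - (if μ = ν' then 1 else 0)
      + (if μ = bar μ' then 1 else 0) - (if μ = bar ν' then 1 else 0)
      - (if ν = μ' then 1 else 0) + (if ν = ν' then 1 else 0)
      - (if ν = bar μ' then 1 else 0) + (if ν = bar ν' then 1 else 0) := by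
  have h1 : ((μ' : A → ℂ) - (ν' : A → ℂ)) 1 = 0 := by
    rw [Pi.sub_apply, irr_apply_one hc, irr_apply_one hc, sub_self]
  rw [hc.classInner_indFun _ _ h1]
  have h2 : (fun a : A => ((μ' : A → ℂ) - (ν' : A → ℂ)) a + ((μ' : A → ℂ) - (ν' : A → ℂ)) a⁻¹)
      = (μ' : A → ℂ) - (ν' : A → ℂ) + (bar μ' : A → ℂ) - (bar ν' : A → ℂ) := by
    funext a
    simp only [Pi.sub_apply, Pi.add_apply, bar_apply]
    ring
  rw [h2]
  have key : ∀ x y : Cfsg.IrrCharacter A,
      Cfsg.classInner (x : A → ℂ) (y : A → ℂ) = if x = y then 1 else 0 := by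
    intro x y
    rw [classInner_irr x.2 y.2]
    by_cases hxy : x = y
    · rw [if_pos hxy, if_pos (congrArg Subtype.val hxy)]
    · rw [if_neg hxy, if_neg (fun h => hxy (Subtype.ext h))]
  simp only [classInner_sub_left, classInner_sub_right, classInner_add_right, key]
  ring

variable {R : Set (Cfsg.IrrCharacter A)}

/-- the family of induced differences. -/
noncomputable def vfun (A : Subgroup G) (R : Set (Cfsg.IrrCharacter A)) (μ ν : R) : G → ℂ :=
  Cfsg.indFun A (((μ : Cfsg.IrrCharacter A) : A → ℂ) - ((ν : Cfsg.IrrCharacter A) : A → ℂ))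

theorem sys_vfun (hc : Cfg A t) (hR : Half R) :
    Cfsg.Agent.Lib.Helper2.Exceptional.Sys (vfun A R) := by
  have hne : ∀ μ ν : R, μ ≠ ν → (μ : Cfsg.IrrCharacter A) ≠ ν := fun μ ν h h' => h (Subtype.ext h')
  have hnb : ∀ μ ν : R, (μ : Cfsg.IrrCharacter A) ≠ bar ν := by
    intro μ ν h
    by_cases hμν : (μ : Cfsg.IrrCharacter A) = ν
    · have := hR.ne_bar ν.2
      rw [← h, hμν] at this
      exact this rfl
    · have := hR.not_bar ν ν.2
      rw [← h] at this
      exact this μ.2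
  refine ⟨?_, ?_, ?_, ?_, ?_⟩
  · intro μ ν
    unfold vfun
    rw [Cfsg.Agent.S0170.indFun_sub]
    exact isGenChar_sub
      (isGenChar_of_isCharacter (Cfsg.Agent.S0148.result A _ (isCharacter_of_irr μ.1.2)))
      (isGenChar_of_isCharacter (Cfsg.Agent.S0148.result A _ (isCharacter_of_irr ν.1.2)))
  · intro μ ν
    unfold vfun
    apply indFun_one_of_zero
    rw [Pi.sub_apply, irr_apply_one hc, irr_apply_one hc, sub_self]
  · intro μ ν κ
    unfold vfun
    rw [Cfsg.Agent.S0170.indFun_sub, Cfsg.Agent.S0170.indFun_sub, Cfsg.Agent.S0170.indFun_sub]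
    abel
  · intro μ ν hμν
    unfold vfun
    rw [inner_formula hc]
    rw [if_pos rfl, if_neg (hne μ ν hμν), if_neg (hnb μ μ), if_neg (hnb μ ν),
      if_neg (hne ν μ (Ne.symm hμν)), if_pos rfl, if_neg (hnb ν μ), if_neg (hnb ν ν)]
    norm_num
  · intro μ ν κ hμν hμκ hνκ
    unfold vfun
    rw [inner_formula hc]
    rw [if_pos rfl, if_neg (hne μ κ hμκ), if_neg (hnb μ μ), if_neg (hnb μ κ),
      if_neg (hne ν μ (Ne.symm hμν)), if_neg (hne ν κ hνκ), if_neg (hnb ν μ), if_neg (hnb ν κ)]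
    norm_num

/-- existence of the exceptional characters. -/
theorem exists_exceptional (hc : Cfg A t) (hR : Half R) :
    ∃ ε : ℂ, (ε = 1 ∨ ε = -1) ∧ ∃ f : R → Cfsg.IrrCharacter G, Function.Injective f ∧
      ∀ μ ν : R, Cfsg.indFun A (((μ : Cfsg.IrrCharacter A) : A → ℂ) - ((ν : Cfsg.IrrCharacter A) : A → ℂ))
        = ε • ((f μ : G → ℂ) - (f ν : G → ℂ)) :=
  (sys_vfun hc hR).main

end Sys

end Cfsg.Agent.Lib.Helper7.BSW
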