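import Mathlib
import Cfsg.Prelude.Def_Characters
import Cfsg.Agent.Lib.Helper1.IndFun
import Cfsg.Agent.Lib.Helper1.CharFound3
import Cfsg.Agent.Lib.Helper1.CharFound6
import Cfsg.Agent.Lib.Helper1.CharFound8
import Cfsg.Agent.Lib.Helper4.Characters
import Cfsg.Agent.Lib.Helper4.VirtualChar
import Cfsg.Agent.Lib.Helper4.AbelianIrr
import Cfsg.Agent.Lib.Helper7.BSW1
import Cfsg.Agent.Lib.Helper7.BSW2
import Cfsg.Agent.S0146
import Cfsg.Agent.S0148

set_option autoImplicit false

/-!
# Multiplicities of the characters of `A` in the restriction of an exceptional character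
-/

namespace Cfsg.Agent.Lib.Helper7.BSW

open Cfsg Cfsg.Agent.Lib.Helper1 Cfsg.Agent.Lib.Helper4
open scoped ComplexConjugate

variable {G : Type*} [Group G] {A : Subgroup G} {t : G} [Fintype A]

/-- restriction to `A`. -/
def res (A : Subgroup G) (χ : G → ℂ) : A → ℂ := fun a => χ a

/-- multiplicity of `μ` in the restriction of `χ`. -/
noncomputable def mult (A : Subgroup G) [Fintype A] (χ : G → ℂ) (μ : Cfsg.IrrCharacter A) : ℂ :=
  Cfsg.classInner (res A χ) (μ : A → ℂ)

theorem res_isCharacter {χ : G → ℂ} (hχ : Cfsg.IsCharacter G χ) : Cfsg.IsCharacter A (res A χ) :=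
  Cfsg.Agent.S0148.isCharacter_restrict A hχ

theorem mult_nat {χ : G → ℂ} (hχ : Cfsg.IsCharacter G χ) (μ : Cfsg.IrrCharacter A) :
    ∃ n : ℕ, mult A χ μ = n :=
  classInner_char_irr_nat (res_isCharacter hχ) μ.2

theorem mult_bar (hc : Cfg A t) {χ : G → ℂ} (hχ : Cfsg.IsClassFunction G χ)
    (μ : Cfsg.IrrCharacter A) : mult A χ (bar μ) = mult A χ μ := by
  unfold mult
  rw [classInner_def, classInner_def]
  congr 1
  rw [← Equiv.sum_comp (Equiv.inv A)]
  refine Finset.sum_congr rfl fun a _ => ?_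
  simp only [Equiv.inv_apply, bar_apply, inv_inv, res]
  congr 1
  have := hχ (a : G) t
  rw [hc.inv a a.2] at this
  rw [Subgroup.coe_inv, this]

variable [Fintype G]

/-- Frobenius reciprocity in the form we need. -/
theorem classInner_indFun_irr (α : A → ℂ) {χ : G → ℂ} (hχ : Cfsg.IsClassFunction G χ) :
    Cfsg.classInner (Cfsg.indFun A α) χ = Cfsg.classInner α (res A χ) :=
  Cfsg.Agent.S0146.result A α χ hχ

theorem classInner_irr_res_eq_mult {χ : G → ℂ} (hχ : Cfsg.IsCharacter G χ)
    (μ : Cfsg.IrrCharacter A) : Cfsg.classInner (μ : A → ℂ) (res A χ) = mult A χ μ := by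
  obtain ⟨n, hn⟩ := mult_nat (A := A) hχ μ
  unfold mult at hn ⊢
  rw [← classInner_conj_symm, hn, Complex.conj_natCast]

variable {R : Set (Cfsg.IrrCharacter A)}

/-- differences of multiplicities in an exceptional character. -/
theorem mult_diff {ε : ℂ} {f : R → Cfsg.IrrCharacter G} (hf : Function.Injective f)
    (hrel : ∀ μ ν : R, Cfsg.indFun A (((μ : Cfsg.IrrCharacter A) : A → ℂ)
        - ((ν : Cfsg.IrrCharacter A) : A → ℂ)) = ε • ((f μ : G → ℂ) - (f ν : G → ℂ)))
    (κ μ ν : R) :
    mult A (f κ : G → ℂ) μ - mult A (f κ : G → ℂ) ν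
      = ε * ((if μ = κ then 1 else 0) - (if ν = κ then 1 else 0)) := by
  have hcf := isClassFunction_irr (f κ).2
  have hch := isCharacter_of_irr (f κ).2
  have h1 := classInner_indFun_irr (A := A) (((μ : Cfsg.IrrCharacter A) : A → ℂ)
        - ((ν : Cfsg.IrrCharacter A) : A → ℂ)) hcf
  rw [hrel μ ν, classInner_smul_left, classInner_sub_left, classInner_sub_left,
    classInner_irr_res_eq_mult hch, classInner_irr_res_eq_mult hch] at h1
  rw [← h1]
  congr 1
  have key : ∀ x : R, Cfsg.classInner (f x : G → ℂ) (f κ : G → ℂ) = if x = κ then 1 else 0 := by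
    intro x
    rw [classInner_irr (f x).2 (f κ).2]
    by_cases hx : x = κ
    · rw [if_pos hx, if_pos (by rw [hx])]
    · rw [if_neg hx, if_neg (fun h => hx (hf (Subtype.ext h)))]
  rw [key, key]

omit [Fintype G] in
/-- the degree is the sum of the multiplicities. -/
theorem degree_eq_sum_mult (hc : Cfg A t) [Fintype (Cfsg.IrrCharacter A)] (χ : G → ℂ) :
    χ 1 = ∑ μ : Cfsg.IrrCharacter A, mult A χ μ := by
  have hcf : Cfsg.IsClassFunction A (res A χ) := by
    intro g x
    have : x * g * x⁻¹ = g := by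
      apply Subtype.ext
      push_cast
      exact hc.conj_of_mem x.2 g.2
    rw [this]
  have h1 := class_function_expansion (res A χ) hcf
  have h2 := congrFun h1 1
  rw [Finset.sum_apply] at h2
  have h3 : res A χ 1 = χ 1 := by simp [res]
  rw [← h3, h2]
  refine Finset.sum_congr rfl fun μ _ => ?_
  rw [Pi.smul_apply, irr_apply_one hc, smul_eq_mul, mul_one]
  rfl

/-- Parseval on `A`. -/
theorem sum_norm_res (hc : Cfg A t) [Fintype (Cfsg.IrrCharacter A)] {χ : G → ℂ}
    (hχ : Cfsg.IsCharacter G χ) :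
    ∑ a : A, χ a * conj (χ a)
      = (Nat.card A : ℂ) * ∑ μ : Cfsg.IrrCharacter A, mult A χ μ * mult A χ μ := by
  have hcf : Cfsg.IsClassFunction A (res A χ) := by
    intro g x
    have : x * g * x⁻¹ = g := by
      apply Subtype.ext
      push_cast
      exact hc.conj_of_mem x.2 g.2
    rw [this]
  have h1 := classInner_eq_sum_mult (res A χ) (res A χ) hcf
  have h2 : ∑ μ : Cfsg.IrrCharacter A, Cfsg.classInner (res A χ) (μ : A → ℂ) *
      Cfsg.classInner (μ : A → ℂ) (res A χ) = ∑ μ : Cfsg.IrrCharacter A, mult A χ μ * mult A χ μ := by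
    refine Finset.sum_congr rfl fun μ _ => ?_
    rw [classInner_irr_res_eq_mult hχ]
    rfl
  rw [h2, classInner_def] at h1
  rw [← h1]
  have hA0 : (Nat.card A : ℂ) ≠ 0 := Nat.cast_ne_zero.mpr Nat.card_pos.ne'
  rw [← mul_assoc, mul_inv_cancel₀ hA0, one_mul]
  rfl

end Cfsg.Agent.Lib.Helper7.BSW
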