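import Mathlib
import Cfsg.Prelude.Def_Characters
import Cfsg.Agent.Lib.Helper1.CharFound5
import Cfsg.Agent.Lib.Helper4.FrobTI4
import Cfsg.Agent.Lib.Helper7.BSW3
import Cfsg.Agent.Lib.Helper7.ABSW1
import Cfsg.Agent.S0161

set_option autoImplicit false

/-!
# Abstract Brauer-Suzuki-Wall: the generalized characters `Θ_λ = (1_K - λ)^G`
-/

namespace Cfsg.Agent.Lib.Helper7.ABSW

open Cfsg Cfsg.Agent.Lib.Helper1 Cfsg.Agent.Lib.Helper4 Cfsg.Agent.Lib.Helper7.BSW
open scoped ComplexConjugate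

variable {G : Type*} [Group G] {K : Subgroup G} {s : G}

/-- the trivial character. -/
noncomputable def oneIrr (H : Type*) [Group H] : Cfsg.IrrCharacter H :=
  ⟨fun _ => 1, Cfsg.Agent.S0161.isIrrCharacter_one⟩

theorem oneIrr_apply {H : Type*} [Group H] (x : H) : (oneIrr H : H → ℂ) x = 1 := rfl

variable [Fintype K]

theorem bar_oneIrr : bar (oneIrr K) = oneIrr K := by
  apply Subtype.ext
  funext a
  rw [bar_apply]
  rfl

section Col

variable [Fintype (Cfsg.IrrCharacter K)]

/-- column orthogonality in `K` against the identity. -/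
theorem sum_irr_apply_ne (hc : Cfg K s) {x : K} (hx : x ≠ 1) :
    ∑ μ : Cfsg.IrrCharacter K, (μ : K → ℂ) x = 0 := by
  classical
  have h1 := column_orthogonality (G := K) (1 : K) x
  have h2 : ∀ μ : Cfsg.IrrCharacter K, (μ : K → ℂ) x * conj ((μ : K → ℂ) 1) = (μ : K → ℂ) x := by
    intro μ
    rw [irr_apply_one hc, map_one, mul_one]
  simp only [h2] at h1
  rw [h1]
  unfold classIndicator
  rw [if_neg, mul_zero]
  intro h4
  exact hx (isConj_one_right.1 h4)

end Col

variable [Fintype G]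

/-- `Θ_λ`. -/
noncomputable def Th (K : Subgroup G) (lam : Cfsg.IrrCharacter K) : G → ℂ :=
  Cfsg.indFun K ((oneIrr K : K → ℂ) - (lam : K → ℂ))

theorem Th_isGenChar (lam : Cfsg.IrrCharacter K) : Cfsg.IsGeneralizedCharacter G (Th K lam) := by
  unfold Th
  rw [Cfsg.Agent.S0170.indFun_sub]
  exact isGenChar_sub
    (isGenChar_of_isCharacter (Cfsg.Agent.S0148.result K _ (isCharacter_of_irr (oneIrr K).2)))
    (isGenChar_of_isCharacter (Cfsg.Agent.S0148.result K _ (isCharacter_of_irr lam.2)))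

theorem Th_isClassFunction (lam : Cfsg.IrrCharacter K) : Cfsg.IsClassFunction G (Th K lam) :=
  indFun_isClassFunction K _

theorem Th_one (hc : Cfg K s) (lam : Cfsg.IrrCharacter K) : Th K lam 1 = 0 := by
  unfold Th
  apply indFun_one_of_zero
  rw [Pi.sub_apply, irr_apply_one hc, irr_apply_one hc, sub_self]

theorem Th_oneIrr : Th K (oneIrr K) = 0 := by
  unfold Th
  rw [sub_self]
  funext g
  apply Cfsg.Agent.Lib.Helper4.FrobTI.indFun_eq_zero_of
  intro x hx
  rfl

/-- the Gram matrix of the `Θ_λ`. -/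
theorem Th_inner (hc : Cfg K s) (lam lam' : Cfsg.IrrCharacter K) (h1 : lam ≠ oneIrr K)
    (h1' : lam' ≠ oneIrr K) :
    Cfsg.classInner (Th K lam) (Th K lam')
      = 2 + (if lam = lam' then 1 else 0) + (if lam = bar lam' then 1 else 0) := by
  unfold Th
  rw [inner_formula hc]
  have e1 : oneIrr K ≠ lam' := fun h => h1' h.symm
  have e2 : oneIrr K ≠ bar lam' := by
    intro h
    apply h1'
    rw [← bar_bar lam', ← h, bar_oneIrr]
  simp only [bar_oneIrr, if_true, if_neg e1, if_neg e2, if_neg h1]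
  ring

/-- the value of `Θ_λ` on `K` off the identity. -/
theorem Th_apply_mem (hc : Cfg K s) (lam : Cfsg.IrrCharacter K) {x : G} (hx : x ∈ K)
    (hx1 : x ≠ 1) :
    Th K lam x = 2 - (lam : K → ℂ) ⟨x, hx⟩ - (lam : K → ℂ) ⟨x⁻¹, K.inv_mem hx⟩ := by
  unfold Th
  rw [hc.indFun_apply _ hx hx1]
  simp only [Pi.sub_apply, oneIrr_apply]
  ring

/-- `Θ_λ` vanishes outside the conjugates of `K`. -/
theorem Th_apply_not_inU (hc : Cfg K s) (lam : Cfsg.IrrCharacter K) {y : G} (hy : ¬ InU K y) :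
    Th K lam y = 0 := by
  unfold Th
  apply Cfsg.Agent.Lib.Helper4.FrobTI.indFun_eq_zero_of
  intro x hx
  exfalso
  apply hy
  refine ⟨x⁻¹, ?_⟩
  rwa [inv_inv]

/-- Frobenius reciprocity for `Θ_λ`. -/
theorem Th_inner_char (lam : Cfsg.IrrCharacter K) {χ : G → ℂ} (hχ : Cfsg.IsCharacter G χ) :
    Cfsg.classInner (Th K lam) χ = mult K χ (oneIrr K) - mult K χ lam := by
  unfold Th
  rw [classInner_indFun_irr _ (isClassFunction_of_isCharacter hχ), classInner_sub_left,
    classInner_irr_res_eq_mult hχ, classInner_irr_res_eq_mult hχ]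

theorem Th_inner_char_bar (hc : Cfg K s) (lam : Cfsg.IrrCharacter K) {χ : G → ℂ}
    (hχ : Cfsg.IsCharacter G χ) :
    Cfsg.classInner (Th K (bar lam)) χ = Cfsg.classInner (Th K lam) χ := by
  rw [Th_inner_char _ hχ, Th_inner_char _ hχ, mult_bar hc (isClassFunction_of_isCharacter hχ)]

/-- `Θ` is invariant under `bar`. -/
theorem Th_bar (hc : Cfg K s) [Fintype (Cfsg.IrrCharacter G)] (lam : Cfsg.IrrCharacter K) :
    Th K (bar lam) = Th K lam := by
  rw [class_function_expansion _ (Th_isClassFunction (bar lam)),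
    class_function_expansion _ (Th_isClassFunction lam)]
  refine Finset.sum_congr rfl fun χ _ => ?_
  rw [Th_inner_char_bar hc lam (isCharacter_of_irr χ.2)]

/-- the trivial character of `G` occurs once in `Θ_λ`. -/
theorem Th_inner_one (lam : Cfsg.IrrCharacter K) (h1 : lam ≠ oneIrr K) :
    Cfsg.classInner (Th K lam) (oneIrr G : G → ℂ) = 1 := by
  unfold Th
  rw [classInner_indFun_irr _ (isClassFunction_irr (oneIrr G).2)]
  have : res K (oneIrr G : G → ℂ) = (oneIrr K : K → ℂ) := rfl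
  rw [this, classInner_sub_left, classInner_irr (oneIrr K).2 (oneIrr K).2,
    classInner_irr lam.2 (oneIrr K).2, if_pos rfl, if_neg, sub_zero]
  intro h
  exact h1 (Subtype.ext h)

/-- the values of a character on `K` off the identity in terms of the `Θ_λ`. -/
theorem char_apply_mem (hc : Cfg K s) [Fintype (Cfsg.IrrCharacter K)] {χ : G → ℂ}
    (hχ : Cfsg.IsCharacter G χ) {x : G} (hx : x ∈ K) (hx1 : x ≠ 1) :
    χ x = - ∑ lam : Cfsg.IrrCharacter K,
      Cfsg.classInner (Th K lam) χ * (lam : K → ℂ) ⟨x, hx⟩ := by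
  have hcf : Cfsg.IsClassFunction K (res K χ) := by
    intro g z
    have : z * g * z⁻¹ = g := by
      apply Subtype.ext
      push_cast
      exact hc.conj_of_mem z.2 g.2
    rw [this]
  have h1 := class_function_expansion (res K χ) hcf
  have h2 := congrFun h1 ⟨x, hx⟩
  rw [Finset.sum_apply] at h2
  have h3 : res K χ ⟨x, hx⟩ = χ x := rfl
  rw [h3] at h2
  simp only [Th_inner_char _ hχ, sub_mul]
  rw [Finset.sum_sub_distrib, ← Finset.mul_sum, sum_irr_apply_ne hc, mul_zero, zero_sub,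
    neg_neg, h2]
  · refine Finset.sum_congr rfl fun lam _ => ?_
    rw [Pi.smul_apply, smul_eq_mul]
    rfl
  · intro h
    exact hx1 (congrArg Subtype.val h)

end Cfsg.Agent.Lib.Helper7.ABSW
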