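import Mathlib
import Cfsg.Prelude.Def_Characters
import Cfsg.Prelude.Def_Blocks
import Cfsg.Agent.Lib.Helper8.RC1
import Cfsg.Agent.Lib.Helper7.ABSW2
import Cfsg.Agent.Lib.Helper7.ABSW4
import Cfsg.Agent.Lib.Helper7.ABSW5

set_option autoImplicit false

/-!
# Abstract Brauer-Suzuki-Wall: the number of ways of writing an element as a product of two
involutions
-/

namespace Cfsg.Agent.Lib.Helper7.ABSW

open Cfsg Cfsg.Agent.Lib.Helper1 Cfsg.Agent.Lib.Helper4 Cfsg.Agent.Lib.Helper7.BSW
open Cfsg.Agent.Lib.Helper8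
open scoped ComplexConjugate

universe u

variable {G : Type u} [Group G] {K : Subgroup G} {t s : G}

theorem Hyp.isConj_t_iff (h : Hyp K t s) (b : G) : IsConj t b ↔ orderOf b = 2 := by
  constructor
  · intro hb
    obtain ⟨c, hc⟩ := isConj_iff.1 hb
    rw [← hc, orderOf_conj_eq, h.ht]
  · intro hb
    exact h.hconj t b h.ht hb

/-- for `x ∈ K` off the identity, the involutions `b` with `b x` an involution are those of `K s`. -/
theorem Hyp.invol_pair_iff (h : Hyp K t s) {x : G} (hx : x ∈ K) (hx1 : x ≠ 1) (b : G) :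
    (orderOf b = 2 ∧ orderOf (b⁻¹ * x) = 2) ↔ b * s ∈ K := by
  constructor
  · rintro ⟨hb, hbx⟩
    have hbi := inv_of_orderOf_two hb
    have h1 := sq_of_orderOf_two hbx
    rw [hbi] at h1 hbx
    have hinv : b * x * b⁻¹ = x⁻¹ := by
      rw [hbi, eq_inv_iff_mul_eq_one]
      calc b * x * b * x = (b * x) * (b * x) := by group
        _ = 1 := h1
    have hbH : b ∈ Subgroup.centralizer ({t} : Set G) := by
      by_contra hb'
      have h2 := h.hTI b hb'
      have h3 : x⁻¹ ∈ K ⊓ K.map (MulAut.conj b).toMonoidHom := by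
        refine Subgroup.mem_inf.2 ⟨K.inv_mem hx, ?_⟩
        rw [Subgroup.mem_map]
        exact ⟨x, hx, hinv⟩
      rw [h2, Subgroup.mem_bot, inv_eq_one] at h3
      exact hx1 h3
    rcases h.mem_H_iff.1 hbH with hbK | hbK
    · exfalso
      rcases h.sq_eq_one hbK (sq_of_orderOf_two hb) with hb1 | hbt
      · exact ne_one_of_orderOf_two hb hb1
      · rw [hbt] at hinv hbx
        have h4 : t * x * t⁻¹ = x := by
          rw [h.comm t h.htK x hx, mul_assoc, mul_inv_cancel, mul_one]
        rw [h4] at hinv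
        have h5 : x * x = 1 := by
          have h6 : x * x⁻¹ = 1 := mul_inv_cancel x
          rw [← hinv] at h6
          exact h6
        rcases h.sq_eq_one hx h5 with hx1' | hxt
        · exact hx1 hx1'
        · rw [hxt, h.tt, orderOf_one] at hbx
          omega
    · exact hbK
  · intro hb
    have hb2 := h.mul_s_orderOf hb
    refine ⟨hb2, ?_⟩
    rw [inv_of_orderOf_two hb2]
    apply h.mul_s_orderOf
    have e : b * x * s = (b * s) * (s * x * s) := by
      have : (b * s) * (s * x * s) = b * (s * s) * x * s := by group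
      rw [this, h.ss]; group
    rw [e, h.s_conj hx]
    exact K.mul_mem hb (K.inv_mem hx)

/-- the number of involutions in `K s`. -/
theorem Hyp.card_pair_mem (h : Hyp K t s) {x : G} (hx : x ∈ K) (hx1 : x ≠ 1) :
    Nat.card {b : G // orderOf b = 2 ∧ orderOf (b⁻¹ * x) = 2} = Nat.card K := by
  have e1 : {b : G // orderOf b = 2 ∧ orderOf (b⁻¹ * x) = 2} ≃ {b : G // b * s ∈ K} :=
    Equiv.subtypeEquivRight (h.invol_pair_iff hx hx1)
  have e2 : {b : G // b * s ∈ K} ≃ {c : G // c ∈ K} :=
    (Equiv.mulRight s).subtypeEquiv (fun b => Iff.rfl)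
  exact Nat.card_congr (e1.trans e2)

/-- the order of the centralizer of `t`. -/
theorem Hyp.card_centralizer_t (h : Hyp K t s) [Finite G] :
    Nat.card (Subgroup.centralizer ({t} : Set G)) = 2 * Nat.card K := by
  classical
  have e : (K ⊕ K) ≃ Subgroup.centralizer ({t} : Set G) := by
    refine Equiv.ofBijective (fun z => Sum.elim
      (fun z : K => (⟨z, h.hKH z.2⟩ : Subgroup.centralizer ({t} : Set G)))
      (fun z : K => ⟨z * s, ?_⟩) z) ⟨?_, ?_⟩
    · apply h.mem_H_iff.2
      right
      rw [mul_assoc, h.ss, mul_one]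
      exact z.2
    · rintro (z | z) (w | w) hzw
      · simp only [Sum.elim_inl, Subtype.mk.injEq] at hzw
        rw [Subtype.ext hzw]
      · exfalso
        simp only [Sum.elim_inl, Sum.elim_inr, Subtype.mk.injEq] at hzw
        apply h.hsK
        have : s = (w : G)⁻¹ * z := by rw [hzw]; group
        rw [this]
        exact K.mul_mem (K.inv_mem w.2) z.2
      · exfalso
        simp only [Sum.elim_inl, Sum.elim_inr, Subtype.mk.injEq] at hzw
        apply h.hsK
        have : s = (z : G)⁻¹ * w := by rw [← hzw]; group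
        rw [this]
        exact K.mul_mem (K.inv_mem z.2) w.2
      · simp only [Sum.elim_inr, Subtype.mk.injEq] at hzw
        rw [Subtype.ext (mul_right_cancel hzw)]
    · rintro ⟨g, hg⟩
      rcases h.mem_H_iff.1 hg with hgK | hgK
      · exact ⟨Sum.inl ⟨g, hgK⟩, rfl⟩
      · refine ⟨Sum.inr ⟨g * s, hgK⟩, ?_⟩
        apply Subtype.ext
        simp only [Sum.elim_inr]
        rw [mul_assoc, h.ss, mul_one]
  rw [← Nat.card_congr e, Nat.card_sum]
  ring

variable [Fintype G]

/-- the number of ways of writing `x` as a product of two conjugates of `t`. -/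
noncomputable def Nfun (t : G) : G → ℂ := conv (classIndicator t) (classIndicator t)

theorem Nfun_isClassFunction (t : G) : IsClassFunction G (Nfun t) :=
  isClassFunction_conv (classIndicator_isClassFunction t) (classIndicator_isClassFunction t)

open Classical in
theorem Hyp.Nfun_eq_card (h : Hyp K t s) (x : G) :
    Nfun t x = (Nat.card {b : G // orderOf b = 2 ∧ orderOf (b⁻¹ * x) = 2} : ℂ) := by
  unfold Nfun
  rw [conv_apply]
  have h1 : ∀ y : G, classIndicator t y * classIndicator t (y⁻¹ * x)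
      = if orderOf y = 2 ∧ orderOf (y⁻¹ * x) = 2 then 1 else 0 := by
    intro y
    unfold classIndicator
    simp only [h.isConj_t_iff]
    by_cases h1 : orderOf y = 2
    · by_cases h2 : orderOf (y⁻¹ * x) = 2
      · rw [if_pos h1, if_pos h2, if_pos ⟨h1, h2⟩, mul_one]
      · rw [if_neg h2, mul_zero, if_neg (fun h' => h2 h'.2)]
    · rw [if_neg h1, zero_mul, if_neg (fun h' => h1 h'.1)]
  simp only [h1]
  rw [Finset.sum_boole, Nat.card_eq_fintype_card, Fintype.card_subtype]

theorem Hyp.Nfun_mem (h : Hyp K t s) {x : G} (hx : x ∈ K) (hx1 : x ≠ 1) :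
    Nfun t x = (Nat.card K : ℂ) := by
  rw [h.Nfun_eq_card, h.card_pair_mem hx hx1]

theorem Hyp.Nfun_realOut (h : Hyp K t s) {y a : G} (r : RealOut K y a) :
    Nfun t y = (Nat.card (Subgroup.centralizer ({y} : Set G)) : ℂ) := by
  rw [h.Nfun_eq_card, r.card_invol h]

theorem Hyp.Nfun_one (h : Hyp K t s) :
    Nfun t 1 = ((Subgroup.centralizer ({t} : Set G)).index : ℂ) :=
  conv_classIndicator_self_one t h.ht

theorem Hyp.Nfun_nonreal (h : Hyp K t s) {y : G}
    (hnr : ∀ a : G, orderOf a = 2 → a * y * a⁻¹ ≠ y⁻¹) : Nfun t y = 0 := by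
  apply conv_classIndicator_self_eq_zero t h.ht
  intro g hg
  exact hnr g ((h.isConj_t_iff g).1 hg)

/-- Fourier expansion of `Nfun`. -/
theorem Nfun_fourier [Fintype (IrrCharacter G)] (t g : G) :
    Nfun t g = (Nat.card G : ℂ)⁻¹ * ∑ ψ : IrrCharacter G,
      centralChar (ψ : G → ℂ) t ^ 2 * (ψ : G → ℂ) 1 * conj ((ψ : G → ℂ) g) := by
  rw [classFunction_eq_sum_omega (Nfun_isClassFunction t) g]
  congr 1
  refine Finset.sum_congr rfl fun ψ _ => ?_
  unfold Nfun
  rw [omega_conv_classIndicator_self ψ.2]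

end Cfsg.Agent.Lib.Helper7.ABSW
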