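import Mathlib
import Cfsg.Agent.Lib.Helper7.ABSW6

set_option autoImplicit false

/-!
# Abstract Brauer-Suzuki-Wall: the basic identity `(E)`
-/

namespace Cfsg.Agent.Lib.Helper7.ABSW

open Cfsg Cfsg.Agent.Lib.Helper1 Cfsg.Agent.Lib.Helper4 Cfsg.Agent.Lib.Helper7.BSW
open Cfsg.Agent.Lib.Helper8
open scoped ComplexConjugate

universe u

variable {G : Type u} [Group G] {K : Subgroup G} {t s : G}

/-- sums over two `Fintype` instances agree. -/
theorem sum_inst_irrel {α M : Type*} [AddCommMonoid M] (i1 i2 : Fintype α) (f g : α → M)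
    (h : ∀ x, f x = g x) :
    @Finset.sum α M _ (@Finset.univ α i1) f = @Finset.sum α M _ (@Finset.univ α i2) g := by
  have : i1 = i2 := Subsingleton.elim _ _
  subst this
  exact Finset.sum_congr rfl (fun x _ => h x)

theorem Hyp.ti_centralizer (h : Hyp K t s) (g z : G) (hz : z ∈ K) (hz1 : z ≠ 1)
    (hg : g * z * g⁻¹ ∈ K) : g ∈ Subgroup.centralizer ({t} : Set G) := by
  by_contra hb'
  have h2 := h.hTI g hb'
  have h3 : g * z * g⁻¹ ∈ K ⊓ K.map (MulAut.conj g).toMonoidHom := by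
    refine Subgroup.mem_inf.2 ⟨hg, ?_⟩
    rw [Subgroup.mem_map]
    exact ⟨z, hz, rfl⟩
  rw [h2, Subgroup.mem_bot] at h3
  apply hz1
  have : z = g⁻¹ * (g * z * g⁻¹) * g := by group
  rw [this, h3]; group

theorem Hyp.conj_mem_of_centralizer (h : Hyp K t s) (g : G)
    (hg : g ∈ Subgroup.centralizer ({t} : Set G)) (z : G) (hz : z ∈ K) : g * z * g⁻¹ ∈ K := by
  rcases h.mem_H_iff.1 hg with hgK | hgK
  · rw [h.cfg.conj_of_mem hgK hz]; exact hz
  · rw [h.mul_s_conj hgK hz]; exact K.inv_mem hz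

variable [Fintype K]

/-- a nontrivial irreducible character of `K` sums to zero. -/
theorem sum_irr_eq_zero (lam : IrrCharacter K) (h1 : lam ≠ oneIrr K) :
    ∑ z : K, (lam : K → ℂ) z = 0 := by
  have h2 := classInner_irr lam.2 (oneIrr K).2
  rw [if_neg (fun h' => h1 (Subtype.ext h'))] at h2
  unfold classInner at h2
  have hK0 : (Nat.card K : ℂ) ≠ 0 := Nat.cast_ne_zero.mpr Nat.card_pos.ne'
  rcases mul_eq_zero.1 h2 with h3 | h3
  · exact absurd h3 (inv_ne_zero hK0)
  · rw [← h3]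
    refine Finset.sum_congr rfl fun z _ => ?_
    rw [oneIrr_apply, map_one, mul_one]

theorem sum_irr_inv_eq_zero (lam : IrrCharacter K) (h1 : lam ≠ oneIrr K) :
    ∑ z : K, (lam : K → ℂ) z⁻¹ = 0 := by
  have h2 : bar lam ≠ oneIrr K := by
    intro h'
    apply h1
    rw [← bar_bar lam, h', bar_oneIrr]
  exact sum_irr_eq_zero (bar lam) h2

variable [Fintype G]

/-- summing `Θ_λ N` over the group. -/
theorem Hyp.sum_Th_mul_Nfun (h : Hyp K t s) (lam : IrrCharacter K) (h1 : lam ≠ oneIrr K) :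
    ∑ x : G, Th K lam x * Nfun t x = (Nat.card G : ℂ) * (Nat.card K : ℂ) := by
  classical
  have hc := h.cfg
  have hK0 : (Nat.card K : ℂ) ≠ 0 := Nat.cast_ne_zero.mpr Nat.card_pos.ne'
  set F : G → ℂ := fun x => Th K lam x * Nfun t x with hF
  have hFc : IsClassFunction G F := by
    intro x g
    simp only [hF]
    rw [Th_isClassFunction lam x g, Nfun_isClassFunction t x g]
  rw [sum_split K F]
  have e1 : F 1 = 0 := by
    simp only [hF]
    rw [Th_one hc, zero_mul]
  have e3 : ∑ x : G, (if ¬ InU K x then F x else 0) = 0 := by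
    apply Finset.sum_eq_zero
    intro x _
    by_cases hx : InU K x
    · rw [if_neg (fun h' => h' hx)]
    · rw [if_pos hx]
      simp only [hF]
      rw [Th_apply_not_inU hc lam hx, zero_mul]
  have e2 := sum_union_conj K (Subgroup.centralizer ({t} : Set G)) h.ti_centralizer
    h.conj_mem_of_centralizer F hFc
  have e5 : ∀ z : K, F z = (2 - (lam : K → ℂ) z - (lam : K → ℂ) z⁻¹) * (Nat.card K : ℂ)
      ∨ (z : G) = 1 := by
    intro z
    by_cases hz : (z : G) ≠ 1
    · left
      simp only [hF]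
      rw [Th_apply_mem hc lam z.2 hz, h.Nfun_mem z.2 hz]
      rfl
    · right
      push_neg at hz
      exact hz
  have e4 : ∑ z : K, (2 - (lam : K → ℂ) z - (lam : K → ℂ) z⁻¹) * (Nat.card K : ℂ)
      = 2 * (Nat.card K : ℂ) * (Nat.card K : ℂ) := by
    rw [← Finset.sum_mul, Finset.sum_sub_distrib, Finset.sum_sub_distrib, sum_irr_eq_zero lam h1,
      sum_irr_inv_eq_zero lam h1, Finset.sum_const, Finset.card_univ, nsmul_eq_mul,
      Nat.card_eq_fintype_card]
    ring
  have e4' : (Nat.card (Subgroup.centralizer ({t} : Set G)) : ℂ) *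
      ∑ x : G, (if x ≠ 1 ∧ InU K x then F x else 0)
      = (Nat.card G : ℂ) * (2 * (Nat.card K : ℂ) * (Nat.card K : ℂ)) := by
    rw [← e4, e2]
    congr 1
    refine sum_inst_irrel _ _ _ _ (fun z => ?_)
    split_ifs with hz
    · rcases e5 z with h5 | h5
      · exact h5
      · exact absurd h5 hz
    · push_neg at hz
      have hz1 : z = 1 := Subtype.ext hz
      rw [hz1, inv_one, irr_apply_one hc]
      ring
  rw [h.card_centralizer_t] at e4'
  push_cast at e4'
  rw [e1, e3, zero_add, add_zero]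
  have e6 : (2 * (Nat.card K : ℂ)) * ∑ x : G, (if x ≠ 1 ∧ InU K x then F x else 0)
      = (2 * (Nat.card K : ℂ)) * ((Nat.card G : ℂ) * (Nat.card K : ℂ)) := by
    rw [e4']; ring
  exact mul_left_cancel₀ (mul_ne_zero two_ne_zero hK0) e6

/-- the basic identity `(E)`. -/
theorem Hyp.sum_centralChar_sq (h : Hyp K t s) [Fintype (IrrCharacter G)] (lam : IrrCharacter K)
    (h1 : lam ≠ oneIrr K) :
    ∑ ψ : IrrCharacter G, centralChar (ψ : G → ℂ) t ^ 2 * (ψ : G → ℂ) 1 *
      classInner (Th K lam) (ψ : G → ℂ) = (Nat.card G : ℂ) * (Nat.card K : ℂ) := by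
  rw [← h.sum_Th_mul_Nfun lam h1]
  simp only [Nfun_fourier, classInner, Finset.mul_sum]
  rw [Finset.sum_comm]
  refine Finset.sum_congr rfl fun x _ => ?_
  refine Finset.sum_congr rfl fun ψ _ => ?_
  ring

end Cfsg.Agent.Lib.Helper7.ABSW
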