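import Mathlib
import Cfsg.Prelude.Def_Characters
import Cfsg.Agent.Lib.Helper1.CharFound4
import Cfsg.Agent.Lib.Helper4.AbelianIrr
import Cfsg.Agent.Lib.Helper7.BSW1
import Cfsg.Agent.Lib.Helper7.BSW2

set_option autoImplicit false

/-!
# Real characters of `A`, the size of the dual, and a summation lemma
-/

namespace Cfsg.Agent.Lib.Helper7.BSW

open Cfsg Cfsg.Agent.Lib.Helper1 Cfsg.Agent.Lib.Helper4
open scoped ComplexConjugate

variable {G : Type*} [Group G] {A : Subgroup G} {t : G}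

theorem unit_eq_one_of_sq_of_odd_pow {u : ℂˣ} (h2 : u * u = 1) {m : ℕ} (hodd : Odd m)
    (hm : u ^ m = 1) : u = 1 := by
  obtain ⟨k, rfl⟩ := hodd
  rw [pow_succ, pow_mul, pow_two, h2, one_pow, one_mul] at hm
  exact hm

/-- the homomorphism underlying a character of `A`. -/
theorem exists_hom (hc : Cfg A t) (μ : Cfsg.IrrCharacter A) :
    ∃ φ : A →* ℂˣ, ∀ a : A, (μ : A → ℂ) a = (φ a : ℂ) := by
  have hcomm : ∀ a b : A, a * b = b * a := fun a b => Subtype.ext (hc.comm a a.2 b b.2)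
  obtain ⟨φ, hφ⟩ := exists_hom_of_comm hcomm μ.2
  exact ⟨φ, fun a => by rw [hφ]⟩

variable [Fintype A]

theorem hom_sq_of_real {μ : Cfsg.IrrCharacter A} (hμ : bar μ = μ) {φ : A →* ℂˣ}
    (hφ : ∀ a : A, (μ : A → ℂ) a = (φ a : ℂ)) (a : A) : φ a * φ a = 1 := by
  have h1 : (bar μ : A → ℂ) a = (μ : A → ℂ) a := by rw [hμ]
  rw [bar_apply, hφ, hφ] at h1
  have h2 : φ a⁻¹ = φ a := Units.ext h1
  rw [map_inv] at h2
  calc φ a * φ a = φ a * (φ a)⁻¹ := by rw [h2]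
    _ = 1 := mul_inv_cancel _

/-- a real character is determined by its value at `z`. -/
theorem real_char_ext (hc : Cfg A t) {m : ℕ} (hodd : Odd m) {z : G} (hzA : z ∈ A)
    (hAm : ∀ a ∈ A, a ^ m = 1 ∨ (z * a) ^ m = 1)
    {μ ν : Cfsg.IrrCharacter A} (hμ : bar μ = μ) (hν : bar ν = ν)
    (h : (μ : A → ℂ) ⟨z, hzA⟩ = (ν : A → ℂ) ⟨z, hzA⟩) : μ = ν := by
  obtain ⟨φ, hφ⟩ := exists_hom hc μ
  obtain ⟨ψ, hψ⟩ := exists_hom hc ν
  have hz : φ ⟨z, hzA⟩ = ψ ⟨z, hzA⟩ := by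
    apply Units.ext
    rw [← hφ, ← hψ, h]
  have key : ∀ (χ : A →* ℂˣ), (∀ a : A, χ a * χ a = 1) → ∀ a : A, (a : G) ^ m = 1 → χ a = 1 := by
    intro χ hχ a ha
    apply unit_eq_one_of_sq_of_odd_pow (hχ a) hodd
    rw [← map_pow]
    have : a ^ m = 1 := Subtype.ext (by push_cast; exact ha)
    rw [this, map_one]
  apply Subtype.ext
  funext a
  rw [hφ, hψ]
  congr 1
  rcases hAm a a.2 with ha | ha
  · rw [key φ (hom_sq_of_real hμ hφ) a ha, key ψ (hom_sq_of_real hν hψ) a ha]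
  · have h1 := key φ (hom_sq_of_real hμ hφ) (⟨z, hzA⟩ * a) ha
    have h2 := key ψ (hom_sq_of_real hν hψ) (⟨z, hzA⟩ * a) ha
    rw [map_mul] at h1 h2
    have h3 : φ a = (φ ⟨z, hzA⟩)⁻¹ := eq_inv_of_mul_eq_one_right h1
    have h4 : ψ a = (ψ ⟨z, hzA⟩)⁻¹ := eq_inv_of_mul_eq_one_right h2
    rw [h3, h4, hz]

/-- value at `z` of a character is `±1`. -/
theorem apply_z (hc : Cfg A t) {z : G} (hzA : z ∈ A) (hz2 : z * z = 1)
    (μ : Cfsg.IrrCharacter A) :
    (μ : A → ℂ) ⟨z, hzA⟩ = 1 ∨ (μ : A → ℂ) ⟨z, hzA⟩ = -1 := by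
  obtain ⟨φ, hφ⟩ := exists_hom hc μ
  have h1 : φ ⟨z, hzA⟩ * φ ⟨z, hzA⟩ = 1 := by
    rw [← map_mul]
    have : (⟨z, hzA⟩ : A) * ⟨z, hzA⟩ = 1 := Subtype.ext hz2
    rw [this, map_one]
  have h2 : (φ ⟨z, hzA⟩ : ℂ) * (φ ⟨z, hzA⟩ : ℂ) = 1 := by
    rw [← Units.val_mul, h1, Units.val_one]
  rw [hφ]
  exact mul_self_eq_one_iff.mp h2

/-- there are at most two real characters. -/
theorem card_real_le (hc : Cfg A t) {m : ℕ} (hodd : Odd m) {z : G} (hzA : z ∈ A)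
    (hz2 : z * z = 1) (hAm : ∀ a ∈ A, a ^ m = 1 ∨ (z * a) ^ m = 1)
    [Fintype (Cfsg.IrrCharacter A)] [DecidableEq (Cfsg.IrrCharacter A)] :
    (Finset.univ.filter (fun μ : Cfsg.IrrCharacter A => bar μ = μ)).card ≤ 2 := by
  classical
  have h2 : (({1, -1} : Finset ℂ)).card ≤ 2 := Finset.card_le_two
  refine le_trans ?_ h2
  refine Finset.card_le_card_of_injOn (s := Finset.univ.filter (fun μ : Cfsg.IrrCharacter A => bar μ = μ))
    (t := ({1, -1} : Finset ℂ)) (fun μ : Cfsg.IrrCharacter A => (μ : A → ℂ) ⟨z, hzA⟩) ?_ ?_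
  · intro μ _
    simp only [Finset.coe_insert, Finset.coe_singleton, Set.mem_insert_iff, Set.mem_singleton_iff]
    exact apply_z hc hzA hz2 μ
  · intro μ hμ ν hν h
    simp only [Finset.coe_filter, Finset.mem_univ, true_and, Set.mem_ofPred_eq] at hμ hν
    exact real_char_ext hc hodd hzA hAm hμ hν h

omit [Fintype A] in
/-- the number of irreducible characters of `A`. -/
theorem card_irr (hc : Cfg A t) [Finite A] :
    Nat.card (Cfsg.IrrCharacter A) = Nat.card A := by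
  rw [card_irr_eq_card_conjClasses]
  have hcomm : ∀ a b : A, a * b = b * a := fun a b => Subtype.ext (hc.comm a a.2 b b.2)
  apply Nat.card_congr
  refine Equiv.symm (Equiv.ofBijective ConjClasses.mk ⟨?_, ConjClasses.mk_surjective⟩)
  intro a b hab
  rw [ConjClasses.mk_eq_mk_iff_isConj, isConj_iff] at hab
  obtain ⟨c, hc'⟩ := hab
  rw [← hc', hcomm c a, mul_assoc, mul_inv_cancel, mul_one]

/-- summation over a function with small support. -/
theorem sum_eq_of_support {α : Type*} [Fintype α] [DecidableEq α] (g : α → ℤ) (x y : α)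
    (hxy : x ≠ y) (T : Finset α) (hxT : x ∉ T) (hyT : y ∉ T)
    (hsupp : ∀ μ, μ ≠ x → μ ≠ y → μ ∉ T → g μ = 0) :
    ∑ μ, g μ = g x + g y + ∑ μ ∈ T, g μ := by
  have h1 : ∑ μ, g μ = ∑ μ ∈ ({x, y} ∪ T : Finset α), g μ := by
    symm
    apply Finset.sum_subset (Finset.subset_univ _)
    intro μ _ hμ
    simp only [Finset.mem_union, Finset.mem_insert, Finset.mem_singleton, not_or] at hμ
    exact hsupp μ hμ.1.1 hμ.1.2 hμ.2
  rw [h1, Finset.sum_union, Finset.sum_pair hxy]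
  rw [Finset.disjoint_left]
  intro μ hμ hμT
  simp only [Finset.mem_insert, Finset.mem_singleton] at hμ
  rcases hμ with rfl | rfl
  · exact hxT hμT
  · exact hyT hμT

end Cfsg.Agent.Lib.Helper7.BSW
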