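import Mathlib
import Cfsg.Agent.Lib.Helper7.BSW7
import Cfsg.Agent.Lib.Helper7.ABSW7

set_option autoImplicit false

/-!
# Abstract Brauer-Suzuki-Wall: the characters of `K`
-/

namespace Cfsg.Agent.Lib.Helper7.ABSW

open Cfsg Cfsg.Agent.Lib.Helper1 Cfsg.Agent.Lib.Helper4 Cfsg.Agent.Lib.Helper7.BSW
open scoped ComplexConjugate

universe u

variable {G : Type u} [Group G] {K : Subgroup G} {t s : G}

variable [Fintype K] [Fintype (IrrCharacter K)]

/-- full column orthogonality against the identity. -/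
theorem sum_irr_apply (hc : Cfg K s) (x : K) [Decidable (x = 1)] :
    ∑ μ : IrrCharacter K, (μ : K → ℂ) x = if x = 1 then (Nat.card K : ℂ) else 0 := by
  by_cases hx : x = 1
  · rw [if_pos hx, hx]
    simp only [irr_apply_one hc]
    rw [Finset.sum_const, Finset.card_univ, nsmul_eq_mul, mul_one, ← Nat.card_eq_fintype_card,
      card_irr hc]
  · rw [if_neg hx]
    exact sum_irr_apply_ne hc hx

/-- irreducible characters of `K` are multiplicative. -/
theorem irr_apply_mul (hc : Cfg K s) (μ : IrrCharacter K) (x y : K) :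
    (μ : K → ℂ) (x * y) = (μ : K → ℂ) x * (μ : K → ℂ) y := by
  obtain ⟨φ, hφ⟩ := exists_hom hc μ
  rw [hφ, hφ, hφ, map_mul, Units.val_mul]

theorem irr_apply_inv (μ : IrrCharacter K) (x : K) :
    (μ : K → ℂ) x⁻¹ = conj ((μ : K → ℂ) x) :=
  isCharacter_inv (isCharacter_of_irr μ.2) x

/-- the Frobenius-Schur count of the real characters of `K`. -/
theorem Hyp.card_real (h : Hyp K t s) [DecidableEq (IrrCharacter K)] :
    (Finset.univ.filter (fun μ : IrrCharacter K => bar μ = μ)).card = 2 := by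
  classical
  have hc := h.cfg
  have hK0 : (Nat.card K : ℂ) ≠ 0 := Nat.cast_ne_zero.mpr Nat.card_pos.ne'
  have h1 : ∑ x : K, ∑ μ : IrrCharacter K, (μ : K → ℂ) (x * x) = (Nat.card K : ℂ) * 2 := by
    simp only [sum_irr_apply hc]
    rw [← Finset.sum_filter, Finset.sum_const, nsmul_eq_mul, mul_comm]
    congr 1
    have h2 : (Finset.univ.filter (fun x : K => x * x = 1)) = {1, ⟨t, h.htK⟩} := by
      ext x
      simp only [Finset.mem_filter, Finset.mem_univ, true_and, Finset.mem_insert,
        Finset.mem_singleton]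
      constructor
      · intro hx
        have hx' : (x : G) * (x : G) = 1 := by
          have := congrArg Subtype.val hx
          simpa using this
        rcases h.sq_eq_one x.2 hx' with h3 | h3
        · left; exact Subtype.ext h3
        · right; exact Subtype.ext h3
      · rintro (rfl | rfl)
        · rw [mul_one]
        · apply Subtype.ext
          exact h.tt
    rw [h2, Finset.card_pair]
    · norm_num
    · intro h3
      exact h.t_ne_one (congrArg Subtype.val h3).symm
  have h2 : ∀ μ : IrrCharacter K, ∑ x : K, (μ : K → ℂ) (x * x)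
      = (Nat.card K : ℂ) * (if bar μ = μ then 1 else 0) := by
    intro μ
    have h3 := classInner_irr μ.2 (bar μ).2
    unfold classInner at h3
    have h4 : ∑ x : K, (μ : K → ℂ) (x * x) = ∑ x : K, (μ : K → ℂ) x * conj ((bar μ : K → ℂ) x) := by
      refine Finset.sum_congr rfl fun x _ => ?_
      rw [irr_apply_mul hc, bar_apply, irr_apply_inv, Complex.conj_conj]
    rw [h4]
    have h5 : (∑ x : K, (μ : K → ℂ) x * conj ((bar μ : K → ℂ) x))
        = (Nat.card K : ℂ) * ((Nat.card K : ℂ)⁻¹ *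
          ∑ x : K, (μ : K → ℂ) x * conj ((bar μ : K → ℂ) x)) := by
      rw [← mul_assoc, mul_inv_cancel₀ hK0, one_mul]
    rw [h5, h3]
    congr 1
    by_cases hμ : bar μ = μ
    · rw [if_pos hμ, if_pos (by rw [hμ])]
    · rw [if_neg hμ, if_neg (fun h' => hμ (Subtype.ext h').symm)]
  rw [Finset.sum_comm] at h1
  simp only [h2] at h1
  rw [← Finset.mul_sum, Finset.sum_boole] at h1
  have h3 := mul_left_cancel₀ hK0 h1
  exact_mod_cast h3

/-- the nontrivial real character of `K`. -/
theorem Hyp.exists_lam0 (h : Hyp K t s) :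
    ∃ lam0 : IrrCharacter K, lam0 ≠ oneIrr K ∧ bar lam0 = lam0 ∧
      ∀ μ : IrrCharacter K, bar μ = μ → μ = oneIrr K ∨ μ = lam0 := by
  classical
  have h1 := h.card_real
  obtain ⟨a, b, hab, h2⟩ := Finset.card_eq_two.1 h1
  have hmem : ∀ μ : IrrCharacter K, bar μ = μ ↔ μ = a ∨ μ = b := by
    intro μ
    have : μ ∈ Finset.univ.filter (fun μ : IrrCharacter K => bar μ = μ) ↔ μ ∈ ({a, b} : Finset _) := by
      rw [h2]
    simpa using this
  have h3 : oneIrr K = a ∨ oneIrr K = b := (hmem _).1 bar_oneIrr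
  rcases h3 with h3 | h3
  · refine ⟨b, ?_, (hmem b).2 (Or.inr rfl), ?_⟩
    · rw [h3]; exact hab.symm
    · intro μ hμ
      rw [h3]
      exact (hmem μ).1 hμ
  · refine ⟨a, ?_, (hmem a).2 (Or.inl rfl), ?_⟩
    · rw [h3]; exact hab
    · intro μ hμ
      rw [h3]
      exact ((hmem μ).1 hμ).symm

/-- The data of the characters of `K`: the real nontrivial character and a half system. -/
structure IrrData (K : Subgroup G) [Fintype K] (lam0 : IrrCharacter K)
    (R : Set (IrrCharacter K)) : Prop where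
  ne_one : lam0 ≠ oneIrr K
  real : bar lam0 = lam0
  all_real : ∀ μ : IrrCharacter K, bar μ = μ → μ = oneIrr K ∨ μ = lam0
  half : Half R

theorem Hyp.exists_irrData (h : Hyp K t s) :
    ∃ (lam0 : IrrCharacter K) (R : Set (IrrCharacter K)), IrrData K lam0 R := by
  obtain ⟨lam0, h1, h2, h3⟩ := h.exists_lam0
  obtain ⟨R, hR⟩ := exists_half (A := K)
  exact ⟨lam0, R, h1, h2, h3, hR⟩

variable {lam0 : IrrCharacter K} {R : Set (IrrCharacter K)}

theorem IrrData.mem_ne_one (d : IrrData K lam0 R) {μ : IrrCharacter K} (hμ : μ ∈ R) :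
    μ ≠ oneIrr K := by
  intro h
  apply d.half.ne_bar hμ
  rw [h, bar_oneIrr]

theorem IrrData.mem_ne_lam0 (d : IrrData K lam0 R) {μ : IrrCharacter K} (hμ : μ ∈ R) :
    μ ≠ lam0 := by
  intro h
  apply d.half.ne_bar hμ
  rw [h, d.real]

theorem IrrData.bar_ne_one (d : IrrData K lam0 R) {μ : IrrCharacter K} (hμ : μ ∈ R) :
    bar μ ≠ oneIrr K := by
  intro h
  apply d.mem_ne_one hμ
  rw [← bar_bar μ, h, bar_oneIrr]

theorem IrrData.bar_ne_lam0 (d : IrrData K lam0 R) {μ : IrrCharacter K} (hμ : μ ∈ R) :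
    bar μ ≠ lam0 := by
  intro h
  apply d.mem_ne_lam0 hμ
  rw [← bar_bar μ, h, d.real]

/-- the index map of the partition of the characters of `K`. -/
noncomputable def IrrData.idx (_d : IrrData K lam0 R) : Bool ⊕ (R ⊕ R) → IrrCharacter K
  | Sum.inl true => oneIrr K
  | Sum.inl false => lam0
  | Sum.inr (Sum.inl μ) => μ
  | Sum.inr (Sum.inr μ) => bar μ

theorem IrrData.idx_bijective (d : IrrData K lam0 R) : Function.Bijective d.idx := by
  constructor
  · intro x y hxy
    rcases x with (_ | _) | ⟨μ, hμ⟩ | ⟨μ, hμ⟩ <;> rcases y with (_ | _) | ⟨ν, hν⟩ | ⟨ν, hν⟩ <;>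
      simp only [IrrData.idx] at hxy
    · rfl
    · exact absurd hxy d.ne_one
    · exact absurd hxy.symm (d.mem_ne_lam0 hν)
    · exact absurd hxy.symm (d.bar_ne_lam0 hν)
    · exact absurd hxy.symm d.ne_one
    · rfl
    · exact absurd hxy.symm (d.mem_ne_one hν)
    · exact absurd hxy.symm (d.bar_ne_one hν)
    · exact absurd hxy (d.mem_ne_lam0 hμ)
    · exact absurd hxy (d.mem_ne_one hμ)
    · subst hxy; rfl
    · exfalso
      apply d.half.not_bar ν hν
      rw [← hxy]; exact hμ
    · exact absurd hxy (d.bar_ne_lam0 hμ)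
    · exact absurd hxy (d.bar_ne_one hμ)
    · exfalso
      apply d.half.not_bar μ hμ
      rw [hxy]; exact hν
    · have := bar_injective hxy
      subst this; rfl
  · intro lam
    by_cases hl : bar lam = lam
    · rcases d.all_real lam hl with h1 | h1
      · exact ⟨Sum.inl true, h1.symm⟩
      · exact ⟨Sum.inl false, h1.symm⟩
    · rcases d.half.cover lam hl with h1 | h1
      · exact ⟨Sum.inr (Sum.inl ⟨lam, h1⟩), rfl⟩
      · refine ⟨Sum.inr (Sum.inr ⟨bar lam, h1⟩), ?_⟩
        simp only [IrrData.idx]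
        exact bar_bar lam

/-- the partition of a sum over the characters of `K`. -/
theorem IrrData.sum_eq (d : IrrData K lam0 R) [Fintype R] (f : IrrCharacter K → ℂ) :
    ∑ lam : IrrCharacter K, f lam
      = f (oneIrr K) + f lam0 + ∑ μ : R, (f μ + f (bar (μ : IrrCharacter K))) := by
  rw [← d.idx_bijective.sum_comp f, Fintype.sum_sum_type, Fintype.sum_sum_type,
    Finset.sum_add_distrib]
  have : ∑ b : Bool, f (d.idx (Sum.inl b)) = f (oneIrr K) + f lam0 := by
    rw [Fintype.sum_bool]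
    rfl
  rw [this]
  rfl

/-- the number of characters of `K`. -/
theorem IrrData.card_eq (d : IrrData K lam0 R) (hc : Cfg K s) [Fintype R] :
    Nat.card K = 2 + 2 * Fintype.card R := by
  have h1 := d.sum_eq (fun _ => (1 : ℂ))
  rw [Finset.sum_const, Finset.card_univ, ← Nat.card_eq_fintype_card, card_irr hc,
    Finset.sum_const, Finset.card_univ] at h1
  simp only [nsmul_eq_mul, mul_one] at h1
  have h2 : ((Nat.card K : ℕ) : ℂ) = ((2 + 2 * Fintype.card R : ℕ) : ℂ) := by
    push_cast
    rw [h1]; ring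
  exact_mod_cast h2

/-- `Σ_λ λ(x) = 0` in partitioned form. -/
theorem IrrData.sum_apply (d : IrrData K lam0 R) (hc : Cfg K s) [Fintype R] {x : K}
    (hx : x ≠ 1) :
    (lam0 : K → ℂ) x + ∑ μ : R, (((μ : IrrCharacter K) : K → ℂ) x
      + ((μ : IrrCharacter K) : K → ℂ) x⁻¹) = -1 := by
  have h1 := d.sum_eq (fun lam => (lam : K → ℂ) x)
  rw [sum_irr_apply_ne hc hx] at h1
  simp only [bar_apply, oneIrr_apply] at h1
  linear_combination -h1

section Big

variable [Fintype G]

/-- the values of a character on `K` off the identity, in partitioned form. -/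
theorem IrrData.char_apply (d : IrrData K lam0 R) (hc : Cfg K s) [Fintype R] {χ : G → ℂ}
    (hχ : IsCharacter G χ) {x : G} (hx : x ∈ K) (hx1 : x ≠ 1) :
    χ x = - (classInner (Th K lam0) χ * (lam0 : K → ℂ) ⟨x, hx⟩
      + ∑ μ : R, classInner (Th K (μ : IrrCharacter K)) χ *
        (((μ : IrrCharacter K) : K → ℂ) ⟨x, hx⟩
          + ((μ : IrrCharacter K) : K → ℂ) ⟨x⁻¹, K.inv_mem hx⟩)) := by
  rw [char_apply_mem hc hχ hx hx1, d.sum_eq]
  rw [Th_oneIrr]
  have h0 : classInner (0 : G → ℂ) χ = 0 := by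
    unfold classInner
    simp
  rw [h0, zero_mul, zero_add]
  congr 2
  refine Finset.sum_congr rfl fun μ _ => ?_
  rw [Th_inner_char_bar hc _ hχ, bar_apply]
  have : (⟨x, hx⟩ : K)⁻¹ = ⟨x⁻¹, K.inv_mem hx⟩ := rfl
  rw [this]
  ring

end Big

end Cfsg.Agent.Lib.Helper7.ABSW
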