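import Mathlib
import Cfsg.Agent.Lib.Helper4.VirtualChar
import Cfsg.Agent.Lib.Helper7.ABSW8

set_option autoImplicit false

/-!
# Abstract Brauer-Suzuki-Wall: the exceptional characters attached to the non-real characters
of `K`
-/

namespace Cfsg.Agent.Lib.Helper7.ABSW

open Cfsg Cfsg.Agent.Lib.Helper1 Cfsg.Agent.Lib.Helper4 Cfsg.Agent.Lib.Helper7.BSW
open scoped ComplexConjugate

universe u

/-- two functions on an index set, any two distinct indices agreeing under exactly one of them: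
one of the functions is constant. -/
theorem all_eq_or_all_eq {ι X : Type*} (α β : ι → X)
    (h : ∀ μ ν : ι, μ ≠ ν → (α μ = α ν ∨ β μ = β ν) ∧ ¬(α μ = α ν ∧ β μ = β ν)) :
    (∀ μ ν, α μ = α ν) ∨ (∀ μ ν, β μ = β ν) := by
  by_contra hcon
  push_neg at hcon
  obtain ⟨⟨μ1, ν1, h1⟩, ⟨μ2, ν2, h2⟩⟩ := hcon
  have hμν1 : μ1 ≠ ν1 := fun h' => h1 (by rw [h'])
  have hb1 : β μ1 = β ν1 := by
    rcases (h μ1 ν1 hμν1).1 with h' | h'
    · exact absurd h' h1
    · exact h'
  have claim : ∀ κ, β μ1 = β κ := by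
    intro κ
    by_cases hκ1 : κ = μ1
    · rw [hκ1]
    by_cases hκ2 : κ = ν1
    · rw [hκ2]; exact hb1
    rcases (h μ1 κ (Ne.symm hκ1)).1 with h' | h'
    · rcases (h ν1 κ (Ne.symm hκ2)).1 with h'' | h''
      · exact absurd (h'.trans h''.symm) h1
      · exact hb1.trans h''
    · exact h'
  exact h2 ((claim μ2).symm.trans (claim ν2))

variable {G : Type u} [Group G] [Fintype G]

open Classical in
theorem inner_irr' (a b : IrrCharacter G) :
    classInner (a : G → ℂ) (b : G → ℂ) = if a = b then 1 else 0 := by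
  rw [classInner_irr a.2 b.2]
  by_cases hab : a = b
  · rw [if_pos hab, if_pos (congrArg Subtype.val hab)]
  · rw [if_neg hab, if_neg (fun h => hab (Subtype.ext h))]

theorem inner_irr_self (a : IrrCharacter G) : classInner (a : G → ℂ) (a : G → ℂ) = 1 := by
  rw [inner_irr', if_pos rfl]

theorem inner_irr_ne {a b : IrrCharacter G} (h : a ≠ b) :
    classInner (a : G → ℂ) (b : G → ℂ) = 0 := by
  rw [inner_irr', if_neg h]

/-- a generalized character of norm `2` and degree `-1` is a difference of two irreducible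
characters. -/
theorem genChar_norm_two_neg_one {θ : G → ℂ} (hθ : IsGeneralizedCharacter G θ)
    (h2 : classInner θ θ = 2) (h1 : θ 1 = -1) :
    ∃ α β : IrrCharacter G, α ≠ β ∧ θ = (α : G → ℂ) - (β : G → ℂ) ∧
      (β : G → ℂ) 1 = (α : G → ℂ) 1 + 1 := by
  obtain ⟨ψ₁, ψ₂, hψ₁, hψ₂, hne, a₁, a₂, ha₁, ha₂, rfl⟩ := genChar_norm_two hθ h2
  obtain ⟨n₁, hn₁, e₁⟩ := irr_apply_one_pos hψ₁
  obtain ⟨n₂, hn₂, e₂⟩ := irr_apply_one_pos hψ₂
  simp only [Pi.add_apply, Pi.smul_apply, smul_eq_mul, e₁, e₂] at h1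
  rcases ha₁ with rfl | rfl <;> rcases ha₂ with rfl | rfl
  · exfalso
    have : ((n₁ + n₂ + 1 : ℕ) : ℂ) = 0 := by push_cast; linear_combination h1
    have : n₁ + n₂ + 1 = 0 := by exact_mod_cast this
    omega
  · refine ⟨⟨ψ₁, hψ₁⟩, ⟨ψ₂, hψ₂⟩, fun h => hne (congrArg Subtype.val h), ?_, ?_⟩
    · simp [sub_eq_add_neg]
    · show ψ₂ 1 = ψ₁ 1 + 1
      rw [e₁, e₂]
      linear_combination -h1
  · refine ⟨⟨ψ₂, hψ₂⟩, ⟨ψ₁, hψ₁⟩, fun h => hne (congrArg Subtype.val h).symm, ?_, ?_⟩
    · simp [sub_eq_add_neg, add_comm]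
    · show ψ₁ 1 = ψ₂ 1 + 1
      rw [e₁, e₂]
      linear_combination -h1
  · exfalso
    have : ((n₁ + n₂ : ℕ) : ℂ) = 1 := by push_cast; linear_combination -h1
    have : n₁ + n₂ = 1 := by exact_mod_cast this
    omega

variable {K : Subgroup G} {s : G} [Fintype K]

theorem inner_one_Th (lam : IrrCharacter K) (h1 : lam ≠ oneIrr K) :
    classInner (oneIrr G : G → ℂ) (Th K lam) = 1 := by
  rw [← classInner_conj_symm, Th_inner_one lam h1, map_one]

/-- inner products of the `Θ_λ - 1`. -/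
theorem inner_Th_sub_one (lam lam' : IrrCharacter K) (h1 : lam ≠ oneIrr K)
    (h1' : lam' ≠ oneIrr K) :
    classInner (Th K lam - (oneIrr G : G → ℂ)) (Th K lam' - (oneIrr G : G → ℂ))
      = classInner (Th K lam) (Th K lam') - 1 := by
  rw [classInner_sub_left, classInner_sub_right, classInner_sub_right, Th_inner_one lam h1,
    inner_one_Th lam' h1', inner_irr_self]
  ring

theorem Th_sub_one_isGenChar (lam : IrrCharacter K) :
    IsGeneralizedCharacter G (Th K lam - (oneIrr G : G → ℂ)) :=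
  isGenChar_sub (Th_isGenChar lam) (isGenChar_of_irr (oneIrr G).2)

theorem Th_sub_one_apply_one (hc : Cfg K s) (lam : IrrCharacter K) :
    (Th K lam - (oneIrr G : G → ℂ)) 1 = -1 := by
  rw [Pi.sub_apply, Th_one hc, oneIrr_apply, zero_sub]

theorem Th_sub_one_inner_one (lam : IrrCharacter K) (h1 : lam ≠ oneIrr K) :
    classInner (Th K lam - (oneIrr G : G → ℂ)) (oneIrr G : G → ℂ) = 0 := by
  rw [classInner_sub_left, Th_inner_one lam h1, inner_irr_self, sub_self]

/-- the exceptional characters for the non-real characters of `K`. -/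
structure PreFrag (K : Subgroup G) [Fintype K] (R : Set (IrrCharacter K)) (ε : ℂ)
    (ψ : IrrCharacter G) (χ : R → IrrCharacter G) : Prop where
  hε : ε = 1 ∨ ε = -1
  inj : Function.Injective χ
  hTh : ∀ μ : R, Th K (μ : IrrCharacter K)
    = (oneIrr G : G → ℂ) + ε • (ψ : G → ℂ) - ε • (χ μ : G → ℂ)
  ψ_ne_one : ψ ≠ oneIrr G
  χ_ne_one : ∀ μ, χ μ ≠ oneIrr G
  χ_ne_ψ : ∀ μ, χ μ ≠ ψ

variable [Fintype (IrrCharacter K)] {lam0 : IrrCharacter K} {R : Set (IrrCharacter K)}

theorem exists_preFrag (hc : Cfg K s) (d : IrrData K lam0 R) [Nonempty R] :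
    ∃ (ε : ℂ) (ψ : IrrCharacter G) (χ : R → IrrCharacter G), PreFrag K R ε ψ χ := by
  classical
  have hne1 : ∀ μ : R, (μ : IrrCharacter K) ≠ oneIrr K := fun μ => d.mem_ne_one μ.2
  have hnorm : ∀ μ : R, classInner (Th K (μ : IrrCharacter K) - (oneIrr G : G → ℂ))
      (Th K (μ : IrrCharacter K) - (oneIrr G : G → ℂ)) = 2 := by
    intro μ
    rw [inner_Th_sub_one _ _ (hne1 μ) (hne1 μ), Th_inner hc _ _ (hne1 μ) (hne1 μ), if_pos rfl,
      if_neg (fun h' => d.half.ne_bar μ.2 h'.symm)]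
    norm_num
  have hex : ∀ μ : R, ∃ α β : IrrCharacter G, α ≠ β ∧
      Th K (μ : IrrCharacter K) - (oneIrr G : G → ℂ) = (α : G → ℂ) - (β : G → ℂ) ∧
      (β : G → ℂ) 1 = (α : G → ℂ) 1 + 1 := fun μ =>
    genChar_norm_two_neg_one (Th_sub_one_isGenChar _) (hnorm μ) (Th_sub_one_apply_one hc _)
  choose α β hne hT hdeg using hex
  have hα1 : ∀ μ : R, α μ ≠ oneIrr G ∧ β μ ≠ oneIrr G := by
    intro μ
    have h1 := Th_sub_one_inner_one (G := G) (μ : IrrCharacter K) (hne1 μ)
    rw [hT μ, classInner_sub_left, inner_irr', inner_irr'] at h1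
    constructor
    · intro h2
      have h3 : β μ ≠ oneIrr G := fun h3 => hne μ (h2.trans h3.symm)
      rw [if_pos h2, if_neg h3] at h1
      norm_num at h1
    · intro h2
      have h3 : α μ ≠ oneIrr G := fun h3 => hne μ (h3.trans h2.symm)
      rw [if_pos h2, if_neg h3] at h1
      norm_num at h1
  have key : ∀ μ ν : R, μ ≠ ν → (α μ = α ν ∨ β μ = β ν) ∧ ¬(α μ = α ν ∧ β μ = β ν) := by
    intro μ ν hμν
    have h1 : classInner (Th K (μ : IrrCharacter K) - (oneIrr G : G → ℂ))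
        (Th K (ν : IrrCharacter K) - (oneIrr G : G → ℂ)) = 1 := by
      rw [inner_Th_sub_one _ _ (hne1 μ) (hne1 ν), Th_inner hc _ _ (hne1 μ) (hne1 ν),
        if_neg (fun h' => hμν (Subtype.ext h')), if_neg]
      · norm_num
      · intro h'
        apply d.half.not_bar ν ν.2
        rw [← h']
        exact μ.2
    rw [hT μ, hT ν] at h1
    simp only [classInner_sub_left, classInner_sub_right, inner_irr'] at h1
    by_cases ha : α μ = α ν
    · by_cases hb : β μ = β ν
      · exfalso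
        have hc' : α μ ≠ β ν := fun h => hne μ (h.trans hb.symm)
        have hd : β μ ≠ α ν := fun h => hne μ (ha.trans h.symm)
        rw [if_pos ha, if_pos hb, if_neg hc', if_neg hd] at h1
        norm_num at h1
      · exact ⟨Or.inl ha, fun h => hb h.2⟩
    · by_cases hb : β μ = β ν
      · exact ⟨Or.inr hb, fun h => ha h.1⟩
      · exfalso
        rw [if_neg ha, if_neg hb] at h1
        split_ifs at h1 <;> norm_num at h1
  obtain ⟨μ0⟩ := (inferInstance : Nonempty R)
  rcases all_eq_or_all_eq α β key with hall | hall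
  · refine ⟨1, α μ0, β, Or.inl rfl, ?_, ?_, (hα1 μ0).1, fun μ => (hα1 μ).2, ?_⟩
    · intro μ ν hμν
      by_contra hne'
      exact (key μ ν hne').2 ⟨hall μ ν, hμν⟩
    · intro μ
      have := hT μ
      rw [sub_eq_iff_eq_add] at this
      rw [this, hall μ0 μ, one_smul, one_smul]
      abel
    · intro μ h'
      apply hne μ
      rw [hall μ μ0, h']
  · refine ⟨-1, β μ0, α, Or.inr rfl, ?_, ?_, (hα1 μ0).2, fun μ => (hα1 μ).1, ?_⟩
    · intro μ ν hμν
      by_contra hne'
      exact (key μ ν hne').2 ⟨hμν, hall μ ν⟩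
    · intro μ
      have := hT μ
      rw [sub_eq_iff_eq_add] at this
      rw [this, hall μ0 μ, neg_smul, neg_smul, one_smul, one_smul]
      abel
    · intro μ h'
      apply hne μ
      rw [h', hall μ0 μ]

end Cfsg.Agent.Lib.Helper7.ABSW
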