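import Mathlib
import Cfsg.Agent.Lib.Helper7.ABSW9

set_option autoImplicit false

/-!
# Abstract Brauer-Suzuki-Wall: the real character of `K` and the fragment of the character table
-/

namespace Cfsg.Agent.Lib.Helper7.ABSW

open Cfsg Cfsg.Agent.Lib.Helper1 Cfsg.Agent.Lib.Helper4 Cfsg.Agent.Lib.Helper7.BSW
open scoped ComplexConjugate

universe u

variable {G : Type u} [Group G] [Fintype G]

section Sums

variable [Fintype (IrrCharacter G)]

theorem sum_mul_inner_irr (F : IrrCharacter G → ℂ) (c : ℂ) (A : IrrCharacter G) :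
    ∑ χ' : IrrCharacter G, F χ' * (c * classInner (A : G → ℂ) (χ' : G → ℂ)) = c * F A := by
  classical
  simp only [inner_irr']
  rw [Finset.sum_eq_single A]
  · rw [if_pos rfl]; ring
  · intro b _ hb
    rw [if_neg (fun h' => hb h'.symm)]; ring
  · intro h'
    exact absurd (Finset.mem_univ A) h'

end Sums

variable {K : Subgroup G} {t s : G} [Fintype K]
variable {lam0 : IrrCharacter K} {R : Set (IrrCharacter K)} {ε : ℂ} {ψ : IrrCharacter G}
  {χ : R → IrrCharacter G}

namespace PreFrag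

theorem eps_sq (pf : PreFrag K R ε ψ χ) : ε * ε = 1 := by
  rcases pf.hε with h | h <;> rw [h] <;> norm_num

theorem eps_conj (pf : PreFrag K R ε ψ χ) : conj ε = ε := by
  rcases pf.hε with h | h <;> rw [h] <;> simp

theorem eps_ne_zero (pf : PreFrag K R ε ψ χ) : ε ≠ 0 := by
  rcases pf.hε with h | h <;> rw [h] <;> norm_num

theorem inner_Th (pf : PreFrag K R ε ψ χ) (μ : R) (χ' : G → ℂ) :
    classInner (Th K (μ : IrrCharacter K)) χ' = classInner (oneIrr G : G → ℂ) χ'
      + ε * classInner (ψ : G → ℂ) χ' - ε * classInner (χ μ : G → ℂ) χ' := by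
  rw [pf.hTh μ, classInner_sub_left, classInner_add_left, classInner_smul_left,
    classInner_smul_left]

theorem inner_Th_psi (pf : PreFrag K R ε ψ χ) (μ : R) :
    classInner (Th K (μ : IrrCharacter K)) (ψ : G → ℂ) = ε := by
  rw [pf.inner_Th, inner_irr_ne pf.ψ_ne_one.symm, inner_irr_self, inner_irr_ne (pf.χ_ne_ψ μ)]
  ring

theorem inner_Th_chi_self (pf : PreFrag K R ε ψ χ) (μ : R) :
    classInner (Th K (μ : IrrCharacter K)) (χ μ : G → ℂ) = -ε := by
  rw [pf.inner_Th, inner_irr_ne (pf.χ_ne_one μ).symm, inner_irr_self,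
    inner_irr_ne (pf.χ_ne_ψ μ).symm]
  ring

theorem inner_Th_chi_ne (pf : PreFrag K R ε ψ χ) {μ ν : R} (hμν : μ ≠ ν) :
    classInner (Th K (μ : IrrCharacter K)) (χ ν : G → ℂ) = 0 := by
  rw [pf.inner_Th, inner_irr_ne (pf.χ_ne_one ν).symm, inner_irr_ne (pf.χ_ne_ψ ν).symm,
    inner_irr_ne (fun h' => hμν (pf.inj h'))]
  ring

theorem inner_Th_other (pf : PreFrag K R ε ψ χ) (μ : R) {χ' : IrrCharacter G}
    (h1 : χ' ≠ oneIrr G) (h2 : χ' ≠ ψ) (h3 : ∀ ν, χ' ≠ χ ν) :
    classInner (Th K (μ : IrrCharacter K)) (χ' : G → ℂ) = 0 := by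
  rw [pf.inner_Th, inner_irr_ne h1.symm, inner_irr_ne h2.symm, inner_irr_ne (h3 μ).symm]
  ring

theorem degree (pf : PreFrag K R ε ψ χ) (hc : Cfg K s) (μ : R) :
    (χ μ : G → ℂ) 1 = (ψ : G → ℂ) 1 + ε := by
  have h1 := Th_one hc (G := G) (μ : IrrCharacter K)
  rw [pf.hTh μ] at h1
  simp only [Pi.add_apply, Pi.sub_apply, Pi.smul_apply, smul_eq_mul, oneIrr_apply] at h1
  have h2 := pf.eps_sq
  linear_combination (-ε) * h1 - ((χ μ : G → ℂ) 1 - (ψ : G → ℂ) 1) * h2

variable [Fintype (IrrCharacter K)]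

theorem inner_Th0_chi (pf : PreFrag K R ε ψ χ) (hc : Cfg K s) (d : IrrData K lam0 R) (μ : R) :
    classInner (Th K lam0) (χ μ : G → ℂ) = classInner (Th K lam0) (ψ : G → ℂ) - ε := by
  classical
  have h1 := Th_inner hc (G := G) lam0 (μ : IrrCharacter K) d.ne_one (d.mem_ne_one μ.2)
  rw [if_neg (fun h' => d.mem_ne_lam0 μ.2 h'.symm),
    if_neg (fun h' => d.bar_ne_lam0 μ.2 h'.symm)] at h1
  rw [pf.hTh μ, classInner_sub_right, classInner_add_right, classInner_smul_right,
    classInner_smul_right, pf.eps_conj, Th_inner_one lam0 d.ne_one] at h1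
  have h2 := pf.eps_sq
  linear_combination (-ε) * h1 + (classInner (Th K lam0) (ψ : G → ℂ)
    - classInner (Th K lam0) (χ μ : G → ℂ)) * h2

/-- Bessel's inequality for `Θ_{λ₀}` against `1`, `ψ` and the `χ_μ`. -/
theorem bessel (pf : PreFrag K R ε ψ χ) (hc : Cfg K s) (d : IrrData K lam0 R) [Fintype R]
    [Fintype (IrrCharacter G)] {x e : ℤ} (he : ε = e)
    (hx : classInner (Th K lam0) (ψ : G → ℂ) = x) :
    1 + x * x + (Fintype.card R : ℤ) * ((x - e) * (x - e)) ≤ 4 := by
  classical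
  have hθ := Th_isGenChar (G := G) lam0
  have hm : ∀ χ' : IrrCharacter G, ∃ m : ℤ, classInner (Th K lam0) (χ' : G → ℂ) = m :=
    fun χ' => classInner_genChar_int hθ (isGenChar_of_irr χ'.2)
  choose m hm using hm
  have hn := genChar_norm hθ m hm
  rw [Th_inner hc lam0 lam0 d.ne_one d.ne_one, if_pos rfl, if_pos d.real.symm] at hn
  have hsum : ∑ χ' : IrrCharacter G, m χ' * m χ' = 4 := by
    have : ((4 : ℤ) : ℂ) = ((∑ χ' : IrrCharacter G, m χ' * m χ' : ℤ) : ℂ) := by
      rw [← hn]; norm_num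
    exact_mod_cast this.symm
  have m1 : m (oneIrr G) = 1 := by
    have := hm (oneIrr G)
    rw [Th_inner_one lam0 d.ne_one] at this
    exact_mod_cast this.symm
  have mψ : m ψ = x := by
    have := hm ψ
    rw [hx] at this
    exact_mod_cast this.symm
  have mχ : ∀ μ, m (χ μ) = x - e := by
    intro μ
    have := hm (χ μ)
    rw [pf.inner_Th0_chi hc d μ, hx, he] at this
    exact_mod_cast this.symm
  have hle : ∑ χ' ∈ insert (oneIrr G) (insert ψ (Finset.univ.image χ)), m χ' * m χ'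
      ≤ ∑ χ' : IrrCharacter G, m χ' * m χ' :=
    Finset.sum_le_sum_of_subset_of_nonneg (Finset.subset_univ _)
      (fun i _ _ => mul_self_nonneg _)
  have h1 : oneIrr G ∉ insert ψ (Finset.univ.image χ) := by
    simp only [Finset.mem_insert, Finset.mem_image, Finset.mem_univ, true_and, not_or,
      not_exists]
    exact ⟨pf.ψ_ne_one.symm, fun μ h' => pf.χ_ne_one μ h'⟩
  have h2 : ψ ∉ Finset.univ.image χ := by
    simp only [Finset.mem_image, Finset.mem_univ, true_and, not_exists]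
    exact fun μ h' => pf.χ_ne_ψ μ h'
  rw [Finset.sum_insert h1, Finset.sum_insert h2,
    Finset.sum_image (fun a _ b _ hab => pf.inj hab), m1, mψ] at hle
  simp only [mχ] at hle
  rw [Finset.sum_const, Finset.card_univ, nsmul_eq_mul, hsum] at hle
  linarith

/-- the multiplicity of `ψ` in `Θ_{λ₀}`. -/
theorem p_cases (pf : PreFrag K R ε ψ χ) (hc : Cfg K s) (d : IrrData K lam0 R) [Fintype R]
    [Nonempty R] [Fintype (IrrCharacter G)] :
    classInner (Th K lam0) (ψ : G → ℂ) = ε ∨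
      (classInner (Th K lam0) (ψ : G → ℂ) = 0 ∧ Fintype.card R ≤ 3) := by
  obtain ⟨x, hx⟩ := classInner_genChar_int (Th_isGenChar (G := G) lam0) (isGenChar_of_irr ψ.2)
  have hr : 1 ≤ (Fintype.card R : ℤ) := by exact_mod_cast Fintype.card_pos
  have hb1 := fun he => pf.bessel hc d (x := x) (e := 1) he hx
  have hb2 := fun he => pf.bessel hc d (x := x) (e := -1) he hx
  obtain ⟨r, hr'⟩ : ∃ r : ℤ, (Fintype.card R : ℤ) = r := ⟨_, rfl⟩
  have hr3 : r ≤ 3 → Fintype.card R ≤ 3 := by
    intro h3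
    have : (Fintype.card R : ℤ) ≤ 3 := by rw [hr']; exact h3
    exact_mod_cast this
  rw [hr'] at hr hb1 hb2
  have hnn : ∀ e : ℤ, 0 ≤ r * ((x - e) * (x - e)) := fun e =>
    mul_nonneg (by linarith) (mul_self_nonneg _)
  rcases pf.hε with he | he
  · have hb := hb1 (by rw [he]; norm_num)
    have hxx : x * x ≤ 3 := by linarith [hnn 1]
    have hx1 : -1 ≤ x := by nlinarith
    have hx2 : x ≤ 1 := by nlinarith
    interval_cases x
    · exfalso; norm_num at hb; linarith
    · right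
      refine ⟨by rw [hx]; norm_num, hr3 ?_⟩
      norm_num at hb
      linarith
    · left; rw [hx, he]; norm_num
  · have hb := hb2 (by rw [he]; norm_num)
    have hxx : x * x ≤ 3 := by linarith [hnn (-1)]
    have hx1 : -1 ≤ x := by nlinarith
    have hx2 : x ≤ 1 := by nlinarith
    interval_cases x
    · left; rw [hx, he]; norm_num
    · right
      refine ⟨by rw [hx]; norm_num, hr3 ?_⟩
      norm_num at hb
      linarith
    · exfalso; norm_num at hb; linarith

end PreFrag

end Cfsg.Agent.Lib.Helper7.ABSW
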