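import Mathlib
import Cfsg.Agent.Lib.Helper7.ABSW10

set_option autoImplicit false

/-!
# Abstract Brauer-Suzuki-Wall: the fragment of the character table
-/

namespace Cfsg.Agent.Lib.Helper7.ABSW

open Cfsg Cfsg.Agent.Lib.Helper1 Cfsg.Agent.Lib.Helper4 Cfsg.Agent.Lib.Helper7.BSW
open scoped ComplexConjugate

universe u

variable {G : Type u} [Group G] [Fintype G]

theorem classInner_sub_smul_self (A B : G → ℂ) (e : ℂ) :
    classInner (A - e • B) (A - e • B)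
      = classInner A A - conj e * classInner A B - e * classInner B A
        + e * conj e * classInner B B := by
  rw [classInner_sub_left, classInner_sub_right, classInner_sub_right, classInner_smul_right,
    classInner_smul_left, classInner_smul_left, classInner_smul_right]
  ring

variable {K : Subgroup G} {t s : G} [Fintype K] [Fintype (IrrCharacter K)]
variable {lam0 : IrrCharacter K} {R : Set (IrrCharacter K)} {ε : ℂ} {ψ : IrrCharacter G}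
  {χ : R → IrrCharacter G}

/-- the value of a character at `t`. -/
theorem IrrData.char_apply_t (d : IrrData K lam0 R) (h : Hyp K t s) [Fintype R] {χ' : G → ℂ}
    (hχ : IsCharacter G χ') :
    χ' t = -(classInner (Th K lam0) χ' * (lam0 : K → ℂ) ⟨t, h.htK⟩
      + ∑ μ : R, classInner (Th K (μ : IrrCharacter K)) χ' *
        (2 * ((μ : IrrCharacter K) : K → ℂ) ⟨t, h.htK⟩)) := by
  rw [d.char_apply h.cfg hχ h.htK h.t_ne_one]
  congr 2
  refine Finset.sum_congr rfl fun μ _ => ?_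
  have : (⟨t⁻¹, K.inv_mem h.htK⟩ : K) = ⟨t, h.htK⟩ := Subtype.ext h.t_inv
  rw [this]; ring

namespace PreFrag

theorem chi_apply_t (pf : PreFrag K R ε ψ χ) (h : Hyp K t s) (d : IrrData K lam0 R) [Fintype R]
    (μ : R) :
    (χ μ : G → ℂ) t = -(classInner (Th K lam0) (χ μ : G → ℂ)) * (lam0 : K → ℂ) ⟨t, h.htK⟩
      + 2 * ε * ((μ : IrrCharacter K) : K → ℂ) ⟨t, h.htK⟩ := by
  rw [d.char_apply_t h (isCharacter_of_irr (χ μ).2), Finset.sum_eq_single μ]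
  · rw [pf.inner_Th_chi_self]; ring
  · intro ν _ hν
    rw [pf.inner_Th_chi_ne hν, zero_mul]
  · intro h'
    exact absurd (Finset.mem_univ μ) h'

/-- the identity `(E)` for `Θ_μ`. -/
theorem E_mu (pf : PreFrag K R ε ψ χ) (h : Hyp K t s) (d : IrrData K lam0 R)
    [Fintype (IrrCharacter G)] (μ : R) :
    ((Subgroup.centralizer ({t} : Set G)).index : ℂ) ^ 2
      + ε * (centralChar (ψ : G → ℂ) t ^ 2 * (ψ : G → ℂ) 1)
      - ε * (centralChar (χ μ : G → ℂ) t ^ 2 * (χ μ : G → ℂ) 1)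
      = (Nat.card G : ℂ) * (Nat.card K : ℂ) := by
  have h1 := h.sum_centralChar_sq (μ : IrrCharacter K) (d.mem_ne_one μ.2)
  simp only [pf.inner_Th] at h1
  have h2 : ∀ χ' : IrrCharacter G, centralChar (χ' : G → ℂ) t ^ 2 * (χ' : G → ℂ) 1 *
      (classInner (oneIrr G : G → ℂ) (χ' : G → ℂ) + ε * classInner (ψ : G → ℂ) (χ' : G → ℂ)
        - ε * classInner (χ μ : G → ℂ) (χ' : G → ℂ))
      = centralChar (χ' : G → ℂ) t ^ 2 * (χ' : G → ℂ) 1 *
          (1 * classInner (oneIrr G : G → ℂ) (χ' : G → ℂ))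
        + centralChar (χ' : G → ℂ) t ^ 2 * (χ' : G → ℂ) 1 *
          (ε * classInner (ψ : G → ℂ) (χ' : G → ℂ))
        - centralChar (χ' : G → ℂ) t ^ 2 * (χ' : G → ℂ) 1 *
          (ε * classInner (χ μ : G → ℂ) (χ' : G → ℂ)) := by
    intro χ'; ring
  simp only [h2] at h1
  rw [Finset.sum_sub_distrib, Finset.sum_add_distrib,
    sum_mul_inner_irr (fun χ' : IrrCharacter G => centralChar (χ' : G → ℂ) t ^ 2 * (χ' : G → ℂ) 1),
    sum_mul_inner_irr (fun χ' : IrrCharacter G => centralChar (χ' : G → ℂ) t ^ 2 * (χ' : G → ℂ) 1),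
    sum_mul_inner_irr (fun χ' : IrrCharacter G => centralChar (χ' : G → ℂ) t ^ 2 * (χ' : G → ℂ) 1)]
    at h1
  rw [← h1]
  unfold centralChar
  simp only [oneIrr_apply]
  ring

/-- the case `p = 0` with at least two pairs of non-real characters is impossible. -/
theorem false_of_p_zero (pf : PreFrag K R ε ψ χ) (h : Hyp K t s) (d : IrrData K lam0 R)
    [Fintype R] [Fintype (IrrCharacter G)] (hp : classInner (Th K lam0) (ψ : G → ℂ) = 0)
    (hr : 2 ≤ Fintype.card R) : False := by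
  have hc := h.cfg
  have hε0 := pf.eps_ne_zero
  have hε2 := pf.eps_sq
  set n : ℂ := ((Subgroup.centralizer ({t} : Set G)).index : ℂ) with hn
  have hn0 : n ≠ 0 := by
    rw [hn]
    exact Nat.cast_ne_zero.2 Subgroup.index_ne_zero_of_finite
  set l0 : ℂ := (lam0 : K → ℂ) ⟨t, h.htK⟩ with hl0
  have ha : ∀ μ : R, (χ μ : G → ℂ) t
      = ε * (l0 + 2 * ((μ : IrrCharacter K) : K → ℂ) ⟨t, h.htK⟩) := by
    intro μ
    rw [pf.chi_apply_t h d μ, pf.inner_Th0_chi hc d μ, hp]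
    ring
  have hb : ∀ μ ν : R, (χ μ : G → ℂ) t ^ 2 = (χ ν : G → ℂ) t ^ 2 := by
    intro μ ν
    have h1 := pf.E_mu h d μ
    have h2 := pf.E_mu h d ν
    have hdμ : (χ μ : G → ℂ) 1 ≠ 0 := irr_apply_one_ne_zero (χ μ).2
    have hdν : (χ ν : G → ℂ) 1 = (χ μ : G → ℂ) 1 := by
      rw [pf.degree hc ν, pf.degree hc μ]
    unfold centralChar at h1 h2
    rw [hdν] at h2
    rw [← hn] at h1 h2
    have h3 : ε * ((n * (χ μ : G → ℂ) t / (χ μ : G → ℂ) 1) ^ 2 * (χ μ : G → ℂ) 1)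
        = ε * ((n * (χ ν : G → ℂ) t / (χ μ : G → ℂ) 1) ^ 2 * (χ μ : G → ℂ) 1) := by
      linear_combination h2 - h1
    have h4 := mul_left_cancel₀ hε0 h3
    have e1 : ∀ z : ℂ, (n * z / (χ μ : G → ℂ) 1) ^ 2 * (χ μ : G → ℂ) 1 * (χ μ : G → ℂ) 1
        = n ^ 2 * z ^ 2 := by
      intro z
      field_simp
    have h5 : n ^ 2 * (χ μ : G → ℂ) t ^ 2 = n ^ 2 * (χ ν : G → ℂ) t ^ 2 := by
      rw [← e1, ← e1, h4]
    exact mul_left_cancel₀ (pow_ne_zero 2 hn0) h5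
  have hl0' : l0 = 1 ∨ l0 = -1 := apply_z hc h.htK h.tt lam0
  have hcv : ∀ μ ν : R, ((μ : IrrCharacter K) : K → ℂ) ⟨t, h.htK⟩
      = ((ν : IrrCharacter K) : K → ℂ) ⟨t, h.htK⟩ := by
    intro μ ν
    have h1 := hb μ ν
    rw [ha μ, ha ν] at h1
    have h2 : (l0 + 2 * ((μ : IrrCharacter K) : K → ℂ) ⟨t, h.htK⟩) ^ 2
        = (l0 + 2 * ((ν : IrrCharacter K) : K → ℂ) ⟨t, h.htK⟩) ^ 2 := by
      have e1 : ∀ z : ℂ, (ε * z) ^ 2 = z ^ 2 := by
        intro z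
        rw [mul_pow, pow_two ε, hε2, one_mul]
      rw [e1, e1] at h1
      exact h1
    rcases hl0' with h3 | h3 <;>
    rcases apply_z hc h.htK h.tt (μ : IrrCharacter K) with h4 | h4 <;>
    rcases apply_z hc h.htK h.tt (ν : IrrCharacter K) with h5 | h5 <;>
    rw [h3, h4, h5] at h2 <;> rw [h4, h5] <;> norm_num at h2
  have hR : Nonempty R := by
    rw [← Fintype.card_pos_iff]; omega
  obtain ⟨μ0⟩ := hR
  have hsum := d.sum_apply hc (x := ⟨t, h.htK⟩)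
    (fun h' => h.t_ne_one (congrArg Subtype.val h'))
  have hti : (⟨t, h.htK⟩ : K)⁻¹ = ⟨t, h.htK⟩ := Subtype.ext h.t_inv
  rw [hti] at hsum
  simp only [fun μ : R => hcv μ μ0] at hsum
  rw [Finset.sum_const, Finset.card_univ, nsmul_eq_mul, ← hl0] at hsum
  obtain ⟨r, hr'⟩ : ∃ r : ℕ, Fintype.card R = r := ⟨_, rfl⟩
  rw [hr'] at hsum hr
  rcases hl0' with h3 | h3 <;>
  rcases apply_z hc h.htK h.tt (μ0 : IrrCharacter K) with h4 | h4 <;>
  rw [h3, h4] at hsum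
  · have : ((r + 1 : ℕ) : ℂ) = 0 := by push_cast; linear_combination hsum / 2
    have := Nat.cast_eq_zero.1 this
    omega
  · have : ((r : ℕ) : ℂ) = ((1 : ℕ) : ℂ) := by push_cast; linear_combination -hsum / 2
    have := Nat.cast_injective this
    omega
  · have : ((r : ℕ) : ℂ) = 0 := by linear_combination hsum / 2
    have := Nat.cast_eq_zero.1 this
    omega
  · have : ((r : ℕ) : ℂ) = 0 := by linear_combination -hsum / 2
    have := Nat.cast_eq_zero.1 this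
    omega

/-- interchanging the roles of `ψ` and the single exceptional character. -/
theorem swap (pf : PreFrag K R ε ψ χ) [Subsingleton R] (μ0 : R) :
    PreFrag K R (-ε) (χ μ0) (fun _ => ψ) := by
  refine ⟨?_, ?_, ?_, pf.χ_ne_one μ0, fun _ => pf.ψ_ne_one, fun _ => (pf.χ_ne_ψ μ0).symm⟩
  · rcases pf.hε with h | h
    · right; rw [h]
    · left; rw [h, neg_neg]
  · intro a b _
    exact Subsingleton.elim a b
  · intro μ
    rw [pf.hTh μ, Subsingleton.elim μ μ0, neg_smul, neg_smul]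
    abel

end PreFrag

/-- The fragment of the character table of `G`. -/
structure Frag (K : Subgroup G) [Fintype K] (lam0 : IrrCharacter K) (R : Set (IrrCharacter K))
    (ε : ℂ) (ψ : IrrCharacter G) (χ : R → IrrCharacter G) (ψ₁ ψ₂ : IrrCharacter G) (a₁ a₂ : ℂ) :
    Prop where
  pre : PreFrag K R ε ψ χ
  ha₁ : a₁ = 1 ∨ a₁ = -1
  ha₂ : a₂ = 1 ∨ a₂ = -1
  hTh0 : Th K lam0 = (oneIrr G : G → ℂ) + ε • (ψ : G → ℂ) + a₁ • (ψ₁ : G → ℂ)
    + a₂ • (ψ₂ : G → ℂ)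
  ne12 : ψ₁ ≠ ψ₂
  ne1_one : ψ₁ ≠ oneIrr G
  ne1_ψ : ψ₁ ≠ ψ
  ne1_χ : ∀ μ, ψ₁ ≠ χ μ
  ne2_one : ψ₂ ≠ oneIrr G
  ne2_ψ : ψ₂ ≠ ψ
  ne2_χ : ∀ μ, ψ₂ ≠ χ μ

theorem PreFrag.exists_frag_of_p (pf : PreFrag K R ε ψ χ) (hc : Cfg K s) (d : IrrData K lam0 R)
    (hp : classInner (Th K lam0) (ψ : G → ℂ) = ε) :
    ∃ (ψ₁ ψ₂ : IrrCharacter G) (a₁ a₂ : ℂ), Frag K lam0 R ε ψ χ ψ₁ ψ₂ a₁ a₂ := by
  classical
  have hε2 := pf.eps_sq
  have hεc := pf.eps_conj
  set W : G → ℂ := Th K lam0 - (oneIrr G : G → ℂ) - ε • (ψ : G → ℂ) with hW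
  have hεψ : IsGeneralizedCharacter G (ε • (ψ : G → ℂ)) := by
    rcases pf.hε with h | h
    · rw [h, one_smul]; exact isGenChar_of_irr ψ.2
    · rw [h, neg_smul, one_smul]; exact isGenChar_neg (isGenChar_of_irr ψ.2)
  have hWg : IsGeneralizedCharacter G W := isGenChar_sub (Th_sub_one_isGenChar lam0) hεψ
  have hT0ψ : classInner (Th K lam0 - (oneIrr G : G → ℂ)) (ψ : G → ℂ) = ε := by
    rw [classInner_sub_left, hp, inner_irr_ne pf.ψ_ne_one.symm, sub_zero]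
  have hψT0 : classInner (ψ : G → ℂ) (Th K lam0 - (oneIrr G : G → ℂ)) = ε := by
    rw [← classInner_conj_symm, hT0ψ, hεc]
  have hnorm : classInner W W = 2 := by
    rw [hW, classInner_sub_smul_self, inner_Th_sub_one _ _ d.ne_one d.ne_one,
      Th_inner hc _ _ d.ne_one d.ne_one, if_pos rfl, if_pos d.real.symm, hεc, hT0ψ, hψT0,
      inner_irr_self]
    linear_combination (-1 : ℂ) * hε2
  obtain ⟨φ₁, φ₂, hφ₁, hφ₂, hne, a₁, a₂, ha₁, ha₂, hWeq⟩ := genChar_norm_two hWg hnorm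
  have hw1 : ∀ χ' : IrrCharacter G, classInner W (χ' : G → ℂ)
      = a₁ * classInner φ₁ (χ' : G → ℂ) + a₂ * classInner φ₂ (χ' : G → ℂ) := by
    intro χ'
    rw [hWeq, classInner_add_left, classInner_smul_left, classInner_smul_left]
  have hw2 : ∀ χ' : IrrCharacter G, classInner W (χ' : G → ℂ)
      = classInner (Th K lam0) (χ' : G → ℂ) - classInner (oneIrr G : G → ℂ) (χ' : G → ℂ)
        - ε * classInner (ψ : G → ℂ) (χ' : G → ℂ) := by
    intro χ'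
    rw [hW, classInner_sub_left, classInner_sub_left, classInner_smul_left]
  have hwone : classInner W (oneIrr G : G → ℂ) = 0 := by
    rw [hw2, Th_inner_one lam0 d.ne_one, inner_irr_self, inner_irr_ne pf.ψ_ne_one]
    ring
  have hwψ : classInner W (ψ : G → ℂ) = 0 := by
    rw [hw2, hp, inner_irr_self, inner_irr_ne pf.ψ_ne_one.symm]
    ring
  have hwχ : ∀ μ, classInner W (χ μ : G → ℂ) = 0 := by
    intro μ
    rw [hw2, pf.inner_Th0_chi hc d μ, hp, inner_irr_ne (pf.χ_ne_one μ).symm,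
      inner_irr_ne (pf.χ_ne_ψ μ).symm]
    ring
  have hne' : (⟨φ₁, hφ₁⟩ : IrrCharacter G) ≠ ⟨φ₂, hφ₂⟩ := fun h' => hne (congrArg Subtype.val h')
  have hwφ₁ : classInner W φ₁ = a₁ := by
    have := hw1 ⟨φ₁, hφ₁⟩
    rw [this]
    show a₁ * classInner ((⟨φ₁, hφ₁⟩ : IrrCharacter G) : G → ℂ) ((⟨φ₁, hφ₁⟩ : IrrCharacter G) : G → ℂ)
      + a₂ * classInner ((⟨φ₂, hφ₂⟩ : IrrCharacter G) : G → ℂ) ((⟨φ₁, hφ₁⟩ : IrrCharacter G) : G → ℂ) = a₁
    rw [inner_irr_self, inner_irr_ne hne'.symm]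
    ring
  have hwφ₂ : classInner W φ₂ = a₂ := by
    have := hw1 ⟨φ₂, hφ₂⟩
    rw [this]
    show a₁ * classInner ((⟨φ₁, hφ₁⟩ : IrrCharacter G) : G → ℂ) ((⟨φ₂, hφ₂⟩ : IrrCharacter G) : G → ℂ)
      + a₂ * classInner ((⟨φ₂, hφ₂⟩ : IrrCharacter G) : G → ℂ) ((⟨φ₂, hφ₂⟩ : IrrCharacter G) : G → ℂ) = a₂
    rw [inner_irr_self, inner_irr_ne hne']
    ring
  have ha₁0 : a₁ ≠ 0 := by rcases ha₁ with h | h <;> rw [h] <;> norm_num
  have ha₂0 : a₂ ≠ 0 := by rcases ha₂ with h | h <;> rw [h] <;> norm_num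
  refine ⟨⟨φ₁, hφ₁⟩, ⟨φ₂, hφ₂⟩, a₁, a₂, pf, ha₁, ha₂, ?_, hne', ?_, ?_, ?_, ?_, ?_, ?_⟩
  · have : Th K lam0 = W + (oneIrr G : G → ℂ) + ε • (ψ : G → ℂ) := by
      rw [hW]; abel
    rw [this, hWeq]
    abel
  · intro h'
    apply ha₁0
    rw [← hwφ₁, ← hwone, ← h']
  · intro h'
    apply ha₁0
    rw [← hwφ₁, ← hwψ, ← h']
  · intro μ h'
    apply ha₁0
    rw [← hwφ₁, ← hwχ μ, ← h']
  · intro h'
    apply ha₂0
    rw [← hwφ₂, ← hwone, ← h']
  · intro h'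
    apply ha₂0
    rw [← hwφ₂, ← hwψ, ← h']
  · intro μ h'
    apply ha₂0
    rw [← hwφ₂, ← hwχ μ, ← h']

/-- existence of the fragment. -/
theorem Hyp.exists_frag (h : Hyp K t s) (d : IrrData K lam0 R) [Fintype R] [Nonempty R]
    [Fintype (IrrCharacter G)] :
    ∃ (ε : ℂ) (ψ : IrrCharacter G) (χ : R → IrrCharacter G) (ψ₁ ψ₂ : IrrCharacter G)
      (a₁ a₂ : ℂ), Frag K lam0 R ε ψ χ ψ₁ ψ₂ a₁ a₂ := by
  have hc := h.cfg
  obtain ⟨ε, ψ, χ, pf⟩ := exists_preFrag (G := G) hc d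
  rcases pf.p_cases hc d with hp | ⟨hp, hr⟩
  · obtain ⟨ψ₁, ψ₂, a₁, a₂, hf⟩ := pf.exists_frag_of_p hc d hp
    exact ⟨ε, ψ, χ, ψ₁, ψ₂, a₁, a₂, hf⟩
  · by_cases h2 : 2 ≤ Fintype.card R
    · exact (pf.false_of_p_zero h d hp h2).elim
    · have h1 : Fintype.card R ≤ 1 := by omega
      haveI : Subsingleton R := Fintype.card_le_one_iff_subsingleton.1 h1
      obtain ⟨μ0⟩ := (inferInstance : Nonempty R)
      have pf' := pf.swap μ0
      have hp' : classInner (Th K lam0) (χ μ0 : G → ℂ) = -ε := by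
        rw [pf.inner_Th0_chi hc d μ0, hp, zero_sub]
      obtain ⟨ψ₁, ψ₂, a₁, a₂, hf⟩ := pf'.exists_frag_of_p hc d hp'
      exact ⟨-ε, χ μ0, fun _ => ψ, ψ₁, ψ₂, a₁, a₂, hf⟩

end Cfsg.Agent.Lib.Helper7.ABSW
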