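import Mathlib
import Cfsg.Agent.Lib.Helper7.ABSW11

set_option autoImplicit false

/-!
# Abstract Brauer-Suzuki-Wall: values of the characters of the fragment
-/

namespace Cfsg.Agent.Lib.Helper7.ABSW

open Cfsg Cfsg.Agent.Lib.Helper1 Cfsg.Agent.Lib.Helper4 Cfsg.Agent.Lib.Helper7.BSW
open scoped ComplexConjugate

universe u

variable {G : Type u} [Group G] [Fintype G]

variable {K : Subgroup G} {t s : G} [Fintype K] [Fintype (IrrCharacter K)]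
variable {lam0 : IrrCharacter K} {R : Set (IrrCharacter K)} {ε : ℂ} {ψ : IrrCharacter G}
  {χ : R → IrrCharacter G} {ψ₁ ψ₂ : IrrCharacter G} {a₁ a₂ : ℂ}

namespace Frag

theorem inner_Th0 (f : Frag K lam0 R ε ψ χ ψ₁ ψ₂ a₁ a₂) (χ' : G → ℂ) :
    classInner (Th K lam0) χ' = classInner (oneIrr G : G → ℂ) χ'
      + ε * classInner (ψ : G → ℂ) χ' + a₁ * classInner (ψ₁ : G → ℂ) χ'
      + a₂ * classInner (ψ₂ : G → ℂ) χ' := by
  rw [f.hTh0, classInner_add_left, classInner_add_left, classInner_add_left,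
    classInner_smul_left, classInner_smul_left, classInner_smul_left]

theorem inner_Th0_psi (f : Frag K lam0 R ε ψ χ ψ₁ ψ₂ a₁ a₂) :
    classInner (Th K lam0) (ψ : G → ℂ) = ε := by
  rw [f.inner_Th0, inner_irr_ne f.pre.ψ_ne_one.symm, inner_irr_self, inner_irr_ne f.ne1_ψ,
    inner_irr_ne f.ne2_ψ]
  ring

theorem inner_Th0_chi (f : Frag K lam0 R ε ψ χ ψ₁ ψ₂ a₁ a₂) (μ : R) :
    classInner (Th K lam0) (χ μ : G → ℂ) = 0 := by
  rw [f.inner_Th0, inner_irr_ne (f.pre.χ_ne_one μ).symm, inner_irr_ne (f.pre.χ_ne_ψ μ).symm,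
    inner_irr_ne (f.ne1_χ μ), inner_irr_ne (f.ne2_χ μ)]
  ring

theorem inner_Th0_psi1 (f : Frag K lam0 R ε ψ χ ψ₁ ψ₂ a₁ a₂) :
    classInner (Th K lam0) (ψ₁ : G → ℂ) = a₁ := by
  rw [f.inner_Th0, inner_irr_ne f.ne1_one.symm, inner_irr_ne f.ne1_ψ.symm, inner_irr_self,
    inner_irr_ne f.ne12.symm]
  ring

theorem inner_Th0_psi2 (f : Frag K lam0 R ε ψ χ ψ₁ ψ₂ a₁ a₂) :
    classInner (Th K lam0) (ψ₂ : G → ℂ) = a₂ := by
  rw [f.inner_Th0, inner_irr_ne f.ne2_one.symm, inner_irr_ne f.ne2_ψ.symm, inner_irr_self,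
    inner_irr_ne f.ne12]
  ring

theorem inner_Th0_other (f : Frag K lam0 R ε ψ χ ψ₁ ψ₂ a₁ a₂) {χ' : IrrCharacter G}
    (h1 : χ' ≠ oneIrr G) (h2 : χ' ≠ ψ) (h3 : χ' ≠ ψ₁) (h4 : χ' ≠ ψ₂) :
    classInner (Th K lam0) (χ' : G → ℂ) = 0 := by
  rw [f.inner_Th0, inner_irr_ne h1.symm, inner_irr_ne h2.symm, inner_irr_ne h3.symm,
    inner_irr_ne h4.symm]
  ring

theorem inner_Th_psi1 (f : Frag K lam0 R ε ψ χ ψ₁ ψ₂ a₁ a₂) (μ : R) :
    classInner (Th K (μ : IrrCharacter K)) (ψ₁ : G → ℂ) = 0 :=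
  f.pre.inner_Th_other μ f.ne1_one f.ne1_ψ f.ne1_χ

theorem inner_Th_psi2 (f : Frag K lam0 R ε ψ χ ψ₁ ψ₂ a₁ a₂) (μ : R) :
    classInner (Th K (μ : IrrCharacter K)) (ψ₂ : G → ℂ) = 0 :=
  f.pre.inner_Th_other μ f.ne2_one f.ne2_ψ f.ne2_χ

variable [Fintype R]

/-- `ψ` on `K` off the identity. -/
theorem psi_apply (f : Frag K lam0 R ε ψ χ ψ₁ ψ₂ a₁ a₂) (hc : Cfg K s) (d : IrrData K lam0 R)
    {x : G} (hx : x ∈ K) (hx1 : x ≠ 1) : (ψ : G → ℂ) x = ε := by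
  rw [d.char_apply hc (isCharacter_of_irr ψ.2) hx hx1, f.inner_Th0_psi]
  simp only [f.pre.inner_Th_psi]
  rw [← Finset.mul_sum, ← mul_add]
  have h1 := d.sum_apply hc (x := ⟨x, hx⟩) (fun h' => hx1 (congrArg Subtype.val h'))
  have h2 : (⟨x, hx⟩ : K)⁻¹ = ⟨x⁻¹, K.inv_mem hx⟩ := rfl
  rw [h2] at h1
  rw [h1]
  ring

/-- `χ_μ` on `K` off the identity. -/
theorem chi_apply (f : Frag K lam0 R ε ψ χ ψ₁ ψ₂ a₁ a₂) (hc : Cfg K s) (d : IrrData K lam0 R)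
    (μ : R) {x : G} (hx : x ∈ K) (hx1 : x ≠ 1) :
    (χ μ : G → ℂ) x = ε * (((μ : IrrCharacter K) : K → ℂ) ⟨x, hx⟩
      + ((μ : IrrCharacter K) : K → ℂ) ⟨x⁻¹, K.inv_mem hx⟩) := by
  rw [d.char_apply hc (isCharacter_of_irr (χ μ).2) hx hx1, f.inner_Th0_chi,
    Finset.sum_eq_single μ]
  · rw [f.pre.inner_Th_chi_self]; ring
  · intro ν _ hν
    rw [f.pre.inner_Th_chi_ne hν, zero_mul]
  · intro h'
    exact absurd (Finset.mem_univ μ) h'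

/-- `ψ₁` on `K` off the identity. -/
theorem psi1_apply (f : Frag K lam0 R ε ψ χ ψ₁ ψ₂ a₁ a₂) (hc : Cfg K s) (d : IrrData K lam0 R)
    {x : G} (hx : x ∈ K) (hx1 : x ≠ 1) :
    (ψ₁ : G → ℂ) x = -a₁ * (lam0 : K → ℂ) ⟨x, hx⟩ := by
  rw [d.char_apply hc (isCharacter_of_irr ψ₁.2) hx hx1, f.inner_Th0_psi1]
  simp only [f.inner_Th_psi1, zero_mul, Finset.sum_const_zero]
  ring

/-- `ψ₂` on `K` off the identity. -/
theorem psi2_apply (f : Frag K lam0 R ε ψ χ ψ₁ ψ₂ a₁ a₂) (hc : Cfg K s) (d : IrrData K lam0 R)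
    {x : G} (hx : x ∈ K) (hx1 : x ≠ 1) :
    (ψ₂ : G → ℂ) x = -a₂ * (lam0 : K → ℂ) ⟨x, hx⟩ := by
  rw [d.char_apply hc (isCharacter_of_irr ψ₂.2) hx hx1, f.inner_Th0_psi2]
  simp only [f.inner_Th_psi2, zero_mul, Finset.sum_const_zero]
  ring

/-- the characters outside the fragment vanish on `K` off the identity. -/
theorem other_apply (f : Frag K lam0 R ε ψ χ ψ₁ ψ₂ a₁ a₂) (hc : Cfg K s) (d : IrrData K lam0 R)
    {χ' : IrrCharacter G} (h1 : χ' ≠ oneIrr G) (h2 : χ' ≠ ψ) (h3 : χ' ≠ ψ₁) (h4 : χ' ≠ ψ₂)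
    (h5 : ∀ μ, χ' ≠ χ μ) {x : G} (hx : x ∈ K) (hx1 : x ≠ 1) : (χ' : G → ℂ) x = 0 := by
  rw [d.char_apply hc (isCharacter_of_irr χ'.2) hx hx1, f.inner_Th0_other h1 h2 h3 h4]
  simp only [f.pre.inner_Th_other _ h1 h2 h5, zero_mul, Finset.sum_const_zero]
  ring

/-- summation over the irreducible characters of a function supported on the fragment. -/
theorem sum_eq (f : Frag K lam0 R ε ψ χ ψ₁ ψ₂ a₁ a₂) [Fintype (IrrCharacter G)]
    (F : IrrCharacter G → ℂ)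
    (hF : ∀ χ' : IrrCharacter G, χ' ≠ oneIrr G → χ' ≠ ψ → χ' ≠ ψ₁ → χ' ≠ ψ₂ → (∀ μ, χ' ≠ χ μ) →
      F χ' = 0) :
    ∑ χ' : IrrCharacter G, F χ' = F (oneIrr G) + F ψ + F ψ₁ + F ψ₂ + ∑ μ : R, F (χ μ) := by
  classical
  have h1 : ∑ χ' : IrrCharacter G, F χ'
      = ∑ χ' ∈ insert (oneIrr G) (insert ψ (insert ψ₁ (insert ψ₂ (Finset.univ.image χ)))),
        F χ' := by
    symm
    apply Finset.sum_subset (Finset.subset_univ _)
    intro χ' _ hχ'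
    simp only [Finset.mem_insert, Finset.mem_image, Finset.mem_univ, true_and, not_or,
      not_exists] at hχ'
    exact hF χ' hχ'.1 hχ'.2.1 hχ'.2.2.1 hχ'.2.2.2.1 (fun μ h' => hχ'.2.2.2.2 μ h'.symm)
  have e4 : ψ₂ ∉ Finset.univ.image χ := by
    simp only [Finset.mem_image, Finset.mem_univ, true_and, not_exists]
    exact fun μ h' => f.ne2_χ μ h'.symm
  have e3 : ψ₁ ∉ insert ψ₂ (Finset.univ.image χ) := by
    simp only [Finset.mem_insert, Finset.mem_image, Finset.mem_univ, true_and, not_or,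
      not_exists]
    exact ⟨f.ne12, fun μ h' => f.ne1_χ μ h'.symm⟩
  have e2 : ψ ∉ insert ψ₁ (insert ψ₂ (Finset.univ.image χ)) := by
    simp only [Finset.mem_insert, Finset.mem_image, Finset.mem_univ, true_and, not_or,
      not_exists]
    exact ⟨f.ne1_ψ.symm, f.ne2_ψ.symm, fun μ h' => f.pre.χ_ne_ψ μ h'⟩
  have e1 : oneIrr G ∉ insert ψ (insert ψ₁ (insert ψ₂ (Finset.univ.image χ))) := by
    simp only [Finset.mem_insert, Finset.mem_image, Finset.mem_univ, true_and, not_or,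
      not_exists]
    exact ⟨f.pre.ψ_ne_one.symm, f.ne1_one.symm, f.ne2_one.symm,
      fun μ h' => f.pre.χ_ne_one μ h'⟩
  rw [h1, Finset.sum_insert e1, Finset.sum_insert e2, Finset.sum_insert e3,
    Finset.sum_insert e4, Finset.sum_image (fun a _ b _ hab => f.pre.inj hab)]
  ring

end Frag

end Cfsg.Agent.Lib.Helper7.ABSW
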