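import Mathlib
import Cfsg.Agent.Lib.Helper7.ABSW12

set_option autoImplicit false

/-!
# Abstract Brauer-Suzuki-Wall: the order of the group
-/

namespace Cfsg.Agent.Lib.Helper7.ABSW

open Cfsg Cfsg.Agent.Lib.Helper1 Cfsg.Agent.Lib.Helper4 Cfsg.Agent.Lib.Helper7.BSW
open scoped ComplexConjugate

universe u

theorem arith_frag_aux (k n D e : ℤ) (hk : 4 ≤ k) (hnodd : Odd n) (hD : 0 < D)
    (he : e = 1 ∨ e = -1)
    (hB : n * ((D + e) * D + e * (D + e) - 4 * e * D) = 2 * k ^ 2 * (D * (D + e)))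
    (m : ℤ) (hDm : D = k * m + e) :
    m = 2 ∧ n = (2 * k + e) * (k + e) := by
  have hk0 : k ≠ 0 := by omega
  have h1 : n * m ^ 2 = 2 * (k * m + e) * (k * m + 2 * e) := by
    have h2 : k ^ 2 * (n * m ^ 2) = k ^ 2 * (2 * (k * m + e) * (k * m + 2 * e)) := by
      rw [hDm] at hB
      rcases he with rfl | rfl <;> linear_combination hB
    exact mul_left_cancel₀ (pow_ne_zero 2 hk0) h2
  obtain ⟨c, hc⟩ : ∃ c : ℤ, c = n * m - 2 * k ^ 2 * m - 6 * e * k := ⟨_, rfl⟩
  have h4 : 4 = m * c := by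
    rw [hc]
    rcases he with rfl | rfl <;> linear_combination (-1 : ℤ) * h1
  have hm0 : 0 < m := by
    have h5 : 0 ≤ k * m := by
      rcases he with rfl | rfl <;> omega
    have h6 : 0 ≤ m := by
      by_contra h7
      push Not at h7
      nlinarith
    rcases h6.lt_or_eq with h7 | h7
    · exact h7
    · rw [← h7] at h4; omega
  have hm4 : m ≤ 4 := Int.le_of_dvd (by norm_num) ⟨c, h4⟩
  obtain ⟨j, hj⟩ := hnodd
  obtain ⟨K2, hK2⟩ : ∃ K2 : ℤ, K2 = k ^ 2 := ⟨_, rfl⟩
  interval_cases m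
  · exfalso
    rcases he with rfl | rfl
    · have : n = 2 * K2 + 6 * k + 4 := by rw [hK2]; linear_combination h1
      omega
    · have : n = 2 * K2 - 6 * k + 4 := by rw [hK2]; linear_combination h1
      omega
  · refine ⟨rfl, ?_⟩
    have h8 : 4 * n = 4 * ((2 * k + e) * (k + e)) := by
      rcases he with rfl | rfl <;> linear_combination h1
    exact mul_left_cancel₀ (by norm_num : (4 : ℤ) ≠ 0) h8
  · omega
  · exfalso
    rcases he with rfl | rfl
    · have : 4 * (4 * n) = 4 * (8 * K2 + 6 * k + 1) := by rw [hK2]; linear_combination h1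
      omega
    · have : 4 * (4 * n) = 4 * (8 * K2 - 6 * k + 1) := by rw [hK2]; linear_combination h1
      omega

theorem arith_frag (k n D D₁ D₂ e a₁ a₂ m' : ℤ) (hk : 4 ≤ k)
    (hnodd : Odd n) (hD : 0 < D) (hD₁ : 0 < D₁) (hD₂ : 0 < D₂)
    (he : e = 1 ∨ e = -1) (ha₁ : a₁ = 1 ∨ a₁ = -1) (ha₂ : a₂ = 1 ∨ a₂ = -1)
    (hA : 1 + e * D + a₁ * D₁ + a₂ * D₂ = 0)
    (hB : n * ((D + e) * D + e * (D + e) - 4 * e * D) = 2 * k ^ 2 * (D * (D + e)))
    (hC : n * (D * D₁ * D₂ + e * D₁ * D₂ + a₁ * D * D₂ + a₂ * D * D₁)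
      = 2 * k ^ 2 * (D * D₁ * D₂))
    (hF : k * m' = D + (k - 1) * e) :
    D = 2 * k + e ∧ n = (2 * k + e) * (k + e) ∧ a₁ = -e ∧ a₂ = -e ∧ D₁ = k + e ∧ D₂ = k + e := by
  have hDm : D = k * (m' - e) + e := by linear_combination -hF
  obtain ⟨hm, hn⟩ := arith_frag_aux k n D e hk hnodd hD he hB (m' - e) hDm
  rw [hm] at hDm
  have hD' : D = 2 * k + e := by rw [hDm]; ring
  have hn0 : 0 < n := by
    rw [hn]
    rcases he with rfl | rfl <;> nlinarith
  have hc0 : 0 < k + e := by rcases he with rfl | rfl <;> omega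
  have h1 : -4 * e * (D₁ * D₂) = (a₁ * D₂ + a₂ * D₁) * (D + e) := by
    have h2 : (n * D) * (-4 * e * (D₁ * D₂)) = (n * D) * ((a₁ * D₂ + a₂ * D₁) * (D + e)) := by
      linear_combination (D₁ * D₂) * hB - (D + e) * hC
    exact mul_left_cancel₀ (mul_pos hn0 hD).ne' h2
  rw [hD'] at h1 hA
  have hpos := mul_pos hD₁ hD₂
  refine ⟨hD', hn, ?_⟩
  rcases he with rfl | rfl <;> rcases ha₁ with rfl | rfl <;> rcases ha₂ with rfl | rfl
  all_goals first
    | (exfalso; nlinarith)
    | (have h3 : (D₁ - D₂) ^ 2 = 0 := by nlinarith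
       have h4 : D₁ = D₂ := by
         have := pow_eq_zero_iff (two_ne_zero) |>.1 h3
         linarith
       subst h4
       refine ⟨by norm_num, by norm_num, ?_, ?_⟩ <;> linarith)

variable {G : Type u} [Group G] [Fintype G]

/-- the number of involutions of a group of even order is odd. -/
theorem odd_card_invol (heven : Even (Nat.card G)) :
    Odd (Nat.card {b : G // orderOf b = 2}) := by
  classical
  haveI : Fact (Nat.Prime 2) := ⟨Nat.prime_two⟩
  have hσ : (Equiv.inv G : Equiv.Perm G) ^ 2 ^ 1 = 1 := by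
    ext x
    simp [pow_two]
  have h1 := Equiv.Perm.card_compl_support_modEq hσ
  have h2 : (Equiv.Perm.support (Equiv.inv G : Equiv.Perm G))ᶜ
      = insert (1 : G) (Finset.univ.filter (fun b : G => orderOf b = 2)) := by
    ext x
    simp only [Finset.mem_compl, Equiv.Perm.mem_support, Equiv.inv_apply, ne_eq, not_not,
      Finset.mem_insert, Finset.mem_filter, Finset.mem_univ, true_and]
    constructor
    · intro hx
      by_cases hx1 : x = 1
      · left; exact hx1
      · right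
        apply orderOf_two_of_sq _ hx1
        calc x * x = x * x⁻¹ := by rw [hx]
          _ = 1 := mul_inv_cancel x
    · rintro (rfl | hx)
      · exact inv_one
      · exact inv_of_orderOf_two hx
  have h3 : (1 : G) ∉ Finset.univ.filter (fun b : G => orderOf b = 2) := by
    simp
  rw [h2, Finset.card_insert_of_notMem h3] at h1
  rw [Nat.card_eq_fintype_card, Fintype.card_subtype]
  rw [Nat.card_eq_fintype_card] at heven
  have h4 : ((Finset.univ.filter (fun b : G => orderOf b = 2)).card + 1) % 2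
      = Fintype.card G % 2 := h1
  rw [Nat.odd_iff]
  rw [Nat.even_iff] at heven
  omega

variable {K : Subgroup G} {t s : G}

theorem Hyp.index_eq_card_invol (h : Hyp K t s) :
    (Subgroup.centralizer ({t} : Set G)).index = Nat.card {b : G // orderOf b = 2} := by
  have h1 := h.Nfun_one
  rw [h.Nfun_eq_card] at h1
  have h2 : Nat.card {b : G // orderOf b = 2 ∧ orderOf (b⁻¹ * 1) = 2}
      = (Subgroup.centralizer ({t} : Set G)).index := by exact_mod_cast h1
  rw [← h2]
  apply Nat.card_congr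
  apply Equiv.subtypeEquivRight
  intro b
  rw [mul_one, orderOf_inv]
  exact ⟨fun hb => hb.1, fun hb => ⟨hb, hb⟩⟩

omit [Fintype G] in
theorem Hyp.even_card_K (h : Hyp K t s) [Finite G] : Even (Nat.card K) := by
  have h1 : orderOf (⟨t, h.htK⟩ : K) = 2 := by
    rw [← h.ht]
    exact Subgroup.orderOf_mk t h.htK
  have h2 := orderOf_dvd_natCard (⟨t, h.htK⟩ : K)
  rw [h1] at h2
  exact even_iff_two_dvd.2 h2

theorem Hyp.card_G (h : Hyp K t s) :
    Nat.card G = 2 * Nat.card K * (Subgroup.centralizer ({t} : Set G)).index := by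
  rw [← h.card_centralizer_t, Subgroup.card_mul_index]

theorem Hyp.odd_index (h : Hyp K t s) : Odd (Subgroup.centralizer ({t} : Set G)).index := by
  rw [h.index_eq_card_invol]
  apply odd_card_invol
  rw [h.card_G]
  exact (even_two.mul_right _).mul_right _

end Cfsg.Agent.Lib.Helper7.ABSW
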