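import Mathlib
import Cfsg.Agent.Lib.Helper7.ABSW13

set_option autoImplicit false

/-!
# Abstract Brauer-Suzuki-Wall: degrees of the characters of the fragment and the order of `G`
-/

namespace Cfsg.Agent.Lib.Helper7.ABSW

open Cfsg Cfsg.Agent.Lib.Helper1 Cfsg.Agent.Lib.Helper4 Cfsg.Agent.Lib.Helper7.BSW
open scoped ComplexConjugate

universe u

variable {G : Type u} [Group G] [Fintype G]

variable {K : Subgroup G} {t s : G} [Fintype K] [Fintype (IrrCharacter K)]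
variable {lam0 : IrrCharacter K} {R : Set (IrrCharacter K)} {ε : ℂ} {ψ : IrrCharacter G}
  {χ : R → IrrCharacter G} {ψ₁ ψ₂ : IrrCharacter G} {a₁ a₂ : ℂ}

namespace Frag

/-- the identity `(E)` for `Θ_{λ₀}`. -/
theorem E_zero (f : Frag K lam0 R ε ψ χ ψ₁ ψ₂ a₁ a₂) (h : Hyp K t s) (d : IrrData K lam0 R)
    [Fintype (IrrCharacter G)] :
    ((Subgroup.centralizer ({t} : Set G)).index : ℂ) ^ 2
      + ε * (centralChar (ψ : G → ℂ) t ^ 2 * (ψ : G → ℂ) 1)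
      + a₁ * (centralChar (ψ₁ : G → ℂ) t ^ 2 * (ψ₁ : G → ℂ) 1)
      + a₂ * (centralChar (ψ₂ : G → ℂ) t ^ 2 * (ψ₂ : G → ℂ) 1)
      = (Nat.card G : ℂ) * (Nat.card K : ℂ) := by
  have h1 := h.sum_centralChar_sq lam0 d.ne_one
  simp only [f.inner_Th0] at h1
  have h2 : ∀ χ' : IrrCharacter G, centralChar (χ' : G → ℂ) t ^ 2 * (χ' : G → ℂ) 1 *
      (classInner (oneIrr G : G → ℂ) (χ' : G → ℂ) + ε * classInner (ψ : G → ℂ) (χ' : G → ℂ)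
        + a₁ * classInner (ψ₁ : G → ℂ) (χ' : G → ℂ)
        + a₂ * classInner (ψ₂ : G → ℂ) (χ' : G → ℂ))
      = centralChar (χ' : G → ℂ) t ^ 2 * (χ' : G → ℂ) 1 *
          (1 * classInner (oneIrr G : G → ℂ) (χ' : G → ℂ))
        + centralChar (χ' : G → ℂ) t ^ 2 * (χ' : G → ℂ) 1 *
          (ε * classInner (ψ : G → ℂ) (χ' : G → ℂ))
        + centralChar (χ' : G → ℂ) t ^ 2 * (χ' : G → ℂ) 1 *
          (a₁ * classInner (ψ₁ : G → ℂ) (χ' : G → ℂ))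
        + centralChar (χ' : G → ℂ) t ^ 2 * (χ' : G → ℂ) 1 *
          (a₂ * classInner (ψ₂ : G → ℂ) (χ' : G → ℂ)) := by
    intro χ'; ring
  simp only [h2] at h1
  rw [Finset.sum_add_distrib, Finset.sum_add_distrib, Finset.sum_add_distrib,
    sum_mul_inner_irr (fun χ' : IrrCharacter G => centralChar (χ' : G → ℂ) t ^ 2 * (χ' : G → ℂ) 1),
    sum_mul_inner_irr (fun χ' : IrrCharacter G => centralChar (χ' : G → ℂ) t ^ 2 * (χ' : G → ℂ) 1),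
    sum_mul_inner_irr (fun χ' : IrrCharacter G => centralChar (χ' : G → ℂ) t ^ 2 * (χ' : G → ℂ) 1),
    sum_mul_inner_irr (fun χ' : IrrCharacter G => centralChar (χ' : G → ℂ) t ^ 2 * (χ' : G → ℂ) 1)]
    at h1
  rw [← h1]
  unfold centralChar
  simp only [oneIrr_apply]
  ring

variable [Fintype R]

theorem psi_t (f : Frag K lam0 R ε ψ χ ψ₁ ψ₂ a₁ a₂) (h : Hyp K t s) (d : IrrData K lam0 R) :
    (ψ : G → ℂ) t = ε := f.psi_apply h.cfg d h.htK h.t_ne_one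

theorem chi_t_sq (f : Frag K lam0 R ε ψ χ ψ₁ ψ₂ a₁ a₂) (h : Hyp K t s) (d : IrrData K lam0 R)
    (μ : R) : (χ μ : G → ℂ) t ^ 2 = 4 := by
  rw [f.chi_apply h.cfg d μ h.htK h.t_ne_one]
  have h1 : (⟨t⁻¹, K.inv_mem h.htK⟩ : K) = ⟨t, h.htK⟩ := Subtype.ext h.t_inv
  rw [h1]
  have h2 := f.pre.eps_sq
  rcases apply_z h.cfg h.htK h.tt (μ : IrrCharacter K) with h3 | h3 <;> rw [h3] <;>
    linear_combination 4 * h2

theorem psi1_t_sq (f : Frag K lam0 R ε ψ χ ψ₁ ψ₂ a₁ a₂) (h : Hyp K t s) (d : IrrData K lam0 R) :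
    (ψ₁ : G → ℂ) t ^ 2 = 1 := by
  rw [f.psi1_apply h.cfg d h.htK h.t_ne_one]
  rcases apply_z h.cfg h.htK h.tt lam0 with h3 | h3 <;> rw [h3] <;>
    rcases f.ha₁ with h4 | h4 <;> rw [h4] <;> norm_num

theorem psi2_t_sq (f : Frag K lam0 R ε ψ χ ψ₁ ψ₂ a₁ a₂) (h : Hyp K t s) (d : IrrData K lam0 R) :
    (ψ₂ : G → ℂ) t ^ 2 = 1 := by
  rw [f.psi2_apply h.cfg d h.htK h.t_ne_one]
  rcases apply_z h.cfg h.htK h.tt lam0 with h3 | h3 <;> rw [h3] <;>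
    rcases f.ha₂ with h4 | h4 <;> rw [h4] <;> norm_num

/-- the multiplicity of the trivial character in the restriction of `ψ` to `K`. -/
theorem psi_mult (f : Frag K lam0 R ε ψ χ ψ₁ ψ₂ a₁ a₂) (h : Hyp K t s) (d : IrrData K lam0 R) :
    ∃ m' : ℕ, (Nat.card K : ℂ) * m' = (ψ : G → ℂ) 1 + ((Nat.card K : ℂ) - 1) * ε := by
  classical
  obtain ⟨m', hm'⟩ := mult_nat (A := K) (isCharacter_of_irr ψ.2) (oneIrr K)
  refine ⟨m', ?_⟩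
  unfold mult classInner at hm'
  have hK0 : (Nat.card K : ℂ) ≠ 0 := Nat.cast_ne_zero.mpr Nat.card_pos.ne'
  rw [← hm', ← mul_assoc, mul_inv_cancel₀ hK0, one_mul]
  have h1 : ∀ a : K, res K (ψ : G → ℂ) a * conj ((oneIrr K : K → ℂ) a) = (ψ : G → ℂ) a := by
    intro a
    rw [oneIrr_apply, map_one, mul_one]
    rfl
  simp only [h1]
  rw [← Finset.add_sum_erase Finset.univ _ (Finset.mem_univ (1 : K))]
  have h2 : ∀ a ∈ Finset.univ.erase (1 : K), (ψ : G → ℂ) a = ε := by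
    intro a ha
    have ha1 : a ≠ 1 := Finset.ne_of_mem_erase ha
    exact f.psi_apply h.cfg d a.2 (fun h' => ha1 (Subtype.ext h'))
  rw [Finset.sum_congr rfl h2, Finset.sum_const, Finset.card_erase_of_mem (Finset.mem_univ _),
    Finset.card_univ, nsmul_eq_mul, Nat.card_eq_fintype_card,
    Nat.cast_sub Fintype.card_pos]
  simp

/-- the numerical outcome: degrees, the index of `C(t)`. -/
theorem numerics (f : Frag K lam0 R ε ψ χ ψ₁ ψ₂ a₁ a₂) (h : Hyp K t s) (d : IrrData K lam0 R)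
    [Nonempty R] [Fintype (IrrCharacter G)] :
    ∃ e : ℤ, (e = 1 ∨ e = -1) ∧ ε = (e : ℂ) ∧
      (ψ : G → ℂ) 1 = ((2 * (Nat.card K : ℤ) + e : ℤ) : ℂ) ∧
      ((Subgroup.centralizer ({t} : Set G)).index : ℤ)
        = (2 * (Nat.card K : ℤ) + e) * ((Nat.card K : ℤ) + e) ∧
      a₁ = -ε ∧ a₂ = -ε ∧
      (ψ₁ : G → ℂ) 1 = (((Nat.card K : ℤ) + e : ℤ) : ℂ) ∧
      (ψ₂ : G → ℂ) 1 = (((Nat.card K : ℤ) + e : ℤ) : ℂ) := by
  classical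
  have hc := h.cfg
  obtain ⟨μ0⟩ := (inferInstance : Nonempty R)
  obtain ⟨e, he, hεe⟩ : ∃ e : ℤ, (e = 1 ∨ e = -1) ∧ ε = (e : ℂ) := by
    rcases f.pre.hε with h' | h'
    · exact ⟨1, Or.inl rfl, by rw [h']; norm_num⟩
    · exact ⟨-1, Or.inr rfl, by rw [h']; norm_num⟩
  obtain ⟨α₁, hα₁, ha₁e⟩ : ∃ e : ℤ, (e = 1 ∨ e = -1) ∧ a₁ = (e : ℂ) := by
    rcases f.ha₁ with h' | h'
    · exact ⟨1, Or.inl rfl, by rw [h']; norm_num⟩
    · exact ⟨-1, Or.inr rfl, by rw [h']; norm_num⟩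
  obtain ⟨α₂, hα₂, ha₂e⟩ : ∃ e : ℤ, (e = 1 ∨ e = -1) ∧ a₂ = (e : ℂ) := by
    rcases f.ha₂ with h' | h'
    · exact ⟨1, Or.inl rfl, by rw [h']; norm_num⟩
    · exact ⟨-1, Or.inr rfl, by rw [h']; norm_num⟩
  obtain ⟨D, hD0, hD⟩ := irr_apply_one_pos ψ.2
  obtain ⟨D₁, hD₁0, hD₁⟩ := irr_apply_one_pos ψ₁.2
  obtain ⟨D₂, hD₂0, hD₂⟩ := irr_apply_one_pos ψ₂.2
  obtain ⟨m', hm'⟩ := f.psi_mult h d
  obtain ⟨n, hn⟩ : ∃ n : ℕ, n = (Subgroup.centralizer ({t} : Set G)).index := ⟨_, rfl⟩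
  obtain ⟨k, hk⟩ : ∃ k : ℕ, k = Nat.card K := ⟨_, rfl⟩
  have hnpos : 0 < n := by
    rw [hn]
    exact Nat.pos_of_ne_zero Subgroup.index_ne_zero_of_finite
  have hn0 : (n : ℂ) ≠ 0 := Nat.cast_ne_zero.2 hnpos.ne'
  have hk4 : 4 ≤ k := by
    have h1 := d.card_eq hc
    have h2 : 0 < Fintype.card R := Fintype.card_pos
    omega
  have hG : (Nat.card G : ℂ) = 2 * (k : ℂ) * (n : ℂ) := by
    rw [h.card_G, hn, hk]; push_cast; ring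
  have hε2 := f.pre.eps_sq
  have hε3 : ε * ε * ε = ε := by rw [hε2, one_mul]
  have hA : (1 : ℂ) + ε * D + a₁ * D₁ + a₂ * D₂ = 0 := by
    have h1 := Th_one hc (G := G) lam0
    rw [f.hTh0] at h1
    simp only [Pi.add_apply, Pi.smul_apply, smul_eq_mul, oneIrr_apply, hD, hD₁, hD₂] at h1
    exact h1
  have hdd : (χ μ0 : G → ℂ) 1 = (D : ℂ) + ε := by rw [f.pre.degree hc μ0, hD]
  have hdd0 : (D : ℂ) + ε ≠ 0 := by
    rw [← hdd]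
    exact irr_apply_one_ne_zero (χ μ0).2
  have hD0' : (D : ℂ) ≠ 0 := Nat.cast_ne_zero.2 hD0.ne'
  have hD₁0' : (D₁ : ℂ) ≠ 0 := Nat.cast_ne_zero.2 hD₁0.ne'
  have hD₂0' : (D₂ : ℂ) ≠ 0 := Nat.cast_ne_zero.2 hD₂0.ne'
  have hB : (n : ℂ) * (((D : ℂ) + ε) * D + ε * (D + ε) - 4 * ε * D)
      = 2 * (k : ℂ) ^ 2 * (D * (D + ε)) := by
    have h1 := f.pre.E_mu h d μ0
    unfold centralChar at h1
    rw [f.psi_t h d, hdd, hD, hG, ← hn, ← hk] at h1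
    have h2 := f.chi_t_sq h d μ0
    obtain ⟨c, hc'⟩ : ∃ c : ℂ, c = (χ μ0 : G → ℂ) t := ⟨_, rfl⟩
    rw [← hc'] at h1 h2
    have h4 : ((n : ℂ) ^ 2 + ε * (((n : ℂ) * ε / D) ^ 2 * D)
        - ε * (((n : ℂ) * c / (D + ε)) ^ 2 * (D + ε))) * (D * (D + ε))
        = n * (n * (((D : ℂ) + ε) * D + ε * ε * ε * (D + ε) - ε * c ^ 2 * D)) := by
      field_simp
    rw [h1, h2, hε3] at h4
    have h3 : (n : ℂ) * ((n : ℂ) * (((D : ℂ) + ε) * D + ε * (D + ε) - 4 * ε * D))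
        = (n : ℂ) * (2 * (k : ℂ) ^ 2 * (D * (D + ε))) := by
      linear_combination -h4
    exact mul_left_cancel₀ hn0 h3
  have hC : (n : ℂ) * ((D : ℂ) * D₁ * D₂ + ε * D₁ * D₂ + a₁ * D * D₂ + a₂ * D * D₁)
      = 2 * (k : ℂ) ^ 2 * (D * D₁ * D₂) := by
    have h1 := f.E_zero h d
    unfold centralChar at h1
    rw [f.psi_t h d, hD, hD₁, hD₂, hG, ← hn, ← hk] at h1
    have h2 := f.psi1_t_sq h d
    have h2' := f.psi2_t_sq h d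
    obtain ⟨c₁, hc₁⟩ : ∃ c : ℂ, c = (ψ₁ : G → ℂ) t := ⟨_, rfl⟩
    obtain ⟨c₂, hc₂⟩ : ∃ c : ℂ, c = (ψ₂ : G → ℂ) t := ⟨_, rfl⟩
    rw [← hc₁] at h1 h2
    rw [← hc₂] at h1 h2'
    have h4 : ((n : ℂ) ^ 2 + ε * (((n : ℂ) * ε / D) ^ 2 * D)
        + a₁ * (((n : ℂ) * c₁ / D₁) ^ 2 * D₁) + a₂ * (((n : ℂ) * c₂ / D₂) ^ 2 * D₂))
          * (D * D₁ * D₂)
        = n * (n * ((D : ℂ) * D₁ * D₂ + ε * ε * ε * D₁ * D₂ + a₁ * c₁ ^ 2 * D * D₂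
          + a₂ * c₂ ^ 2 * D * D₁)) := by
      field_simp
    rw [h1, h2, h2', hε3] at h4
    have h3 : (n : ℂ) * ((n : ℂ) * ((D : ℂ) * D₁ * D₂ + ε * D₁ * D₂ + a₁ * D * D₂ + a₂ * D * D₁))
        = (n : ℂ) * (2 * (k : ℂ) ^ 2 * (D * D₁ * D₂)) := by
      linear_combination -h4
    exact mul_left_cancel₀ hn0 h3
  rw [← hk] at hm'
  rw [hD] at hm'
  rw [hεe] at hA hB hC hm'
  rw [ha₁e, ha₂e] at hA hC
  have hodd : Odd (n : ℤ) := by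
    rw [hn]
    exact_mod_cast h.odd_index
  have hAz : 1 + e * (D : ℤ) + α₁ * (D₁ : ℤ) + α₂ * (D₂ : ℤ) = 0 := by exact_mod_cast hA
  have hBz : (n : ℤ) * (((D : ℤ) + e) * D + e * (D + e) - 4 * e * D)
      = 2 * (k : ℤ) ^ 2 * (D * (D + e)) := by exact_mod_cast hB
  have hCz : (n : ℤ) * ((D : ℤ) * D₁ * D₂ + e * D₁ * D₂ + α₁ * D * D₂ + α₂ * D * D₁)
      = 2 * (k : ℤ) ^ 2 * (D * D₁ * D₂) := by exact_mod_cast hC
  have hFz : (k : ℤ) * (m' : ℤ) = (D : ℤ) + ((k : ℤ) - 1) * e := by exact_mod_cast hm'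
  obtain ⟨r1, r2, r3, r4, r5, r6⟩ := arith_frag (k : ℤ) (n : ℤ) (D : ℤ) (D₁ : ℤ) (D₂ : ℤ) e α₁ α₂
    (m' : ℤ) (by exact_mod_cast hk4) hodd (by exact_mod_cast hD0) (by exact_mod_cast hD₁0)
    (by exact_mod_cast hD₂0) he hα₁ hα₂ hAz hBz hCz hFz
  refine ⟨e, he, hεe, ?_, ?_, ?_, ?_, ?_, ?_⟩
  · rw [hD, ← hk, ← r1]; norm_cast
  · rw [← hn, ← hk]; exact r2
  · rw [ha₁e, hεe, r3]; push_cast; ring
  · rw [ha₂e, hεe, r4]; push_cast; ring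
  · rw [hD₁, ← hk, ← r5]; norm_cast
  · rw [hD₂, ← hk, ← r6]; norm_cast

end Frag

end Cfsg.Agent.Lib.Helper7.ABSW
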