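import Mathlib
import Cfsg.Agent.Lib.Helper7.ABSW14

set_option autoImplicit false

/-!
# Abstract Brauer-Suzuki-Wall: character values outside the conjugates of `K`
-/

namespace Cfsg.Agent.Lib.Helper7.ABSW

open Cfsg Cfsg.Agent.Lib.Helper1 Cfsg.Agent.Lib.Helper4 Cfsg.Agent.Lib.Helper7.BSW
open scoped ComplexConjugate

universe u

variable {G : Type u} [Group G] [Fintype G]

variable {K : Subgroup G} {t s : G} [Fintype K] [Fintype (IrrCharacter K)]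
variable {lam0 : IrrCharacter K} {R : Set (IrrCharacter K)} {ε : ℂ} {ψ : IrrCharacter G}
  {χ : R → IrrCharacter G} {ψ₁ ψ₂ : IrrCharacter G} {a₁ a₂ : ℂ}

/-- the numerical data. -/
structure Num (K : Subgroup G) (t : G) (ε : ℂ) (ψ ψ₁ ψ₂ : IrrCharacter G) (a₁ a₂ : ℂ) :
    Prop where
  hq : (ψ : G → ℂ) 1 = 2 * (Nat.card K : ℂ) + ε
  hn : ((Subgroup.centralizer ({t} : Set G)).index : ℂ)
    = (2 * (Nat.card K : ℂ) + ε) * ((Nat.card K : ℂ) + ε)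
  ha₁ : a₁ = -ε
  ha₂ : a₂ = -ε
  hD₁ : (ψ₁ : G → ℂ) 1 = (Nat.card K : ℂ) + ε
  hD₂ : (ψ₂ : G → ℂ) 1 = (Nat.card K : ℂ) + ε

namespace Frag

variable [Fintype R]

theorem num (f : Frag K lam0 R ε ψ χ ψ₁ ψ₂ a₁ a₂) (h : Hyp K t s) (d : IrrData K lam0 R)
    [Nonempty R] [Fintype (IrrCharacter G)] : Num K t ε ψ ψ₁ ψ₂ a₁ a₂ := by
  obtain ⟨e, he, hεe, h1, h2, h3, h4, h5, h6⟩ := f.numerics h d
  refine ⟨?_, ?_, h3, h4, ?_, ?_⟩
  · rw [h1, hεe]; push_cast; ring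
  · have : (((Subgroup.centralizer ({t} : Set G)).index : ℤ) : ℂ)
        = (((2 * (Nat.card K : ℤ) + e) * ((Nat.card K : ℤ) + e) : ℤ) : ℂ) := by rw [h2]
    rw [hεe]
    push_cast at this ⊢
    exact this
  · rw [h5, hεe]; push_cast; ring
  · rw [h6, hεe]; push_cast; ring

/-- `χ_μ` outside the conjugates of `K`. -/
theorem chi_out (f : Frag K lam0 R ε ψ χ ψ₁ ψ₂ a₁ a₂) (hc : Cfg K s) (μ : R) {y : G}
    (hy : ¬ InU K y) : (χ μ : G → ℂ) y = ε + (ψ : G → ℂ) y := by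
  have h1 := Th_apply_not_inU hc (μ : IrrCharacter K) hy
  rw [f.pre.hTh μ] at h1
  simp only [Pi.add_apply, Pi.sub_apply, Pi.smul_apply, smul_eq_mul, oneIrr_apply] at h1
  have h2 := f.pre.eps_sq
  linear_combination (-ε) * h1 + (-(χ μ : G → ℂ) y + (ψ : G → ℂ) y) * h2

/-- `ψ₁ + ψ₂` outside the conjugates of `K`. -/
theorem psi12_out (f : Frag K lam0 R ε ψ χ ψ₁ ψ₂ a₁ a₂) (hc : Cfg K s)
    (nm : Num K t ε ψ ψ₁ ψ₂ a₁ a₂) {y : G} (hy : ¬ InU K y) :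
    (ψ₁ : G → ℂ) y + (ψ₂ : G → ℂ) y = ε + (ψ : G → ℂ) y := by
  have h1 := Th_apply_not_inU hc lam0 hy
  rw [f.hTh0, nm.ha₁, nm.ha₂] at h1
  simp only [Pi.add_apply, Pi.smul_apply, smul_eq_mul, oneIrr_apply] at h1
  have h2 := f.pre.eps_sq
  linear_combination (-ε) * h1 - ((ψ₁ : G → ℂ) y + (ψ₂ : G → ℂ) y - (ψ : G → ℂ) y) * h2

/-- the number of ways of writing an element outside the conjugates of `K` as a product of two
involutions, in terms of `ψ`. -/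
theorem two_Nfun_out (f : Frag K lam0 R ε ψ χ ψ₁ ψ₂ a₁ a₂) (h : Hyp K t s)
    (d : IrrData K lam0 R) (nm : Num K t ε ψ ψ₁ ψ₂ a₁ a₂) [Fintype (IrrCharacter G)] {y : G}
    (hy : ¬ InU K y) :
    2 * Nfun t y = (2 * (Nat.card K : ℂ) + ε) * (1 + ε)
      + conj ((ψ : G → ℂ) y) * (2 * (Nat.card K : ℂ) - 1 + ε) := by
  classical
  have hc := h.cfg
  obtain ⟨k, hk⟩ : ∃ k : ℂ, k = (Nat.card K : ℂ) := ⟨_, rfl⟩
  obtain ⟨n, hn⟩ : ∃ n : ℂ, n = ((Subgroup.centralizer ({t} : Set G)).index : ℂ) := ⟨_, rfl⟩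
  obtain ⟨w, hw⟩ : ∃ w : ℂ, w = conj ((ψ : G → ℂ) y) := ⟨_, rfl⟩
  have hε2 := f.pre.eps_sq
  have hεc := f.pre.eps_conj
  have hk0 : k ≠ 0 := by rw [hk]; exact Nat.cast_ne_zero.mpr Nat.card_pos.ne'
  have hn0 : n ≠ 0 := by
    rw [hn]; exact Nat.cast_ne_zero.2 Subgroup.index_ne_zero_of_finite
  have hq := nm.hq
  have hnn := nm.hn
  have hD₁ := nm.hD₁
  have hD₂ := nm.hD₂
  rw [← hk] at hq hnn hD₁ hD₂ ⊢
  rw [← hn] at hnn
  rw [← hw]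
  have hq0 : 2 * k + ε ≠ 0 := by rw [← hq]; exact irr_apply_one_ne_zero ψ.2
  have hD0 : k + ε ≠ 0 := by rw [← hD₁]; exact irr_apply_one_ne_zero ψ₁.2
  have hG : (Nat.card G : ℂ) = 2 * k * n := by rw [h.card_G, hn, hk]; push_cast; ring
  have hr : k = 2 + 2 * (Fintype.card R : ℂ) := by
    rw [hk, d.card_eq hc]; push_cast; ring
  have hdeg : ∀ μ : R, (χ μ : G → ℂ) 1 = 2 * (k + ε) := by
    intro μ; rw [f.pre.degree hc μ, hq]; ring
  have L1 : ∀ (c D z : ℂ), D ≠ 0 → (n * c / D) ^ 2 * D * z = n ^ 2 * c ^ 2 * z / D := by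
    intro c D z hD; field_simp
  rw [Nfun_fourier, f.sum_eq]
  · have t1 : centralChar (oneIrr G : G → ℂ) t ^ 2 * (oneIrr G : G → ℂ) 1
        * conj ((oneIrr G : G → ℂ) y) = n ^ 2 := by
      unfold centralChar
      simp only [oneIrr_apply, map_one]
      rw [← hn]; ring
    have t2 : centralChar (ψ : G → ℂ) t ^ 2 * (ψ : G → ℂ) 1 * conj ((ψ : G → ℂ) y)
        = n ^ 2 * w / (2 * k + ε) := by
      unfold centralChar
      rw [← hn, f.psi_t h d, hq, ← hw, L1 _ _ _ hq0, pow_two ε, hε2]; ring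
    have t3 : centralChar (ψ₁ : G → ℂ) t ^ 2 * (ψ₁ : G → ℂ) 1 * conj ((ψ₁ : G → ℂ) y)
        = n ^ 2 * conj ((ψ₁ : G → ℂ) y) / (k + ε) := by
      unfold centralChar
      rw [← hn, hD₁, L1 _ _ _ hD0, f.psi1_t_sq h d]; ring
    have t4 : centralChar (ψ₂ : G → ℂ) t ^ 2 * (ψ₂ : G → ℂ) 1 * conj ((ψ₂ : G → ℂ) y)
        = n ^ 2 * conj ((ψ₂ : G → ℂ) y) / (k + ε) := by
      unfold centralChar
      rw [← hn, hD₂, L1 _ _ _ hD0, f.psi2_t_sq h d]; ring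
    have t5 : ∀ μ : R, centralChar (χ μ : G → ℂ) t ^ 2 * (χ μ : G → ℂ) 1
        * conj ((χ μ : G → ℂ) y) = n ^ 2 * 2 * (ε + w) / (k + ε) := by
      intro μ
      unfold centralChar
      rw [← hn, hdeg μ, L1 _ _ _ (mul_ne_zero two_ne_zero hD0), f.chi_t_sq h d μ,
        f.chi_out hc μ hy, map_add, hεc, ← hw]
      field_simp
      ring
    rw [t1, t2, t3, t4]
    simp only [t5]
    rw [Finset.sum_const, Finset.card_univ, nsmul_eq_mul, hG]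
    have t6 : conj ((ψ₁ : G → ℂ) y) + conj ((ψ₂ : G → ℂ) y) = ε + w := by
      rw [← map_add, f.psi12_out hc nm hy, map_add, hεc, ← hw]
    obtain ⟨r, hr'⟩ : ∃ r : ℂ, r = (Fintype.card R : ℂ) := ⟨_, rfl⟩
    rw [← hr'] at hr ⊢
    have hr2 : r = (k - 2) / 2 := by rw [hr]; ring
    have main : n ^ 2 + n ^ 2 * w / (2 * k + ε) + n ^ 2 * conj ((ψ₁ : G → ℂ) y) / (k + ε)
        + n ^ 2 * conj ((ψ₂ : G → ℂ) y) / (k + ε) + r * (n ^ 2 * 2 * (ε + w) / (k + ε))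
        = n ^ 2 * (1 + w / (2 * k + ε) + (ε + w) / (k + ε) + (k - 2) * (ε + w) / (k + ε)) := by
      rw [hr2]
      linear_combination (n ^ 2 / (k + ε)) * t6
    rw [main, hnn]
    field_simp
    ring
  · intro χ' h1 h2 h3 h4 h5
    have h6 := f.other_apply hc d h1 h2 h3 h4 h5 h.htK h.t_ne_one
    unfold centralChar
    rw [h6]
    simp

end Frag

end Cfsg.Agent.Lib.Helper7.ABSW
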