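import Mathlib
import Cfsg.Agent.Lib.Helper7.ABSW15

set_option autoImplicit false

/-!
# Abstract Brauer-Suzuki-Wall: moments of `ψ` outside the conjugates of `K`
-/

namespace Cfsg.Agent.Lib.Helper7.ABSW

open Cfsg Cfsg.Agent.Lib.Helper1 Cfsg.Agent.Lib.Helper4 Cfsg.Agent.Lib.Helper7.BSW
open Cfsg.Agent.Lib.Helper8
open scoped ComplexConjugate

universe u

/-- a rational algebraic integer is an integer. -/
theorem int_of_isIntegral_rat {z : ℂ} (r : ℚ) (hz : z = (r : ℂ)) (hint : IsIntegral ℤ z) :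
    ∃ m : ℤ, z = m := by
  have h1 : z = algebraMap ℚ ℂ r := by rw [hz]; simp
  rw [h1, isIntegral_algebraMap_iff (algebraMap ℚ ℂ).injective] at hint
  obtain ⟨m, hm⟩ := IsIntegrallyClosed.isIntegral_iff.1 hint
  refine ⟨m, ?_⟩
  rw [hz, ← hm]
  simp

variable {G : Type u} [Group G] [Fintype G]

variable {K : Subgroup G} {t s : G} [Fintype K]

open Classical in
/-- summation of a class function over `G`. -/
theorem Hyp.sum_class (h : Hyp K t s) (F : G → ℂ) (hF : IsClassFunction G F) :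
    ∑ x : G, F x = F 1
      + ((Subgroup.centralizer ({t} : Set G)).index : ℂ) * ∑ z : K, (if z ≠ 1 then F z else 0)
      + ∑ x : G, (if ¬ InU K x then F x else 0) := by
  rw [sum_split K F]
  congr 2
  have e2 := sum_union_conj K (Subgroup.centralizer ({t} : Set G)) h.ti_centralizer
    h.conj_mem_of_centralizer F hF
  have hC0 : (Nat.card (Subgroup.centralizer ({t} : Set G)) : ℂ) ≠ 0 :=
    Nat.cast_ne_zero.mpr Nat.card_pos.ne'
  have h3 : (Nat.card G : ℂ) = (Nat.card (Subgroup.centralizer ({t} : Set G)) : ℂ)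
      * ((Subgroup.centralizer ({t} : Set G)).index : ℂ) := by
    rw [← Subgroup.card_mul_index (Subgroup.centralizer ({t} : Set G))]
    push_cast; ring
  rw [h3, mul_assoc] at e2
  have e3 := mul_left_cancel₀ hC0 e2
  rw [e3]
  congr 1
  refine sum_inst_irrel _ _ _ _ (fun z => ?_)
  by_cases hz : z = 1
  · rw [if_neg (fun h' : (z : G) ≠ 1 => h' (by rw [hz]; rfl)), if_neg (fun h' : z ≠ 1 => h' hz)]
  · rw [if_pos (fun h' : (z : G) = 1 => hz (Subtype.ext h')), if_pos hz]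

open Classical in
theorem sum_K_const (c : ℂ) :
    ∑ z : K, (if z ≠ 1 then c else 0) = ((Nat.card K : ℂ) - 1) * c := by
  rw [← Finset.sum_filter, Finset.sum_const, Finset.filter_ne', Finset.card_erase_of_mem
    (Finset.mem_univ _), Finset.card_univ, nsmul_eq_mul, Nat.card_eq_fintype_card,
    Nat.cast_sub Fintype.card_pos]
  simp

variable [Fintype (IrrCharacter K)]
variable {lam0 : IrrCharacter K} {R : Set (IrrCharacter K)} {ε : ℂ} {ψ : IrrCharacter G}
  {χ : R → IrrCharacter G} {ψ₁ ψ₂ : IrrCharacter G} {a₁ a₂ : ℂ}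

theorem IrrData.four_le (d : IrrData K lam0 R) (hc : Cfg K s) [Fintype R] [Nonempty R] :
    4 ≤ Nat.card K := by
  have h1 := d.card_eq hc
  have h2 : 0 < Fintype.card R := Fintype.card_pos
  omega

namespace Frag

variable [Fintype R]

open Classical in
/-- the first moment of `ψ` outside the conjugates of `K`. -/
theorem sum_psi_out (f : Frag K lam0 R ε ψ χ ψ₁ ψ₂ a₁ a₂) (h : Hyp K t s)
    (d : IrrData K lam0 R) (nm : Num K t ε ψ ψ₁ ψ₂ a₁ a₂) :
    ∑ x : G, (if ¬ InU K x then (ψ : G → ℂ) x else 0)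
      = -(2 * (Nat.card K : ℂ) + ε)
        - ((Subgroup.centralizer ({t} : Set G)).index : ℂ) * ((Nat.card K : ℂ) - 1) * ε := by
  have h1 := h.sum_class (ψ : G → ℂ) (isClassFunction_irr ψ.2)
  have h2 : ∑ x : G, (ψ : G → ℂ) x = 0 := by
    have h3 := inner_irr_ne f.pre.ψ_ne_one
    unfold classInner at h3
    have hG0 : (Nat.card G : ℂ) ≠ 0 := Nat.cast_ne_zero.mpr Nat.card_pos.ne'
    rcases mul_eq_zero.1 h3 with h4 | h4
    · exact absurd h4 (inv_ne_zero hG0)
    · rw [← h4]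
      refine Finset.sum_congr rfl fun x _ => ?_
      rw [oneIrr_apply, map_one, mul_one]
  have h3 : ∑ z : K, (if z ≠ 1 then (ψ : G → ℂ) z else 0)
      = ∑ z : K, (if z ≠ 1 then ε else 0) := by
    refine Finset.sum_congr rfl fun z _ => ?_
    by_cases hz : z ≠ 1
    · rw [if_pos hz, if_pos hz]
      exact f.psi_apply h.cfg d z.2 (fun h' => hz (Subtype.ext h'))
    · rw [if_neg hz, if_neg hz]
  rw [h2, h3, sum_K_const, nm.hq] at h1
  linear_combination -h1

open Classical in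
/-- the second moment of `ψ` outside the conjugates of `K`. -/
theorem sum_psi_sq_out (f : Frag K lam0 R ε ψ χ ψ₁ ψ₂ a₁ a₂) (h : Hyp K t s)
    (d : IrrData K lam0 R) (nm : Num K t ε ψ ψ₁ ψ₂ a₁ a₂) :
    ∑ x : G, (if ¬ InU K x then (ψ : G → ℂ) x * conj ((ψ : G → ℂ) x) else 0)
      = (Nat.card G : ℂ) - (2 * (Nat.card K : ℂ) + ε) ^ 2
        - ((Subgroup.centralizer ({t} : Set G)).index : ℂ) * ((Nat.card K : ℂ) - 1) := by
  have hcf : IsClassFunction G (fun x => (ψ : G → ℂ) x * conj ((ψ : G → ℂ) x)) := by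
    intro x g
    simp only
    rw [isClassFunction_irr ψ.2 x g]
  have h1 := h.sum_class _ hcf
  have h2 : ∑ x : G, (ψ : G → ℂ) x * conj ((ψ : G → ℂ) x) = (Nat.card G : ℂ) := by
    have h3 := inner_irr_self ψ
    unfold classInner at h3
    have hG0 : (Nat.card G : ℂ) ≠ 0 := Nat.cast_ne_zero.mpr Nat.card_pos.ne'
    field_simp at h3
    exact h3
  have h3 : ∑ z : K, (if z ≠ 1 then (ψ : G → ℂ) z * conj ((ψ : G → ℂ) z) else 0)
      = ∑ z : K, (if z ≠ 1 then (1 : ℂ) else 0) := by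
    refine Finset.sum_congr rfl fun z _ => ?_
    by_cases hz : z ≠ 1
    · rw [if_pos hz, if_pos hz, f.psi_apply h.cfg d z.2 (fun h' => hz (Subtype.ext h')),
        f.pre.eps_conj, f.pre.eps_sq]
    · rw [if_neg hz, if_neg hz]
  rw [h2, h3, sum_K_const, nm.hq] at h1
  have h4 : conj (2 * (Nat.card K : ℂ) + ε) = 2 * (Nat.card K : ℂ) + ε := by
    rw [map_add, map_mul, f.pre.eps_conj, Complex.conj_natCast]
    congr 2
    exact Complex.conj_ofNat 2
  rw [h4] at h1
  linear_combination -h1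

/-- `ψ` takes integer values outside the conjugates of `K`. -/
theorem psi_out_int (f : Frag K lam0 R ε ψ χ ψ₁ ψ₂ a₁ a₂) (h : Hyp K t s)
    (d : IrrData K lam0 R) (nm : Num K t ε ψ ψ₁ ψ₂ a₁ a₂) [Fintype (IrrCharacter G)]
    (hk4 : 4 ≤ Nat.card K) {y : G} (hy : ¬ InU K y) : ∃ m : ℤ, (ψ : G → ℂ) y = m := by
  have h1 := f.two_Nfun_out h d nm hy
  rw [h.Nfun_eq_card] at h1
  obtain ⟨N, hN⟩ : ∃ N : ℕ, N = Nat.card {b : G // orderOf b = 2 ∧ orderOf (b⁻¹ * y) = 2} :=
    ⟨_, rfl⟩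
  obtain ⟨k, hk⟩ : ∃ k : ℕ, k = Nat.card K := ⟨_, rfl⟩
  rw [← hN, ← hk] at h1
  rw [← hk] at hk4
  have hint := isIntegral_char_apply (isCharacter_of_irr ψ.2) y
  have hk0 : (k : ℂ) ≠ 0 := Nat.cast_ne_zero.2 (by omega)
  have hk1 : (k : ℂ) - 1 ≠ 0 := by
    have : ((k - 1 : ℕ) : ℂ) ≠ 0 := Nat.cast_ne_zero.2 (by omega)
    rwa [Nat.cast_sub (by omega), Nat.cast_one] at this
  rcases f.pre.hε with hε | hε
  · rw [hε] at h1
    have h2 : conj ((ψ : G → ℂ) y) = (((N : ℚ) - (2 * k + 1)) / k : ℚ) := by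
      push_cast
      field_simp
      linear_combination (-1 / 2 : ℂ) * h1
    have h3 : (ψ : G → ℂ) y = (((N : ℚ) - (2 * k + 1)) / k : ℚ) := by
      rw [← Complex.conj_conj ((ψ : G → ℂ) y), h2, map_ratCast]
    exact int_of_isIntegral_rat _ h3 hint
  · rw [hε] at h1
    have h2 : conj ((ψ : G → ℂ) y) = (((N : ℚ)) / (k - 1) : ℚ) := by
      push_cast
      field_simp
      linear_combination (-1 / 2 : ℂ) * h1
    have h3 : (ψ : G → ℂ) y = (((N : ℚ)) / (k - 1) : ℚ) := by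
      rw [← Complex.conj_conj ((ψ : G → ℂ) y), h2, map_ratCast]
    exact int_of_isIntegral_rat _ h3 hint

end Frag

end Cfsg.Agent.Lib.Helper7.ABSW
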