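import Mathlib
import Cfsg.Agent.Lib.Helper7.ABSW16

set_option autoImplicit false

/-!
# Abstract Brauer-Suzuki-Wall: the values of `ψ` outside the conjugates of `K`
-/

namespace Cfsg.Agent.Lib.Helper7.ABSW

open Cfsg Cfsg.Agent.Lib.Helper1 Cfsg.Agent.Lib.Helper4 Cfsg.Agent.Lib.Helper7.BSW
open scoped ComplexConjugate

universe u

variable {G : Type u} [Group G] [Fintype G]

variable {K : Subgroup G} {t s : G} [Fintype K] [Fintype (IrrCharacter K)]
variable {lam0 : IrrCharacter K} {R : Set (IrrCharacter K)} {ε : ℂ} {ψ : IrrCharacter G}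
  {χ : R → IrrCharacter G} {ψ₁ ψ₂ : IrrCharacter G} {a₁ a₂ : ℂ}

theorem int_mul_self_add_nonneg (m e : ℤ) (he : e = 1 ∨ e = -1) : 0 ≤ m * m + e * m := by
  rcases he with rfl | rfl
  · rcases le_or_gt 0 m with h | h
    · nlinarith
    · have : m + 1 ≤ 0 := by omega
      nlinarith
  · rcases le_or_gt m 0 with h | h
    · nlinarith
    · have : 0 ≤ m - 1 := by omega
      nlinarith

namespace Frag

variable [Fintype R]

/-- the key cancellation. -/
theorem moment_identity (f : Frag K lam0 R ε ψ χ ψ₁ ψ₂ a₁ a₂) (h : Hyp K t s)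
    (nm : Num K t ε ψ ψ₁ ψ₂ a₁ a₂) :
    ((Nat.card G : ℂ) - (2 * (Nat.card K : ℂ) + ε) ^ 2
        - ((Subgroup.centralizer ({t} : Set G)).index : ℂ) * ((Nat.card K : ℂ) - 1))
      + ε * (-(2 * (Nat.card K : ℂ) + ε)
        - ((Subgroup.centralizer ({t} : Set G)).index : ℂ) * ((Nat.card K : ℂ) - 1) * ε) = 0 := by
  have hG : (Nat.card G : ℂ) = 2 * (Nat.card K : ℂ)
      * ((Subgroup.centralizer ({t} : Set G)).index : ℂ) := by
    rw [h.card_G]; push_cast; ring
  rw [hG, nm.hn]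
  have h2 := f.pre.eps_sq
  linear_combination (-(2 * (Nat.card K : ℂ) + ε) * ((Nat.card K : ℂ) + ε)
    * ((Nat.card K : ℂ) - 1)) * h2

open Classical in
/-- outside the conjugates of `K`, `ψ` takes the values `0` and `-ε` only. -/
theorem psi_out_cases (f : Frag K lam0 R ε ψ χ ψ₁ ψ₂ a₁ a₂) (h : Hyp K t s)
    (d : IrrData K lam0 R) (nm : Num K t ε ψ ψ₁ ψ₂ a₁ a₂) [Nonempty R]
    [Fintype (IrrCharacter G)] {y : G} (hy : ¬ InU K y) :
    (ψ : G → ℂ) y = 0 ∨ (ψ : G → ℂ) y = -ε := by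
  have hc := h.cfg
  have hk4 := d.four_le hc
  have hm : ∀ y : G, ∃ m : ℤ, ¬ InU K y → (ψ : G → ℂ) y = m := by
    intro y
    by_cases hy : InU K y
    · exact ⟨0, fun h' => absurd hy h'⟩
    · obtain ⟨m, hm⟩ := f.psi_out_int h d nm hk4 hy
      exact ⟨m, fun _ => hm⟩
  choose m hm using hm
  obtain ⟨e, he, hεe⟩ : ∃ e : ℤ, (e = 1 ∨ e = -1) ∧ ε = (e : ℂ) := by
    rcases f.pre.hε with h' | h'
    · exact ⟨1, Or.inl rfl, by rw [h']; norm_num⟩
    · exact ⟨-1, Or.inr rfl, by rw [h']; norm_num⟩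
  set g : G → ℤ := fun y => if ¬ InU K y then m y * m y + e * m y else 0 with hg
  have hg0 : ∀ y ∈ (Finset.univ : Finset G), 0 ≤ g y := by
    intro y _
    simp only [hg]
    by_cases hy : InU K y
    · rw [if_neg (fun h' => h' hy)]
    · rw [if_pos hy]
      exact int_mul_self_add_nonneg _ _ he
  have hsum : ∑ y : G, g y = 0 := by
    have h1 : ((∑ y : G, g y : ℤ) : ℂ) = 0 := by
      push_cast
      have h2 : ∀ y : G, ((g y : ℤ) : ℂ)
          = (if ¬ InU K y then (ψ : G → ℂ) y * conj ((ψ : G → ℂ) y) else 0)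
            + ε * (if ¬ InU K y then (ψ : G → ℂ) y else 0) := by
        intro y
        simp only [hg]
        by_cases hy : InU K y
        · rw [if_neg (fun h' => h' hy), if_neg (fun h' => h' hy), if_neg (fun h' => h' hy)]
          simp
        · rw [if_pos hy, if_pos hy, if_pos hy, hm y hy, hεe]
          push_cast
          rw [map_intCast]
      simp only [h2]
      rw [Finset.sum_add_distrib, ← Finset.mul_sum, f.sum_psi_sq_out h d nm,
        f.sum_psi_out h d nm]
      exact f.moment_identity h nm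
    exact_mod_cast h1
  have h3 := (Finset.sum_eq_zero_iff_of_nonneg hg0).1 hsum y (Finset.mem_univ y)
  simp only [hg] at h3
  rw [if_pos hy] at h3
  have h4 : m y * (m y + e) = 0 := by linear_combination h3
  rcases mul_eq_zero.1 h4 with h5 | h5
  · left
    rw [hm y hy, h5]; simp
  · right
    rw [hm y hy, hεe]
    have : m y = -e := by linarith
    rw [this]; push_cast; ring

open Classical in
/-- the number of elements outside the conjugates of `K`. -/
theorem _root_.Cfsg.Agent.Lib.Helper7.ABSW.Hyp.card_out (h : Hyp K t s) :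
    ∑ x : G, (if ¬ InU K x then (1 : ℂ) else 0)
      = (Nat.card G : ℂ) - 1
        - ((Subgroup.centralizer ({t} : Set G)).index : ℂ) * ((Nat.card K : ℂ) - 1) := by
  have h1 := h.sum_class (fun _ => (1 : ℂ)) (fun _ _ => rfl)
  rw [sum_K_const, Finset.sum_const, Finset.card_univ, nsmul_eq_mul, mul_one,
    ← Nat.card_eq_fintype_card] at h1
  linear_combination -h1

open Classical in
/-- the number of elements outside the conjugates of `K` at which `ψ` does not vanish. -/
theorem card_psi_ne_zero (f : Frag K lam0 R ε ψ χ ψ₁ ψ₂ a₁ a₂) (h : Hyp K t s)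
    (d : IrrData K lam0 R) (nm : Num K t ε ψ ψ₁ ψ₂ a₁ a₂) [Nonempty R]
    [Fintype (IrrCharacter G)] :
    (Nat.card {y : G // ¬ InU K y ∧ (ψ : G → ℂ) y ≠ 0} : ℂ)
      = ε * (2 * (Nat.card K : ℂ) + ε)
        + ((Subgroup.centralizer ({t} : Set G)).index : ℂ) * ((Nat.card K : ℂ) - 1) := by
  have h1 := f.sum_psi_out h d nm
  have h2 : ∀ x : G, (if ¬ InU K x then (ψ : G → ℂ) x else 0)
      = -ε * (if ¬ InU K x ∧ (ψ : G → ℂ) x ≠ 0 then 1 else 0) := by
    intro x
    by_cases hx : InU K x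
    · rw [if_neg (fun h' => h' hx), if_neg (fun h' => h'.1 hx), mul_zero]
    · rw [if_pos hx]
      rcases f.psi_out_cases h d nm hx with h3 | h3
      · rw [if_neg (fun h' => h'.2 h3), h3, mul_zero]
      · rw [if_pos ⟨hx, by rw [h3]; exact neg_ne_zero.2 f.pre.eps_ne_zero⟩, h3, mul_one]
  simp only [h2] at h1
  rw [← Finset.mul_sum, Finset.sum_boole] at h1
  rw [Nat.card_eq_fintype_card, Fintype.card_subtype]
  have h3 := f.pre.eps_sq
  linear_combination (-ε) * h1 - ((Finset.univ.filter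
    (fun x : G => ¬ InU K x ∧ (ψ : G → ℂ) x ≠ 0)).card : ℂ) * h3
    + ((Subgroup.centralizer ({t} : Set G)).index : ℂ) * ((Nat.card K : ℂ) - 1) * h3

open Classical in
/-- the number of elements outside the conjugates of `K` at which `ψ` vanishes. -/
theorem card_psi_zero (f : Frag K lam0 R ε ψ χ ψ₁ ψ₂ a₁ a₂) (h : Hyp K t s)
    (d : IrrData K lam0 R) (nm : Num K t ε ψ ψ₁ ψ₂ a₁ a₂) [Nonempty R]
    [Fintype (IrrCharacter G)] :
    (Nat.card {y : G // ¬ InU K y ∧ (ψ : G → ℂ) y = 0} : ℂ)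
      = (2 * (Nat.card K : ℂ) + ε) ^ 2 - 1 := by
  have h1 := h.card_out
  have h2 : ∀ x : G, (if ¬ InU K x then (1 : ℂ) else 0)
      = (if ¬ InU K x ∧ (ψ : G → ℂ) x = 0 then 1 else 0)
        + (if ¬ InU K x ∧ (ψ : G → ℂ) x ≠ 0 then 1 else 0) := by
    intro x
    by_cases hx : InU K x
    · rw [if_neg (fun h' => h' hx), if_neg (fun h' => h'.1 hx), if_neg (fun h' => h'.1 hx),
        add_zero]
    · rw [if_pos hx]
      by_cases h3 : (ψ : G → ℂ) x = 0
      · rw [if_pos ⟨hx, h3⟩, if_neg (fun h' => h'.2 h3), add_zero]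
      · rw [if_neg (fun h' => h3 h'.2), if_pos ⟨hx, h3⟩, zero_add]
  simp only [h2] at h1
  rw [Finset.sum_add_distrib, Finset.sum_boole, Finset.sum_boole] at h1
  have h3 := f.card_psi_ne_zero h d nm
  rw [Nat.card_eq_fintype_card, Fintype.card_subtype] at h3 ⊢
  rw [h3] at h1
  have hG : (Nat.card G : ℂ) = 2 * (Nat.card K : ℂ)
      * ((Subgroup.centralizer ({t} : Set G)).index : ℂ) := by
    rw [h.card_G]; push_cast; ring
  rw [hG, nm.hn] at h1
  linear_combination h1

end Frag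

end Cfsg.Agent.Lib.Helper7.ABSW
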