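import Mathlib
import Cfsg.Agent.Lib.Helper7.ABSW2

set_option autoImplicit false

/-!
# Abstract Brauer-Suzuki-Wall: the normalizer of `C(y)` for a real element `y` outside the union
-/

namespace Cfsg.Agent.Lib.Helper7.ABSW

open Cfsg.Agent.Lib.Helper7.BSW

variable {G : Type*} [Group G] [Finite G] {K : Subgroup G} {t s y a : G}

namespace RealOut

/-- the complement `N(C(y)) ∩ C(a)`. -/
def compl (_r : RealOut K y a) : Subgroup G :=
  Subgroup.normalizer ((Subgroup.centralizer ({y} : Set G) : Subgroup G) : Set G)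
    ⊓ Subgroup.centralizer ({a} : Set G)

/-- `C(y)` has odd order. -/
theorem odd_card (h : Hyp K t s) (r : RealOut K y a) :
    Odd (Nat.card (Subgroup.centralizer ({y} : Set G))) := by
  rw [← Nat.not_even_iff_odd]
  intro he
  haveI : Fact (Nat.Prime 2) := ⟨Nat.prime_two⟩
  obtain ⟨x, hx⟩ := exists_prime_orderOf_dvd_card' (G := Subgroup.centralizer ({y} : Set G)) 2
    he.two_dvd
  have hx2 : orderOf (x : G) = 2 := by rw [Subgroup.orderOf_coe, hx]
  exact h.not_comm_invol r.hy hx2 (Subgroup.mem_centralizer_singleton_iff.1 x.2)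

/-- square roots in `C(y)`. -/
theorem exists_sqrt (h : Hyp K t s) (r : RealOut K y a) {z : G}
    (hz : z ∈ Subgroup.centralizer ({y} : Set G)) :
    ∃ w ∈ Subgroup.centralizer ({y} : Set G), w * w = z := by
  obtain ⟨m, hm⟩ := r.odd_card h
  refine ⟨z ^ (m + 1), Subgroup.pow_mem _ hz _, ?_⟩
  have h1 : z ^ Nat.card (Subgroup.centralizer ({y} : Set G)) = 1 := by
    have := pow_card_eq_one' (G := Subgroup.centralizer ({y} : Set G)) (x := ⟨z, hz⟩)
    exact congrArg Subtype.val this
  rw [← pow_add]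
  have : m + 1 + (m + 1) = Nat.card (Subgroup.centralizer ({y} : Set G)) + 1 := by omega
  rw [this, pow_succ, h1, one_mul]

/-- an involution inverting `y` differs from `a` by an element of `C(y)`. -/
theorem mul_a_mem (r : RealOut K y a) {b : G} (hby : b * y * b⁻¹ = y⁻¹) :
    b * a ∈ Subgroup.centralizer ({y} : Set G) := by
  rw [Subgroup.mem_centralizer_singleton_iff]
  have e : b * a * y = b * (a * y * a⁻¹) * a := by group
  have h3 : b * y⁻¹ = y * b := by
    have : b * y⁻¹ = (b * y * b⁻¹)⁻¹ * b := by group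
    rw [this, hby, inv_inv]
  rw [e, r.hay, h3, mul_assoc]

theorem a_mem_normalizer (r : RealOut K y a) :
    a ∈ Subgroup.normalizer ((Subgroup.centralizer ({y} : Set G) : Subgroup G) : Set G) := by
  rw [Subgroup.mem_normalizer_iff]
  intro z
  constructor
  · exact fun hz => r.conj_mem hz
  · intro hz
    have := r.conj_mem hz
    have e : a * (a * z * a⁻¹) * a⁻¹ = (a * a) * z * (a * a)⁻¹ := by group
    rw [e, r.aa] at this
    simpa using this

theorem a_mem_compl (r : RealOut K y a) : a ∈ r.compl := by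
  refine Subgroup.mem_inf.2 ⟨r.a_mem_normalizer, ?_⟩
  rw [Subgroup.mem_centralizer_singleton_iff]

/-- an involution in the normalizer of `C(y)` is of the form `z a`. -/
theorem invol_normalizer (h : Hyp K t s) (r : RealOut K y a) {b : G} (hb : orderOf b = 2)
    (hbN : b ∈ Subgroup.normalizer ((Subgroup.centralizer ({y} : Set G) : Subgroup G) : Set G)) :
    b * a ∈ Subgroup.centralizer ({y} : Set G) := by
  apply r.mul_a_mem
  apply invol_inverts h r.hy hb
  · intro z hz
    exact (Subgroup.mem_normalizer_iff.1 hbN z).1 hz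
  · rw [Subgroup.mem_centralizer_singleton_iff]

/-- `N(C(y)) = C(y) · (N(C(y)) ∩ C(a))`. -/
theorem exists_decomp (h : Hyp K t s) (r : RealOut K y a) {g : G}
    (hg : g ∈ Subgroup.normalizer ((Subgroup.centralizer ({y} : Set G) : Subgroup G) : Set G)) :
    ∃ w ∈ Subgroup.centralizer ({y} : Set G), w⁻¹ * g ∈ r.compl := by
  have hb : orderOf (g * a * g⁻¹) = 2 := by rw [orderOf_conj_eq, r.ha]
  have hbN : g * a * g⁻¹ ∈
      Subgroup.normalizer ((Subgroup.centralizer ({y} : Set G) : Subgroup G) : Set G) :=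
    Subgroup.mul_mem _ (Subgroup.mul_mem _ hg r.a_mem_normalizer) (Subgroup.inv_mem _ hg)
  have h1 := r.invol_normalizer h hb hbN
  obtain ⟨w, hw, hww⟩ := r.exists_sqrt h h1
  refine ⟨w, hw, ?_⟩
  have hwa : w * a * w⁻¹ = g * a * g⁻¹ := by
    have h2 := r.inverts h (Subgroup.inv_mem _ hw)
    rw [inv_inv] at h2
    have e : w * a * w⁻¹ = w * (a * w⁻¹ * a⁻¹) * a := by group
    rw [e, h2, hww]
    have : g * a * g⁻¹ * a * a = g * a * g⁻¹ * (a * a) := by group
    rw [this, r.aa, mul_one]
  refine Subgroup.mem_inf.2 ⟨?_, ?_⟩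
  · exact Subgroup.mul_mem _ (Subgroup.inv_mem _ (Subgroup.le_normalizer hw)) hg
  · rw [Subgroup.mem_centralizer_singleton_iff]
    have e1 : w⁻¹ * g * a = w⁻¹ * (g * a * g⁻¹) * g := by group
    rw [e1, ← hwa]
    group

/-- `C(y) ∩ compl = 1`. -/
theorem eq_one_of_mem_compl (h : Hyp K t s) (r : RealOut K y a) {z : G}
    (hz : z ∈ Subgroup.centralizer ({y} : Set G)) (hzE : z ∈ r.compl) : z = 1 := by
  apply r.eq_one_of_comm h hz
  have := (Subgroup.mem_inf.1 hzE).2
  rw [Subgroup.mem_centralizer_singleton_iff] at this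
  exact this.symm

/-- the order of the normalizer. -/
theorem card_normalizer (h : Hyp K t s) (r : RealOut K y a) :
    Nat.card (Subgroup.normalizer ((Subgroup.centralizer ({y} : Set G) : Subgroup G) : Set G))
      = Nat.card (Subgroup.centralizer ({y} : Set G)) * Nat.card r.compl := by
  rw [← Nat.card_prod]
  symm
  apply Nat.card_congr
  refine Equiv.ofBijective (fun p => ⟨(p.1 : G) * (p.2 : G),
    Subgroup.mul_mem _ (Subgroup.le_normalizer p.1.2) (Subgroup.mem_inf.1 p.2.2).1⟩) ⟨?_, ?_⟩
  · rintro ⟨w, e⟩ ⟨w', e'⟩ hp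
    have hp' : (w : G) * e = w' * e' := congrArg Subtype.val hp
    have h1 : (w' : G)⁻¹ * w = e' * (e : G)⁻¹ := by
      have : (w' : G)⁻¹ * w = (w' : G)⁻¹ * ((w : G) * e) * (e : G)⁻¹ := by group
      rw [this, hp']; group
    have h2 : (w' : G)⁻¹ * w = 1 := by
      apply r.eq_one_of_mem_compl h (Subgroup.mul_mem _ (Subgroup.inv_mem _ w'.2) w.2)
      rw [h1]
      exact Subgroup.mul_mem _ e'.2 (Subgroup.inv_mem _ e.2)
    have h3 : (w : G) = w' := by
      have : (w : G) = w' * ((w' : G)⁻¹ * w) := by group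
      rw [this, h2, mul_one]
    have h4 : (e : G) = e' := by
      rw [h3] at hp'
      exact mul_left_cancel hp'
    rw [Prod.mk.injEq]
    exact ⟨Subtype.ext h3, Subtype.ext h4⟩
  · rintro ⟨g, hg⟩
    obtain ⟨w, hw, hwg⟩ := r.exists_decomp h hg
    refine ⟨(⟨w, hw⟩, ⟨w⁻¹ * g, hwg⟩), ?_⟩
    apply Subtype.ext
    simp

/-- the only involution of `compl` is `a`. -/
theorem invol_compl (h : Hyp K t s) (r : RealOut K y a) {x : G} (hx : x ∈ r.compl)
    (hx2 : orderOf x = 2) : x = a := by
  have h1 := r.invol_normalizer h hx2 (Subgroup.mem_inf.1 hx).1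
  have h2 := (Subgroup.mem_inf.1 hx).2
  rw [Subgroup.mem_centralizer_singleton_iff] at h2
  have h3 : x * a = 1 := by
    apply r.eq_one_of_comm h h1
    rw [← mul_assoc, ← h2]
  have : x = (x * a) * a⁻¹ := by group
  rw [this, h3, one_mul, r.a_inv]

/-- `compl` lies in a conjugate of `K`. -/
theorem exists_conj_compl_le (h : Hyp K t s) (r : RealOut K y a) :
    ∃ c : G, c * t * c⁻¹ = a ∧ r.compl ≤ K.map (MulAut.conj c).toMonoidHom := by
  obtain ⟨c, hc⟩ := h.exists_conj_t r.ha
  refine ⟨c, hc, ?_⟩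
  intro x hx
  have h2 := (Subgroup.mem_inf.1 hx).2
  rw [Subgroup.mem_centralizer_singleton_iff] at h2
  have h3 : (c⁻¹ * x * c) * t = t * (c⁻¹ * x * c) := by
    have e1 : (c⁻¹ * x * c) * t = c⁻¹ * (x * (c * t * c⁻¹)) * c := by group
    have e2 : t * (c⁻¹ * x * c) = c⁻¹ * ((c * t * c⁻¹) * x) * c := by group
    rw [e1, e2, hc, h2]
  rw [Subgroup.mem_map]
  rcases h.comm_t_iff.1 h3 with h4 | h4
  · exact ⟨c⁻¹ * x * c, h4, by simp [MulAut.conj_apply]; group⟩
  · exfalso
    have h5 := h.mul_s_orderOf h4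
    have h6 : orderOf x = 2 := by
      have : x = c * (c⁻¹ * x * c) * c⁻¹ := by group
      rw [this, orderOf_conj_eq, h5]
    have h7 := r.invol_compl h hx h6
    have h8 : c⁻¹ * x * c = t := by
      rw [h7, ← hc]; group
    rw [h8] at h4
    apply h.hsK
    have : s = t⁻¹ * (t * s) := by group
    rw [this]
    exact K.mul_mem (K.inv_mem h.htK) h4

/-- the order of `compl` divides the order of `K`. -/
theorem card_compl_dvd (h : Hyp K t s) (r : RealOut K y a) : Nat.card r.compl ∣ Nat.card K := by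
  obtain ⟨c, -, hle⟩ := r.exists_conj_compl_le h
  have h1 := Subgroup.card_dvd_of_le hle
  have h2 : Nat.card (K.map (MulAut.conj c).toMonoidHom) = Nat.card K :=
    Subgroup.card_map_of_injective (MulAut.conj c).injective
  rwa [h2] at h1

/-- the order of `compl` divides `|C(y)| - 1`. -/
theorem card_compl_dvd_pred (h : Hyp K t s) (r : RealOut K y a) :
    Nat.card r.compl ∣ Nat.card (Subgroup.centralizer ({y} : Set G)) - 1 := by
  classical
  haveI : Fintype G := Fintype.ofFinite G
  set F := Subgroup.centralizer ({y} : Set G) with hF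
  set S : Finset G := (Finset.univ.filter (fun z => z ∈ F)).erase 1 with hS
  have hcard : S.card = Nat.card F - 1 := by
    rw [hS, Finset.card_erase_of_mem]
    · congr 1
      rw [Nat.card_eq_fintype_card, Fintype.card_subtype]
    · simp [F.one_mem]
  rw [← hcard]
  apply card_dvd_of_free_conj r.compl S.card S rfl
  · intro e he z hz
    rw [hS, Finset.mem_erase, Finset.mem_filter] at hz ⊢
    refine ⟨?_, Finset.mem_univ _, ?_⟩
    · intro h1
      apply hz.1
      have : z = e⁻¹ * (e * z * e⁻¹) * e := by group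
      rw [this, h1]; group
    · exact (Subgroup.mem_normalizer_iff.1 (Subgroup.mem_inf.1 he).1 z).1 hz.2.2
  · intro e he z hz hez
    rw [hS, Finset.mem_erase, Finset.mem_filter] at hz
    have h1 : e ∈ Subgroup.centralizer ({z} : Set G) := by
      rw [Subgroup.mem_centralizer_singleton_iff]
      have : e * z = (e * z * e⁻¹) * e := by group
      rw [this, hez]
    rw [r.centralizer_eq h hz.2.2 hz.1] at h1
    exact r.eq_one_of_mem_compl h h1 he

/-- if `compl` has order two then `C(y)` with `a` is a configuration of `BSW1`. -/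
theorem cfg_of_card_two (h : Hyp K t s) (r : RealOut K y a) (h2 : Nat.card r.compl = 2) :
    Cfg (Subgroup.centralizer ({y} : Set G)) a where
  comm := fun z hz w hw => r.comm h hz hw
  notMem := r.a_not_mem h
  sq := r.aa
  inv := fun z hz => r.inverts h hz
  ti := by
    intro g z hz hz1 hgz
    have hg := r.ti h hz hz1 hgz
    obtain ⟨w, hw, hwg⟩ := r.exists_decomp h hg
    -- the complement is `{1, a}`
    have hE : ∀ e ∈ r.compl, e = 1 ∨ e = a := by
      intro e he
      by_contra hne
      rw [not_or] at hne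
      haveI : Fintype r.compl := Fintype.ofFinite _
      have h3 : 2 < Fintype.card r.compl := by
        rw [Fintype.two_lt_card_iff]
        exact ⟨1, ⟨a, r.a_mem_compl⟩, ⟨e, he⟩,
          fun h' => ne_one_of_orderOf_two r.ha (congrArg Subtype.val h').symm,
          fun h' => hne.1 (congrArg Subtype.val h').symm,
          fun h' => hne.2 (congrArg Subtype.val h').symm⟩
      rw [← Nat.card_eq_fintype_card, h2] at h3
      omega
    rcases hE _ hwg with h3 | h3
    · left
      have : g = w * (w⁻¹ * g) := by group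
      rw [this, h3, mul_one]; exact hw
    · right
      have : g * a = w * (w⁻¹ * g) * a := by group
      rw [this, h3, mul_assoc, r.aa, mul_one]; exact hw

end RealOut

end Cfsg.Agent.Lib.Helper7.ABSW
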