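import Mathlib
import Cfsg.Agent.Lib.Helper7.ABSW3

set_option autoImplicit false

/-!
# Abstract Brauer-Suzuki-Wall: normalizers of the subgroups of a conjugate of `K`, and of the
subgroups of a T.I. subgroup inverted by an involution
-/

namespace Cfsg.Agent.Lib.Helper7.ABSW

open Cfsg.Agent.Lib.Helper7.BSW

variable {G : Type*} [Group G] {K : Subgroup G} {t s : G}

theorem conj_map_mem {c x : G} {A : Subgroup G} :
    x ∈ A.map (MulAut.conj c).toMonoidHom ↔ c⁻¹ * x * c ∈ A := by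
  rw [Subgroup.mem_map]
  constructor
  · rintro ⟨x₀, hx₀, rfl⟩
    have : c⁻¹ * ((MulAut.conj c).toMonoidHom x₀) * c = x₀ := by
      simp [MulAut.conj_apply]; group
    rw [this]; exact hx₀
  · intro hx
    refine ⟨c⁻¹ * x * c, hx, ?_⟩
    simp [MulAut.conj_apply]; group

namespace Hyp

theorem ti_centralizer' (h : Hyp K t s) (g z : G) (hz : z ∈ K) (hz1 : z ≠ 1)
    (hg : g * z * g⁻¹ ∈ K) : g ∈ Subgroup.centralizer ({t} : Set G) := by
  by_contra hb'
  have h2 := h.hTI g hb'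
  have h3 : g * z * g⁻¹ ∈ K ⊓ K.map (MulAut.conj g).toMonoidHom := by
    refine Subgroup.mem_inf.2 ⟨hg, ?_⟩
    rw [Subgroup.mem_map]
    exact ⟨z, hz, rfl⟩
  rw [h2, Subgroup.mem_bot] at h3
  apply hz1
  have : z = g⁻¹ * (g * z * g⁻¹) * g := by group
  rw [this, h3]; group

/-- elements of `C(t)` normalize every subgroup of `K`. -/
theorem conj_mem_of_le (h : Hyp K t s) {X₀ : Subgroup G} (hX₀ : X₀ ≤ K) {g x : G}
    (hg : g ∈ Subgroup.centralizer ({t} : Set G)) (hx : x ∈ X₀) : g * x * g⁻¹ ∈ X₀ := by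
  rcases h.mem_H_iff.1 hg with hgK | hgK
  · rw [h.cfg.conj_of_mem hgK (hX₀ hx)]; exact hx
  · rw [h.mul_s_conj hgK (hX₀ hx)]; exact X₀.inv_mem hx

/-- the normalizer of a nontrivial subgroup of a conjugate of `K`. -/
theorem normalizer_of_le_conj (h : Hyp K t s) (c : G) {X : Subgroup G}
    (hX : X ≤ K.map (MulAut.conj c).toMonoidHom) (hX1 : X ≠ ⊥) :
    Subgroup.normalizer (X : Set G)
      = K.map (MulAut.conj c).toMonoidHom ⊔ Subgroup.zpowers (c * s * c⁻¹) := by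
  have e1 : K.map (MulAut.conj c).toMonoidHom ⊔ Subgroup.zpowers (c * s * c⁻¹)
      = (Subgroup.centralizer ({t} : Set G)).map (MulAut.conj c).toMonoidHom := by
    rw [← h.hH, Subgroup.map_sup, MonoidHom.map_zpowers]
    rfl
  rw [e1]
  -- the subgroup `X₀ = c⁻¹ X c` of `K`
  have hclaim : ∀ g₀ ∈ Subgroup.centralizer ({t} : Set G), ∀ x ∈ X,
      (c * g₀ * c⁻¹) * x * (c * g₀ * c⁻¹)⁻¹ ∈ X := by
    intro g₀ hg₀ x hx
    have hx₀ : c⁻¹ * x * c ∈ K := conj_map_mem.1 (hX hx)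
    have e : (c * g₀ * c⁻¹) * x * (c * g₀ * c⁻¹)⁻¹ = c * (g₀ * (c⁻¹ * x * c) * g₀⁻¹) * c⁻¹ := by
      group
    rw [e]
    rcases h.mem_H_iff.1 hg₀ with hgK | hgK
    · rw [h.cfg.conj_of_mem hgK hx₀]
      have : c * (c⁻¹ * x * c) * c⁻¹ = x := by group
      rw [this]; exact hx
    · rw [h.mul_s_conj hgK hx₀]
      have : c * (c⁻¹ * x * c)⁻¹ * c⁻¹ = x⁻¹ := by group
      rw [this]; exact X.inv_mem hx
  ext g
  rw [conj_map_mem, Subgroup.mem_normalizer_iff]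
  constructor
  · intro hg
    obtain ⟨x, hx1⟩ := (Subgroup.ne_bot_iff_exists_ne_one.1 hX1)
    have hxX : (x : G) ∈ X := x.2
    have hx₀ : c⁻¹ * (x : G) * c ∈ K := conj_map_mem.1 (hX hxX)
    have hx₁ : c⁻¹ * (g * (x : G) * g⁻¹) * c ∈ K := conj_map_mem.1 (hX ((hg _).1 hxX))
    apply h.ti_centralizer' (c⁻¹ * g * c) (c⁻¹ * (x : G) * c) hx₀
    · intro h1
      apply hx1
      apply Subtype.ext
      have : (x : G) = c * (c⁻¹ * (x : G) * c) * c⁻¹ := by group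
      rw [this, h1]; simp
    · have e : c⁻¹ * g * c * (c⁻¹ * (x : G) * c) * (c⁻¹ * g * c)⁻¹
          = c⁻¹ * (g * (x : G) * g⁻¹) * c := by group
      rw [e]; exact hx₁
  · intro hg x
    have e0 : c * (c⁻¹ * g * c) * c⁻¹ = g := by group
    constructor
    · intro hx
      have := hclaim _ hg x hx
      rwa [e0] at this
    · intro hx
      have h2 := hclaim _ (Subgroup.inv_mem _ hg) _ hx
      have e : c * (c⁻¹ * g * c)⁻¹ * c⁻¹ * (g * x * g⁻¹) * (c * (c⁻¹ * g * c)⁻¹ * c⁻¹)⁻¹ = x := by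
        group
      rwa [e] at h2

theorem conj_s_orderOf (h : Hyp K t s) (c : G) : orderOf (c * s * c⁻¹) = 2 := by
  rw [orderOf_conj_eq, h.hs]

theorem conj_s_not_mem (h : Hyp K t s) (c : G) :
    c * s * c⁻¹ ∉ K.map (MulAut.conj c).toMonoidHom := by
  rw [conj_map_mem]
  have : c⁻¹ * (c * s * c⁻¹) * c = s := by group
  rw [this]
  exact h.hsK

theorem conj_s_inverts (h : Hyp K t s) (c : G) :
    ∀ d ∈ K.map (MulAut.conj c).toMonoidHom, (c * s * c⁻¹) * d * (c * s * c⁻¹)⁻¹ = d⁻¹ := by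
  intro d hd
  have hd₀ := conj_map_mem.1 hd
  have e : (c * s * c⁻¹) * d * (c * s * c⁻¹)⁻¹ = c * (s * (c⁻¹ * d * c) * s⁻¹) * c⁻¹ := by group
  rw [e, h.hinv _ hd₀]
  group

theorem conj_comm (h : Hyp K t s) (c : G) :
    IsMulCommutative (K.map (MulAut.conj c).toMonoidHom) := by
  rw [isMulCommutative_iff]
  rintro ⟨a, ha⟩ ⟨b, hb⟩
  apply Subtype.ext
  show a * b = b * a
  have ha₀ := conj_map_mem.1 ha
  have hb₀ := conj_map_mem.1 hb
  have e1 : a * b = c * ((c⁻¹ * a * c) * (c⁻¹ * b * c)) * c⁻¹ := by group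
  have e2 : b * a = c * ((c⁻¹ * b * c) * (c⁻¹ * a * c)) * c⁻¹ := by group
  rw [e1, e2, h.comm _ ha₀ _ hb₀]

theorem card_conj [Finite G] (c : G) :
    Nat.card (K.map (MulAut.conj c).toMonoidHom) = Nat.card K :=
  Subgroup.card_map_of_injective (MulAut.conj c).injective

end Hyp

/-- a subgroup containing two subgroups with trivial intersection and of the right order is
their join. -/
theorem eq_sup_of_card [Finite G] {M A B : Subgroup G} (hA : A ≤ M) (hB : B ≤ M)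
    (hAB : A ⊓ B = ⊥) (hcard : Nat.card M = Nat.card A * Nat.card B) : M = A ⊔ B := by
  have hle : A ⊔ B ≤ M := sup_le hA hB
  symm
  apply Subgroup.eq_of_le_of_card_ge hle
  -- `|A||B| ≤ |A ⊔ B|` via the injection `(a, b) ↦ a b`
  rw [hcard, ← Nat.card_prod]
  apply Nat.card_le_card_of_injective
    (fun p : A × B => (⟨(p.1 : G) * (p.2 : G),
      Subgroup.mul_mem _ ((le_sup_left : A ≤ A ⊔ B) p.1.2)
        ((le_sup_right : B ≤ A ⊔ B) p.2.2)⟩ : (A ⊔ B : Subgroup G)))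
  rintro ⟨a, b⟩ ⟨a', b'⟩ hp
  have hp' : (a : G) * (b : G) = (a' : G) * (b' : G) := congrArg Subtype.val hp
  have h1 : (a' : G)⁻¹ * (a : G) = (b' : G) * (b : G)⁻¹ := by
    have : (a' : G)⁻¹ * ((a : G) * (b : G)) * (b : G)⁻¹ = (a' : G)⁻¹ * ((a' : G) * (b' : G)) * (b : G)⁻¹ := by
      rw [hp']
    have e1 : (a' : G)⁻¹ * ((a : G) * (b : G)) * (b : G)⁻¹ = (a' : G)⁻¹ * (a : G) := by group
    have e2 : (a' : G)⁻¹ * ((a' : G) * (b' : G)) * (b : G)⁻¹ = (b' : G) * (b : G)⁻¹ := by group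
    rw [e1, e2] at this
    exact this
  have h2 : (a' : G)⁻¹ * (a : G) ∈ A ⊓ B := by
    refine Subgroup.mem_inf.2 ⟨A.mul_mem (A.inv_mem a'.2) a.2, ?_⟩
    rw [h1]
    exact B.mul_mem b'.2 (B.inv_mem b.2)
  rw [hAB, Subgroup.mem_bot] at h2
  have ha : (a : G) = a' := by
    have : (a : G) = (a' : G) * ((a' : G)⁻¹ * (a : G)) := by group
    rw [this, h2, mul_one]
  have hb : (b : G) = b' := by
    rw [ha] at hp'
    exact mul_left_cancel hp'
  exact Prod.ext (Subtype.ext ha) (Subtype.ext hb)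

end Cfsg.Agent.Lib.Helper7.ABSW
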