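import Mathlib
import Cfsg.Agent.Lib.Helper7.ABSW17
import Cfsg.Agent.Lib.Helper7.ABSW18

set_option autoImplicit false

/-!
# Abstract Brauer-Suzuki-Wall: the case `ε = 1`
-/

namespace Cfsg.Agent.Lib.Helper7.ABSW

open Cfsg Cfsg.Agent.Lib.Helper1 Cfsg.Agent.Lib.Helper4 Cfsg.Agent.Lib.Helper7.BSW
open scoped ComplexConjugate

universe u

variable {G : Type u} [Group G]

variable {K : Subgroup G} {t s : G}

/-- the conclusion of the theorem. -/
def Concl (G : Type u) [Group G] : Prop :=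
  ∃ Q D : Subgroup G, 2 * Nat.card G = Nat.card ↥Q * (Nat.card ↥Q + 1) * (Nat.card ↥Q - 1) ∧
      (∀ x ∈ Q, x ≠ 1 → Subgroup.centralizer ({x} : Set G) = Q) ∧
      IsMulCommutative ↥D ∧ 2 * Nat.card ↥D + 1 = Nat.card ↥Q ∧ Q ⊓ D = ⊥ ∧
      Subgroup.normalizer (Q : Set G) = Q ⊔ D ∧
      ∀ X : Subgroup G, X ≤ D → X ≠ ⊥ →
        Subgroup.normalizer (X : Set G) = Subgroup.normalizer (D : Set G) ∧
        ∃ u : G, orderOf u = 2 ∧ u ∉ D ∧ (∀ d ∈ D, u * d * u⁻¹ = d⁻¹) ∧
          Subgroup.normalizer (D : Set G) = D ⊔ Subgroup.zpowers u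

/-- the conclusion when `D` is a conjugate of `K`. -/
theorem Hyp.concl_conj (h : Hyp K t s) [Finite G] (Q : Subgroup G) (c : G)
    (hG : 2 * Nat.card G = Nat.card Q * (Nat.card Q + 1) * (Nat.card Q - 1))
    (hcent : ∀ x ∈ Q, x ≠ 1 → Subgroup.centralizer ({x} : Set G) = Q)
    (hq : 2 * Nat.card K + 1 = Nat.card Q)
    (hinf : Q ⊓ K.map (MulAut.conj c).toMonoidHom = ⊥)
    (hN : Subgroup.normalizer (Q : Set G) = Q ⊔ K.map (MulAut.conj c).toMonoidHom) :
    Concl G := by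
  refine ⟨Q, K.map (MulAut.conj c).toMonoidHom, hG, hcent, h.conj_comm c, ?_, hinf, hN, ?_⟩
  · rw [Hyp.card_conj]; exact hq
  · intro X hX hX1
    have e := h.normalizer_of_le_conj c hX hX1
    have hD1 : K.map (MulAut.conj c).toMonoidHom ≠ ⊥ := by
      intro h'
      apply hX1
      rw [h'] at hX
      exact le_bot_iff.1 hX
    have eD := h.normalizer_of_le_conj c le_rfl hD1
    exact ⟨e.trans eD.symm, c * s * c⁻¹, h.conj_s_orderOf c, h.conj_s_not_mem c,
      h.conj_s_inverts c, eD⟩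

variable [Fintype G] [Fintype K] [Fintype (IrrCharacter K)]
variable {lam0 : IrrCharacter K} {R : Set (IrrCharacter K)} {ε : ℂ} {ψ : IrrCharacter G}
  {χ : R → IrrCharacter G} {ψ₁ ψ₂ : IrrCharacter G} {a₁ a₂ : ℂ}

/-- an element written as a product of two involutions is inverted by the first. -/
theorem inverts_of_pair {b y : G} (hb : orderOf b = 2) (hby : orderOf (b⁻¹ * y) = 2) :
    b * y * b⁻¹ = y⁻¹ := by
  have hbi := inv_of_orderOf_two hb
  have h1 := sq_of_orderOf_two hby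
  rw [hbi] at h1 ⊢
  rw [eq_inv_iff_mul_eq_one]
  calc b * y * b * y = (b * y) * (b * y) := by group
    _ = 1 := h1

namespace Frag

variable [Fintype R]

theorem concl_pos (f : Frag K lam0 R ε ψ χ ψ₁ ψ₂ a₁ a₂) (h : Hyp K t s)
    (d : IrrData K lam0 R) (nm : Num K t ε ψ ψ₁ ψ₂ a₁ a₂) [Nonempty R]
    [Fintype (IrrCharacter G)] (hε : ε = 1) : Concl G := by
  classical
  have hc := h.cfg
  have hk4 := d.four_le hc
  obtain ⟨k, hk⟩ : ∃ k : ℕ, k = Nat.card K := ⟨_, rfl⟩
  rw [← hk] at hk4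
  -- the index of `C(t)` and the order of `G`
  have hn : (Subgroup.centralizer ({t} : Set G)).index = (2 * k + 1) * (k + 1) := by
    have h1 := nm.hn
    rw [hε, ← hk] at h1
    exact_mod_cast h1
  have hG : Nat.card G = 2 * k * ((2 * k + 1) * (k + 1)) := by
    rw [h.card_G, hn, ← hk]
  -- an element with `ψ = 0`
  have h0 := f.card_psi_zero h d nm
  rw [hε, ← hk] at h0
  have h0' : Nat.card {y : G // ¬ InU K y ∧ (ψ : G → ℂ) y = 0} = (2 * k + 1) ^ 2 - 1 := by
    have : ((Nat.card {y : G // ¬ InU K y ∧ (ψ : G → ℂ) y = 0} : ℕ) : ℂ)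
        = (((2 * k + 1) ^ 2 - 1 : ℕ) : ℂ) := by
      rw [h0, Nat.cast_sub (Nat.one_le_pow _ _ (by omega))]
      push_cast; ring
    exact_mod_cast this
  have hne : Nonempty {y : G // ¬ InU K y ∧ (ψ : G → ℂ) y = 0} := by
    have h1 : 0 < Nat.card {y : G // ¬ InU K y ∧ (ψ : G → ℂ) y = 0} := by
      rw [h0']
      have : 1 < (2 * k + 1) ^ 2 := Nat.one_lt_pow (by norm_num) (by omega)
      omega
    exact (Nat.card_pos_iff.1 h1).1
  obtain ⟨⟨y, hyU, hy0⟩⟩ := hne
  -- `y` is inverted by an involution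
  have key : ∀ z : G, ¬ InU K z → (ψ : G → ℂ) z = 0 →
      Nat.card {b : G // orderOf b = 2 ∧ orderOf (b⁻¹ * z) = 2} = 2 * k + 1 := by
    intro z hzU hz0
    have h1 := f.two_Nfun_out h d nm hzU
    rw [hz0, hε, ← hk, h.Nfun_eq_card, map_zero, zero_mul, add_zero] at h1
    have : ((Nat.card {b : G // orderOf b = 2 ∧ orderOf (b⁻¹ * z) = 2} : ℕ) : ℂ)
        = ((2 * k + 1 : ℕ) : ℂ) := by
      push_cast
      linear_combination (1 / 2 : ℂ) * h1
    exact_mod_cast this
  have hNy := key y hyU hy0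
  have hne2 : Nonempty {b : G // orderOf b = 2 ∧ orderOf (b⁻¹ * y) = 2} := by
    have h1 : 0 < Nat.card {b : G // orderOf b = 2 ∧ orderOf (b⁻¹ * y) = 2} := by
      rw [hNy]; omega
    exact (Nat.card_pos_iff.1 h1).1
  obtain ⟨⟨a, ha, hay⟩⟩ := hne2
  have r : RealOut K y a := ⟨hyU, ha, inverts_of_pair ha hay⟩
  have hQ : Nat.card (Subgroup.centralizer ({y} : Set G)) = 2 * k + 1 := by
    rw [← r.card_invol h, hNy]
  -- `ψ` vanishes on the conjugates of the nonidentity elements of `C(y)`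
  have hsub : ∀ x : G, x ≠ 1 ∧ InU (Subgroup.centralizer ({y} : Set G)) x →
      ¬ InU K x ∧ (ψ : G → ℂ) x = 0 := by
    rintro x ⟨hx1, g, hg⟩
    have hz1 : g * x * g⁻¹ ≠ 1 := by
      intro h'
      apply hx1
      have : x = g⁻¹ * (g * x * g⁻¹) * g := by group
      rw [this, h']; group
    have rz := r.of_mem h hg hz1
    have hzU : ¬ InU K x := fun h' => rz.hy ((inU_conj_iff g).2 h')
    refine ⟨hzU, ?_⟩
    have h1 := f.two_Nfun_out h d nm rz.hy
    rw [h.Nfun_realOut rz, r.centralizer_eq h hg hz1, hQ, hε, ← hk,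
      isClassFunction_irr ψ.2 x g] at h1
    have hk0 : (k : ℂ) ≠ 0 := Nat.cast_ne_zero.2 (by omega)
    have h2 : conj ((ψ : G → ℂ) x) * (2 * (k : ℂ)) = 0 := by
      push_cast at h1
      linear_combination -h1
    rcases mul_eq_zero.1 h2 with h3 | h3
    · rw [← Complex.conj_conj ((ψ : G → ℂ) x), h3, map_zero]
    · exfalso
      exact (mul_ne_zero two_ne_zero hk0) h3
  -- counting the conjugates of `C(y)`
  set Q := Subgroup.centralizer ({y} : Set G) with hQdef
  have hcount := sum_union_conj Q (Subgroup.normalizer (Q : Set G))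
    (fun g z hz hz1 hgz => r.ti h hz hz1 hgz)
    (fun g hg z hz => (Subgroup.mem_normalizer_iff.1 hg z).1 hz) (fun _ => (1 : ℂ))
    (fun _ _ => rfl)
  have hA : ∑ x : G, (if x ≠ 1 ∧ InU Q x then (1 : ℂ) else 0)
      = ((Nat.card {x : G // x ≠ 1 ∧ InU Q x} : ℕ) : ℂ) := by
    rw [Finset.sum_boole, Nat.card_eq_fintype_card, Fintype.card_subtype]
  have hB : ∑ z : Q, (if (z : G) ≠ 1 then (1 : ℂ) else 0) = ((2 * k : ℕ) : ℂ) := by
    rw [Finset.sum_boole]
    congr 1
    have : (Finset.univ.filter (fun z : Q => (z : G) ≠ 1)) = Finset.univ.erase 1 := by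
      ext z
      simp only [Finset.mem_filter, Finset.mem_univ, true_and, Finset.mem_erase, and_true]
      exact ⟨fun h' h'' => h' (congrArg Subtype.val h''), fun h' h'' => h' (Subtype.ext h'')⟩
    rw [this, Finset.card_erase_of_mem (Finset.mem_univ _), Finset.card_univ,
      ← Nat.card_eq_fintype_card, hQ]
    omega
  rw [hA, hB] at hcount
  have hcount' : Nat.card (Subgroup.normalizer (Q : Set G)) * Nat.card {x : G // x ≠ 1 ∧ InU Q x}
      = Nat.card G * (2 * k) := by exact_mod_cast hcount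
  have hle : Nat.card {x : G // x ≠ 1 ∧ InU Q x} ≤ (2 * k + 1) ^ 2 - 1 := by
    rw [← h0']
    exact Nat.card_le_card_of_injective
      (fun x : {x : G // x ≠ 1 ∧ InU Q x} =>
        (⟨x.1, hsub x.1 x.2⟩ : {y : G // ¬ InU K y ∧ (ψ : G → ℂ) y = 0}))
      (fun x x' hxx => by
        have h1 := congrArg (fun w : {y : G // ¬ InU K y ∧ (ψ : G → ℂ) y = 0} => (w : G)) hxx
        exact Subtype.ext h1)
  have hNQ := r.card_normalizer h
  rw [← hQdef, hQ] at hNQ
  have hdvd := r.card_compl_dvd h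
  rw [← hk] at hdvd
  obtain ⟨e', he'⟩ : ∃ e' : ℕ, e' = Nat.card r.compl := ⟨_, rfl⟩
  rw [← he'] at hNQ hdvd
  have he'k : e' = k := by
    have h1 : e' ≤ k := Nat.le_of_dvd (by omega) hdvd
    have h2 : k ≤ e' := by
      rw [hNQ, hG] at hcount'
      have h3 : (2 * k + 1) * e' * Nat.card {x : G // x ≠ 1 ∧ InU Q x}
          ≤ (2 * k + 1) * e' * ((2 * k + 1) ^ 2 - 1) := Nat.mul_le_mul_left _ hle
      rw [hcount'] at h3
      have h4 : (2 * k + 1) ^ 2 - 1 = 2 * k * (2 * k + 2) := by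
        have : (2 * k + 1) ^ 2 = 2 * k * (2 * k + 2) + 1 := by ring
        omega
      rw [h4] at h3
      have h5 : (4 * k * (k + 1) * (2 * k + 1)) * k ≤ (4 * k * (k + 1) * (2 * k + 1)) * e' := by
        calc (4 * k * (k + 1) * (2 * k + 1)) * k
            = 2 * k * ((2 * k + 1) * (k + 1)) * (2 * k) := by ring
          _ ≤ (2 * k + 1) * e' * (2 * k * (2 * k + 2)) := h3
          _ = (4 * k * (k + 1) * (2 * k + 1)) * e' := by ring
      exact Nat.le_of_mul_le_mul_left h5 (by positivity)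
    omega
  obtain ⟨c, hct, hcle⟩ := r.exists_conj_compl_le h
  have hceq : r.compl = K.map (MulAut.conj c).toMonoidHom := by
    apply Subgroup.eq_of_le_of_card_ge hcle
    rw [Hyp.card_conj, ← hk, ← he', he'k]
  have hinf : Q ⊓ K.map (MulAut.conj c).toMonoidHom = ⊥ := by
    rw [← hceq, eq_bot_iff]
    intro z hz
    rw [Subgroup.mem_bot]
    exact r.eq_one_of_mem_compl h (Subgroup.mem_inf.1 hz).1 (Subgroup.mem_inf.1 hz).2
  have hN : Subgroup.normalizer (Q : Set G) = Q ⊔ K.map (MulAut.conj c).toMonoidHom := by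
    apply eq_sup_of_card Subgroup.le_normalizer _ hinf
    · rw [hNQ, hQ, Hyp.card_conj, ← hk, he'k]
    · rw [← hceq]
      exact inf_le_left
  apply h.concl_conj Q c _ (fun x hx hx1 => r.centralizer_eq h hx hx1) _ hinf hN
  · rw [hQ, hG]
    have : 2 * k + 1 - 1 = 2 * k := by omega
    rw [this]
    ring
  · rw [hQ, ← hk]

end Frag

end Cfsg.Agent.Lib.Helper7.ABSW
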