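import Mathlib
import Cfsg.Agent.Lib.Helper7.ABSW19

set_option autoImplicit false

/-!
# Abstract Brauer-Suzuki-Wall: the case `ε = -1`, real and non-real elements
-/

namespace Cfsg.Agent.Lib.Helper7.ABSW

open Cfsg Cfsg.Agent.Lib.Helper1 Cfsg.Agent.Lib.Helper4 Cfsg.Agent.Lib.Helper7.BSW
open scoped ComplexConjugate

universe u

variable {G : Type u} [Group G]

variable {K : Subgroup G} {t s : G}

/-- the conclusion when `D` is the centralizer of a real element outside the conjugates of `K`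
whose complement has order two. -/
theorem Hyp.concl_real (h : Hyp K t s) [Finite G] {y a : G} (r : RealOut K y a)
    (h2 : Nat.card r.compl = 2) (Q : Subgroup G)
    (hG : 2 * Nat.card G = Nat.card Q * (Nat.card Q + 1) * (Nat.card Q - 1))
    (hcent : ∀ x ∈ Q, x ≠ 1 → Subgroup.centralizer ({x} : Set G) = Q)
    (hq : 2 * Nat.card (Subgroup.centralizer ({y} : Set G)) + 1 = Nat.card Q)
    (hinf : Q ⊓ Subgroup.centralizer ({y} : Set G) = ⊥)
    (hN : Subgroup.normalizer (Q : Set G) = Q ⊔ Subgroup.centralizer ({y} : Set G)) :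
    Concl G := by
  have hcfg := r.cfg_of_card_two h h2
  set F := Subgroup.centralizer ({y} : Set G) with hF
  have hcomm : IsMulCommutative F := by
    rw [isMulCommutative_iff]
    rintro ⟨z, hz⟩ ⟨w, hw⟩
    exact Subtype.ext (hcfg.comm z hz w hw)
  -- the normalizer of a nontrivial subgroup of `F`
  have hNX : ∀ X : Subgroup G, X ≤ F → X ≠ ⊥ →
      Subgroup.normalizer (X : Set G) = F ⊔ Subgroup.zpowers a := by
    intro X hX hX1
    apply le_antisymm
    · intro g hg
      obtain ⟨x, hx1⟩ := (Subgroup.ne_bot_iff_exists_ne_one.1 hX1)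
      have hxX : (x : G) ∈ X := x.2
      have hx1' : (x : G) ≠ 1 := fun h' => hx1 (Subtype.ext h')
      have h3 := (Subgroup.mem_normalizer_iff.1 hg (x : G)).1 hxX
      rcases hcfg.ti g (x : G) (hX hxX) hx1' (hX h3) with h4 | h4
      · exact (le_sup_left : F ≤ F ⊔ Subgroup.zpowers a) h4
      · have : g = (g * a) * a⁻¹ := by group
        rw [this]
        exact Subgroup.mul_mem _ ((le_sup_left : F ≤ F ⊔ Subgroup.zpowers a) h4)
          (Subgroup.inv_mem _ ((le_sup_right : Subgroup.zpowers a ≤ F ⊔ Subgroup.zpowers a)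
            (Subgroup.mem_zpowers a)))
    · apply sup_le
      · intro g hg
        rw [Subgroup.mem_normalizer_iff]
        intro x
        constructor
        · intro hx
          rw [hcfg.conj_of_mem hg (hX hx)]; exact hx
        · intro hx
          have h3 := hcfg.conj_of_mem (F.inv_mem hg) (hX hx)
          have e : g⁻¹ * (g * x * g⁻¹) * g⁻¹⁻¹ = x := by group
          rw [e] at h3
          rw [h3]; exact hx
      · rw [Subgroup.zpowers_le, Subgroup.mem_normalizer_iff]
        intro x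
        constructor
        · intro hx
          rw [hcfg.inv x (hX hx)]; exact X.inv_mem hx
        · intro hx
          have h3 := hcfg.inv _ (hX hx)
          have e : a * (a * x * a⁻¹) * a⁻¹ = x := by
            have : a * (a * x * a⁻¹) * a⁻¹ = (a * a) * x * (a * a)⁻¹ := by group
            rw [this, hcfg.sq]; group
          rw [e] at h3
          rw [h3]; exact X.inv_mem hx
  refine ⟨Q, F, hG, hcent, hcomm, hq, hinf, hN, ?_⟩
  intro X hX hX1
  have hF1 : F ≠ ⊥ := by
    intro h'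
    apply hX1
    rw [h'] at hX
    exact le_bot_iff.1 hX
  have eD := hNX F le_rfl hF1
  exact ⟨(hNX X hX hX1).trans eD.symm, a, r.ha, hcfg.notMem, hcfg.inv, eD⟩

variable [Fintype G] [Fintype K] [Fintype (IrrCharacter K)]
variable {lam0 : IrrCharacter K} {R : Set (IrrCharacter K)} {ε : ℂ} {ψ : IrrCharacter G}
  {χ : R → IrrCharacter G} {ψ₁ ψ₂ : IrrCharacter G} {a₁ a₂ : ℂ}

namespace Frag

variable [Fintype R]

/-- for `ε = -1`: the number of involution pairs. -/
theorem card_pairs_neg (f : Frag K lam0 R ε ψ χ ψ₁ ψ₂ a₁ a₂) (h : Hyp K t s)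
    (d : IrrData K lam0 R) (nm : Num K t ε ψ ψ₁ ψ₂ a₁ a₂) [Fintype (IrrCharacter G)]
    (hε : ε = -1) {y : G} (hy : ¬ InU K y) :
    (Nat.card {b : G // orderOf b = 2 ∧ orderOf (b⁻¹ * y) = 2} : ℂ)
      = ((Nat.card K : ℂ) - 1) * conj ((ψ : G → ℂ) y) := by
  have h1 := f.two_Nfun_out h d nm hy
  rw [hε, h.Nfun_eq_card] at h1
  linear_combination (1 / 2 : ℂ) * h1

/-- for `ε = -1`: `ψ` does not vanish at real elements outside the conjugates of `K`. -/
theorem psi_realOut (f : Frag K lam0 R ε ψ χ ψ₁ ψ₂ a₁ a₂) (h : Hyp K t s)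
    (d : IrrData K lam0 R) (nm : Num K t ε ψ ψ₁ ψ₂ a₁ a₂) [Nonempty R]
    [Fintype (IrrCharacter G)] (hε : ε = -1) {y a : G} (r : RealOut K y a) :
    (ψ : G → ℂ) y = 1 ∧ Nat.card (Subgroup.centralizer ({y} : Set G)) + 1 = Nat.card K := by
  have h1 := f.card_pairs_neg h d nm hε r.hy
  rw [r.card_invol h] at h1
  have hpos : (Nat.card (Subgroup.centralizer ({y} : Set G)) : ℂ) ≠ 0 :=
    Nat.cast_ne_zero.mpr Nat.card_pos.ne'
  have h2 : (ψ : G → ℂ) y = 1 := by
    rcases f.psi_out_cases h d nm r.hy with h3 | h3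
    · exfalso
      rw [h3, map_zero, mul_zero] at h1
      exact hpos h1
    · rw [h3, hε, neg_neg]
  refine ⟨h2, ?_⟩
  rw [h2, map_one, mul_one] at h1
  have h4 : ((Nat.card (Subgroup.centralizer ({y} : Set G)) + 1 : ℕ) : ℂ)
      = ((Nat.card K : ℕ) : ℂ) := by
    push_cast; linear_combination h1
  exact_mod_cast h4

/-- for `ε = -1`: an element outside the conjugates of `K` with `ψ ≠ 0` is real. -/
theorem exists_realOut (f : Frag K lam0 R ε ψ χ ψ₁ ψ₂ a₁ a₂) (h : Hyp K t s)
    (d : IrrData K lam0 R) (nm : Num K t ε ψ ψ₁ ψ₂ a₁ a₂) [Nonempty R]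
    [Fintype (IrrCharacter G)] (hε : ε = -1) {y : G} (hy : ¬ InU K y)
    (hy0 : (ψ : G → ℂ) y ≠ 0) : ∃ a : G, RealOut K y a := by
  have hk4 := d.four_le h.cfg
  have h1 := f.card_pairs_neg h d nm hε hy
  have h2 : (ψ : G → ℂ) y = 1 := by
    rcases f.psi_out_cases h d nm hy with h3 | h3
    · exact absurd h3 hy0
    · rw [h3, hε, neg_neg]
  rw [h2, map_one, mul_one] at h1
  have h3 : 0 < Nat.card {b : G // orderOf b = 2 ∧ orderOf (b⁻¹ * y) = 2} := by
    have h4 : ((Nat.card {b : G // orderOf b = 2 ∧ orderOf (b⁻¹ * y) = 2} + 1 : ℕ) : ℂ)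
        = ((Nat.card K : ℕ) : ℂ) := by
      push_cast; linear_combination h1
    have h5 : Nat.card {b : G // orderOf b = 2 ∧ orderOf (b⁻¹ * y) = 2} + 1 = Nat.card K := by
      exact_mod_cast h4
    omega
  obtain ⟨⟨a, ha, hay⟩⟩ := (Nat.card_pos_iff.1 h3).1
  exact ⟨a, hy, ha, inverts_of_pair ha hay⟩

/-- for `ε = -1`: elements outside the conjugates of `K` with `ψ = 0` are not real. -/
theorem not_real_of_psi_zero (f : Frag K lam0 R ε ψ χ ψ₁ ψ₂ a₁ a₂) (h : Hyp K t s)
    (d : IrrData K lam0 R) (nm : Num K t ε ψ ψ₁ ψ₂ a₁ a₂) [Nonempty R]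
    [Fintype (IrrCharacter G)] (hε : ε = -1) {y : G} (hy : ¬ InU K y)
    (hy0 : (ψ : G → ℂ) y = 0) (a : G) (ha : orderOf a = 2) : a * y * a⁻¹ ≠ y⁻¹ := by
  intro hay
  have r : RealOut K y a := ⟨hy, ha, hay⟩
  have := (f.psi_realOut h d nm hε r).1
  rw [hy0] at this
  exact zero_ne_one this

end Frag

end Cfsg.Agent.Lib.Helper7.ABSW
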