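import Mathlib
import Cfsg.Agent.Lib.Helper7.ABSW20

set_option autoImplicit false

/-!
# Abstract Brauer-Suzuki-Wall: the case `ε = -1`, the non-real elements
-/

namespace Cfsg.Agent.Lib.Helper7.ABSW

open Cfsg Cfsg.Agent.Lib.Helper1 Cfsg.Agent.Lib.Helper4 Cfsg.Agent.Lib.Helper7.BSW
open scoped ComplexConjugate

universe u

variable {G : Type u} [Group G]

/-- conjugating by powers of an element inverting `u`. -/
theorem pow_conj_inverts {g u : G} (hg : g * u * g⁻¹ = u⁻¹) (i : ℕ) :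
    g ^ i * u * (g ^ i)⁻¹ = if Even i then u else u⁻¹ := by
  induction i with
  | zero => simp
  | succ i ih =>
    have e : g ^ (i + 1) * u * (g ^ (i + 1))⁻¹ = g * (g ^ i * u * (g ^ i)⁻¹) * g⁻¹ := by
      rw [pow_succ']; group
    rw [e, ih]
    by_cases hi : Even i
    · rw [if_pos hi, if_neg (by rw [Nat.even_add_one]; exact fun h' => h' hi), hg]
    · rw [if_neg hi, if_pos (by rw [Nat.even_add_one]; exact hi)]
      have : g * u⁻¹ * g⁻¹ = (g * u * g⁻¹)⁻¹ := by group
      rw [this, hg, inv_inv]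

variable [Fintype G]

/-- the size of a conjugacy class. -/
theorem card_isConj (u : G) :
    Nat.card {x : G // IsConj u x} = (Subgroup.centralizer ({u} : Set G)).index := by
  classical
  have h1 := Cfsg.Agent.S0141.sum_classIndicator_mul u (fun _ => (1 : ℂ)) (fun _ _ => rfl)
  simp only [mul_one] at h1
  unfold classIndicator at h1
  rw [Finset.sum_boole] at h1
  rw [Nat.card_eq_fintype_card, Fintype.card_subtype]
  exact_mod_cast h1

theorem centralizer_inv (u : G) :
    Subgroup.centralizer ({u⁻¹} : Set G) = Subgroup.centralizer ({u} : Set G) := by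
  ext g
  rw [Subgroup.mem_centralizer_singleton_iff, Subgroup.mem_centralizer_singleton_iff]
  constructor
  · intro h
    have : g * u = u * (u⁻¹ * g) * u := by group
    rw [this, ← h]; group
  · intro h
    have : g * u⁻¹ = u⁻¹ * (u * g) * u⁻¹ := by group
    rw [this, ← h]; group

variable {K : Subgroup G} {t s : G} [Fintype K] [Fintype (IrrCharacter K)]
variable {lam0 : IrrCharacter K} {R : Set (IrrCharacter K)} {ε : ℂ} {ψ : IrrCharacter G}
  {χ : R → IrrCharacter G} {ψ₁ ψ₂ : IrrCharacter G} {a₁ a₂ : ℂ}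

namespace Frag

variable [Fintype R]

/-- the non-real elements. -/
def NR (_f : Frag K lam0 R ε ψ χ ψ₁ ψ₂ a₁ a₂) (x : G) : Prop :=
  ¬ InU K x ∧ (ψ : G → ℂ) x = 0

theorem nr_inv (f : Frag K lam0 R ε ψ χ ψ₁ ψ₂ a₁ a₂) {x : G} (hx : f.NR x) : f.NR x⁻¹ := by
  refine ⟨fun h' => hx.1 ?_, ?_⟩
  · have := inU_inv h'
    rwa [inv_inv] at this
  · rw [isCharacter_inv (isCharacter_of_irr ψ.2), hx.2, map_zero]

theorem nr_conj (f : Frag K lam0 R ε ψ χ ψ₁ ψ₂ a₁ a₂) {x : G} (hx : f.NR x) (g : G) :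
    f.NR (g * x * g⁻¹) := by
  refine ⟨fun h' => hx.1 ((inU_conj_iff g).1 h'), ?_⟩
  rw [isClassFunction_irr ψ.2 x g, hx.2]

theorem nr_of_isConj (f : Frag K lam0 R ε ψ χ ψ₁ ψ₂ a₁ a₂) {x x' : G} (hx : f.NR x)
    (hxx : IsConj x x') : f.NR x' := by
  obtain ⟨g, hg⟩ := isConj_iff.1 hxx
  rw [← hg]
  exact f.nr_conj hx g

/-- nonidentity elements commuting with a non-real element are non-real. -/
theorem nr_of_comm (f : Frag K lam0 R ε ψ χ ψ₁ ψ₂ a₁ a₂) (h : Hyp K t s)
    (d : IrrData K lam0 R) (nm : Num K t ε ψ ψ₁ ψ₂ a₁ a₂) [Nonempty R]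
    [Fintype (IrrCharacter G)] (hε : ε = -1) {u z : G} (hu : f.NR u) (hzu : z * u = u * z)
    (hz1 : z ≠ 1) : f.NR z := by
  have hzU : ¬ InU K z := by
    intro hz
    apply hu.1
    by_cases hz2 : orderOf z = 2
    · exact h.inU_of_comm_invol hz2 hzu
    · exact h.inU_of_comm hz hz1 hz2 hzu
  refine ⟨hzU, ?_⟩
  by_contra hz0
  obtain ⟨a, r⟩ := f.exists_realOut h d nm hε hzU hz0
  have hu' : u ∈ Subgroup.centralizer ({z} : Set G) := by
    rw [Subgroup.mem_centralizer_singleton_iff]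
    exact hzu.symm
  exact f.not_real_of_psi_zero h d nm hε hu.1 hu.2 a r.ha (r.inverts h hu')

/-- a non-real element is not conjugate to its inverse. -/
theorem not_isConj_inv (f : Frag K lam0 R ε ψ χ ψ₁ ψ₂ a₁ a₂) (h : Hyp K t s)
    (d : IrrData K lam0 R) (nm : Num K t ε ψ ψ₁ ψ₂ a₁ a₂) [Nonempty R]
    [Fintype (IrrCharacter G)] (hε : ε = -1) {u : G} (hu : f.NR u) : ¬ IsConj u u⁻¹ := by
  intro hc
  obtain ⟨g, hg⟩ := isConj_iff.1 hc
  have hpos := orderOf_pos g
  rcases Nat.even_or_odd (orderOf g) with ho | ho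
  · obtain ⟨j, hj⟩ := ho
    have hj0 : 0 < j := by omega
    have hb : orderOf (g ^ j) = 2 := by
      rw [orderOf_pow' g hj0.ne', hj, ← two_mul, Nat.gcd_eq_right ⟨2, by ring⟩]
      exact Nat.mul_div_cancel _ hj0
    have h1 := pow_conj_inverts hg j
    by_cases hje : Even j
    · rw [if_pos hje] at h1
      apply hu.1
      apply h.inU_of_comm_invol hb
      have : g ^ j * u = (g ^ j * u * (g ^ j)⁻¹) * g ^ j := by group
      rw [this, h1]
    · rw [if_neg hje] at h1
      exact f.not_real_of_psi_zero h d nm hε hu.1 hu.2 _ hb h1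
  · have h1 := pow_conj_inverts hg (orderOf g)
    rw [pow_orderOf_eq_one, if_neg (Nat.not_even_iff_odd.2 ho)] at h1
    simp only [one_mul, inv_one, mul_one] at h1
    have h2 : u * u = 1 := by
      calc u * u = u * u⁻¹ := by rw [← h1]
        _ = 1 := mul_inv_cancel u
    apply hu.1
    by_cases hu1 : u = 1
    · rw [hu1]; exact inU_one
    · exact h.inU_of_orderOf_two (orderOf_two_of_sq h2 hu1)

/-- the order of the centralizer of a non-real element divides `q`. -/
theorem card_centralizer_dvd (f : Frag K lam0 R ε ψ χ ψ₁ ψ₂ a₁ a₂) (h : Hyp K t s)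
    (d : IrrData K lam0 R) (nm : Num K t ε ψ ψ₁ ψ₂ a₁ a₂) [Nonempty R]
    [Fintype (IrrCharacter G)] (hε : ε = -1) {u : G} (hu : f.NR u) :
    Nat.card (Subgroup.centralizer ({u} : Set G)) ∣ 2 * Nat.card K - 1 := by
  classical
  set P := Subgroup.centralizer ({u} : Set G) with hP
  obtain ⟨m, hm⟩ := mult_nat (A := P) (isCharacter_of_irr ψ.2) (oneIrr P)
  unfold mult classInner at hm
  have hP0 : (Nat.card P : ℂ) ≠ 0 := Nat.cast_ne_zero.mpr Nat.card_pos.ne'
  have h1 : ∀ z : P, res P (ψ : G → ℂ) z * conj ((oneIrr P : P → ℂ) z)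
      = if z = 1 then (ψ : G → ℂ) 1 else 0 := by
    intro z
    rw [oneIrr_apply, map_one, mul_one]
    by_cases hz : z = 1
    · rw [if_pos hz, hz]; rfl
    · rw [if_neg hz]
      have hz1 : (z : G) ≠ 1 := fun h' => hz (Subtype.ext h')
      exact (f.nr_of_comm h d nm hε hu (Subgroup.mem_centralizer_singleton_iff.1 z.2) hz1).2
  simp only [h1] at hm
  rw [Finset.sum_ite_eq' Finset.univ (1 : P), if_pos (Finset.mem_univ _), nm.hq, hε] at hm
  have hk1 : 1 ≤ 2 * Nat.card K := by
    have : 0 < Nat.card K := Nat.card_pos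
    omega
  have h2 : ((2 * Nat.card K - 1 : ℕ) : ℂ) = ((Nat.card P * m : ℕ) : ℂ) := by
    rw [Nat.cast_sub hk1]
    push_cast
    field_simp at hm
    linear_combination hm
  have h3 : 2 * Nat.card K - 1 = Nat.card P * m := by exact_mod_cast h2
  exact ⟨m, h3⟩

open Classical in
/-- the non-real elements form two conjugacy classes, with centralizers of order `q`. -/
theorem two_classes (f : Frag K lam0 R ε ψ χ ψ₁ ψ₂ a₁ a₂) (h : Hyp K t s)
    (d : IrrData K lam0 R) (nm : Num K t ε ψ ψ₁ ψ₂ a₁ a₂) [Nonempty R]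
    [Fintype (IrrCharacter G)] (hε : ε = -1) {u : G} (hu : f.NR u) :
    Nat.card (Subgroup.centralizer ({u} : Set G)) = 2 * Nat.card K - 1 ∧
      ∀ x : G, f.NR x → IsConj u x ∨ IsConj u⁻¹ x := by
  have hk4 := d.four_le h.cfg
  obtain ⟨k, hk⟩ : ∃ k : ℕ, k = Nat.card K := ⟨_, rfl⟩
  rw [← hk] at hk4 ⊢
  have hdvd := f.card_centralizer_dvd h d nm hε hu
  rw [← hk] at hdvd
  -- the order of `G`
  have hn : (Subgroup.centralizer ({t} : Set G)).index = (2 * k - 1) * (k - 1) := by
    have h1 := nm.hn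
    rw [hε, ← hk] at h1
    have h2 : (((Subgroup.centralizer ({t} : Set G)).index : ℕ) : ℂ)
        = (((2 * k - 1) * (k - 1) : ℕ) : ℂ) := by
      rw [h1, Nat.cast_mul, Nat.cast_sub (by omega), Nat.cast_sub (by omega)]
      push_cast; ring
    exact_mod_cast h2
  have hG : Nat.card G = 2 * k * ((2 * k - 1) * (k - 1)) := by
    rw [h.card_G, hn, ← hk]
  -- the number of non-real elements
  have h0 := f.card_psi_zero h d nm
  rw [hε, ← hk] at h0
  have h0' : Nat.card {y : G // f.NR y} = 4 * k * (k - 1) := by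
    have : ((Nat.card {y : G // ¬ InU K y ∧ (ψ : G → ℂ) y = 0} : ℕ) : ℂ)
        = ((4 * k * (k - 1) : ℕ) : ℂ) := by
      rw [h0, Nat.cast_mul, Nat.cast_sub (by omega)]
      push_cast; ring
    exact_mod_cast this
  set S1 : Finset G := Finset.univ.filter (fun x => IsConj u x) with hS1
  set S2 : Finset G := Finset.univ.filter (fun x => IsConj u⁻¹ x) with hS2
  set N : Finset G := Finset.univ.filter (fun x => f.NR x) with hN
  have hc1 : S1.card = (Subgroup.centralizer ({u} : Set G)).index := by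
    rw [← card_isConj u, Nat.card_eq_fintype_card, Fintype.card_subtype]
  have hc2 : S2.card = (Subgroup.centralizer ({u} : Set G)).index := by
    rw [← centralizer_inv u, ← card_isConj u⁻¹, Nat.card_eq_fintype_card, Fintype.card_subtype]
  have hcN : N.card = 4 * k * (k - 1) := by
    rw [← h0', Nat.card_eq_fintype_card, Fintype.card_subtype]
  have hdisj : Disjoint S1 S2 := by
    rw [Finset.disjoint_left]
    intro x hx1 hx2
    rw [hS1, Finset.mem_filter] at hx1
    rw [hS2, Finset.mem_filter] at hx2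
    exact f.not_isConj_inv h d nm hε hu (hx1.2.trans hx2.2.symm)
  have hsub : S1 ∪ S2 ⊆ N := by
    intro x hx
    rw [Finset.mem_union] at hx
    rw [hN, Finset.mem_filter]
    refine ⟨Finset.mem_univ _, ?_⟩
    rcases hx with hx | hx
    · rw [hS1, Finset.mem_filter] at hx
      exact f.nr_of_isConj hu hx.2
    · rw [hS2, Finset.mem_filter] at hx
      exact f.nr_of_isConj (f.nr_inv hu) hx.2
  have hle := Finset.card_le_card hsub
  rw [Finset.card_union_of_disjoint hdisj, hc1, hc2, hcN] at hle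
  have hidx := Subgroup.card_mul_index (Subgroup.centralizer ({u} : Set G))
  rw [hG] at hidx
  obtain ⟨p, hp⟩ : ∃ p : ℕ, p = Nat.card (Subgroup.centralizer ({u} : Set G)) := ⟨_, rfl⟩
  obtain ⟨i, hi⟩ : ∃ i : ℕ, i = (Subgroup.centralizer ({u} : Set G)).index := ⟨_, rfl⟩
  rw [← hp] at hidx hdvd ⊢
  rw [← hi] at hidx hle
  have hp1 : p ≤ 2 * k - 1 := Nat.le_of_dvd (by omega) hdvd
  have hp0 : 0 < p := by rw [hp]; exact Nat.card_pos
  -- `p * i = 2k(2k-1)(k-1)` and `2 i ≤ 4k(k-1)` force `p = 2k-1`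
  have hpeq : p = 2 * k - 1 := by
    by_contra hne
    have hlt : p < 2 * k - 1 := lt_of_le_of_ne hp1 hne
    have hle' : 2 * i ≤ 4 * k * (k - 1) := by omega
    have h3 : p * (2 * i) ≤ p * (4 * k * (k - 1)) := Nat.mul_le_mul_left _ hle'
    have h4 : p * (2 * i) = 2 * (2 * k * ((2 * k - 1) * (k - 1))) := by
      rw [← hidx]; ring
    rw [h4] at h3
    have h5 : (4 * k * (k - 1)) * (2 * k - 1) ≤ (4 * k * (k - 1)) * p := by
      calc (4 * k * (k - 1)) * (2 * k - 1) = 2 * (2 * k * ((2 * k - 1) * (k - 1))) := by ring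
        _ ≤ p * (4 * k * (k - 1)) := h3
        _ = (4 * k * (k - 1)) * p := by ring
    have h6 : 0 < 4 * k * (k - 1) := by
      have : 0 < k - 1 := by omega
      positivity
    have := Nat.le_of_mul_le_mul_left h5 h6
    omega
  refine ⟨hpeq, ?_⟩
  -- equality of the sets
  have hieq : i = 2 * k * (k - 1) := by
    rw [hpeq] at hidx
    have h3 : (2 * k - 1) * i = (2 * k - 1) * (2 * k * (k - 1)) := by
      rw [hidx]; ring
    exact Nat.eq_of_mul_eq_mul_left (by omega) h3
  have hcard : N.card ≤ (S1 ∪ S2).card := by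
    rw [Finset.card_union_of_disjoint hdisj, hc1, hc2, hcN, ← hi, hieq]
    have : 4 * k * (k - 1) = 2 * k * (k - 1) + 2 * k * (k - 1) := by ring
    omega
  have heq := Finset.eq_of_subset_of_card_le hsub hcard
  intro x hx
  have hxN : x ∈ N := by
    rw [hN, Finset.mem_filter]
    exact ⟨Finset.mem_univ _, hx⟩
  rw [← heq, Finset.mem_union, hS1, hS2, Finset.mem_filter, Finset.mem_filter] at hxN
  rcases hxN with hx' | hx'
  · exact Or.inl hx'.2
  · exact Or.inr hx'.2

end Frag

end Cfsg.Agent.Lib.Helper7.ABSW
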