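import Mathlib
import Cfsg.Agent.Lib.Helper7.ABSW21

set_option autoImplicit false

/-!
# Abstract Brauer-Suzuki-Wall: the case `ε = -1`, the exceptional characters of `F = C(y)`
-/

namespace Cfsg.Agent.Lib.Helper7.ABSW

open Cfsg Cfsg.Agent.Lib.Helper1 Cfsg.Agent.Lib.Helper4 Cfsg.Agent.Lib.Helper7.BSW
open scoped ComplexConjugate

universe u

variable {G : Type u} [Group G]

section Odd

variable {A : Subgroup G} {s' : G} [Fintype A]

/-- a real irreducible character of an abelian group of odd order is trivial. -/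
theorem real_eq_one_of_odd (hc : Cfg A s') (hodd : Odd (Nat.card A)) {μ : IrrCharacter A}
    (hμ : bar μ = μ) : μ = oneIrr A := by
  obtain ⟨φ, hφ⟩ := exists_hom hc μ
  apply Subtype.ext
  funext a
  rw [hφ, oneIrr_apply]
  have h1 := hom_sq_of_real hμ hφ a
  have h2 : φ a ^ Nat.card A = 1 := by
    rw [← map_pow, pow_card_eq_one', map_one]
  rw [unit_eq_one_of_sq_of_odd_pow h1 hodd h2, Units.val_one]

/-- The data of the characters of an abelian group of odd order: a half system. -/
structure OddData (A : Subgroup G) [Fintype A] (RF : Set (IrrCharacter A)) : Prop where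
  half : Half RF
  nonreal : ∀ μ : IrrCharacter A, bar μ = μ → μ = oneIrr A

theorem exists_oddData (hc : Cfg A s') (hodd : Odd (Nat.card A)) :
    ∃ RF : Set (IrrCharacter A), OddData A RF := by
  obtain ⟨RF, hRF⟩ := exists_half (A := A)
  exact ⟨RF, hRF, fun μ hμ => real_eq_one_of_odd hc hodd hμ⟩

variable {RF : Set (IrrCharacter A)}

theorem OddData.mem_ne_one (d : OddData A RF) {μ : IrrCharacter A} (hμ : μ ∈ RF) :
    μ ≠ oneIrr A := by
  intro h
  apply d.half.ne_bar hμ
  rw [h, bar_oneIrr]

theorem OddData.bar_ne_one (d : OddData A RF) {μ : IrrCharacter A} (hμ : μ ∈ RF) :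
    bar μ ≠ oneIrr A := by
  intro h
  apply d.mem_ne_one hμ
  rw [← bar_bar μ, h, bar_oneIrr]

/-- the index map of the partition of the characters. -/
noncomputable def OddData.idx (_d : OddData A RF) : Unit ⊕ (RF ⊕ RF) → IrrCharacter A
  | Sum.inl _ => oneIrr A
  | Sum.inr (Sum.inl μ) => μ
  | Sum.inr (Sum.inr μ) => bar μ

theorem OddData.idx_bijective (d : OddData A RF) : Function.Bijective d.idx := by
  constructor
  · intro x y hxy
    rcases x with _ | ⟨μ, hμ⟩ | ⟨μ, hμ⟩ <;> rcases y with _ | ⟨ν, hν⟩ | ⟨ν, hν⟩ <;>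
      simp only [OddData.idx] at hxy
    · rfl
    · exact absurd hxy.symm (d.mem_ne_one hν)
    · exact absurd hxy.symm (d.bar_ne_one hν)
    · exact absurd hxy (d.mem_ne_one hμ)
    · subst hxy; rfl
    · exfalso
      apply d.half.not_bar ν hν
      rw [← hxy]; exact hμ
    · exact absurd hxy (d.bar_ne_one hμ)
    · exfalso
      apply d.half.not_bar μ hμ
      rw [hxy]; exact hν
    · have := bar_injective hxy
      subst this; rfl
  · intro lam
    by_cases hl : bar lam = lam
    · exact ⟨Sum.inl (), (d.nonreal lam hl).symm⟩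
    · rcases d.half.cover lam hl with h1 | h1
      · exact ⟨Sum.inr (Sum.inl ⟨lam, h1⟩), rfl⟩
      · refine ⟨Sum.inr (Sum.inr ⟨bar lam, h1⟩), ?_⟩
        simp only [OddData.idx]
        exact bar_bar lam

/-- the number of characters. -/
theorem OddData.card_eq (d : OddData A RF) (hc : Cfg A s') [Fintype (IrrCharacter A)]
    [Fintype RF] : Nat.card A = 1 + 2 * Fintype.card RF := by
  have h1 := d.idx_bijective.sum_comp (fun _ : IrrCharacter A => (1 : ℕ))
  rw [Fintype.sum_sum_type, Fintype.sum_sum_type] at h1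
  simp only [Finset.sum_const, Finset.card_univ, smul_eq_mul, mul_one, Fintype.card_unit] at h1
  rw [← Nat.card_eq_fintype_card (α := IrrCharacter A), card_irr hc] at h1
  omega

end Odd

end Cfsg.Agent.Lib.Helper7.ABSW
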