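import Mathlib
import Cfsg.Agent.Lib.Helper7.ABSW22

set_option autoImplicit false

/-!
# Abstract Brauer-Suzuki-Wall: the case `ε = -1`, the characters `θ_ν`
-/

namespace Cfsg.Agent.Lib.Helper7.ABSW

open Cfsg Cfsg.Agent.Lib.Helper1 Cfsg.Agent.Lib.Helper4 Cfsg.Agent.Lib.Helper7.BSW
open scoped ComplexConjugate

universe u

variable {G : Type u} [Group G] [Fintype G]

variable {K : Subgroup G} {t s : G} [Fintype K] [Fintype (IrrCharacter K)]
variable {lam0 : IrrCharacter K} {R : Set (IrrCharacter K)} {ε : ℂ} {ψ : IrrCharacter G}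
  {χ : R → IrrCharacter G} {ψ₁ ψ₂ : IrrCharacter G} {a₁ a₂ : ℂ}

namespace Frag

variable [Fintype R]

/-- for `ε = -1` the complement of the centralizer of a real element has order two. -/
theorem compl_card_two (f : Frag K lam0 R ε ψ χ ψ₁ ψ₂ a₁ a₂) (h : Hyp K t s)
    (d : IrrData K lam0 R) (nm : Num K t ε ψ ψ₁ ψ₂ a₁ a₂) [Nonempty R]
    [Fintype (IrrCharacter G)] (hε : ε = -1) {y a : G} (r : RealOut K y a) :
    Nat.card r.compl = 2 := by
  have hk4 := d.four_le h.cfg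
  have h1 := r.card_compl_dvd h
  have h2 := r.card_compl_dvd_pred h
  have h3 := (f.psi_realOut h d nm hε r).2
  have h4 : Nat.card r.compl ∣ 2 := by
    have h5 : Nat.card K = (Nat.card (Subgroup.centralizer ({y} : Set G)) - 1) + 2 := by omega
    rw [h5] at h1
    exact (Nat.dvd_add_right h2).1 h1
  have h5 : 2 ∣ Nat.card r.compl := by
    have h6 := orderOf_dvd_natCard (⟨a, r.a_mem_compl⟩ : r.compl)
    have h7 : orderOf (⟨a, r.a_mem_compl⟩ : r.compl) = 2 := by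
      rw [← r.ha]
      exact Subgroup.orderOf_mk a r.a_mem_compl
    rwa [h7] at h6
  exact Nat.dvd_antisymm h4 h5

variable {F : Subgroup G} {a : G} [Fintype F]

/-- `⟨(1_F - ν)^G, ψ⟩ = 1`. -/
theorem inner_ThF_psi (hcF : Cfg F a) (hψF : ∀ z ∈ F, z ≠ 1 → (ψ : G → ℂ) z = 1)
    (ν : IrrCharacter F) (hν : ν ≠ oneIrr F) :
    classInner (Th F ν) (ψ : G → ℂ) = 1 := by
  rw [Th_inner_char ν (isCharacter_of_irr ψ.2)]
  unfold mult classInner
  have hF0 : (Nat.card F : ℂ) ≠ 0 := Nat.cast_ne_zero.mpr Nat.card_pos.ne'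
  rw [← mul_sub, ← Finset.sum_sub_distrib]
  have h1 : ∀ z : F, res F (ψ : G → ℂ) z * conj ((oneIrr F : F → ℂ) z)
      - res F (ψ : G → ℂ) z * conj ((ν : F → ℂ) z) = 1 - conj ((ν : F → ℂ) z) := by
    intro z
    rw [oneIrr_apply, map_one, mul_one]
    by_cases hz : z = 1
    · rw [hz, irr_apply_one hcF, map_one]; ring
    · have hz1 : (z : G) ≠ 1 := fun h' => hz (Subtype.ext h')
      have h2 : res F (ψ : G → ℂ) z = 1 := hψF z z.2 hz1
      rw [h2]; ring
  simp only [h1]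
  rw [Finset.sum_sub_distrib, ← map_sum, sum_irr_eq_zero ν hν, map_zero, sub_zero,
    Finset.sum_const, Finset.card_univ, nsmul_eq_mul, mul_one, ← Nat.card_eq_fintype_card,
    inv_mul_cancel₀ hF0]

/-- the characters `θ_ν`. -/
theorem exists_theta (f : Frag K lam0 R ε ψ χ ψ₁ ψ₂ a₁ a₂)
    (nm : Num K t ε ψ ψ₁ ψ₂ a₁ a₂) (hε : ε = -1) (hcF : Cfg F a)
    (hψF : ∀ z ∈ F, z ≠ 1 → (ψ : G → ℂ) z = 1) (hodd : Odd (Nat.card F))
    (ν : IrrCharacter F) (hν : ν ≠ oneIrr F) :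
    ∃ θ : IrrCharacter G, Th F ν = (oneIrr G : G → ℂ) + (ψ : G → ℂ) - (θ : G → ℂ) ∧
      (θ : G → ℂ) 1 = 2 * (Nat.card K : ℂ) := by
  classical
  have hnr : ν ≠ bar ν := by
    intro h'
    exact hν (real_eq_one_of_odd hcF hodd h'.symm)
  have hAψ : classInner (Th F ν - (oneIrr G : G → ℂ)) (ψ : G → ℂ) = 1 := by
    rw [classInner_sub_left, inner_ThF_psi hcF hψF ν hν,
      inner_irr_ne f.pre.ψ_ne_one.symm, sub_zero]
  have hψA : classInner (ψ : G → ℂ) (Th F ν - (oneIrr G : G → ℂ)) = 1 := by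
    rw [← classInner_conj_symm, hAψ, map_one]
  set T : G → ℂ := Th F ν - (oneIrr G : G → ℂ) - (1 : ℂ) • (ψ : G → ℂ) with hT
  have hTg : IsGeneralizedCharacter G T := by
    rw [hT, one_smul]
    exact isGenChar_sub (Th_sub_one_isGenChar ν) (isGenChar_of_irr ψ.2)
  have hnorm : classInner T T = 1 := by
    rw [hT, classInner_sub_smul_self, inner_Th_sub_one _ _ hν hν, Th_inner hcF _ _ hν hν,
      if_pos rfl, if_neg hnr, hAψ, hψA, inner_irr_self, map_one]
    norm_num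
  obtain ⟨θ, hθ, hT'⟩ := genChar_norm_one hTg hnorm
  obtain ⟨m, hm0, hm⟩ := irr_apply_one_pos hθ
  have hT1 : T 1 = -(2 * (Nat.card K : ℂ)) := by
    rw [hT]
    simp only [Pi.sub_apply, Pi.smul_apply, smul_eq_mul, oneIrr_apply, one_mul]
    rw [Th_one hcF, nm.hq, hε]
    ring
  rcases hT' with hT' | hT'
  · exfalso
    rw [hT', hm] at hT1
    have : ((m + 2 * Nat.card K : ℕ) : ℂ) = 0 := by push_cast; linear_combination hT1
    have := Nat.cast_eq_zero.1 this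
    omega
  · refine ⟨⟨θ, hθ⟩, ?_, ?_⟩
    · have e : Th F ν = T + (oneIrr G : G → ℂ) + (ψ : G → ℂ) := by
        rw [hT, one_smul]; abel
      rw [e, hT']
      show -θ + (oneIrr G : G → ℂ) + (ψ : G → ℂ) = (oneIrr G : G → ℂ) + (ψ : G → ℂ) - θ
      abel
    · show θ 1 = 2 * (Nat.card K : ℂ)
      rw [hT', Pi.neg_apply] at hT1
      linear_combination -hT1

end Frag

end Cfsg.Agent.Lib.Helper7.ABSW
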