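import Mathlib
import Cfsg.Agent.Lib.Helper7.ABSW23

set_option autoImplicit false

/-!
# Abstract Brauer-Suzuki-Wall: the case `ε = -1`, the complete list of irreducible characters
-/

namespace Cfsg.Agent.Lib.Helper7.ABSW

open Cfsg Cfsg.Agent.Lib.Helper1 Cfsg.Agent.Lib.Helper4 Cfsg.Agent.Lib.Helper7.BSW
open scoped ComplexConjugate

universe u

variable {G : Type u} [Group G] [Fintype G]

/-- the sum of the squares of the degrees. -/
theorem sum_degree_sq [Fintype (IrrCharacter G)] :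
    ∑ χ' : IrrCharacter G, (χ' : G → ℂ) 1 * (χ' : G → ℂ) 1 = (Nat.card G : ℂ) := by
  have h1 := column_orthogonality (G := G) (1 : G) 1
  have h2 : ∀ χ' : IrrCharacter G, (χ' : G → ℂ) 1 * conj ((χ' : G → ℂ) 1)
      = (χ' : G → ℂ) 1 * (χ' : G → ℂ) 1 := by
    intro χ'
    obtain ⟨n, -, hn⟩ := irr_apply_one_pos χ'.2
    rw [hn, Complex.conj_natCast]
  simp only [h2] at h1
  rw [h1]
  unfold classIndicator
  rw [if_pos (IsConj.refl 1), mul_one]
  congr 1
  have : Subgroup.centralizer ({1} : Set G) = ⊤ := by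
    ext g
    simp [Subgroup.mem_centralizer_singleton_iff]
  rw [this, Subgroup.card_top]

variable {K : Subgroup G} {t s : G} [Fintype K] [Fintype (IrrCharacter K)]
variable {lam0 : IrrCharacter K} {R : Set (IrrCharacter K)} {ε : ℂ} {ψ : IrrCharacter G}
  {χ : R → IrrCharacter G} {ψ₁ ψ₂ : IrrCharacter G} {a₁ a₂ : ℂ}

/-- the exceptional characters attached to `F`. -/
structure Exc (F : Subgroup G) [Fintype F] (RF : Set (IrrCharacter F)) (K : Subgroup G)
    (ψ : IrrCharacter G) (θ : RF → IrrCharacter G) : Prop where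
  inj : Function.Injective θ
  hTh : ∀ ν : RF, Th F (ν : IrrCharacter F)
    = (oneIrr G : G → ℂ) + (ψ : G → ℂ) - (θ ν : G → ℂ)
  deg : ∀ ν, (θ ν : G → ℂ) 1 = 2 * (Nat.card K : ℂ)

namespace Frag

variable [Fintype R]
variable {F : Subgroup G} {a : G} [Fintype F] {RF : Set (IrrCharacter F)}

theorem exists_exc (f : Frag K lam0 R ε ψ χ ψ₁ ψ₂ a₁ a₂)
    (nm : Num K t ε ψ ψ₁ ψ₂ a₁ a₂) (hε : ε = -1) (hcF : Cfg F a)
    (hψF : ∀ z ∈ F, z ≠ 1 → (ψ : G → ℂ) z = 1) (hodd : Odd (Nat.card F))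
    (dF : OddData F RF) : ∃ θ : RF → IrrCharacter G, Exc F RF K ψ θ := by
  classical
  have hex : ∀ ν : RF, ∃ θ : IrrCharacter G, Th F (ν : IrrCharacter F)
      = (oneIrr G : G → ℂ) + (ψ : G → ℂ) - (θ : G → ℂ) ∧
      (θ : G → ℂ) 1 = 2 * (Nat.card K : ℂ) := fun ν =>
    f.exists_theta nm hε hcF hψF hodd ν (dF.mem_ne_one ν.2)
  choose θ hθ hdeg using hex
  have hk0 : 0 < Nat.card K := Nat.card_pos
  have hθ1 : ∀ ν, θ ν ≠ oneIrr G := by
    intro ν h'
    have h1 := hdeg ν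
    rw [h', oneIrr_apply] at h1
    have : ((1 : ℕ) : ℂ) = ((2 * Nat.card K : ℕ) : ℂ) := by push_cast; exact h1
    have := Nat.cast_injective this
    omega
  have hθψ : ∀ ν, θ ν ≠ ψ := by
    intro ν h'
    have h1 := hdeg ν
    rw [h', nm.hq, hε] at h1
    have : ((2 * Nat.card K : ℕ) : ℂ) = ((2 * Nat.card K + 1 : ℕ) : ℂ) := by
      push_cast; linear_combination h1
    have := Nat.cast_injective this
    omega
  refine ⟨θ, ?_, hθ, hdeg⟩
  intro ν ν' hνν'
  by_contra hne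
  have h1 := Th_inner hcF (G := G) (ν : IrrCharacter F) (ν' : IrrCharacter F)
    (dF.mem_ne_one ν.2) (dF.mem_ne_one ν'.2)
  rw [if_neg (fun h' => hne (Subtype.ext h')), if_neg] at h1
  · rw [hθ ν, hθ ν', hνν'] at h1
    simp only [classInner_sub_left, classInner_sub_right, classInner_add_left,
      classInner_add_right] at h1
    rw [inner_irr_self, inner_irr_self, inner_irr_self, inner_irr_ne f.pre.ψ_ne_one,
      inner_irr_ne f.pre.ψ_ne_one.symm, inner_irr_ne (hθ1 ν'), inner_irr_ne (hθ1 ν').symm,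
      inner_irr_ne (hθψ ν'), inner_irr_ne (hθψ ν').symm] at h1
    norm_num at h1
  · intro h'
    apply dF.half.not_bar ν' ν'.2
    rw [← h']
    exact ν.2

/-- summation over all the irreducible characters of `G`. -/
theorem sum_complete (f : Frag K lam0 R ε ψ χ ψ₁ ψ₂ a₁ a₂) (h : Hyp K t s)
    (d : IrrData K lam0 R) (nm : Num K t ε ψ ψ₁ ψ₂ a₁ a₂) (hε : ε = -1)
    {θ : RF → IrrCharacter G} (ex : Exc F RF K ψ θ) [Fintype RF]
    (hcard : Fintype.card RF = Fintype.card R) [Fintype (IrrCharacter G)]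
    (F' : IrrCharacter G → ℂ) :
    ∑ χ' : IrrCharacter G, F' χ' = F' (oneIrr G) + F' ψ + F' ψ₁ + F' ψ₂
      + ∑ μ : R, F' (χ μ) + ∑ ν : RF, F' (θ ν) := by
  classical
  have hc := h.cfg
  obtain ⟨k, hk⟩ : ∃ k : ℂ, k = (Nat.card K : ℂ) := ⟨_, rfl⟩
  have hkr : k = 2 + 2 * (Fintype.card R : ℂ) := by
    rw [hk, d.card_eq hc]; push_cast; ring
  have hk0 : k + 1 ≠ 0 := by
    have : ((Nat.card K + 1 : ℕ) : ℂ) ≠ 0 := Nat.cast_ne_zero.2 (by omega)
    rw [hk]; push_cast at this; exact this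
  have hk1 : 2 * k ≠ 1 := by
    intro h'
    have : ((2 * Nat.card K : ℕ) : ℂ) = ((1 : ℕ) : ℂ) := by
      push_cast; rw [← hk]; exact h'
    have := Nat.cast_injective this
    omega
  -- degrees
  have dψ : (ψ : G → ℂ) 1 = 2 * k - 1 := by rw [nm.hq, hε, ← hk]; ring
  have dψ₁ : (ψ₁ : G → ℂ) 1 = k - 1 := by rw [nm.hD₁, hε, ← hk]; ring
  have dψ₂ : (ψ₂ : G → ℂ) 1 = k - 1 := by rw [nm.hD₂, hε, ← hk]; ring
  have dχ : ∀ μ, (χ μ : G → ℂ) 1 = 2 * k - 2 := by
    intro μ; rw [f.pre.degree hc μ, dψ, hε]; ring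
  have dθ : ∀ ν, (θ ν : G → ℂ) 1 = 2 * k := by
    intro ν; rw [ex.deg ν, ← hk]
  -- `θ_ν` differs from the characters of the fragment
  have hθne : ∀ ν (χ' : IrrCharacter G), (χ' : G → ℂ) 1 - 2 * k ≠ 0 → θ ν ≠ χ' := by
    intro ν χ' h1 h2
    apply h1
    rw [← h2, dθ ν, sub_self]
  have hθ_one : ∀ ν, θ ν ≠ oneIrr G := fun ν => hθne ν _ (by
    rw [oneIrr_apply]
    intro h'
    apply hk1
    linear_combination -h')
  have hθ_ψ : ∀ ν, θ ν ≠ ψ := fun ν => hθne ν _ (by rw [dψ]; ring_nf; norm_num)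
  have hθ_ψ₁ : ∀ ν, θ ν ≠ ψ₁ := fun ν => hθne ν _ (by
    rw [dψ₁]
    intro h'
    apply hk0
    linear_combination -h')
  have hθ_ψ₂ : ∀ ν, θ ν ≠ ψ₂ := fun ν => hθne ν _ (by
    rw [dψ₂]
    intro h'
    apply hk0
    linear_combination -h')
  have hθ_χ : ∀ ν μ, θ ν ≠ χ μ := fun ν μ => hθne ν _ (by rw [dχ μ]; ring_nf; norm_num)
  -- the list
  have e5 : Disjoint (Finset.univ.image χ) (Finset.univ.image θ) := by
    rw [Finset.disjoint_left]
    intro χ' h1 h2
    simp only [Finset.mem_image, Finset.mem_univ, true_and] at h1 h2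
    obtain ⟨μ, rfl⟩ := h1
    obtain ⟨ν, h2⟩ := h2
    exact hθ_χ ν μ h2
  have e4 : ψ₂ ∉ Finset.univ.image χ ∪ Finset.univ.image θ := by
    simp only [Finset.mem_union, Finset.mem_image, Finset.mem_univ, true_and, not_or,
      not_exists]
    exact ⟨fun μ h' => f.ne2_χ μ h'.symm, fun ν h' => hθ_ψ₂ ν h'⟩
  have e3 : ψ₁ ∉ insert ψ₂ (Finset.univ.image χ ∪ Finset.univ.image θ) := by
    simp only [Finset.mem_insert, Finset.mem_union, Finset.mem_image, Finset.mem_univ, true_and,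
      not_or, not_exists]
    exact ⟨f.ne12, fun μ h' => f.ne1_χ μ h'.symm, fun ν h' => hθ_ψ₁ ν h'⟩
  have e2 : ψ ∉ insert ψ₁ (insert ψ₂ (Finset.univ.image χ ∪ Finset.univ.image θ)) := by
    simp only [Finset.mem_insert, Finset.mem_union, Finset.mem_image, Finset.mem_univ, true_and,
      not_or, not_exists]
    exact ⟨f.ne1_ψ.symm, f.ne2_ψ.symm, fun μ h' => f.pre.χ_ne_ψ μ h', fun ν h' => hθ_ψ ν h'⟩
  have e1 : oneIrr G ∉ insert ψ (insert ψ₁ (insert ψ₂
      (Finset.univ.image χ ∪ Finset.univ.image θ))) := by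
    simp only [Finset.mem_insert, Finset.mem_union, Finset.mem_image, Finset.mem_univ, true_and,
      not_or, not_exists]
    exact ⟨f.pre.ψ_ne_one.symm, f.ne1_one.symm, f.ne2_one.symm,
      fun μ h' => f.pre.χ_ne_one μ h', fun ν h' => hθ_one ν h'⟩
  set L : Finset (IrrCharacter G) := insert (oneIrr G) (insert ψ (insert ψ₁ (insert ψ₂
      (Finset.univ.image χ ∪ Finset.univ.image θ)))) with hL
  have hsumL : ∀ F'' : IrrCharacter G → ℂ, ∑ χ' ∈ L, F'' χ' = F'' (oneIrr G) + F'' ψ + F'' ψ₁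
      + F'' ψ₂ + ∑ μ : R, F'' (χ μ) + ∑ ν : RF, F'' (θ ν) := by
    intro F''
    rw [hL, Finset.sum_insert e1, Finset.sum_insert e2, Finset.sum_insert e3,
      Finset.sum_insert e4, Finset.sum_union e5,
      Finset.sum_image (fun a _ b _ hab => f.pre.inj hab),
      Finset.sum_image (fun a _ b _ hab => ex.inj hab)]
    ring
  -- the list is complete
  have hLuniv : L = Finset.univ := by
    by_contra hne
    have hne' : (Finset.univ \ L).Nonempty := by
      rw [Finset.nonempty_iff_ne_empty, Ne, Finset.sdiff_eq_empty_iff_subset]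
      intro h'
      exact hne (Finset.eq_univ_of_forall fun x => h' (Finset.mem_univ x))
    obtain ⟨χ₀, hχ₀⟩ := hne'
    have h1 := sum_degree_sq (G := G)
    rw [← Finset.sum_sdiff (Finset.subset_univ L), hsumL] at h1
    simp only [oneIrr_apply, dψ, dψ₁, dψ₂, dχ, dθ] at h1
    rw [Finset.sum_const, Finset.sum_const, Finset.card_univ, Finset.card_univ, hcard,
      nsmul_eq_mul, nsmul_eq_mul] at h1
    have hG : (Nat.card G : ℂ) = 2 * k * ((2 * k - 1) * (k - 1)) := by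
      rw [h.card_G]
      push_cast
      rw [nm.hn, hε, ← hk]
      ring
    have h2 : ∑ χ' ∈ Finset.univ \ L, (χ' : G → ℂ) 1 * (χ' : G → ℂ) 1 = 0 := by
      rw [hG, hkr] at h1
      linear_combination h1
    have hdeg : ∀ χ' : IrrCharacter G, ∃ n : ℕ, 0 < n ∧ (χ' : G → ℂ) 1 = n :=
      fun χ' => irr_apply_one_pos χ'.2
    choose deg hdeg0 hdeg' using hdeg
    have h3 : ((∑ χ' ∈ Finset.univ \ L, deg χ' * deg χ' : ℕ) : ℂ) = 0 := by
      rw [← h2]
      push_cast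
      refine Finset.sum_congr rfl fun χ' _ => ?_
      rw [hdeg' χ']
    have h4 := Nat.cast_eq_zero.1 h3
    have h5 := (Finset.sum_eq_zero_iff.1 h4) χ₀ hχ₀
    have := hdeg0 χ₀
    have : 0 < deg χ₀ * deg χ₀ := Nat.mul_pos this this
    omega
  rw [← hsumL, hLuniv]

end Frag

end Cfsg.Agent.Lib.Helper7.ABSW
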