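import Mathlib
import Cfsg.Agent.Lib.Helper7.ABSW24

set_option autoImplicit false

/-!
# Abstract Brauer-Suzuki-Wall: the case `ε = -1`, character values at the non-real elements
-/

namespace Cfsg.Agent.Lib.Helper7.ABSW

open Cfsg Cfsg.Agent.Lib.Helper1 Cfsg.Agent.Lib.Helper4 Cfsg.Agent.Lib.Helper7.BSW
open scoped ComplexConjugate

universe u

/-- two complex numbers with prescribed sum, sum of squares and sum of norms are conjugate. -/
theorem conj_eq_of_sums {a b k : ℂ} (hk : conj k = k) (hk0 : 2 * k - 1 ≠ 0)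
    (h1 : a + b = -1) (h2 : a * a + b * b = -(k - 1)) (h3 : a * conj a + b * conj b = k) :
    conj a = b ∧ a * conj a = k / 2 := by
  have h1c : conj a + conj b = -1 := by
    rw [← map_add, h1]; simp
  have hd2 : (a - b) * (a - b) = -(2 * k - 1) := by
    linear_combination 2 * h2 - (a + b - 1) * h1
  have hdd : (a - b) * (conj a - conj b) = 2 * k - 1 := by
    linear_combination 2 * h3 - (conj a + conj b) * h1 + h1c
  have hd0 : a - b ≠ 0 := by
    intro h'
    rw [h', zero_mul] at hd2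
    apply hk0
    linear_combination hd2
  have h4 : (a - b) * ((a - b) + (conj a - conj b)) = 0 := by
    linear_combination hd2 + hdd
  have h5 : (a - b) + (conj a - conj b) = 0 := by
    rcases mul_eq_zero.1 h4 with h' | h'
    · exact absurd h' hd0
    · exact h'
  have h6 : conj a = b := by linear_combination (1 / 2 : ℂ) * h5 + (1 / 2 : ℂ) * h1c - (1 / 2 : ℂ) * h1
  refine ⟨h6, ?_⟩
  rw [h6]
  linear_combination (1 / 2 : ℂ) * (a + b - 1) * h1 - (1 / 2 : ℂ) * h2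

variable {G : Type u} [Group G] [Fintype G]

variable {K : Subgroup G} {t s : G} [Fintype K] [Fintype (IrrCharacter K)]
variable {lam0 : IrrCharacter K} {R : Set (IrrCharacter K)} {ε : ℂ} {ψ : IrrCharacter G}
  {χ : R → IrrCharacter G} {ψ₁ ψ₂ : IrrCharacter G} {a₁ a₂ : ℂ}

namespace Frag

variable [Fintype R]
variable {F : Subgroup G} {a : G} [Fintype F] {RF : Set (IrrCharacter F)}

omit [Fintype (IrrCharacter K)] [Fintype R] in
/-- `θ_ν` at a non-real element. -/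
theorem theta_apply_nr (f : Frag K lam0 R ε ψ χ ψ₁ ψ₂ a₁ a₂) (hcF : Cfg F a)
    (hψF : ∀ z ∈ F, z ≠ 1 → (ψ : G → ℂ) z = 1) {θ : RF → IrrCharacter G}
    (ex : Exc F RF K ψ θ) {u : G} (hu : f.NR u) (ν : RF) : (θ ν : G → ℂ) u = 1 := by
  have hu1 : u ≠ 1 := fun h' => hu.1 (by rw [h']; exact inU_one)
  have hFu : ¬ InU F u := by
    rintro ⟨g, hg⟩
    have hz1 : g * u * g⁻¹ ≠ 1 := by
      intro h'
      apply hu1
      have : u = g⁻¹ * (g * u * g⁻¹) * g := by group
      rw [this, h']; group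
    have h1 := hψF _ hg hz1
    rw [isClassFunction_irr ψ.2 u g, hu.2] at h1
    exact zero_ne_one h1
  have h2 := Th_apply_not_inU hcF (ν : IrrCharacter F) hFu
  rw [ex.hTh ν] at h2
  simp only [Pi.add_apply, Pi.sub_apply, oneIrr_apply, hu.2] at h2
  linear_combination -h2

/-- the relations between the values of `ψ₁` and `ψ₂` at a non-real element. -/
theorem psi12_nr (f : Frag K lam0 R ε ψ χ ψ₁ ψ₂ a₁ a₂) (h : Hyp K t s)
    (d : IrrData K lam0 R) (nm : Num K t ε ψ ψ₁ ψ₂ a₁ a₂) (hε : ε = -1) [Nonempty R]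
    (hcF : Cfg F a) (hψF : ∀ z ∈ F, z ≠ 1 → (ψ : G → ℂ) z = 1)
    {θ : RF → IrrCharacter G} (ex : Exc F RF K ψ θ) [Fintype RF]
    (hcard : Fintype.card RF = Fintype.card R) [Fintype (IrrCharacter G)]
    {u : G} (hu : f.NR u) :
    conj ((ψ₁ : G → ℂ) u) = (ψ₂ : G → ℂ) u ∧
      (ψ₁ : G → ℂ) u * conj ((ψ₁ : G → ℂ) u) = (Nat.card K : ℂ) / 2 ∧
      (ψ₁ : G → ℂ) u + (ψ₂ : G → ℂ) u = -1 := by
  classical
  have hc := h.cfg
  have hk4 := d.four_le hc
  obtain ⟨k, hk⟩ : ∃ k : ℂ, k = (Nat.card K : ℂ) := ⟨_, rfl⟩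
  have hkr : k = 2 + 2 * (Fintype.card R : ℂ) := by
    rw [hk, d.card_eq hc]; push_cast; ring
  have hsum : (ψ₁ : G → ℂ) u + (ψ₂ : G → ℂ) u = -1 := by
    rw [f.psi12_out hc nm hu.1, hu.2, hε]; ring
  have hχu : ∀ μ, (χ μ : G → ℂ) u = -1 := by
    intro μ
    rw [f.chi_out hc μ hu.1, hu.2, hε]; ring
  have hθu : ∀ ν, (θ ν : G → ℂ) u = 1 := f.theta_apply_nr hcF hψF ex hu
  -- sum of squares
  have hQ1 : ∑ χ' : IrrCharacter G, (χ' : G → ℂ) u * (χ' : G → ℂ) u = 0 := by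
    have h1 := column_orthogonality (G := G) u⁻¹ u
    have h2 : ∀ χ' : IrrCharacter G, (χ' : G → ℂ) u * conj ((χ' : G → ℂ) u⁻¹)
        = (χ' : G → ℂ) u * (χ' : G → ℂ) u := by
      intro χ'
      rw [isCharacter_inv (isCharacter_of_irr χ'.2), Complex.conj_conj]
    simp only [h2] at h1
    rw [h1]
    unfold classIndicator
    rw [if_neg, mul_zero]
    intro h'
    exact f.not_isConj_inv h d nm hε hu h'.symm
  have hQ2 : ∑ χ' : IrrCharacter G, (χ' : G → ℂ) u * conj ((χ' : G → ℂ) u)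
      = 2 * k - 1 := by
    have h1 := column_orthogonality (G := G) u u
    rw [h1]
    unfold classIndicator
    rw [if_pos (IsConj.refl u), mul_one, (f.two_classes h d nm hε hu).1,
      Nat.cast_sub (by omega), hk]
    push_cast; ring
  rw [f.sum_complete h d nm hε ex hcard] at hQ1 hQ2
  simp only [oneIrr_apply, hu.2, hχu, hθu] at hQ1 hQ2
  rw [Finset.sum_const, Finset.sum_const, Finset.card_univ, Finset.card_univ, hcard,
    nsmul_eq_mul, nsmul_eq_mul] at hQ1 hQ2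
  have hkc : conj k = k := by rw [hk]; exact Complex.conj_natCast _
  have hk0 : 2 * k - 1 ≠ 0 := by
    have : ((2 * Nat.card K - 1 : ℕ) : ℂ) ≠ 0 := Nat.cast_ne_zero.2 (by omega)
    rw [Nat.cast_sub (by omega)] at this
    push_cast at this
    rw [hk]; exact this
  have h2 : (ψ₁ : G → ℂ) u * (ψ₁ : G → ℂ) u + (ψ₂ : G → ℂ) u * (ψ₂ : G → ℂ) u = -(k - 1) := by
    rw [hkr]
    linear_combination hQ1
  have h3 : (ψ₁ : G → ℂ) u * conj ((ψ₁ : G → ℂ) u) + (ψ₂ : G → ℂ) u * conj ((ψ₂ : G → ℂ) u)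
      = k := by
    simp only [map_neg, map_one, map_zero] at hQ2
    have : k = 2 * k - 1 - 1 - (Fintype.card R : ℂ) - (Fintype.card R : ℂ) := by
      rw [hkr]; ring
    rw [this]
    linear_combination hQ2
  obtain ⟨r1, r2⟩ := conj_eq_of_sums hkc hk0 hsum h2 h3
  rw [← hk]
  exact ⟨r1, r2, hsum⟩

end Frag

end Cfsg.Agent.Lib.Helper7.ABSW
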