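import Mathlib
import Cfsg.Agent.Lib.Helper7.ABSW25
import Cfsg.Agent.Lib.Helper8.BlockOmega

set_option autoImplicit false

/-!
# Abstract Brauer-Suzuki-Wall: the case `ε = -1`, a class algebra constant
-/

namespace Cfsg.Agent.Lib.Helper7.ABSW

open Cfsg Cfsg.Agent.Lib.Helper1 Cfsg.Agent.Lib.Helper4 Cfsg.Agent.Lib.Helper7.BSW
open Cfsg.Agent.Lib.Helper8
open scoped ComplexConjugate

universe u

variable {G : Type u} [Group G] [Fintype G]

/-- the contribution of an irreducible character to a class algebra constant. -/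
theorem omega_term {χ : G → ℂ} (hχ : IsIrrCharacter G χ) (u : G) :
    omega χ (conv (classIndicator u) (classIndicator u + classIndicator u⁻¹)) * χ 1 * conj (χ u)
      = ((Subgroup.centralizer ({u} : Set G)).index : ℂ) ^ 2
        * (χ u * (χ u + conj (χ u)) * conj (χ u)) / χ 1 := by
  have hχ1 : χ 1 ≠ 0 := irr_apply_one_ne_zero hχ
  have hcl : IsClassFunction G χ := isClassFunction_irr hχ
  rw [omega_conv hχ (isClassFunction_add' (classIndicator_isClassFunction u)
    (classIndicator_isClassFunction u⁻¹)), omega_add, omega_classIndicator hcl,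
    omega_classIndicator hcl]
  unfold centralChar
  rw [centralizer_inv, isCharacter_inv (isCharacter_of_irr hχ)]
  field_simp

/-- the arithmetic of the class algebra constant. -/
theorem struct_arith {k r h g a b : ℂ} (hk : k = 2 + 2 * r) (hk0 : k ≠ 0) (hk1 : k - 1 ≠ 0)
    (hk2 : 2 * k - 1 ≠ 0) (hh : h = 2 * k * (k - 1)) (hg : g = 2 * k * (2 * k - 1) * (k - 1))
    (hab : a * b = k / 2) (hs : a + b = -1) :
    g⁻¹ * (h ^ 2 * (1 * (1 + 1) * 1) / 1 + h ^ 2 * (0 * (0 + 0) * 0) / (2 * k - 1)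
      + h ^ 2 * (a * (a + b) * b) / (k - 1) + h ^ 2 * (b * (b + a) * a) / (k - 1)
      + r * (h ^ 2 * (-1 * (-1 + -1) * -1) / (2 * k - 1 + -1))
      + r * (h ^ 2 * (1 * (1 + 1) * 1) / (2 * k))) = k - 2 := by
  have hk3 : 2 * k - 1 + -1 ≠ 0 := by
    intro h'
    apply hk1
    linear_combination (1 / 2 : ℂ) * h'
  have hr : r = (k - 2) / 2 := by rw [hk]; ring
  have e1 : a * (a + b) * b = -(k / 2) := by rw [hs, ← hab]; ring
  have e2 : b * (b + a) * a = -(k / 2) := by rw [add_comm b a, hs, ← hab]; ring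
  rw [e1, e2, hg, hh, hr]
  field_simp
  ring

variable {K : Subgroup G} {t s : G} [Fintype K] [Fintype (IrrCharacter K)]
variable {lam0 : IrrCharacter K} {R : Set (IrrCharacter K)} {ε : ℂ} {ψ : IrrCharacter G}
  {χ : R → IrrCharacter G} {ψ₁ ψ₂ : IrrCharacter G} {a₁ a₂ : ℂ}

namespace Frag

variable [Fintype R]
variable {F : Subgroup G} {a : G} [Fintype F] {RF : Set (IrrCharacter F)}

/-- the non-real elements are the conjugates of `u` and of `u⁻¹`. -/
theorem nr_iff (f : Frag K lam0 R ε ψ χ ψ₁ ψ₂ a₁ a₂) (h : Hyp K t s)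
    (d : IrrData K lam0 R) (nm : Num K t ε ψ ψ₁ ψ₂ a₁ a₂) [Nonempty R]
    [Fintype (IrrCharacter G)] (hε : ε = -1) {u : G} (hu : f.NR u) (x : G) :
    f.NR x ↔ IsConj u x ∨ IsConj u⁻¹ x := by
  constructor
  · exact (f.two_classes h d nm hε hu).2 x
  · rintro (h' | h')
    · exact f.nr_of_isConj hu h'
    · exact f.nr_of_isConj (f.nr_inv hu) h'

/-- the index of the centralizer of a non-real element. -/
theorem index_centralizer_nr (f : Frag K lam0 R ε ψ χ ψ₁ ψ₂ a₁ a₂) (h : Hyp K t s)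
    (d : IrrData K lam0 R) (nm : Num K t ε ψ ψ₁ ψ₂ a₁ a₂) [Nonempty R]
    [Fintype (IrrCharacter G)] (hε : ε = -1) {u : G} (hu : f.NR u) :
    ((Subgroup.centralizer ({u} : Set G)).index : ℂ)
      = 2 * (Nat.card K : ℂ) * ((Nat.card K : ℂ) - 1) ∧
    (Nat.card G : ℂ) = 2 * (Nat.card K : ℂ) * (2 * (Nat.card K : ℂ) - 1)
      * ((Nat.card K : ℂ) - 1) := by
  have hk4 := d.four_le h.cfg
  have h1 := (Subgroup.centralizer ({u} : Set G)).card_mul_index
  rw [(f.two_classes h d nm hε hu).1] at h1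
  have h2 := h.card_G
  have h3 := nm.hn
  rw [hε] at h3
  have h4 : (Nat.card G : ℂ) = 2 * (Nat.card K : ℂ) * (2 * (Nat.card K : ℂ) - 1)
      * ((Nat.card K : ℂ) - 1) := by
    rw [h2]; push_cast; rw [h3]; ring
  refine ⟨?_, h4⟩
  have h5 : ((2 * Nat.card K - 1 : ℕ) : ℂ)
      * ((Subgroup.centralizer ({u} : Set G)).index : ℂ) = (Nat.card G : ℂ) := by
    exact_mod_cast h1
  rw [Nat.cast_sub (by omega)] at h5
  push_cast at h5
  have hk0 : 2 * (Nat.card K : ℂ) - 1 ≠ 0 := by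
    have : ((2 * Nat.card K - 1 : ℕ) : ℂ) ≠ 0 := Nat.cast_ne_zero.2 (by omega)
    rw [Nat.cast_sub (by omega)] at this
    push_cast at this
    exact this
  apply mul_left_cancel₀ hk0
  rw [h5, h4]; ring

/-- the number of conjugates `x` of a non-real element `u` with `x⁻¹ u` non-real. -/
theorem card_conj_pairs (f : Frag K lam0 R ε ψ χ ψ₁ ψ₂ a₁ a₂) (h : Hyp K t s)
    (d : IrrData K lam0 R) (nm : Num K t ε ψ ψ₁ ψ₂ a₁ a₂) (hε : ε = -1) [Nonempty R]
    (hcF : Cfg F a) (hψF : ∀ z ∈ F, z ≠ 1 → (ψ : G → ℂ) z = 1)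
    {θ : RF → IrrCharacter G} (ex : Exc F RF K ψ θ) [Fintype RF]
    (hcard : Fintype.card RF = Fintype.card R) [Fintype (IrrCharacter G)]
    {u : G} (hu : f.NR u) :
    Nat.card {x : G // IsConj u x ∧ f.NR (x⁻¹ * u)} + 2 = Nat.card K := by
  classical
  have hc := h.cfg
  have hk4 := d.four_le hc
  obtain ⟨k, hk⟩ : ∃ k : ℂ, k = (Nat.card K : ℂ) := ⟨_, rfl⟩
  have hkr : k = 2 + 2 * (Fintype.card R : ℂ) := by
    rw [hk, d.card_eq hc]; push_cast; ring
  -- the count as a convolution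
  have hcount : conv (classIndicator u) (classIndicator u + classIndicator u⁻¹) u
      = (Nat.card {x : G // IsConj u x ∧ f.NR (x⁻¹ * u)} : ℂ) := by
    rw [conv_apply]
    have h1 : ∀ y : G, classIndicator u y * ((classIndicator u + classIndicator u⁻¹) (y⁻¹ * u))
        = if IsConj u y ∧ f.NR (y⁻¹ * u) then 1 else 0 := by
      intro y
      simp only [Pi.add_apply]
      unfold classIndicator
      by_cases hy : IsConj u y
      · rw [if_pos hy, one_mul]
        by_cases h1 : IsConj u (y⁻¹ * u)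
        · have h2 : ¬ IsConj u⁻¹ (y⁻¹ * u) := by
            intro h2
            exact f.not_isConj_inv h d nm hε hu (h1.trans h2.symm)
          rw [if_pos h1, if_neg h2, if_pos ⟨hy, (f.nr_iff h d nm hε hu _).2 (Or.inl h1)⟩, add_zero]
        · by_cases h2 : IsConj u⁻¹ (y⁻¹ * u)
          · rw [if_neg h1, if_pos h2, if_pos ⟨hy, (f.nr_iff h d nm hε hu _).2 (Or.inr h2)⟩,
              zero_add]
          · rw [if_neg h1, if_neg h2, if_neg, add_zero]
            rintro ⟨-, h3⟩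
            rcases (f.nr_iff h d nm hε hu _).1 h3 with h4 | h4
            · exact h1 h4
            · exact h2 h4
      · rw [if_neg hy, zero_mul, if_neg (fun h' => hy h'.1)]
    simp only [h1]
    rw [Finset.sum_boole, Nat.card_eq_fintype_card, Fintype.card_subtype]
  -- Fourier inversion
  have hcl : IsClassFunction G (conv (classIndicator u) (classIndicator u + classIndicator u⁻¹)) :=
    isClassFunction_conv (classIndicator_isClassFunction u)
      (isClassFunction_add' (classIndicator_isClassFunction u)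
        (classIndicator_isClassFunction u⁻¹))
  have hF := classFunction_eq_sum_omega hcl u
  simp only [fun χ' : IrrCharacter G => omega_term χ'.2 u] at hF
  rw [f.sum_complete h d nm hε ex hcard] at hF
  obtain ⟨r1, r2, r3⟩ := f.psi12_nr h d nm hε hcF hψF ex hcard hu
  have hχu : ∀ μ, (χ μ : G → ℂ) u = -1 := by
    intro μ
    rw [f.chi_out hc μ hu.1, hu.2, hε]; ring
  have hθu : ∀ ν, (θ ν : G → ℂ) u = 1 := f.theta_apply_nr hcF hψF ex hu
  have dψ : (ψ : G → ℂ) 1 = 2 * k - 1 := by rw [nm.hq, hε, ← hk]; ring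
  have dψ₁ : (ψ₁ : G → ℂ) 1 = k - 1 := by rw [nm.hD₁, hε, ← hk]; ring
  have dψ₂ : (ψ₂ : G → ℂ) 1 = k - 1 := by rw [nm.hD₂, hε, ← hk]; ring
  have dχ : ∀ μ, (χ μ : G → ℂ) 1 = 2 * k - 1 + -1 := by
    intro μ
    rw [f.pre.degree hc μ, dψ, hε]
  have dθ : ∀ ν, (θ ν : G → ℂ) 1 = 2 * k := by
    intro ν
    rw [ex.deg ν, ← hk]
  have r1' : conj ((ψ₂ : G → ℂ) u) = (ψ₁ : G → ℂ) u := by
    rw [← r1, Complex.conj_conj]
  obtain ⟨i1, i2⟩ := f.index_centralizer_nr h d nm hε hu
  rw [← hk] at i1 i2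
  simp only [oneIrr_apply, hu.2, hχu, hθu, dψ, dψ₁, dψ₂, dχ, dθ, r1, r1', map_one, map_zero,
    map_neg] at hF
  rw [Finset.sum_const, Finset.sum_const, Finset.card_univ, Finset.card_univ, hcard,
    nsmul_eq_mul, nsmul_eq_mul] at hF
  have hk0 : k ≠ 0 := by
    rw [hk]; exact Nat.cast_ne_zero.2 (by omega)
  have hk1 : k - 1 ≠ 0 := by
    have : ((Nat.card K - 1 : ℕ) : ℂ) ≠ 0 := Nat.cast_ne_zero.2 (by omega)
    rw [Nat.cast_sub (by omega)] at this
    push_cast at this
    rw [hk]; exact this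
  have hk2 : 2 * k - 1 ≠ 0 := by
    have : ((2 * Nat.card K - 1 : ℕ) : ℂ) ≠ 0 := Nat.cast_ne_zero.2 (by omega)
    rw [Nat.cast_sub (by omega)] at this
    push_cast at this
    rw [hk]; exact this
  have hab : (ψ₁ : G → ℂ) u * (ψ₂ : G → ℂ) u = k / 2 := by
    rw [← r1, r2, hk]
  have hfin := struct_arith hkr hk0 hk1 hk2 i1 i2 hab r3
  rw [← hF, hcount, hk] at hfin
  have : ((Nat.card {x : G // IsConj u x ∧ f.NR (x⁻¹ * u)} + 2 : ℕ) : ℂ)
      = ((Nat.card K : ℕ) : ℂ) := by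
    push_cast
    linear_combination hfin
  exact Nat.cast_injective this

end Frag

end Cfsg.Agent.Lib.Helper7.ABSW
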