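import Mathlib
import Cfsg.Agent.Lib.Helper7.ABSW26

set_option autoImplicit false

/-!
# Abstract Brauer-Suzuki-Wall: the case `ε = -1`, centralizers of the non-real elements
-/

namespace Cfsg.Agent.Lib.Helper7.ABSW

open Cfsg Cfsg.Agent.Lib.Helper1 Cfsg.Agent.Lib.Helper4 Cfsg.Agent.Lib.Helper7.BSW
open Cfsg.Agent.Lib.Helper8
open scoped ComplexConjugate

universe u

variable {G : Type u} [Group G] [Fintype G]

variable {K : Subgroup G} {t s : G} [Fintype K] [Fintype (IrrCharacter K)]
variable {lam0 : IrrCharacter K} {R : Set (IrrCharacter K)} {ε : ℂ} {ψ : IrrCharacter G}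
  {χ : R → IrrCharacter G} {ψ₁ ψ₂ : IrrCharacter G} {a₁ a₂ : ℂ}

theorem isConj_inv_inv {u x : G} (h : IsConj u x) : IsConj u⁻¹ x⁻¹ := by
  obtain ⟨g, hg⟩ := isConj_iff.1 h
  rw [isConj_iff]
  refine ⟨g, ?_⟩
  rw [← hg]; group

namespace Frag

variable [Fintype R]
variable {F : Subgroup G} {a : G} [Fintype F] {RF : Set (IrrCharacter F)}

/-- nonidentity elements of the centralizer of a non-real element are non-real. -/
theorem nr_of_mem_centralizer (f : Frag K lam0 R ε ψ χ ψ₁ ψ₂ a₁ a₂) (h : Hyp K t s)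
    (d : IrrData K lam0 R) (nm : Num K t ε ψ ψ₁ ψ₂ a₁ a₂) [Nonempty R]
    [Fintype (IrrCharacter G)] (hε : ε = -1) {u z : G} (hu : f.NR u)
    (hz : z ∈ Subgroup.centralizer ({u} : Set G)) (hz1 : z ≠ 1) : f.NR z :=
  f.nr_of_comm h d nm hε hu (Subgroup.mem_centralizer_singleton_iff.1 hz) hz1

/-- half of the nonidentity elements of `C(u)` are conjugate to `u`. -/
theorem card_conj_in_centralizer (f : Frag K lam0 R ε ψ χ ψ₁ ψ₂ a₁ a₂) (h : Hyp K t s)
    (d : IrrData K lam0 R) (nm : Num K t ε ψ ψ₁ ψ₂ a₁ a₂) [Nonempty R]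
    [Fintype (IrrCharacter G)] (hε : ε = -1) {u : G} (hu : f.NR u) :
    Nat.card {x : G // x ∈ Subgroup.centralizer ({u} : Set G) ∧ IsConj u x} + 1
      = Nat.card K := by
  classical
  have hk4 := d.four_le h.cfg
  set P := Subgroup.centralizer ({u} : Set G) with hP
  have hu1 : u ≠ 1 := fun h' => hu.1 (by rw [h']; exact inU_one)
  have hsplit : ∀ x : G, (if x ∈ P then 1 else 0 : ℕ)
      = (if x = 1 then 1 else 0) + (if x ∈ P ∧ IsConj u x then 1 else 0)
        + (if x ∈ P ∧ IsConj u⁻¹ x then 1 else 0) := by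
    intro x
    by_cases hx : x ∈ P
    · by_cases hx1 : x = 1
      · have n1 : ¬ (x ∈ P ∧ IsConj u x) := by
          rintro ⟨-, h'⟩
          rw [hx1] at h'
          exact hu1 (isConj_one_left.1 h')
        have n2 : ¬ (x ∈ P ∧ IsConj u⁻¹ x) := by
          rintro ⟨-, h'⟩
          rw [hx1] at h'
          exact hu1 (inv_eq_one.1 (isConj_one_left.1 h'))
        rw [if_pos hx, if_pos hx1, if_neg n1, if_neg n2]
      · have hnr := f.nr_of_mem_centralizer h d nm hε hu hx hx1
        rcases (f.nr_iff h d nm hε hu x).1 hnr with h' | h'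
        · have n2 : ¬ (x ∈ P ∧ IsConj u⁻¹ x) := by
            rintro ⟨-, h''⟩
            exact f.not_isConj_inv h d nm hε hu (h'.trans h''.symm)
          rw [if_pos hx, if_neg hx1, if_pos ⟨hx, h'⟩, if_neg n2]
        · have n1 : ¬ (x ∈ P ∧ IsConj u x) := by
            rintro ⟨-, h''⟩
            exact f.not_isConj_inv h d nm hε hu (h''.trans h'.symm)
          rw [if_pos hx, if_neg hx1, if_neg n1, if_pos ⟨hx, h'⟩]
    · have hx1 : x ≠ 1 := by
        intro h'
        apply hx
        rw [h']; exact P.one_mem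
      rw [if_neg hx, if_neg hx1, if_neg (fun h' => hx h'.1), if_neg (fun h' => hx h'.1)]
  have hsum : ∑ x : G, (if x ∈ P then 1 else 0 : ℕ)
      = ∑ x : G, ((if x = 1 then 1 else 0) + (if x ∈ P ∧ IsConj u x then 1 else 0)
        + (if x ∈ P ∧ IsConj u⁻¹ x then 1 else 0)) :=
    Finset.sum_congr rfl fun x _ => hsplit x
  rw [Finset.sum_add_distrib, Finset.sum_add_distrib] at hsum
  simp only [← Finset.card_filter] at hsum
  have hcP : (Finset.univ.filter (fun x : G => x ∈ P)).card = 2 * Nat.card K - 1 := by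
    rw [← (f.two_classes h d nm hε hu).1, Nat.card_eq_fintype_card, Fintype.card_subtype]
  have hc1 : (Finset.univ.filter (fun x : G => x = 1)).card = 1 := by
    rw [Finset.card_eq_one]
    refine ⟨1, ?_⟩
    ext x
    simp
  have hAB : (Finset.univ.filter (fun x : G => x ∈ P ∧ IsConj u⁻¹ x)).card
      = (Finset.univ.filter (fun x : G => x ∈ P ∧ IsConj u x)).card := by
    apply Finset.card_bij (fun x _ => x⁻¹)
    · intro x hx
      simp only [Finset.mem_filter, Finset.mem_univ, true_and] at hx ⊢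
      refine ⟨P.inv_mem hx.1, ?_⟩
      have := isConj_inv_inv hx.2
      rwa [inv_inv] at this
    · intro x _ y _ hxy
      exact inv_injective hxy
    · intro y hy
      simp only [Finset.mem_filter, Finset.mem_univ, true_and] at hy
      refine ⟨y⁻¹, ?_, inv_inv y⟩
      simp only [Finset.mem_filter, Finset.mem_univ, true_and]
      exact ⟨P.inv_mem hy.1, isConj_inv_inv hy.2⟩
  rw [hcP, hc1, hAB] at hsum
  rw [Nat.card_eq_fintype_card, Fintype.card_subtype]
  omega

/-- a conjugate `x` of a non-real element `u` with `x⁻¹ u` non-real centralizes `u`. -/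
theorem mem_centralizer_of_pair (f : Frag K lam0 R ε ψ χ ψ₁ ψ₂ a₁ a₂) (h : Hyp K t s)
    (d : IrrData K lam0 R) (nm : Num K t ε ψ ψ₁ ψ₂ a₁ a₂) (hε : ε = -1) [Nonempty R]
    (hcF : Cfg F a) (hψF : ∀ z ∈ F, z ≠ 1 → (ψ : G → ℂ) z = 1)
    {θ : RF → IrrCharacter G} (ex : Exc F RF K ψ θ) [Fintype RF]
    (hcard : Fintype.card RF = Fintype.card R) [Fintype (IrrCharacter G)]
    {u : G} (hu : f.NR u) {x : G} (hx : IsConj u x) (hxu : f.NR (x⁻¹ * u)) :
    x ∈ Subgroup.centralizer ({u} : Set G) := by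
  classical
  have hk4 := d.four_le h.cfg
  set P := Subgroup.centralizer ({u} : Set G) with hP
  have hu1 : u ≠ 1 := fun h' => hu.1 (by rw [h']; exact inU_one)
  have huP : u ∈ P := by
    rw [hP, Subgroup.mem_centralizer_singleton_iff]
  set SA := Finset.univ.filter (fun x : G => x ∈ P ∧ IsConj u x) with hSA
  set SS := Finset.univ.filter (fun x : G => IsConj u x ∧ f.NR (x⁻¹ * u)) with hSS
  have hcA : SA.card + 1 = Nat.card K := by
    rw [← f.card_conj_in_centralizer h d nm hε hu, Nat.card_eq_fintype_card,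
      Fintype.card_subtype]
  have hcS : SS.card + 2 = Nat.card K := by
    rw [← f.card_conj_pairs h d nm hε hcF hψF ex hcard hu, Nat.card_eq_fintype_card,
      Fintype.card_subtype]
  have huSA : u ∈ SA := by
    rw [hSA, Finset.mem_filter]
    exact ⟨Finset.mem_univ _, huP, IsConj.refl u⟩
  have hsub : SA.erase u ⊆ SS := by
    intro y hy
    rw [Finset.mem_erase, hSA, Finset.mem_filter] at hy
    obtain ⟨hyu, -, hyP, hyc⟩ := hy
    rw [hSS, Finset.mem_filter]
    refine ⟨Finset.mem_univ _, hyc, ?_⟩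
    apply f.nr_of_mem_centralizer h d nm hε hu (P.mul_mem (P.inv_mem hyP) huP)
    intro h'
    apply hyu
    have : y = y * (y⁻¹ * u) := by rw [h', mul_one]
    rw [this]; group
  have heq : SA.erase u = SS := by
    apply Finset.eq_of_subset_of_card_le hsub
    rw [Finset.card_erase_of_mem huSA]
    omega
  have hxS : x ∈ SS := by
    rw [hSS, Finset.mem_filter]
    exact ⟨Finset.mem_univ _, hx, hxu⟩
  rw [← heq, Finset.mem_erase, hSA, Finset.mem_filter] at hxS
  exact hxS.2.2.1

/-- the centralizer of a nonidentity element of the centralizer of a non-real element `u` is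
`C(u)`. -/
theorem centralizer_nr_eq (f : Frag K lam0 R ε ψ χ ψ₁ ψ₂ a₁ a₂) (h : Hyp K t s)
    (d : IrrData K lam0 R) (nm : Num K t ε ψ ψ₁ ψ₂ a₁ a₂) (hε : ε = -1) [Nonempty R]
    (hcF : Cfg F a) (hψF : ∀ z ∈ F, z ≠ 1 → (ψ : G → ℂ) z = 1)
    {θ : RF → IrrCharacter G} (ex : Exc F RF K ψ θ) [Fintype RF]
    (hcard : Fintype.card RF = Fintype.card R) [Fintype (IrrCharacter G)]
    {u : G} (hu : f.NR u) {z : G} (hz : z ∈ Subgroup.centralizer ({u} : Set G))
    (hz1 : z ≠ 1) :
    Subgroup.centralizer ({z} : Set G) = Subgroup.centralizer ({u} : Set G) := by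
  have hznr := f.nr_of_mem_centralizer h d nm hε hu hz hz1
  have hzu : z * u = u * z := Subgroup.mem_centralizer_singleton_iff.1 hz
  have huP : u ∈ Subgroup.centralizer ({u} : Set G) := by
    rw [Subgroup.mem_centralizer_singleton_iff]
  -- the key case
  have key : ∀ w : G, w ∈ Subgroup.centralizer ({z} : Set G) → IsConj u w →
      w ∈ Subgroup.centralizer ({u} : Set G) := by
    intro w hw hc
    by_cases hwu : w = u
    · rw [hwu]; exact huP
    · have hwz : w * z = z * w := Subgroup.mem_centralizer_singleton_iff.1 hw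
      have h1 : w⁻¹ * u ≠ 1 := by
        intro h'
        apply hwu
        have : w = w * (w⁻¹ * u) := by rw [h', mul_one]
        rw [this]; group
      have h2 : (w⁻¹ * u) * z = z * (w⁻¹ * u) := by
        have e1 : w⁻¹ * z = z * w⁻¹ := by
          have : w⁻¹ * z = w⁻¹ * (z * w) * w⁻¹ := by group
          rw [this, ← hwz]; group
        calc (w⁻¹ * u) * z = w⁻¹ * (u * z) := by group
          _ = w⁻¹ * (z * u) := by rw [hzu]
          _ = (w⁻¹ * z) * u := by group
          _ = (z * w⁻¹) * u := by rw [e1]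
          _ = z * (w⁻¹ * u) := by group
      have h3 : f.NR (w⁻¹ * u) := f.nr_of_comm h d nm hε hznr h2 h1
      exact f.mem_centralizer_of_pair h d nm hε hcF hψF ex hcard hu hc h3
  have hle : Subgroup.centralizer ({z} : Set G) ≤ Subgroup.centralizer ({u} : Set G) := by
    intro w hw
    by_cases hw1 : w = 1
    · rw [hw1]; exact Subgroup.one_mem _
    · have hwnr := f.nr_of_mem_centralizer h d nm hε hznr hw hw1
      rcases (f.nr_iff h d nm hε hu w).1 hwnr with h' | h'
      · exact key w hw h'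
      · have h'' := isConj_inv_inv h'
        rw [inv_inv] at h''
        have := key w⁻¹ (Subgroup.inv_mem _ hw) h''
        have h4 := Subgroup.inv_mem _ this
        rwa [inv_inv] at h4
  apply Subgroup.eq_of_le_of_card_ge hle
  rw [(f.two_classes h d nm hε hu).1, (f.two_classes h d nm hε hznr).1]

end Frag

end Cfsg.Agent.Lib.Helper7.ABSW
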