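import Mathlib
import Cfsg.Agent.Lib.Helper7.ABSW27

set_option autoImplicit false

/-!
# A counting lemma: a conjugation invariant set of elements with self-normalizing T.I.
centralizers is the union of the conjugates of one of these centralizers
-/

namespace Cfsg.Agent.Lib.Helper7.ABSW

open Cfsg

universe v

variable {M : Type v} [Group M]

/-- the number of nonidentity elements in the union of the conjugates of a self-normalizing T.I.
subgroup. -/
theorem card_union_conj_self [Fintype M] (L : Subgroup M)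
    (hTI : ∀ g z : M, z ∈ L → z ≠ 1 → g * z * g⁻¹ ∈ L → g ∈ L) :
    Nat.card L * Nat.card {x : M // x ≠ 1 ∧ InU L x} = Nat.card M * (Nat.card L - 1) := by
  classical
  have hcount := sum_union_conj L L hTI
    (fun g hg z hz => L.mul_mem (L.mul_mem hg hz) (L.inv_mem hg)) (fun _ => (1 : ℂ))
    (fun _ _ => rfl)
  have hA : ∑ x : M, (if x ≠ 1 ∧ InU L x then (1 : ℂ) else 0)
      = ((Nat.card {x : M // x ≠ 1 ∧ InU L x} : ℕ) : ℂ) := by
    rw [Finset.sum_boole, Nat.card_eq_fintype_card, Fintype.card_subtype]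
  have hB : ∑ z : L, (if (z : M) ≠ 1 then (1 : ℂ) else 0) = ((Nat.card L - 1 : ℕ) : ℂ) := by
    rw [Finset.sum_boole]
    congr 1
    have : (Finset.univ.filter (fun z : L => (z : M) ≠ 1)) = Finset.univ.erase 1 := by
      ext z
      simp only [Finset.mem_filter, Finset.mem_univ, true_and, Finset.mem_erase, and_true]
      exact ⟨fun h' h'' => h' (congrArg Subtype.val h''), fun h' h'' => h' (Subtype.ext h'')⟩
    rw [this, Finset.card_erase_of_mem (Finset.mem_univ _), Finset.card_univ,
      ← Nat.card_eq_fintype_card]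
  rw [hA, hB] at hcount
  exact_mod_cast hcount

/-- the counting lemma. -/
theorem ca_count [Finite M] (X : M → Prop)
    (hXconj : ∀ g m, X m → X (g * m * g⁻¹))
    (hX1 : ¬ X 1)
    (hsub : ∀ m, X m → ∀ z ∈ Subgroup.centralizer ({m} : Set M), z ≠ 1 → X z)
    (hcent : ∀ m, X m → ∀ z ∈ Subgroup.centralizer ({m} : Set M), z ≠ 1 →
      Subgroup.centralizer ({z} : Set M) = Subgroup.centralizer ({m} : Set M))
    (hTI : ∀ m, X m → ∀ g z : M, z ∈ Subgroup.centralizer ({m} : Set M) → z ≠ 1 →
      g * z * g⁻¹ ∈ Subgroup.centralizer ({m} : Set M) →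
        g ∈ Subgroup.centralizer ({m} : Set M))
    (h3 : ∀ m, X m → 3 ≤ Nat.card (Subgroup.centralizer ({m} : Set M)))
    {m : M} (hm : X m) :
    Nat.card (Subgroup.centralizer ({m} : Set M)) * Nat.card {x : M // X x}
      = Nat.card M * (Nat.card (Subgroup.centralizer ({m} : Set M)) - 1) := by
  classical
  haveI : Fintype M := Fintype.ofFinite M
  have hne1 : ∀ m, X m → m ≠ 1 := fun m hm h' => hX1 (h' ▸ hm)
  -- the union of the conjugates of a centralizer is contained in `X`
  have hin : ∀ m, X m → ∀ x : M, x ≠ 1 ∧ InU (Subgroup.centralizer ({m} : Set M)) x → X x := by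
    rintro m hm x ⟨hx1, g, hg⟩
    have hz1 : g * x * g⁻¹ ≠ 1 := by
      intro h'
      apply hx1
      have : x = g⁻¹ * (g * x * g⁻¹) * g := by group
      rw [this, h']; group
    have h1 := hXconj g⁻¹ _ (hsub m hm _ hg hz1)
    have e : g⁻¹ * (g * x * g⁻¹) * g⁻¹⁻¹ = x := by group
    rwa [e] at h1
  -- the size of these unions
  have hbig : ∀ m, X m → 2 * Nat.card M
      ≤ 3 * Nat.card {x : M // x ≠ 1 ∧ InU (Subgroup.centralizer ({m} : Set M)) x} := by
    intro m hm
    have h1 := card_union_conj_self _ (hTI m hm)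
    have h2 := h3 m hm
    obtain ⟨l, hl⟩ : ∃ l : ℕ, Nat.card (Subgroup.centralizer ({m} : Set M)) = l + 3 :=
      ⟨_, (Nat.sub_add_cancel h2).symm⟩
    rw [hl] at h1
    have h4 : l + 3 - 1 = l + 2 := by omega
    rw [h4] at h1
    by_contra hlt
    push_neg at hlt
    have h5 : (l + 3) * (3 * Nat.card {x : M // x ≠ 1 ∧
        InU (Subgroup.centralizer ({m} : Set M)) x}) < (l + 3) * (2 * Nat.card M) :=
      Nat.mul_lt_mul_of_pos_left hlt (by omega)
    have h6 : (l + 3) * (3 * Nat.card {x : M // x ≠ 1 ∧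
        InU (Subgroup.centralizer ({m} : Set M)) x}) = 3 * (Nat.card M * (l + 2)) := by
      rw [← h1]; ring
    rw [h6] at h5
    have h7 : 3 * (Nat.card M * (l + 2)) = (l + 3) * (2 * Nat.card M) + l * Nat.card M := by
      ring
    omega
  -- every element of `X` lies in the union of the conjugates of `C(m)`
  have hall : ∀ m' : M, X m' → m' ≠ 1 ∧ InU (Subgroup.centralizer ({m} : Set M)) m' := by
    intro m' hm'
    by_contra hnot
    have hdisj : ∀ x : M, ¬ ((x ≠ 1 ∧ InU (Subgroup.centralizer ({m} : Set M)) x) ∧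
        (x ≠ 1 ∧ InU (Subgroup.centralizer ({m'} : Set M)) x)) := by
      rintro x ⟨⟨hx1, g, hg⟩, -, g', hg'⟩
      apply hnot
      refine ⟨hne1 m' hm', g * g'⁻¹, ?_⟩
      have hz1 : g * x * g⁻¹ ≠ 1 := by
        intro h'
        apply hx1
        have : x = g⁻¹ * (g * x * g⁻¹) * g := by group
        rw [this, h']; group
      have hz1' : g' * x * g'⁻¹ ≠ 1 := by
        intro h'
        apply hx1
        have : x = g'⁻¹ * (g' * x * g'⁻¹) * g' := by group
        rw [this, h']; group
      rw [← hcent m hm _ hg hz1, Subgroup.mem_centralizer_singleton_iff]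
      have h1 : m' ∈ Subgroup.centralizer ({g' * x * g'⁻¹} : Set M) := by
        rw [hcent m' hm' _ hg' hz1', Subgroup.mem_centralizer_singleton_iff]
      rw [Subgroup.mem_centralizer_singleton_iff] at h1
      have e1 : g * g'⁻¹ * m' * (g * g'⁻¹)⁻¹ * (g * x * g⁻¹)
          = g * g'⁻¹ * (m' * (g' * x * g'⁻¹)) * g' * g⁻¹ := by group
      have e2 : g * x * g⁻¹ * (g * g'⁻¹ * m' * (g * g'⁻¹)⁻¹)
          = g * g'⁻¹ * ((g' * x * g'⁻¹) * m') * g' * g⁻¹ := by group
      rw [e1, e2, h1]
    have h1 := hbig m hm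
    have h2 := hbig m' hm'
    have h4 : Nat.card {x : M // x ≠ 1 ∧ InU (Subgroup.centralizer ({m} : Set M)) x}
        + Nat.card {x : M // x ≠ 1 ∧ InU (Subgroup.centralizer ({m'} : Set M)) x}
        ≤ Nat.card M := by
      rw [Nat.card_eq_fintype_card, Nat.card_eq_fintype_card, Nat.card_eq_fintype_card,
        Fintype.card_subtype, Fintype.card_subtype, ← Finset.card_union_of_disjoint]
      · exact Finset.card_le_univ _
      · rw [Finset.disjoint_filter]
        intro x _ hx hx'
        exact hdisj x ⟨hx, hx'⟩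
    have h5 : 0 < Nat.card M := Nat.card_pos
    omega
  have heq : Nat.card {x : M // X x}
      = Nat.card {x : M // x ≠ 1 ∧ InU (Subgroup.centralizer ({m} : Set M)) x} := by
    apply Nat.card_congr
    exact Equiv.subtypeEquivRight fun x => ⟨hall x, hin m hm x⟩
  rw [heq]
  exact card_union_conj_self _ (hTI m hm)

end Cfsg.Agent.Lib.Helper7.ABSW
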