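import Mathlib
import Cfsg.Agent.Lib.Helper7.ABSW28

set_option autoImplicit false

/-!
# Abstract Brauer-Suzuki-Wall: the case `ε = -1`, the group theoretic conclusion
-/

namespace Cfsg.Agent.Lib.Helper7.ABSW

open Cfsg Cfsg.Agent.Lib.Helper7.BSW

universe u

variable {G : Type u} [Group G]

variable {K : Subgroup G} {t s : G} {y a : G}

/-- an element of odd order normalizing `C(y)` centralizes `y`. -/
theorem RealOut.mem_of_odd [Finite G] (h : Hyp K t s) (r : RealOut K y a)
    (h2 : Nat.card r.compl = 2)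
    {g : G}
    (hg : g ∈ Subgroup.normalizer ((Subgroup.centralizer ({y} : Set G) : Subgroup G) : Set G))
    (hodd : Odd (orderOf g)) : g ∈ Subgroup.centralizer ({y} : Set G) := by
  obtain ⟨w, hw, he⟩ := r.exists_decomp h hg
  have hfin : Finite r.compl := Nat.finite_of_card_ne_zero (by rw [h2]; norm_num)
  have he2 : (w⁻¹ * g) ^ 2 = 1 := by
    have h1 : (⟨w⁻¹ * g, he⟩ : r.compl) ^ Nat.card r.compl = 1 := pow_card_eq_one'
    rw [h2] at h1
    have := congrArg Subtype.val h1
    simpa using this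
  by_cases he1 : w⁻¹ * g = 1
  · have : g = w := by
      have : g = w * (w⁻¹ * g) := by group
      rw [this, he1, mul_one]
    rw [this]; exact hw
  · have ho : orderOf (w⁻¹ * g) = 2 := orderOf_eq_prime he2 he1
    have hea := r.invol_compl h he ho
    have hg' : g = w * a := by
      have : g = w * (w⁻¹ * g) := by group
      rw [this, hea]
    have hgg : g ^ 2 = 1 := by
      have h3 := r.inverts h hw
      rw [r.a_inv] at h3
      rw [pow_two, hg']
      calc w * a * (w * a) = w * (a * w * a) := by group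
        _ = w * w⁻¹ := by rw [h3]
        _ = 1 := mul_inv_cancel w
    have hd : orderOf g ∣ 2 := orderOf_dvd_of_pow_eq_one hgg
    have h1 : orderOf g = 1 := by
      rcases (Nat.dvd_prime Nat.prime_two).1 hd with h' | h'
      · exact h'
      · rw [h'] at hodd
        exact absurd hodd (by decide)
    rw [orderOf_eq_one_iff.1 h1]
    exact Subgroup.one_mem _

/-- a subgroup which is the centralizer of each of its nonidentity elements is a T.I. set. -/
theorem ti_of_centralizer_eq (Q : Subgroup G)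
    (hQ : ∀ z ∈ Q, z ≠ 1 → Subgroup.centralizer ({z} : Set G) = Q) {g z : G} (hz : z ∈ Q)
    (hz1 : z ≠ 1) (hgz : g * z * g⁻¹ ∈ Q) : g ∈ Subgroup.normalizer (Q : Set G) := by
  have h1 := hQ z hz hz1
  have hgz1 : g * z * g⁻¹ ≠ 1 := by
    intro h'
    apply hz1
    have : z = g⁻¹ * (g * z * g⁻¹) * g := by group
    rw [this, h']; group
  have h2 := hQ _ hgz hgz1
  rw [Subgroup.mem_normalizer_iff]
  intro w
  have hA : w ∈ Q ↔ w * z = z * w := by
    rw [← Subgroup.mem_centralizer_singleton_iff, h1]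
  have hB : g * w * g⁻¹ ∈ Q ↔
      g * w * g⁻¹ * (g * z * g⁻¹) = g * z * g⁻¹ * (g * w * g⁻¹) := by
    rw [← Subgroup.mem_centralizer_singleton_iff, h2]
  rw [hA, hB]
  constructor
  · intro hw
    have e1 : g * w * g⁻¹ * (g * z * g⁻¹) = g * (w * z) * g⁻¹ := by group
    have e2 : g * z * g⁻¹ * (g * w * g⁻¹) = g * (z * w) * g⁻¹ := by group
    rw [e1, e2, hw]
  · intro hw
    have e1 : w * z = g⁻¹ * (g * w * g⁻¹ * (g * z * g⁻¹)) * g := by group
    have e2 : z * w = g⁻¹ * (g * z * g⁻¹ * (g * w * g⁻¹)) * g := by group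
    rw [e1, e2, hw]

theorem mem_centralizer_coe {M : Subgroup G} (m z : M) :
    z ∈ Subgroup.centralizer ({m} : Set M)
      ↔ (z : G) ∈ Subgroup.centralizer ({(m : G)} : Set G) := by
  rw [Subgroup.mem_centralizer_singleton_iff, Subgroup.mem_centralizer_singleton_iff]
  constructor
  · intro h'
    exact congrArg Subtype.val h'
  · intro h'
    exact Subtype.ext h'

/-- the conclusion from the group theoretic data in the case `ε = -1`. -/
theorem Hyp.concl_of_Q (h : Hyp K t s) [Finite G] (Q : Subgroup G) (hk4 : 4 ≤ Nat.card K)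
    (hkev : Even (Nat.card K))
    (hQcard : Nat.card Q = 2 * Nat.card K - 1)
    (hcent : ∀ z ∈ Q, z ≠ 1 → Subgroup.centralizer ({z} : Set G) = Q)
    (hNcard : Nat.card (Subgroup.normalizer (Q : Set G))
      = (2 * Nat.card K - 1) * (Nat.card K - 1))
    (hG : Nat.card G = 2 * Nat.card K * ((2 * Nat.card K - 1) * (Nat.card K - 1)))
    (hreal : ∀ y ∈ Subgroup.normalizer (Q : Set G), y ∉ Q → ∃ a, RealOut K y a)
    (hR : ∀ y a, ∀ r : RealOut K y a,
      Nat.card (Subgroup.centralizer ({y} : Set G)) + 1 = Nat.card K ∧ Nat.card r.compl = 2 ∧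
        y ∉ Q) : Concl G := by
  classical
  obtain ⟨k, hk⟩ : ∃ k : ℕ, k = Nat.card K := ⟨_, rfl⟩
  rw [← hk] at hk4 hkev hQcard hNcard hG hR
  set Ms := Subgroup.normalizer (Q : Set G) with hMs
  have hQM : Q ≤ Ms := Subgroup.le_normalizer
  -- `N(Q)` has odd order
  have hoddM : Odd (Nat.card Ms) := by
    rw [hNcard]
    obtain ⟨j, hj⟩ := hkev
    apply Odd.mul
    · exact ⟨k - 1, by omega⟩
    · exact ⟨j - 1, by omega⟩
  have hodd_of_mem : ∀ g ∈ Ms, Odd (orderOf g) := by
    intro g hg
    exact Odd.of_dvd_nat hoddM (Subgroup.orderOf_dvd_natCard Ms hg)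
  -- an element of `N(Q)` outside `Q`
  obtain ⟨y, hyM, hyQ⟩ : ∃ y ∈ Ms, y ∉ Q := by
    by_contra hno
    push Not at hno
    have h1 : Nat.card Ms ≤ Nat.card Q := Subgroup.card_le_of_le (fun y hy => hno y hy)
    rw [hNcard, hQcard] at h1
    have h2 : (2 * k - 1) * 3 ≤ (2 * k - 1) * (k - 1) := Nat.mul_le_mul_left _ (by omega)
    omega
  obtain ⟨a, r⟩ := hreal y hyM hyQ
  obtain ⟨hFcard, hc2, -⟩ := hR y a r
  -- the counting lemma in `N(Q)`
  have hX : ∀ m : Ms, (m : G) ∉ Q → ∃ b, RealOut K (m : G) b := fun m hm => hreal m m.2 hm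
  have hcount := ca_count (M := Ms) (fun m => (m : G) ∉ Q)
    (by
      intro g m hm h'
      apply hm
      have := (Subgroup.mem_normalizer_iff.1 g.2 (m : G)).2
      apply this
      simpa using h')
    (by
      intro h'
      exact h' Q.one_mem)
    (by
      intro m hm z hz hz1 hzQ
      obtain ⟨b, rb⟩ := hX m hm
      have hz' := (mem_centralizer_coe m z).1 hz
      have hz1' : (z : G) ≠ 1 := fun h' => hz1 (Subtype.ext h')
      exact (hR _ _ (rb.of_mem h hz' hz1')).2.2 hzQ)
    (by
      intro m hm z hz hz1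
      obtain ⟨b, rb⟩ := hX m hm
      have hz' := (mem_centralizer_coe m z).1 hz
      have hz1' : (z : G) ≠ 1 := fun h' => hz1 (Subtype.ext h')
      have e := rb.centralizer_eq h hz' hz1'
      ext w
      rw [mem_centralizer_coe, mem_centralizer_coe, e])
    (by
      intro m hm g z hz hz1 hgz
      obtain ⟨b, rb⟩ := hX m hm
      have hz' := (mem_centralizer_coe m z).1 hz
      have hz1' : (z : G) ≠ 1 := fun h' => hz1 (Subtype.ext h')
      have hgz' := (mem_centralizer_coe m _).1 hgz
      rw [mem_centralizer_coe]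
      have hgN := rb.ti h hz' hz1' (g := (g : G)) (by simpa using hgz')
      exact rb.mem_of_odd h (hR _ _ rb).2.1 hgN (hodd_of_mem _ g.2))
    (by
      intro m hm
      have h1 : Odd (Nat.card (Subgroup.centralizer ({m} : Set Ms))) :=
        Odd.of_dvd_nat hoddM (Subgroup.card_subgroup_dvd_card _)
      have h2 : Nat.card (Subgroup.centralizer ({m} : Set Ms)) ≠ 1 := by
        intro h'
        have h3 := (Subgroup.card_eq_one.1 h')
        have h4 : m ∈ Subgroup.centralizer ({m} : Set Ms) := by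
          rw [Subgroup.mem_centralizer_singleton_iff]
        rw [h3, Subgroup.mem_bot] at h4
        apply hm
        rw [h4]
        exact Q.one_mem
      obtain ⟨j, hj⟩ := h1
      omega)
    (m := ⟨y, hyM⟩) hyQ
  -- the number of elements of `N(Q)` outside `Q`
  have hXcard : Nat.card {m : Ms // (m : G) ∉ Q} + Nat.card Q = Nat.card Ms := by
    haveI : Fintype Ms := Fintype.ofFinite _
    have h1 : Nat.card {m : Ms // (m : G) ∈ Q} = Nat.card Q := by
      apply Nat.card_congr
      exact
        { toFun := fun m => ⟨(m.1 : G), m.2⟩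
          invFun := fun q => ⟨⟨(q : G), hQM q.2⟩, q.2⟩
          left_inv := fun m => rfl
          right_inv := fun q => rfl }
    rw [← h1, Nat.card_eq_fintype_card, Nat.card_eq_fintype_card, Nat.card_eq_fintype_card,
      Fintype.card_subtype_compl]
    have := Fintype.card_subtype_le (fun m : Ms => (m : G) ∈ Q)
    omega
  -- the order of the centralizer of `y` in `N(Q)`
  obtain ⟨l, hl⟩ : ∃ l : ℕ, l = Nat.card (Subgroup.centralizer ({(⟨y, hyM⟩ : Ms)} : Set Ms)) :=
    ⟨_, rfl⟩
  rw [← hl] at hcount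
  have hl0 : 0 < l := by rw [hl]; exact Nat.card_pos
  have hlk : l = k - 1 := by
    have h1 : Nat.card {m : Ms // (m : G) ∉ Q} = (2 * k - 1) * (k - 1) - (2 * k - 1) := by
      omega
    rw [h1, hNcard] at hcount
    have h2 : (2 * k - 1) ≤ (2 * k - 1) * (k - 1) := Nat.le_mul_of_pos_right _ (by omega)
    obtain ⟨q, hq⟩ : ∃ q : ℕ, q = 2 * k - 1 := ⟨_, rfl⟩
    obtain ⟨j, hj⟩ : ∃ j : ℕ, j = k - 1 := ⟨_, rfl⟩
    rw [← hq, ← hj] at hcount h2
    rw [← hj]
    have hq0 : 0 < q := by omega
    have h3 : l * (q * j - q) + l * q = l * (q * j) := by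
      rw [← Nat.mul_add, Nat.sub_add_cancel h2]
    have h4 : q * j * (l - 1) + q * j = q * j * l := by
      have : l - 1 + 1 = l := by omega
      calc q * j * (l - 1) + q * j = q * j * (l - 1 + 1) := by ring
        _ = q * j * l := by rw [this]
    have h5 : q * l = q * j := by
      have : l * q + q * j * (l - 1) = q * j + q * j * (l - 1) := by
        rw [← hcount]
        have : l * (q * j) = q * j * l := by ring
        omega
      have h6 : l * q = q * j := Nat.add_right_cancel this
      rw [← h6]; ring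
    exact Nat.eq_of_mul_eq_mul_left hq0 h5
  -- `C(y) ≤ N(Q)`
  have hFM : Subgroup.centralizer ({y} : Set G) ≤ Ms := by
    haveI : Fintype (Subgroup.centralizer ({(⟨y, hyM⟩ : Ms)} : Set Ms)) := Fintype.ofFinite _
    haveI : Fintype (Subgroup.centralizer ({y} : Set G)) := Fintype.ofFinite _
    have hinj : Function.Injective
        (fun z : Subgroup.centralizer ({(⟨y, hyM⟩ : Ms)} : Set Ms) =>
          (⟨((z : Ms) : G), (mem_centralizer_coe ⟨y, hyM⟩ (z : Ms)).1 z.2⟩ :
            Subgroup.centralizer ({y} : Set G))) := by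
      intro z z' hzz
      have := congrArg Subtype.val hzz
      exact Subtype.ext (Subtype.ext this)
    have hbij := (Fintype.bijective_iff_injective_and_card _).2 ⟨hinj, by
      rw [← Nat.card_eq_fintype_card, ← Nat.card_eq_fintype_card, ← hl, hlk]
      omega⟩
    intro w hw
    obtain ⟨z, hz⟩ := hbij.2 ⟨w, hw⟩
    have := congrArg Subtype.val hz
    simp only at this
    rw [← this]
    exact (z : Ms).2
  -- the conclusion
  have hinf : Q ⊓ Subgroup.centralizer ({y} : Set G) = ⊥ := by
    rw [eq_bot_iff]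
    intro z hz
    rw [Subgroup.mem_bot]
    by_contra hz1
    exact (hR _ _ (r.of_mem h (Subgroup.mem_inf.1 hz).2 hz1)).2.2 (Subgroup.mem_inf.1 hz).1
  apply h.concl_real r hc2 Q _ hcent _ hinf
  · apply eq_sup_of_card hQM hFM hinf
    rw [hNcard, hQcard]
    congr 1
    omega
  · rw [hG, hQcard]
    have e1 : 2 * k - 1 + 1 = 2 * k := by omega
    have e2 : 2 * k - 1 - 1 = 2 * (k - 1) := by omega
    rw [e1, e2]; ring
  · rw [hQcard]; omega

end Cfsg.Agent.Lib.Helper7.ABSW
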