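import Mathlib
import Cfsg.Agent.Lib.Helper7.ABSW29

set_option autoImplicit false

/-!
# Abstract Brauer-Suzuki-Wall: the case `ε = -1`, conclusion
-/

namespace Cfsg.Agent.Lib.Helper7.ABSW

open Cfsg Cfsg.Agent.Lib.Helper1 Cfsg.Agent.Lib.Helper4 Cfsg.Agent.Lib.Helper7.BSW
open Cfsg.Agent.Lib.Helper8
open scoped ComplexConjugate

universe u

variable {G : Type u} [Group G] [Fintype G]

variable {K : Subgroup G} {t s : G} [Fintype K] [Fintype (IrrCharacter K)]
variable {lam0 : IrrCharacter K} {R : Set (IrrCharacter K)} {ε : ℂ} {ψ : IrrCharacter G}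
  {χ : R → IrrCharacter G} {ψ₁ ψ₂ : IrrCharacter G} {a₁ a₂ : ℂ}

/-- an arithmetic fact. -/
theorem dvd_one_of_dvd_pair {m k : ℕ} (hk : 1 ≤ k) (h1 : m ∣ k)
    (h2 : m ∣ (2 * k - 1) * (k - 1)) : m = 1 := by
  obtain ⟨j, rfl⟩ : ∃ j, k = j + 1 := ⟨k - 1, by omega⟩
  have e : (2 * (j + 1) - 1) * (j + 1 - 1) + (j + 1) = (j + 1) * (2 * j) + 1 := by
    have e1 : 2 * (j + 1) - 1 = 2 * j + 1 := by omega
    have e2 : j + 1 - 1 = j := by omega
    rw [e1, e2]; ring
  have h3 : m ∣ (j + 1) * (2 * j) + 1 := by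
    rw [← e]
    exact dvd_add h2 h1
  exact Nat.dvd_one.1 ((Nat.dvd_add_right (h1.mul_right _)).1 h3)

namespace Frag

variable [Fintype R]
variable {F : Subgroup G} {a : G} [Fintype F] {RF : Set (IrrCharacter F)}

/-- the conclusion in the case `ε = -1`, given the exceptional characters of `F`. -/
theorem concl_neg_of_exc (f : Frag K lam0 R ε ψ χ ψ₁ ψ₂ a₁ a₂) (h : Hyp K t s)
    (d : IrrData K lam0 R) (nm : Num K t ε ψ ψ₁ ψ₂ a₁ a₂) (hε : ε = -1) [Nonempty R]
    (hcF : Cfg F a) (hψF : ∀ z ∈ F, z ≠ 1 → (ψ : G → ℂ) z = 1)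
    {θ : RF → IrrCharacter G} (ex : Exc F RF K ψ θ) [Fintype RF]
    (hcard : Fintype.card RF = Fintype.card R) [Fintype (IrrCharacter G)] : Concl G := by
  classical
  have hc := h.cfg
  have hk4 := d.four_le hc
  obtain ⟨k, hk⟩ : ∃ k : ℕ, k = Nat.card K := ⟨_, rfl⟩
  -- the index of `C(t)` and the order of `G`
  have hn : (Subgroup.centralizer ({t} : Set G)).index = (2 * k - 1) * (k - 1) := by
    have h1 := nm.hn
    rw [hε, ← hk] at h1
    have : (((Subgroup.centralizer ({t} : Set G)).index : ℕ) : ℂ)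
        = (((2 * k - 1) * (k - 1) : ℕ) : ℂ) := by
      rw [h1, Nat.cast_mul, Nat.cast_sub (by omega), Nat.cast_sub (by omega)]
      push_cast; ring
    exact_mod_cast this
  have hG : Nat.card G = 2 * k * ((2 * k - 1) * (k - 1)) := by
    rw [h.card_G, hn, ← hk]
  -- a non-real element
  have h0 := f.card_psi_zero h d nm
  rw [hε, ← hk] at h0
  have h0' : Nat.card {y : G // ¬ InU K y ∧ (ψ : G → ℂ) y = 0} = 2 * k * (2 * k - 2) := by
    have : ((Nat.card {y : G // ¬ InU K y ∧ (ψ : G → ℂ) y = 0} : ℕ) : ℂ)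
        = ((2 * k * (2 * k - 2) : ℕ) : ℂ) := by
      rw [h0, Nat.cast_mul, Nat.cast_sub (by omega)]
      push_cast; ring
    exact_mod_cast this
  have hne : Nonempty {y : G // ¬ InU K y ∧ (ψ : G → ℂ) y = 0} := by
    have h1 : 0 < Nat.card {y : G // ¬ InU K y ∧ (ψ : G → ℂ) y = 0} := by
      rw [h0']
      exact Nat.mul_pos (by omega) (by omega)
    exact (Nat.card_pos_iff.1 h1).1
  obtain ⟨⟨u, hu⟩⟩ := hne
  have hu : f.NR u := hu
  set Q := Subgroup.centralizer ({u} : Set G) with hQdef
  have hQcard : Nat.card Q = 2 * k - 1 := by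
    rw [hk]; exact (f.two_classes h d nm hε hu).1
  have hcent : ∀ z ∈ Q, z ≠ 1 → Subgroup.centralizer ({z} : Set G) = Q := fun z hz hz1 =>
    f.centralizer_nr_eq h d nm hε hcF hψF ex hcard hu hz hz1
  have huQ : u ∈ Q := by
    rw [hQdef, Subgroup.mem_centralizer_singleton_iff]
  -- the non-real elements are the nonidentity elements of the conjugates of `Q`
  have hnrQ : ∀ x : G, (x ≠ 1 ∧ InU Q x) ↔ f.NR x := by
    intro x
    constructor
    · rintro ⟨hx1, g, hg⟩
      have hz1 : g * x * g⁻¹ ≠ 1 := by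
        intro h'
        apply hx1
        have : x = g⁻¹ * (g * x * g⁻¹) * g := by group
        rw [this, h']; group
      have h1 := f.nr_of_mem_centralizer h d nm hε hu hg hz1
      have h2 := f.nr_conj h1 g⁻¹
      have e : g⁻¹ * (g * x * g⁻¹) * g⁻¹⁻¹ = x := by group
      rwa [e] at h2
    · intro hx
      refine ⟨fun h' => hx.1 (by rw [h']; exact inU_one), ?_⟩
      rcases (f.nr_iff h d nm hε hu x).1 hx with h' | h'
      · obtain ⟨g, hg⟩ := isConj_iff.1 h'
        refine ⟨g⁻¹, ?_⟩
        rw [← hg]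
        have e : g⁻¹ * (g * u * g⁻¹) * g⁻¹⁻¹ = u := by group
        rw [e]; exact huQ
      · obtain ⟨g, hg⟩ := isConj_iff.1 h'
        refine ⟨g⁻¹, ?_⟩
        rw [← hg]
        have e : g⁻¹ * (g * u⁻¹ * g⁻¹) * g⁻¹⁻¹ = u⁻¹ := by group
        rw [e]; exact Q.inv_mem huQ
  -- the order of the normalizer of `Q`
  have hcount := sum_union_conj Q (Subgroup.normalizer (Q : Set G))
    (fun g z hz hz1 hgz => ti_of_centralizer_eq Q hcent hz hz1 hgz)
    (fun g hg z hz => (Subgroup.mem_normalizer_iff.1 hg z).1 hz) (fun _ => (1 : ℂ))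
    (fun _ _ => rfl)
  have hA : ∑ x : G, (if x ≠ 1 ∧ InU Q x then (1 : ℂ) else 0)
      = ((Nat.card {x : G // x ≠ 1 ∧ InU Q x} : ℕ) : ℂ) := by
    rw [Finset.sum_boole, Nat.card_eq_fintype_card, Fintype.card_subtype]
  have hB : ∑ z : Q, (if (z : G) ≠ 1 then (1 : ℂ) else 0) = ((2 * k - 2 : ℕ) : ℂ) := by
    rw [Finset.sum_boole]
    congr 1
    have : (Finset.univ.filter (fun z : Q => (z : G) ≠ 1)) = Finset.univ.erase 1 := by
      ext z
      simp only [Finset.mem_filter, Finset.mem_univ, true_and, Finset.mem_erase, and_true]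
      exact ⟨fun h' h'' => h' (congrArg Subtype.val h''), fun h' h'' => h' (Subtype.ext h'')⟩
    rw [this, Finset.card_erase_of_mem (Finset.mem_univ _), Finset.card_univ,
      ← Nat.card_eq_fintype_card, hQcard]
    omega
  rw [hA, hB] at hcount
  have hcount' : Nat.card (Subgroup.normalizer (Q : Set G))
      * Nat.card {x : G // x ≠ 1 ∧ InU Q x} = Nat.card G * (2 * k - 2) := by
    exact_mod_cast hcount
  have hcnr : Nat.card {x : G // x ≠ 1 ∧ InU Q x} = 2 * k * (2 * k - 2) := by
    rw [← h0']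
    apply Nat.card_congr
    exact Equiv.subtypeEquivRight fun x => hnrQ x
  have hNcard : Nat.card (Subgroup.normalizer (Q : Set G)) = (2 * k - 1) * (k - 1) := by
    rw [hcnr, hG] at hcount'
    have h1 : 0 < 2 * k * (2 * k - 2) := Nat.mul_pos (by omega) (by omega)
    apply Nat.eq_of_mul_eq_mul_right h1
    rw [hcount']; ring
  -- elements of `N(Q)` outside `Q` are real
  have hreal : ∀ y ∈ Subgroup.normalizer (Q : Set G), y ∉ Q → ∃ a, RealOut K y a := by
    intro y hyN hyQ
    have hy1 : y ≠ 1 := fun h' => hyQ (by rw [h']; exact Q.one_mem)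
    have hyU : ¬ InU K y := by
      rintro ⟨g, hg⟩
      apply hy1
      have h1 : orderOf y ∣ k := by
        rw [← orderOf_conj_eq g y, hk]
        exact Subgroup.orderOf_dvd_natCard K hg
      have h2 : orderOf y ∣ (2 * k - 1) * (k - 1) := by
        rw [← hNcard]
        exact Subgroup.orderOf_dvd_natCard _ hyN
      exact orderOf_eq_one_iff.1 (dvd_one_of_dvd_pair (by omega) h1 h2)
    have hy0 : (ψ : G → ℂ) y ≠ 0 := by
      intro hy0
      have hynr : f.NR y := ⟨hyU, hy0⟩
      apply hy1
      -- the action of `⟨y⟩` on the nonidentity elements of `Q` is free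
      set S : Finset G := (Finset.univ.filter (fun x : G => x ∈ Q)).erase 1 with hS
      have hScard : S.card = 2 * k - 2 := by
        rw [hS, Finset.card_erase_of_mem (by simp [Q.one_mem]), ← Fintype.card_subtype,
          ← Nat.card_eq_fintype_card, hQcard]
        omega
      have hEN : Subgroup.zpowers y ≤ Subgroup.normalizer (Q : Set G) :=
        (Subgroup.zpowers_le).2 hyN
      have hdvd := card_dvd_of_free_conj (Subgroup.zpowers y) _ S rfl
        (by
          intro e he z hz
          rw [hS, Finset.mem_erase, Finset.mem_filter] at hz ⊢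
          refine ⟨?_, Finset.mem_univ _, (Subgroup.mem_normalizer_iff.1 (hEN he) z).1 hz.2.2⟩
          intro h'
          apply hz.1
          have : z = e⁻¹ * (e * z * e⁻¹) * e := by group
          rw [this, h']; group)
        (by
          intro e he z hz hez
          rw [hS, Finset.mem_erase, Finset.mem_filter] at hz
          by_contra he1
          have h1 : e ∈ Q := by
            rw [← hcent z hz.2.2 hz.1, Subgroup.mem_centralizer_singleton_iff]
            have : e * z = (e * z * e⁻¹) * e := by group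
            rw [this, hez]
          have h2 : y ∈ Subgroup.centralizer ({e} : Set G) := by
            rw [Subgroup.mem_centralizer_singleton_iff]
            obtain ⟨j, hj⟩ := Subgroup.mem_zpowers_iff.1 he
            rw [← hj]
            exact ((Commute.refl y).zpow_right j).eq
          rw [hcent e h1 he1] at h2
          exact hyQ h2)
      rw [Nat.card_zpowers, hScard] at hdvd
      have h3 : orderOf y ∣ 2 * k - 1 := by
        rw [hk, ← (f.two_classes h d nm hε hynr).1]
        apply Subgroup.orderOf_dvd_natCard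
        rw [Subgroup.mem_centralizer_singleton_iff]
      have h4 : orderOf y ∣ 1 := by
        have : 2 * k - 1 = (2 * k - 2) + 1 := by omega
        rw [this] at h3
        exact (Nat.dvd_add_right hdvd).1 h3
      exact orderOf_eq_one_iff.1 (Nat.dvd_one.1 h4)
    exact f.exists_realOut h d nm hε hyU hy0
  -- the real elements
  have hR : ∀ y a, ∀ r : RealOut K y a,
      Nat.card (Subgroup.centralizer ({y} : Set G)) + 1 = Nat.card K ∧ Nat.card r.compl = 2 ∧
        y ∉ Q := by
    intro y a r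
    obtain ⟨h1, h2⟩ := f.psi_realOut h d nm hε r
    refine ⟨h2, f.compl_card_two h d nm hε r, ?_⟩
    intro hyQ
    have := (f.nr_of_mem_centralizer h d nm hε hu hyQ r.y_ne_one).2
    rw [h1] at this
    exact one_ne_zero this
  rw [hk] at hQcard hNcard hG
  exact h.concl_of_Q Q hk4 h.even_card_K hQcard hcent hNcard hG hreal hR

end Frag

end Cfsg.Agent.Lib.Helper7.ABSW
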