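import Mathlib
import Cfsg.Agent.Lib.Helper7.ABSW30

set_option autoImplicit false

/-!
# Abstract Brauer-Suzuki-Wall: the conclusion when `|K| ≥ 4`
-/

namespace Cfsg.Agent.Lib.Helper7.ABSW

open Cfsg Cfsg.Agent.Lib.Helper1 Cfsg.Agent.Lib.Helper4 Cfsg.Agent.Lib.Helper7.BSW
open Cfsg.Agent.Lib.Helper8
open scoped ComplexConjugate

universe u

variable {G : Type u} [Group G] [Fintype G]

variable {K : Subgroup G} {t s : G} [Fintype K] [Fintype (IrrCharacter K)]
variable {lam0 : IrrCharacter K} {R : Set (IrrCharacter K)} {ε : ℂ} {ψ : IrrCharacter G}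
  {χ : R → IrrCharacter G} {ψ₁ ψ₂ : IrrCharacter G} {a₁ a₂ : ℂ}

namespace Frag

variable [Fintype R]

/-- the conclusion in the case `ε = -1`. -/
theorem concl_neg (f : Frag K lam0 R ε ψ χ ψ₁ ψ₂ a₁ a₂) (h : Hyp K t s)
    (d : IrrData K lam0 R) (nm : Num K t ε ψ ψ₁ ψ₂ a₁ a₂) (hε : ε = -1) [Nonempty R]
    [Fintype (IrrCharacter G)] : Concl G := by
  classical
  have hc := h.cfg
  have hk4 := d.four_le hc
  obtain ⟨k, hk⟩ : ∃ k : ℕ, k = Nat.card K := ⟨_, rfl⟩
  rw [← hk] at hk4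
  -- a real element outside the conjugates of `K`
  have h1 := f.card_psi_ne_zero h d nm
  have hn := nm.hn
  rw [hε] at hn
  rw [hn, hε, ← hk] at h1
  have h1' : Nat.card {y : G // ¬ InU K y ∧ (ψ : G → ℂ) y ≠ 0}
      = (2 * k - 1) * (k * (k - 2)) := by
    have : ((Nat.card {y : G // ¬ InU K y ∧ (ψ : G → ℂ) y ≠ 0} : ℕ) : ℂ)
        = (((2 * k - 1) * (k * (k - 2)) : ℕ) : ℂ) := by
      rw [h1, Nat.cast_mul, Nat.cast_mul, Nat.cast_sub (by omega), Nat.cast_sub (by omega)]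
      push_cast; ring
    exact_mod_cast this
  have hne : Nonempty {y : G // ¬ InU K y ∧ (ψ : G → ℂ) y ≠ 0} := by
    have h2 : 0 < Nat.card {y : G // ¬ InU K y ∧ (ψ : G → ℂ) y ≠ 0} := by
      rw [h1']
      exact Nat.mul_pos (by omega) (Nat.mul_pos (by omega) (by omega))
    exact (Nat.card_pos_iff.1 h2).1
  obtain ⟨⟨y, hyU, hy0⟩⟩ := hne
  obtain ⟨a, r⟩ := f.exists_realOut h d nm hε hyU hy0
  set F := Subgroup.centralizer ({y} : Set G) with hF
  haveI : Fintype F := Fintype.ofFinite _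
  have hc2 := f.compl_card_two h d nm hε r
  have hcF : Cfg F a := r.cfg_of_card_two h hc2
  have hψF : ∀ z ∈ F, z ≠ 1 → (ψ : G → ℂ) z = 1 := fun z hz hz1 =>
    (f.psi_realOut h d nm hε (r.of_mem h hz hz1)).1
  have hodd : Odd (Nat.card F) := r.odd_card h
  obtain ⟨RF, dF⟩ := exists_oddData hcF hodd
  haveI : Fintype (IrrCharacter F) := Fintype.ofFinite _
  haveI : Fintype RF := Fintype.ofFinite _
  obtain ⟨θ, ex⟩ := f.exists_exc nm hε hcF hψF hodd dF
  have hcard : Fintype.card RF = Fintype.card R := by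
    have e1 := dF.card_eq hcF
    have e2 := d.card_eq hc
    have e3 := (f.psi_realOut h d nm hε r).2
    rw [← hF] at e3
    omega
  exact f.concl_neg_of_exc h d nm hε hcF hψF ex hcard

end Frag

/-- the conclusion when `K` has irreducible characters which are not real. -/
theorem Hyp.concl_of_nonempty (h : Hyp K t s) (d : IrrData K lam0 R) [Fintype R] [Nonempty R]
    [Fintype (IrrCharacter G)] : Concl G := by
  obtain ⟨ε, ψ, χ, ψ₁, ψ₂, a₁, a₂, f⟩ := h.exists_frag d
  have nm := f.num h d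
  rcases f.pre.hε with hε | hε
  · exact f.concl_pos h d nm hε
  · exact f.concl_neg h d nm hε

end Cfsg.Agent.Lib.Helper7.ABSW
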