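import Mathlib
import Cfsg.Agent.Lib.Helper7.ABSW31

set_option autoImplicit false

/-!
# Abstract Brauer-Suzuki-Wall: the families of real elements outside the conjugates of `K`
-/

namespace Cfsg.Agent.Lib.Helper7.ABSW

open Cfsg Cfsg.Agent.Lib.Helper1 Cfsg.Agent.Lib.Helper4 Cfsg.Agent.Lib.Helper7.BSW
open Cfsg.Agent.Lib.Helper8

universe u

variable {G : Type u} [Group G]

variable {K : Subgroup G} {t s y a : G}

/-- the family of `y`: the nonidentity elements of the conjugates of `C(y)`. -/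
def Fam (y x : G) : Prop := x ≠ 1 ∧ InU (Subgroup.centralizer ({y} : Set G)) x

namespace RealOut

theorem conj (r : RealOut K y a) (g : G) : RealOut K (g * y * g⁻¹) (g * a * g⁻¹) where
  hy := fun h' => r.hy ((inU_conj_iff g).1 h')
  ha := by rw [orderOf_conj_eq]; exact r.ha
  hay := by
    have e : g * a * g⁻¹ * (g * y * g⁻¹) * (g * a * g⁻¹)⁻¹ = g * (a * y * a⁻¹) * g⁻¹ := by group
    rw [e, r.hay]; group

theorem fam_self (r : RealOut K y a) : Fam y y := by
  refine ⟨r.y_ne_one, 1, ?_⟩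
  rw [Subgroup.mem_centralizer_singleton_iff]
  group

theorem real_of_fam [Finite G] (h : Hyp K t s) (r : RealOut K y a) {x : G} (hx : Fam y x) :
    ∃ b, RealOut K x b := by
  obtain ⟨hx1, g, hg⟩ := hx
  have hz1 : g * x * g⁻¹ ≠ 1 := by
    intro h'
    apply hx1
    have : x = g⁻¹ * (g * x * g⁻¹) * g := by group
    rw [this, h']; group
  have r1 := (r.of_mem h hg hz1).conj g⁻¹
  have e : g⁻¹ * (g * x * g⁻¹) * g⁻¹⁻¹ = x := by group
  rw [e] at r1
  exact ⟨_, r1⟩

theorem fam_disjoint [Finite G] (h : Hyp K t s) (r : RealOut K y a) {y' a' : G}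
    (r' : RealOut K y' a')
    (hn : ¬ Fam y y') (x : G) : ¬ (Fam y x ∧ Fam y' x) := by
  rintro ⟨⟨hx1, g, hg⟩, -, g', hg'⟩
  apply hn
  refine ⟨r'.y_ne_one, g * g'⁻¹, ?_⟩
  have hz1 : g * x * g⁻¹ ≠ 1 := by
    intro h'
    apply hx1
    have : x = g⁻¹ * (g * x * g⁻¹) * g := by group
    rw [this, h']; group
  have hz1' : g' * x * g'⁻¹ ≠ 1 := by
    intro h'
    apply hx1
    have : x = g'⁻¹ * (g' * x * g'⁻¹) * g' := by group
    rw [this, h']; group
  rw [← r.centralizer_eq h hg hz1, Subgroup.mem_centralizer_singleton_iff]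
  have h1 : y' ∈ Subgroup.centralizer ({g' * x * g'⁻¹} : Set G) := by
    rw [r'.centralizer_eq h hg' hz1', Subgroup.mem_centralizer_singleton_iff]
  rw [Subgroup.mem_centralizer_singleton_iff] at h1
  have e1 : g * g'⁻¹ * y' * (g * g'⁻¹)⁻¹ * (g * x * g⁻¹)
      = g * g'⁻¹ * (y' * (g' * x * g'⁻¹)) * g' * g⁻¹ := by group
  have e2 : g * x * g⁻¹ * (g * g'⁻¹ * y' * (g * g'⁻¹)⁻¹)
      = g * g'⁻¹ * ((g' * x * g'⁻¹) * y') * g' * g⁻¹ := by group
  rw [e1, e2, h1]

variable [Fintype G]

open Classical in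
theorem sum_fam (h : Hyp K t s) (r : RealOut K y a) (Φ : G → ℂ) (hΦ : IsClassFunction G Φ) :
    (Nat.card (Subgroup.normalizer
        ((Subgroup.centralizer ({y} : Set G) : Subgroup G) : Set G)) : ℂ)
      * ∑ x : G, (if Fam y x then Φ x else 0)
      = (Nat.card G : ℂ) * ∑ z : Subgroup.centralizer ({y} : Set G),
        (if (z : G) ≠ 1 then Φ z else 0) := by
  have h1 := sum_union_conj (Subgroup.centralizer ({y} : Set G)) _
    (fun _ _ hz hz1 hgz => r.ti h hz hz1 hgz)
    (fun _ hg z hz => (Subgroup.mem_normalizer_iff.1 hg z).1 hz) Φ hΦ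
  have e : ∀ x : G, (if Fam y x then Φ x else 0)
      = (if x ≠ 1 ∧ InU (Subgroup.centralizer ({y} : Set G)) x then Φ x else 0) := by
    intro x
    by_cases hx : x ≠ 1 ∧ InU (Subgroup.centralizer ({y} : Set G)) x
    · rw [if_pos hx, if_pos (show Fam y x from hx)]
    · rw [if_neg hx, if_neg (show ¬ Fam y x from hx)]
  simp only [e]
  exact h1

open Classical in
theorem sum_ne_one (A : Subgroup G) (c : ℂ) :
    ∑ z : A, (if (z : G) ≠ 1 then c else 0) = ((Nat.card A - 1 : ℕ) : ℂ) * c := by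
  rw [← Finset.sum_filter, Finset.sum_const, nsmul_eq_mul]
  congr 2
  have : (Finset.univ.filter (fun z : A => (z : G) ≠ 1)) = Finset.univ.erase 1 := by
    ext z
    simp only [Finset.mem_filter, Finset.mem_univ, true_and, Finset.mem_erase, and_true]
    exact ⟨fun h' h'' => h' (congrArg Subtype.val h''), fun h' h'' => h' (Subtype.ext h'')⟩
  rw [this, Finset.card_erase_of_mem (Finset.mem_univ _), Finset.card_univ,
    ← Nat.card_eq_fintype_card]

/-- the number of elements of a family. -/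
theorem card_fam (h : Hyp K t s) (r : RealOut K y a) :
    Nat.card (Subgroup.normalizer ((Subgroup.centralizer ({y} : Set G) : Subgroup G) : Set G))
      * Nat.card {x : G // Fam y x}
      = Nat.card G * (Nat.card (Subgroup.centralizer ({y} : Set G)) - 1) := by
  classical
  have h1 := r.sum_fam h (fun _ => (1 : ℂ)) (fun _ _ => rfl)
  rw [sum_ne_one, mul_one, Finset.sum_boole] at h1
  rw [Nat.card_eq_fintype_card (α := {x : G // Fam y x}), Fintype.card_subtype]
  exact_mod_cast h1

open Classical in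
/-- the sum of the number of representations as a product of two involutions over a family. -/
theorem sum_fam_Nfun (h : Hyp K t s) (r : RealOut K y a) :
    (Nat.card (Subgroup.normalizer
        ((Subgroup.centralizer ({y} : Set G) : Subgroup G) : Set G)) : ℂ)
      * ∑ x : G, (if Fam y x then Nfun t x else 0)
      = (Nat.card G : ℂ) * (((Nat.card (Subgroup.centralizer ({y} : Set G)) - 1 : ℕ) : ℂ)
        * (Nat.card (Subgroup.centralizer ({y} : Set G)) : ℂ)) := by
  rw [r.sum_fam h (Nfun t) (Nfun_isClassFunction t), ← sum_ne_one]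
  congr 1
  refine Finset.sum_congr rfl fun z _ => ?_
  by_cases hz : (z : G) ≠ 1
  · rw [if_pos hz, if_pos hz, h.Nfun_realOut (r.of_mem h z.2 hz), r.centralizer_eq h z.2 hz]
  · rw [if_neg hz, if_neg hz]

end RealOut

end Cfsg.Agent.Lib.Helper7.ABSW
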