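import Mathlib
import Cfsg.Agent.Lib.Helper7.ABSW32

set_option autoImplicit false

/-!
# Abstract Brauer-Suzuki-Wall: the case `|K| = 2`, counting
-/

namespace Cfsg.Agent.Lib.Helper7.ABSW

open Cfsg Cfsg.Agent.Lib.Helper1 Cfsg.Agent.Lib.Helper4 Cfsg.Agent.Lib.Helper7.BSW
open Cfsg.Agent.Lib.Helper8

universe u

variable {G : Type u} [Group G]

variable {K : Subgroup G} {t s y a : G}

/-- the arithmetic of two families. -/
theorem arith_two_fam {n f₁ f₂ : ℕ} (h1 : Odd f₁) (h2 : Odd f₂) (h3 : 3 ≤ f₁) (h4 : 3 ≤ f₂)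
    (hle : f₁ ≤ f₂) (hn : n + 1 = 2 * f₁ + 2 * f₂) (hd1 : f₁ ∣ 4 * n) (hd2 : f₂ ∣ 4 * n) :
    n = 15 ∧ f₂ = 5 := by
  have c1 : Nat.Coprime f₁ 4 := by
    have : Nat.Coprime f₁ (2 ^ 2) := Nat.Coprime.pow_right 2 (Nat.coprime_two_right.2 h1)
    simpa using this
  have c2 : Nat.Coprime f₂ 4 := by
    have : Nat.Coprime f₂ (2 ^ 2) := Nat.Coprime.pow_right 2 (Nat.coprime_two_right.2 h2)
    simpa using this
  have d1 : f₁ ∣ n := c1.dvd_of_dvd_mul_left hd1
  have d2 : f₂ ∣ n := c2.dvd_of_dvd_mul_left hd2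
  -- `f₂ ∣ 2 f₁ - 1`
  have e2 : f₂ ∣ 2 * f₁ - 1 := by
    have : n = 2 * f₂ + (2 * f₁ - 1) := by omega
    rw [this] at d2
    exact (Nat.dvd_add_right (Dvd.intro_left 2 rfl)).1 d2
  have e1 : f₁ ∣ 2 * f₂ - 1 := by
    have : n = 2 * f₁ + (2 * f₂ - 1) := by omega
    rw [this] at d1
    exact (Nat.dvd_add_right (Dvd.intro_left 2 rfl)).1 d1
  obtain ⟨m, hm⟩ := e2
  have hm1 : m = 1 := by
    rcases Nat.lt_or_ge m 2 with h' | h'
    · have : m ≠ 0 := by
        rintro rfl
        omega
      omega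
    · exfalso
      have : f₂ * 2 ≤ f₂ * m := Nat.mul_le_mul_left _ h'
      omega
  rw [hm1, mul_one] at hm
  have e3 : f₁ ∣ 3 := by
    have : 2 * f₂ - 1 + 3 = 4 * f₁ := by omega
    have h5 : f₁ ∣ 2 * f₂ - 1 + 3 := by rw [this]; exact Dvd.intro_left 4 rfl
    exact (Nat.dvd_add_right e1).1 h5
  have e4 : f₁ = 3 := by
    have := Nat.le_of_dvd (by norm_num) e3
    omega
  omega

namespace Hyp

variable [Finite G]

/-- for `|K| = 2`, the complement has order two. -/
theorem card_compl_of_card_two (h : Hyp K t s) (hK2 : Nat.card K = 2) (r : RealOut K y a) :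
    Nat.card r.compl = 2 := by
  have h1 := r.card_compl_dvd h
  rw [hK2] at h1
  rcases (Nat.dvd_prime Nat.prime_two).1 h1 with h' | h'
  · exfalso
    have h2 := Subgroup.card_eq_one.1 h'
    have h3 := r.a_mem_compl
    rw [h2, Subgroup.mem_bot] at h3
    exact ne_one_of_orderOf_two r.ha h3
  · exact h'

/-- for `|K| = 2`, the conjugates of `K` consist of the involutions and the identity. -/
theorem inU_of_card_two (h : Hyp K t s) (hK2 : Nat.card K = 2) {g : G} (hg : InU K g) :
    g = 1 ∨ orderOf g = 2 := by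
  obtain ⟨c, hc⟩ := hg
  have h1 : (⟨c * g * c⁻¹, hc⟩ : K) ^ Nat.card K = 1 := pow_card_eq_one'
  rw [hK2] at h1
  have h2 : (c * g * c⁻¹) ^ 2 = 1 := by
    have := congrArg Subtype.val h1
    simpa using this
  have h3 : g ^ 2 = 1 := by
    have e : g ^ 2 = c⁻¹ * (c * g * c⁻¹) ^ 2 * c := by
      rw [pow_two, pow_two]; group
    rw [e, h2]; group
  by_cases hg1 : g = 1
  · exact Or.inl hg1
  · exact Or.inr (orderOf_eq_prime h3 hg1)

theorem card_centralizer_ge_three (h : Hyp K t s) (r : RealOut K y a) :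
    3 ≤ Nat.card (Subgroup.centralizer ({y} : Set G)) := by
  obtain ⟨j, hj⟩ := r.odd_card h
  have h2 : Nat.card (Subgroup.centralizer ({y} : Set G)) ≠ 1 := by
    intro h'
    have h3 := Subgroup.card_eq_one.1 h'
    have h4 : y ∈ Subgroup.centralizer ({y} : Set G) := by
      rw [Subgroup.mem_centralizer_singleton_iff]
    rw [h3, Subgroup.mem_bot] at h4
    exact r.y_ne_one h4
  omega

end Hyp

variable [Fintype G]

/-- the total number of pairs of involutions. -/
theorem sum_Nfun (t : G) :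
    ∑ g : G, Nfun t g = ((Subgroup.centralizer ({t} : Set G)).index : ℂ) ^ 2 := by
  have h0 : ∑ x : G, classIndicator t x = ((Subgroup.centralizer ({t} : Set G)).index : ℂ) := by
    have := Cfsg.Agent.S0141.sum_classIndicator_mul t (fun _ => (1 : ℂ)) (fun _ _ => rfl)
    simpa using this
  unfold Nfun
  simp only [conv_apply]
  rw [Finset.sum_comm]
  have h1 : ∀ y : G, ∑ x : G, classIndicator t y * classIndicator t (y⁻¹ * x)
      = classIndicator t y * ((Subgroup.centralizer ({t} : Set G)).index : ℂ) := by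
    intro y
    rw [← Finset.mul_sum, ← h0]
    congr 1
    exact Equiv.sum_comp (Equiv.mulLeft y⁻¹) (classIndicator t)
  simp only [h1]
  rw [← Finset.sum_mul, h0, pow_two]

namespace Hyp

open Classical in
/-- the pointwise decomposition of the number of pairs of involutions, for `|K| = 2`. -/
theorem Nfun_split (h : Hyp K t s) (hK2 : Nat.card K = 2) (g : G) :
    Nfun t g = (if g = 1 then ((Subgroup.centralizer ({t} : Set G)).index : ℂ) else 0)
      + (if orderOf g = 2 then 2 else 0)
      + (if ∃ a, RealOut K g a then Nfun t g else 0) := by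
  by_cases hg1 : g = 1
  · have h1 : ¬ orderOf g = 2 := by rw [hg1, orderOf_one]; norm_num
    have h2 : ¬ ∃ a, RealOut K g a := by
      rintro ⟨a, r⟩
      exact r.y_ne_one hg1
    rw [if_pos hg1, if_neg h1, if_neg h2, hg1, h.Nfun_one]
    ring
  · by_cases hg2 : orderOf g = 2
    · have h2 : ¬ ∃ a, RealOut K g a := by
        rintro ⟨a, r⟩
        exact r.hy (h.inU_of_orderOf_two hg2)
      obtain ⟨c, hc⟩ := h.exists_conj_t hg2
      rw [if_neg hg1, if_pos hg2, if_neg h2, ← hc, Nfun_isClassFunction t t c,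
        h.Nfun_mem h.htK h.t_ne_one, hK2]
      push_cast; ring
    · by_cases hg3 : ∃ a, RealOut K g a
      · rw [if_neg hg1, if_neg hg2, if_pos hg3]
        ring
      · rw [if_neg hg1, if_neg hg2, if_neg hg3]
        have : Nfun t g = 0 := by
          apply h.Nfun_nonreal
          intro a ha hag
          apply hg3
          refine ⟨a, ⟨?_, ha, hag⟩⟩
          intro hU
          rcases h.inU_of_card_two hK2 hU with h' | h'
          · exact hg1 h'
          · exact hg2 h'
        rw [this]; ring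

open Classical in
/-- the main counting identity, for `|K| = 2`. -/
theorem sum_Nfun_real (h : Hyp K t s) (hK2 : Nat.card K = 2) :
    ((Subgroup.centralizer ({t} : Set G)).index : ℂ) ^ 2
      = 3 * ((Subgroup.centralizer ({t} : Set G)).index : ℂ)
        + ∑ g : G, (if ∃ a, RealOut K g a then Nfun t g else 0) := by
  rw [← sum_Nfun t]
  have h1 : ∑ g : G, Nfun t g = ∑ g : G,
      ((if g = 1 then ((Subgroup.centralizer ({t} : Set G)).index : ℂ) else 0)
      + (if orderOf g = 2 then 2 else 0)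
      + (if ∃ a, RealOut K g a then Nfun t g else 0)) :=
    Finset.sum_congr rfl fun g _ => h.Nfun_split hK2 g
  rw [h1, Finset.sum_add_distrib, Finset.sum_add_distrib, Finset.sum_ite_eq' Finset.univ 1,
    if_pos (Finset.mem_univ _)]
  have h2 : ∑ g : G, (if orderOf g = 2 then (2 : ℂ) else 0)
      = 2 * ((Subgroup.centralizer ({t} : Set G)).index : ℂ) := by
    rw [← Finset.sum_filter, Finset.sum_const, nsmul_eq_mul, h.index_eq_card_invol,
      Nat.card_eq_fintype_card, Fintype.card_subtype]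
    ring
  rw [h2]; ring

end Hyp

namespace RealOut

open Classical in
/-- the contribution of a family, for `|K| = 2`. -/
theorem sum_fam_two (h : Hyp K t s) (hK2 : Nat.card K = 2) (r : RealOut K y a) :
    ∑ x : G, (if Fam y x then Nfun t x else 0)
      = 2 * ((Subgroup.centralizer ({t} : Set G)).index : ℂ)
        * ((Nat.card (Subgroup.centralizer ({y} : Set G)) - 1 : ℕ) : ℂ) := by
  have h1 := r.sum_fam_Nfun h
  rw [r.card_normalizer h, h.card_compl_of_card_two hK2 r, h.card_G, hK2] at h1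
  have hf0 : (Nat.card (Subgroup.centralizer ({y} : Set G)) : ℂ) ≠ 0 :=
    Nat.cast_ne_zero.2 Nat.card_pos.ne'
  have h2 : (2 * (Nat.card (Subgroup.centralizer ({y} : Set G)) : ℂ)) ≠ 0 :=
    mul_ne_zero two_ne_zero hf0
  apply mul_left_cancel₀ h2
  push_cast at h1 ⊢
  linear_combination h1

/-- the size of a family, for `|K| = 2`. -/
theorem card_fam_two (h : Hyp K t s) (hK2 : Nat.card K = 2) (r : RealOut K y a) :
    Nat.card (Subgroup.centralizer ({y} : Set G)) * Nat.card {x : G // Fam y x}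
      = 2 * (Subgroup.centralizer ({t} : Set G)).index
        * (Nat.card (Subgroup.centralizer ({y} : Set G)) - 1) := by
  have h1 := r.card_fam h
  rw [r.card_normalizer h, h.card_compl_of_card_two hK2 r, h.card_G, hK2] at h1
  have : 2 * (Nat.card (Subgroup.centralizer ({y} : Set G)) * Nat.card {x : G // Fam y x})
      = 2 * (2 * (Subgroup.centralizer ({t} : Set G)).index
        * (Nat.card (Subgroup.centralizer ({y} : Set G)) - 1)) := by
    rw [← mul_assoc, mul_comm 2 (Nat.card _), h1]; ring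
  exact Nat.eq_of_mul_eq_mul_left (by norm_num) this

/-- a family is large, for `|K| = 2`. -/
theorem card_fam_ge (h : Hyp K t s) (hK2 : Nat.card K = 2) (r : RealOut K y a) :
    4 * (Subgroup.centralizer ({t} : Set G)).index ≤ 3 * Nat.card {x : G // Fam y x} := by
  have h1 := r.card_fam_two h hK2
  have h2 := h.card_centralizer_ge_three r
  obtain ⟨l, hl⟩ : ∃ l : ℕ, Nat.card (Subgroup.centralizer ({y} : Set G)) = l + 3 :=
    ⟨_, (Nat.sub_add_cancel h2).symm⟩
  rw [hl] at h1
  have h4 : l + 3 - 1 = l + 2 := by omega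
  rw [h4] at h1
  by_contra hlt
  push Not at hlt
  have h5 : (l + 3) * (3 * Nat.card {x : G // Fam y x})
      < (l + 3) * (4 * (Subgroup.centralizer ({t} : Set G)).index) :=
    Nat.mul_lt_mul_of_pos_left hlt (by omega)
  have h6 : (l + 3) * (3 * Nat.card {x : G // Fam y x})
      = 3 * (2 * (Subgroup.centralizer ({t} : Set G)).index * (l + 2)) := by
    rw [← h1]; ring
  rw [h6] at h5
  have h7 : 3 * (2 * (Subgroup.centralizer ({t} : Set G)).index * (l + 2))
      = (l + 3) * (4 * (Subgroup.centralizer ({t} : Set G)).index)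
        + 2 * l * (Subgroup.centralizer ({t} : Set G)).index := by
    ring
  omega

end RealOut

end Cfsg.Agent.Lib.Helper7.ABSW
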