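import Mathlib
import Cfsg.Agent.Lib.Helper7.ABSW33

set_option autoImplicit false

/-!
# Abstract Brauer-Suzuki-Wall: the case `|K| = 2`, the number of involutions
-/

namespace Cfsg.Agent.Lib.Helper7.ABSW

open Cfsg Cfsg.Agent.Lib.Helper1 Cfsg.Agent.Lib.Helper4 Cfsg.Agent.Lib.Helper7.BSW
open Cfsg.Agent.Lib.Helper8

universe u

variable {G : Type u} [Group G] [Fintype G]

variable {K : Subgroup G} {t s : G}

namespace Hyp

/-- for `|K| = 2`: there are `3` involutions and no real elements outside the conjugates of `K`,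
or there are `15` involutions and a real element with centralizer of order `5`. -/
theorem card_two_cases (h : Hyp K t s) (hK2 : Nat.card K = 2) :
    ((Subgroup.centralizer ({t} : Set G)).index = 3 ∧ ∀ y a, ¬ RealOut K y a) ∨
    ((Subgroup.centralizer ({t} : Set G)).index = 15 ∧ ∃ y a, RealOut K y a ∧
      Nat.card (Subgroup.centralizer ({y} : Set G)) = 5) := by
  classical
  obtain ⟨n, hn⟩ : ∃ n : ℕ, n = (Subgroup.centralizer ({t} : Set G)).index := ⟨_, rfl⟩
  have hn0 : 0 < n := by
    rw [hn]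
    obtain ⟨j, hj⟩ := h.odd_index
    omega
  have hmain := h.sum_Nfun_real hK2
  have hG : Nat.card G = 4 * n := by rw [h.card_G, hK2, ← hn]
  rw [← hn] at hmain ⊢
  have hdvd : ∀ y : G, Nat.card (Subgroup.centralizer ({y} : Set G)) ∣ 4 * n := by
    intro y
    rw [← hG]
    exact Subgroup.card_subgroup_dvd_card _
  by_cases hA : ∀ y a, ¬ RealOut K y a
  · left
    refine ⟨?_, hA⟩
    have h0 : ∑ g : G, (if ∃ a, RealOut K g a then Nfun t g else 0) = 0 :=
      Finset.sum_eq_zero fun g _ => if_neg (fun ⟨a, r⟩ => hA g a r)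
    rw [h0, add_zero] at hmain
    have h1 : n * n = 3 * n := by
      have : ((n * n : ℕ) : ℂ) = ((3 * n : ℕ) : ℂ) := by
        push_cast
        rw [← pow_two]
        exact hmain
      exact_mod_cast this
    exact Nat.eq_of_mul_eq_mul_right hn0 h1
  · right
    push Not at hA
    obtain ⟨y₁, a₁, r₁⟩ := hA
    obtain ⟨f₁, hf₁⟩ : ∃ f₁ : ℕ, f₁ = Nat.card (Subgroup.centralizer ({y₁} : Set G)) :=
      ⟨_, rfl⟩
    have hf₁3 : 3 ≤ f₁ := by rw [hf₁]; exact h.card_centralizer_ge_three r₁
    have hf₁o : Odd f₁ := by rw [hf₁]; exact r₁.odd_card h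
    have hS₁ := r₁.sum_fam_two h hK2
    rw [← hn, ← hf₁] at hS₁
    by_cases hB1 : ∀ g, (∃ a, RealOut K g a) → Fam y₁ g
    · exfalso
      have e : ∀ g, (if ∃ a, RealOut K g a then Nfun t g else 0)
          = (if Fam y₁ g then Nfun t g else 0) := by
        intro g
        by_cases hg : ∃ a, RealOut K g a
        · rw [if_pos hg, if_pos (hB1 g hg)]
        · rw [if_neg hg, if_neg (fun h' => hg (r₁.real_of_fam h h'))]
      simp only [e] at hmain
      rw [hS₁] at hmain
      have h2 : n * n = n * (3 + 2 * (f₁ - 1)) := by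
        have : ((n * n : ℕ) : ℂ) = ((n * (3 + 2 * (f₁ - 1)) : ℕ) : ℂ) := by
          push_cast
          rw [← pow_two, hmain]
          ring
        exact_mod_cast this
      have h3 : n = 3 + 2 * (f₁ - 1) := Nat.eq_of_mul_eq_mul_left hn0 h2
      have h4 : f₁ ∣ 4 * n := by rw [hf₁]; exact hdvd y₁
      have h5 : 4 * n = 8 * f₁ + 4 := by omega
      rw [h5] at h4
      have h6 : f₁ ∣ 4 := (Nat.dvd_add_right (Dvd.intro_left 8 rfl)).1 h4
      have h7 : f₁ ≤ 4 := Nat.le_of_dvd (by norm_num) h6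
      obtain ⟨j, hj⟩ := hf₁o
      have h8 : f₁ = 3 := by omega
      rw [h8] at h6
      norm_num at h6
    · push Not at hB1
      obtain ⟨y₂, ⟨a₂, r₂⟩, hy₂⟩ := hB1
      obtain ⟨f₂, hf₂⟩ : ∃ f₂ : ℕ, f₂ = Nat.card (Subgroup.centralizer ({y₂} : Set G)) :=
        ⟨_, rfl⟩
      have hf₂3 : 3 ≤ f₂ := by rw [hf₂]; exact h.card_centralizer_ge_three r₂
      have hf₂o : Odd f₂ := by rw [hf₂]; exact r₂.odd_card h
      have hS₂ := r₂.sum_fam_two h hK2
      rw [← hn, ← hf₂] at hS₂
      have hd12 : ∀ g, ¬ (Fam y₁ g ∧ Fam y₂ g) := r₁.fam_disjoint h r₂ hy₂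
      by_cases hB2 : ∀ g, (∃ a, RealOut K g a) → Fam y₁ g ∨ Fam y₂ g
      · have e : ∀ g, (if ∃ a, RealOut K g a then Nfun t g else 0)
            = (if Fam y₁ g then Nfun t g else 0) + (if Fam y₂ g then Nfun t g else 0) := by
          intro g
          by_cases hg : ∃ a, RealOut K g a
          · rcases hB2 g hg with h' | h'
            · rw [if_pos hg, if_pos h', if_neg (fun h'' => hd12 g ⟨h', h''⟩), add_zero]
            · rw [if_pos hg, if_pos h', if_neg (fun h'' => hd12 g ⟨h'', h'⟩), zero_add]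
          · rw [if_neg hg, if_neg (fun h' => hg (r₁.real_of_fam h h')),
              if_neg (fun h' => hg (r₂.real_of_fam h h')), add_zero]
        simp only [e] at hmain
        rw [Finset.sum_add_distrib, hS₁, hS₂] at hmain
        have h2 : n * n = n * (3 + 2 * (f₁ - 1) + 2 * (f₂ - 1)) := by
          have : ((n * n : ℕ) : ℂ) = ((n * (3 + 2 * (f₁ - 1) + 2 * (f₂ - 1)) : ℕ) : ℂ) := by
            push_cast
            rw [← pow_two, hmain]
            ring
          exact_mod_cast this
        have h3 : n = 3 + 2 * (f₁ - 1) + 2 * (f₂ - 1) := Nat.eq_of_mul_eq_mul_left hn0 h2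
        have h4 : n + 1 = 2 * f₁ + 2 * f₂ := by omega
        have hd1 : f₁ ∣ 4 * n := by rw [hf₁]; exact hdvd y₁
        have hd2 : f₂ ∣ 4 * n := by rw [hf₂]; exact hdvd y₂
        rcases le_total f₁ f₂ with hle | hle
        · obtain ⟨e1, e2⟩ := arith_two_fam hf₁o hf₂o hf₁3 hf₂3 hle h4 hd1 hd2
          exact ⟨e1, y₂, a₂, r₂, by rw [← hf₂, e2]⟩
        · have h4' : n + 1 = 2 * f₂ + 2 * f₁ := by omega
          obtain ⟨e1, e2⟩ := arith_two_fam hf₂o hf₁o hf₂3 hf₁3 hle h4' hd2 hd1
          exact ⟨e1, y₁, a₁, r₁, by rw [← hf₁, e2]⟩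
      · exfalso
        push Not at hB2
        obtain ⟨y₃, ⟨a₃, r₃⟩, hy₃1, hy₃2⟩ := hB2
        have hd13 : ∀ g, ¬ (Fam y₁ g ∧ Fam y₃ g) := r₁.fam_disjoint h r₃ hy₃1
        have hd23 : ∀ g, ¬ (Fam y₂ g ∧ Fam y₃ g) := r₂.fam_disjoint h r₃ hy₃2
        have hX : ∀ g, (∃ a, RealOut K g a) → g ≠ 1 ∧ ¬ orderOf g = 2 := by
          rintro g ⟨b, rb⟩
          exact ⟨rb.y_ne_one, fun h' => rb.hy (h.inU_of_orderOf_two h')⟩
        have hpt : ∀ g : G, (if Fam y₁ g then 1 else 0) + (if Fam y₂ g then 1 else 0)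
            + (if Fam y₃ g then 1 else 0) + (if g = 1 then 1 else 0)
            + (if orderOf g = 2 then 1 else 0) ≤ 1 := by
          intro g
          by_cases h1 : Fam y₁ g
          · obtain ⟨n1, n2⟩ := hX g (r₁.real_of_fam h h1)
            rw [if_pos h1, if_neg (fun h' => hd12 g ⟨h1, h'⟩), if_neg (fun h' => hd13 g ⟨h1, h'⟩),
              if_neg n1, if_neg n2]
          · by_cases h2 : Fam y₂ g
            · obtain ⟨n1, n2⟩ := hX g (r₂.real_of_fam h h2)
              rw [if_neg h1, if_pos h2, if_neg (fun h' => hd23 g ⟨h2, h'⟩), if_neg n1, if_neg n2]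
            · by_cases h3 : Fam y₃ g
              · obtain ⟨n1, n2⟩ := hX g (r₃.real_of_fam h h3)
                rw [if_neg h1, if_neg h2, if_pos h3, if_neg n1, if_neg n2]
              · by_cases h4 : g = 1
                · have n2 : ¬ orderOf g = 2 := by rw [h4, orderOf_one]; norm_num
                  rw [if_neg h1, if_neg h2, if_neg h3, if_pos h4, if_neg n2]
                · rw [if_neg h1, if_neg h2, if_neg h3, if_neg h4]
                  split_ifs <;> norm_num
        have hsum := Finset.sum_le_sum (s := (Finset.univ : Finset G)) fun g _ => hpt g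
        rw [Finset.sum_add_distrib, Finset.sum_add_distrib, Finset.sum_add_distrib,
          Finset.sum_add_distrib] at hsum
        simp only [← Finset.card_filter] at hsum
        rw [Finset.sum_const, Finset.card_univ, smul_eq_mul, mul_one,
          ← Nat.card_eq_fintype_card, hG] at hsum
        have c1 := r₁.card_fam_ge h hK2
        have c2 := r₂.card_fam_ge h hK2
        have c3 := r₃.card_fam_ge h hK2
        rw [← hn, Nat.card_eq_fintype_card, Fintype.card_subtype] at c1 c2 c3
        have c4 : (Finset.univ.filter (fun g : G => g = 1)).card = 1 := by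
          rw [Finset.card_eq_one]
          refine ⟨1, ?_⟩
          ext x
          simp
        have c5 : (Finset.univ.filter (fun g : G => orderOf g = 2)).card = n := by
          rw [hn, h.index_eq_card_invol, Nat.card_eq_fintype_card, Fintype.card_subtype]
        rw [c4, c5] at hsum
        omega

end Hyp

end Cfsg.Agent.Lib.Helper7.ABSW
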