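import Mathlib
import Cfsg.Agent.Lib.Helper7.ABSW34

set_option autoImplicit false

/-!
# Abstract Brauer-Suzuki-Wall: the case `|K| = 2`, conclusion
-/

namespace Cfsg.Agent.Lib.Helper7.ABSW

open Cfsg Cfsg.Agent.Lib.Helper1 Cfsg.Agent.Lib.Helper4 Cfsg.Agent.Lib.Helper7.BSW
open Cfsg.Agent.Lib.Helper8

universe u

variable {G : Type u} [Group G]

variable {K : Subgroup G} {t s y a : G}

namespace Hyp

variable [Finite G]

/-- the centralizer of an element outside the conjugates of `K` has odd order. -/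
theorem odd_card_centralizer (h : Hyp K t s) {y : G} (hy : ¬ InU K y) :
    Odd (Nat.card (Subgroup.centralizer ({y} : Set G))) := by
  rw [← Nat.not_even_iff_odd]
  intro he
  haveI : Fact (Nat.Prime 2) := ⟨Nat.prime_two⟩
  obtain ⟨x, hx⟩ := exists_prime_orderOf_dvd_card' (G := Subgroup.centralizer ({y} : Set G)) 2
    he.two_dvd
  have hx2 : orderOf (x : G) = 2 := by rw [Subgroup.orderOf_coe, hx]
  exact h.not_comm_invol hy hx2 (Subgroup.mem_centralizer_singleton_iff.1 x.2)

/-- the conclusion when `|K| = 2` and there are `15` involutions. -/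
theorem concl_of_fifteen (h : Hyp K t s) (hK2 : Nat.card K = 2)
    (hn : (Subgroup.centralizer ({t} : Set G)).index = 15) (r : RealOut K y a)
    (hQ : Nat.card (Subgroup.centralizer ({y} : Set G)) = 5) : Concl G := by
  haveI : Fintype G := Fintype.ofFinite G
  have hG : Nat.card G = 60 := by rw [h.card_G, hK2, hn]
  have hc2 := h.card_compl_of_card_two hK2 r
  have hNQ := r.card_normalizer h
  rw [hQ, hc2] at hNQ
  set Q := Subgroup.centralizer ({y} : Set G) with hQdef
  obtain ⟨c, hct, hcle⟩ := r.exists_conj_compl_le h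
  have hceq : r.compl = K.map (MulAut.conj c).toMonoidHom := by
    apply Subgroup.eq_of_le_of_card_ge hcle
    rw [Hyp.card_conj, hK2, hc2]
  have hinf : Q ⊓ K.map (MulAut.conj c).toMonoidHom = ⊥ := by
    rw [← hceq, eq_bot_iff]
    intro z hz
    rw [Subgroup.mem_bot]
    exact r.eq_one_of_mem_compl h (Subgroup.mem_inf.1 hz).1 (Subgroup.mem_inf.1 hz).2
  have hN : Subgroup.normalizer (Q : Set G) = Q ⊔ K.map (MulAut.conj c).toMonoidHom := by
    apply eq_sup_of_card Subgroup.le_normalizer _ hinf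
    · rw [hNQ, hQ, Hyp.card_conj, hK2]
    · rw [← hceq]
      exact inf_le_left
  apply h.concl_conj Q c _ (fun x hx hx1 => r.centralizer_eq h hx hx1) _ hinf hN
  · rw [hQ, hG]
  · rw [hQ, hK2]

/-- the conclusion when `|K| = 2` and there are `3` involutions. -/
theorem concl_of_three (h : Hyp K t s) (hK2 : Nat.card K = 2)
    (hn : (Subgroup.centralizer ({t} : Set G)).index = 3) (hA : ∀ y a, ¬ RealOut K y a) :
    Concl G := by
  haveI : Fintype G := Fintype.ofFinite G
  have hG : Nat.card G = 12 := by rw [h.card_G, hK2, hn]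
  -- the centralizers of the elements outside the conjugates of `K` have order `3`
  have hc3 : ∀ z : G, ¬ InU K z → Nat.card (Subgroup.centralizer ({z} : Set G)) = 3 := by
    intro z hz
    have h1 := h.odd_card_centralizer hz
    have h2 : Nat.card (Subgroup.centralizer ({z} : Set G)) ∣ 4 * 3 := by
      have := Subgroup.card_subgroup_dvd_card (Subgroup.centralizer ({z} : Set G))
      rwa [hG] at this
    have c1 : Nat.Coprime (Nat.card (Subgroup.centralizer ({z} : Set G))) 4 := by
      have : Nat.Coprime (Nat.card (Subgroup.centralizer ({z} : Set G))) (2 ^ 2) :=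
        Nat.Coprime.pow_right 2 (Nat.coprime_two_right.2 h1)
      simpa using this
    have h3 : Nat.card (Subgroup.centralizer ({z} : Set G)) ∣ 3 := c1.dvd_of_dvd_mul_left h2
    rcases (Nat.dvd_prime Nat.prime_three).1 h3 with h' | h'
    · exfalso
      have h4 := Subgroup.card_eq_one.1 h'
      have h5 : z ∈ Subgroup.centralizer ({z} : Set G) := by
        rw [Subgroup.mem_centralizer_singleton_iff]
      rw [h4, Subgroup.mem_bot] at h5
      exact ne_one_of_not_inU hz h5
    · exact h'
  -- an element of order three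
  haveI : Fact (Nat.Prime 3) := ⟨Nat.prime_three⟩
  obtain ⟨x, hx⟩ := exists_prime_orderOf_dvd_card' (G := G) 3 (by rw [hG]; norm_num)
  have hxU : ¬ InU K x := by
    intro h'
    rcases h.inU_of_card_two hK2 h' with h'' | h''
    · rw [h'', orderOf_one] at hx
      norm_num at hx
    · rw [hx] at h''
      norm_num at h''
  set Q := Subgroup.centralizer ({x} : Set G) with hQdef
  have hQ : Nat.card Q = 3 := hc3 x hxU
  have hxQ : x ∈ Q := by
    rw [hQdef, Subgroup.mem_centralizer_singleton_iff]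
  -- `Q` is generated by `x`
  have hQz : Subgroup.zpowers x = Q := by
    apply Subgroup.eq_of_le_of_card_ge ((Subgroup.zpowers_le).2 hxQ)
    rw [Nat.card_zpowers, hx, hQ]
  have hcomm : ∀ z ∈ Q, ∀ w ∈ Q, z * w = w * z := by
    intro z hz w hw
    rw [← hQz] at hz hw
    obtain ⟨i, rfl⟩ := Subgroup.mem_zpowers_iff.1 hz
    obtain ⟨j, rfl⟩ := Subgroup.mem_zpowers_iff.1 hw
    exact ((Commute.refl x).zpow_zpow i j).eq
  have hnotU : ∀ z ∈ Q, z ≠ 1 → ¬ InU K z := fun z hz hz1 =>
    h.not_inU_of_comm hxU (Subgroup.mem_centralizer_singleton_iff.1 hz) hz1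
  have hcent : ∀ z ∈ Q, z ≠ 1 → Subgroup.centralizer ({z} : Set G) = Q := by
    intro z hz hz1
    symm
    apply Subgroup.eq_of_le_of_card_ge
    · intro w hw
      rw [Subgroup.mem_centralizer_singleton_iff]
      exact hcomm w hw z hz
    · rw [hc3 z (hnotU z hz hz1), hQ]
  -- the normalizer of `Q` has odd order
  have hNodd : Odd (Nat.card (Subgroup.normalizer (Q : Set G))) := by
    rw [← Nat.not_even_iff_odd]
    intro he
    haveI : Fact (Nat.Prime 2) := ⟨Nat.prime_two⟩
    obtain ⟨b, hb⟩ := exists_prime_orderOf_dvd_card'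
      (G := Subgroup.normalizer (Q : Set G)) 2 he.two_dvd
    have hb2 : orderOf (b : G) = 2 := by rw [Subgroup.orderOf_coe, hb]
    have hbb : (b : G) * (b : G) = 1 := sq_of_orderOf_two hb2
    have hbinv : (b : G)⁻¹ = (b : G) := inv_of_orderOf_two hb2
    have hbx : (b : G) * x * (b : G)⁻¹ ∈ Q := (Subgroup.mem_normalizer_iff.1 b.2 x).1 hxQ
    -- `w = x (b x b⁻¹)` commutes with `b`
    have hw : x * ((b : G) * x * (b : G)⁻¹) ∈ Q := Q.mul_mem hxQ hbx
    have hwb : (b : G) * (x * ((b : G) * x * (b : G)⁻¹)) = x * ((b : G) * x * (b : G)⁻¹) * b := by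
      have e1 : (b : G) * (x * ((b : G) * x * (b : G)⁻¹))
          = ((b : G) * x * (b : G)⁻¹) * ((b : G) * (b : G)) * x * (b : G)⁻¹ := by group
      rw [e1, hbb, mul_one, hcomm _ hbx x hxQ, hbinv]
    by_cases hw1 : x * ((b : G) * x * (b : G)⁻¹) = 1
    · have hinv : (b : G) * x * (b : G)⁻¹ = x⁻¹ := by
        have : (b : G) * x * (b : G)⁻¹ = x⁻¹ * (x * ((b : G) * x * (b : G)⁻¹)) := by group
        rw [this, hw1, mul_one]
      exact hA x b ⟨hxU, hb2, hinv⟩
    · exact h.not_comm_invol (hnotU _ hw hw1) hb2 hwb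
  have hNcard : Nat.card (Subgroup.normalizer (Q : Set G)) = 3 := by
    have h2 : Nat.card (Subgroup.normalizer (Q : Set G)) ∣ 4 * 3 := by
      have := Subgroup.card_subgroup_dvd_card (Subgroup.normalizer (Q : Set G))
      rwa [hG] at this
    have c1 : Nat.Coprime (Nat.card (Subgroup.normalizer (Q : Set G))) 4 := by
      have : Nat.Coprime (Nat.card (Subgroup.normalizer (Q : Set G))) (2 ^ 2) :=
        Nat.Coprime.pow_right 2 (Nat.coprime_two_right.2 hNodd)
      simpa using this
    have h3 : Nat.card (Subgroup.normalizer (Q : Set G)) ∣ 3 := c1.dvd_of_dvd_mul_left h2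
    have h4 : Nat.card Q ≤ Nat.card (Subgroup.normalizer (Q : Set G)) :=
      Subgroup.card_le_of_le Subgroup.le_normalizer
    have h5 := Nat.le_of_dvd (by norm_num) h3
    omega
  have hNQ : Subgroup.normalizer (Q : Set G) = Q := by
    symm
    apply Subgroup.eq_of_le_of_card_ge Subgroup.le_normalizer
    rw [hNcard, hQ]
  refine ⟨Q, ⊥, ?_, hcent, ?_, ?_, inf_bot_eq _, ?_, ?_⟩
  · rw [hQ, hG]
  · rw [isMulCommutative_iff]
    rintro ⟨z, hz⟩ ⟨w, hw⟩
    apply Subtype.ext
    rw [Subgroup.mem_bot] at hz hw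
    simp [hz, hw]
  · rw [Subgroup.card_bot, hQ]
  · rw [sup_bot_eq, hNQ]
  · intro X hX hX1
    exact absurd (le_bot_iff.1 hX) hX1

end Hyp

end Cfsg.Agent.Lib.Helper7.ABSW
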