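import Mathlib
import Cfsg.Agent.Lib.Helper7.ABSW35

set_option autoImplicit false

/-!
# Groups with the structure of the conclusion of the Brauer-Suzuki-Wall theorem: first properties
-/

namespace Cfsg.Agent.Lib.Helper7.ABSW

open Cfsg

universe u

variable {G : Type u} [Group G]

/-- products of elements of `A` and of a subgroup `B` normalizing `A`. -/
theorem mem_sup_of_le_normalizer {A B : Subgroup G} (hB : B ≤ Subgroup.normalizer (A : Set G))
    {g : G} (hg : g ∈ A ⊔ B) : ∃ x ∈ A, ∃ y ∈ B, g = x * y := by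
  let S₀ : Subgroup G :=
    { carrier := {g | ∃ x ∈ A, ∃ y ∈ B, g = x * y}
      one_mem' := ⟨1, A.one_mem, 1, B.one_mem, by simp⟩
      mul_mem' := by
        rintro _ _ ⟨x, hx, y, hy, rfl⟩ ⟨x', hx', y', hy', rfl⟩
        refine ⟨x * (y * x' * y⁻¹), A.mul_mem hx ((Subgroup.mem_normalizer_iff.1 (hB hy) x').1 hx'),
          y * y', B.mul_mem hy hy', ?_⟩
        group
      inv_mem' := by
        rintro _ ⟨x, hx, y, hy, rfl⟩
        refine ⟨y⁻¹ * x⁻¹ * y⁻¹⁻¹,
          (Subgroup.mem_normalizer_iff.1 (hB (B.inv_mem hy)) x⁻¹).1 (A.inv_mem hx),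
          y⁻¹, B.inv_mem hy, ?_⟩
        group }
  have hle : A ⊔ B ≤ S₀ := by
    apply sup_le
    · intro x hx
      exact ⟨x, hx, 1, B.one_mem, by simp⟩
    · intro y hy
      exact ⟨1, A.one_mem, y, hy, by simp⟩
  exact hle hg

/-- the order of `A B` for `B` normalizing `A` with `A ∩ B = 1`. -/
theorem card_sup_of_le_normalizer {A B : Subgroup G}
    (hB : B ≤ Subgroup.normalizer (A : Set G)) (hAB : A ⊓ B = ⊥) :
    Nat.card (A ⊔ B : Subgroup G) = Nat.card A * Nat.card B := by
  rw [← Nat.card_prod]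
  symm
  apply Nat.card_congr
  refine Equiv.ofBijective (fun p => ⟨(p.1 : G) * (p.2 : G),
    Subgroup.mul_mem _ ((le_sup_left : A ≤ A ⊔ B) p.1.2) ((le_sup_right : B ≤ A ⊔ B) p.2.2)⟩)
    ⟨?_, ?_⟩
  · rintro ⟨x, y⟩ ⟨x', y'⟩ hp
    have h1 : (x : G) * (y : G) = (x' : G) * (y' : G) := congrArg Subtype.val hp
    have h2 : (x' : G)⁻¹ * (x : G) = (y' : G) * (y : G)⁻¹ := by
      have : (x' : G)⁻¹ * (x : G) = (x' : G)⁻¹ * ((x : G) * (y : G)) * (y : G)⁻¹ := by group
      rw [this, h1]; group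
    have h3 : (x' : G)⁻¹ * (x : G) ∈ A ⊓ B := by
      refine Subgroup.mem_inf.2 ⟨A.mul_mem (A.inv_mem x'.2) x.2, ?_⟩
      rw [h2]
      exact B.mul_mem y'.2 (B.inv_mem y.2)
    rw [hAB, Subgroup.mem_bot] at h3
    have hx : (x : G) = (x' : G) := by
      have : (x : G) = (x' : G) * ((x' : G)⁻¹ * (x : G)) := by group
      rw [this, h3, mul_one]
    have hy : (y : G) = (y' : G) := by
      rw [hx] at h1
      exact mul_left_cancel h1
    exact Prod.ext (Subtype.ext hx) (Subtype.ext hy)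
  · rintro ⟨g, hg⟩
    obtain ⟨x, hx, y, hy, rfl⟩ := mem_sup_of_le_normalizer hB hg
    exact ⟨(⟨x, hx⟩, ⟨y, hy⟩), rfl⟩

/-- The structure of the conclusion of the Brauer-Suzuki-Wall theorem. -/
structure QD (Q D : Subgroup G) : Prop where
  hG : 2 * Nat.card G = Nat.card Q * (Nat.card Q + 1) * (Nat.card Q - 1)
  hcent : ∀ x ∈ Q, x ≠ 1 → Subgroup.centralizer ({x} : Set G) = Q
  hq : 2 * Nat.card D + 1 = Nat.card Q
  hinf : Q ⊓ D = ⊥
  hN : Subgroup.normalizer (Q : Set G) = Q ⊔ D

namespace QD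

variable {Q D : Subgroup G}

theorem comm (h : QD Q D) {x y : G} (hx : x ∈ Q) (hy : y ∈ Q) : x * y = y * x := by
  by_cases hx1 : x = 1
  · rw [hx1]; simp
  · have := h.hcent x hx hx1
    rw [← this, Subgroup.mem_centralizer_singleton_iff] at hy
    exact hy.symm

theorem D_le (h : QD Q D) : D ≤ Subgroup.normalizer (Q : Set G) := by
  rw [h.hN]; exact le_sup_right

variable [Finite G]

theorem card_normalizer (h : QD Q D) :
    Nat.card (Subgroup.normalizer (Q : Set G)) = Nat.card Q * Nat.card D := by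
  rw [h.hN]
  apply card_sup_of_le_normalizer _ h.hinf
  exact h.D_le

theorem index_normalizer (h : QD Q D) (h3 : 3 < Nat.card Q) :
    (Subgroup.normalizer (Q : Set G)).index = Nat.card Q + 1 := by
  have h1 := (Subgroup.normalizer (Q : Set G)).card_mul_index
  rw [h.card_normalizer] at h1
  have h2 := h.hG
  have h4 := h.hq
  obtain ⟨q, hq⟩ : ∃ q : ℕ, q = Nat.card Q := ⟨_, rfl⟩
  obtain ⟨d, hd⟩ : ∃ d : ℕ, d = Nat.card D := ⟨_, rfl⟩
  rw [← hq, ← hd] at h1 h4
  rw [← hq]
  rw [← hq, ← h1] at h2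
  rw [← hq] at h3
  have h5 : q - 1 = 2 * d := by omega
  rw [h5] at h2
  have h6 : 2 * (q * d) * (Subgroup.normalizer (Q : Set G)).index = 2 * (q * d) * (q + 1) := by
    rw [← h4] at h2 ⊢
    linarith
  have hpos : 0 < 2 * (q * d) := by
    have : 0 < d := by omega
    have : 0 < q := by omega
    positivity
  exact Nat.eq_of_mul_eq_mul_left hpos h6

/-- an element of the normalizer of `Q` whose order divides `|Q|` lies in `Q`. -/
theorem mem_of_orderOf_dvd (h : QD Q D) {y : G} (hyN : y ∈ Subgroup.normalizer (Q : Set G))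
    (hy : orderOf y ∣ Nat.card Q) : y ∈ Q := by
  classical
  haveI : Fintype G := Fintype.ofFinite G
  by_contra hyQ
  have hy1 : y ≠ 1 := fun h' => hyQ (by rw [h']; exact Q.one_mem)
  apply hy1
  set S : Finset G := (Finset.univ.filter (fun x : G => x ∈ Q)).erase 1 with hS
  have hScard : S.card + 1 = Nat.card Q := by
    rw [hS, Finset.card_erase_of_mem (by simp [Q.one_mem]), ← Fintype.card_subtype,
      ← Nat.card_eq_fintype_card]
    have : 0 < Nat.card Q := Nat.card_pos
    omega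
  have hEN : Subgroup.zpowers y ≤ Subgroup.normalizer (Q : Set G) :=
    (Subgroup.zpowers_le).2 hyN
  have hdvd := card_dvd_of_free_conj (Subgroup.zpowers y) _ S rfl
    (by
      intro e he z hz
      rw [hS, Finset.mem_erase, Finset.mem_filter] at hz ⊢
      refine ⟨?_, Finset.mem_univ _, (Subgroup.mem_normalizer_iff.1 (hEN he) z).1 hz.2.2⟩
      intro h'
      apply hz.1
      have : z = e⁻¹ * (e * z * e⁻¹) * e := by group
      rw [this, h']; group)
    (by
      intro e he z hz hez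
      rw [hS, Finset.mem_erase, Finset.mem_filter] at hz
      by_contra he1
      have h1 : e ∈ Q := by
        rw [← h.hcent z hz.2.2 hz.1, Subgroup.mem_centralizer_singleton_iff]
        have : e * z = (e * z * e⁻¹) * e := by group
        rw [this, hez]
      have h2 : y ∈ Subgroup.centralizer ({e} : Set G) := by
        rw [Subgroup.mem_centralizer_singleton_iff]
        obtain ⟨j, hj⟩ := Subgroup.mem_zpowers_iff.1 he
        rw [← hj]
        exact ((Commute.refl y).zpow_right j).eq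
      rw [h.hcent e h1 he1] at h2
      exact hyQ h2)
  rw [Nat.card_zpowers] at hdvd
  have h4 : orderOf y ∣ 1 := by
    rw [← hScard] at hy
    exact (Nat.dvd_add_right hdvd).1 hy
  exact orderOf_eq_one_iff.1 (Nat.dvd_one.1 h4)

/-- a nonidentity element of `Q` normalizes no other conjugate of `Q`. -/
theorem mem_normalizer_of_conj_mem (h : QD Q D) {x g : G} (hx : x ∈ Q) (hx1 : x ≠ 1)
    (hg : g⁻¹ * x * g ∈ Subgroup.normalizer (Q : Set G)) :
    g ∈ Subgroup.normalizer (Q : Set G) := by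
  have h1 : g⁻¹ * x * g ∈ Q := by
    apply h.mem_of_orderOf_dvd hg
    have : orderOf (g⁻¹ * x * g) = orderOf x := by
      have := orderOf_conj_eq g⁻¹ x
      rwa [inv_inv] at this
    rw [this]
    exact Subgroup.orderOf_dvd_natCard Q hx
  have h2 : g⁻¹ ∈ Subgroup.normalizer (Q : Set G) := by
    apply ti_of_centralizer_eq Q h.hcent hx hx1
    rwa [inv_inv]
  have := Subgroup.inv_mem _ h2
  rwa [inv_inv] at this

end QD

end Cfsg.Agent.Lib.Helper7.ABSW
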