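import Mathlib
import Cfsg.Agent.Lib.Helper7.ABSW36
import Cfsg.Agent.Lib.Helper2.ZP12

set_option autoImplicit false

/-!
# Simple groups with the structure of the conclusion of the Brauer-Suzuki-Wall theorem are
`PSL₂(q)`
-/

namespace Cfsg.Agent.Lib.Helper7.ABSW

open Cfsg MulAction Cfsg.Agent.Lib.Lead.Zass Cfsg.Agent.Lib.Helper2.FZ Cfsg.Agent.Lib.Helper2.ZP

universe u

variable {G : Type u} [Group G]

theorem quot_smul_eq_iff (M : Subgroup G) (g k : G) :
    g • (k : G ⧸ M) = (k : G ⧸ M) ↔ k⁻¹ * g * k ∈ M := by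
  rw [MulAction.Quotient.smul_coe, QuotientGroup.eq, smul_eq_mul]
  constructor
  · intro h'
    have := M.inv_mem h'
    have e : ((g * k)⁻¹ * k)⁻¹ = k⁻¹ * g * k := by group
    rwa [e] at this
  · intro h'
    have := M.inv_mem h'
    have e : (k⁻¹ * g * k)⁻¹ = (g * k)⁻¹ * k := by group
    rwa [e] at this

namespace QD

variable {Q D : Subgroup G} [Finite G]

/-- the recognition theorem. -/
theorem exists_psl [IsSimpleGroup G] (h : QD Q D) (h3 : 3 < Nat.card Q) :
    ∃ (K : Type) (_ : Field K) (_ : Fintype K), Fintype.card K = Nat.card Q ∧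
      Nonempty (G ≃* Matrix.ProjectiveSpecialLinearGroup (Fin 2) K) := by
  classical
  obtain ⟨M, hM⟩ : ∃ M : Subgroup G, M = Subgroup.normalizer (Q : Set G) := ⟨_, rfl⟩
  haveI : Fintype (G ⧸ M) := Fintype.ofFinite _
  obtain ⟨a, ha⟩ : ∃ a : G ⧸ M, a = ((1 : G) : G ⧸ M) := ⟨_, rfl⟩
  have hQM : Q ≤ M := by rw [hM]; exact Subgroup.le_normalizer
  have hcardΩ : Fintype.card (G ⧸ M) = Nat.card Q + 1 := by
    rw [← Nat.card_eq_fintype_card, ← Subgroup.index_eq_card, hM, h.index_normalizer h3]
  have hstab : stabilizer G a = M := by rw [ha]; exact MulAction.stabilizer_quotient M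
  have hQa : Q ≤ stabilizer G a := by rw [hstab]; exact hQM
  have hQfix : ∀ u ∈ Q, u ≠ 1 → ∀ c : G ⧸ M, u • c = c → c = a := by
    intro u hu hu1 c hc
    obtain ⟨k, rfl⟩ := QuotientGroup.mk_surjective c
    rw [quot_smul_eq_iff, hM] at hc
    have hk := h.mem_normalizer_of_conj_mem hu hu1 hc
    rw [ha]
    symm
    rw [QuotientGroup.eq, inv_one, one_mul, hM]
    exact hk
  have htrans : ∀ {c d : G ⧸ M}, c ≠ a → d ≠ a → ∃ u ∈ Q, u • c = d := fun hc hd =>
    H_trans a Q hQa (by omega) hQfix hc hd
  have hGtrans : ∀ c : G ⧸ M, ∃ g : G, g • c = a := by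
    intro c
    obtain ⟨k, rfl⟩ := QuotientGroup.mk_surjective c
    refine ⟨k⁻¹, ?_⟩
    rw [MulAction.Quotient.smul_coe, smul_eq_mul, inv_mul_cancel, ha]
  -- two-transitivity
  have htwo : ∀ {a' b' c' d' : G ⧸ M}, a' ≠ b' → c' ≠ d' →
      ∃ g : G, g • a' = c' ∧ g • b' = d' := by
    intro a' b' c' d' hab hcd
    obtain ⟨g₁, hg₁⟩ := hGtrans a'
    obtain ⟨g₂, hg₂⟩ := hGtrans c'
    have h1 : g₁ • b' ≠ a := by
      intro h'
      apply hab
      rw [← hg₁] at h'
      exact (MulAction.injective g₁ h').symm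
    have h2 : g₂ • d' ≠ a := by
      intro h'
      apply hcd
      rw [← hg₂] at h'
      exact (MulAction.injective g₂ h').symm
    obtain ⟨u, hu, huu⟩ := htrans h1 h2
    have hua : u • a = a := mem_stabilizer_iff.1 (hQa hu)
    refine ⟨g₂⁻¹ * u * g₁, ?_, ?_⟩
    · rw [mul_smul, mul_smul, hg₁, hua, ← hg₂, inv_smul_smul]
    · rw [mul_smul, mul_smul, huu, inv_smul_smul]
  -- a second point
  obtain ⟨b, hba⟩ : ∃ b : G ⧸ M, b ≠ a := by
    by_contra hno
    push Not at hno
    have : Fintype.card (G ⧸ M) ≤ 1 := Fintype.card_le_one_iff.2 fun x y => by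
      rw [hno x, hno y]
    omega
  -- `Q` is normalized by the stabilizer of `a`
  have hnorm : ∀ m : G, m • a = a → ∀ x ∈ Q, m * x * m⁻¹ ∈ Q := by
    intro m hm x hx
    have hmM : m ∈ M := by rw [← hstab]; exact mem_stabilizer_iff.2 hm
    rw [hM] at hmM
    exact (Subgroup.mem_normalizer_iff.1 hmM x).1 hx
  -- no nonidentity element fixes three points
  have hthree : ∀ g : G, ∀ a' b' c' : G ⧸ M, a' ≠ b' → b' ≠ c' → a' ≠ c' → g • a' = a' →
      g • b' = b' → g • c' = c' → g = 1 := by
    intro g a' b' c' hab hbc hac hga hgb hgc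
    by_contra hg1
    obtain ⟨k, hk⟩ := hGtrans a'
    -- conjugate so that `a' = a`
    have hg'1 : k * g * k⁻¹ ≠ 1 := by
      intro h'
      apply hg1
      have : g = k⁻¹ * (k * g * k⁻¹) * k := by group
      rw [this, h']; group
    have hfixconj : ∀ c : G ⧸ M, g • c = c → (k * g * k⁻¹) • (k • c) = k • c := by
      intro c hc
      rw [mul_smul, mul_smul, inv_smul_smul, hc]
    have hga' : (k * g * k⁻¹) • a = a := by
      have := hfixconj a' hga
      rwa [hk] at this
    have hb1 : k • b' ≠ a := by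
      intro h'
      apply hab
      rw [← hk] at h'
      exact (MulAction.injective k h').symm
    have hc1 : k • c' ≠ a := by
      intro h'
      apply hac
      rw [← hk] at h'
      exact (MulAction.injective k h').symm
    have hbc1 : k • b' ≠ k • c' := fun h' => hbc (MulAction.injective k h')
    obtain ⟨x, hx, hxb⟩ := htrans hb1 hc1
    have hx1 : x ≠ 1 := by
      intro h'
      apply hbc1
      rw [← hxb, h', one_smul]
    set g' := k * g * k⁻¹ with hg'
    have hgb' := hfixconj b' hgb
    have hgc' := hfixconj c' hgc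
    -- the commutator fixes `k • b'`
    have hw : g'⁻¹ * x⁻¹ * g' * x ∈ Q := by
      have h1 : g'⁻¹ • a = a := by
        rw [inv_smul_eq_iff, hga']
      have h2 := hnorm g'⁻¹ h1 x⁻¹ (Q.inv_mem hx)
      rw [inv_inv] at h2
      exact Q.mul_mem h2 hx
    have hwb : (g'⁻¹ * x⁻¹ * g' * x) • (k • b') = k • b' := by
      rw [mul_smul, mul_smul, mul_smul, hxb, hgc', ← hxb, inv_smul_smul, inv_smul_eq_iff, hgb']
    have hw1 : g'⁻¹ * x⁻¹ * g' * x = 1 := by
      by_contra hw1
      exact hb1 (hQfix _ hw hw1 _ hwb)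
    have hcomm : g' * x = x * g' := by
      have : g' * x = x * g' * (g'⁻¹ * x⁻¹ * g' * x) := by group
      rw [this, hw1, mul_one]
    have hg'Q : g' ∈ Q := by
      rw [← h.hcent x hx hx1, Subgroup.mem_centralizer_singleton_iff]
      exact hcomm
    exact hb1 (hQfix g' hg'Q hg'1 _ hgb')
  -- the two point stabilizer
  have hcard2 : Nat.card ↥(stabilizer G a ⊓ stabilizer G b : Subgroup G) = Nat.card D := by
    have h1 : Nat.card (stabilizer G a)
        = Nat.card Q * Nat.card ↥(stabilizer G a ⊓ stabilizer G b : Subgroup G) := by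
      rw [← Nat.card_prod]
      symm
      apply Nat.card_congr
      refine Equiv.ofBijective (fun p => ⟨(p.1 : G) * (p.2 : G),
        Subgroup.mul_mem _ (hQa p.1.2) (Subgroup.mem_inf.1 p.2.2).1⟩) ⟨?_, ?_⟩
      · rintro ⟨x, y⟩ ⟨x', y'⟩ hp
        have h1 : (x : G) * (y : G) = (x' : G) * (y' : G) := congrArg Subtype.val hp
        have h2 : (x' : G)⁻¹ * (x : G) = (y' : G) * (y : G)⁻¹ := by
          have : (x' : G)⁻¹ * (x : G) = (x' : G)⁻¹ * ((x : G) * (y : G)) * (y : G)⁻¹ := by group
          rw [this, h1]; group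
        have h3 : ((x' : G)⁻¹ * (x : G)) • b = b := by
          rw [h2]
          have := Subgroup.mul_mem _ (Subgroup.mem_inf.1 y'.2).2
            (Subgroup.inv_mem _ (Subgroup.mem_inf.1 y.2).2)
          exact mem_stabilizer_iff.1 this
        have h4 : (x' : G)⁻¹ * (x : G) = 1 := by
          by_contra h4
          exact hba (hQfix _ (Q.mul_mem (Q.inv_mem x'.2) x.2) h4 b h3)
        have hx : (x : G) = (x' : G) := by
          have : (x : G) = (x' : G) * ((x' : G)⁻¹ * (x : G)) := by group
          rw [this, h4, mul_one]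
        have hy : (y : G) = (y' : G) := by
          rw [hx] at h1
          exact mul_left_cancel h1
        exact Prod.ext (Subtype.ext hx) (Subtype.ext hy)
      · rintro ⟨m, hm⟩
        have hma : m • a = a := mem_stabilizer_iff.1 hm
        have hmb : m • b ≠ a := stab_ne a hma hba
        obtain ⟨x, hx, hxb⟩ := htrans hba hmb
        have hxa : x • a = a := mem_stabilizer_iff.1 (hQa hx)
        refine ⟨(⟨x, hx⟩, ⟨x⁻¹ * m, Subgroup.mem_inf.2 ⟨?_, ?_⟩⟩), ?_⟩
        · rw [mem_stabilizer_iff, mul_smul, hma, inv_smul_eq_iff, hxa]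
        · rw [mem_stabilizer_iff, mul_smul, inv_smul_eq_iff, hxb]
        · apply Subtype.ext
          simp
    have h2 : Nat.card (stabilizer G a) = Nat.card Q * Nat.card D := by
      rw [hstab, hM]
      exact h.card_normalizer
    rw [h2] at h1
    have hq0 : 0 < Nat.card Q := Nat.card_pos
    exact (Nat.eq_of_mul_eq_mul_left hq0 h1).symm
  -- the Zassenhaus property
  have hMtop : M ≠ ⊤ := by
    intro h'
    have h1 := h.index_normalizer h3
    rw [← hM, h', Subgroup.index_top] at h1
    omega
  have hZ : Cfsg.IsZassenhausGroup G (G ⧸ M) := by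
    refine ⟨?_, MulAction.is_two_pretransitive_iff.2 htwo, hthree, ?_, ?_⟩
    · -- faithful
      have hker : (MulAction.toPermHom G (G ⧸ M)).ker = ⊥ := by
        rcases (MonoidHom.normal_ker (MulAction.toPermHom G (G ⧸ M))).eq_bot_or_eq_top with h' | h'
        · exact h'
        · exfalso
          apply hMtop
          rw [eq_top_iff]
          intro g _
          have hg : g ∈ (MulAction.toPermHom G (G ⧸ M)).ker := by rw [h']; trivial
          rw [MonoidHom.mem_ker] at hg
          rw [← hstab, mem_stabilizer_iff]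
          have := congrArg (fun σ : Equiv.Perm (G ⧸ M) => σ a) hg
          simpa using this
      constructor
      intro g₁ g₂ hg
      have h1 : MulAction.toPermHom G (G ⧸ M) g₁ = MulAction.toPermHom G (G ⧸ M) g₂ := by
        ext c
        exact hg c
      exact (MonoidHom.ker_eq_bot_iff _).1 hker h1
    · -- a nonidentity element fixing two points
      have hne : (stabilizer G a ⊓ stabilizer G b : Subgroup G) ≠ ⊥ := by
        intro h'
        rw [h', Subgroup.card_bot] at hcard2
        have := h.hq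
        omega
      obtain ⟨g, hg1⟩ := (Subgroup.ne_bot_iff_exists_ne_one).1 hne
      exact ⟨g, by
        intro h'
        apply hg1
        exact Subtype.ext h', a, b, hba.symm, mem_stabilizer_iff.1 (Subgroup.mem_inf.1 g.2).1,
        mem_stabilizer_iff.1 (Subgroup.mem_inf.1 g.2).2⟩
    · -- no regular normal subgroup
      intro N hN hpre
      rcases hN.eq_bot_or_eq_top with h' | h'
      · exfalso
        subst h'
        obtain ⟨n, hn⟩ := hpre.exists_smul_eq a b
        have hn' : (n : G) • a = b := hn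
        have hn1 : (n : G) = 1 := Subgroup.mem_bot.1 n.2
        rw [hn1, one_smul] at hn'
        exact hba hn'.symm
      · subst h'
        refine ⟨a, ?_⟩
        have hQne : Q ≠ ⊥ := by
          intro h''
          rw [h'', Subgroup.card_bot] at h3
          omega
        obtain ⟨x, hx1⟩ := (Subgroup.ne_bot_iff_exists_ne_one).1 hQne
        rw [Subgroup.ne_bot_iff_exists_ne_one]
        have hxN : (x : G) ∈ (⊤ : Subgroup G) := Subgroup.mem_top _
        refine ⟨⟨⟨(x : G), hxN⟩, ?_⟩, ?_⟩
        · rw [mem_stabilizer_iff]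
          exact mem_stabilizer_iff.1 (hQa x.2)
        · intro h''
          apply hx1
          have := congrArg (fun w : stabilizer (⊤ : Subgroup G) a => ((w : (⊤ : Subgroup G)) : G)) h''
          exact Subtype.ext this
  have P : PData G (G ⧸ M) a b Q :=
    ⟨hZ, hba.symm, hQa, by omega, hQfix, fun u hu v hv => h.comm hu hv, by
      rw [hcard2]; exact h.hq⟩
  obtain ⟨K, instK, instFK, hcardK, hiso⟩ := P.psl
  exact ⟨K, instK, instFK, by omega, hiso⟩

end QD

end Cfsg.Agent.Lib.Helper7.ABSW
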