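import Mathlib
import Cfsg.Agent.Lib.Helper3.Di6
import Cfsg.Agent.Lib.Helper7.ABSW37

/-! Brauer–Suzuki–Wall for dihedral Sylow 2-subgroups (S0508), part 1: dihedral preliminaries. -/

set_option autoImplicit false

namespace Cfsg.Agent.Lib.Helper7.ABSW

open Cfsg.Agent.Lib.Helper3

section
variable {X : Type*} [Group X]

theorem card_mul_relIndex_of_le {R S : Subgroup X} (h : R ≤ S) :
    Nat.card R * R.relIndex S = Nat.card S := by
  have h1 := (R.subgroupOf S).card_mul_index
  rw [Nat.card_congr (Subgroup.subgroupOfEquivOfLe h).toEquiv] at h1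
  exact h1

theorem mul_mem_of_relIndex_two {R S : Subgroup X} (hidx : R.relIndex S = 2) {a b : X}
    (ha : a ∈ S) (hb : b ∈ S) (haR : a ∉ R) (hbR : b ∉ R) : a * b ∈ R := by
  have h1 : (⟨a, ha⟩ : S) * ⟨b, hb⟩ ∈ R.subgroupOf S := by
    rw [Subgroup.mul_mem_iff_of_index_two hidx]
    simp only [Subgroup.mem_subgroupOf]
    exact ⟨fun h => absurd h haR, fun h => absurd h hbR⟩
  exact h1

theorem exists_not_mem_of_relIndex_two {R S : Subgroup X} (hidx : R.relIndex S = 2) :
    ∃ a ∈ S, a ∉ R := by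
  obtain ⟨a, ha, haR, -⟩ := Subgroup.relIndex_eq_two_iff_exists_notMem_and.1 hidx
  exact ⟨a, ha, haR⟩

end

section
variable {X : Type*} [Group X] {S : Subgroup X} {m : ℕ} (e : ↥S ≃* DihedralGroup m)

theorem diR_pow' (i : ZMod m) (k : ℕ) : (diR e i) ^ k = diR e (k * i) := by
  induction k with
  | zero => simp [diR_zero]
  | succ k ih => rw [pow_succ, ih, diR_mul_diR]; congr 1; push_cast; ring

theorem diR_zpow' (i : ZMod m) (k : ℤ) : (diR e i) ^ k = diR e (k * i) := by
  cases k with
  | ofNat k => simp [diR_pow']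
  | negSucc k =>
    rw [zpow_negSucc, diR_pow', diR_inv]; congr 1; push_cast; ring

theorem diRot_le : diRot e ≤ S := by
  rintro _ ⟨i, rfl⟩
  exact diR_mem e i

theorem isCyclic_diRot : IsCyclic (diRot e) := by
  let f : Multiplicative (ZMod m) →* ↥(diRot e) :=
    { toFun := fun i => ⟨diR e (Multiplicative.toAdd i), ⟨_, rfl⟩⟩
      map_one' := by
        apply Subtype.ext
        simp [diR_zero]
      map_mul' := by
        intro i j
        apply Subtype.ext
        simp [diR_mul_diR] }
  apply isCyclic_of_surjective f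
  rintro ⟨_, ⟨i, rfl⟩⟩
  exact ⟨Multiplicative.ofAdd i, rfl⟩

include e in
theorem card_dihedral_sub (hm : m ≠ 0) : Nat.card S = 2 * m := by
  rw [Nat.card_congr e.toEquiv, DihedralGroup.nat_card]

/-- exponent two when `m = 2` -/
theorem di_two_mul_self (e : ↥S ≃* DihedralGroup 2) (g : X) (hg : g ∈ S) : g * g = 1 := by
  rcases di_cases e g hg with ⟨i, rfl⟩ | ⟨i, rfl⟩
  · rw [diR_mul_diR, CharTwo.add_self_eq_zero, diR_zero]
  · exact diS_mul_self e i

theorem di_two_comm (e : ↥S ≃* DihedralGroup 2) (g h : X) (hg : g ∈ S) (hh : h ∈ S) :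
    g * h = h * g := by
  have h1 := di_two_mul_self e g hg
  have h2 := di_two_mul_self e h hh
  have h3 := di_two_mul_self e (g * h) (S.mul_mem hg hh)
  have e1 : g⁻¹ = g := inv_eq_of_mul_eq_one_right h1
  have e2 : h⁻¹ = h := inv_eq_of_mul_eq_one_right h2
  have e3 : (g * h)⁻¹ = g * h := inv_eq_of_mul_eq_one_right h3
  rw [← e3, mul_inv_rev, e1, e2]

include e in
/-- a cyclic subgroup of index two of a dihedral group: the elements outside it are involutions
inverting it -/
theorem di_cyclic_index_two (hm : 2 ≤ m) (R : Subgroup X) (hRS : R ≤ S) (hcyc : IsCyclic R)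
    (hidx : R.relIndex S = 2) (x : X) (hxS : x ∈ S) (hxR : x ∉ R) :
    x * x = 1 ∧ ∀ y ∈ R, x * y * x⁻¹ = y⁻¹ := by
  by_cases hm2 : m = 2
  · subst hm2
    refine ⟨di_two_mul_self e x hxS, ?_⟩
    intro y hy
    have h1 := di_two_mul_self e y (hRS hy)
    rw [di_two_comm e x y hxS (hRS hy), mul_inv_cancel_right]
    exact (inv_eq_of_mul_eq_one_right h1).symm
  · have hm3 : 3 ≤ m := by omega
    have hm0 : m ≠ 0 := by omega
    have hcS : Nat.card S = 2 * m := card_dihedral_sub e hm0
    have hcR : Nat.card R = m := by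
      have := card_mul_relIndex_of_le hRS
      rw [hidx, hcS] at this
      omega
    obtain ⟨g, hg⟩ := hcyc.exists_generator
    have hog : orderOf g = m := by
      rw [orderOf_eq_card_of_forall_mem_zpowers hg, hcR]
    have hog' : orderOf (g : X) = m := by rw [Subgroup.orderOf_coe, hog]
    obtain ⟨i0, hi0⟩ : ∃ i, (g : X) = diR e i := by
      rcases di_cases e g (hRS g.2) with h | ⟨j, hj⟩
      · exact h
      · exfalso
        rw [hj, orderOf_diS] at hog'
        omega
    have hRrot : ∀ y ∈ R, ∃ i, y = diR e i := by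
      intro y hy
      obtain ⟨k, hk⟩ := Subgroup.mem_zpowers_iff.1 (hg ⟨y, hy⟩)
      have : (g : X) ^ k = y := by
        have := congrArg Subtype.val hk
        simpa using this
      refine ⟨k * i0, ?_⟩
      rw [← this, hi0, diR_zpow']
    obtain ⟨j, rfl⟩ : ∃ j, x = diS e j := by
      rcases di_cases e x hxS with ⟨j, hj⟩ | h
      · exfalso
        have h0 : diS e 0 ∉ R := by
          intro h0
          obtain ⟨i, hi⟩ := hRrot _ h0
          exact diR_ne_diS e i 0 hi.symm
        have h1 := mul_mem_of_relIndex_two hidx hxS (diS_mem e 0) hxR h0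
        rw [hj, diR_mul_diS] at h1
        obtain ⟨i, hi⟩ := hRrot _ h1
        exact diR_ne_diS e i _ hi.symm
      · exact h
    refine ⟨diS_mul_self e j, ?_⟩
    intro y hy
    obtain ⟨i, rfl⟩ := hRrot y hy
    rw [diS_conj_diR, diR_inv]

include e in
/-- existence of a cyclic subgroup of index two containing a given central involution -/
theorem di_exists_cyclic_index_two (hm : 2 ≤ m) (t : X) (ht : orderOf t = 2) (htS : t ∈ S)
    (htZ : ∀ s ∈ S, s * t = t * s) :
    ∃ R : Subgroup X, R ≤ S ∧ IsCyclic R ∧ R.relIndex S = 2 ∧ t ∈ R := by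
  have hm0 : m ≠ 0 := by omega
  have hcS : Nat.card S = 2 * m := card_dihedral_sub e hm0
  by_cases hm2 : m = 2
  · refine ⟨Subgroup.zpowers t, ?_, ?_, ?_, Subgroup.mem_zpowers t⟩
    · rw [Subgroup.zpowers_le]; exact htS
    · exact Subgroup.isCyclic_zpowers t  
    · have h1 : Subgroup.zpowers t ≤ S := by rw [Subgroup.zpowers_le]; exact htS
      have := card_mul_relIndex_of_le h1
      rw [Nat.card_zpowers, ht, hcS, hm2] at this
      omega
  · have hm3 : 3 ≤ m := by omega
    refine ⟨diRot e, diRot_le e, isCyclic_diRot e, diRot_relIndex e, ?_⟩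
    rcases di_cases e t htS with ⟨i, hi⟩ | ⟨i, hi⟩
    · exact ⟨i, hi⟩
    · exfalso
      have h1 := htZ _ (diR_mem e 1)
      rw [hi, diR_mul_diS, diS_mul_diR, diS_inj] at h1
      have h2 : ((2 : ℕ) : ZMod m) = 0 := by
        have : (2 : ZMod m) = (i + 1) - (i - 1) := by ring
        push_cast
        rw [this, ← h1]; ring
      rw [ZMod.natCast_eq_zero_iff] at h2
      have := Nat.le_of_dvd (by norm_num) h2
      omega

end

end Cfsg.Agent.Lib.Helper7.ABSW
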