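import Mathlib
import Cfsg.Agent.Lib.Helper6.PPrimeCore
import Cfsg.Agent.Lib.Helper7.ABSW38

/-! Brauer–Suzuki–Wall for dihedral Sylow 2-subgroups (S0508), part 2: the abstract set-up
`C(t) = O S`, `R` cyclic of index two in `S` centralizing `O`, and the derivation of the hypotheses
of the abstract Brauer–Suzuki–Wall theorem for `K = O R`. -/

set_option autoImplicit false

namespace Cfsg.Agent.Lib.Helper7.ABSW

variable {G : Type*} [Group G]

/-- a cyclic group has at most one involution -/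
theorem cyclic_involution_unique {R : Subgroup G} [Finite R] (hcyc : IsCyclic R) {t r : G}
    (htR : t ∈ R) (ht : t * t = 1) (hr : r ∈ R) (hrr : r * r = 1) (hr1 : r ≠ 1) (ht1 : t ≠ 1) :
    r = t := by
  classical
  haveI : Fintype R := Fintype.ofFinite R
  by_contra hcon
  have h1 := IsCyclic.card_pow_eq_one_le (α := R) (n := 2) (by norm_num)
  have h2 : ({1, ⟨t, htR⟩, ⟨r, hr⟩} : Finset R) ⊆ Finset.univ.filter (fun a : R => a ^ 2 = 1) := by
    intro a ha
    simp only [Finset.mem_insert, Finset.mem_singleton] at ha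
    rw [Finset.mem_filter]
    refine ⟨Finset.mem_univ _, ?_⟩
    rcases ha with rfl | rfl | rfl
    · simp
    · apply Subtype.ext; simp [pow_two, ht]
    · apply Subtype.ext; simp [pow_two, hrr]
  have h3 : ({1, ⟨t, htR⟩, ⟨r, hr⟩} : Finset R).card = 3 := by
    rw [Finset.card_insert_of_notMem, Finset.card_insert_of_notMem, Finset.card_singleton]
    · rw [Finset.mem_singleton]
      intro h
      exact hcon (congrArg Subtype.val h).symm
    · simp only [Finset.mem_insert, Finset.mem_singleton, not_or]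
      constructor
      · intro h
        exact ht1 (congrArg Subtype.val h).symm
      · intro h
        exact hr1 (congrArg Subtype.val h).symm
  have := Finset.card_le_card h2
  omega

/-- the centralizer of an element normalizes the cyclic group it generates -/
theorem centralizer_le_normalizer_zpowers (y : G) :
    Subgroup.centralizer ({y} : Set G) ≤ Subgroup.normalizer (Subgroup.zpowers y : Set G) := by
  intro c hc
  rw [Subgroup.mem_centralizer_singleton_iff] at hc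
  rw [Subgroup.mem_normalizer_iff]
  have key : ∀ n ∈ Subgroup.zpowers y, c * n * c⁻¹ = n := by
    intro n hn
    obtain ⟨k, rfl⟩ := Subgroup.mem_zpowers_iff.1 hn
    have : Commute c (y ^ k) := (show Commute c y from hc).zpow_right k
    rw [this.eq, mul_inv_cancel_right]
  intro n
  constructor
  · intro hn
    rw [key n hn]; exact hn
  · intro hn
    have := key _ hn
    have h2 : c * n * c⁻¹ = n := by
      have h3 : c * (c * n * c⁻¹) * c⁻¹ = c * n * c⁻¹ := this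
      have : c * (c * n * c⁻¹) * c⁻¹ = c * (c * n * c⁻¹) * c⁻¹ := rfl
      calc c * n * c⁻¹ = c⁻¹ * (c * (c * n * c⁻¹) * c⁻¹) * c := by group
        _ = c⁻¹ * (c * n * c⁻¹) * c := by rw [h3]
        _ = n := by group
    rw [← h2]; exact hn

/-- the abstract set-up -/
structure DSetup (S O R : Subgroup G) (t : G) : Prop where
  ht : orderOf t = 2
  hS2 : IsPGroup 2 S
  hOodd : (Nat.card O).Coprime 2
  hSC : S ≤ Subgroup.centralizer ({t} : Set G)
  hOC : O ≤ Subgroup.centralizer ({t} : Set G)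
  hcard : Nat.card (Subgroup.centralizer ({t} : Set G)) = Nat.card O * Nat.card S
  hRS : R ≤ S
  hcyc : IsCyclic R
  hidx : R.relIndex S = 2
  htR : t ∈ R
  hRO : R ≤ Subgroup.centralizer (O : Set G)
  hinvR : ∀ x ∈ S, x ∉ R → x * x = 1 ∧ ∀ y ∈ R, x * y * x⁻¹ = y⁻¹
  hinvO : ∀ x ∈ S, x ∉ R → ∀ y ∈ O, x * y * x⁻¹ = y⁻¹
  hc : ∀ Y : Subgroup G, Y ≤ O → Y ≠ ⊥ →
    Subgroup.normalizer (Y : Set G) ≤ Subgroup.centralizer ({t} : Set G)

namespace DSetup

variable {S O R : Subgroup G} {t : G}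

theorem commOR (h : DSetup S O R t) {o r : G} (ho : o ∈ O) (hr : r ∈ R) : Commute o r := by
  have := h.hRO hr
  rw [Subgroup.mem_centralizer_iff] at this
  exact this o ho

theorem commRR (h : DSetup S O R t) {a b : G} (ha : a ∈ R) (hb : b ∈ R) : Commute a b := by
  haveI := h.hcyc
  have := IsCyclic.commGroup (α := R)
  have h1 : (⟨a, ha⟩ : R) * ⟨b, hb⟩ = ⟨b, hb⟩ * ⟨a, ha⟩ := by
    obtain ⟨g, hg⟩ := h.hcyc.exists_generator
    obtain ⟨i, hi⟩ := Subgroup.mem_zpowers_iff.1 (hg ⟨a, ha⟩)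
    obtain ⟨j, hj⟩ := Subgroup.mem_zpowers_iff.1 (hg ⟨b, hb⟩)
    rw [← hi, ← hj, ← zpow_add, ← zpow_add, add_comm]
  exact congrArg Subtype.val h1

theorem exists_s (h : DSetup S O R t) : ∃ s ∈ S, s ∉ R := exists_not_mem_of_relIndex_two h.hidx

theorem commOO (h : DSetup S O R t) {a b : G} (ha : a ∈ O) (hb : b ∈ O) : Commute a b := by
  obtain ⟨s, hsS, hsR⟩ := h.exists_s
  have h1 := h.hinvO s hsS hsR a ha
  have h2 := h.hinvO s hsS hsR b hb
  have h3 := h.hinvO s hsS hsR (a * b) (O.mul_mem ha hb)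
  have h4 : s * (a * b) * s⁻¹ = (s * a * s⁻¹) * (s * b * s⁻¹) := by group
  rw [h4, h1, h2, mul_inv_rev] at h3
  have h5 : (a⁻¹ * b⁻¹)⁻¹ = (b⁻¹ * a⁻¹)⁻¹ := by rw [h3]
  simp only [mul_inv_rev, inv_inv] at h5
  exact h5.symm

theorem R_le_normalizer (h : DSetup S O R t) : R ≤ Subgroup.normalizer (O : Set G) :=
  h.hRO.trans (Subgroup.centralizer_le_normalizer _)

theorem mem_K (h : DSetup S O R t) {x : G} (hx : x ∈ O ⊔ R) : ∃ o ∈ O, ∃ r ∈ R, x = o * r :=
  mem_sup_of_le_normalizer h.R_le_normalizer hx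

theorem t_sq (h : DSetup S O R t) : t * t = 1 := by
  rw [← pow_two, ← h.ht, pow_orderOf_eq_one]

theorem t_ne_one (h : DSetup S O R t) : t ≠ 1 := by
  intro h1
  have := h.ht
  rw [h1, orderOf_one] at this
  omega

theorem K_comm (h : DSetup S O R t) : ∀ a ∈ O ⊔ R, ∀ b ∈ O ⊔ R, a * b = b * a := by
  intro a ha b hb
  obtain ⟨o, ho, r, hr, rfl⟩ := h.mem_K ha
  obtain ⟨o', ho', r', hr', rfl⟩ := h.mem_K hb
  exact (Commute.mul_left (Commute.mul_right (h.commOO ho ho') (h.commOR ho hr'))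
    (Commute.mul_right (h.commOR ho' hr).symm (h.commRR hr hr'))).eq

theorem K_le (h : DSetup S O R t) : O ⊔ R ≤ Subgroup.centralizer ({t} : Set G) :=
  sup_le h.hOC (h.hRS.trans h.hSC)

theorem t_mem_K (h : DSetup S O R t) : t ∈ O ⊔ R := (le_sup_right : R ≤ O ⊔ R) h.htR

theorem s_order (h : DSetup S O R t) {s : G} (hsS : s ∈ S) (hsR : s ∉ R) : orderOf s = 2 := by
  apply orderOf_two_of_sq (h.hinvR s hsS hsR).1
  rintro rfl
  exact hsR R.one_mem

theorem s_inv (h : DSetup S O R t) {s : G} (hsS : s ∈ S) (hsR : s ∉ R) :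
    ∀ x ∈ O ⊔ R, s * x * s⁻¹ = x⁻¹ := by
  intro x hx
  obtain ⟨o, ho, r, hr, rfl⟩ := h.mem_K hx
  have h1 := h.hinvO s hsS hsR o ho
  have h2 := (h.hinvR s hsS hsR).2 r hr
  have h3 : s * (o * r) * s⁻¹ = (s * o * s⁻¹) * (s * r * s⁻¹) := by group
  rw [h3, h1, h2, ← mul_inv_rev, (h.commOR ho hr).eq]

theorem S_le (h : DSetup S O R t) {s : G} (hsS : s ∈ S) (hsR : s ∉ R) :
    S ≤ (O ⊔ R) ⊔ Subgroup.zpowers s := by
  intro x hx
  by_cases hxR : x ∈ R
  · exact (le_sup_left : O ⊔ R ≤ _) ((le_sup_right : R ≤ O ⊔ R) hxR)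
  · have h1 := mul_mem_of_relIndex_two h.hidx hx hsS hxR hsR
    have h2 : x = (x * s) * s⁻¹ := by group
    rw [h2]
    apply Subgroup.mul_mem
    · exact (le_sup_left : O ⊔ R ≤ _) ((le_sup_right : R ≤ O ⊔ R) h1)
    · exact (le_sup_right : Subgroup.zpowers s ≤ _) (Subgroup.inv_mem _ (Subgroup.mem_zpowers s))

variable [Finite G]

theorem inf_eq_bot (h : DSetup S O R t) : S ⊓ O = ⊥ := by
  haveI : Fact (Nat.Prime 2) := ⟨Nat.prime_two⟩
  exact Cfsg.Agent.Lib.Helper6.isPGroup_inf_coprime_eq_bot h.hOodd h.hS2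

theorem eq_one_of_mem_of_mem (h : DSetup S O R t) {x : G} (hxO : x ∈ O) (hxS : x ∈ S) : x = 1 := by
  have : x ∈ S ⊓ O := ⟨hxS, hxO⟩
  rw [h.inf_eq_bot] at this
  exact Subgroup.mem_bot.1 this

theorem pow_eq_one (h : DSetup S O R t) {o r : G} (ho : o ∈ O) (hr : r ∈ R) {n : ℕ}
    (hn : (o * r) ^ n = 1) : o ^ n = 1 ∧ r ^ n = 1 := by
  rw [(h.commOR ho hr).mul_pow] at hn
  have h1 : o ^ n = (r ^ n)⁻¹ := eq_inv_of_mul_eq_one_left hn
  have h2 : o ^ n = 1 := by
    apply h.eq_one_of_mem_of_mem (O.pow_mem ho n)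
    rw [h1]
    exact S.inv_mem (S.pow_mem (h.hRS hr) n)
  refine ⟨h2, ?_⟩
  rw [h2, one_mul] at hn
  exact hn

/-- the only involution of `K = O R` is `t` -/
theorem K_involution (h : DSetup S O R t) {x : G} (hx : x ∈ O ⊔ R) (hxx : x * x = 1)
    (hx1 : x ≠ 1) : x = t := by
  obtain ⟨o, ho, r, hr, rfl⟩ := h.mem_K hx
  rw [← pow_two] at hxx
  obtain ⟨h1, h2⟩ := h.pow_eq_one ho hr hxx
  have ho1 : o = 1 := by
    have h3 : orderOf o ∣ 2 := orderOf_dvd_of_pow_eq_one h1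
    have h4 : orderOf o ∣ Nat.card O := by
      have := orderOf_dvd_natCard (⟨o, ho⟩ : O)
      rwa [Subgroup.orderOf_mk] at this
    have h5 : orderOf o ∣ Nat.gcd (Nat.card O) 2 := Nat.dvd_gcd h4 h3
    rw [h.hOodd] at h5
    exact orderOf_eq_one_iff.1 (Nat.dvd_one.1 h5)
  subst ho1
  rw [one_mul] at hx1 ⊢
  rw [pow_two] at h2
  exact cyclic_involution_unique h.hcyc h.htR h.t_sq hr h2 hx1 h.t_ne_one

/-- elements of odd prime order of `K = O R` lie in `O` -/
theorem K_odd (h : DSetup S O R t) {x : G} (hx : x ∈ O ⊔ R) {p : ℕ} (hp : p.Prime) (hp2 : p ≠ 2)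
    (hxp : orderOf x = p) : x ∈ O := by
  obtain ⟨o, ho, r, hr, rfl⟩ := h.mem_K hx
  have hxx : (o * r) ^ p = 1 := by rw [← hxp, pow_orderOf_eq_one]
  obtain ⟨h1, h2⟩ := h.pow_eq_one ho hr hxx
  have hr1 : r = 1 := by
    have h3 : orderOf r ∣ p := orderOf_dvd_of_pow_eq_one h2
    obtain ⟨k, hk⟩ := IsPGroup.iff_orderOf.mp h.hS2 ⟨r, h.hRS hr⟩
    rw [Subgroup.orderOf_mk] at hk
    rw [hk] at h3
    rcases k with _ | k
    · rw [pow_zero] at hk
      exact orderOf_eq_one_iff.1 hk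
    · exfalso
      have h4 : 2 ∣ p := (dvd_pow_self 2 (Nat.succ_ne_zero k)).trans h3
      rcases (Nat.dvd_prime hp).1 h4 with h5 | h5
      · omega
      · exact hp2 h5.symm
  subst hr1
  rw [mul_one]
  exact ho

theorem s_not_mem_K (h : DSetup S O R t) {s : G} (hsS : s ∈ S) (hsR : s ∉ R) : s ∉ O ⊔ R := by
  intro hs
  obtain ⟨o, ho, r, hr, rfl⟩ := h.mem_K hs
  have ho1 : o = 1 := by
    apply h.eq_one_of_mem_of_mem ho
    have : o = (o * r) * r⁻¹ := by group
    rw [this]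
    exact S.mul_mem hsS (S.inv_mem (h.hRS hr))
  subst ho1
  rw [one_mul] at hsR
  exact hsR hr

theorem sup_eq (h : DSetup S O R t) {s : G} (hsS : s ∈ S) (hsR : s ∉ R) :
    (O ⊔ R) ⊔ Subgroup.zpowers s = Subgroup.centralizer ({t} : Set G) := by
  have hle : (O ⊔ R) ⊔ Subgroup.zpowers s ≤ Subgroup.centralizer ({t} : Set G) :=
    sup_le h.K_le (by rw [Subgroup.zpowers_le]; exact h.hSC hsS)
  apply Subgroup.eq_of_le_of_card_ge hle
  rw [h.hcard]
  have h1 : Nat.card O ∣ Nat.card ((O ⊔ R) ⊔ Subgroup.zpowers s : Subgroup G) :=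
    Subgroup.card_dvd_of_le (le_sup_left.trans le_sup_left)
  have h2 : Nat.card S ∣ Nat.card ((O ⊔ R) ⊔ Subgroup.zpowers s : Subgroup G) :=
    Subgroup.card_dvd_of_le (h.S_le hsS hsR)
  have h3 : (Nat.card O).Coprime (Nat.card S) := by
    haveI : Fact (Nat.Prime 2) := ⟨Nat.prime_two⟩
    obtain ⟨k, hk⟩ := IsPGroup.iff_card.mp h.hS2
    rw [hk]
    exact Nat.Coprime.pow_right k h.hOodd
  exact Nat.le_of_dvd Nat.card_pos (Nat.Coprime.mul_dvd_of_dvd_of_dvd h3 h1 h2)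

theorem inf_centralizer (h : DSetup S O R t) {s : G} (hsS : s ∈ S) (hsR : s ∉ R) :
    (O ⊔ R) ⊓ Subgroup.centralizer ({s} : Set G) = Subgroup.zpowers t := by
  apply le_antisymm
  · intro x hx
    obtain ⟨hxK, hxs⟩ := Subgroup.mem_inf.1 hx
    rw [Subgroup.mem_centralizer_singleton_iff] at hxs
    have h1 := h.s_inv hsS hsR x hxK
    have h2 : s * x * s⁻¹ = x := by rw [← hxs, mul_inv_cancel_right]
    rw [h2] at h1
    have h3 : x * x = 1 := by
      nth_rewrite 1 [h1]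
      exact inv_mul_cancel x
    by_cases hx1 : x = 1
    · rw [hx1]; exact Subgroup.one_mem _
    · rw [h.K_involution hxK h3 hx1]
      exact Subgroup.mem_zpowers t
  · rw [Subgroup.zpowers_le]
    refine Subgroup.mem_inf.2 ⟨h.t_mem_K, ?_⟩
    rw [Subgroup.mem_centralizer_singleton_iff]
    have := h.hSC hsS
    rw [Subgroup.mem_centralizer_singleton_iff] at this
    exact this.symm

end DSetup

end Cfsg.Agent.Lib.Helper7.ABSW
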