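import Mathlib
import Cfsg.Agent.Lib.Helper7.ABSW39

/-! Brauer–Suzuki–Wall for dihedral Sylow 2-subgroups (S0508), part 3: the TI property of
`K = O R` and the hypotheses of the abstract theorem. -/

set_option autoImplicit false

namespace Cfsg.Agent.Lib.Helper7.ABSW

variable {G : Type*} [Group G]

theorem mem_zpowers_of_sq {s y : G} (hs : s * s = 1) (hy : y ∈ Subgroup.zpowers s) :
    y = 1 ∨ y = s := by
  obtain ⟨j, rfl⟩ := Subgroup.mem_zpowers_iff.1 hy
  have h2 : s ^ (2 : ℤ) = 1 := by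
    rw [show (2 : ℤ) = ((2 : ℕ) : ℤ) from rfl, zpow_natCast, pow_two, hs]
  have h3 : s ^ j = s ^ (j % 2) := by
    conv_lhs => rw [← Int.emod_add_mul_ediv j 2, zpow_add, zpow_mul, h2, one_zpow, mul_one]
  rw [h3]
  rcases Int.emod_two_eq_zero_or_one j with h | h
  · left; rw [h, zpow_zero]
  · right; rw [h, zpow_one]

namespace DSetup

variable {S O R : Subgroup G} {t : G}

theorem s_mem_normalizer (h : DSetup S O R t) {s : G} (hsS : s ∈ S) (hsR : s ∉ R) :
    Subgroup.zpowers s ≤ Subgroup.normalizer ((O ⊔ R : Subgroup G) : Set G) := by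
  rw [Subgroup.zpowers_le, Subgroup.mem_normalizer_iff]
  have hss := (h.hinvR s hsS hsR).1
  intro n
  constructor
  · intro hn
    rw [h.s_inv hsS hsR n hn]
    exact Subgroup.inv_mem _ hn
  · intro hn
    have h1 := h.s_inv hsS hsR _ hn
    have h2 : s * (s * n * s⁻¹) * s⁻¹ = (s * s) * n * (s * s)⁻¹ := by group
    rw [h2, hss] at h1
    have h3 : n = (s * n * s⁻¹)⁻¹ := by rw [← h1]; group
    rw [h3]
    exact Subgroup.inv_mem _ hn

variable [Finite G]

theorem mem_centralizer_cases (h : DSetup S O R t) {s : G} (hsS : s ∈ S) (hsR : s ∉ R) {x : G}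
    (hx : x ∈ Subgroup.centralizer ({t} : Set G)) :
    x ∈ O ⊔ R ∨ ∃ k ∈ O ⊔ R, x = k * s := by
  rw [← h.sup_eq hsS hsR] at hx
  obtain ⟨k, hk, y, hy, rfl⟩ := mem_sup_of_le_normalizer (h.s_mem_normalizer hsS hsR) hx
  rcases mem_zpowers_of_sq (h.hinvR s hsS hsR).1 hy with rfl | rfl
  · left; rw [mul_one]; exact hk
  · right; exact ⟨k, hk, rfl⟩

theorem mem_centralizer_of_conj_eq (h : DSetup S O R t) {g : G} (hg : g * t * g⁻¹ = t) :
    g ∈ Subgroup.centralizer ({t} : Set G) := by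
  rw [Subgroup.mem_centralizer_singleton_iff]
  calc g * t = (g * t * g⁻¹) * g := by group
    _ = t * g := by rw [hg]

/-- the TI property -/
theorem ti (h : DSetup S O R t) {s : G} (hsS : s ∈ S) (hsR : s ∉ R) (g : G)
    (hg : g ∉ Subgroup.centralizer ({t} : Set G)) :
    (O ⊔ R) ⊓ (O ⊔ R).map (MulAut.conj g).toMonoidHom = ⊥ := by
  rw [Subgroup.eq_bot_iff_forall]
  intro x hx
  by_contra hx1
  obtain ⟨hxK, hxg⟩ := Subgroup.mem_inf.1 hx
  have ho1 : orderOf x ≠ 1 := fun h1 => hx1 (orderOf_eq_one_iff.1 h1)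
  obtain ⟨p, hp, hpx⟩ := Nat.exists_prime_and_dvd ho1
  set y := x ^ (orderOf x / p) with hy
  have hyo : orderOf y = p := orderOf_pow_orderOf_div (orderOf_pos x).ne' hpx
  have hyK : y ∈ O ⊔ R := Subgroup.pow_mem _ hxK _
  have hyg : y ∈ (O ⊔ R).map (MulAut.conj g).toMonoidHom := Subgroup.pow_mem _ hxg _
  obtain ⟨k, hkK, hky⟩ := Subgroup.mem_map.1 hyg
  have hky' : g * k * g⁻¹ = y := by
    rw [← hky]; rfl
  have hko : orderOf k = p := by
    rw [← hyo, ← hky']
    have : g * k * g⁻¹ = MulAut.conj g k := rfl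
    rw [this, MulEquiv.orderOf_eq]
  have hy1 : y ≠ 1 := by
    intro h1
    rw [h1, orderOf_one] at hyo
    exact hp.one_lt.ne hyo
  have hk1 : k ≠ 1 := by
    intro h1
    rw [h1, orderOf_one] at hko
    exact hp.one_lt.ne hko
  by_cases hp2 : p = 2
  · -- p = 2
    subst hp2
    have hyy : y * y = 1 := by rw [← pow_two, ← hyo, pow_orderOf_eq_one]
    have hkk : k * k = 1 := by rw [← pow_two, ← hko, pow_orderOf_eq_one]
    have e1 := h.K_involution hyK hyy hy1
    have e2 := h.K_involution hkK hkk hk1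
    rw [e1, e2] at hky'
    exact hg (h.mem_centralizer_of_conj_eq hky')
  · -- p odd
    have hyO : y ∈ O := h.K_odd hyK hp hp2 hyo
    have hY : Subgroup.zpowers y ≤ O := by rw [Subgroup.zpowers_le]; exact hyO
    have hYne : Subgroup.zpowers y ≠ ⊥ := by
      rw [Ne, Subgroup.zpowers_eq_bot]; exact hy1
    have hN := h.hc _ hY hYne
    -- t' = g t g⁻¹ commutes with y
    have hcomm : (g * t * g⁻¹) * y = y * (g * t * g⁻¹) := by
      rw [← hky']
      have := h.K_comm t h.t_mem_K k hkK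
      calc g * t * g⁻¹ * (g * k * g⁻¹) = g * (t * k) * g⁻¹ := by group
        _ = g * (k * t) * g⁻¹ := by rw [this]
        _ = g * k * g⁻¹ * (g * t * g⁻¹) := by group
    have ht'C : g * t * g⁻¹ ∈ Subgroup.centralizer ({t} : Set G) := by
      apply hN
      apply centralizer_le_normalizer_zpowers
      rw [Subgroup.mem_centralizer_singleton_iff]
      exact hcomm
    have ht't' : (g * t * g⁻¹) * (g * t * g⁻¹) = 1 := by
      have : (g * t * g⁻¹) * (g * t * g⁻¹) = g * (t * t) * g⁻¹ := by group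
      rw [this, h.t_sq]; group
    have ht'1 : g * t * g⁻¹ ≠ 1 := by
      intro h1
      apply h.t_ne_one
      calc t = g⁻¹ * (g * t * g⁻¹) * g := by group
        _ = 1 := by rw [h1]; group
    rcases h.mem_centralizer_cases hsS hsR ht'C with h1 | ⟨k', hk', h1⟩
    · exact hg (h.mem_centralizer_of_conj_eq (h.K_involution h1 ht't' ht'1))
    · -- t' = k' s inverts y
      have h2 : (k' * s) * y * (k' * s)⁻¹ = y⁻¹ := by
        have h3 := h.s_inv hsS hsR y hyK
        have h4 : (k' * s) * y * (k' * s)⁻¹ = k' * (s * y * s⁻¹) * k'⁻¹ := by group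
        rw [h4, h3, h.K_comm k' hk' y⁻¹ (Subgroup.inv_mem _ hyK), mul_inv_cancel_right]
      rw [← h1, hcomm, mul_inv_cancel_right] at h2
      have hyy : y ^ 2 = 1 := by
        rw [pow_two]
        nth_rewrite 1 [h2]
        exact inv_mul_cancel y
      have h5 : p ∣ 2 := by
        rw [← hyo]; exact orderOf_dvd_of_pow_eq_one hyy
      exact hp2 ((Nat.prime_dvd_prime_iff_eq hp Nat.prime_two).1 h5)

/-- the hypotheses of the abstract Brauer–Suzuki–Wall theorem -/
theorem hyp (h : DSetup S O R t) {s : G} (hsS : s ∈ S) (hsR : s ∉ R)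
    (hconj : ∀ x y : G, orderOf x = 2 → orderOf y = 2 → IsConj x y) :
    Hyp (O ⊔ R) t s where
  ht := h.ht
  comm := h.K_comm
  hKH := h.K_le
  htK := h.t_mem_K
  hs := h.s_order hsS hsR
  hsH := h.hSC hsS
  hsK := h.s_not_mem_K hsS hsR
  hH := h.sup_eq hsS hsR
  hCK := h.inf_centralizer hsS hsR
  hinv := h.s_inv hsS hsR
  hTI := h.ti hsS hsR
  hconj := hconj

end DSetup

end Cfsg.Agent.Lib.Helper7.ABSW
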