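import Mathlib
import Cfsg.Agent.S0514
import Cfsg.Agent.Lib.Helper3.NC
import Cfsg.Agent.Lib.Helper7.ABSW35
import Cfsg.Agent.Lib.Helper7.ABSW40

/-! Brauer–Suzuki–Wall for dihedral Sylow 2-subgroups (S0508), part 4: assembling. -/

set_option autoImplicit false

namespace Cfsg.Agent.Lib.Helper7.ABSW

open Cfsg.Agent.Lib.Helper3

universe u

/-- the abstract Brauer–Suzuki–Wall theorem in terms of `Hyp` and `Concl` -/
theorem Hyp.concl {G : Type u} [Group G] [Finite G] {K : Subgroup G} {t s : G}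
    (h : Hyp K t s) : Concl G := by
  classical
  haveI : Fintype G := Fintype.ofFinite G
  haveI : Fintype K := Fintype.ofFinite K
  haveI : Fintype (IrrCharacter K) := Fintype.ofFinite _
  haveI : Fintype (IrrCharacter G) := Fintype.ofFinite _
  obtain ⟨lam0, R, d⟩ := h.exists_irrData
  haveI : Fintype R := Fintype.ofFinite R
  by_cases hR : Nonempty R
  · exact h.concl_of_nonempty d
  · have hK2 : Nat.card K = 2 := by
      have h1 := d.card_eq h.cfg
      have h2 : Fintype.card R = 0 := Fintype.card_eq_zero_iff.2 (not_nonempty_iff.1 hR)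
      omega
    rcases h.card_two_cases hK2 with ⟨hn, hA⟩ | ⟨hn, y, a, r, hQ⟩
    · exact h.concl_of_three hK2 hn hA
    · exact h.concl_of_fifteen hK2 hn r hQ

variable {G : Type u} [Group G] [Finite G]

/-- the order of a subgroup with a normal 2-complement containing a Sylow 2-subgroup -/
theorem card_of_normal_two_complement (S : Sylow 2 G) (C : Subgroup G)
    (hSC : (S : Subgroup G) ≤ C) (N : Subgroup C) (hN : N.Normal) (hNodd : Odd (Nat.card N))
    (k : ℕ) (hk : N.index = 2 ^ k) :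
    (Nat.card ((Cfsg.oddCore C).map C.subtype)).Coprime 2 ∧
    Nat.card C = Nat.card ((Cfsg.oddCore C).map C.subtype) * Nat.card (S : Subgroup G) := by
  haveI : Fact (Nat.Prime 2) := ⟨Nat.prime_two⟩
  have hP : (Nat.card (Cfsg.oddCore C)).Coprime 2 := Cfsg.Agent.Lib.Helper6.pPrimeCore_coprime 2
  have hNc : (Nat.card N).Coprime 2 := Nat.coprime_two_right.2 hNodd
  have hNP : N ≤ Cfsg.oddCore C := Cfsg.Agent.Lib.Helper6.le_pPrimeCore hN hNc
  have hCcard : Nat.card N * 2 ^ k = Nat.card C := by rw [← hk]; exact N.card_mul_index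
  have hPN : Nat.card (Cfsg.oddCore C) = Nat.card N := by
    apply Nat.dvd_antisymm
    · have h1 : Nat.card (Cfsg.oddCore C) ∣ Nat.card N * 2 ^ k := by
        rw [hCcard]; exact Subgroup.card_subgroup_dvd_card _
      exact Nat.Coprime.dvd_of_dvd_mul_right (Nat.Coprime.pow_right k hP) h1
    · exact Subgroup.card_dvd_of_le hNP
  have hmap : Nat.card ((Cfsg.oddCore C).map C.subtype) = Nat.card (Cfsg.oddCore C) :=
    Subgroup.card_map_of_injective C.subtype_injective
  rw [hmap]
  refine ⟨hP, ?_⟩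
  have hScard := S.card_eq_multiplicity
  have hk1 : k ≤ (Nat.card G).factorization 2 := by
    apply (Nat.Prime.pow_dvd_iff_le_factorization Nat.prime_two Nat.card_pos.ne').1
    have h1 : 2 ^ k ∣ Nat.card C := Dvd.intro_left _ hCcard
    exact h1.trans (Subgroup.card_subgroup_dvd_card C)
  have hk2 : (Nat.card G).factorization 2 ≤ k := by
    have h1 : Nat.card (S : Subgroup G) ∣ Nat.card N * 2 ^ k := by
      rw [hCcard]; exact Subgroup.card_dvd_of_le hSC
    rw [hScard] at h1
    have h2 : 2 ^ (Nat.card G).factorization 2 ∣ 2 ^ k := by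
      apply Nat.Coprime.dvd_of_dvd_mul_left _ h1
      exact Nat.Coprime.pow_left _ hNc.symm
    exact (Nat.pow_dvd_pow_iff_le_right (by norm_num)).1 h2
  rw [hScard, hPN, ← hCcard, le_antisymm hk1 hk2]

/-- the order of the centralizer of an involution when the Sylow 2-subgroups are dihedral -/
theorem card_centralizer_dihedral (S : Sylow 2 G) (n : ℕ) (hn : 2 ≤ n)
    (hS : Nonempty ((S : Subgroup G) ≃* DihedralGroup n)) (t : G) (ht : orderOf t = 2)
    (hSC : (S : Subgroup G) ≤ Subgroup.centralizer ({t} : Set G)) :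
    (Nat.card ((Cfsg.oddCore (Subgroup.centralizer ({t} : Set G))).map
      (Subgroup.centralizer ({t} : Set G)).subtype)).Coprime 2 ∧
    Nat.card (Subgroup.centralizer ({t} : Set G)) =
      Nat.card ((Cfsg.oddCore (Subgroup.centralizer ({t} : Set G))).map
        (Subgroup.centralizer ({t} : Set G)).subtype) * Nat.card (S : Subgroup G) := by
  obtain ⟨N, hN, hNodd, k, hk⟩ := Cfsg.Agent.S0514.result S n hn hS t ht
  exact card_of_normal_two_complement S _ hSC N hN hNodd k hk

/-- the abstract set-up holds under the hypotheses of the theorem -/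
theorem exists_dsetup (S : Sylow 2 G) (n : ℕ)
    (hn : 2 ≤ n) (e : (S : Subgroup G) ≃* DihedralGroup n) (t : G) (ht : orderOf t = 2)
    (htS : t ∈ (S : Subgroup G))
    (htZ : ∀ s ∈ (S : Subgroup G), s * t = t * s) (O : Subgroup G)
    (hO : O = (Cfsg.oddCore (Subgroup.centralizer ({t} : Set G))).map
      (Subgroup.centralizer ({t} : Set G)).subtype)
    (ha : O ≠ ⊥ → IsCyclic ((S : Subgroup G) ⊓ Subgroup.centralizer (O : Set G) : Subgroup G) ∧
      ((S : Subgroup G) ⊓ Subgroup.centralizer (O : Set G)).relIndex (S : Subgroup G) = 2)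
    (hb : ∀ s ∈ (S : Subgroup G), s ∉ Subgroup.centralizer (O : Set G) →
      ∀ y ∈ O, s * y * s⁻¹ = y⁻¹)
    (hc : ∀ Y : Subgroup G, Y ≤ O → Y ≠ ⊥ →
      Subgroup.normalizer (Y : Set G) ≤ Subgroup.centralizer ({t} : Set G)) :
    ∃ R : Subgroup G, DSetup (S : Subgroup G) O R t := by
  have hSC : (S : Subgroup G) ≤ Subgroup.centralizer ({t} : Set G) := by
    intro s hs
    rw [Subgroup.mem_centralizer_singleton_iff]
    exact htZ s hs
  have hOC : O ≤ Subgroup.centralizer ({t} : Set G) := by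
    rw [hO]; exact Subgroup.map_subtype_le _
  obtain ⟨hOodd, hcard⟩ := card_centralizer_dihedral S n hn ⟨e⟩ t ht hSC
  rw [← hO] at hOodd hcard
  by_cases hO1 : O = ⊥
  · obtain ⟨R, hRS, hcyc, hidx, htR⟩ := di_exists_cyclic_index_two e hn t ht htS htZ
    refine ⟨R, ⟨ht, S.isPGroup', hOodd, hSC, hOC, hcard, hRS, hcyc, hidx, htR, ?_,
      di_cyclic_index_two e hn R hRS hcyc hidx, ?_, hc⟩⟩
    · intro r _
      rw [Subgroup.mem_centralizer_iff]
      intro o ho
      rw [hO1] at ho
      rw [Subgroup.mem_bot.1 ho]; simp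
    · intro x _ _ y hy
      rw [hO1] at hy
      rw [Subgroup.mem_bot.1 hy]; simp
  · obtain ⟨hcyc, hidx⟩ := ha hO1
    refine ⟨(S : Subgroup G) ⊓ Subgroup.centralizer (O : Set G), ⟨ht, S.isPGroup', hOodd, hSC, hOC,
      hcard, inf_le_left, hcyc, hidx, ?_, inf_le_right,
      di_cyclic_index_two e hn _ inf_le_left hcyc hidx, ?_, hc⟩⟩
    · refine Subgroup.mem_inf.2 ⟨htS, ?_⟩
      rw [Subgroup.mem_centralizer_iff]
      intro o ho
      have := hOC ho
      rw [Subgroup.mem_centralizer_singleton_iff] at this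
      exact this
    · intro x hxS hxR y hy
      apply hb x hxS _ y hy
      intro hxC
      exact hxR (Subgroup.mem_inf.2 ⟨hxS, hxC⟩)

/-- a simple group with dihedral Sylow 2-subgroups has one class of involutions -/
theorem dihedral_all_conj [IsSimpleGroup G] (S : Sylow 2 G) (n : ℕ)
    (hn : 2 ≤ n) (e : (S : Subgroup G) ≃* DihedralGroup n) :
    ∀ x y : G, orderOf x = 2 → orderOf y = 2 → IsConj x y := by
  have hn0 : n ≠ 0 := by omega
  obtain ⟨h, hh0, hh2⟩ := zmod_exists_half hn0 (di_two_dvd S e hn)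
  have hcS : Nat.card (S : Subgroup G) = 2 * n := card_dihedral_sub e hn0
  have hno : ∀ H : Subgroup G, H.index ≠ 2 := by
    intro H hH
    haveI : H.Normal := Subgroup.normal_of_index_eq_two hH
    rcases Subgroup.Normal.eq_bot_or_eq_top (inferInstance : H.Normal) with h1 | h1
    · rw [h1, Subgroup.index_bot] at hH
      have h2 : Nat.card (S : Subgroup G) ∣ Nat.card G := Subgroup.card_subgroup_dvd_card _
      rw [hH, hcS] at h2
      have := Nat.le_of_dvd (by norm_num) h2
      omega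
    · rw [h1, Subgroup.index_top] at hH
      omega
  intro x y hx hy
  exact di_all_conj S e h hh0 hh2 (di_conj_of_no_index_two S e h hh0 hh2 hno) x y hx hy

/-- `Q` has more than three elements in a simple group -/
theorem QD.three_lt [IsSimpleGroup G] {Q D : Subgroup G} (h : QD Q D) : 3 < Nat.card Q := by
  have hq := h.hq
  have hD : 0 < Nat.card D := Nat.card_pos
  by_contra hcon
  have hQ3 : Nat.card Q = 3 := by omega
  have hD1 : Nat.card D = 1 := by omega
  have hG := h.hG
  rw [hQ3] at hG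
  have hG12 : Nat.card G = 12 := by omega
  haveI : Fact (Nat.Prime 3) := ⟨Nat.prime_three⟩
  have hQp : IsPGroup 3 Q := IsPGroup.of_card (n := 1) (by rw [hQ3]; norm_num)
  have hidx : Q.index = 4 := by
    have := Q.card_mul_index
    rw [hQ3, hG12] at this
    omega
  let P : Sylow 3 G := hQp.toSylow (by rw [hidx]; norm_num)
  have hPQ : (P : Subgroup G) = Q := rfl
  have hNC : Subgroup.normalizer ((P : Subgroup G) : Set G) ≤
      Subgroup.centralizer ((P : Subgroup G) : Set G) := by
    rw [hPQ, h.hN]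
    have hDbot : D = ⊥ := Subgroup.card_eq_one.1 hD1
    rw [hDbot, sup_bot_eq]
    intro x hx
    rw [Subgroup.mem_centralizer_iff]
    intro y hy
    exact h.comm hy hx
  rcases sylow_eq_bot_or_top_of_normalizer_le_centralizer P hNC with h1 | h1
  · rw [hPQ] at h1
    rw [h1, Subgroup.card_bot] at hQ3
    omega
  · rw [hPQ] at h1
    rw [h1, Subgroup.card_top, hG12] at hQ3
    omega

/-- the Brauer–Suzuki–Wall theorem for dihedral Sylow 2-subgroups -/
theorem psl_of_dihedral [IsSimpleGroup G] (S : Sylow 2 G) (n : ℕ)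
    (hn : 2 ≤ n) (e : (S : Subgroup G) ≃* DihedralGroup n) (t : G) (ht : orderOf t = 2)
    (htS : t ∈ (S : Subgroup G))
    (htZ : ∀ s ∈ (S : Subgroup G), s * t = t * s) (O : Subgroup G)
    (hO : O = (Cfsg.oddCore (Subgroup.centralizer ({t} : Set G))).map
      (Subgroup.centralizer ({t} : Set G)).subtype)
    (ha : O ≠ ⊥ → IsCyclic ((S : Subgroup G) ⊓ Subgroup.centralizer (O : Set G) : Subgroup G) ∧
      ((S : Subgroup G) ⊓ Subgroup.centralizer (O : Set G)).relIndex (S : Subgroup G) = 2)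
    (hb : ∀ s ∈ (S : Subgroup G), s ∉ Subgroup.centralizer (O : Set G) →
      ∀ y ∈ O, s * y * s⁻¹ = y⁻¹)
    (hc : ∀ Y : Subgroup G, Y ≤ O → Y ≠ ⊥ →
      Subgroup.normalizer (Y : Set G) ≤ Subgroup.centralizer ({t} : Set G)) :
    ∃ (F : Type) (_ : Field F) (_ : Fintype F), Odd (Fintype.card F) ∧
      Nonempty (G ≃* Matrix.ProjectiveSpecialLinearGroup (Fin 2) F) := by
  obtain ⟨R, hd⟩ := exists_dsetup S n hn e t ht htS htZ O hO ha hb hc
  obtain ⟨s, hsS, hsR⟩ := hd.exists_s
  have hyp := hd.hyp hsS hsR (dihedral_all_conj S n hn e)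
  obtain ⟨Q, D, hG, hcent, -, hq, hinf, hN, -⟩ := hyp.concl
  have hQD : QD Q D := ⟨hG, hcent, hq, hinf, hN⟩
  obtain ⟨F, hF1, hF2, hcard, hiso⟩ := hQD.exists_psl hQD.three_lt
  refine ⟨F, hF1, hF2, ?_, hiso⟩
  rw [hcard, ← hq]
  exact ⟨Nat.card D, rfl⟩

end Cfsg.Agent.Lib.Helper7.ABSW
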