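import Mathlib
import Cfsg.Agent.S3993

set_option autoImplicit false

/-!
# Groups in which `p'`-elements have `p'`-index

If every `p'`-element of a finite group has class size prime to `p`, then the Sylow `p`-subgroup
is normal and centralized by every `p'`-element.
-/

namespace Cfsg.Agent.Lib.Helper7.ClassSize

open Pointwise

universe u

variable {H : Type u} [Group H]

theorem mem_smul_sylow (p : ℕ) (P : Sylow p H) (g z : H) :
    z ∈ (g • P : Sylow p H) ↔ g⁻¹ * z * g ∈ P := by
  show z ∈ ((g • P : Sylow p H) : Subgroup H) ↔ _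
  rw [Sylow.coe_subgroup_smul, Subgroup.mem_pointwise_smul_iff_inv_smul_mem]
  simp [MulAut.smul_def]
  rfl

variable [Finite H] (p : ℕ) [hp : Fact p.Prime]

/-- a subgroup of index prime to `p` contains a conjugate of any given `p`-subgroup -/
theorem exists_conj_le_of_coprime_index (C : Subgroup H) (hC : C.index.Coprime p)
    (P : Subgroup H) (hP : IsPGroup p P) : ∃ g : H, ∀ z ∈ P, g⁻¹ * z * g ∈ C := by
  have hnd : ¬ p ∣ Nat.card (H ⧸ C) := by
    rw [← Subgroup.index_eq_card]
    intro h
    exact (Nat.Prime.coprime_iff_not_dvd hp.out).mp hC.symm h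
  obtain ⟨x, hx⟩ := hP.nonempty_fixed_point_of_prime_not_dvd_card (H ⧸ C) hnd
  obtain ⟨g, rfl⟩ := QuotientGroup.mk_surjective x
  refine ⟨g, fun z hz => ?_⟩
  have h0 := hx ⟨z, hz⟩
  have h1 : ((z * g : H) : H ⧸ C) = (g : H ⧸ C) := h0
  rw [QuotientGroup.eq] at h1
  have h2 := C.inv_mem h1
  have h3 : ((z * g)⁻¹ * g)⁻¹ = g⁻¹ * z * g := by group
  rw [← h3]
  exact h2

omit [Finite H] hp in
/-- if `y`, `y'` are `p'`-elements commuting with the `p`-element `w` and `y = y' * w`, then
`w = 1` -/
theorem eq_one_of_coprime_mul {y y' w : H} (hy : (orderOf y).Coprime p)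
    (hy' : (orderOf y').Coprime p) (hw : ∃ k : ℕ, w ^ p ^ k = 1) (hc : Commute y' w)
    (h : y = y' * w) : w = 1 := by
  set t := orderOf y * orderOf y' with ht
  have h1 : y ^ t = 1 := by
    rw [ht, pow_mul, pow_orderOf_eq_one, one_pow]
  have h2 : y' ^ t = 1 := by
    rw [ht, mul_comm, pow_mul, pow_orderOf_eq_one, one_pow]
  have h3 : w ^ t = 1 := by
    rw [h, hc.mul_pow, h2, one_mul] at h1
    exact h1
  obtain ⟨k, hk⟩ := hw
  have h4 : orderOf w ∣ t := orderOf_dvd_of_pow_eq_one h3
  have h5 : orderOf w ∣ p ^ k := orderOf_dvd_of_pow_eq_one hk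
  have h6 : (p ^ k).Coprime t := by
    apply Nat.Coprime.pow_left
    rw [ht]
    exact Nat.Coprime.mul_right hy.symm hy'.symm
  have h7 : orderOf w = 1 := Nat.eq_one_of_dvd_coprimes h6 h5 h4
  exact orderOf_eq_one_iff.mp h7

/-- if all `p'`-elements have class size prime to `p` then the Sylow `p`-subgroup is normal and
centralized by all `p'`-elements -/
theorem sylow_normal_of_coprime_index
    (hH : ∀ y : H, (orderOf y).Coprime p → ((Subgroup.centralizer {y}).index).Coprime p)
    (P : Sylow p H) :
    (P : Subgroup H).Normal ∧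
      ∀ y : H, (orderOf y).Coprime p → y ∈ Subgroup.centralizer ((P : Subgroup H) : Set H) := by
  classical
  haveI := Fintype.ofFinite H
  haveI : Fintype (Sylow p H) := Fintype.ofFinite _
  set v := (Nat.card H).factorization p with hv
  set m := Nat.card H / p ^ v with hm
  have hHm : p ^ v * m = Nat.card H := Nat.ordProj_mul_ordCompl_eq_self _ _
  have hmcop : p.Coprime m := Nat.coprime_ordCompl hp.out Nat.card_pos.ne'
  let E : Finset H := Finset.univ.filter (fun y => (orderOf y).Coprime p)
  let ES : Sylow p H → Finset H := fun S => E.filter (fun y => ∀ z ∈ S, z * y = y * z)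
  have hmemE : ∀ y : H, y ∈ E ↔ (orderOf y).Coprime p := by
    intro y
    simp [E]
  have hmemES : ∀ (S : Sylow p H) (y : H), y ∈ ES S ↔
      (orderOf y).Coprime p ∧ ∀ z ∈ S, z * y = y * z := by
    intro S y
    simp [ES, E]
  -- every `p'`-element centralizes some Sylow subgroup
  have hcov : ∀ y ∈ E, ∃ S : Sylow p H, y ∈ ES S := by
    intro y hy
    have hy' : (orderOf y).Coprime p := (hmemE y).mp hy
    obtain ⟨g, hg⟩ := exists_conj_le_of_coprime_index p _ (hH y hy') P P.isPGroup'
    refine ⟨g⁻¹ • P, (hmemES _ _).mpr ⟨hy', fun z hz => ?_⟩⟩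
    rw [mem_smul_sylow, inv_inv] at hz
    have h1 := hg _ hz
    have h2 : g⁻¹ * (g * z * g⁻¹) * g = z := by group
    rw [h2] at h1
    exact Subgroup.mem_centralizer_singleton_iff.mp h1
  -- all the `ES S` have the same size
  have hconjcard : ∀ S : Sylow p H, (ES S).card = (ES P).card := by
    intro S
    obtain ⟨g, rfl⟩ := MulAction.exists_smul_eq H P S
    symm
    apply Finset.card_bij (fun y _ => g * y * g⁻¹)
    · intro y hy
      rw [hmemES] at hy ⊢
      refine ⟨?_, fun z hz => ?_⟩
      · have : orderOf (g * y * g⁻¹) = orderOf y := (MulAut.conj g).orderOf_eq y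
        rw [this]
        exact hy.1
      · rw [mem_smul_sylow] at hz
        have h1 := hy.2 _ hz
        calc z * (g * y * g⁻¹) = g * ((g⁻¹ * z * g) * y) * g⁻¹ := by group
          _ = g * (y * (g⁻¹ * z * g)) * g⁻¹ := by rw [h1]
          _ = g * y * g⁻¹ * z := by group
    · intro y _ y' _ h
      have h1 : g⁻¹ * (g * y * g⁻¹) * g = g⁻¹ * (g * y' * g⁻¹) * g := by rw [h]
      have e1 : g⁻¹ * (g * y * g⁻¹) * g = y := by group
      have e2 : g⁻¹ * (g * y' * g⁻¹) * g = y' := by group
      rw [e1, e2] at h1
      exact h1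
    · intro y hy
      rw [hmemES] at hy
      refine ⟨g⁻¹ * y * g, ?_, by group⟩
      rw [hmemES]
      refine ⟨?_, fun z hz => ?_⟩
      · have : orderOf (g⁻¹ * y * g) = orderOf y := by
          have := (MulAut.conj g⁻¹).orderOf_eq y
          simpa using this
        rw [this]
        exact hy.1
      · have hz' : g * z * g⁻¹ ∈ (g • P : Sylow p H) := by
          rw [mem_smul_sylow]
          have : g⁻¹ * (g * z * g⁻¹) * g = z := by group
          rw [this]
          exact hz
        have h1 := hy.2 _ hz'
        calc z * (g⁻¹ * y * g) = g⁻¹ * ((g * z * g⁻¹) * y) * g := by group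
          _ = g⁻¹ * (y * (g * z * g⁻¹)) * g := by rw [h1]
          _ = g⁻¹ * y * g * z := by group
  -- `1 ∈ ES S`
  have hone : ∀ S : Sylow p H, (1 : H) ∈ ES S := by
    intro S
    rw [hmemES]
    refine ⟨by simp, fun z _ => by rw [mul_one, one_mul]⟩
  -- the bound `e * p ^ v ≤ |N(P)|`
  have hcardP : Nat.card (P : Subgroup H) = p ^ v := P.card_eq_multiplicity
  have hbound : (ES P).card * p ^ v ≤
      Nat.card (Subgroup.normalizer ((P : Subgroup H) : Set H)) := by
    rw [← hcardP, Nat.card_eq_fintype_card, Nat.card_eq_fintype_card, ← Fintype.card_coe,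
      ← Fintype.card_prod]
    have hmemN : ∀ (y : {y // y ∈ ES P}) (z : (P : Subgroup H)),
        (y : H) * (z : H) ∈ Subgroup.normalizer ((P : Subgroup H) : Set H) := by
      intro y z
      apply Subgroup.mul_mem
      · have hy := ((hmemES P y.1).mp y.2).2
        rw [Subgroup.mem_normalizer_iff]
        intro w
        constructor
        · intro hw
          have h1 := hy w hw
          have h2 : (y : H) * w * (y : H)⁻¹ = w := by
            rw [← h1, mul_assoc, mul_inv_cancel, mul_one]
          rw [h2]
          exact hw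
        · intro hw
          have h1 := hy _ hw
          have h2 : w = (y : H) * w * (y : H)⁻¹ := by
            have : (y : H) * w * (y : H)⁻¹ * (y : H) = (y : H) * ((y : H) * w * (y : H)⁻¹) := h1
            have h3 : (y : H) * w = (y : H) * ((y : H) * w * (y : H)⁻¹) := by
              rw [← this]
              group
            exact mul_left_cancel h3
          rw [h2]
          exact hw
      · exact Subgroup.le_normalizer z.2
    apply Fintype.card_le_of_injective
      (fun yz : {y // y ∈ ES P} × (P : Subgroup H) =>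
        (⟨(yz.1 : H) * (yz.2 : H), hmemN yz.1 yz.2⟩ :
          Subgroup.normalizer ((P : Subgroup H) : Set H)))
    rintro ⟨y, z⟩ ⟨y', z'⟩ h
    have h1 : (y : H) * (z : H) = (y' : H) * (z' : H) := congrArg Subtype.val h
    have hy := (hmemES P y.1).mp y.2
    have hy' := (hmemES P y'.1).mp y'.2
    set w : H := (z' : H) * (z : H)⁻¹ with hw
    have hwP : w ∈ (P : Subgroup H) := Subgroup.mul_mem _ z'.2 (Subgroup.inv_mem _ z.2)
    have h2 : (y : H) = (y' : H) * w := by
      rw [hw, ← mul_assoc, ← h1]
      group
    have hc : Commute (y' : H) w := (hy'.2 w hwP).symm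
    have hwp : ∃ k : ℕ, w ^ p ^ k = 1 := by
      obtain ⟨k, hk⟩ := P.isPGroup' ⟨w, hwP⟩
      exact ⟨k, by simpa using congrArg Subtype.val hk⟩
    have hw1 := eq_one_of_coprime_mul p hy.1 hy'.1 hwp hc h2
    have hyy : (y : H) = (y' : H) := by rw [h2, hw1, mul_one]
    have hzz : (z : H) = (z' : H) := by
      rw [hw, mul_inv_eq_one] at hw1
      exact hw1.symm
    exact Prod.ext (Subtype.ext hyy) (Subtype.ext hzz)
  -- Sylow counting
  have hnp : Nat.card (Sylow p H) *
      Nat.card (Subgroup.normalizer ((P : Subgroup H) : Set H)) = Nat.card H := by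
    have h1 : Nat.card (Sylow p H) =
        (Subgroup.normalizer ((P : Subgroup H) : Set H)).index := Sylow.card_eq_index_normalizer P
    rw [h1, mul_comm, Subgroup.card_mul_index]
  -- Frobenius: `m ∣ |E|`
  have hEm : m ≤ E.card := by
    have h1 : m ∣ Nat.card {g : H // g ^ m = 1} :=
      Cfsg.Agent.S3993.result m (Dvd.intro_left _ hHm)
    have h2 : Nat.card {g : H // g ^ m = 1} = E.card := by
      rw [Nat.card_eq_fintype_card, Fintype.card_subtype]
      congr 1
      ext y
      simp only [Finset.mem_filter, Finset.mem_univ, true_and, E]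
      constructor
      · intro h
        have h3 : orderOf y ∣ m := orderOf_dvd_of_pow_eq_one h
        exact Nat.Coprime.coprime_dvd_left h3 hmcop.symm
      · intro h
        have h3 : orderOf y ∣ p ^ v * m := by
          rw [hHm]
          exact orderOf_dvd_natCard y
        have h4 : orderOf y ∣ m := (Nat.Coprime.pow_right v h).dvd_of_dvd_mul_left h3
        exact orderOf_dvd_iff_pow_eq_one.mp h4
    rw [h2] at h1
    have h3 : 0 < E.card := Finset.card_pos.mpr ⟨1, by simp [E]⟩
    exact Nat.le_of_dvd h3 h1
  -- upper bound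
  set e := (ES P).card with he
  have hepos : 1 ≤ e := Finset.card_pos.mpr ⟨1, hone P⟩
  have hupper : E.card ≤ 1 + Nat.card (Sylow p H) * (e - 1) := by
    have hsub : E ⊆ {1} ∪ Finset.univ.biUnion (fun S : Sylow p H => (ES S).erase 1) := by
      intro y hy
      by_cases hy1 : y = 1
      · rw [hy1]
        simp
      · obtain ⟨S, hS⟩ := hcov y hy
        apply Finset.mem_union_right
        rw [Finset.mem_biUnion]
        exact ⟨S, Finset.mem_univ _, Finset.mem_erase.mpr ⟨hy1, hS⟩⟩
    calc E.card ≤ ({1} ∪ Finset.univ.biUnion (fun S : Sylow p H => (ES S).erase 1)).card :=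
          Finset.card_le_card hsub
      _ ≤ ({1} : Finset H).card +
          (Finset.univ.biUnion (fun S : Sylow p H => (ES S).erase 1)).card :=
          Finset.card_union_le _ _
      _ ≤ 1 + ∑ S : Sylow p H, ((ES S).erase 1).card := by
          rw [Finset.card_singleton]
          exact Nat.add_le_add_left Finset.card_biUnion_le _
      _ = 1 + Nat.card (Sylow p H) * (e - 1) := by
          congr 1
          have : ∀ S : Sylow p H, ((ES S).erase 1).card = e - 1 := by
            intro S
            rw [Finset.card_erase_of_mem (hone S), hconjcard S]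
          rw [Finset.sum_congr rfl (fun S _ => this S), Finset.sum_const, Finset.card_univ,
            smul_eq_mul, Nat.card_eq_fintype_card]
  -- conclude `n_p = 1`
  set np := Nat.card (Sylow p H) with hnpdef
  have hnppos : 0 < np := Nat.card_pos
  have hne : np * e ≤ m := by
    have h1 : np * (e * p ^ v) ≤ np * Nat.card (Subgroup.normalizer ((P : Subgroup H) : Set H)) :=
      Nat.mul_le_mul_left _ hbound
    rw [hnp, ← hHm] at h1
    have h2 : p ^ v * (np * e) ≤ p ^ v * m := by
      calc p ^ v * (np * e) = np * (e * p ^ v) := by ring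
        _ ≤ p ^ v * m := h1
    exact Nat.le_of_mul_le_mul_left h2 (pow_pos hp.out.pos v)
  have hnp1 : np = 1 := by
    have h1 : m ≤ 1 + np * (e - 1) := hEm.trans hupper
    have h2 : np * (e - 1) + np = np * e := by
      rw [← Nat.mul_succ]
      congr 1
      omega
    omega
  haveI : Subsingleton (Sylow p H) := by
    rw [← Finite.card_le_one_iff_subsingleton]
    omega
  refine ⟨Sylow.normal_of_subsingleton P, fun y hy => ?_⟩
  obtain ⟨S, hS⟩ := hcov y ((hmemE y).mpr hy)
  have hSP : S = P := Subsingleton.elim _ _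
  rw [hSP, hmemES] at hS
  rw [Subgroup.mem_centralizer_iff]
  intro z hz
  exact hS.2 z hz

end Cfsg.Agent.Lib.Helper7.ClassSize
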