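import Mathlib
import Cfsg.Agent.Lib.Helper7.ClassSize1

set_option autoImplicit false

/-!
Wielandt's theorem for abelian Hall subgroups, elementwise form: if `H` is an abelian Hall
subgroup of the finite group `G`, then every element of order prime to `|G : H|` is conjugate
to an element of `H`.
-/

namespace Cfsg.Agent.Lib.Helper7.AbHall

universe u

open Cfsg.Agent.Lib.Helper7.ClassSize

theorem normal_zpowers_of_central {G : Type*} [Group G] (y : G) (hy : ∀ g : G, g * y = y * g) :
    (Subgroup.zpowers y).Normal := by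
  constructor
  intro n hn g
  have hc : Commute g n := by
    obtain ⟨k, rfl⟩ := Subgroup.mem_zpowers_iff.mp hn
    exact (show Commute g y from hy g).zpow_right k
  have : g * n * g⁻¹ = n := by rw [hc.eq, mul_inv_cancel_right]
  rw [this]; exact hn

theorem conj_mem_aux (n : ℕ) : ∀ (G : Type u) [Group G] [Finite G], Nat.card G = n →
    ∀ H : Subgroup G, (∀ a ∈ H, ∀ b ∈ H, a * b = b * a) → (Nat.card H).Coprime H.index →
    ∀ x : G, (orderOf x).Coprime H.index → ∃ g : G, g * x * g⁻¹ ∈ H := by
  induction n using Nat.strong_induction_on with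
  | _ n ih =>
  intro G _ _ hcard H hab hcop x hx
  by_cases hx1 : x = 1
  · exact ⟨1, by rw [hx1]; simp [H.one_mem]⟩
  have ho0 : orderOf x ≠ 0 := (orderOf_pos x).ne'
  have ho1 : orderOf x ≠ 1 := fun h => hx1 (orderOf_eq_one_iff.mp h)
  set q := (orderOf x).minFac with hq
  have hqp : q.Prime := Nat.minFac_prime ho1
  haveI : Fact q.Prime := ⟨hqp⟩
  have hqdvd : q ∣ orderOf x := Nat.minFac_dvd _
  -- reduce to the case where the order-q power lies in H
  have hidx : H.index.Coprime q := (Nat.Coprime.coprime_dvd_left hqdvd hx).symm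
  set y0 := x ^ (orderOf x / q) with hy0
  have hy0o : orderOf y0 = q := orderOf_pow_orderOf_div ho0 hqdvd
  have hPg : IsPGroup q (Subgroup.zpowers y0) := by
    apply IsPGroup.of_card (n := 1)
    rw [Nat.card_zpowers, hy0o, pow_one]
  obtain ⟨g0, hg0⟩ := exists_conj_le_of_coprime_index q H hidx (Subgroup.zpowers y0) hPg
  set x' := g0⁻¹ * x * g0 with hx'
  have hx'o : orderOf x' = orderOf x := by
    have := MulEquiv.orderOf_eq (MulAut.conj g0⁻¹) x
    simpa [MulAut.conj_apply, hx'] using this
  set y := x' ^ (orderOf x / q) with hy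
  have hyy0 : y = g0⁻¹ * y0 * g0 := by
    rw [hy, hx', hy0]
    have := map_pow (MulAut.conj g0⁻¹).toMonoidHom x (orderOf x / q)
    simpa [MulAut.conj_apply] using this.symm
  have hyH : y ∈ H := by rw [hyy0]; exact hg0 y0 (Subgroup.mem_zpowers y0)
  have hyo : orderOf y = q := by
    rw [hy, ← hx'o]
    exact orderOf_pow_orderOf_div (by rw [hx'o]; exact ho0) (by rw [hx'o]; exact hqdvd)
  suffices h : ∃ g : G, g * x' * g⁻¹ ∈ H by
    obtain ⟨g, hg⟩ := h
    refine ⟨g * g0⁻¹, ?_⟩
    have : g * g0⁻¹ * x * (g * g0⁻¹)⁻¹ = g * x' * g⁻¹ := by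
      rw [hx']; group
    rw [this]; exact hg
  have hx'cop : (orderOf x').Coprime H.index := by rw [hx'o]; exact hx
  set C := Subgroup.centralizer ({y} : Set G) with hC
  have hHC : H ≤ C := by
    intro h hh
    rw [hC, Subgroup.mem_centralizer_singleton_iff]
    exact hab h hh y hyH
  have hxC : x' ∈ C := by
    rw [hC, Subgroup.mem_centralizer_singleton_iff, hy]
    exact ((Commute.refl x').pow_right _).eq
  by_cases hCtop : C = ⊤
  · -- y is central
    have hycen : ∀ g : G, g * y = y * g := by
      intro g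
      have : g ∈ C := by rw [hCtop]; trivial
      rw [hC, Subgroup.mem_centralizer_singleton_iff] at this
      exact this
    haveI hNn : (Subgroup.zpowers y).Normal := normal_zpowers_of_central y hycen
    set N := Subgroup.zpowers y with hN
    have hNH : N ≤ H := by rw [hN, Subgroup.zpowers_le]; exact hyH
    have hNcard : Nat.card N = q := by rw [hN, Nat.card_zpowers, hyo]
    have hlt : Nat.card (G ⧸ N) < n := by
      have h1 := Subgroup.card_eq_card_quotient_mul_card_subgroup N
      rw [hcard, hNcard] at h1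
      have h2 : 0 < Nat.card (G ⧸ N) := Nat.card_pos
      have h3 := hqp.two_le
      nlinarith
    set Hb := H.map (QuotientGroup.mk' N) with hHb
    have hHbab : ∀ a ∈ Hb, ∀ b ∈ Hb, a * b = b * a := by
      rintro _ ⟨a, ha, rfl⟩ _ ⟨b, hb, rfl⟩
      rw [← map_mul, ← map_mul, hab a ha b hb]
    have hHbidx : Hb.index = H.index := by
      apply Subgroup.index_map_eq _ (QuotientGroup.mk'_surjective N)
      rw [QuotientGroup.ker_mk']; exact hNH
    have hHbcop : (Nat.card Hb).Coprime Hb.index := by
      rw [hHbidx]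
      exact Nat.Coprime.coprime_dvd_left (Subgroup.card_map_dvd _ _) hcop
    have hxb : (orderOf ((QuotientGroup.mk' N) x')).Coprime Hb.index := by
      rw [hHbidx]
      exact Nat.Coprime.coprime_dvd_left (orderOf_map_dvd _ _) hx'cop
    obtain ⟨gb, hgb⟩ := ih _ hlt (G ⧸ N) rfl Hb hHbab hHbcop _ hxb
    obtain ⟨g, rfl⟩ := QuotientGroup.mk'_surjective N gb
    refine ⟨g, ?_⟩
    rw [← map_inv, ← map_mul, ← map_mul] at hgb
    obtain ⟨h, hh, hhe⟩ := hgb
    have h1 : h⁻¹ * (g * x' * g⁻¹) ∈ N := by
      rw [← QuotientGroup.eq]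
      exact hhe
    have h2 := H.mul_mem hh (hNH h1)
    rwa [mul_inv_cancel_left] at h2
  · -- induct in C
    have hlt : Nat.card C < n := by
      rw [← hcard]
      by_contra hge
      exact hCtop (Subgroup.eq_top_of_le_card C (not_lt.mp hge))
    set HC := H.subgroupOf C with hHC'
    have hHCab : ∀ a ∈ HC, ∀ b ∈ HC, a * b = b * a := by
      intro a ha b hb
      apply Subtype.ext
      exact hab a ha b hb
    have hHCcard : Nat.card HC = Nat.card H :=
      Nat.card_congr (Subgroup.subgroupOfEquivOfLe hHC).toEquiv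
    have hHCidx : HC.index ∣ H.index := Subgroup.relIndex_dvd_index_of_le hHC
    have hHCcop : (Nat.card HC).Coprime HC.index := by
      rw [hHCcard]
      exact Nat.Coprime.coprime_dvd_right hHCidx hcop
    have hxc : (orderOf (⟨x', hxC⟩ : C)).Coprime HC.index := by
      rw [Subgroup.orderOf_mk]
      exact Nat.Coprime.coprime_dvd_right hHCidx hx'cop
    obtain ⟨c, hc⟩ := ih _ hlt C rfl HC hHCab hHCcop _ hxc
    refine ⟨(c : G), ?_⟩
    rw [hHC', Subgroup.mem_subgroupOf] at hc
    simpa using hc

/-- **Wielandt** (abelian Hall subgroups, elementwise form). -/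
theorem exists_conj_mem {G : Type u} [Group G] [Finite G] (H : Subgroup G)
    (hab : ∀ a ∈ H, ∀ b ∈ H, a * b = b * a) (hcop : (Nat.card H).Coprime H.index)
    (x : G) (hx : (orderOf x).Coprime H.index) : ∃ g : G, g * x * g⁻¹ ∈ H :=
  conj_mem_aux _ G rfl H hab hcop x hx

end Cfsg.Agent.Lib.Helper7.AbHall
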