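import Mathlib

set_option autoImplicit false

/-!
# Groups `G = A⟨x⟩` with `A` an abelian normal subgroup

The commutator subgroup is the image of `a ↦ x a x⁻¹ a⁻¹`, of order `|A : C_A(x)|`.
-/

namespace Cfsg.Agent.Lib.Helper7.AbMax

open scoped commutatorElement

variable {G : Type*} [Group G]

/-- the map `a ↦ x a x⁻¹ a⁻¹` on an abelian normal subgroup -/
def theta (A : Subgroup G) [A.Normal] (hA : ∀ a ∈ A, ∀ b ∈ A, a * b = b * a) (x : G) : A →* A where
  toFun a := ⟨x * a * x⁻¹ * (a : G)⁻¹, A.mul_mem (‹A.Normal›.conj_mem _ a.2 x) (A.inv_mem a.2)⟩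
  map_one' := by
    apply Subtype.ext
    simp
  map_mul' a b := by
    apply Subtype.ext
    show x * (a * b : G) * x⁻¹ * (a * b : G)⁻¹ = (x * a * x⁻¹ * (a : G)⁻¹) * (x * b * x⁻¹ * (b : G)⁻¹)
    have h1 : (x * b * x⁻¹ * (b : G)⁻¹) ∈ A :=
      A.mul_mem (‹A.Normal›.conj_mem _ b.2 x) (A.inv_mem b.2)
    have h2 := hA _ (A.inv_mem a.2) _ h1
    calc x * (a * b : G) * x⁻¹ * (a * b : G)⁻¹
        = x * a * x⁻¹ * ((x * b * x⁻¹ * (b : G)⁻¹) * (a : G)⁻¹) := by group
      _ = x * a * x⁻¹ * ((a : G)⁻¹ * (x * b * x⁻¹ * (b : G)⁻¹)) := by rw [h2]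
      _ = _ := by group

theorem theta_apply (A : Subgroup G) [A.Normal] (hA : ∀ a ∈ A, ∀ b ∈ A, a * b = b * a) (x : G) (a : A) :
    ((theta A hA x a : A) : G) = x * a * x⁻¹ * (a : G)⁻¹ := rfl

theorem mem_ker_theta (A : Subgroup G) [A.Normal] (hA : ∀ a ∈ A, ∀ b ∈ A, a * b = b * a) (x : G) (a : A) :
    a ∈ (theta A hA x).ker ↔ x * a = a * x := by
  rw [MonoidHom.mem_ker]
  constructor
  · intro h
    have h1 := congrArg Subtype.val h
    rw [theta_apply] at h1
    have h2 : x * a * x⁻¹ * (a : G)⁻¹ = 1 := h1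
    calc x * a = (x * a * x⁻¹ * (a : G)⁻¹) * (a * x) := by group
      _ = a * x := by rw [h2, one_mul]
  · intro h
    apply Subtype.ext
    rw [theta_apply, h]
    show (a : G) * x * x⁻¹ * (a : G)⁻¹ = 1
    group

/-- the image of `theta`, as a subgroup of `G` -/
def R (A : Subgroup G) [A.Normal] (hA : ∀ a ∈ A, ∀ b ∈ A, a * b = b * a) (x : G) : Subgroup G :=
  (theta A hA x).range.map A.subtype

theorem mem_R (A : Subgroup G) [A.Normal] (hA : ∀ a ∈ A, ∀ b ∈ A, a * b = b * a) (x g : G) :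
    g ∈ R A hA x ↔ ∃ a ∈ A, x * a * x⁻¹ * a⁻¹ = g := by
  unfold R
  constructor
  · rintro ⟨_, ⟨a, rfl⟩, rfl⟩
    exact ⟨a, a.2, rfl⟩
  · rintro ⟨a, ha, rfl⟩
    exact ⟨theta A hA x ⟨a, ha⟩, ⟨⟨a, ha⟩, rfl⟩, rfl⟩

theorem R_le (A : Subgroup G) [A.Normal] (hA : ∀ a ∈ A, ∀ b ∈ A, a * b = b * a) (x : G) :
    R A hA x ≤ A := by
  intro g hg
  obtain ⟨a, ha, rfl⟩ := (mem_R A hA x g).mp hg
  exact A.mul_mem (‹A.Normal›.conj_mem _ ha x) (A.inv_mem ha)

theorem R_le_commutator (A : Subgroup G) [A.Normal] (hA : ∀ a ∈ A, ∀ b ∈ A, a * b = b * a) (x : G) :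
    R A hA x ≤ commutator G := by
  intro g hg
  obtain ⟨a, ha, rfl⟩ := (mem_R A hA x g).mp hg
  rw [commutator_def]
  exact Subgroup.commutator_mem_commutator (Subgroup.mem_top x) (Subgroup.mem_top a)

theorem R_normal (A : Subgroup G) [A.Normal] (hA : ∀ a ∈ A, ∀ b ∈ A, a * b = b * a) (x : G)
    (hgen : A ⊔ Subgroup.zpowers x = ⊤) : (R A hA x).Normal := by
  have hnorm : A ⊔ Subgroup.zpowers x ≤ Subgroup.normalizer (R A hA x : Set G) := by
    apply sup_le
    · intro b hb
      rw [Subgroup.mem_normalizer_iff]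
      intro g
      have key : ∀ g, g ∈ R A hA x → b * g * b⁻¹ = g := by
        intro g hg
        have hgA := R_le A hA x hg
        rw [hA b hb g hgA]
        group
      constructor
      · intro hg
        rw [key g hg]; exact hg
      · intro hg
        have := key _ hg
        have h2 : b * (b * g * b⁻¹) * b⁻¹ = b * g * b⁻¹ := this
        have h3 : b * g * b⁻¹ = g := by
          calc b * g * b⁻¹ = b⁻¹ * (b * (b * g * b⁻¹) * b⁻¹) * b := by group
            _ = b⁻¹ * (b * g * b⁻¹) * b := by rw [h2]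
            _ = g := by group
        rw [← h3]; exact hg
    · rw [Subgroup.zpowers_le]
      rw [Subgroup.mem_normalizer_iff]
      intro g
      constructor
      · intro hg
        obtain ⟨a, ha, rfl⟩ := (mem_R A hA x g).mp hg
        rw [mem_R]
        refine ⟨x * a * x⁻¹, ‹A.Normal›.conj_mem _ ha x, ?_⟩
        group
      · intro hg
        obtain ⟨a, ha, hga⟩ := (mem_R A hA x _).mp hg
        rw [mem_R]
        refine ⟨x⁻¹ * a * x, ?_, ?_⟩
        · have := ‹A.Normal›.conj_mem _ ha x⁻¹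
          rwa [inv_inv] at this
        · calc x * (x⁻¹ * a * x) * x⁻¹ * (x⁻¹ * a * x)⁻¹ = x⁻¹ * (x * a * x⁻¹ * a⁻¹) * x := by group
            _ = x⁻¹ * (x * g * x⁻¹) * x := by rw [hga]
            _ = g := by group
  rw [hgen, top_le_iff] at hnorm
  exact Subgroup.normalizer_eq_top_iff.mp hnorm

/-- the commutator subgroup of `A⟨x⟩` -/
theorem commutator_eq_R (A : Subgroup G) [A.Normal] (hA : ∀ a ∈ A, ∀ b ∈ A, a * b = b * a) (x : G)
    (hgen : A ⊔ Subgroup.zpowers x = ⊤) : commutator G = R A hA x := by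
  apply le_antisymm _ (R_le_commutator A hA x)
  haveI := R_normal A hA x hgen
  rw [← Subgroup.Normal.quotient_commutative_iff_commutator_le]
  set π := QuotientGroup.mk' (R A hA x) with hπ
  have hgenQ : A.map π ⊔ Subgroup.zpowers (π x) = ⊤ := by
    rw [← MonoidHom.map_zpowers, ← Subgroup.map_sup, hgen]
    exact Subgroup.map_top_of_surjective _ (QuotientGroup.mk'_surjective _)
  have hxa : ∀ a ∈ A, π x * π a = π a * π x := by
    intro a ha
    have h1 : x * a * x⁻¹ * a⁻¹ ∈ R A hA x := (mem_R A hA x _).mpr ⟨a, ha, rfl⟩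
    have h2 : π (x * a * x⁻¹ * a⁻¹) = 1 := (QuotientGroup.eq_one_iff _).mpr h1
    rw [map_mul, map_mul, map_mul, map_inv, map_inv] at h2
    calc π x * π a = (π x * π a * (π x)⁻¹ * (π a)⁻¹) * (π a * π x) := by group
      _ = π a * π x := by rw [h2, one_mul]
  have hcenA : A.map π ≤ Subgroup.center (G ⧸ R A hA x) := by
    rintro _ ⟨a, ha, rfl⟩
    have : (⊤ : Subgroup (G ⧸ R A hA x)) ≤ Subgroup.centralizer {π a} := by
      rw [← hgenQ]
      apply sup_le
      · rintro _ ⟨b, hb, rfl⟩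
        rw [Subgroup.mem_centralizer_singleton_iff, ← map_mul, ← map_mul, hA b hb a ha]
      · rw [Subgroup.zpowers_le, Subgroup.mem_centralizer_singleton_iff]
        exact hxa a ha
    rw [Subgroup.mem_center_iff]
    intro g
    have := this (Subgroup.mem_top g)
    rw [Subgroup.mem_centralizer_singleton_iff] at this
    exact this
  have hcenx : π x ∈ Subgroup.center (G ⧸ R A hA x) := by
    have : (⊤ : Subgroup (G ⧸ R A hA x)) ≤ Subgroup.centralizer {π x} := by
      rw [← hgenQ]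
      apply sup_le
      · rintro _ ⟨b, hb, rfl⟩
        rw [Subgroup.mem_centralizer_singleton_iff]
        exact (hxa b hb).symm
      · rw [Subgroup.zpowers_le, Subgroup.mem_centralizer_singleton_iff]
    rw [Subgroup.mem_center_iff]
    intro g
    have := this (Subgroup.mem_top g)
    rw [Subgroup.mem_centralizer_singleton_iff] at this
    exact this
  have htop : Subgroup.center (G ⧸ R A hA x) = ⊤ := by
    rw [eq_top_iff, ← hgenQ]
    apply sup_le hcenA
    rw [Subgroup.zpowers_le]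
    exact hcenx
  refine ⟨⟨fun a b => ?_⟩⟩
  have : a ∈ Subgroup.center (G ⧸ R A hA x) := by rw [htop]; exact Subgroup.mem_top a
  rw [Subgroup.mem_center_iff] at this
  exact (this b).symm

/-- `|G'| · |C_A(x)| = |A|` -/
theorem card_commutator_mul (A : Subgroup G) [A.Normal] [Finite G]
    (hA : ∀ a ∈ A, ∀ b ∈ A, a * b = b * a) (x : G)
    (hgen : A ⊔ Subgroup.zpowers x = ⊤) :
    Nat.card (commutator G) * Nat.card (theta A hA x).ker = Nat.card A := by
  rw [commutator_eq_R A hA x hgen]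
  unfold R
  rw [Subgroup.card_map_of_injective A.subtype_injective]
  have h1 := Subgroup.card_eq_card_quotient_mul_card_subgroup (theta A hA x).ker
  rw [h1, Nat.card_congr (QuotientGroup.quotientKerEquivRange (theta A hA x)).toEquiv]

end Cfsg.Agent.Lib.Helper7.AbMax
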