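import Mathlib
import Cfsg.Agent.Lib.Helper7.AffFrob
import Cfsg.Agent.S2475

set_option autoImplicit false

/-!
Frobenius groups `K ⋊ μ_m` inside the affine group of a finite field `K`.
-/

namespace Cfsg.Agent.Lib.Helper7

/-- the spectrum of a cyclic group `⟨x⟩` of order `m` -/
theorem spectrum_zpowers {G : Type*} [Group G] (x : G) (m : ℕ) (hm : orderOf x = m) (hm0 : m ≠ 0) :
    Set.range (orderOf : Subgroup.zpowers x → ℕ) = {n | n ∣ m} := by
  ext n
  simp only [Set.mem_range, Set.mem_ofPred_eq]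
  constructor
  · rintro ⟨y, rfl⟩
    have h1 : Nat.card (Subgroup.zpowers x) = m := by rw [Nat.card_zpowers, hm]
    haveI : Finite (Subgroup.zpowers x) := by
      apply Nat.finite_of_card_ne_zero
      rw [h1]; exact hm0
    rw [← h1]
    exact orderOf_dvd_natCard y
  · intro hn
    have h1 : orderOf (⟨x, Subgroup.mem_zpowers x⟩ : Subgroup.zpowers x) = m := by
      rw [Subgroup.orderOf_mk, hm]
    exact Cfsg.Agent.S2475.exists_orderOf_of_dvd _ m n h1 hm0 hn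

/-- a solvable group with spectrum `D(p) ∪ D(m)` for `m ∣ |K| - 1` -/
theorem exists_frob_group (K : Type) [Field K] [Finite K] (p : ℕ) [hp : Fact p.Prime] [CharP K p]
    (m : ℕ) (hm : m ∣ Nat.card K - 1) :
    ∃ (X : Type) (_ : Group X) (_ : Finite X), Group.IsSolvable X ∧
      Set.range (orderOf : X → ℕ) = {n | n ∣ p ∨ n ∣ m} := by
  classical
  letI : Fintype K := Fintype.ofFinite K
  have hcardU : Nat.card Kˣ = Nat.card K - 1 := by
    rw [Nat.card_eq_fintype_card, Nat.card_eq_fintype_card, Fintype.card_units]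
  have hK2 : 2 ≤ Nat.card K := by
    rw [Nat.card_eq_fintype_card]; exact Fintype.one_lt_card
  have hm0 : m ≠ 0 := by
    rintro rfl
    rw [zero_dvd_iff] at hm
    omega
  obtain ⟨g, hg⟩ := IsCyclic.exists_ofOrder_eq_natCard (α := Kˣ)
  rw [hcardU] at hg
  obtain ⟨c, hc⟩ := hm
  have hc0 : c ≠ 0 := by
    rintro rfl
    rw [mul_zero] at hc; omega
  set x : Kˣ := g ^ c with hx
  have hxo : orderOf x = m := by
    rw [hx, orderOf_pow_of_dvd hc0 (by rw [hg, hc]; exact dvd_mul_left c m), hg, hc,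
      Nat.mul_div_cancel _ (Nat.pos_of_ne_zero hc0)]
  haveI : Finite (Subgroup.zpowers x) := inferInstance
  have hfpf : ∀ u : Subgroup.zpowers x, u ≠ 1 → ∀ v : K, u • v = v → v = 0 := by
    intro u hu v hv
    have h1 : (((u : Kˣ) : K)) * v = v := hv
    have h2 : ((((u : Kˣ) : K)) - 1) * v = 0 := by rw [sub_mul, h1, one_mul, sub_self]
    rcases mul_eq_zero.mp h2 with h3 | h3
    · exfalso
      apply hu
      apply Subtype.ext
      apply Units.ext
      rw [sub_eq_zero] at h3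
      simpa using h3
    · exact h3
  have hVp : ∀ v : K, p • v = 0 := by
    intro v
    rw [nsmul_eq_mul, CharP.cast_eq_zero K p, zero_mul]
  have hV : ∃ v : K, v ≠ 0 := ⟨1, one_ne_zero⟩
  refine ⟨AffGp (Subgroup.zpowers x) K, inferInstance, inferInstance, inferInstance, ?_⟩
  rw [AffGp.spectrum_frob p hp.out hfpf hVp hV, spectrum_zpowers x m hxo hm0]
  ext n
  simp only [Set.mem_union, Set.mem_ofPred_eq, Set.mem_singleton_iff]
  constructor
  · rintro (h | rfl)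
    · exact Or.inr h
    · exact Or.inl dvd_rfl
  · rintro (h | h)
    · rcases (Nat.dvd_prime hp.out).mp h with rfl | rfl
      · left; exact one_dvd m
      · right; rfl
    · exact Or.inl h

/-- lcm-closure bookkeeping -/
theorem lcm_sets_eq (a b c : ℕ) :
    {n | ∃ x y : ℕ, (x ∣ a ∨ x ∣ b) ∧ (y ∣ a ∨ y ∣ c) ∧ n = Nat.lcm x y} =
    {n | ∃ x y : ℕ, (x ∣ a ∨ x ∣ b ∨ x ∣ c) ∧ (y ∣ a ∨ y ∣ b ∨ y ∣ c) ∧ n = Nat.lcm x y} := by
  ext n
  simp only [Set.mem_ofPred_eq]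
  constructor
  · rintro ⟨x, y, hx, hy, rfl⟩
    exact ⟨x, y, by tauto, by tauto, rfl⟩
  · rintro ⟨x, y, hx, hy, rfl⟩
    rcases hx with hx | hx | hx <;> rcases hy with hy | hy | hy
    · exact ⟨Nat.lcm x y, 1, Or.inl (Nat.lcm_dvd hx hy), Or.inl (one_dvd _), by simp⟩
    · exact ⟨y, x, Or.inr hy, Or.inl hx, Nat.lcm_comm x y⟩
    · exact ⟨x, y, Or.inl hx, Or.inr hy, rfl⟩
    · exact ⟨x, y, Or.inr hx, Or.inl hy, rfl⟩
    · exact ⟨Nat.lcm x y, 1, Or.inr (Nat.lcm_dvd hx hy), Or.inl (one_dvd _), by simp⟩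
    · exact ⟨x, y, Or.inr hx, Or.inr hy, rfl⟩
    · exact ⟨y, x, Or.inl hy, Or.inr hx, Nat.lcm_comm x y⟩
    · exact ⟨y, x, Or.inr hy, Or.inr hx, Nat.lcm_comm x y⟩
    · exact ⟨1, Nat.lcm x y, Or.inl (one_dvd _), Or.inr (Nat.lcm_dvd hx hy), by simp⟩

/-- the spectrum of a direct product -/
theorem spectrum_prod {A B : Type*} [Group A] [Group B] :
    Set.range (orderOf : A × B → ℕ) =
      {n | ∃ x y : ℕ, x ∈ Set.range (orderOf : A → ℕ) ∧ y ∈ Set.range (orderOf : B → ℕ) ∧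
        n = Nat.lcm x y} := by
  ext n
  simp only [Set.mem_range, Set.mem_ofPred_eq]
  constructor
  · rintro ⟨⟨a, b⟩, rfl⟩
    exact ⟨orderOf a, orderOf b, ⟨a, rfl⟩, ⟨b, rfl⟩, Prod.orderOf _⟩
  · rintro ⟨x, y, ⟨a, rfl⟩, ⟨b, rfl⟩, rfl⟩
    exact ⟨(a, b), Prod.orderOf _⟩

end Cfsg.Agent.Lib.Helper7
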