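import Mathlib
import Cfsg.Agent.Lib.Helper7.AffExt
import Cfsg.Agent.S2475

set_option autoImplicit false

/-!
The groups `(F²)ⁿ ⋊ SL₂(F)` for a finite field `F` of characteristic `2`.
-/

namespace Cfsg.Agent.Lib.Helper7

open Matrix

/-- `2 × n` matrices, as a module for `SL₂(F)` acting by left multiplication -/
def ColSp (F : Type*) (n : ℕ) := Matrix (Fin 2) (Fin n) F

namespace ColSp

variable {F : Type*} [Field F] {n : ℕ}

/-- underlying matrix -/
def toM (M : ColSp F n) : Matrix (Fin 2) (Fin n) F := M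
/-- from a matrix -/
def ofM (M : Matrix (Fin 2) (Fin n) F) : ColSp F n := M

instance : AddCommGroup (ColSp F n) := inferInstanceAs (AddCommGroup (Matrix (Fin 2) (Fin n) F))

instance [Finite F] : Finite (ColSp F n) := inferInstanceAs (Finite (Matrix (Fin 2) (Fin n) F))

instance : SMul (SpecialLinearGroup (Fin 2) F) (ColSp F n) :=
  ⟨fun g M => ofM ((g : Matrix (Fin 2) (Fin 2) F) * toM M)⟩

theorem smul_def (g : SpecialLinearGroup (Fin 2) F) (M : ColSp F n) :
    g • M = ofM ((g : Matrix (Fin 2) (Fin 2) F) * toM M) := rfl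

instance : DistribMulAction (SpecialLinearGroup (Fin 2) F) (ColSp F n) where
  one_smul M := by
    show ofM (((1 : SpecialLinearGroup (Fin 2) F) : Matrix (Fin 2) (Fin 2) F) * toM M) = M
    have h1 : ((1 : SpecialLinearGroup (Fin 2) F) : Matrix (Fin 2) (Fin 2) F) = 1 :=
      Matrix.SpecialLinearGroup.coe_one
    rw [h1, Matrix.one_mul]; rfl
  mul_smul g h M := by
    show ofM (((g * h : SpecialLinearGroup (Fin 2) F) : Matrix (Fin 2) (Fin 2) F) * toM M) =
      ofM ((g : Matrix (Fin 2) (Fin 2) F) * ((h : Matrix (Fin 2) (Fin 2) F) * toM M))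
    have h1 : ((g * h : SpecialLinearGroup (Fin 2) F) : Matrix (Fin 2) (Fin 2) F) =
        (g : Matrix (Fin 2) (Fin 2) F) * (h : Matrix (Fin 2) (Fin 2) F) :=
      Matrix.SpecialLinearGroup.coe_mul g h
    rw [h1, Matrix.mul_assoc]
  smul_zero g := by
    show ofM ((g : Matrix (Fin 2) (Fin 2) F) * (0 : Matrix (Fin 2) (Fin n) F)) = 0
    rw [Matrix.mul_zero]; rfl
  smul_add g M M' := by
    show ofM ((g : Matrix (Fin 2) (Fin 2) F) * (toM M + toM M')) = _
    rw [Matrix.mul_add]; rfl

theorem add_self [CharP F 2] (M : ColSp F n) : M + M = 0 := by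
  show (toM M + toM M : Matrix (Fin 2) (Fin n) F) = 0
  ext i j
  simp [CharTwo.add_self_eq_zero]

theorem card_ge [Fintype F] : Fintype.card F ^ n ≤ Nat.card (ColSp F n) := by
  classical
  have h1 : Nat.card (Fin n → F) = Fintype.card F ^ n := by
    rw [Nat.card_eq_fintype_card, Fintype.card_fun, Fintype.card_fin]
  rw [← h1]
  apply Nat.card_le_card_of_injective
    (fun f : Fin n → F => ofM (Matrix.of (fun i j => if i = 0 then f j else 0)))
  intro f f' hff
  funext j
  have h2 : (Matrix.of (fun (i : Fin 2) (j : Fin n) => if i = 0 then f j else 0)) =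
      (Matrix.of (fun (i : Fin 2) (j : Fin n) => if i = 0 then f' j else 0)) := hff
  have := congrFun (congrFun h2 0) j
  simpa using this

/-- in characteristic `2`, an element of `SL₂(F)` fixing a nonzero vector is an involution -/
theorem sq_eq_one_of_fixed [CharP F 2] (g : SpecialLinearGroup (Fin 2) F) (c : Fin 2 → F)
    (hc : c ≠ 0) (hgc : (g : Matrix (Fin 2) (Fin 2) F) *ᵥ c = c) : g ^ 2 = 1 := by
  have h2 : (2 : F) = 0 := CharTwo.two_eq_zero
  have hdet0 : ((g : Matrix (Fin 2) (Fin 2) F) - 1).det = 0 := by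
    apply Matrix.exists_mulVec_eq_zero_iff.mp
    exact ⟨c, hc, by rw [Matrix.sub_mulVec, hgc, Matrix.one_mulVec, sub_self]⟩
  have hdet1 : (g : Matrix (Fin 2) (Fin 2) F).det = 1 := g.2
  rw [Matrix.det_fin_two] at hdet0 hdet1
  simp only [Matrix.sub_apply, Matrix.one_apply_eq, Matrix.one_apply_ne, ne_eq, Fin.isValue,
    zero_ne_one, one_ne_zero, not_false_eq_true, sub_zero] at hdet0
  have htr : (g : Matrix (Fin 2) (Fin 2) F) 0 0 + (g : Matrix (Fin 2) (Fin 2) F) 1 1 = 0 := by
    linear_combination (-1 : F) * hdet0 + hdet1 + h2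
  apply Subtype.ext
  rw [pow_two]
  have h1 : ((g * g : SpecialLinearGroup (Fin 2) F) : Matrix (Fin 2) (Fin 2) F) =
      (g : Matrix (Fin 2) (Fin 2) F) * (g : Matrix (Fin 2) (Fin 2) F) :=
    Matrix.SpecialLinearGroup.coe_mul g g
  have h3 : ((1 : SpecialLinearGroup (Fin 2) F) : Matrix (Fin 2) (Fin 2) F) = 1 :=
    Matrix.SpecialLinearGroup.coe_one
  show ((g * g : SpecialLinearGroup (Fin 2) F) : Matrix (Fin 2) (Fin 2) F) =
    ((1 : SpecialLinearGroup (Fin 2) F) : Matrix (Fin 2) (Fin 2) F)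
  rw [h1, h3]
  ext i j
  fin_cases i <;> fin_cases j <;> simp [Matrix.mul_apply, Fin.sum_univ_two]
  · linear_combination (g : Matrix (Fin 2) (Fin 2) F) 0 0 * htr - hdet1 - h2
  · linear_combination (g : Matrix (Fin 2) (Fin 2) F) 0 1 * htr
  · linear_combination (g : Matrix (Fin 2) (Fin 2) F) 1 0 * htr
  · linear_combination (g : Matrix (Fin 2) (Fin 2) F) 1 1 * htr - hdet1 - h2

theorem fpf [CharP F 2] (g : SpecialLinearGroup (Fin 2) F) (hg1 : g ≠ 1) (hodd : Odd (orderOf g))
    (M : ColSp F n) (hM : g • M = M) : M = 0 := by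
  by_contra hne
  have : ∃ j : Fin n, (fun i => toM M i j) ≠ 0 := by
    by_contra h
    push Not at h
    apply hne
    show toM M = 0
    ext i j
    exact congrFun (h j) i
  obtain ⟨j, hj⟩ := this
  have hfix : (g : Matrix (Fin 2) (Fin 2) F) *ᵥ (fun i => toM M i j) = fun i => toM M i j := by
    have h1 : ((g : Matrix (Fin 2) (Fin 2) F) * toM M) = toM M := hM
    ext i
    have := congrFun (congrFun h1 i) j
    rw [Matrix.mul_apply] at this
    rw [Matrix.mulVec, dotProduct]
    exact this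
  have hsq := sq_eq_one_of_fixed g _ hj hfix
  have hd : orderOf g ∣ 2 := orderOf_dvd_of_pow_eq_one hsq
  rcases (Nat.dvd_prime Nat.prime_two).mp hd with h | h
  · exact hg1 (orderOf_eq_one_iff.mp h)
  · rw [h] at hodd
    exact absurd hodd (by decide)

theorem exists_not_fixed (g : SpecialLinearGroup (Fin 2) F) (hg : g ≠ 1) :
    ∃ M : ColSp F (n + 1), g • M ≠ M := by
  by_contra h
  push Not at h
  apply hg
  apply Subtype.ext
  have h3 : ((1 : SpecialLinearGroup (Fin 2) F) : Matrix (Fin 2) (Fin 2) F) = 1 :=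
    Matrix.SpecialLinearGroup.coe_one
  show (g : Matrix (Fin 2) (Fin 2) F) = ((1 : SpecialLinearGroup (Fin 2) F) : Matrix (Fin 2) (Fin 2) F)
  rw [h3]
  ext i a
  have h1 := h (ofM (Matrix.of (fun (k : Fin 2) (_ : Fin (n + 1)) => if k = a then (1 : F) else 0)))
  have h2 : ((g : Matrix (Fin 2) (Fin 2) F) *
      (Matrix.of (fun (k : Fin 2) (_ : Fin (n + 1)) => if k = a then (1 : F) else 0))) =
      (Matrix.of (fun (k : Fin 2) (_ : Fin (n + 1)) => if k = a then (1 : F) else 0)) := h1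
  have h4 := congrFun (congrFun h2 i) 0
  rw [Matrix.mul_apply] at h4
  simp only [Matrix.of_apply, mul_ite, mul_one, mul_zero, Finset.sum_ite_eq', Finset.mem_univ,
    if_true] at h4
  rw [h4, Matrix.one_apply]

end ColSp

section spectrum

variable {F : Type*} [Field F]

theorem exists_orderOf_sl_iff_psl (h2 : (2 : F) = 0) (m : ℕ) :
    (∃ g : SpecialLinearGroup (Fin 2) F, orderOf g = m) ↔
      ∃ x : ProjectiveSpecialLinearGroup (Fin 2) F, orderOf x = m := by
  constructor
  · rintro ⟨g, hg⟩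
    exact ⟨QuotientGroup.mk g, by rw [Cfsg.Agent.S2475.orderOf_mk_even h2, hg]⟩
  · rintro ⟨x, hx⟩
    obtain ⟨g, rfl⟩ := QuotientGroup.mk_surjective x
    exact ⟨g, by rw [← hx, Cfsg.Agent.S2475.orderOf_mk_even h2]⟩

end spectrum

end Cfsg.Agent.Lib.Helper7
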