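import Mathlib
import Cfsg.Agent.Lib.Helper7.AffSL2

set_option autoImplicit false

/-!
The groups `W k n = (F²)ⁿ ⋊ SL₂(F)`, `F = GF(2^k)`, and their element orders.
-/

namespace Cfsg.Agent.Lib.Helper7

open Matrix

instance fact_prime_two : Fact (Nat.Prime 2) := ⟨Nat.prime_two⟩

/-- `(F²)ⁿ ⋊ SL₂(F)`, `F = GF(2^k)` -/
abbrev WGp (k n : ℕ) : Type :=
  AffGp (SpecialLinearGroup (Fin 2) (GaloisField 2 k)) (ColSp (GaloisField 2 k) n)

section

variable (k n : ℕ)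

theorem WGp_hV2 (v : ColSp (GaloisField 2 k) n) : v + v = 0 := ColSp.add_self v

theorem WGp_fpf (g : SpecialLinearGroup (Fin 2) (GaloisField 2 k)) (hg : g ≠ 1)
    (hodd : Odd (orderOf g)) (v : ColSp (GaloisField 2 k) n) (hv : g • v = v) : v = 0 :=
  ColSp.fpf g hg hodd v hv

theorem two_eq_zero_gf : (2 : GaloisField 2 k) = 0 := CharTwo.two_eq_zero

theorem WGp_card_ge (hk : k ≠ 0) : 2 ^ n ≤ Nat.card (WGp k n) := by
  classical
  letI : Fintype (GaloisField 2 k) := Fintype.ofFinite _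
  have h1 : Fintype.card (GaloisField 2 k) ^ n ≤ Nat.card (ColSp (GaloisField 2 k) n) :=
    ColSp.card_ge
  have h2 : 2 ≤ Fintype.card (GaloisField 2 k) := by
    rw [← Nat.card_eq_fintype_card, GaloisField.card 2 k hk]
    calc 2 = 2 ^ 1 := (pow_one 2).symm
      _ ≤ 2 ^ k := Nat.pow_le_pow_right two_pos (Nat.one_le_iff_ne_zero.mpr hk)
  calc 2 ^ n ≤ Fintype.card (GaloisField 2 k) ^ n := Nat.pow_le_pow_left h2 n
    _ ≤ Nat.card (ColSp (GaloisField 2 k) n) := h1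
    _ ≤ Nat.card (WGp k n) := AffGp.card_ge

/-- the spectrum of `PSL₂(F)` for `F` of characteristic `2` with `2^k ≥ 4` elements -/
theorem spec_psl_char_two {F : Type*} [Field F] [Fintype F] [CharP F 2] (k : ℕ)
    (hcard : Fintype.card F = 2 ^ k) (hk : 2 ≤ k) (m : ℕ) :
    (∃ x : ProjectiveSpecialLinearGroup (Fin 2) F, orderOf x = m) ↔
      (m ∣ 2 ∨ m ∣ 2 ^ k - 1 ∨ m ∣ 2 ^ k + 1) := by
  have h4 : 4 ≤ Fintype.card F := by
    rw [hcard]
    calc 4 = 2 ^ 2 := by norm_num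
      _ ≤ 2 ^ k := Nat.pow_le_pow_right two_pos hk
  have h := Cfsg.Agent.S2475.result (F := F) 2 h4
  have hg : Nat.gcd 2 (2 ^ k - 1) = 1 := by
    have hodd : ¬ 2 ∣ 2 ^ k - 1 := by
      have : 2 ∣ 2 ^ k := dvd_pow_self 2 (by omega)
      have hpos : 1 ≤ 2 ^ k := Nat.one_le_two_pow
      omega
    exact (Nat.Prime.coprime_iff_not_dvd Nat.prime_two).mpr hodd
  have : (∃ x : ProjectiveSpecialLinearGroup (Fin 2) F, orderOf x = m) ↔
      m ∈ Set.range (orderOf : ProjectiveSpecialLinearGroup (Fin 2) F → ℕ) := by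
    simp [Set.mem_range]
  rw [this, h, Set.mem_ofPred_eq, hcard, hg, Nat.div_one, Nat.div_one]

theorem spec_psl_gf (k : ℕ) (hk : 2 ≤ k) (m : ℕ) :
    (∃ x : ProjectiveSpecialLinearGroup (Fin 2) (GaloisField 2 k), orderOf x = m) ↔
      (m ∣ 2 ∨ m ∣ 2 ^ k - 1 ∨ m ∣ 2 ^ k + 1) := by
  letI : Fintype (GaloisField 2 k) := Fintype.ofFinite _
  apply spec_psl_char_two k _ hk
  rw [← Nat.card_eq_fintype_card, GaloisField.card 2 k (by omega)]

theorem spec_sl_gf (k : ℕ) (hk : 2 ≤ k) (m : ℕ) :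
    (∃ g : SpecialLinearGroup (Fin 2) (GaloisField 2 k), orderOf g = m) ↔
      (m ∣ 2 ∨ m ∣ 2 ^ k - 1 ∨ m ∣ 2 ^ k + 1) := by
  rw [exists_orderOf_sl_iff_psl (two_eq_zero_gf k), spec_psl_gf k hk]

instance (k n : ℕ) : Finite (WGp k n) := by
  letI : Fintype (GaloisField 2 k) := Fintype.ofFinite _
  classical
  infer_instance

/-- edges of the prime graph of `W k n` -/
theorem WGp_edge (hk : 2 ≤ k) (p q : ℕ) (hp : p.Prime) (hq : q.Prime) (hpq : p ≠ q) :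
    (∃ w : WGp k n, orderOf w = p * q) ↔
      (p * q ∣ 2 ∨ p * q ∣ 2 ^ k - 1 ∨ p * q ∣ 2 ^ k + 1) := by
  letI : Fintype (GaloisField 2 k) := Fintype.ofFinite _
  classical
  rw [AffGp.exists_orderOf_mul_iff (WGp_hV2 k n) (WGp_fpf k n) p q hp hq hpq, spec_sl_gf k hk]

/-- prime divisors of `W k n` -/
theorem WGp_prime (hk : 2 ≤ k) (p : ℕ) (hp : p.Prime) :
    p ∣ Nat.card (WGp k n) ↔ (p ∣ 2 ∨ p ∣ 2 ^ k - 1 ∨ p ∣ 2 ^ k + 1) := by
  letI : Fintype (GaloisField 2 k) := Fintype.ofFinite _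
  classical
  have h2 : ∃ g : SpecialLinearGroup (Fin 2) (GaloisField 2 k), orderOf g = 2 :=
    (spec_sl_gf k hk 2).mpr (Or.inl dvd_rfl)
  rw [← spec_sl_gf k hk, ← AffGp.exists_orderOf_prime_iff (WGp_hV2 k n) (WGp_fpf k n) h2 p hp]
  constructor
  · intro hd
    haveI : Fact p.Prime := ⟨hp⟩
    exact exists_prime_orderOf_dvd_card' p hd
  · rintro ⟨w, hw⟩
    rw [← hw]; exact orderOf_dvd_natCard w

end

/-- prime divisors of a finite group via elements of prime order -/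
theorem prime_dvd_card_iff {G : Type*} [Group G] [Finite G] (p : ℕ) (hp : p.Prime) :
    p ∣ Nat.card G ↔ ∃ x : G, orderOf x = p := by
  constructor
  · intro hd
    haveI : Fact p.Prime := ⟨hp⟩
    exact exists_prime_orderOf_dvd_card' p hd
  · rintro ⟨w, hw⟩
    rw [← hw]; exact orderOf_dvd_natCard w

end Cfsg.Agent.Lib.Helper7

namespace Cfsg.Agent.Lib.Helper7

open Matrix

/-- the spectrum of `(F₄²)ⁿ⁺¹ ⋊ SL₂(F₄)` is `{1, 2, 3, 4, 5}` -/
theorem WGp_two_spectrum (n : ℕ) :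
    Set.range (orderOf : WGp 2 (n + 1) → ℕ) = {1, 2, 3, 4, 5} := by
  letI : Fintype (GaloisField 2 2) := Fintype.ofFinite _
  classical
  have hspec : ∀ m : ℕ, (∃ g : SpecialLinearGroup (Fin 2) (GaloisField 2 2), orderOf g = m) ↔
      (m = 1 ∨ m = 2 ∨ m = 3 ∨ m = 5) := by
    intro m
    rw [spec_sl_gf 2 le_rfl m]
    have e1 : (2 : ℕ) ^ 2 - 1 = 3 := by norm_num
    have e2 : (2 : ℕ) ^ 2 + 1 = 5 := by norm_num
    rw [e1, e2, Nat.dvd_prime Nat.prime_two, Nat.dvd_prime Nat.prime_three,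
      Nat.dvd_prime Nat.prime_five]
    tauto
  ext m
  simp only [Set.mem_range, Set.mem_insert_iff, Set.mem_singleton_iff]
  constructor
  · rintro ⟨w, rfl⟩
    have hg := (hspec (orderOf w.g)).mp ⟨w.g, rfl⟩
    rcases AffGp.orderOf_cases (WGp_hV2 2 (n + 1)) (WGp_fpf 2 (n + 1)) w with h | ⟨h, h'⟩
    · rw [h]; rcases hg with h1 | h1 | h1 | h1 <;> rw [h1] <;> simp
    · rw [h]
      rcases h' with he | h1
      · rcases hg with h1 | h1 | h1 | h1 <;> rw [h1] at he ⊢ <;> first | (exfalso; revert he; decide) | simp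
      · rw [h1, orderOf_one]; simp
  · intro hm
    have hsub : ∀ m : ℕ, (m = 1 ∨ m = 2 ∨ m = 3 ∨ m = 5) → ∃ w : WGp 2 (n + 1), orderOf w = m := by
      intro m hm
      obtain ⟨g, hg⟩ := (hspec m).mpr hm
      exact ⟨AffGp.inr g, by rw [AffGp.orderOf_inr, hg]⟩
    rcases hm with rfl | rfl | rfl | rfl | rfl
    · exact hsub 1 (by simp)
    · exact hsub 2 (by simp)
    · exact hsub 3 (by simp)
    · obtain ⟨g, hg⟩ := (hspec 2).mpr (by simp)
      have hg1 : g ≠ 1 := by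
        rintro rfl
        rw [orderOf_one] at hg
        omega
      obtain ⟨M, hM⟩ := ColSp.exists_not_fixed (n := n) g hg1
      exact ⟨⟨M, g⟩, AffGp.orderOf_eq_four (WGp_hV2 2 (n + 1)) g hg M hM⟩
    · exact hsub 5 (by simp)

end Cfsg.Agent.Lib.Helper7
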