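import Mathlib
import Cfsg.Agent.Lib.Helper7.AffSL2b

set_option autoImplicit false

/-!
The spectrum of `(F²)ⁿ⁺¹ ⋊ SL₂(F)` for a field `F` with four elements.
-/

namespace Cfsg.Agent.Lib.Helper7

open Matrix

/-- a field with `2 ^ k` elements has characteristic two -/
theorem charP_two_of_card {F : Type*} [Field F] [Fintype F] (k : ℕ) (hk : k ≠ 0)
    (hF : Fintype.card F = 2 ^ k) : CharP F 2 := by
  obtain ⟨c, hc⟩ := CharP.exists F
  haveI := hc
  obtain ⟨n, hcp, hn⟩ := FiniteField.card F c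
  have h1 : c ∣ 2 ^ k := by rw [← hF, hn]; exact dvd_pow_self c n.pos.ne'
  have h2 : c ∣ 2 := hcp.dvd_of_dvd_pow h1
  have h3 : c = 2 := (Nat.prime_dvd_prime_iff_eq hcp Nat.prime_two).mp h2
  rw [← h3]; exact hc

theorem spec_sl_char_two {F : Type*} [Field F] [Fintype F] [CharP F 2] (k : ℕ)
    (hcard : Fintype.card F = 2 ^ k) (hk : 2 ≤ k) (m : ℕ) :
    (∃ g : SpecialLinearGroup (Fin 2) F, orderOf g = m) ↔
      (m ∣ 2 ∨ m ∣ 2 ^ k - 1 ∨ m ∣ 2 ^ k + 1) := by
  rw [exists_orderOf_sl_iff_psl (CharTwo.two_eq_zero : (2 : F) = 0), spec_psl_char_two k hcard hk]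

/-- the spectrum of `(F²)ⁿ⁺¹ ⋊ SL₂(F)`, `|F| = 4`, is `{1, 2, 3, 4, 5}` -/
theorem aff_four_spectrum {F : Type*} [Field F] [Fintype F] [CharP F 2]
    (hF : Fintype.card F = 4) (n : ℕ) :
    Set.range (orderOf : AffGp (SpecialLinearGroup (Fin 2) F) (ColSp F (n + 1)) → ℕ) =
      {1, 2, 3, 4, 5} := by
  classical
  have hV2 : ∀ v : ColSp F (n + 1), v + v = 0 := ColSp.add_self
  have hfpf : ∀ g : SpecialLinearGroup (Fin 2) F, g ≠ 1 → Odd (orderOf g) →
      ∀ v : ColSp F (n + 1), g • v = v → v = 0 := ColSp.fpf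
  have hspec : ∀ m : ℕ, (∃ g : SpecialLinearGroup (Fin 2) F, orderOf g = m) ↔
      (m = 1 ∨ m = 2 ∨ m = 3 ∨ m = 5) := by
    intro m
    rw [spec_sl_char_two 2 (by rw [hF]; norm_num) le_rfl m]
    have e1 : (2 : ℕ) ^ 2 - 1 = 3 := by norm_num
    have e2 : (2 : ℕ) ^ 2 + 1 = 5 := by norm_num
    rw [e1, e2, Nat.dvd_prime Nat.prime_two, Nat.dvd_prime Nat.prime_three,
      Nat.dvd_prime Nat.prime_five]
    tauto
  ext m
  simp only [Set.mem_range, Set.mem_insert_iff, Set.mem_singleton_iff]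
  constructor
  · rintro ⟨w, rfl⟩
    have hg := (hspec (orderOf w.g)).mp ⟨w.g, rfl⟩
    rcases AffGp.orderOf_cases hV2 hfpf w with h | ⟨h, h'⟩
    · rw [h]; rcases hg with h1 | h1 | h1 | h1 <;> rw [h1] <;> simp
    · rw [h]
      rcases h' with he | h1
      · rcases hg with h1 | h1 | h1 | h1 <;> rw [h1] at he ⊢ <;>
          first | (exfalso; revert he; decide) | simp
      · rw [h1, orderOf_one]; simp
  · intro hm
    have hsub : ∀ m : ℕ, (m = 1 ∨ m = 2 ∨ m = 3 ∨ m = 5) →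
        ∃ w : AffGp (SpecialLinearGroup (Fin 2) F) (ColSp F (n + 1)), orderOf w = m := by
      intro m hm
      obtain ⟨g, hg⟩ := (hspec m).mpr hm
      exact ⟨AffGp.inr g, by rw [AffGp.orderOf_inr, hg]⟩
    rcases hm with rfl | rfl | rfl | rfl | rfl
    · exact hsub 1 (by simp)
    · exact hsub 2 (by simp)
    · exact hsub 3 (by simp)
    · obtain ⟨g, hg⟩ := (hspec 2).mpr (by simp)
      have hg1 : g ≠ 1 := by
        rintro rfl
        rw [orderOf_one] at hg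
        omega
      obtain ⟨M, hM⟩ := ColSp.exists_not_fixed (n := n) g hg1
      exact ⟨⟨M, g⟩, AffGp.orderOf_eq_four hV2 g hg M hM⟩
    · exact hsub 5 (by simp)

end Cfsg.Agent.Lib.Helper7
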