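import Mathlib

set_option autoImplicit false

namespace Cfsg.Agent.Lib.Helper7

variable {G : Type*} [Group G]

/-- In an almost simple group with socle `T`, a normal subgroup contains `T` or is trivial. -/
theorem as_normal_le_or_bot (T : Subgroup G) [T.Normal] (hT : IsSimpleGroup T)
    (hC : Subgroup.centralizer (T : Set G) = ⊥) (M : Subgroup G) [M.Normal] :
    T ≤ M ∨ M = ⊥ := by
  haveI := hT
  have hn : (M.subgroupOf T).Normal := inferInstance
  rcases hn.eq_bot_or_eq_top with h | h
  · right
    have hdisj : Disjoint M T := by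
      rw [disjoint_iff]
      rw [Subgroup.subgroupOf_eq_bot] at h
      exact disjoint_iff.mp h
    rw [eq_bot_iff, ← hC]
    intro m hm
    rw [Subgroup.mem_centralizer_iff]
    intro t ht
    exact (Subgroup.commute_of_normal_of_disjoint M T inferInstance inferInstance hdisj m t hm ht).symm
  · left
    exact Subgroup.subgroupOf_eq_top.mp h

/-- a non-abelian simple group is not a `p`-group -/
theorem not_isPGroup_of_simple_nonabelian (T : Type*) [Group T] [Finite T] (hT : IsSimpleGroup T)
    (hTc : ¬ IsMulCommutative T) (r : ℕ) [Fact r.Prime] : ¬ IsPGroup r T := by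
  intro hr
  haveI := hT
  haveI : Nontrivial T := IsSimpleGroup.toNontrivial
  have hcn := hr.center_nontrivial
  have hn : (Subgroup.center T).Normal := inferInstance
  rcases hn.eq_bot_or_eq_top with h | h
  · exact absurd h ((Subgroup.nontrivial_iff_ne_bot _).mp hcn)
  · apply hTc
    refine ⟨⟨fun a b => ?_⟩⟩
    have : a ∈ Subgroup.center T := by rw [h]; exact Subgroup.mem_top a
    exact (Subgroup.mem_center_iff.mp this b).symm

theorem as_normal_pgroup_eq_bot [Finite G] (T : Subgroup G) [T.Normal] (hT : IsSimpleGroup T)
    (hTc : ¬ IsMulCommutative T) (hC : Subgroup.centralizer (T : Set G) = ⊥) (r : ℕ)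
    [Fact r.Prime] (M : Subgroup G) [M.Normal] (hM : IsPGroup r M) : M = ⊥ := by
  rcases as_normal_le_or_bot T hT hC M with h | h
  · exfalso
    apply not_isPGroup_of_simple_nonabelian T hT hTc r
    exact hM.to_le h
  · exact h

end Cfsg.Agent.Lib.Helper7
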