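import Mathlib
import Cfsg.Agent.Lib.Helper7.HkkDefs
import Cfsg.Agent.Lib.Helper7.HkkGlue
import Cfsg.Agent.Lib.Helper2.HkkP4a
import Cfsg.Agent.Lib.Helper2.AlpDefs
import Cfsg.Agent.Lib.Helper2.AlpL2

set_option autoImplicit false

/-! S3782 swarm (Alperin), package L3: an almost regular automorphism of prime order of a Lie
ring; in `_of` form (the eigen-grading (L1) is a hypothesis). -/

namespace Cfsg.Agent.Lib.Helper7.AlpL3

open Cfsg.Agent.Lib.Helper7.Hkk Cfsg.Agent.Lib.Helper2.Alp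
open scoped TensorProduct

universe u

/-- the statement of (L1) `exists_eigen_grading`, for coefficient rings in `Type`. -/
def L1Statement : Prop :=
  ∀ {p : ℕ} [Fact p.Prime] {A : Type} [CommRing A] {M : Type u}
    [LieRing M] [LieAlgebra A M] (ω : A) (_ : ω ^ p = 1)
    (_ : ∑ i ∈ Finset.range p, ω ^ i = 0)
    (Φ : M →ₗ[A] M) (_ : ∀ x y, Φ ⁅x, y⁆ = ⁅Φ x, Φ y⁆) (_ : ∀ x, Φ^[p] x = x),
    ∃ (E : Type u) (_ : LieRing E) (gr : PGrading0 p E) (σ : E →+ M),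
      (∀ x y, σ ⁅x, y⁆ = ⁅σ x, σ y⁆) ∧
      (∀ z : M, ∃ f : E, σ f = p • z) ∧
      (∀ f : E, Φ (σ (gr.π 0 f)) = σ (gr.π 0 f)) ∧
      (∀ f : E, σ (gr.π 0 f) = 0 → gr.π 0 f = 0)

section norm

variable {p : ℕ} {L : Type u} [LieRing L]

/-- the norm `Σ_j φ^j x` is fixed by `φ`. -/
theorem norm_fixed (φ : L →+ L) (hφp : ∀ x, φ^[p] x = x) (x : L) :
    φ (∑ j ∈ Finset.range p, φ^[j] x) = ∑ j ∈ Finset.range p, φ^[j] x := by
  rw [map_sum]
  have h1 : ∀ j, φ (φ^[j] x) = φ^[j + 1] x := fun j => (Function.iterate_succ_apply' φ j x).symm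
  simp only [h1]
  have h2 := Finset.sum_range_succ (fun j => φ^[j] x) p
  have h3 := Finset.sum_range_succ' (fun j => φ^[j] x) p
  rw [h2] at h3
  simp only [hφp, Function.iterate_zero, id_eq] at h3
  exact (add_right_cancel h3).symm

/-- `e` kills the norm of the base change. -/
theorem nsmul_norm_Φ (φ : L →+ L) (hφp : ∀ x, φ^[p] x = x) (e : ℕ)
    (hfix : ∀ x, φ x = x → e • x = 0) (z : BC.A p ⊗[ℤ] L) :
    e • ∑ j ∈ Finset.range p, (BC.Φ p φ)^[j] z = 0 := by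
  induction z using TensorProduct.induction_on with
  | zero => simp [iterate_map_zero]
  | tmul a x =>
    simp only [BC.Φ_iter_tmul]
    rw [← TensorProduct.tmul_sum, ← TensorProduct.tmul_smul, hfix _ (norm_fixed φ hφp x),
      TensorProduct.tmul_zero]
  | add z1 z2 h1 h2 =>
    simp only [iterate_map_add]
    rw [Finset.sum_add_distrib, nsmul_add, h1, h2, add_zero]

/-- `e p` kills the fixed points of the base change. -/
theorem nsmul_Φ_fixed (φ : L →+ L) (hφp : ∀ x, φ^[p] x = x) (e : ℕ)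
    (hfix : ∀ x, φ x = x → e • x = 0) (z : BC.A p ⊗[ℤ] L) (hz : BC.Φ p φ z = z) :
    (e * p) • z = 0 := by
  have h1 : ∀ j : ℕ, (BC.Φ p φ)^[j] z = z := fun j => Function.iterate_fixed hz j
  have h2 := nsmul_norm_Φ φ hφp e hfix z
  simp only [h1, Finset.sum_const, Finset.card_range] at h2
  rw [mul_smul]
  exact h2

end norm

/-- (L3) in `_of` form. -/
theorem lie_almost_regular_of (h1 : L1Statement.{u}) {p : ℕ} [Fact p.Prime] {L : Type u}
    [LieRing L] (φ : L →+ L)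
    (hφlie : ∀ x y, φ ⁅x, y⁆ = ⁅φ x, φ y⁆) (hφp : ∀ x, φ^[p] x = x)
    (e : ℕ) (hfix : ∀ x, φ x = x → e • x = 0) :
    ∀ x ∈ lcs (⊤ : AddSubgroup L) (xi p), (e * p ^ (xi p + 2)) • x = 0 := by
  obtain ⟨E, instE, gr, σ, hσlie, hσp, hσfix, hσinj⟩ :=
    h1 (M := BC.A p ⊗[ℤ] L) (BC.ω p) (BC.ω_pow p) (BC.sum_ω p) (BC.Φ p φ)
      (BC.Φ_lie φ hφlie) (BC.Φ_iter φ hφp)
  -- the zero component of `E` is killed by `e p`
  have h0 : ∀ f : E, (e * p) • gr.π 0 f = 0 := by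
    intro f
    have h2 : gr.π 0 ((e * p) • f) = (e * p) • gr.π 0 f := map_nsmul _ _ _
    rw [← h2]
    apply hσinj
    rw [h2, map_nsmul]
    exact nsmul_Φ_fixed φ hφp e hfix _ (hσfix f)
  have hE := grading0_torsion gr (e * p) h0
  -- `p^(k+1) • lcs_M k ⊆ σ (lcs_E k)`
  have key : ∀ k : ℕ, ∀ x ∈ lcs (⊤ : AddSubgroup (BC.A p ⊗[ℤ] L)) k,
      ∃ y ∈ lcs (⊤ : AddSubgroup E) k, σ y = p ^ (k + 1) • x := by
    intro k
    induction k with
    | zero =>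
      intro x _
      obtain ⟨f, hf⟩ := hσp x
      exact ⟨f, AddSubgroup.mem_top _, by rw [hf, zero_add, pow_one]⟩
    | succ k ih =>
      intro x hx
      have hx' : x ∈ AddSubgroup.closure {z | ∃ a ∈ lcs (⊤ : AddSubgroup (BC.A p ⊗[ℤ] L)) k,
          ∃ b ∈ (⊤ : AddSubgroup (BC.A p ⊗[ℤ] L)), ⁅a, b⁆ = z} := hx
      clear hx
      induction hx' using AddSubgroup.closure_induction with
      | mem z hz =>
        obtain ⟨a, ha, b, _, rfl⟩ := hz
        obtain ⟨ya, hya, hya'⟩ := ih a ha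
        obtain ⟨fb, hfb⟩ := hσp b
        refine ⟨⁅ya, fb⁆, AddSubgroup.subset_closure ⟨ya, hya, fb, AddSubgroup.mem_top _, rfl⟩, ?_⟩
        rw [hσlie, hya', hfb, nsmul_lie, lie_nsmul, ← mul_smul, ← pow_succ]
      | zero => exact ⟨0, zero_mem _, by rw [map_zero, smul_zero]⟩
      | add z1 z2 _ _ h1 h2 =>
        obtain ⟨y1, hy1, e1⟩ := h1
        obtain ⟨y2, hy2, e2⟩ := h2
        exact ⟨y1 + y2, add_mem hy1 hy2, by rw [map_add, e1, e2, smul_add]⟩
      | neg z _ h1 =>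
        obtain ⟨y1, hy1, e1⟩ := h1
        exact ⟨-y1, neg_mem hy1, by rw [map_neg, e1, smul_neg]⟩
  intro x hx
  have hιx : BC.ι p L x ∈ lcs (⊤ : AddSubgroup (BC.A p ⊗[ℤ] L)) (xi p) :=
    Glue.map_lcs_le (BC.ι p L) BC.ι_lie (xi p) (AddSubgroup.mem_map_of_mem _ hx)
  obtain ⟨y, hy, hy'⟩ := key (xi p) _ hιx
  have h2 := hE y hy
  have h3 : (e * p) • σ y = 0 := by rw [← map_nsmul, h2, map_zero]
  rw [hy', ← mul_smul, ← map_nsmul] at h3
  have h4 : e * p * p ^ (xi p + 1) = e * p ^ (xi p + 2) := by ring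
  rw [h4] at h3
  apply BC.ι_injective (p := p)
  rw [h3, map_zero]

end Cfsg.Agent.Lib.Helper7.AlpL3
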