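import Mathlib

set_option autoImplicit false

/-! S4150 swarm, pieces `isCycle_of_orderOf` and (G5) `master` (in `_of` form: the core (G1)
`closure_eq_alt` is a hypothesis). -/

open Equiv Equiv.Perm

namespace Cfsg.Agent.Lib.Helper7.AltGenG5

section cyc

variable {α : Type*} [Fintype α] [DecidableEq α]

/-- an element of prime order `p` in `Perm α` with `card α < 2p` is a `p`-cycle. -/
theorem isCycle_of_orderOf {p : ℕ} (hp : p.Prime) {g : Perm α} (hg : orderOf g = p)
    (hcard : Fintype.card α < 2 * p) : g.IsCycle ∧ g.support.card = p := by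
  have hpo : (orderOf g).Prime := by rw [hg]; exact hp
  obtain ⟨n, hn⟩ := cycleType_prime_order hpo
  rw [hg] at hn
  have hsum : g.support.card = (n + 1) * p := by
    rw [← sum_cycleType, hn, Multiset.sum_replicate, smul_eq_mul]
  have hle : g.support.card ≤ Fintype.card α := Finset.card_le_univ _
  have hn0 : n = 0 := by
    by_contra h
    have h2 : 2 ≤ n + 1 := by omega
    have : 2 * p ≤ (n + 1) * p := Nat.mul_le_mul_right p h2
    omega
  subst hn0
  refine ⟨?_, by rw [hsum]; ring⟩
  rw [← card_cycleType_eq_one, hn]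
  simp

end cyc

/-- the statement of (G1) `closure_eq_alt`, for types in `Type`. -/
def G1Statement : Prop :=
  ∀ {α : Type} [Fintype α] [DecidableEq α] {p q : ℕ} (_ : p.Prime) (_ : q.Prime) (_ : p ≠ 2)
    (_ : q ≠ 2) {x y : Perm α} (_ : x.IsCycle) (_ : x.support.card = p)
    (_ : y.IsCycle) (_ : y.support.card = q)
    (_ : x.support ∪ y.support = Finset.univ) (_ : (x.support ∩ y.support).Nonempty)
    (_ : Fintype.card α < 2 * q)
    (_ : p = 3 ∨ p + 3 ≤ Fintype.card α ∨ (p = 5 ∧ Fintype.card α = 7) ∨
      (p = 11 ∧ Fintype.card α = 13)),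
    Subgroup.closure ({x, y} : Set (Perm α)) = alternatingGroup α

/-- (G5) master, modulo (G1). -/
theorem master_of (hG1 : G1Statement) (m p q : ℕ) (hp : p.Prime) (hq : q.Prime) (hp2 : p ≠ 2)
    (hpq : p < q) (h5 : 5 ≤ q) (hm : m < p + q)
    (hJ : p = 3 ∨ p + 4 ≤ q ∨ (p = 5 ∧ q = 7) ∨ (p = 11 ∧ q = 13))
    (x y : alternatingGroup (Fin m))
    (hx : (x : Perm (Fin m)).IsCycle) (hxp : (x : Perm (Fin m)).support.card = p)
    (hy : (y : Perm (Fin m)).IsCycle) (hyq : (y : Perm (Fin m)).support.card = q) :
    ∃ d : ℕ, 5 ≤ d ∧ Nonempty (Subgroup.closure ({x, y} : Set (alternatingGroup (Fin m))) ≃*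
      alternatingGroup (Fin d)) := by
  classical
  let D : Finset (Fin m) := (x : Perm (Fin m)).support ∪ (y : Perm (Fin m)).support
  have hxD : (x : Perm (Fin m)).support ⊆ D := Finset.subset_union_left
  have hyD : (y : Perm (Fin m)).support ⊆ D := Finset.subset_union_right
  obtain ⟨x', hx'⟩ := (alternatingGroup.mem_range_ofSubtype_iff D x).2 hxD
  obtain ⟨y', hy'⟩ := (alternatingGroup.mem_range_ofSubtype_iff D y).2 hyD
  have ex : (x : Perm (Fin m)) = Perm.ofSubtype (x' : Perm D) := by
    rw [← hx', alternatingGroup.coe_ofSubtype]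
  have ey : (y : Perm (Fin m)) = Perm.ofSubtype (y' : Perm D) := by
    rw [← hy', alternatingGroup.coe_ofSubtype]
  -- cycle data
  have ctx : (x' : Perm D).cycleType = (x : Perm (Fin m)).cycleType := by
    rw [ex, cycleType_ofSubtype]
  have cty : (y' : Perm D).cycleType = (y : Perm (Fin m)).cycleType := by
    rw [ey, cycleType_ofSubtype]
  have hx'c : (x' : Perm D).IsCycle := by
    rw [← card_cycleType_eq_one, ctx, card_cycleType_eq_one]; exact hx
  have hy'c : (y' : Perm D).IsCycle := by
    rw [← card_cycleType_eq_one, cty, card_cycleType_eq_one]; exact hy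
  have hx'p : (x' : Perm D).support.card = p := by
    rw [← sum_cycleType, ctx, sum_cycleType]; exact hxp
  have hy'q : (y' : Perm D).support.card = q := by
    rw [← sum_cycleType, cty, sum_cycleType]; exact hyq
  -- supports
  have memx : ∀ a : D, (a : Fin m) ∈ (x : Perm (Fin m)).support → a ∈ (x' : Perm D).support := by
    intro a ha
    rw [Perm.mem_support] at ha ⊢
    intro h
    apply ha
    rw [ex, Perm.ofSubtype_apply_coe, h]
  have memy : ∀ a : D, (a : Fin m) ∈ (y : Perm (Fin m)).support → a ∈ (y' : Perm D).support := by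
    intro a ha
    rw [Perm.mem_support] at ha ⊢
    intro h
    apply ha
    rw [ey, Perm.ofSubtype_apply_coe, h]
  have hcov : (x' : Perm D).support ∪ (y' : Perm D).support = Finset.univ := by
    rw [Finset.eq_univ_iff_forall]
    intro a
    rw [Finset.mem_union]
    rcases Finset.mem_union.1 a.2 with h | h
    · exact Or.inl (memx a h)
    · exact Or.inr (memy a h)
  have hDle : D.card ≤ m := by
    have := Finset.card_le_univ D
    simpa using this
  have hinter : ((x : Perm (Fin m)).support ∩ (y : Perm (Fin m)).support).Nonempty := by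
    rw [← Finset.card_pos]
    have h1 := Finset.card_union_add_card_inter (x : Perm (Fin m)).support (y : Perm (Fin m)).support
    rw [hxp, hyq] at h1
    have h2 : ((x : Perm (Fin m)).support ∪ (y : Perm (Fin m)).support).card ≤ m := hDle
    omega
  have hmeet : ((x' : Perm D).support ∩ (y' : Perm D).support).Nonempty := by
    obtain ⟨a, ha⟩ := hinter
    rw [Finset.mem_inter] at ha
    refine ⟨⟨a, hxD ha.1⟩, Finset.mem_inter.2 ⟨memx _ ha.1, memy _ ha.2⟩⟩
  have hqD : q ≤ D.card := by
    rw [← hyq]; exact Finset.card_le_card hyD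
  have hcardD : Fintype.card D = D.card := Fintype.card_coe D
  have hcard : Fintype.card D < 2 * q := by rw [hcardD]; omega
  have hJ' : p = 3 ∨ p + 3 ≤ Fintype.card D ∨ (p = 5 ∧ Fintype.card D = 7) ∨
      (p = 11 ∧ Fintype.card D = 13) := by
    rw [hcardD]
    rcases hJ with h | h | ⟨h1, h2⟩ | ⟨h1, h2⟩
    · exact Or.inl h
    · exact Or.inr (Or.inl (by omega))
    · by_cases h7 : D.card = 7
      · exact Or.inr (Or.inr (Or.inl ⟨h1, h7⟩))
      · exact Or.inr (Or.inl (by omega))
    · by_cases h13 : D.card = 13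
      · exact Or.inr (Or.inr (Or.inr ⟨h1, h13⟩))
      · exact Or.inr (Or.inl (by omega))
  have hq2 : q ≠ 2 := by omega
  have hcl : Subgroup.closure ({(x' : Perm D), (y' : Perm D)} : Set (Perm D)) = alternatingGroup D :=
    hG1 hp hq hp2 hq2 hx'c hx'p hy'c hy'q hcov hmeet hcard hJ'
  -- the closure inside `alternatingGroup D` is everything
  have htop : Subgroup.closure ({x', y'} : Set (alternatingGroup D)) = ⊤ := by
    apply Subgroup.map_injective (alternatingGroup D).subtype_injective
    rw [MonoidHom.map_closure, ← MonoidHom.range_eq_map, Subgroup.range_subtype]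
    refine Eq.trans ?_ hcl
    congr 1
    ext z
    simp only [Set.mem_image, Set.mem_insert_iff, Set.mem_singleton_iff]
    constructor
    · rintro ⟨w, rfl | rfl, rfl⟩
      · exact Or.inl rfl
      · exact Or.inr rfl
    · rintro (rfl | rfl)
      · exact ⟨x', Or.inl rfl, rfl⟩
      · exact ⟨y', Or.inr rfl, rfl⟩
  -- transport
  have hmap : Subgroup.closure ({x, y} : Set (alternatingGroup (Fin m))) =
      (Subgroup.closure ({x', y'} : Set (alternatingGroup D))).map (alternatingGroup.ofSubtype D) := by
    rw [MonoidHom.map_closure]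
    congr 1
    ext z
    simp only [Set.mem_image, Set.mem_insert_iff, Set.mem_singleton_iff]
    constructor
    · rintro (rfl | rfl)
      · exact ⟨x', Or.inl rfl, hx'⟩
      · exact ⟨y', Or.inr rfl, hy'⟩
    · rintro ⟨w, rfl | rfl, rfl⟩
      · exact Or.inl hx'
      · exact Or.inr hy'
  refine ⟨D.card, by omega, ⟨?_⟩⟩
  rw [hmap, htop]
  exact ((Subgroup.equivMapOfInjective ⊤ (alternatingGroup.ofSubtype D)
    alternatingGroup.ofSubtype_injective).symm.trans Subgroup.topEquiv).trans
    (Equiv.altCongrHom D.equivFin)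

end Cfsg.Agent.Lib.Helper7.AltGenG5
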