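import Mathlib
import Cfsg.Agent.Lib.Helper7.AltGenG5
import Cfsg.Agent.Lib.Helper9.AltGenA
import Cfsg.Agent.Lib.Lead.AltGenG1
import Cfsg.Agent.Lib.Lead.AltGenFin

set_option autoImplicit false

/-! S4150 swarm, (G5) `master` modulo Lemma B only: (G1) of `Lead.AltGenG1`, Lemma A of
`Helper9.AltGenA` and the transport `master_of` of `Helper7.AltGenG5` put together. -/

open Equiv Equiv.Perm MulAction

namespace Cfsg.Agent.Lib.Helper7.AltGenG5

/-- the statement of Lemma (B) (`alt_le_of_deg13`), for types in `Type`. -/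
def BStatement : Prop :=
  ∀ {α : Type} [Fintype α] [DecidableEq α], Fintype.card α = 13 →
    ∀ (G : Subgroup (Perm α)) [IsPretransitive G α], G ≤ alternatingGroup α →
      ∀ {g : Perm α}, g.IsCycle → g.support.card = 11 → g ∈ G → alternatingGroup α ≤ G

/-- (G1) from Lemma (B). -/
theorem g1Statement_of_B (hB : BStatement) : G1Statement := by
  intro α _ _ p q hp hq hp2 hq2 x y hx hxp hy hyq hcov hmeet hcard hJ
  exact Cfsg.Agent.Lib.Lead.AltGenG1.closure_eq_alt_of
    (fun h G _ _ hc hs hg => Cfsg.Agent.Lib.Helper9.AltGenA.alt_le_of_deg7 h G hc hs hg)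
    (fun h G _ hG _ hc hs hg => hB h G hG hc hs hg)
    hp hq hp2 hq2 hx hxp hy hyq hcov hmeet hcard hJ

/-- (G5) `master` from Lemma (B). -/
theorem masterStatement_of_B (hB : BStatement) : Cfsg.Agent.Lib.Lead.AltGenFin.MasterStatement := by
  intro m p q hp hq hp2 hpq h5 hm hJ x y hx hxp hy hyq
  exact master_of (g1Statement_of_B hB) m p q hp hq hp2 hpq h5 hm hJ x y hx hxp hy hyq

end Cfsg.Agent.Lib.Helper7.AltGenG5
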