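import Mathlib

set_option autoImplicit false

/-! S4150 swarm, piece (N): three primes in `(n, 2n]` for `n ≥ 2048` (Erdős' proof of Bertrand's
postulate with two primes to spare) and the prime pair `p + 4 ≤ q ≤ m < 2p` for `m ≥ 17`. -/

namespace Cfsg.Agent.Lib.Helper7.AltGenN

section real

open Real

/-- the real inequality behind `three_primes`. -/
theorem real_main_inequality2 {x : ℝ} (x_large : (2048 : ℝ) ≤ x) :
    x * (2 * x) ^ √(2 * x) * (2 * x) ^ (2 : ℝ) * 4 ^ (2 * x / 3) ≤ 4 ^ x := by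
  let g : ℝ → ℝ := fun x => 3 * log x + √(2 * x) * log (2 * x)
  let h : ℝ → ℝ := fun x => log 4 / 3 * x + (-(2 * log 2))
  have hg : ConcaveOn ℝ (Set.Ioi 0.5) g := by
    apply ConcaveOn.add
    · have h1 : ConcaveOn ℝ (Set.Ioi (0.5 : ℝ)) log :=
        strictConcaveOn_log_Ioi.concaveOn.subset (Set.Ioi_subset_Ioi (by norm_num)) (convex_Ioi 0.5)
      have h2 := h1.smul (show (0 : ℝ) ≤ 3 by norm_num)
      simpa [smul_eq_mul] using h2
    · convert!
        ((strictConcaveOn_sqrt_mul_log_Ioi.concaveOn.comp_linearMap ((2 : ℝ) • LinearMap.id)))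
        using 1
      ext x
      simp only [Set.mem_Ioi, Set.mem_preimage, LinearMap.smul_apply,
        LinearMap.id_coe, id_eq, smul_eq_mul]
      rw [← mul_lt_mul_iff_right₀ (two_pos)]
      norm_num1
      rfl
  have hh : ConvexOn ℝ (Set.Ioi 0.5) h := by
    apply ConvexOn.add
    · apply ConvexOn.smul
      · exact div_nonneg (log_nonneg (by norm_num1)) (by norm_num1)
      · exact convexOn_id (convex_Ioi (0.5 : ℝ))
    · exact convexOn_const _ (convex_Ioi (0.5 : ℝ))
  have hf : ConcaveOn ℝ (Set.Ioi 0.5) (g - h) := hg.sub hh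
  have key : (g - h) x ≤ 0 := by
    suffices ∃ x1 x2, 0.5 < x1 ∧ x1 < x2 ∧ x2 ≤ x ∧ 0 ≤ (g - h) x1 ∧ (g - h) x2 ≤ 0 by
      obtain ⟨x1, x2, h1, h2, h0, h3, h4⟩ := this
      exact (hf.right_le_of_le_left'' h1 ((h1.trans h2).trans_le h0) h2 h0 (h4.trans h3)).trans h4
    refine ⟨18, 2048, by norm_num1, by norm_num1, x_large, ?_, ?_⟩
    · have hs : √(2 * 18 : ℝ) = 6 :=
        (sqrt_eq_iff_mul_self_eq_of_pos (by norm_num1)).mpr (by norm_num1)
      have e18 : log (18 : ℝ) = log 2 + 2 * log 3 := by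
        rw [show (18 : ℝ) = 2 * 3 ^ 2 by norm_num1, log_mul (by norm_num1) (by norm_num1), log_pow]
        norm_num
      have e36 : log (2 * 18 : ℝ) = 2 * log 2 + 2 * log 3 := by
        rw [show (2 * 18 : ℝ) = 2 ^ 2 * 3 ^ 2 by norm_num1, log_mul (by norm_num1) (by norm_num1),
          log_pow, log_pow]
        norm_num
      have e4 : log (4 : ℝ) = 2 * log 2 := by
        rw [show (4 : ℝ) = 2 ^ 2 by norm_num1, log_pow]; norm_num
      have l2 : 0 < log (2 : ℝ) := log_pos (by norm_num1)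
      have l3 : 0 < log (3 : ℝ) := log_pos (by norm_num1)
      show 0 ≤ 3 * log 18 + √(2 * 18) * log (2 * 18) - (log 4 / 3 * 18 + (-(2 * log 2)))
      rw [hs, e18, e36, e4]
      nlinarith
    · have hs : √(2 * 2048 : ℝ) = 64 :=
        (sqrt_eq_iff_mul_self_eq_of_pos (by norm_num1)).mpr (by norm_num1)
      have e1 : log (2048 : ℝ) = 11 * log 2 := by
        rw [show (2048 : ℝ) = 2 ^ 11 by norm_num1, log_pow]; norm_num
      have e2 : log (2 * 2048 : ℝ) = 12 * log 2 := by
        rw [show (2 * 2048 : ℝ) = 2 ^ 12 by norm_num1, log_pow]; norm_num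
      have e4 : log (4 : ℝ) = 2 * log 2 := by
        rw [show (4 : ℝ) = 2 ^ 2 by norm_num1, log_pow]; norm_num
      have l2 : 0 < log (2 : ℝ) := log_pos (by norm_num1)
      show 3 * log 2048 + √(2 * 2048) * log (2 * 2048) - (log 4 / 3 * 2048 + (-(2 * log 2))) ≤ 0
      rw [hs, e1, e2, e4]
      nlinarith
  have hx : 0 < x := lt_of_lt_of_le (by norm_num1) x_large
  have h2x : 0 < 2 * x := by positivity
  have hA : 0 < x * (2 * x) ^ √(2 * x) * (2 * x) ^ (2 : ℝ) * 4 ^ (2 * x / 3) := by positivity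
  rw [← log_le_log_iff hA (by positivity)]
  rw [log_mul (by positivity) (by positivity), log_mul (by positivity) (by positivity),
    log_mul (by positivity) (by positivity), log_rpow h2x, log_rpow h2x,
    log_rpow (by norm_num1), log_rpow (by norm_num1), log_mul (by norm_num1) hx.ne']
  have key' : 3 * log x + √(2 * x) * log (2 * x) - (log 4 / 3 * x + (-(2 * log 2))) ≤ 0 := key
  rw [log_mul (by norm_num1) hx.ne'] at key'
  linarith

end real

section nat

open Nat

/-- the natural-number form of the main inequality. -/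
theorem main_inequality2 {n : ℕ} (n_large : 2048 ≤ n) :
    n * (2 * n) ^ sqrt (2 * n) * (2 * n) ^ 2 * 4 ^ (2 * n / 3) ≤ 4 ^ n := by
  rw [← @cast_le ℝ]
  simp only [cast_mul, cast_pow, ← Real.rpow_natCast, cast_ofNat]
  refine _root_.trans ?_ (real_main_inequality2 (by exact_mod_cast n_large))
  gcongr
  · have n2_pos : 0 < 2 * n := by positivity
    exact mod_cast n2_pos
  · exact_mod_cast Real.nat_sqrt_le_real_sqrt
  · norm_num1
  · exact cast_div_le.trans (by norm_cast)

/-- the part of the central binomial coefficient supported on the primes `≤ 2n/3`. -/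
theorem prod_small_le (n : ℕ) (n_pos : 0 < n) :
    ∏ p ∈ Finset.range (2 * n / 3 + 1), p ^ (centralBinom n).factorization p
      ≤ (2 * n) ^ sqrt (2 * n) * 4 ^ (2 * n / 3) := by
  have n2_pos : 1 ≤ 2 * n := mul_pos (zero_lt_two' ℕ) n_pos
  let S := {p ∈ Finset.range (2 * n / 3 + 1) | Nat.Prime p}
  let f x := x ^ n.centralBinom.factorization x
  have : ∏ x ∈ S, f x = ∏ x ∈ Finset.range (2 * n / 3 + 1), f x := by
    refine Finset.prod_filter_of_ne fun p _ h => ?_
    contrapose h; dsimp only [f]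
    rw [factorization_eq_zero_of_not_prime n.centralBinom h, _root_.pow_zero]
  show ∏ x ∈ Finset.range (2 * n / 3 + 1), f x ≤ _
  rw [← this, ← Finset.prod_filter_mul_prod_filter_not S (· ≤ sqrt (2 * n))]
  apply mul_le_mul'
  · refine (Finset.prod_le_prod' fun p _ => (?_ : f p ≤ 2 * n)).trans ?_
    · exact pow_factorization_choose_le (mul_pos two_pos n_pos)
    have : (Finset.Icc 1 (sqrt (2 * n))).card = sqrt (2 * n) := by rw [card_Icc, Nat.add_sub_cancel]
    rw [Finset.prod_const]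
    refine pow_right_mono₀ n2_pos ((Finset.card_le_card fun x hx => ?_).trans this.le)
    obtain ⟨h1, h2⟩ := Finset.mem_filter.1 hx
    exact Finset.mem_Icc.mpr ⟨(Finset.mem_filter.1 h1).2.one_lt.le, h2⟩
  · refine le_trans ?_ (primorial_le_four_pow (2 * n / 3))
    refine (Finset.prod_le_prod' fun p hp => (?_ : f p ≤ p)).trans ?_
    · obtain ⟨h1, h2⟩ := Finset.mem_filter.1 hp
      refine (pow_right_mono₀ (Finset.mem_filter.1 h1).2.one_lt.le ?_).trans (pow_one p).le
      exact Nat.factorization_choose_le_one (sqrt_lt'.mp <| not_le.1 h2)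
    refine Finset.prod_le_prod_of_subset_of_one_le' (Finset.filter_subset _ _) ?_
    exact fun p hp _ => (Finset.mem_filter.1 hp).2.one_lt.le

/-- if the primes in `(n, 2n]` lie in a set with at most two elements, the central binomial
coefficient is small. -/
theorem centralBinom_le_of_few_primes (n : ℕ) (n_large : 2 < n) (T : Finset ℕ) (hT : T.card ≤ 2)
    (hprime : ∀ p : ℕ, p.Prime → n < p → p ≤ 2 * n → p ∈ T) :
    centralBinom n ≤ (2 * n) ^ sqrt (2 * n) * 4 ^ (2 * n / 3) * (2 * n) ^ 2 := by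
  have n_pos : 0 < n := (Nat.zero_le _).trans_lt n_large
  have n2_pos : 1 ≤ 2 * n := mul_pos (zero_lt_two' ℕ) n_pos
  have hsub : Finset.range (2 * n / 3 + 1) ⊆ Finset.range (2 * n + 1) := by
    intro x hx
    rw [Finset.mem_range] at hx ⊢
    have : 2 * n / 3 ≤ 2 * n := Nat.div_le_self _ _
    omega
  rw [← n.prod_pow_factorization_centralBinom, ← Finset.prod_sdiff hsub, mul_comm]
  apply mul_le_mul' (prod_small_le n n_pos)
  -- the large part
  let f x := x ^ n.centralBinom.factorization x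
  let U := (Finset.range (2 * n + 1) \ Finset.range (2 * n / 3 + 1)).filter
    (fun x => x.Prime ∧ n < x)
  have h1 : ∏ x ∈ Finset.range (2 * n + 1) \ Finset.range (2 * n / 3 + 1), f x = ∏ x ∈ U, f x := by
    symm
    refine Finset.prod_filter_of_ne fun x hx h => ?_
    rw [Finset.mem_sdiff, Finset.mem_range, Finset.mem_range] at hx
    by_contra hcon
    apply h
    dsimp only [f]
    by_cases hxp : x.Prime
    · have hxn : x ≤ n := by
        by_contra h'
        exact hcon ⟨hxp, not_le.1 h'⟩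
      have h2x : 2 * n < 3 * x := by
        have := hx.2
        rw [not_lt, Nat.succ_le_iff, div_lt_iff_lt_mul three_pos] at this
        omega
      rw [factorization_centralBinom_of_two_mul_self_lt_three_mul n_large hxn h2x, Nat.pow_zero]
    · rw [factorization_eq_zero_of_not_prime n.centralBinom hxp, Nat.pow_zero]
  show ∏ x ∈ Finset.range (2 * n + 1) \ Finset.range (2 * n / 3 + 1), f x ≤ _
  rw [h1]
  have hUT : U ⊆ T := by
    intro x hx
    obtain ⟨hx1, hx2, hx3⟩ := Finset.mem_filter.1 hx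
    rw [Finset.mem_sdiff, Finset.mem_range] at hx1
    exact hprime x hx2 hx3 (by omega)
  calc ∏ x ∈ U, f x ≤ ∏ _x ∈ U, (2 * n) :=
        Finset.prod_le_prod' fun p _ => pow_factorization_choose_le (mul_pos two_pos n_pos)
    _ = (2 * n) ^ U.card := by rw [Finset.prod_const]
    _ ≤ (2 * n) ^ 2 := pow_right_mono₀ n2_pos ((Finset.card_le_card hUT).trans hT)

end nat

section main

open Nat

/-- three distinct natural numbers can be listed in increasing order. -/
theorem exists_sorted_triple {P : ℕ → Prop} {a b c : ℕ} (ha : P a) (hb : P b) (hc : P c)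
    (hab : a ≠ b) (hac : a ≠ c) (hbc : b ≠ c) :
    ∃ x y z : ℕ, P x ∧ P y ∧ P z ∧ x < y ∧ y < z := by
  rcases lt_or_gt_of_ne hab with h1 | h1 <;> rcases lt_or_gt_of_ne hac with h2 | h2 <;>
    rcases lt_or_gt_of_ne hbc with h3 | h3
  · exact ⟨a, b, c, ha, hb, hc, h1, h3⟩
  · exact ⟨a, c, b, ha, hc, hb, h2, h3⟩
  · exact ⟨a, b, c, ha, hb, hc, h1, h3⟩
  · exact ⟨c, a, b, hc, ha, hb, h2, h1⟩
  · exact ⟨b, a, c, hb, ha, hc, h1, h2⟩
  · exact ⟨b, a, c, hb, ha, hc, h1, h2⟩
  · exact ⟨b, c, a, hb, hc, ha, h3, h2⟩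
  · exact ⟨c, b, a, hc, hb, ha, h3, h1⟩

/-- strengthened Bertrand: three primes in `(n, 2n]` for large `n`. -/
theorem three_primes (n : ℕ) (hn : 2048 ≤ n) :
    ∃ p₁ p₂ p₃ : ℕ, p₁.Prime ∧ p₂.Prime ∧ p₃.Prime ∧ n < p₁ ∧ p₁ < p₂ ∧ p₂ < p₃ ∧ p₃ ≤ 2 * n := by
  let T := (Finset.Ioc n (2 * n)).filter Nat.Prime
  by_cases hT : T.card ≤ 2
  · exfalso
    have no_prime : 4 ^ n < n * n.centralBinom :=
      Nat.four_pow_lt_mul_centralBinom n (le_trans (by norm_num1) hn)
    have hb := centralBinom_le_of_few_primes n (lt_of_lt_of_le (by norm_num1) hn) T hT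
      (fun p hp h1 h2 => Finset.mem_filter.2 ⟨Finset.mem_Ioc.2 ⟨h1, h2⟩, hp⟩)
    have h2 := main_inequality2 hn
    have h3 : n * n.centralBinom ≤ 4 ^ n := by
      calc n * n.centralBinom
          ≤ n * ((2 * n) ^ sqrt (2 * n) * 4 ^ (2 * n / 3) * (2 * n) ^ 2) :=
            Nat.mul_le_mul_left n hb
        _ = n * (2 * n) ^ sqrt (2 * n) * (2 * n) ^ 2 * 4 ^ (2 * n / 3) := by ring
        _ ≤ 4 ^ n := h2
    exact absurd no_prime (not_lt.2 h3)
  · rw [not_le] at hT
    obtain ⟨a, b, c, ha, hb, hc, hab, hac, hbc⟩ := Finset.two_lt_card_iff.1 hT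
    obtain ⟨x, y, z, hx, hy, hz, hxy, hyz⟩ :=
      exists_sorted_triple (P := fun t => t ∈ T) ha hb hc hab hac hbc
    obtain ⟨hx1, hx2⟩ := Finset.mem_filter.1 hx
    obtain ⟨hy1, hy2⟩ := Finset.mem_filter.1 hy
    obtain ⟨hz1, hz2⟩ := Finset.mem_filter.1 hz
    exact ⟨x, y, z, hx2, hy2, hz2, (Finset.mem_Ioc.1 hx1).1, hxy, hyz, (Finset.mem_Ioc.1 hz1).2⟩

/-- the prime pair used for `m ≥ 17`. -/
theorem exists_prime_pair (m : ℕ) (hm : 17 ≤ m) :
    ∃ p q : ℕ, p.Prime ∧ q.Prime ∧ m < 2 * p ∧ p + 4 ≤ q ∧ q ≤ m := by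
  by_cases h0 : m ≤ 25
  · exact ⟨13, 17, by norm_num1, by norm_num1, by omega, by omega, by omega⟩
  by_cases h1 : m ≤ 37
  · exact ⟨19, 23, by norm_num1, by norm_num1, by omega, by omega, by omega⟩
  by_cases h2 : m ≤ 61
  · exact ⟨31, 37, by norm_num1, by norm_num1, by omega, by omega, by omega⟩
  by_cases h3 : m ≤ 105
  · exact ⟨53, 59, by norm_num1, by norm_num1, by omega, by omega, by omega⟩
  by_cases h4 : m ≤ 193
  · exact ⟨97, 101, by norm_num1, by norm_num1, by omega, by omega, by omega⟩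
  by_cases h5 : m ≤ 361
  · exact ⟨181, 191, by norm_num1, by norm_num1, by omega, by omega, by omega⟩
  by_cases h6 : m ≤ 697
  · exact ⟨349, 353, by norm_num1, by norm_num1, by omega, by omega, by omega⟩
  by_cases h7 : m ≤ 1365
  · exact ⟨683, 691, by norm_num1, by norm_num1, by omega, by omega, by omega⟩
  by_cases h8 : m ≤ 2641
  · exact ⟨1321, 1327, by norm_num1, by norm_num1, by omega, by omega, by omega⟩
  by_cases h9 : m ≤ 5241
  · exact ⟨2621, 2633, by norm_num1, by norm_num1, by omega, by omega, by omega⟩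
  -- large `m`
  have hn : 2048 ≤ m / 2 := by omega
  obtain ⟨p₁, p₂, p₃, hp₁, hp₂, hp₃, h1', h12, h23, h3'⟩ := three_primes (m / 2) hn
  have o1 : Odd p₁ := hp₁.odd_of_ne_two (by omega)
  have o2 : Odd p₂ := hp₂.odd_of_ne_two (by omega)
  have o3 : Odd p₃ := hp₃.odd_of_ne_two (by omega)
  obtain ⟨k1, hk1⟩ := o1
  obtain ⟨k2, hk2⟩ := o2
  obtain ⟨k3, hk3⟩ := o3
  exact ⟨p₁, p₃, hp₁, hp₃, by omega, by omega, by omega⟩

end main

end Cfsg.Agent.Lib.Helper7.AltGenN
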