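import Mathlib
import Cfsg.Agent.Lib.Helper7.AltMul2
import Cfsg.Agent.Lib.Helper1.Stem22

set_option autoImplicit false

/-! Subgroups of `A_{M+2}` generated by some of the three-cycles `(0 1 k)`. -/

namespace Cfsg.Agent.Lib.Helper7.AltMul

open Cfsg.Agent.Lib.Helper9.H9AutAlt Equiv Equiv.Perm

universe u

/-- the subgroup generated by the three-cycles `(0 1 k+2)`, `k ∈ S` -/
def subK (M : ℕ) (S : Finset (Fin M)) : Subgroup (alternatingGroup (Fin (M + 2))) :=
  Subgroup.closure (cgen M '' (S : Set (Fin M)))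

theorem cgen_mem_subK {M : ℕ} {S : Finset (Fin M)} {k : Fin M} (hk : k ∈ S) :
    cgen M k ∈ subK M S :=
  Subgroup.subset_closure ⟨k, hk, rfl⟩

theorem subK_mono {M : ℕ} {S T : Finset (Fin M)} (h : S ⊆ T) : subK M S ≤ subK M T :=
  Subgroup.closure_mono (Set.image_mono (by exact_mod_cast h))

theorem cgen_injective (M : ℕ) : Function.Injective (cgen M) := by
  intro i j h
  have h1 : cyc (0 : Fin (M + 2)) 1 i.succ.succ = cyc 0 1 j.succ.succ := congrArg Subtype.val h
  have h2 : cyc (0 : Fin (M + 2)) 1 i.succ.succ 1 = cyc 0 1 j.succ.succ 1 := by rw [h1]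
  rw [cyc_apply_snd (ss_ne_zero i).symm (ss_ne_one i).symm,
    cyc_apply_snd (ss_ne_zero j).symm (ss_ne_one j).symm] at h2
  exact Fin.succ_injective _ (Fin.succ_injective _ h2)

theorem cgen_ne_one (M : ℕ) (i : Fin M) : cgen M i ≠ 1 := by
  intro h
  have h1 : cyc (0 : Fin (M + 2)) 1 i.succ.succ = 1 := congrArg Subtype.val h
  have h2 : cyc (0 : Fin (M + 2)) 1 i.succ.succ 1 = (1 : Perm (Fin (M + 2))) 1 := by rw [h1]
  rw [cyc_apply_snd (ss_ne_zero i).symm (ss_ne_one i).symm, Perm.one_apply] at h2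
  exact ss_ne_one i h2

/-- the homomorphism `A_{s+2} → A_{M+2}` attached to an injection of generators -/
theorem exists_subHom {s M : ℕ} (e : Fin s → Fin M) (he : Function.Injective e) :
    ∃ φ : alternatingGroup (Fin (s + 2)) →* alternatingGroup (Fin (M + 2)),
      (∀ i, φ (cgen s i) = cgen M (e i)) ∧
      φ.range = Subgroup.closure (cgen M '' Set.range e) := by
  obtain ⟨φ, hφ⟩ := exists_lift (fun i => cgen M (e i)) (fun i => cgen_pow_three M (e i))
    (fun i j hij => cgen_mul_sq M (e i) (e j) (fun h => hij (he h)))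
  refine ⟨φ, hφ, ?_⟩
  rw [MonoidHom.range_eq_map, ← closure_range_cgen s, MonoidHom.map_closure]
  congr 1
  ext g
  simp only [Set.mem_image, Set.mem_range]
  constructor
  · rintro ⟨_, ⟨i, rfl⟩, rfl⟩
    exact ⟨e i, ⟨i, rfl⟩, (hφ i).symm⟩
  · rintro ⟨_, ⟨i, rfl⟩, rfl⟩
    exact ⟨cgen s i, ⟨i, rfl⟩, hφ i⟩

theorem card_fin_add_two (s : ℕ) : Nat.card (Fin (s + 2)) = s + 2 := by
  rw [Nat.card_eq_fintype_card, Fintype.card_fin]

theorem alt_perfect (s : ℕ) (hs : 3 ≤ s) : commutator (alternatingGroup (Fin (s + 2))) = ⊤ :=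
  commutator_alternatingGroup_eq_top (by rw [card_fin_add_two]; omega)

theorem subHom_injective {s M : ℕ} (hs : 3 ≤ s) (e : Fin s → Fin M)
    (φ : alternatingGroup (Fin (s + 2)) →* alternatingGroup (Fin (M + 2)))
    (hφ : ∀ i, φ (cgen s i) = cgen M (e i)) : Function.Injective φ := by
  have : IsSimpleGroup (alternatingGroup (Fin (s + 2))) :=
    alternatingGroup.isSimpleGroup (by rw [card_fin_add_two]; omega)
  rw [← MonoidHom.ker_eq_bot_iff]
  rcases (φ.normal_ker).eq_bot_or_eq_top with h | h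
  · exact h
  · exfalso
    have h0 : cgen s ⟨0, by omega⟩ ∈ φ.ker := by rw [h]; trivial
    rw [MonoidHom.mem_ker, hφ] at h0
    exact cgen_ne_one M _ h0

theorem subK_perfect {M : ℕ} (S : Finset (Fin M)) (hS : 3 ≤ S.card) :
    commutator (subK M S) = ⊤ := by
  obtain ⟨φ, hφ, hr⟩ := exists_subHom (S.orderEmbOfFin rfl) (S.orderEmbOfFin rfl).injective
  have hr' : φ.range = subK M S := by
    rw [hr, Finset.range_orderEmbOfFin]
    rfl
  rw [← hr']
  exact Cfsg.Agent.Lib.Helper1.Stem.commutator_eq_top_of_surjective φ.rangeRestrict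
    φ.rangeRestrict_surjective (alt_perfect _ hS)

end Cfsg.Agent.Lib.Helper7.AltMul
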