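import Mathlib
import Cfsg.Agent.Lib.Helper7.AltMul3

set_option autoImplicit false

/-! Conjugating one point stabilizer of `A_{M+2}` to another. -/

namespace Cfsg.Agent.Lib.Helper7.AltMul

open Cfsg.Agent.Lib.Helper9.H9AutAlt Equiv Equiv.Perm

universe u

/-- the double transposition `(0 1)(j+2 j'+2)` -/
def tau {M : ℕ} (j j' : Fin M) (h : j ≠ j') : alternatingGroup (Fin (M + 2)) :=
  ⟨swap 0 1 * swap j.succ.succ j'.succ.succ, by
    rw [mem_alternatingGroup, map_mul, sign_swap (zero_ne_one' M),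
      sign_swap (fun e => h (Fin.succ_injective _ (Fin.succ_injective _ e)))]
    rfl⟩

theorem tau_coe {M : ℕ} (j j' : Fin M) (h : j ≠ j') :
    ((tau j j' h : alternatingGroup (Fin (M + 2))) : Perm (Fin (M + 2))) =
      swap 0 1 * swap j.succ.succ j'.succ.succ := rfl

theorem cyc_one_zero {M : ℕ} (k : Fin M) :
    cyc (1 : Fin (M + 2)) 0 k.succ.succ = (cyc 0 1 k.succ.succ)⁻¹ := by
  rw [cyc_inv', cyc_rot (ss_ne_one k) (ss_ne_zero k) (zero_ne_one' M).symm]

theorem conj_cgen {M : ℕ} (j j' k : Fin M) (h : j ≠ j') (hk : k ≠ j) :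
    tau j j' h * cgen M k * (tau j j' h)⁻¹ = (cgen M (if k = j' then j else k))⁻¹ := by
  apply Subtype.ext
  rw [Subgroup.coe_mul, Subgroup.coe_mul, Subgroup.coe_inv, Subgroup.coe_inv, cgen_coe, cgen_coe,
    cyc_conj, tau_coe, ← cyc_one_zero]
  have h0 : (swap (0 : Fin (M + 2)) 1 * swap j.succ.succ j'.succ.succ) 0 = 1 := by
    rw [Perm.mul_apply, swap_apply_of_ne_of_ne (ss_ne_zero j).symm (ss_ne_zero j').symm,
      swap_apply_left]
  have h1 : (swap (0 : Fin (M + 2)) 1 * swap j.succ.succ j'.succ.succ) 1 = 0 := by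
    rw [Perm.mul_apply, swap_apply_of_ne_of_ne (ss_ne_one j).symm (ss_ne_one j').symm,
      swap_apply_right]
  rw [h0, h1]
  congr 1
  by_cases hkj : k = j'
  · subst hkj
    rw [if_pos rfl, Perm.mul_apply, swap_apply_right,
      swap_apply_of_ne_of_ne (ss_ne_zero j) (ss_ne_one j)]
  · rw [if_neg hkj, Perm.mul_apply, swap_apply_of_ne_of_ne
        (fun e => hk (Fin.succ_injective _ (Fin.succ_injective _ e)))
        (fun e => hkj (Fin.succ_injective _ (Fin.succ_injective _ e))),
      swap_apply_of_ne_of_ne (ss_ne_zero k) (ss_ne_one k)]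

theorem conj_subK {M : ℕ} (j j' : Fin M) (h : j ≠ j') (g : alternatingGroup (Fin (M + 2)))
    (hg : g ∈ subK M (Finset.univ.erase j)) :
    tau j j' h * g * (tau j j' h)⁻¹ ∈ subK M (Finset.univ.erase j') := by
  unfold subK at hg
  induction hg using Subgroup.closure_induction with
  | mem x hx =>
    obtain ⟨k, hk, rfl⟩ := hx
    have hkj : k ≠ j := by
      have := Finset.mem_coe.mp hk
      exact (Finset.mem_erase.mp this).1
    rw [conj_cgen j j' k h hkj]
    apply Subgroup.inv_mem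
    apply cgen_mem_subK
    rw [Finset.mem_erase]
    refine ⟨?_, Finset.mem_univ _⟩
    by_cases hkj' : k = j'
    · rw [if_pos hkj']; exact h
    · rw [if_neg hkj']; exact hkj'
  | one =>
    rw [mul_one, mul_inv_cancel]; exact Subgroup.one_mem _
  | mul x y _ _ hx hy =>
    have : tau j j' h * (x * y) * (tau j j' h)⁻¹ =
      (tau j j' h * x * (tau j j' h)⁻¹) * (tau j j' h * y * (tau j j' h)⁻¹) := by group
    rw [this]; exact Subgroup.mul_mem _ hx hy
  | inv x _ hx =>
    have : tau j j' h * x⁻¹ * (tau j j' h)⁻¹ = (tau j j' h * x * (tau j j' h)⁻¹)⁻¹ := by group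
    rw [this]; exact Subgroup.inv_mem _ hx

end Cfsg.Agent.Lib.Helper7.AltMul
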