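import Mathlib
import Cfsg.Agent.Lib.Helper7.AltMul4
import Cfsg.Agent.Lib.Helper1.Stem10

set_option autoImplicit false

/-! Gluing the lifts of the point stabilizers in a stem extension of `A_{M+2}`. -/

namespace Cfsg.Agent.Lib.Helper7.AltMul

open Cfsg.Agent.Lib.Helper9.H9AutAlt Cfsg.Agent.Lib.Helper1.Stem Equiv Equiv.Perm
open scoped commutatorElement

universe u

section glue

variable {Γ : Type u} [Group Γ] [Finite Γ] {M : ℕ} (σ : Γ →* alternatingGroup (Fin (M + 2)))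

omit [Finite Γ] in
theorem liftSub_mono {K K' : Subgroup (alternatingGroup (Fin (M + 2)))} (h : K ≤ K') :
    liftSub σ K ≤ liftSub σ K' :=
  Subgroup.commutator_mono (Subgroup.comap_mono h) (Subgroup.comap_mono h)

/-- the lift of the stabilizer of the point `j + 2` -/
def liftStab (j : Fin M) : Subgroup Γ := liftSub σ (subK M (Finset.univ.erase j))

omit [Finite Γ] in
theorem central_conj {z : Γ} (hz : z ∈ Subgroup.center Γ) (t : Γ) : t * z * t⁻¹ = z := by
  rw [Subgroup.mem_center_iff.mp hz t, mul_assoc, mul_inv_cancel, mul_one]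

omit [Finite Γ] in
theorem liftStab_ker_le (hs : Function.Surjective σ) (hcen : σ.ker ≤ Subgroup.center Γ)
    (j j' : Fin M) (h : j ≠ j') (z : Γ) (hz : z ∈ liftStab σ j) (hzk : z ∈ σ.ker) :
    z ∈ liftStab σ j' := by
  obtain ⟨t, ht⟩ := hs (tau j j' h)
  have hAB : ((subK M (Finset.univ.erase j)).comap σ).map (MulAut.conj t).toMonoidHom ≤
      (subK M (Finset.univ.erase j')).comap σ := by
    rintro _ ⟨a, ha, rfl⟩
    have ha' : σ a ∈ subK M (Finset.univ.erase j) := ha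
    rw [Subgroup.mem_comap]
    have : σ ((MulAut.conj t).toMonoidHom a) = tau j j' h * σ a * (tau j j' h)⁻¹ := by
      rw [MulEquiv.coe_toMonoidHom, MulAut.conj_apply, map_mul, map_mul, map_inv, ht]
    rw [this]
    exact conj_subK j j' h _ ha'
  have h1 : (liftStab σ j).map (MulAut.conj t).toMonoidHom ≤ liftStab σ j' := by
    unfold liftStab liftSub
    rw [Subgroup.map_commutator]
    exact Subgroup.commutator_mono hAB hAB
  have h2 : (MulAut.conj t).toMonoidHom z ∈ liftStab σ j' := h1 ⟨z, hz, rfl⟩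
  rw [MulEquiv.coe_toMonoidHom, MulAut.conj_apply, central_conj (hcen hzk)] at h2
  exact h2

theorem liftStab_inf_ker (hs : Function.Surjective σ) (hcen : σ.ker ≤ Subgroup.center Γ)
    (j j' : Fin M) : liftStab σ j ⊓ σ.ker = liftStab σ j' ⊓ σ.ker := by
  by_cases h : j = j'
  · rw [h]
  · apply le_antisymm
    · intro z hz
      exact ⟨liftStab_ker_le σ hs hcen j j' h z hz.1 hz.2, hz.2⟩
    · intro z hz
      exact ⟨liftStab_ker_le σ hs hcen j' j (Ne.symm h) z hz.1 hz.2, hz.2⟩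

theorem card_erase_univ (j : Fin M) : (Finset.univ.erase j : Finset (Fin M)).card = M - 1 := by
  rw [Finset.card_erase_of_mem (Finset.mem_univ _), Finset.card_univ, Fintype.card_fin]

theorem card_erase_erase (j j' : Fin M) :
    M - 2 ≤ ((Finset.univ.erase j).erase j' : Finset (Fin M)).card := by
  have h := Finset.pred_card_le_card_erase (s := (Finset.univ.erase j : Finset (Fin M))) (a := j')
  rw [card_erase_univ] at h
  omega

theorem exists_liftStab (hs : Function.Surjective σ) (hM : 4 ≤ M) (k j : Fin M) (hkj : k ≠ j) :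
    ∃ g ∈ liftStab σ j, σ g = cgen M k := by
  apply exists_liftSub_of_perfect σ hs _ (subK_perfect _ (by rw [card_erase_univ]; omega))
  exact cgen_mem_subK (Finset.mem_erase.mpr ⟨hkj, Finset.mem_univ _⟩)

/-- two lifts of a generator taken in two point stabilizers agree modulo the common
intersection with the kernel -/
theorem lift_unique (hs : Function.Surjective σ) (hcen : σ.ker ≤ Subgroup.center Γ) (hM : 5 ≤ M)
    (j₀ k j j' : Fin M) (hkj : k ≠ j) (hkj' : k ≠ j') (g g' : Γ)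
    (hg : g ∈ liftStab σ j) (hg' : g' ∈ liftStab σ j')
    (hσg : σ g = cgen M k) (hσg' : σ g' = cgen M k) :
    g⁻¹ * g' ∈ liftStab σ j₀ ⊓ σ.ker := by
  have hS : 3 ≤ ((Finset.univ.erase j).erase j' : Finset (Fin M)).card := by
    have := card_erase_erase j j'; omega
  have hk : k ∈ ((Finset.univ.erase j).erase j' : Finset (Fin M)) :=
    Finset.mem_erase.mpr ⟨hkj', Finset.mem_erase.mpr ⟨hkj, Finset.mem_univ _⟩⟩
  obtain ⟨g₀, hg₀, hσ₀⟩ := exists_liftSub_of_perfect σ hs _ (subK_perfect _ hS) (cgen M k)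
    (cgen_mem_subK hk)
  have h1 : g₀ ∈ liftStab σ j :=
    liftSub_mono σ (subK_mono (Finset.erase_subset _ _)) hg₀
  have h2 : g₀ ∈ liftStab σ j' := by
    refine liftSub_mono σ (subK_mono ?_) hg₀
    intro x hx
    rw [Finset.mem_erase] at hx ⊢
    exact ⟨hx.1, Finset.mem_univ _⟩
  have h3 : g₀⁻¹ * g ∈ liftStab σ j₀ ⊓ σ.ker := by
    rw [← liftStab_inf_ker σ hs hcen j j₀]
    refine ⟨Subgroup.mul_mem _ (Subgroup.inv_mem _ h1) hg, MonoidHom.mem_ker.mpr ?_⟩
    rw [map_mul, map_inv, hσ₀, hσg, inv_mul_cancel]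
  have h4 : g₀⁻¹ * g' ∈ liftStab σ j₀ ⊓ σ.ker := by
    rw [← liftStab_inf_ker σ hs hcen j' j₀]
    refine ⟨Subgroup.mul_mem _ (Subgroup.inv_mem _ h2) hg', MonoidHom.mem_ker.mpr ?_⟩
    rw [map_mul, map_inv, hσ₀, hσg', inv_mul_cancel]
  have : g⁻¹ * g' = (g₀⁻¹ * g)⁻¹ * (g₀⁻¹ * g') := by group
  rw [this]
  exact Subgroup.mul_mem _ (Subgroup.inv_mem _ h3) h4

omit [Finite Γ] in
theorem central_conj' {z : Γ} (hz : z ∈ Subgroup.center Γ) (t : Γ) : z * t * z⁻¹ = t := by
  rw [← Subgroup.mem_center_iff.mp hz t, mul_assoc, mul_inv_cancel, mul_one]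

omit [Finite Γ] in
theorem commutator_mul_central (x y za zb : Γ) (hza : za ∈ Subgroup.center Γ)
    (hzb : zb ∈ Subgroup.center Γ) : ⁅x * za, y * zb⁆ = ⁅x, y⁆ := by
  rw [commutatorElement_def, commutatorElement_def]
  have e1 : x * za * (y * zb) * (x * za)⁻¹ * (y * zb)⁻¹ =
      x * (za * (y * zb) * za⁻¹) * x⁻¹ * zb⁻¹ * y⁻¹ := by group
  rw [e1, central_conj' hza]
  have e2 : x * (y * zb) * x⁻¹ * zb⁻¹ * y⁻¹ = x * y * (zb * x⁻¹ * zb⁻¹) * y⁻¹ := by group
  rw [e2, central_conj' hzb]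

theorem exists_ne_fin (hM : 5 ≤ M) (k : Fin M) : ∃ j : Fin M, k ≠ j := by
  by_cases h : k.val = 0
  · exact ⟨⟨1, by omega⟩, fun e => by have := congrArg Fin.val e; simp at this; omega⟩
  · exact ⟨⟨0, by omega⟩, fun e => by have := congrArg Fin.val e; simp at this; omega⟩

theorem exists_ne_fin₂ (hM : 5 ≤ M) (k l : Fin M) : ∃ j : Fin M, k ≠ j ∧ l ≠ j := by
  by_cases h0 : k.val ≠ 0 ∧ l.val ≠ 0
  · exact ⟨⟨0, by omega⟩, fun e => h0.1 (by rw [e]), fun e => h0.2 (by rw [e])⟩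
  by_cases h1 : k.val ≠ 1 ∧ l.val ≠ 1
  · exact ⟨⟨1, by omega⟩, fun e => h1.1 (by rw [e]), fun e => h1.2 (by rw [e])⟩
  · refine ⟨⟨2, by omega⟩, fun e => ?_, fun e => ?_⟩
    · have := congrArg Fin.val e; simp at this; omega
    · have := congrArg Fin.val e; simp at this; omega

/-- **Gluing**: in a stem extension of `A_{M+2}`, `M ≥ 5`, the kernel lies in the lift of every
point stabilizer. -/
theorem ker_le_liftStab (hσ : Cfsg.IsStemExtension σ) (hM : 5 ≤ M) (j₀ : Fin M) :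
    σ.ker ≤ liftStab σ j₀ := by
  obtain ⟨hs, hcen, hcomm⟩ := hσ
  have hZcen : liftStab σ j₀ ⊓ σ.ker ≤ Subgroup.center Γ := inf_le_right.trans hcen
  have hnorm : (liftStab σ j₀ ⊓ σ.ker).Normal :=
    ⟨fun z hz t => by rw [central_conj (hZcen hz)]; exact hz⟩
  choose jk hjk using exists_ne_fin hM
  choose lam hlam hσlam using fun k => exists_liftStab σ hs (by omega) k (jk k) (hjk k)
  have huniq : ∀ (k j : Fin M) (g : Γ), k ≠ j → g ∈ liftStab σ j → σ g = cgen M k →
      (QuotientGroup.mk g : Γ ⧸ (liftStab σ j₀ ⊓ σ.ker)) = QuotientGroup.mk (lam k) := by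
    intro k j g hkj hg hσg
    rw [QuotientGroup.eq]
    exact lift_unique σ hs hcen hM j₀ k j (jk k) hkj (hjk k) g (lam k) hg (hlam k) hσg (hσlam k)
  have h3 : ∀ k, (QuotientGroup.mk (lam k) : Γ ⧸ (liftStab σ j₀ ⊓ σ.ker)) ^ 3 = 1 := by
    intro k
    rw [← QuotientGroup.mk_pow, QuotientGroup.eq_one_iff,
      liftStab_inf_ker σ hs hcen j₀ (jk k)]
    refine ⟨Subgroup.pow_mem _ (hlam k) 3, MonoidHom.mem_ker.mpr ?_⟩
    rw [map_pow, hσlam, cgen_pow_three]
  have h2 : ∀ k l, k ≠ l → ((QuotientGroup.mk (lam k) : Γ ⧸ (liftStab σ j₀ ⊓ σ.ker)) *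
      QuotientGroup.mk (lam l)) ^ 2 = 1 := by
    intro k l hkl
    obtain ⟨j, hkj, hlj⟩ := exists_ne_fin₂ hM k l
    obtain ⟨gk, hgk, hσgk⟩ := exists_liftStab σ hs (by omega) k j hkj
    obtain ⟨gl, hgl, hσgl⟩ := exists_liftStab σ hs (by omega) l j hlj
    rw [← huniq k j gk hkj hgk hσgk, ← huniq l j gl hlj hgl hσgl, ← QuotientGroup.mk_mul,
      ← QuotientGroup.mk_pow, QuotientGroup.eq_one_iff, liftStab_inf_ker σ hs hcen j₀ j]
    refine ⟨Subgroup.pow_mem _ (Subgroup.mul_mem _ hgk hgl) 2, MonoidHom.mem_ker.mpr ?_⟩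
    rw [map_pow, map_mul, hσgk, hσgl, cgen_mul_sq M k l hkl]
  obtain ⟨φ, hφ⟩ := exists_lift (fun k => (QuotientGroup.mk (lam k) :
    Γ ⧸ (liftStab σ j₀ ⊓ σ.ker))) h3 h2
  -- the induced map on the quotient
  have hle : liftStab σ j₀ ⊓ σ.ker ≤ σ.ker := inf_le_right
  have hσφ : ∀ a, QuotientGroup.lift (liftStab σ j₀ ⊓ σ.ker) σ hle (φ a) = a := by
    have : (QuotientGroup.lift (liftStab σ j₀ ⊓ σ.ker) σ hle).comp φ =
        MonoidHom.id _ := by
      apply MonoidHom.eq_of_eqOn_dense (closure_range_cgen M)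
      rintro _ ⟨k, rfl⟩
      rw [MonoidHom.comp_apply, hφ, QuotientGroup.lift_mk, hσlam]
      rfl
    intro a
    exact DFunLike.congr_fun this a
  -- the kernel of the induced map is central
  have hkc : ∀ q : Γ ⧸ (liftStab σ j₀ ⊓ σ.ker),
      QuotientGroup.lift (liftStab σ j₀ ⊓ σ.ker) σ hle q = 1 → q ∈ Subgroup.center _ := by
    intro q hq
    obtain ⟨g, rfl⟩ := QuotientGroup.mk_surjective q
    rw [QuotientGroup.lift_mk] at hq
    have hg : g ∈ Subgroup.center Γ := hcen (MonoidHom.mem_ker.mpr hq)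
    rw [Subgroup.mem_center_iff]
    intro r
    obtain ⟨r', rfl⟩ := QuotientGroup.mk_surjective r
    rw [← QuotientGroup.mk_mul, ← QuotientGroup.mk_mul, Subgroup.mem_center_iff.mp hg r']
  have hcomm' : commutator (Γ ⧸ (liftStab σ j₀ ⊓ σ.ker)) ≤ φ.range := by
    rw [commutator_def, Subgroup.commutator_le]
    intro a _ b _
    set a' := QuotientGroup.lift (liftStab σ j₀ ⊓ σ.ker) σ hle a with ha'
    set b' := QuotientGroup.lift (liftStab σ j₀ ⊓ σ.ker) σ hle b with hb'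
    have hza : (φ a')⁻¹ * a ∈ Subgroup.center _ := by
      apply hkc
      rw [map_mul, map_inv, hσφ, inv_mul_cancel]
    have hzb : (φ b')⁻¹ * b ∈ Subgroup.center _ := by
      apply hkc
      rw [map_mul, map_inv, hσφ, inv_mul_cancel]
    have e : ⁅a, b⁆ = ⁅φ a', φ b'⁆ := by
      have ea : a = φ a' * ((φ a')⁻¹ * a) := by group
      have eb : b = φ b' * ((φ b')⁻¹ * b) := by group
      rw [← commutator_mul_central (φ a') (φ b') _ _ hza hzb, ← ea, ← eb]
    rw [e, ← map_commutatorElement]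
    exact ⟨_, rfl⟩
  intro z hz
  have h1 : (QuotientGroup.mk z : Γ ⧸ (liftStab σ j₀ ⊓ σ.ker)) ∈ φ.range := by
    apply hcomm'
    have := hcomm hz
    rw [← map_commutator_of_surjective (QuotientGroup.mk' (liftStab σ j₀ ⊓ σ.ker))
      (QuotientGroup.mk'_surjective _)]
    exact ⟨z, this, rfl⟩
  obtain ⟨a, ha⟩ := h1
  have ha1 : a = 1 := by
    rw [← hσφ a, ha, QuotientGroup.lift_mk]
    exact MonoidHom.mem_ker.mp hz
  rw [ha1, map_one] at ha
  have : z ∈ liftStab σ j₀ ⊓ σ.ker := (QuotientGroup.eq_one_iff z).mp ha.symm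
  exact this.1

end glue

end Cfsg.Agent.Lib.Helper7.AltMul
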