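import Mathlib
import Cfsg.Agent.Lib.Helper7.AltMul5
import Cfsg.Agent.Lib.Helper1.Stem14

set_option autoImplicit false

/-! The induction step: stem extensions of `A_{m+3}` restrict to stem extensions of `A_{m+2}`
with the same kernel, for `m ≥ 4`. -/

namespace Cfsg.Agent.Lib.Helper7.AltMul

open Cfsg.Agent.Lib.Helper9.H9AutAlt Cfsg.Agent.Lib.Helper1.Stem Equiv Equiv.Perm

universe u

theorem range_castSucc_eq (m : ℕ) :
    Set.range (Fin.castSucc : Fin m → Fin (m + 1)) =
      ((Finset.univ.erase (Fin.last m) : Finset (Fin (m + 1))) : Set (Fin (m + 1))) := by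
  ext x
  simp only [Set.mem_range, Finset.coe_erase, Finset.coe_univ, Set.mem_sdiff, Set.mem_univ,
    Set.mem_singleton_iff, true_and]
  exact Fin.exists_castSucc_eq

/-- the stabilizer of the last point is a copy of `A_{m+2}` -/
theorem exists_equiv_subK (m : ℕ) (hm : 3 ≤ m) :
    Nonempty (alternatingGroup (Fin (m + 2)) ≃*
      subK (m + 1) (Finset.univ.erase (Fin.last m))) := by
  obtain ⟨φ, hφ, hr⟩ := exists_subHom (Fin.castSucc : Fin m → Fin (m + 1))
    (Fin.castSucc_injective m)
  have hinj := subHom_injective hm _ φ hφ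
  have hr' : φ.range = subK (m + 1) (Finset.univ.erase (Fin.last m)) := by
    rw [hr, range_castSucc_eq]
    rfl
  exact ⟨(MonoidHom.ofInjective hinj).trans (MulEquiv.subgroupCongr hr')⟩

theorem step {Γ : Type u} [Group Γ] [Finite Γ] {m : ℕ} (hm : 4 ≤ m)
    (σ : Γ →* alternatingGroup (Fin (m + 1 + 2))) (hσ : Cfsg.IsStemExtension σ) :
    ∃ (Γ₁ : Type u) (_ : Group Γ₁) (_ : Finite Γ₁) (σ₁ : Γ₁ →* alternatingGroup (Fin (m + 2))),
      Cfsg.IsStemExtension σ₁ ∧ Nat.card σ₁.ker = Nat.card σ.ker := by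
  have hker := ker_le_liftStab σ hσ (by omega) (Fin.last m)
  obtain ⟨hs, hcen, hcomm⟩ := hσ
  have hperf : commutator (subK (m + 1) (Finset.univ.erase (Fin.last m))) = ⊤ :=
    subK_perfect _ (by rw [card_erase_univ]; omega)
  have hstem := liftHom_isStem σ hs hcen _ hperf
  obtain ⟨e⟩ := exists_equiv_subK m (by omega)
  refine ⟨liftSub σ (subK (m + 1) (Finset.univ.erase (Fin.last m))), inferInstance, inferInstance,
    e.symm.toMonoidHom.comp ((liftHom σ _).comp (MulEquiv.refl _).toMonoidHom),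
    isStem_comp_equiv (MulEquiv.refl _) e.symm _ hstem, ?_⟩
  rw [Nat.card_congr (kerEquiv (MulEquiv.refl _) e.symm (liftHom σ _)).toEquiv]
  refine Nat.card_congr
    { toFun := fun x => ⟨(x.1 : Γ), ?_⟩
      invFun := fun z => ⟨⟨z.1, hker z.2⟩, ?_⟩
      left_inv := fun x => rfl
      right_inv := fun z => rfl }
  · have := x.2
    rw [MonoidHom.mem_ker] at this ⊢
    have h2 := congrArg Subtype.val this
    rw [liftHom_apply] at h2
    exact h2
  · rw [MonoidHom.mem_ker]
    apply Subtype.ext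
    rw [liftHom_apply]
    exact MonoidHom.mem_ker.mp z.2

end Cfsg.Agent.Lib.Helper7.AltMul
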