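import Mathlib
import Cfsg.Prelude.Def_KGroupFacts
import Cfsg.Agent.Lib.Helper1.Stem15
import Cfsg.Agent.Lib.Helper1.Stem17
import Cfsg.Agent.Lib.Helper1.PermList

set_option autoImplicit false

/-! The kernels of the stem extensions of the alternating groups of degree 4 and 5 have order at
most two. -/

namespace Cfsg.Agent.Lib.Helper7.AltMul

open Equiv Cfsg.Agent.Lib.Helper1.PermList Cfsg.Agent.Lib.Helper1.Stem

universe u

section four

def p4x : Perm (Fin 4) :=
  permOfNat 4 (fun x => [1,0,3,2].getD x 0) (fun x => [1,0,3,2].getD x 0) (by decide)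

def p4y : Perm (Fin 4) :=
  permOfNat 4 (fun x => [2,3,0,1].getD x 0) (fun x => [2,3,0,1].getD x 0) (by decide)

theorem p4x_sign : Perm.sign p4x = 1 := by decide
theorem p4y_sign : Perm.sign p4y = 1 := by decide

def X4 : alternatingGroup (Fin 4) := ⟨p4x, Perm.mem_alternatingGroup.mpr p4x_sign⟩
def Y4 : alternatingGroup (Fin 4) := ⟨p4y, Perm.mem_alternatingGroup.mpr p4y_sign⟩

theorem eq_of_val_pbeq4 (g h : alternatingGroup (Fin 4))
    (e : pbeq (g : Perm (Fin 4)) (h : Perm (Fin 4)) = true) : g = h :=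
  Subtype.ext (eq_of_pbeq _ _ e)

theorem relXY4 : X4 * Y4 = Y4 * X4 := by
  apply eq_of_val_pbeq4
  decide +kernel

theorem relX4sq : X4 ^ 2 = 1 := by
  apply eq_of_val_pbeq4
  decide +kernel

theorem X4_ne_one : X4 ≠ 1 := by
  intro h
  have := congrArg (fun g : alternatingGroup (Fin 4) => ((g : Perm (Fin 4)) 0).val) h
  revert this
  decide +kernel

theorem orderOf_X4 : orderOf X4 = 2 := by
  have : Fact (Nat.Prime 2) := ⟨Nat.prime_two⟩
  exact orderOf_eq_prime relX4sq X4_ne_one

def L4 : List (alternatingGroup (Fin 4)) := [1, X4, Y4, X4 * Y4]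

theorem L4_chk : (chkOne L4 && chkMul L4 && chkNodup L4) = true := by decide +kernel

theorem L4_one : (1 : alternatingGroup (Fin 4)) ∈ L4 := by
  have := L4_chk
  simp only [Bool.and_eq_true] at this
  exact one_mem_of_chkOne L4 this.1.1

theorem L4_mul : ∀ a ∈ L4, ∀ b ∈ L4, a * b ∈ L4 := by
  have := L4_chk
  simp only [Bool.and_eq_true] at this
  exact mul_mem_of_chkMul L4 this.1.2

theorem L4_nodup : L4.Nodup := by
  have := L4_chk
  simp only [Bool.and_eq_true] at this
  exact nodup_of_chkNodup L4 this.2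

def Q4 : Subgroup (alternatingGroup (Fin 4)) := listSubgroup L4 L4_one L4_mul

theorem card_Q4 : Nat.card Q4 = 4 := card_listSubgroup L4 L4_one L4_mul L4_nodup

theorem card_alt4 : Nat.card (alternatingGroup (Fin 4)) = 12 := by
  have h := two_mul_nat_card_alternatingGroup (α := Fin 4)
  rw [Nat.card_eq_fintype_card (α := Perm (Fin 4)), Fintype.card_perm, Fintype.card_fin] at h
  have : Nat.factorial 4 = 24 := by decide
  omega

theorem index_Q4 : ¬ 2 ∣ Q4.index := by
  have h := Subgroup.card_mul_index Q4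
  rw [card_Q4, card_alt4] at h
  omega

theorem Q4_le : Q4 ≤ Subgroup.closure {X4, Y4} := by
  intro g hg
  have hX : X4 ∈ Subgroup.closure ({X4, Y4} : Set (alternatingGroup (Fin 4))) :=
    Subgroup.subset_closure (by simp)
  have hY : Y4 ∈ Subgroup.closure ({X4, Y4} : Set (alternatingGroup (Fin 4))) :=
    Subgroup.subset_closure (by simp)
  have hg' : g ∈ L4 := hg
  simp only [L4, List.mem_cons, List.not_mem_nil, or_false] at hg'
  rcases hg' with rfl | rfl | rfl | rfl
  · exact Subgroup.one_mem _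
  · exact hX
  · exact hY
  · exact Subgroup.mul_mem _ hX hY

theorem not_sq_dvd_12 (p : ℕ) (hp : p.Prime) (h2 : p ≠ 2) : ¬ p * p ∣ 12 := by
  intro h
  have h1 : p * p ≤ 12 := Nat.le_of_dvd (by norm_num) h
  have h4 : p ≤ 3 := by nlinarith
  interval_cases p <;> first | exact absurd rfl h2 | (revert h; revert hp; decide)

theorem bound4 (Γ : Type u) [Group Γ] [Finite Γ] (σ : Γ →* alternatingGroup (Fin 4))
    (hσ : Cfsg.IsStemExtension σ) : Nat.card σ.ker ≤ 2 := by
  have key : IsCyclic σ.ker ∧ Nat.card σ.ker ∣ 2 := by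
    apply cyclic_dvd_of_primary σ 2 (by norm_num) ?_ hσ
    intro p hp Γ' _ _ σ' hσ' hk
    by_cases h2 : p = 2
    · subst h2
      obtain ⟨hc, hd⟩ := cyclic_of_commuting_pair σ' hσ' 2 hk Q4 index_Q4 X4 Y4 relXY4 Q4_le
      rw [orderOf_X4] at hd
      exact ⟨hc, hd⟩
    · have h1 : Nat.card σ'.ker = 1 := by
        apply card_ker_eq_one_of_not_sq_dvd σ' hσ' p hk
        rw [card_alt4]
        exact not_sq_dvd_12 p hp.out h2
      refine ⟨?_, by rw [h1]; exact one_dvd _⟩
      have : Subsingleton σ'.ker := (Nat.card_eq_one_iff_unique.mp h1).1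
      exact isCyclic_of_subsingleton
  exact Nat.le_of_dvd (by norm_num) key.2

end four

section five

def p5x : Perm (Fin 5) :=
  permOfNat 5 (fun x => [1,0,3,2,4].getD x 0) (fun x => [1,0,3,2,4].getD x 0) (by decide)

def p5y : Perm (Fin 5) :=
  permOfNat 5 (fun x => [2,3,0,1,4].getD x 0) (fun x => [2,3,0,1,4].getD x 0) (by decide)

theorem p5x_sign : Perm.sign p5x = 1 := by decide
theorem p5y_sign : Perm.sign p5y = 1 := by decide

def X5 : alternatingGroup (Fin 5) := ⟨p5x, Perm.mem_alternatingGroup.mpr p5x_sign⟩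
def Y5 : alternatingGroup (Fin 5) := ⟨p5y, Perm.mem_alternatingGroup.mpr p5y_sign⟩

theorem eq_of_val_pbeq5 (g h : alternatingGroup (Fin 5))
    (e : pbeq (g : Perm (Fin 5)) (h : Perm (Fin 5)) = true) : g = h :=
  Subtype.ext (eq_of_pbeq _ _ e)

theorem relXY5 : X5 * Y5 = Y5 * X5 := by
  apply eq_of_val_pbeq5
  decide +kernel

theorem relX5sq : X5 ^ 2 = 1 := by
  apply eq_of_val_pbeq5
  decide +kernel

theorem X5_ne_one : X5 ≠ 1 := by
  intro h
  have := congrArg (fun g : alternatingGroup (Fin 5) => ((g : Perm (Fin 5)) 0).val) h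
  revert this
  decide +kernel

theorem orderOf_X5 : orderOf X5 = 2 := by
  have : Fact (Nat.Prime 2) := ⟨Nat.prime_two⟩
  exact orderOf_eq_prime relX5sq X5_ne_one

def L5 : List (alternatingGroup (Fin 5)) := [1, X5, Y5, X5 * Y5]

theorem L5_chk : (chkOne L5 && chkMul L5 && chkNodup L5) = true := by decide +kernel

theorem L5_one : (1 : alternatingGroup (Fin 5)) ∈ L5 := by
  have := L5_chk
  simp only [Bool.and_eq_true] at this
  exact one_mem_of_chkOne L5 this.1.1

theorem L5_mul : ∀ a ∈ L5, ∀ b ∈ L5, a * b ∈ L5 := by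
  have := L5_chk
  simp only [Bool.and_eq_true] at this
  exact mul_mem_of_chkMul L5 this.1.2

theorem L5_nodup : L5.Nodup := by
  have := L5_chk
  simp only [Bool.and_eq_true] at this
  exact nodup_of_chkNodup L5 this.2

def Q5 : Subgroup (alternatingGroup (Fin 5)) := listSubgroup L5 L5_one L5_mul

theorem card_Q5 : Nat.card Q5 = 4 := card_listSubgroup L5 L5_one L5_mul L5_nodup

theorem card_alt5 : Nat.card (alternatingGroup (Fin 5)) = 60 := by
  have h := two_mul_nat_card_alternatingGroup (α := Fin 5)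
  rw [Nat.card_eq_fintype_card (α := Perm (Fin 5)), Fintype.card_perm, Fintype.card_fin] at h
  have : Nat.factorial 5 = 120 := by decide
  omega

theorem index_Q5 : ¬ 2 ∣ Q5.index := by
  have h := Subgroup.card_mul_index Q5
  rw [card_Q5, card_alt5] at h
  omega

theorem Q5_le : Q5 ≤ Subgroup.closure {X5, Y5} := by
  intro g hg
  have hX : X5 ∈ Subgroup.closure ({X5, Y5} : Set (alternatingGroup (Fin 5))) :=
    Subgroup.subset_closure (by simp)
  have hY : Y5 ∈ Subgroup.closure ({X5, Y5} : Set (alternatingGroup (Fin 5))) :=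
    Subgroup.subset_closure (by simp)
  have hg' : g ∈ L5 := hg
  simp only [L5, List.mem_cons, List.not_mem_nil, or_false] at hg'
  rcases hg' with rfl | rfl | rfl | rfl
  · exact Subgroup.one_mem _
  · exact hX
  · exact hY
  · exact Subgroup.mul_mem _ hX hY

theorem not_sq_dvd_60 (p : ℕ) (hp : p.Prime) (h2 : p ≠ 2) : ¬ p * p ∣ 60 := by
  intro h
  have h1 : p * p ≤ 60 := Nat.le_of_dvd (by norm_num) h
  have h4 : p ≤ 7 := by nlinarith
  interval_cases p <;> first | exact absurd rfl h2 | (revert h; revert hp; decide)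

theorem bound5 (Γ : Type u) [Group Γ] [Finite Γ] (σ : Γ →* alternatingGroup (Fin 5))
    (hσ : Cfsg.IsStemExtension σ) : Nat.card σ.ker ≤ 2 := by
  have key : IsCyclic σ.ker ∧ Nat.card σ.ker ∣ 2 := by
    apply cyclic_dvd_of_primary σ 2 (by norm_num) ?_ hσ
    intro p hp Γ' _ _ σ' hσ' hk
    by_cases h2 : p = 2
    · subst h2
      obtain ⟨hc, hd⟩ := cyclic_of_commuting_pair σ' hσ' 2 hk Q5 index_Q5 X5 Y5 relXY5 Q5_le
      rw [orderOf_X5] at hd
      exact ⟨hc, hd⟩
    · have h1 : Nat.card σ'.ker = 1 := by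
        apply card_ker_eq_one_of_not_sq_dvd σ' hσ' p hk
        rw [card_alt5]
        exact not_sq_dvd_60 p hp.out h2
      refine ⟨?_, by rw [h1]; exact one_dvd _⟩
      have : Subsingleton σ'.ker := (Nat.card_eq_one_iff_unique.mp h1).1
      exact isCyclic_of_subsingleton
  exact Nat.le_of_dvd (by norm_num) key.2

end five

end Cfsg.Agent.Lib.Helper7.AltMul
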