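import Mathlib
import Cfsg.Prelude.Def_KGroupFacts
import Cfsg.Agent.Lib.Helper1.Stem5
import Cfsg.Agent.Lib.Helper1.Stem13
import Cfsg.Agent.Lib.Helper1.PermList

set_option autoImplicit false

/-! The kernel of a stem extension of the alternating group of degree 8 has order prime to 3. -/

namespace Cfsg.Agent.Lib.Helper7.AltMul

open Equiv Cfsg.Agent.Lib.Helper1.PermList Cfsg.Agent.Lib.Helper1.Stem

universe u

def p8x : Perm (Fin 8) :=
  permOfNat 8 (fun x => [1,2,0,3,4,5,6,7].getD x 0) (fun x => [2,0,1,3,4,5,6,7].getD x 0)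
    (by decide)

def p8y : Perm (Fin 8) :=
  permOfNat 8 (fun x => [0,1,2,4,5,3,6,7].getD x 0) (fun x => [0,1,2,5,3,4,6,7].getD x 0)
    (by decide)

def p8n : Perm (Fin 8) :=
  permOfNat 8 (fun x => [1,0,2,3,4,5,7,6].getD x 0) (fun x => [1,0,2,3,4,5,7,6].getD x 0)
    (by decide)

theorem p8x_sign : Perm.sign p8x = 1 := by decide +kernel
theorem p8y_sign : Perm.sign p8y = 1 := by decide +kernel
theorem p8n_sign : Perm.sign p8n = 1 := by decide +kernel

def X8 : alternatingGroup (Fin 8) := ⟨p8x, Perm.mem_alternatingGroup.mpr p8x_sign⟩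
def Y8 : alternatingGroup (Fin 8) := ⟨p8y, Perm.mem_alternatingGroup.mpr p8y_sign⟩
def N8 : alternatingGroup (Fin 8) := ⟨p8n, Perm.mem_alternatingGroup.mpr p8n_sign⟩

theorem eq_of_val_pbeq8 (g h : alternatingGroup (Fin 8))
    (e : pbeq (g : Perm (Fin 8)) (h : Perm (Fin 8)) = true) : g = h :=
  Subtype.ext (eq_of_pbeq _ _ e)

theorem relXY8 : X8 * Y8 = Y8 * X8 := by
  apply eq_of_val_pbeq8
  decide +kernel

theorem relNX8 : N8 * X8 * N8⁻¹ = X8⁻¹ := by
  rw [eq_inv_iff_mul_eq_one]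
  apply eq_of_val_pbeq8
  decide +kernel

theorem relNY8 : N8 * Y8 * N8⁻¹ = Y8 := by
  rw [mul_inv_eq_iff_eq_mul]
  apply eq_of_val_pbeq8
  decide +kernel

def L8 : List (alternatingGroup (Fin 8)) :=
  [1, X8, X8 * X8, Y8, X8 * Y8, X8 * (X8 * Y8), Y8 * Y8, X8 * (Y8 * Y8), X8 * (X8 * (Y8 * Y8))]

theorem L8_chk : (chkOne L8 && chkMul L8 && chkNodup L8) = true := by decide +kernel

theorem L8_one : (1 : alternatingGroup (Fin 8)) ∈ L8 := by
  have := L8_chk
  simp only [Bool.and_eq_true] at this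
  exact one_mem_of_chkOne L8 this.1.1

theorem L8_mul : ∀ a ∈ L8, ∀ b ∈ L8, a * b ∈ L8 := by
  have := L8_chk
  simp only [Bool.and_eq_true] at this
  exact mul_mem_of_chkMul L8 this.1.2

theorem L8_nodup : L8.Nodup := by
  have := L8_chk
  simp only [Bool.and_eq_true] at this
  exact nodup_of_chkNodup L8 this.2

def Q8 : Subgroup (alternatingGroup (Fin 8)) := listSubgroup L8 L8_one L8_mul

theorem card_Q8 : Nat.card Q8 = 9 := card_listSubgroup L8 L8_one L8_mul L8_nodup

theorem card_alt8 : Nat.card (alternatingGroup (Fin 8)) = 20160 := by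
  have h := two_mul_nat_card_alternatingGroup (α := Fin 8)
  rw [Nat.card_eq_fintype_card (α := Perm (Fin 8)), Fintype.card_perm, Fintype.card_fin] at h
  have : Nat.factorial 8 = 40320 := by decide
  omega

theorem index_Q8 : ¬ 3 ∣ Q8.index := by
  have h := Subgroup.card_mul_index Q8
  rw [card_Q8, card_alt8] at h
  omega

theorem Q8_le : Q8 ≤ Subgroup.closure {X8, Y8} := by
  intro g hg
  have hX : X8 ∈ Subgroup.closure ({X8, Y8} : Set (alternatingGroup (Fin 8))) :=
    Subgroup.subset_closure (by simp)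
  have hY : Y8 ∈ Subgroup.closure ({X8, Y8} : Set (alternatingGroup (Fin 8))) :=
    Subgroup.subset_closure (by simp)
  have hg' : g ∈ L8 := hg
  simp only [L8, List.mem_cons, List.not_mem_nil, or_false] at hg'
  rcases hg' with rfl | rfl | rfl | rfl | rfl | rfl | rfl | rfl | rfl
  · exact Subgroup.one_mem _
  · exact hX
  · exact Subgroup.mul_mem _ hX hX
  · exact hY
  · exact Subgroup.mul_mem _ hX hY
  · exact Subgroup.mul_mem _ hX (Subgroup.mul_mem _ hX hY)
  · exact Subgroup.mul_mem _ hY hY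
  · exact Subgroup.mul_mem _ hX (Subgroup.mul_mem _ hY hY)
  · exact Subgroup.mul_mem _ hX (Subgroup.mul_mem _ hX (Subgroup.mul_mem _ hY hY))

theorem index_closure8 : ¬ 3 ∣ (Subgroup.closure ({X8, Y8} : Set (alternatingGroup (Fin 8)))).index :=
  fun h => index_Q8 (h.trans (Subgroup.index_dvd_of_le Q8_le))

theorem three_not_dvd8 (Γ : Type u) [Group Γ] [Finite Γ] (σ : Γ →* alternatingGroup (Fin 8))
    (hσ : Cfsg.IsStemExtension σ) : ¬ 3 ∣ Nat.card σ.ker :=
  not_dvd_card_ker_of_kills σ hσ 3 Nat.prime_three _ index_closure8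
    (kills_a2 σ hσ.1 hσ.2.1 3 (by norm_num) X8 Y8 N8 relXY8 relNX8 relNY8)

end Cfsg.Agent.Lib.Helper7.AltMul
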