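import Mathlib
import Cfsg.Agent.Lib.Helper7.AltMul6
import Cfsg.Agent.Lib.Helper7.AltMul7
import Cfsg.Agent.Lib.Helper7.AltMul8
import Cfsg.Agent.Lib.Helper1.A7UB

set_option autoImplicit false

/-! Schur: the kernel of a finite stem extension of `A_n`, `n ≥ 4`, `n ≠ 6, 7`, has order at
most two. -/

namespace Cfsg.Agent.Lib.Helper7.AltMul

open Cfsg.Agent.Lib.Helper1.Stem

universe u

theorem bound8 (Γ : Type u) [Group Γ] [Finite Γ] (σ : Γ →* alternatingGroup (Fin 8))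
    (hσ : Cfsg.IsStemExtension σ) : Nat.card σ.ker ≤ 2 := by
  obtain ⟨Γ₁, _, _, σ₁, hσ₁, hc⟩ := step (m := 5) (by norm_num) σ hσ
  have h6 := (Cfsg.Agent.Lib.Helper1.A7UB.hub Γ₁ σ₁ hσ₁).2
  rw [hc] at h6
  have h3 := three_not_dvd8 Γ σ hσ
  have hd : Nat.card σ.ker ∣ 2 := by
    have hcop : Nat.Coprime (Nat.card σ.ker) 3 :=
      ((Nat.Prime.coprime_iff_not_dvd Nat.prime_three).mpr h3).symm
    exact hcop.dvd_of_dvd_mul_right (h6 : _ ∣ 2 * 3)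
  exact Nat.le_of_dvd (by norm_num) hd

theorem bound_ge8 : ∀ n, 8 ≤ n → ∀ (Γ : Type u) [Group Γ] [Finite Γ]
    (σ : Γ →* alternatingGroup (Fin n)), Cfsg.IsStemExtension σ → Nat.card σ.ker ≤ 2 := by
  intro n hn
  induction n, hn using Nat.le_induction with
  | base => exact bound8
  | succ n hn ih =>
    intro Γ _ _ σ hσ
    obtain ⟨m, rfl⟩ : ∃ m, n = m + 2 := ⟨n - 2, by omega⟩
    obtain ⟨Γ₁, _, _, σ₁, hσ₁, hc⟩ := step (m := m) (by omega) σ hσ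
    rw [← hc]
    exact ih Γ₁ σ₁ hσ₁

/-- **Schur**: the kernel of a finite stem extension of `A_n` has order at most two, for
`n ≥ 4`, `n ≠ 6, 7`. -/
theorem bound (n : ℕ) (hn : 4 ≤ n) (h6 : n ≠ 6) (h7 : n ≠ 7) (Γ : Type u) [Group Γ] [Finite Γ]
    (σ : Γ →* alternatingGroup (Fin n)) (hσ : Cfsg.IsStemExtension σ) : Nat.card σ.ker ≤ 2 := by
  by_cases h4 : n = 4
  · subst h4; exact bound4 Γ σ hσ
  by_cases h5 : n = 5
  · subst h5; exact bound5 Γ σ hσ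
  exact bound_ge8 n (by omega) Γ σ hσ

end Cfsg.Agent.Lib.Helper7.AltMul
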