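import Mathlib
import Cfsg.Agent.Lib.Helper8.AltPDefs

/-! # S2276 PK-UZ (leader helper8): inverse rotations on blocks times the long cycle -/

set_option autoImplicit false
open Equiv Equiv.Perm

namespace Cfsg.Agent.Lib.Helper8.AltP

section UZ
variable {α : Type*} [DecidableEq α]

theorem formPerm_append (B C : List α) (hB : B ≠ []) (hC : C ≠ []) :
    List.formPerm (B ++ C) =
      List.formPerm B * swap (B.getLast hB) (C.head hC) * List.formPerm C := by
  obtain ⟨c, C', rfl⟩ := List.exists_cons_of_ne_nil hC
  induction B with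
  | nil => exact absurd rfl hB
  | cons b B' ih =>
    cases B' with
    | nil =>
      simp [List.formPerm_cons_cons]
    | cons b' B'' =>
      have h1 := ih (List.cons_ne_nil b' B'')
      rw [List.cons_append, List.cons_append, List.formPerm_cons_cons, ← List.cons_append, h1,
        List.formPerm_cons_cons, List.getLast_cons (List.cons_ne_nil b' B'')]
      simp only [mul_assoc]

theorem uOf_nil : uOf ([] : List (List α)) = 1 := rfl

theorem uOf_cons (B : List α) (Bs : List (List α)) :
    uOf (B :: Bs) = (List.formPerm B)⁻¹ * uOf Bs := by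
  unfold uOf
  rw [List.map_cons, List.prod_cons]

theorem formPerm_inv_apply_of_not_mem (B : List α) (x : α) (hx : x ∉ B) :
    (List.formPerm B)⁻¹ x = x := by
  rw [Perm.inv_eq_iff_eq, List.formPerm_apply_of_notMem hx]

theorem uOf_apply_of_not_mem (Bs : List (List α)) (x : α) (hx : x ∉ Bs.flatten) :
    uOf Bs x = x := by
  induction Bs with
  | nil => rfl
  | cons B Bs ih =>
    rw [List.flatten_cons, List.mem_append, not_or] at hx
    rw [uOf_cons, Perm.mul_apply, ih hx.2, formPerm_inv_apply_of_not_mem B x hx.1]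

theorem endsOf_nil : endsOf ([] : List (List α)) = [] := rfl

theorem endsOf_cons_of_ne (B : List α) (hB : B ≠ []) (Bs : List (List α)) :
    endsOf (B :: Bs) = B.getLast hB :: endsOf Bs := by
  unfold endsOf
  rw [List.filterMap_cons_some (List.getLast?_eq_some_getLast hB)]

theorem endsOf_cons_nil (Bs : List (List α)) : endsOf (([] : List α) :: Bs) = endsOf Bs := by
  unfold endsOf
  rw [List.filterMap_cons_none (by rfl)]

theorem endsOf_length (Bs : List (List α)) (hne : ∀ B ∈ Bs, B ≠ []) :
    (endsOf Bs).length = Bs.length := by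
  induction Bs with
  | nil => rfl
  | cons B Bs ih =>
    have hB : B ≠ [] := hne B List.mem_cons_self
    rw [endsOf_cons_of_ne B hB, List.length_cons, List.length_cons,
      ih (fun B' hB' => hne B' (List.mem_cons_of_mem _ hB'))]

theorem endsOf_subset (Bs : List (List α)) :
    ∀ x ∈ endsOf Bs, ∃ B ∈ Bs, ∃ h : B ≠ [], x = B.getLast h := by
  intro x hx
  unfold endsOf at hx
  rw [List.mem_filterMap] at hx
  obtain ⟨B, hB, hx⟩ := hx
  have hne : B ≠ [] := by
    intro h
    rw [h] at hx
    simp at hx
  refine ⟨B, hB, hne, ?_⟩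
  rw [List.getLast?_eq_some_getLast hne] at hx
  exact (Option.some.inj hx).symm

theorem endsOf_mem_flatten (Bs : List (List α)) (x : α) (hx : x ∈ endsOf Bs) : x ∈ Bs.flatten := by
  obtain ⟨B, hB, h, rfl⟩ := endsOf_subset Bs x hx
  exact List.mem_flatten.2 ⟨B, hB, List.getLast_mem h⟩

theorem endsOf_nodup (Bs : List (List α)) (hnd : Bs.flatten.Nodup) : (endsOf Bs).Nodup := by
  induction Bs with
  | nil => exact List.nodup_nil
  | cons B Bs ih =>
    rw [List.flatten_cons, List.nodup_append] at hnd
    obtain ⟨-, h2, h3⟩ := hnd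
    by_cases hB : B = []
    · subst hB
      rw [endsOf_cons_nil]
      exact ih h2
    · rw [endsOf_cons_of_ne B hB, List.nodup_cons]
      refine ⟨?_, ih h2⟩
      intro hmem
      exact h3 _ (List.getLast_mem hB) _ (endsOf_mem_flatten Bs _ hmem) rfl

theorem uOf_disjoint_formPerm (Bs : List (List α)) (B : List α)
    (hd : ∀ x ∈ B, x ∉ Bs.flatten) : Perm.Disjoint (uOf Bs) (List.formPerm B) := by
  intro x
  by_cases hx : x ∈ B
  · left
    exact uOf_apply_of_not_mem Bs x (hd x hx)
  · right
    exact List.formPerm_apply_of_notMem hx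

theorem uOf_apply_head (B : List α) (hB : B ≠ []) (Bs : List (List α))
    (hnd : (B :: Bs).flatten.Nodup) : uOf (B :: Bs) (B.head hB) = B.getLast hB := by
  rw [List.flatten_cons, List.nodup_append] at hnd
  obtain ⟨-, -, h3⟩ := hnd
  have h1 : B.head hB ∉ Bs.flatten := fun hm => h3 _ (List.head_mem hB) _ hm rfl
  rw [uOf_cons, Perm.mul_apply, uOf_apply_of_not_mem Bs _ h1, Perm.inv_eq_iff_eq]
  obtain ⟨x, xs, rfl⟩ := List.exists_cons_of_ne_nil hB
  rw [List.formPerm_apply_getLast]
  rfl

theorem uOf_mul_formPerm (Bs : List (List α)) (hnd : Bs.flatten.Nodup) (hne : ∀ B ∈ Bs, B ≠ []) :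
    uOf Bs * List.formPerm Bs.flatten = List.formPerm (endsOf Bs) := by
  induction Bs with
  | nil => simp [uOf_nil, endsOf_nil]
  | cons B Bs ih =>
    have hB : B ≠ [] := hne B List.mem_cons_self
    have hne' : ∀ B' ∈ Bs, B' ≠ [] := fun B' hB' => hne B' (List.mem_cons_of_mem _ hB')
    have hnd0 := hnd
    rw [List.flatten_cons, List.nodup_append] at hnd
    obtain ⟨-, hnd2, hnd3⟩ := hnd
    cases Bs with
    | nil =>
      rw [uOf_cons, uOf_nil, mul_one, List.flatten_cons, List.flatten_nil, List.append_nil,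
        inv_mul_cancel, endsOf_cons_of_ne B hB, endsOf_nil, List.formPerm_singleton]
    | cons B₁ Bs'' =>
      have hB₁ : B₁ ≠ [] := hne' B₁ List.mem_cons_self
      have hC : (B₁ :: Bs'').flatten ≠ [] := by
        rw [List.flatten_cons]
        intro h
        exact hB₁ (List.append_eq_nil_iff.1 h).1
      have hhead : (B₁ :: Bs'').flatten.head hC = B₁.head hB₁ := by
        simp only [List.flatten_cons]
        rw [List.head_append_of_ne_nil hB₁]
      have hih := ih hnd2 hne'
      have hdisj : Perm.Disjoint (uOf (B₁ :: Bs'')) (List.formPerm B) :=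
        uOf_disjoint_formPerm _ B (fun x hx hm => hnd3 x hx x hm rfl)
      have hl : B.getLast hB ∉ (B₁ :: Bs'').flatten :=
        fun hm => hnd3 _ (List.getLast_mem hB) _ hm rfl
      rw [uOf_cons, List.flatten_cons, formPerm_append B _ hB hC, endsOf_cons_of_ne B hB,
        endsOf_cons_of_ne B₁ hB₁, List.formPerm_cons_cons, ← endsOf_cons_of_ne B₁ hB₁, ← hih]
      have e1 : (List.formPerm B)⁻¹ * uOf (B₁ :: Bs'') * (List.formPerm B *
          swap (B.getLast hB) ((B₁ :: Bs'').flatten.head hC) *
          List.formPerm (B₁ :: Bs'').flatten) =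
          (List.formPerm B)⁻¹ * (uOf (B₁ :: Bs'') * List.formPerm B) *
          swap (B.getLast hB) ((B₁ :: Bs'').flatten.head hC) *
          List.formPerm (B₁ :: Bs'').flatten := by
        simp only [mul_assoc]
      rw [e1, hdisj.commute.eq, ← mul_assoc, inv_mul_cancel, one_mul,
        Equiv.mul_swap_eq_swap_mul, uOf_apply_of_not_mem _ _ hl, hhead,
        uOf_apply_head B₁ hB₁ Bs'' hnd2, mul_assoc]

theorem cycleType_formPerm_of_nodup [Fintype α] (l : List α) (hl : l.Nodup) (h2 : 2 ≤ l.length) :
    (List.formPerm l).cycleType = {l.length} := by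
  have hc := List.isCycle_formPerm hl h2
  have h' : ∀ x : α, l ≠ [x] := by
    intro x h
    rw [h] at h2
    simp at h2
  rw [hc.cycleType, List.support_formPerm_of_nodup l hl h', List.toFinset_card_of_nodup hl]

theorem formPerm_eq_one_of_length_le_one (l : List α) (h : l.length ≤ 1) : List.formPerm l = 1 := by
  match l, h with
  | [], _ => exact List.formPerm_nil
  | [x], _ => exact List.formPerm_singleton x
  | _ :: _ :: _, h => simp at h

theorem cycleType_uOf [Fintype α] (Bs : List (List α)) (hnd : Bs.flatten.Nodup) :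
    (uOf Bs).cycleType = ((Bs.map List.length).filter (fun k => 2 ≤ k) : List ℕ) := by
  induction Bs with
  | nil =>
    rw [uOf_nil, Perm.cycleType_one]
    rfl
  | cons B Bs ih =>
    rw [List.flatten_cons, List.nodup_append] at hnd
    obtain ⟨hnd1, hnd2, hnd3⟩ := hnd
    have hdisj : Perm.Disjoint (List.formPerm B)⁻¹ (uOf Bs) :=
      (uOf_disjoint_formPerm Bs B (fun x hx hm => hnd3 x hx x hm rfl)).symm.inv_left
    rw [uOf_cons, Perm.Disjoint.cycleType_mul hdisj, Perm.cycleType_inv, ih hnd2, List.map_cons, List.filter_cons]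
    by_cases h2 : 2 ≤ B.length
    · rw [cycleType_formPerm_of_nodup B hnd1 h2]
      simp only [h2, decide_true, if_true]
      rw [← Multiset.cons_coe, Multiset.singleton_add]
    · rw [formPerm_eq_one_of_length_le_one B (by omega), Perm.cycleType_one, zero_add]
      simp only [h2, decide_false]
      rfl

theorem cycleType_formPerm_flatten [Fintype α] (Bs : List (List α)) (hnd : Bs.flatten.Nodup)
    (h2 : 2 ≤ Bs.flatten.length) :
    (List.formPerm Bs.flatten).cycleType = {Bs.flatten.length} :=
  cycleType_formPerm_of_nodup _ hnd h2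

/-- `formPerm (ends)` has order dividing the number of blocks -/
theorem formPerm_endsOf_pow (Bs : List (List α)) (hnd : Bs.flatten.Nodup) (hne : ∀ B ∈ Bs, B ≠ []) :
    List.formPerm (endsOf Bs) ^ Bs.length = 1 := by
  rw [← endsOf_length Bs hne]
  exact List.formPerm_pow_length_eq_one_of_nodup _ (endsOf_nodup Bs hnd)

end UZ

end Cfsg.Agent.Lib.Helper8.AltP
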