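import Mathlib
import Cfsg.Agent.Lib.Helper8.AltPDefs
import Cfsg.Agent.Lib.Helper7.AltPUZ
import Cfsg.Agent.Lib.Lead.AltPGrp
import Cfsg.Agent.Lib.Lead.AltPA5

/-! # S2276 PK-C3 (leader helper8): one side has only 3-cycles and fixed points -/

set_option autoImplicit false
open Equiv Equiv.Perm

namespace Cfsg.Agent.Lib.Helper8.AltP

section C3
variable {α : Type*} [DecidableEq α]

/-- a permutation exchanging two distinct points does not have odd prime power order -/
theorem not_ppow_of_exchange (p : ℕ) (hp : p.Prime) (hp2 : p ≠ 2) (σ : Perm α) (a b : α)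
    (hab : a ≠ b) (h1 : σ a = b) (h2 : σ b = a) : ¬ ∃ k : ℕ, orderOf σ = p ^ k := by
  rintro ⟨k, hk⟩
  have hodd : Odd (p ^ k) := (hp.odd_of_ne_two hp2).pow
  obtain ⟨t, ht⟩ := hodd
  have h3 : ∀ n : ℕ, (σ ^ (2 * n)) b = b := by
    intro n
    induction n with
    | zero => simp
    | succ n ih =>
      rw [Nat.mul_succ, pow_add, Perm.mul_apply, pow_two, Perm.mul_apply, h2, h1, ih]
  have h4 : σ ^ (p ^ k) = 1 := by rw [← hk]; exact pow_orderOf_eq_one σ
  have h5 : (σ ^ (p ^ k)) a = b := by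
    rw [ht, pow_succ, Perm.mul_apply, h1, h3]
  rw [h4, Perm.one_apply] at h5
  exact hab h5

theorem formPerm_triple (a b c : α) : List.formPerm [a, b, c] = swap a b * swap b c := by
  rw [List.formPerm_cons_cons, List.formPerm_pair]

/-- conjugation of `formPerm` -/
theorem formPerm_conj (g : Perm α) (l : List α) :
    g * List.formPerm l * g⁻¹ = List.formPerm (l.map g) := by
  induction l with
  | nil => simp
  | cons x l ih =>
    cases l with
    | nil => simp
    | cons y l =>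
      rw [List.map_cons, List.map_cons, List.formPerm_cons_cons, List.formPerm_cons_cons,
        ← List.map_cons, ← ih, Equiv.swap_apply_apply]
      group

theorem ppC3a [Fintype α] (p : ℕ) (hp : p.Prime) (hp2 : p ≠ 2)
    (x₀ x₁ x₂ x₃ x₄ : α) (tl : List α) (hnd : (x₀ :: x₁ :: x₂ :: x₃ :: x₄ :: tl).Nodup) :
    PP p (List.formPerm [x₀, x₃, x₁]) (List.formPerm (x₀ :: x₁ :: x₂ :: x₃ :: x₄ :: tl)) := by
  set z := List.formPerm (x₀ :: x₁ :: x₂ :: x₃ :: x₄ :: tl) with hz
  set u := List.formPerm [x₀, x₃, x₁] with hu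
  have hnd' := hnd
  simp only [List.nodup_cons, List.mem_cons, not_or] at hnd'
  obtain ⟨⟨h01, h02, h03, h04, h0t⟩, ⟨h12, h13, h14, h1t⟩, ⟨h23, h24, h2t⟩, ⟨h34, h3t⟩, h4t, htl⟩ :=
    hnd'
  -- values of `z`
  have hL : ∀ n : ℕ, n < 5 → n % (x₀ :: x₁ :: x₂ :: x₃ :: x₄ :: tl).length = n := by
    intro n hn
    apply Nat.mod_eq_of_lt
    simp only [List.length_cons]
    omega
  have e1 : z x₀ = x₁ := by
    have h := List.formPerm_apply_lt_getElem _ hnd 0 (by simp only [List.length_cons]; omega)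
    exact h
  have hz1 : z x₁ = x₂ := by
    have h := List.formPerm_apply_lt_getElem _ hnd 1 (by simp only [List.length_cons]; omega)
    exact h
  have hz2 : z x₂ = x₃ := by
    have h := List.formPerm_apply_lt_getElem _ hnd 2 (by simp only [List.length_cons]; omega)
    exact h
  have e2 : (z ^ 2) x₀ = x₂ := by
    have h := List.formPerm_pow_apply_head x₀ _ hnd 2
    simp only [hL 2 (by omega)] at h
    exact h
  have e3 : (z ^ 3) x₀ = x₃ := by
    have h := List.formPerm_pow_apply_head x₀ _ hnd 3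
    simp only [hL 3 (by omega)] at h
    exact h
  have e4 : (z ^ 4) x₀ = x₄ := by
    have h := List.formPerm_pow_apply_head x₀ _ hnd 4
    simp only [hL 4 (by omega)] at h
    exact h
  -- values of `u`
  have hu2 : u x₂ = x₂ := by
    rw [hu]
    apply List.formPerm_apply_of_notMem
    simp only [List.mem_cons, List.not_mem_nil, or_false, not_or]
    exact ⟨Ne.symm h02, h23, Ne.symm h12⟩
  have hu3 : u x₃ = x₁ := by
    have hnd3 : [x₀, x₃, x₁].Nodup := by
      simp only [List.nodup_cons, List.mem_cons, List.not_mem_nil, or_false, not_or,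
        not_false_eq_true, List.nodup_nil, and_true]
      exact ⟨⟨h03, h01⟩, Ne.symm h13⟩
    have h := List.formPerm_apply_lt_getElem _ hnd3 1 (by simp)
    exact h
  constructor
  · apply not_ppow_of_exchange p hp hp2 (u * z) x₁ x₂ h12
    · rw [Perm.mul_apply, hz1, hu2]
    · rw [Perm.mul_apply, hz2, hu3]
  · apply not_solvable_of_pattern3 _ z (Subgroup.subset_closure (by simp)) x₀
    · rw [e1, e2, e3, e4]
      simp only [List.nodup_cons, List.mem_cons, List.not_mem_nil, or_false, not_or,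
        not_false_eq_true, List.nodup_nil, and_true]
      exact ⟨⟨h01, h02, h03, h04⟩, ⟨h12, h13, h14⟩, ⟨h23, h24⟩, h34⟩
    · rw [e1, e3, ← formPerm_triple]
      exact Subgroup.subset_closure (by simp [hu])

theorem commute_formPerm_swap (l : List α) (a b : α) (ha : a ∉ l) (hb : b ∉ l) :
    Commute (List.formPerm l) (swap a b) := by
  show List.formPerm l * swap a b = swap a b * List.formPerm l
  rw [Equiv.mul_swap_eq_swap_mul, List.formPerm_apply_of_notMem ha,
    List.formPerm_apply_of_notMem hb]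

theorem c3_pow_odd_of_mul_self {G : Type*} [Group G] (κ : G) (h : κ * κ = 1) (r : ℕ) (hr : Odd r) :
    κ ^ r = κ := by
  obtain ⟨t, rfl⟩ := hr
  rw [pow_succ, pow_mul, pow_two, h, one_pow, one_mul]

theorem ppC3b [Fintype α] (p : ℕ) (hp : p.Prime) (hp2 : p ≠ 2)
    (b₁ b₂ b₃ c₁ c₂ c₃ : α) (rest : List (List α))
    (hnd : ([b₁, b₂, b₃] :: [c₁, c₂, c₃] :: rest).flatten.Nodup)
    (hne : ∀ B ∈ rest, B ≠ []) (hodd : Odd ([b₁, b₂, b₃] :: [c₁, c₂, c₃] :: rest).length)
    (hL : 13 ≤ ([b₁, b₂, b₃] :: [c₁, c₂, c₃] :: rest).flatten.length) :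
    PP p (uOf ([b₁, b₂, b₃] :: [c₁, c₂, c₃] :: rest))
      (swap b₂ c₂ * List.formPerm ([b₁, b₂, b₃] :: [c₁, c₂, c₃] :: rest).flatten * swap b₂ c₂) := by
  set Bs : List (List α) := [b₁, b₂, b₃] :: [c₁, c₂, c₃] :: rest with hBs
  set R := rest.flatten with hR
  have hfl : Bs.flatten = b₁ :: b₂ :: b₃ :: c₁ :: c₂ :: c₃ :: R := by
    simp [hBs, hR, List.flatten_cons]
  rw [hfl] at hnd hL ⊢
  have hnd' := hnd
  simp only [List.nodup_cons, List.mem_cons, not_or] at hnd'
  obtain ⟨⟨hb12, hb13, hb1c1, hb1c2, hb1c3, hb1R⟩, ⟨hb23, hb2c1, hb2c2, hb2c3, hb2R⟩,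
    ⟨hb3c1, hb3c2, hb3c3, hb3R⟩, ⟨hc12, hc13, hc1R⟩, ⟨hc23, hc2R⟩, hc3R, hRnd⟩ := hnd'
  have hne' : ∀ B ∈ Bs, B ≠ [] := by
    intro B hB
    rw [hBs] at hB
    rcases List.mem_cons.1 hB with h | h
    · rw [h]; exact List.cons_ne_nil _ _
    rcases List.mem_cons.1 h with h | h
    · rw [h]; exact List.cons_ne_nil _ _
    · exact hne B h
  set z := List.formPerm (b₁ :: b₂ :: b₃ :: c₁ :: c₂ :: c₃ :: R) with hz
  set τ := swap b₂ c₂ with hτ
  set w := τ * z * τ with hw
  set u := uOf Bs with hu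
  set κ := swap b₁ c₁ * swap b₂ c₂ with hκ
  -- `w` as a cycle
  have hτinv : τ⁻¹ = τ := swap_inv b₂ c₂
  have hτR : ∀ x ∈ R, τ x = x := by
    intro x hx
    apply swap_apply_of_ne_of_ne
    · rintro rfl; exact hb2R hx
    · rintro rfl; exact hc2R hx
  have hmapR : R.map τ = R := by
    conv_rhs => rw [← List.map_id R]
    exact List.map_congr_left hτR
  have hwW : w = List.formPerm (b₁ :: c₂ :: b₃ :: c₁ :: b₂ :: c₃ :: R) := by
    have h1 : w = τ * z * τ⁻¹ := by rw [hτinv]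
    rw [h1, hz, formPerm_conj]
    simp only [List.map_cons, hmapR]
    have t1 : τ b₁ = b₁ := swap_apply_of_ne_of_ne hb12 hb1c2
    have t2 : τ b₂ = c₂ := swap_apply_left _ _
    have t3 : τ b₃ = b₃ := swap_apply_of_ne_of_ne (Ne.symm hb23) hb3c2
    have t4 : τ c₁ = c₁ := swap_apply_of_ne_of_ne (Ne.symm hb2c1) hc12
    have t5 : τ c₂ = b₂ := swap_apply_right _ _
    have t6 : τ c₃ = c₃ := swap_apply_of_ne_of_ne (Ne.symm hb2c3) (Ne.symm hc23)
    rw [t1, t2, t3, t4, t5, t6]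
  have hW : (b₁ :: c₂ :: b₃ :: c₁ :: b₂ :: c₃ :: R).Nodup := by
    have := List.Nodup.map τ.injective hnd
    simp only [List.map_cons, hmapR] at this
    have t1 : τ b₁ = b₁ := swap_apply_of_ne_of_ne hb12 hb1c2
    have t2 : τ b₂ = c₂ := swap_apply_left _ _
    have t3 : τ b₃ = b₃ := swap_apply_of_ne_of_ne (Ne.symm hb23) hb3c2
    have t4 : τ c₁ = c₁ := swap_apply_of_ne_of_ne (Ne.symm hb2c1) hc12
    have t5 : τ c₂ = b₂ := swap_apply_right _ _
    have t6 : τ c₃ = c₃ := swap_apply_of_ne_of_ne (Ne.symm hb2c3) (Ne.symm hc23)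
    rw [t1, t2, t3, t4, t5, t6] at this
    exact this
  -- `w = z * κ`
  have hzb1 : z b₁ = b₂ := by
    have h := List.formPerm_apply_lt_getElem _ hnd 0 (by simp only [List.length_cons]; omega)
    exact h
  have hzc1 : z c₁ = c₂ := by
    have h := List.formPerm_apply_lt_getElem _ hnd 3 (by simp only [List.length_cons]; omega)
    exact h
  have hwz : w = z * κ := by
    have h1 : z⁻¹ * τ * z = swap b₁ c₁ := by
      have := Equiv.swap_apply_apply z⁻¹ b₂ c₂
      rw [inv_inv] at this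
      rw [← this, Perm.inv_eq_iff_eq.2 hzb1.symm, Perm.inv_eq_iff_eq.2 hzc1.symm]
    rw [hw, hκ, ← h1, ← hτ]
    group
  -- `u * w = E * κ`
  have hE : u * z = List.formPerm (endsOf Bs) := by
    have := uOf_mul_formPerm Bs (by rw [hfl]; exact hnd) hne'
    rw [hfl] at this
    exact this
  have hends : endsOf Bs = b₃ :: c₃ :: endsOf rest := by
    rw [hBs, endsOf_cons_of_ne _ (List.cons_ne_nil _ _), endsOf_cons_of_ne _ (List.cons_ne_nil _ _)]
    rfl
  have hnotin : ∀ x, x ≠ b₃ → x ≠ c₃ → x ∉ R → x ∉ endsOf Bs := by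
    intro x h1 h2 h3 hx
    rw [hends] at hx
    rcases List.mem_cons.1 hx with h | h
    · exact h1 h
    rcases List.mem_cons.1 h with h | h
    · exact h2 h
    · exact h3 (endsOf_mem_flatten rest x h)
  have hρ : u * w = List.formPerm (endsOf Bs) * κ := by
    rw [hwz, ← mul_assoc, hE]
  have hcomm : Commute (List.formPerm (endsOf Bs)) κ := by
    rw [hκ]
    apply Commute.mul_right
    · exact commute_formPerm_swap _ _ _ (hnotin b₁ hb13 hb1c3 hb1R)
        (hnotin c₁ (Ne.symm hb3c1) hc13 hc1R)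
    · exact commute_formPerm_swap _ _ _ (hnotin b₂ hb23 hb2c3 hb2R)
        (hnotin c₂ (Ne.symm hb3c2) hc23 hc2R)
  have hκκ : κ * κ = 1 := by
    have hc : Commute (swap b₁ c₁) (swap b₂ c₂) := by
      show swap b₁ c₁ * swap b₂ c₂ = swap b₂ c₂ * swap b₁ c₁
      rw [Equiv.mul_swap_eq_swap_mul, swap_apply_of_ne_of_ne (Ne.symm hb12) hb2c1,
        swap_apply_of_ne_of_ne (Ne.symm hb1c2) (Ne.symm hc12)]
    rw [hκ, hc.symm.mul_mul_mul_comm, swap_mul_self, swap_mul_self, one_mul]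
  have hκ1 : κ ≠ 1 := by
    intro h
    have h1 : κ b₁ = c₁ := by
      rw [hκ, Perm.mul_apply, swap_apply_of_ne_of_ne hb12 hb1c2, swap_apply_left]
    rw [h, Perm.one_apply] at h1
    exact hb1c1 h1
  have hpow : (u * w) ^ Bs.length = κ := by
    rw [hρ, hcomm.mul_pow, formPerm_endsOf_pow Bs (by rw [hfl]; exact hnd) hne', one_mul,
      c3_pow_odd_of_mul_self κ hκκ _ hodd]
  constructor
  · exact not_ppow_of_pow_eq p hp hp2 (u * w) κ Bs.length hpow hκκ hκ1
  · have huH : u ∈ Subgroup.closure ({u, w} : Set (Perm α)) := Subgroup.subset_closure (by simp)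
    have hwH : w ∈ Subgroup.closure ({u, w} : Set (Perm α)) := Subgroup.subset_closure (by simp)
    have hκH : κ ∈ Subgroup.closure ({u, w} : Set (Perm α)) := by
      rw [← hpow]
      exact Subgroup.pow_mem _ (Subgroup.mul_mem _ huH hwH) _
    have hlen : 13 ≤ (b₁ :: c₂ :: b₃ :: c₁ :: b₂ :: c₃ :: R).length := by
      simp only [List.length_cons] at hL ⊢
      exact hL
    have e : ∀ n (hn : n < (b₁ :: c₂ :: b₃ :: c₁ :: b₂ :: c₃ :: R).length),
        (w ^ n) b₁ = (b₁ :: c₂ :: b₃ :: c₁ :: b₂ :: c₃ :: R)[n] := by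
      intro n hn
      rw [hwW]
      have h := List.formPerm_pow_apply_head b₁ _ hW n
      simp only [Nat.mod_eq_of_lt hn] at h
      exact h
    apply not_solvable_of_pattern _ w hwH b₁ 3
    · rw [e 3 (by omega), e (2 * 3) (by omega), e (3 * 3) (by omega), e (4 * 3) (by omega)]
      show [(b₁ :: c₂ :: b₃ :: c₁ :: b₂ :: c₃ :: R)[0], (b₁ :: c₂ :: b₃ :: c₁ :: b₂ :: c₃ :: R)[3],
        (b₁ :: c₂ :: b₃ :: c₁ :: b₂ :: c₃ :: R)[6]'(by omega),
        (b₁ :: c₂ :: b₃ :: c₁ :: b₂ :: c₃ :: R)[9]'(by omega),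
        (b₁ :: c₂ :: b₃ :: c₁ :: b₂ :: c₃ :: R)[12]'(by omega)].Nodup
      simp only [List.nodup_cons, List.mem_cons, List.not_mem_nil, or_false, not_or,
        List.nodup_nil, and_true, not_false_eq_true]
      refine ⟨⟨?_, ?_, ?_, ?_⟩, ⟨?_, ?_, ?_⟩, ⟨?_, ?_⟩, ?_⟩ <;>
        (intro h; have := hW.getElem_inj_iff.1 h; omega)
    · have e1 : w b₁ = c₂ := by
        have := e 1 (by omega)
        rw [pow_one] at this
        exact this
      have e3 : (w ^ 3) b₁ = c₁ := e 3 (by omega)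
      have e4 : (w ^ (3 + 1)) b₁ = b₂ := e 4 (by omega)
      rw [e1, e3, e4, swap_comm c₂ b₂]
      exact hκH

end C3

end Cfsg.Agent.Lib.Helper8.AltP
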