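import Mathlib
import Cfsg.Agent.Lib.Helper8.AltPDefs
import Cfsg.Agent.Lib.Helper7.AltPUZ

/-! # S2276 PK-CPAR (leader helper8): an odd permutation commuting with `uOf Bs` when two blocks
have the same odd length (exchange them pointwise) -/

set_option autoImplicit false
open Equiv Equiv.Perm

namespace Cfsg.Agent.Lib.Helper8.AltP

section CPAR
variable {α : Type*} [DecidableEq α]

/-- the pointwise exchange of two lists -/
def exch (B C : List α) : Perm α := (List.zipWith swap B C).prod

theorem exch_nil_left (C : List α) : exch [] C = 1 := by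
  unfold exch
  simp

theorem exch_nil_right (B : List α) : exch B [] = 1 := by
  unfold exch
  simp

theorem exch_cons (b c : α) (B C : List α) : exch (b :: B) (c :: C) = swap b c * exch B C := by
  unfold exch
  rw [List.zipWith_cons_cons, List.prod_cons]

theorem exch_apply_of_not_mem (B C : List α) (x : α) (hB : x ∉ B) (hC : x ∉ C) :
    exch B C x = x := by
  induction B generalizing C with
  | nil => rw [exch_nil_left]; rfl
  | cons b B ih =>
    cases C with
    | nil => rw [exch_nil_right]; rfl
    | cons c C =>
      rw [List.mem_cons, not_or] at hB hC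
      rw [exch_cons, Perm.mul_apply, ih C hB.2 hC.2, swap_apply_of_ne_of_ne hB.1 hC.1]

theorem exch_apply_left (B C : List α) (hlen : B.length = C.length) (hB : B.Nodup) (hC : C.Nodup)
    (hdis : ∀ x ∈ B, x ∉ C) (k : ℕ) (hk : k < B.length) :
    exch B C (B[k]) = C[k]'(hlen ▸ hk) := by
  induction B generalizing C k with
  | nil => simp at hk
  | cons b B ih =>
    cases C with
    | nil => simp at hlen
    | cons c C =>
      rw [List.nodup_cons] at hB hC
      have hlen' : B.length = C.length := by simpa using hlen
      have hdis' : ∀ x ∈ B, x ∉ C := fun x hx hxC =>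
        hdis x (List.mem_cons_of_mem _ hx) (List.mem_cons_of_mem _ hxC)
      rw [exch_cons, Perm.mul_apply]
      cases k with
      | zero =>
        simp only [List.getElem_cons_zero]
        rw [exch_apply_of_not_mem B C b hB.1
          (fun h => hdis b List.mem_cons_self (List.mem_cons_of_mem _ h)), swap_apply_left]
      | succ k =>
        simp only [List.getElem_cons_succ]
        have hk' : k < B.length := by simpa using hk
        rw [ih C hlen' hB.2 hC.2 hdis' k hk']
        have h1 : C[k]'(hlen' ▸ hk') ≠ b := by
          intro h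
          have : C[k]'(hlen' ▸ hk') ∈ c :: C := List.mem_cons_of_mem _ (List.getElem_mem _)
          rw [h] at this
          exact hdis b List.mem_cons_self this
        have h2 : C[k]'(hlen' ▸ hk') ≠ c := by
          intro h
          exact hC.1 (h ▸ List.getElem_mem _)
        rw [swap_apply_of_ne_of_ne h1 h2]

theorem exch_apply_right (B C : List α) (hlen : B.length = C.length) (hB : B.Nodup) (hC : C.Nodup)
    (hdis : ∀ x ∈ B, x ∉ C) (k : ℕ) (hk : k < B.length) :
    exch B C (C[k]'(hlen ▸ hk)) = B[k] := by
  induction B generalizing C k with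
  | nil => simp at hk
  | cons b B ih =>
    cases C with
    | nil => simp at hlen
    | cons c C =>
      rw [List.nodup_cons] at hB hC
      have hlen' : B.length = C.length := by simpa using hlen
      have hdis' : ∀ x ∈ B, x ∉ C := fun x hx hxC =>
        hdis x (List.mem_cons_of_mem _ hx) (List.mem_cons_of_mem _ hxC)
      rw [exch_cons, Perm.mul_apply]
      cases k with
      | zero =>
        simp only [List.getElem_cons_zero]
        rw [exch_apply_of_not_mem B C c
          (fun h => hdis c (List.mem_cons_of_mem _ h) List.mem_cons_self) hC.1, swap_apply_right]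
      | succ k =>
        simp only [List.getElem_cons_succ]
        have hk' : k < B.length := by simpa using hk
        rw [ih C hlen' hB.2 hC.2 hdis' k hk']
        have h1 : B[k] ≠ b := by
          intro h
          exact hB.1 (h ▸ List.getElem_mem _)
        have h2 : B[k] ≠ c := by
          intro h
          have : B[k] ∈ b :: B := List.mem_cons_of_mem _ (List.getElem_mem _)
          exact hdis _ this (h ▸ List.mem_cons_self)
        rw [swap_apply_of_ne_of_ne h1 h2]

theorem sign_exch [Fintype α] (B C : List α) (hlen : B.length = C.length)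
    (hdis : ∀ x ∈ B, x ∉ C) : Perm.sign (exch B C) = (-1) ^ B.length := by
  induction B generalizing C with
  | nil => rw [exch_nil_left]; simp
  | cons b B ih =>
    cases C with
    | nil => simp at hlen
    | cons c C =>
      have hlen' : B.length = C.length := by simpa using hlen
      have hdis' : ∀ x ∈ B, x ∉ C := fun x hx hxC =>
        hdis x (List.mem_cons_of_mem _ hx) (List.mem_cons_of_mem _ hxC)
      have hbc : b ≠ c := fun h => hdis b List.mem_cons_self (h ▸ List.mem_cons_self)
      rw [exch_cons, map_mul, Perm.sign_swap hbc, ih C hlen' hdis', List.length_cons, pow_succ,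
        mul_comm]

theorem formPerm_inv_getElem (B : List α) (hB : B.Nodup) (m k : ℕ) (hm : m < B.length)
    (hk : k < B.length) (hmk : (m + 1) % B.length = k) : (List.formPerm B)⁻¹ B[k] = B[m] := by
  rw [Perm.inv_eq_iff_eq, List.formPerm_apply_getElem B hB m hm]
  subst hmk
  rfl

theorem exists_pred_index (L k : ℕ) (hk : k < L) : ∃ m, m < L ∧ (m + 1) % L = k := by
  rcases Nat.eq_zero_or_pos k with h0 | hpos
  · refine ⟨L - 1, by omega, ?_⟩
    have : L - 1 + 1 = L := by omega
    rw [this, Nat.mod_self, h0]
  · refine ⟨k - 1, by omega, ?_⟩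
    have : k - 1 + 1 = k := by omega
    rw [this, Nat.mod_eq_of_lt hk]

theorem formPerm_inv_mem (D : List α) (x : α) (hx : x ∈ D) : (List.formPerm D)⁻¹ x ∈ D := by
  by_contra hy
  have h1 : List.formPerm D ((List.formPerm D)⁻¹ x) = (List.formPerm D)⁻¹ x :=
    List.formPerm_apply_of_notMem hy
  have h2 : List.formPerm D ((List.formPerm D)⁻¹ x) = x := by
    rw [← Perm.mul_apply, mul_inv_cancel, Perm.one_apply]
  rw [h2] at h1
  rw [← h1] at hy
  exact hy hx

theorem uOf_apply_of_mem (Bs : List (List α)) (hnd : Bs.flatten.Nodup) (D : List α) (hD : D ∈ Bs)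
    (x : α) (hx : x ∈ D) : uOf Bs x = (List.formPerm D)⁻¹ x := by
  induction Bs with
  | nil => simp at hD
  | cons D' Bs ih =>
    rw [List.flatten_cons, List.nodup_append] at hnd
    obtain ⟨-, hnd2, hnd3⟩ := hnd
    rw [uOf_cons, Perm.mul_apply]
    by_cases hxD' : x ∈ D'
    · -- then `x ∉ Bs.flatten`, and `D = D'`
      have hx2 : x ∉ Bs.flatten := fun hm => hnd3 x hxD' x hm rfl
      rw [uOf_apply_of_not_mem Bs x hx2]
      rcases List.mem_cons.1 hD with h | h
      · rw [h]
      · exact absurd (List.mem_flatten.2 ⟨D, h, hx⟩) hx2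
    · rcases List.mem_cons.1 hD with h | h
      · exact absurd (h ▸ hx) hxD'
      · rw [ih hnd2 h]
        have hy : (List.formPerm D)⁻¹ x ∈ Bs.flatten :=
          List.mem_flatten.2 ⟨D, h, formPerm_inv_mem D x hx⟩
        have hy' : (List.formPerm D)⁻¹ x ∉ D' := fun hm => hnd3 _ hm _ hy rfl
        exact formPerm_inv_apply_of_not_mem D' _ hy'

theorem exists_odd_commute_uOf [Fintype α] (Bs : List (List α))
    (hnd : Bs.flatten.Nodup) (i j : Fin Bs.length) (hij : i ≠ j)
    (hlen : (Bs.get i).length = (Bs.get j).length) (hodd : Odd (Bs.get i).length) :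
    ∃ o : Perm α, Perm.sign o = -1 ∧ o * uOf Bs = uOf Bs * o := by
  obtain ⟨hnd1, hpw⟩ := List.nodup_flatten.1 hnd
  set B := Bs.get i with hBdef
  set C := Bs.get j with hCdef
  have hBmem : B ∈ Bs := List.get_mem Bs i
  have hCmem : C ∈ Bs := List.get_mem Bs j
  have hB : B.Nodup := hnd1 B hBmem
  have hC : C.Nodup := hnd1 C hCmem
  have hdisj : List.Disjoint B C := by
    rcases lt_or_gt_of_ne hij with h | h
    · exact List.pairwise_iff_get.1 hpw i j h
    · exact (List.pairwise_iff_get.1 hpw j i h).symm
  have hdis : ∀ x ∈ B, x ∉ C := fun x hx hx' => hdisj hx hx'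
  -- the action of `uOf` on the two blocks
  have huB : ∀ (m k : ℕ) (hm : m < B.length) (hk : k < B.length), (m + 1) % B.length = k →
      uOf Bs B[k] = B[m] := by
    intro m k hm hk hmk
    rw [uOf_apply_of_mem Bs hnd B hBmem _ (List.getElem_mem _),
      formPerm_inv_getElem B hB m k hm hk hmk]
  have huC : ∀ (m k : ℕ) (hm : m < C.length) (hk : k < C.length), (m + 1) % C.length = k →
      uOf Bs C[k] = C[m] := by
    intro m k hm hk hmk
    rw [uOf_apply_of_mem Bs hnd C hCmem _ (List.getElem_mem _),
      formPerm_inv_getElem C hC m k hm hk hmk]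
  -- `uOf` preserves the complement of each of the two blocks
  have hpresB : ∀ x, x ∉ B → uOf Bs x ∉ B := by
    intro x hx hy
    obtain ⟨k', hk', hyk⟩ := List.getElem_of_mem hy
    have hk'' : (k' + 1) % B.length < B.length := Nat.mod_lt _ (by omega)
    have h1 := huB k' ((k' + 1) % B.length) hk' hk'' rfl
    rw [hyk] at h1
    have h2 : x = B[(k' + 1) % B.length] := ((uOf Bs).injective h1).symm
    exact hx (h2 ▸ List.getElem_mem _)
  have hpresC : ∀ x, x ∉ C → uOf Bs x ∉ C := by
    intro x hx hy
    obtain ⟨k', hk', hyk⟩ := List.getElem_of_mem hy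
    have hk'' : (k' + 1) % C.length < C.length := Nat.mod_lt _ (by omega)
    have h1 := huC k' ((k' + 1) % C.length) hk' hk'' rfl
    rw [hyk] at h1
    have h2 : x = C[(k' + 1) % C.length] := ((uOf Bs).injective h1).symm
    exact hx (h2 ▸ List.getElem_mem _)
  refine ⟨exch B C, ?_, ?_⟩
  · rw [sign_exch B C hlen hdis, hodd.neg_one_pow]
  · ext x
    rw [Perm.mul_apply, Perm.mul_apply]
    by_cases hxB : x ∈ B
    · obtain ⟨k, hk, rfl⟩ := List.getElem_of_mem hxB
      obtain ⟨m, hm, hmk⟩ := exists_pred_index B.length k hk
      have hkC : k < C.length := hlen ▸ hk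
      have hmC : m < C.length := hlen ▸ hm
      rw [huB m k hm hk hmk, exch_apply_left B C hlen hB hC hdis m hm,
        exch_apply_left B C hlen hB hC hdis k hk, huC m k hmC hkC (hlen ▸ hmk)]
    · by_cases hxC : x ∈ C
      · obtain ⟨k, hkC, rfl⟩ := List.getElem_of_mem hxC
        have hk : k < B.length := hlen.symm ▸ hkC
        obtain ⟨m, hm, hmk⟩ := exists_pred_index B.length k hk
        have hmC : m < C.length := hlen ▸ hm
        rw [huC m k hmC hkC (hlen ▸ hmk), exch_apply_right B C hlen hB hC hdis m hm,
          exch_apply_right B C hlen hB hC hdis k hk, huB m k hm hk hmk]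
      · rw [exch_apply_of_not_mem B C x hxB hxC,
          exch_apply_of_not_mem B C _ (hpresB x hxB) (hpresC x hxC)]

end CPAR

end Cfsg.Agent.Lib.Helper8.AltP
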