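import Mathlib

set_option autoImplicit false

/-!
# Three automorphism orbits: linear algebra over `ZMod p`, part A

A finite `ZMod p`-space `V` with an endomorphism `T` killed by the `q`-th cyclotomic polynomial.
If the "twisted normalizer" of `T` is transitive on nonzero vectors and realises all powers `T ^ j`,
then the cyclotomic polynomial is irreducible over `ZMod p`.
-/

namespace Cfsg.Agent.Lib.Helper7.Aut3

open Polynomial

section LA

variable {p : ℕ} [hp : Fact p.Prime] {V : Type*} [AddCommGroup V] [Module (ZMod p) V]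

/-- twisted commutation passes to polynomials -/
theorem twist_aeval (T : Module.End (ZMod p) V) (τ : V →ₗ[ZMod p] V) (j : ℕ)
    (hτ : ∀ u, τ (T u) = (T ^ j) (τ u)) (r : (ZMod p)[X]) (u : V) :
    τ (aeval T r u) = aeval (T ^ j) r (τ u) := by
  induction r using Polynomial.induction_on generalizing u with
  | C a =>
    simp only [aeval_C, Module.algebraMap_end_apply, map_smul]
  | add r s hr hs =>
    simp only [map_add, LinearMap.add_apply, hr, hs]
  | monomial n a ih =>
    have h1 : aeval T (C a * X ^ (n + 1)) = aeval T (C a * X ^ n) * T := by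
      rw [pow_succ, ← mul_assoc, map_mul, aeval_X]
    have h2 : aeval (T ^ j) (C a * X ^ (n + 1)) = aeval (T ^ j) (C a * X ^ n) * (T ^ j) := by
      rw [pow_succ, ← mul_assoc, map_mul, aeval_X]
    rw [h1, h2, Module.End.mul_apply, Module.End.mul_apply, ih, hτ]

/-- the cyclic `T`-submodule generated by `v` -/
noncomputable def cyc (T : Module.End (ZMod p) V) (v : V) : Submodule (ZMod p) V where
  carrier := {w | ∃ r : (ZMod p)[X], aeval T r v = w}
  add_mem' := by
    rintro _ _ ⟨r, rfl⟩ ⟨s, rfl⟩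
    exact ⟨r + s, by simp⟩
  zero_mem' := ⟨0, by simp⟩
  smul_mem' := by
    rintro c _ ⟨r, rfl⟩
    exact ⟨C c * r, by simp [Module.End.mul_apply]⟩

theorem mem_cyc {T : Module.End (ZMod p) V} {v w : V} :
    w ∈ cyc T v ↔ ∃ r : (ZMod p)[X], aeval T r v = w := Iff.rfl

theorem self_mem_cyc (T : Module.End (ZMod p) V) (v : V) : v ∈ cyc T v :=
  ⟨1, by simp⟩

theorem aeval_mem_cyc {T : Module.End (ZMod p) V} {v w : V} (hw : w ∈ cyc T v)
    (s : (ZMod p)[X]) : aeval T s w ∈ cyc T v := by
  obtain ⟨r, rfl⟩ := hw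
  exact ⟨s * r, by simp [Module.End.mul_apply]⟩

theorem cyc_le {T : Module.End (ZMod p) V} {v w : V} (hw : w ∈ cyc T v) :
    cyc T w ≤ cyc T v := by
  rintro _ ⟨r, rfl⟩
  exact aeval_mem_cyc hw r

theorem card_cyc_le [Finite V] (T : Module.End (ZMod p) V) (τ : V →ₗ[ZMod p] V) (j : ℕ)
    (hinj : Function.Injective τ) (hτ : ∀ u, τ (T u) = (T ^ j) (τ u)) (v : V) :
    Nat.card (cyc T v) ≤ Nat.card (cyc T (τ v)) := by
  have hmem : ∀ w : cyc T v, τ (w : V) ∈ cyc T (τ v) := by
    rintro ⟨_, r, rfl⟩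
    refine ⟨r.comp (X ^ j), ?_⟩
    rw [aeval_comp, map_pow, aeval_X, twist_aeval T τ j hτ]
  refine Nat.card_le_card_of_injective (fun w : cyc T v => (⟨τ (w : V), hmem w⟩ : cyc T (τ v))) ?_
  intro a b hab
  apply Subtype.ext
  apply hinj
  exact congrArg Subtype.val hab

end LA

end Cfsg.Agent.Lib.Helper7.Aut3
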