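import Mathlib
import Cfsg.Agent.Lib.Helper7.Aut3A

set_option autoImplicit false

/-!
# Three automorphism orbits: linear algebra over `ZMod p`, part B (irreducibility)
-/

namespace Cfsg.Agent.Lib.Helper7.Aut3

open Polynomial

section LA

variable {p : ℕ} [hp : Fact p.Prime] {V : Type*} [AddCommGroup V] [Module (ZMod p) V]

/-- some irreducible factor of an annihilating polynomial has a nonzero kernel -/
theorem exists_irreducible_factor_ker [Nontrivial V] (T : Module.End (ZMod p) V) :
    ∀ (n : ℕ) (r : (ZMod p)[X]), r.natDegree = n → r ≠ 0 → aeval T r = 0 →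
      ∃ f : (ZMod p)[X], Irreducible f ∧ f ∣ r ∧ ∃ v : V, v ≠ 0 ∧ aeval T f v = 0 := by
  intro n
  induction n using Nat.strong_induction_on with
  | _ n ih =>
    intro r hn hr0 hrT
    have hru : ¬ IsUnit r := by
      intro hu
      obtain ⟨c, hc, rfl⟩ := Polynomial.isUnit_iff.mp hu
      obtain ⟨v, hv⟩ := exists_ne (0 : V)
      have h1 : aeval T (C c) v = 0 := by rw [hrT]; rfl
      rw [aeval_C, Module.algebraMap_end_apply] at h1
      have hc0 : c ≠ 0 := hc.ne_zero
      exact hv ((smul_eq_zero.mp h1).resolve_left hc0)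
    obtain ⟨f, hfirr, hfr⟩ := WfDvdMonoid.exists_irreducible_factor hru hr0
    by_cases hker : ∃ v : V, v ≠ 0 ∧ aeval T f v = 0
    · exact ⟨f, hfirr, hfr, hker⟩
    · push Not at hker
      obtain ⟨r', rfl⟩ := hfr
      have hf0 : f ≠ 0 := hfirr.ne_zero
      have hr'0 : r' ≠ 0 := right_ne_zero_of_mul hr0
      have hr'T : aeval T r' = 0 := by
        ext u
        have h1 : aeval T (f * r') u = 0 := by rw [hrT]; rfl
        rw [map_mul, Module.End.mul_apply] at h1
        by_contra hne
        exact hne (by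
          by_contra hne2
          exact hker _ hne2 h1)
      have hdeg : r'.natDegree < n := by
        rw [← hn, natDegree_mul hf0 hr'0]
        have : 0 < f.natDegree := hfirr.natDegree_pos
        omega
      obtain ⟨f', hf'irr, hf'r, hv⟩ := ih _ hdeg r' rfl hr'0 hr'T
      exact ⟨f', hf'irr, Dvd.dvd.mul_left hf'r f, hv⟩

/-- an annihilating irreducible polynomial divides every annihilating polynomial -/
theorem dvd_of_aeval_eq_zero [Nontrivial V] (T : Module.End (ZMod p) V) {f r : (ZMod p)[X]}
    (hf : Irreducible f) (hfT : aeval T f = 0) (hrT : aeval T r = 0) : f ∣ r := by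
  by_contra hnd
  obtain ⟨a, b, hab⟩ := (hf.coprime_iff_not_dvd).mpr hnd
  have h1 : aeval T (a * f + b * r) = 1 := by rw [hab, map_one]
  rw [map_add, map_mul, map_mul, hfT, hrT, mul_zero, mul_zero, add_zero] at h1
  obtain ⟨v, hv⟩ := exists_ne (0 : V)
  have : (0 : Module.End (ZMod p) V) v = (1 : Module.End (ZMod p) V) v := by rw [h1]
  simp at this
  exact hv this.symm

end LA

end Cfsg.Agent.Lib.Helper7.Aut3
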