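import Mathlib
import Cfsg.Agent.Lib.Helper7.Aut3B

set_option autoImplicit false

/-!
# Three automorphism orbits: linear algebra over `ZMod p`, part C (irreducibility of cyclotomic)
-/

namespace Cfsg.Agent.Lib.Helper7.Aut3

open Polynomial

section LA

variable {p : ℕ} [hp : Fact p.Prime] {V : Type*} [AddCommGroup V] [Module (ZMod p) V]

/-- root counting in `AdjoinRoot f`: if `f ∣ cyclotomic q` is irreducible and `f ∣ f(X^j)` for
`1 ≤ j < q`, then `q - 1 ≤ deg f` -/
theorem le_natDegree_of_dvd_comp {q : ℕ} [hq : Fact q.Prime] (hpq : p ≠ q) {f : (ZMod p)[X]}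
    (hf : Irreducible f) (hfΦ : f ∣ cyclotomic q (ZMod p))
    (hcomp : ∀ j : ℕ, 1 ≤ j → j < q → f ∣ f.comp (X ^ j)) : q - 1 ≤ f.natDegree := by
  haveI : Fact (Irreducible f) := ⟨hf⟩
  set ζ : AdjoinRoot f := AdjoinRoot.root f with hζ
  have hroot : ∀ s : (ZMod p)[X], f ∣ s → aeval ζ s = 0 := by
    intro s hs
    rw [hζ, AdjoinRoot.aeval_eq, AdjoinRoot.mk_eq_zero]
    exact hs
  -- `ζ ^ q = 1`
  have hζq : ζ ^ q = 1 := by
    have h1 : f ∣ X ^ q - 1 := hfΦ.trans (cyclotomic.dvd_X_pow_sub_one q (ZMod p))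
    have h2 := hroot _ h1
    simpa [sub_eq_zero] using h2
  -- `ζ ≠ 1`
  have hζ1 : ζ ≠ 1 := by
    intro h1
    have h2 : aeval ζ (cyclotomic q (ZMod p)) = 0 := hroot _ hfΦ
    rw [h1] at h2
    have h3 : aeval (1 : AdjoinRoot f) (cyclotomic q (ZMod p))
        = algebraMap (ZMod p) (AdjoinRoot f) (eval 1 (cyclotomic q (ZMod p))) := by
      rw [← aeval_algebraMap_apply_eq_algebraMap_eval, map_one]
    rw [h3, eval_one_cyclotomic_prime] at h2
    have h4 : ((q : ℕ) : ZMod p) = 0 := by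
      have hinj := (algebraMap (ZMod p) (AdjoinRoot f)).injective
      apply hinj
      rw [h2, map_zero]
    rw [ZMod.natCast_eq_zero_iff] at h4
    exact hpq ((Nat.prime_dvd_prime_iff_eq hp.out hq.out).mp h4)
  have hord : orderOf ζ = q := orderOf_eq_prime hζq hζ1
  -- the roots `ζ ^ j`
  have hrootj : ∀ j : ℕ, 1 ≤ j → j < q → aeval (ζ ^ j) f = 0 := by
    intro j hj1 hjq
    have h1 := hroot _ (hcomp j hj1 hjq)
    rw [aeval_comp, map_pow, aeval_X] at h1
    exact h1
  classical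
  let S : Finset (AdjoinRoot f) := (Finset.Ico 1 q).image (fun j => ζ ^ j)
  have hScard : S.card = q - 1 := by
    rw [Finset.card_image_of_injOn, Nat.card_Ico]
    intro a ha b hb hab
    simp only [Finset.coe_Ico, Set.mem_Ico] at ha hb
    have hinj := pow_injOn_Iio_orderOf (x := ζ)
    refine hinj ?_ ?_ hab
    · simp only [Set.mem_Iio, hord]; exact ha.2
    · simp only [Set.mem_Iio, hord]; exact hb.2
  have hfmap0 : f.map (algebraMap (ZMod p) (AdjoinRoot f)) ≠ 0 :=
    (Polynomial.map_ne_zero_iff (algebraMap (ZMod p) (AdjoinRoot f)).injective).mpr hf.ne_zero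
  have hsub : S.val ⊆ (f.map (algebraMap (ZMod p) (AdjoinRoot f))).roots := by
    intro y hy
    rw [Finset.mem_val] at hy
    obtain ⟨j, hj, rfl⟩ := Finset.mem_image.mp hy
    rw [Finset.mem_Ico] at hj
    rw [mem_roots hfmap0, IsRoot.def, eval_map_algebraMap]
    exact hrootj j hj.1 hj.2
  have h := card_le_degree_of_subset_roots hsub
  rw [hScard, natDegree_map] at h
  exact h

end LA

end Cfsg.Agent.Lib.Helper7.Aut3
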