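import Mathlib
import Cfsg.Agent.Lib.Helper7.Aut3C

set_option autoImplicit false

/-!
# Three automorphism orbits: linear algebra over `ZMod p`, part D (main irreducibility criterion)
-/

namespace Cfsg.Agent.Lib.Helper7.Aut3

open Polynomial

section LA

variable {p : ℕ} [hp : Fact p.Prime] {V : Type*} [AddCommGroup V] [Module (ZMod p) V]

theorem irreducible_cyclotomic_of_trans {q : ℕ} [hq : Fact q.Prime] (hpq : p ≠ q)
    [Finite V] [Nontrivial V] (T : Module.End (ZMod p) V)
    (hT : aeval T (cyclotomic q (ZMod p)) = 0)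
    (H1 : ∀ v w : V, v ≠ 0 → w ≠ 0 → ∃ (τ : V →ₗ[ZMod p] V) (j : ℕ),
      Function.Injective τ ∧ (∀ u, τ (T u) = (T ^ j) (τ u)) ∧ τ v = w)
    (H2 : ∀ j : ℕ, 1 ≤ j → j < q → ∃ τ : V →ₗ[ZMod p] V,
      Function.Injective τ ∧ ∀ u, τ (T u) = (T ^ j) (τ u)) :
    Irreducible (cyclotomic q (ZMod p)) := by
  set Φ : (ZMod p)[X] := cyclotomic q (ZMod p) with hΦ
  have hΦ0 : Φ ≠ 0 := cyclotomic_ne_zero q (ZMod p)
  have hΦdeg : Φ.natDegree = q - 1 := by
    rw [hΦ, natDegree_cyclotomic, Nat.totient_prime hq.out]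
  haveI : NeZero ((q : ℕ) : ZMod p) := by
    refine ⟨fun h => ?_⟩
    rw [ZMod.natCast_eq_zero_iff] at h
    exact hpq ((Nat.prime_dvd_prime_iff_eq hp.out hq.out).mp h)
  have hsqf : Squarefree Φ := squarefree_cyclotomic q (ZMod p)
  -- an irreducible factor with nonzero kernel
  obtain ⟨f, hfirr, hfΦ, v0, hv0, hfv0⟩ :=
    exists_irreducible_factor_ker T _ Φ rfl hΦ0 hT
  obtain ⟨g, hg⟩ := hfΦ
  by_cases hgu : IsUnit g
  · rw [hg]
    exact (irreducible_mul_isUnit hgu).mpr hfirr
  exfalso
  have hf0 : f ≠ 0 := hfirr.ne_zero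
  have hg0 : g ≠ 0 := by
    rintro rfl
    exact hΦ0 (by rw [hg, mul_zero])
  -- `f` and `g` are coprime
  have hcop : IsCoprime f g := by
    rw [hfirr.coprime_iff_not_dvd]
    rintro ⟨g', rfl⟩
    have h1 : f * f ∣ Φ := ⟨g', by rw [hg, mul_assoc]⟩
    exact hfirr.not_isUnit (hsqf f h1)
  obtain ⟨a, b, hab⟩ := hcop
  have habT : ∀ u : V, aeval T a (aeval T f u) + aeval T b (aeval T g u) = u := by
    intro u
    have h1 : aeval T (a * f + b * g) u = u := by rw [hab, map_one]; rfl
    rw [map_add, map_mul, map_mul] at h1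
    exact h1
  have hcomm : ∀ (r s : (ZMod p)[X]) (u : V),
      aeval T r (aeval T s u) = aeval T s (aeval T r u) := by
    intro r s u
    rw [← Module.End.mul_apply, ← Module.End.mul_apply, ← map_mul, ← map_mul, mul_comm]
  have hall : ∀ v w : V, v ≠ 0 → w ≠ 0 → Nat.card (cyc T v) ≤ Nat.card (cyc T w) := by
    intro v w hv hw
    obtain ⟨τ, j, hinj, hτ, hvw⟩ := H1 v w hv hw
    have := card_cyc_le T τ j hinj hτ v
    rwa [hvw] at this
  by_cases hker : ∃ v1 : V, v1 ≠ 0 ∧ aeval T g v1 = 0
  · -- Case A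
    obtain ⟨v1, hv1, hgv1⟩ := hker
    set w : V := v0 + v1 with hw
    have hv0w : v0 ∈ cyc T w := by
      refine ⟨b * g, ?_⟩
      rw [hw, map_add, map_mul, Module.End.mul_apply, Module.End.mul_apply, hgv1, map_zero,
        add_zero]
      have := habT v0
      rw [hfv0, map_zero, zero_add] at this
      exact this
    have hv1w : v1 ∈ cyc T w := by
      have h1 : v1 = w - v0 := by rw [hw]; abel
      rw [h1]
      exact Submodule.sub_mem _ (self_mem_cyc T w) hv0w
    have hfcyc : ∀ u ∈ cyc T v0, aeval T f u = 0 := by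
      rintro _ ⟨r, rfl⟩
      rw [hcomm, hfv0, map_zero]
    have hv1n : v1 ∉ cyc T v0 := by
      intro hmem
      have h1 := hfcyc v1 hmem
      have h2 := habT v1
      rw [h1, hgv1, map_zero, map_zero, add_zero] at h2
      exact hv1 h2.symm
    have hw0 : w ≠ 0 := by
      intro h0
      apply hv1n
      have : v1 = -v0 := by
        rw [hw] at h0
        exact eq_neg_of_add_eq_zero_right h0
      rw [this]
      exact Submodule.neg_mem _ (self_mem_cyc T v0)
    have hlt : cyc T v0 < cyc T w := by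
      refine lt_of_le_of_ne (cyc_le hv0w) ?_
      intro heq
      apply hv1n
      rw [heq]
      exact hv1w
    have hcardlt : Nat.card (cyc T v0) < Nat.card (cyc T w) := by
      have hss : ((cyc T v0 : Submodule (ZMod p) V) : Set V) ⊂ (cyc T w : Set V) := hlt
      have := Set.ncard_lt_ncard hss (Set.toFinite _)
      rwa [← Nat.card_coe_set_eq, ← Nat.card_coe_set_eq] at this
    have := hall w v0 hw0 hv0
    omega
  · -- Case B
    push Not at hker
    have hfT : aeval T f = 0 := by
      ext u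
      have h1 : aeval T (f * g) u = 0 := by rw [← hg, hT]; rfl
      rw [mul_comm, map_mul, Module.End.mul_apply] at h1
      by_contra hne
      exact hker _ hne h1
    have hdegf : f.natDegree < q - 1 := by
      have h1 : Φ.natDegree = f.natDegree + g.natDegree := by
        rw [hg, natDegree_mul hf0 hg0]
      have h2 : 0 < g.natDegree := by
        rw [Nat.pos_iff_ne_zero]
        intro h0
        apply hgu
        rw [eq_C_of_natDegree_eq_zero h0]
        apply Polynomial.isUnit_C.mpr
        rw [isUnit_iff_ne_zero]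
        intro hc
        apply hg0
        rw [eq_C_of_natDegree_eq_zero h0, hc, map_zero]
      omega
    have hcomp : ∀ j : ℕ, 1 ≤ j → j < q → f ∣ f.comp (X ^ j) := by
      intro j hj1 hjq
      obtain ⟨τ, hinj, hτ⟩ := H2 j hj1 hjq
      have hsurj : Function.Surjective τ := Finite.injective_iff_surjective.mp hinj
      apply dvd_of_aeval_eq_zero T hfirr hfT
      rw [aeval_comp, map_pow, aeval_X]
      ext u
      obtain ⟨u', rfl⟩ := hsurj u
      rw [← twist_aeval T τ j hτ, hfT]
      simp
    have := le_natDegree_of_dvd_comp hpq hfirr ⟨g, hg⟩ hcomp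
    omega

end LA

end Cfsg.Agent.Lib.Helper7.Aut3
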