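import Mathlib

set_option autoImplicit false

/-!
# Three automorphism orbits: linear algebra over `ZMod p`, part E (existence of intertwiners)

If the `q`-th cyclotomic polynomial `Φ` is irreducible over `ZMod p`, a finite `ZMod p`-space with
an endomorphism killed by `Φ` is a vector space over the field `(ZMod p)[X] ⧸ (Φ)`.
-/

namespace Cfsg.Agent.Lib.Helper7.Aut3

open Polynomial

section LA

variable {p : ℕ} [hp : Fact p.Prime] {V : Type*} [AddCommGroup V] [Module (ZMod p) V]

/-- the `AEval'` module of an endomorphism killed by `f` is `f`-torsion -/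
theorem isTorsionBy_aeval' (T : Module.End (ZMod p) V) (f : (ZMod p)[X]) (hT : aeval T f = 0) :
    Module.IsTorsionBy (ZMod p)[X] (Module.AEval' T) f := by
  intro m
  obtain ⟨v, rfl⟩ := (Module.AEval'.of T).surjective m
  have h := Module.AEval.of_aeval_smul (R := ZMod p) (M := V) T f v
  rw [hT] at h
  rw [← h]
  simp

theorem exists_intertwiner [Finite V] {f : (ZMod p)[X]} (hirr : Irreducible f) (hmon : f.Monic)
    (T T' : Module.End (ZMod p) V) (hT : aeval T f = 0) (hT' : aeval T' f = 0) :
    ∃ τ : V ≃+ V, ∀ u, τ (T u) = T' (τ u) := by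
  haveI hmax : (Ideal.span {f} : Ideal (ZMod p)[X]).IsMaximal :=
    PrincipalIdealRing.isMaximal_of_irreducible hirr
  letI : Field ((ZMod p)[X] ⧸ (Ideal.span {f} : Ideal (ZMod p)[X])) :=
    Ideal.Quotient.field _
  have hM := isTorsionBy_aeval' T f hT
  have hM' := isTorsionBy_aeval' T' f hT'
  letI : Module ((ZMod p)[X] ⧸ (Ideal.span {f} : Ideal (ZMod p)[X])) (Module.AEval' T) := hM.module
  letI : Module ((ZMod p)[X] ⧸ (Ideal.span {f} : Ideal (ZMod p)[X])) (Module.AEval' T') :=
    hM'.module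
  haveI : Finite (Module.AEval' T) := Finite.of_equiv V (Module.AEval'.of T).toEquiv
  haveI : Finite (Module.AEval' T') := Finite.of_equiv V (Module.AEval'.of T').toEquiv
  haveI : Finite ((ZMod p)[X] ⧸ (Ideal.span {f} : Ideal (ZMod p)[X])) := by
    haveI : Module.Finite (ZMod p) (AdjoinRoot f) := hmon.finite_adjoinRoot
    exact Module.finite_of_finite (ZMod p) (M := AdjoinRoot f)
  have hrank : Module.finrank ((ZMod p)[X] ⧸ (Ideal.span {f} : Ideal (ZMod p)[X])) (Module.AEval' T)
      = Module.finrank ((ZMod p)[X] ⧸ (Ideal.span {f} : Ideal (ZMod p)[X])) (Module.AEval' T') := by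
    letI := Fintype.ofFinite ((ZMod p)[X] ⧸ (Ideal.span {f} : Ideal (ZMod p)[X]))
    letI := Fintype.ofFinite (Module.AEval' T)
    letI := Fintype.ofFinite (Module.AEval' T')
    have h1 := Module.card_eq_pow_finrank
      (K := (ZMod p)[X] ⧸ (Ideal.span {f} : Ideal (ZMod p)[X])) (V := Module.AEval' T)
    have h2 := Module.card_eq_pow_finrank
      (K := (ZMod p)[X] ⧸ (Ideal.span {f} : Ideal (ZMod p)[X])) (V := Module.AEval' T')
    have h3 : Fintype.card (Module.AEval' T) = Fintype.card (Module.AEval' T') := by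
      rw [← Nat.card_eq_fintype_card, ← Nat.card_eq_fintype_card]
      rw [← Nat.card_congr (Module.AEval'.of T).toEquiv, ← Nat.card_congr (Module.AEval'.of T').toEquiv]
    have h4 : 2 ≤ Fintype.card ((ZMod p)[X] ⧸ (Ideal.span {f} : Ideal (ZMod p)[X])) :=
      Fintype.one_lt_card
    apply Nat.pow_right_injective h4
    show Fintype.card ((ZMod p)[X] ⧸ (Ideal.span {f} : Ideal (ZMod p)[X])) ^ _ = _ ^ _
    rw [← h1, ← h2, h3]
  let e := LinearEquiv.ofFinrankEq (Module.AEval' T) (Module.AEval' T') hrank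
  refine ⟨(Module.AEval'.of T).toAddEquiv.trans
    (e.toAddEquiv.trans (Module.AEval'.of T').symm.toAddEquiv), ?_⟩
  intro u
  show (Module.AEval'.of T').symm (e ((Module.AEval'.of T) (T u)))
    = T' ((Module.AEval'.of T').symm (e ((Module.AEval'.of T) u)))
  have h1 : (Module.AEval'.of T) (T u)
      = (Ideal.Quotient.mk (Ideal.span {f} : Ideal (ZMod p)[X]) X) • (Module.AEval'.of T) u := by
    rw [Module.IsTorsionBy.mk_smul hM, Module.AEval'.X_smul_of]
  rw [h1, map_smul, Module.IsTorsionBy.mk_smul hM']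
  apply (Module.AEval'.of T').injective
  rw [LinearEquiv.apply_symm_apply, ← Module.AEval'.X_smul_of, LinearEquiv.apply_symm_apply]

theorem exists_commuting_map [Finite V] {f : (ZMod p)[X]} (hirr : Irreducible f)
    (T : Module.End (ZMod p) V) (hT : aeval T f = 0) (v w : V) (hv : v ≠ 0) (hw : w ≠ 0) :
    ∃ τ : V ≃+ V, (∀ u, τ (T u) = T (τ u)) ∧ τ v = w := by
  haveI hmax : (Ideal.span {f} : Ideal (ZMod p)[X]).IsMaximal :=
    PrincipalIdealRing.isMaximal_of_irreducible hirr
  letI : Field ((ZMod p)[X] ⧸ (Ideal.span {f} : Ideal (ZMod p)[X])) :=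
    Ideal.Quotient.field _
  have hM := isTorsionBy_aeval' T f hT
  letI : Module ((ZMod p)[X] ⧸ (Ideal.span {f} : Ideal (ZMod p)[X])) (Module.AEval' T) := hM.module
  haveI : Finite (Module.AEval' T) := Finite.of_equiv V (Module.AEval'.of T).toEquiv
  have hv' : (Module.AEval'.of T) v ≠ 0 := by
    intro h
    exact hv ((Module.AEval'.of T).map_eq_zero_iff.mp h)
  have hw' : (Module.AEval'.of T) w ≠ 0 := by
    intro h
    exact hw ((Module.AEval'.of T).map_eq_zero_iff.mp h)
  let e1 := LinearEquiv.toSpanNonzeroSingleton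
    ((ZMod p)[X] ⧸ (Ideal.span {f} : Ideal (ZMod p)[X])) (Module.AEval' T) _ hv'
  let e2 := LinearEquiv.toSpanNonzeroSingleton
    ((ZMod p)[X] ⧸ (Ideal.span {f} : Ideal (ZMod p)[X])) (Module.AEval' T) _ hw'
  obtain ⟨g, hg⟩ := Submodule.exists_linearEquiv_restrict_eq (e1.symm.trans e2)
  refine ⟨(Module.AEval'.of T).toAddEquiv.trans
    (g.toAddEquiv.trans (Module.AEval'.of T).symm.toAddEquiv), ?_, ?_⟩
  · intro u
    show (Module.AEval'.of T).symm (g ((Module.AEval'.of T) (T u)))
      = T ((Module.AEval'.of T).symm (g ((Module.AEval'.of T) u)))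
    have h1 : (Module.AEval'.of T) (T u)
        = (Ideal.Quotient.mk (Ideal.span {f} : Ideal (ZMod p)[X]) X) • (Module.AEval'.of T) u := by
      rw [Module.IsTorsionBy.mk_smul hM, Module.AEval'.X_smul_of]
    rw [h1, map_smul, Module.IsTorsionBy.mk_smul hM]
    apply (Module.AEval'.of T).injective
    rw [LinearEquiv.apply_symm_apply, ← Module.AEval'.X_smul_of, LinearEquiv.apply_symm_apply]
  · show (Module.AEval'.of T).symm (g ((Module.AEval'.of T) v)) = w
    have h1 := hg ⟨(Module.AEval'.of T) v, Submodule.mem_span_singleton_self _⟩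
    have h2 : e1.symm ⟨(Module.AEval'.of T) v, Submodule.mem_span_singleton_self _⟩ = 1 := by
      rw [LinearEquiv.symm_apply_eq]
      exact (LinearEquiv.toSpanNonzeroSingleton_one _ _ _ hv').symm
    rw [LinearEquiv.trans_apply, h2] at h1
    have h3 : (e2 1 : Module.AEval' T) = (Module.AEval'.of T) w := by
      rw [LinearEquiv.toSpanNonzeroSingleton_one]
    rw [h3] at h1
    simp only at h1
    rw [← h1, LinearEquiv.symm_apply_apply]

end LA

end Cfsg.Agent.Lib.Helper7.Aut3
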