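import Mathlib

set_option autoImplicit false

/-!
# Three automorphism orbits: bridge between a normal elementary abelian subgroup and `ZMod p`-spaces
-/

namespace Cfsg.Agent.Lib.Helper7.Aut3

open Polynomial

/-- a normal elementary abelian `p`-subgroup -/
structure EA (G : Type*) [Group G] (p : ℕ) where
  P : Subgroup G
  normal : P.Normal
  comm : ∀ a ∈ P, ∀ b ∈ P, a * b = b * a
  exp : ∀ a ∈ P, a ^ p = 1

namespace EA

variable {G : Type*} [Group G] {p : ℕ} (D : EA G p)

instance instNormal : D.P.Normal := D.normal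

/-- the additive copy of `P` -/
def V : Type _ := Additive D.P

instance : AddCommGroup D.V :=
  { (inferInstance : AddGroup (Additive D.P)) with
    add_comm := fun a b => by
      show Additive.ofMul (Additive.toMul a * Additive.toMul b)
        = Additive.ofMul (Additive.toMul b * Additive.toMul a)
      exact congrArg Additive.ofMul
        (Subtype.ext (D.comm _ (Additive.toMul a).2 _ (Additive.toMul b).2)) }

/-- to the additive copy -/
def ofP (a : D.P) : D.V := Additive.ofMul a

/-- from the additive copy -/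
def toP (v : D.V) : D.P := Additive.toMul v

@[simp] theorem toP_ofP (a : D.P) : D.toP (D.ofP a) = a := rfl
@[simp] theorem ofP_toP (v : D.V) : D.ofP (D.toP v) = v := rfl
theorem ofP_mul (a b : D.P) : D.ofP (a * b) = D.ofP a + D.ofP b := rfl
theorem ofP_one : D.ofP 1 = 0 := rfl
theorem toP_add (v w : D.V) : D.toP (v + w) = D.toP v * D.toP w := rfl
theorem toP_zero : D.toP 0 = 1 := rfl
theorem ofP_injective : Function.Injective D.ofP := fun _ _ h => h
theorem ofP_eq_zero {a : D.P} : D.ofP a = 0 ↔ a = 1 := Iff.rfl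

theorem ofP_pow (a : D.P) (n : ℕ) : D.ofP (a ^ n) = n • D.ofP a := by
  induction n with
  | zero => simp [ofP_one]
  | succ n ih => rw [pow_succ, ofP_mul, ih, succ_nsmul]

theorem nsmul_eq_zero (v : D.V) : p • v = 0 := by
  rw [← D.ofP_toP v, ← ofP_pow]
  have : (D.toP v) ^ p = 1 := Subtype.ext (by
    rw [Subgroup.coe_pow]
    exact D.exp _ (D.toP v).2)
  rw [this, ofP_one]

instance : Module (ZMod p) D.V := AddCommGroup.zmodModule D.nsmul_eq_zero

instance [Finite G] : Finite D.V := by
  unfold V
  infer_instance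

/-- the linear map induced by an endomorphism of `P` -/
def lin (τ : D.P →* D.P) : Module.End (ZMod p) D.V :=
  AddMonoidHom.toZModLinearMap p
    { toFun := fun v => D.ofP (τ (D.toP v))
      map_zero' := by rw [toP_zero, map_one, ofP_one]
      map_add' := fun v w => by rw [toP_add, map_mul, ofP_mul] }

@[simp] theorem lin_apply (τ : D.P →* D.P) (v : D.V) : D.lin τ v = D.ofP (τ (D.toP v)) := rfl

theorem lin_ofP (τ : D.P →* D.P) (a : D.P) : D.lin τ (D.ofP a) = D.ofP (τ a) := rfl

theorem lin_injective {τ : D.P →* D.P} (h : Function.Injective τ) :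
    Function.Injective (D.lin τ) := by
  intro v w hvw
  have h1 : D.ofP (τ (D.toP v)) = D.ofP (τ (D.toP w)) := hvw
  have h2 := h (D.ofP_injective h1)
  rw [← D.ofP_toP v, ← D.ofP_toP w, h2]

/-- conjugation by `y` as a linear map -/
def T (y : G) : Module.End (ZMod p) D.V := D.lin (MulAut.conjNormal y : MulAut D.P).toMonoidHom

theorem T_ofP (y : G) (a : D.P) : D.T y (D.ofP a) = D.ofP (MulAut.conjNormal y a) := rfl

theorem T_pow (y : G) (j : ℕ) : D.T (y ^ j) = (D.T y) ^ j := by
  induction j with
  | zero =>
    ext v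
    rw [pow_zero, pow_zero, ← D.ofP_toP v, T_ofP, map_one]
    rfl
  | succ j ih =>
    ext v
    rw [pow_succ, pow_succ, Module.End.mul_apply, ← ih, ← D.ofP_toP v, T_ofP, T_ofP, T_ofP, map_mul]
    rfl

end EA

end Cfsg.Agent.Lib.Helper7.Aut3
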