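import Mathlib
import Cfsg.Agent.Lib.Helper7.Aut3F

set_option autoImplicit false

/-!
# Three automorphism orbits: the cyclotomic relation for a fixed-point-free coset
-/

namespace Cfsg.Agent.Lib.Helper7.Aut3

open Polynomial

namespace EA

variable {G : Type*} [Group G] {p : ℕ} (D : EA G p)

theorem sum_T_pow_mul (y : G) (a : D.P) (n : ℕ) :
    ((D.toP (∑ i ∈ Finset.range n, ((D.T y) ^ i) (D.ofP a)) : D.P) : G) * y ^ n
      = ((a : G) * y) ^ n := by
  induction n with
  | zero => simp [toP_zero]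
  | succ n ih =>
    rw [Finset.sum_range_succ, toP_add, ← T_pow, T_ofP, toP_ofP, Subgroup.coe_mul,
      MulAut.conjNormal_apply, pow_succ ((a : G) * y), ← ih]
    group

theorem aeval_T_cyclotomic {q : ℕ} [hq : Fact q.Prime] (y : G) (hy : y ^ q = 1)
    (hcoset : ∀ a ∈ D.P, (a * y) ^ q = 1) :
    aeval (D.T y) (cyclotomic q (ZMod p)) = 0 := by
  ext v
  rw [cyclotomic_prime, map_sum, LinearMap.sum_apply]
  simp only [map_pow, aeval_X, LinearMap.zero_apply]
  have h := D.sum_T_pow_mul y (D.toP v) q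
  rw [hy, mul_one, hcoset _ (D.toP v).2, ofP_toP] at h
  have h2 : D.toP (∑ i ∈ Finset.range q, ((D.T y) ^ i) v) = 1 := Subtype.ext h
  rw [← D.ofP_toP (∑ i ∈ Finset.range q, ((D.T y) ^ i) v), h2, ofP_one]

end EA

end Cfsg.Agent.Lib.Helper7.Aut3
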