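import Mathlib
import Cfsg.Agent.Lib.Helper7.Aut3D
import Cfsg.Agent.Lib.Helper7.Aut3E
import Cfsg.Agent.Lib.Helper7.Aut3G

set_option autoImplicit false

/-!
# Three automorphism orbits: group-theoretic forms of the linear algebra
-/

namespace Cfsg.Agent.Lib.Helper7.Aut3

open Polynomial

section

variable {G : Type*} [Group G] {p : ℕ}

theorem natDegree_cyclotomic_eq_orderOf_of_irreducible {q : ℕ} [hp : Fact p.Prime]
    [hq : Fact q.Prime] (hpq : p ≠ q) (hirr : Irreducible (cyclotomic q (ZMod p))) :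
    orderOf ((p : ℕ) : ZMod q) = q - 1 := by
  have hcop : p.Coprime q := (Nat.coprime_primes hp.out hq.out).mpr hpq
  have h1 := natDegree_of_dvd_cyclotomic_of_irreducible (K := ZMod p) (p := p) (f := 1) (n := q)
    (by rw [ZMod.card, pow_one]) hcop (dvd_refl _) hirr
  rw [natDegree_cyclotomic, Nat.totient_prime hq.out] at h1
  rw [h1, ← orderOf_units, ZMod.coe_unitOfCoprime, pow_one]

theorem irreducible_cyclotomic_of_orderOf {q : ℕ} [hp : Fact p.Prime]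
    [hq : Fact q.Prime] (hpq : p ≠ q) (hord : orderOf ((p : ℕ) : ZMod q) = q - 1) :
    Irreducible (cyclotomic q (ZMod p)) := by
  have hnd : ¬ p ∣ q := fun h => hpq ((Nat.prime_dvd_prime_iff_eq hp.out hq.out).mp h)
  apply ZMod.irreducible_of_dvd_cyclotomic_of_natDegree hnd (dvd_refl _)
  rw [natDegree_cyclotomic, Nat.totient_prime hq.out, ← hord, ← orderOf_units,
    ZMod.coe_unitOfCoprime]

theorem orderOf_eq_of_trans [Finite G] {q : ℕ} [hp : Fact p.Prime] [hq : Fact q.Prime]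
    (hpq : p ≠ q) (D : EA G p) (hP1 : D.P ≠ ⊥) (x : G) (hx : x ^ q = 1)
    (hcoset : ∀ a ∈ D.P, (a * x) ^ q = 1)
    (H1 : ∀ v w : D.P, v ≠ 1 → w ≠ 1 → ∃ (τ : D.P →* D.P) (j : ℕ), Function.Injective τ ∧
      (∀ u : D.P, τ (MulAut.conjNormal x u) = MulAut.conjNormal (x ^ j) (τ u)) ∧ τ v = w)
    (H2 : ∀ j : ℕ, 1 ≤ j → j < q → ∃ τ : D.P →* D.P, Function.Injective τ ∧
      ∀ u : D.P, τ (MulAut.conjNormal x u) = MulAut.conjNormal (x ^ j) (τ u)) :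
    orderOf ((p : ℕ) : ZMod q) = q - 1 := by
  apply natDegree_cyclotomic_eq_orderOf_of_irreducible hpq
  haveI : Nontrivial D.V := by
    obtain ⟨a, ha⟩ := (Subgroup.ne_bot_iff_exists_ne_one).mp hP1
    exact ⟨⟨D.ofP a, 0, fun h => ha (D.ofP_eq_zero.mp h)⟩⟩
  have htw : ∀ (τ : D.P →* D.P) (j : ℕ),
      (∀ u : D.P, τ (MulAut.conjNormal x u) = MulAut.conjNormal (x ^ j) (τ u)) →
      ∀ u : D.V, D.lin τ (D.T x u) = ((D.T x) ^ j) (D.lin τ u) := by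
    intro τ j hτ u
    rw [← D.T_pow, ← D.ofP_toP u, EA.T_ofP, EA.lin_ofP, EA.lin_ofP, EA.T_ofP, hτ]
  apply irreducible_cyclotomic_of_trans hpq (D.T x) (D.aeval_T_cyclotomic x hx hcoset)
  · intro v w hv hw
    have hv' : D.toP v ≠ 1 := fun h => hv (by rw [← D.ofP_toP v, h, EA.ofP_one])
    have hw' : D.toP w ≠ 1 := fun h => hw (by rw [← D.ofP_toP w, h, EA.ofP_one])
    obtain ⟨τ, j, hinj, hτ, hvw⟩ := H1 _ _ hv' hw'
    refine ⟨D.lin τ, j, D.lin_injective hinj, htw τ j hτ, ?_⟩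
    rw [← D.ofP_toP v, EA.lin_ofP, hvw, EA.ofP_toP]
  · intro j hj1 hjq
    obtain ⟨τ, hinj, hτ⟩ := H2 j hj1 hjq
    exact ⟨D.lin τ, D.lin_injective hinj, htw τ j hτ⟩

end

end Cfsg.Agent.Lib.Helper7.Aut3

namespace Cfsg.Agent.Lib.Helper7.Aut3

open Polynomial

section

variable {G : Type*} [Group G] {p : ℕ}

/-- an additive automorphism of `V` as a group automorphism of `P` -/
def EA.mulEquivOf (D : EA G p) (τ : D.V ≃+ D.V) : D.P ≃* D.P where
  toFun a := D.toP (τ (D.ofP a))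
  invFun a := D.toP (τ.symm (D.ofP a))
  left_inv a := by simp
  right_inv a := by simp
  map_mul' a b := by rw [EA.ofP_mul, map_add, EA.toP_add]

theorem EA.mulEquivOf_apply (D : EA G p) (τ : D.V ≃+ D.V) (a : D.P) :
    D.mulEquivOf τ a = D.toP (τ (D.ofP a)) := rfl

theorem exists_mulEquiv_twist [Finite G] {q : ℕ} [hp : Fact p.Prime] [hq : Fact q.Prime]
    (hpq : p ≠ q) (hord : orderOf ((p : ℕ) : ZMod q) = q - 1) (D : EA G p) (x y : G)
    (hx : x ^ q = 1) (hy : y ^ q = 1)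
    (hcx : ∀ a ∈ D.P, (a * x) ^ q = 1) (hcy : ∀ a ∈ D.P, (a * y) ^ q = 1) :
    ∃ τ : D.P ≃* D.P, ∀ u : D.P, τ (MulAut.conjNormal x u) = MulAut.conjNormal y (τ u) := by
  have hirr := irreducible_cyclotomic_of_orderOf hpq hord
  obtain ⟨τ, hτ⟩ := exists_intertwiner hirr (cyclotomic.monic q (ZMod p)) (D.T x) (D.T y)
    (D.aeval_T_cyclotomic x hx hcx) (D.aeval_T_cyclotomic y hy hcy)
  refine ⟨D.mulEquivOf τ, fun u => ?_⟩
  rw [EA.mulEquivOf_apply, EA.mulEquivOf_apply, ← EA.T_ofP, hτ, ← D.ofP_toP (τ (D.ofP u)),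
    EA.T_ofP, EA.toP_ofP, EA.toP_ofP]

theorem exists_mulEquiv_comm [Finite G] {q : ℕ} [hp : Fact p.Prime] [hq : Fact q.Prime]
    (hpq : p ≠ q) (hord : orderOf ((p : ℕ) : ZMod q) = q - 1) (D : EA G p) (x : G)
    (hx : x ^ q = 1) (hcx : ∀ a ∈ D.P, (a * x) ^ q = 1) (v w : D.P) (hv : v ≠ 1) (hw : w ≠ 1) :
    ∃ τ : D.P ≃* D.P, (∀ u : D.P, τ (MulAut.conjNormal x u) = MulAut.conjNormal x (τ u)) ∧
      τ v = w := by
  have hirr := irreducible_cyclotomic_of_orderOf hpq hord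
  have hv' : D.ofP v ≠ 0 := fun h => hv (D.ofP_eq_zero.mp h)
  have hw' : D.ofP w ≠ 0 := fun h => hw (D.ofP_eq_zero.mp h)
  obtain ⟨τ, hτ, hvw⟩ := exists_commuting_map hirr (D.T x)
    (D.aeval_T_cyclotomic x hx hcx) _ _ hv' hw'
  refine ⟨D.mulEquivOf τ, fun u => ?_, ?_⟩
  · rw [EA.mulEquivOf_apply, EA.mulEquivOf_apply, ← EA.T_ofP, hτ, ← D.ofP_toP (τ (D.ofP u)),
      EA.T_ofP, EA.toP_ofP, EA.toP_ofP]
  · rw [EA.mulEquivOf_apply, hvw, EA.toP_ofP]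

end

end Cfsg.Agent.Lib.Helper7.Aut3
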