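import Mathlib

set_option autoImplicit false

/-!
# Three automorphism orbits: extending automorphisms of a normal complement pair
-/

namespace Cfsg.Agent.Lib.Helper7.Aut3

section

variable {G : Type*} [Group G]

/-- an automorphism of `P` and one of a complement `K`, compatible with the action, glue to an
automorphism of `G` -/
theorem exists_mulAut_extend (P : Subgroup G) [P.Normal] (K : Subgroup G) (hc : P.IsComplement' K)
    (τ : P ≃* P) (κ : K ≃* K)
    (hτ : ∀ (k : K) (u : P), τ (MulAut.conjNormal (k : G) u)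
      = MulAut.conjNormal ((κ k : K) : G) (τ u)) :
    ∃ σ : MulAut G, (∀ u : P, σ (u : G) = (τ u : G)) ∧ ∀ k : K, σ (k : G) = (κ k : G) := by
  let E := SemidirectProduct.mulEquivSubgroup hc
  let c := SemidirectProduct.congr
    (φ₁ := (P.normalizerMonoidHom).comp (Subgroup.inclusion (P.normalizer_eq_top ▸ le_top)))
    (φ₂ := (P.normalizerMonoidHom).comp (Subgroup.inclusion (P.normalizer_eq_top ▸ le_top)))
    τ κ (by
      intro k
      ext u
      have := hτ k u
      exact congrArg Subtype.val this)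
  refine ⟨E.symm.trans (c.trans E), ?_, ?_⟩
  · intro u
    have h1 : E.symm (u : G) = SemidirectProduct.inl u := by
      rw [MulEquiv.symm_apply_eq]
      simp [E]
    show E (c (E.symm (u : G))) = _
    rw [h1]
    simp [E, c]
  · intro k
    have h1 : E.symm (k : G) = SemidirectProduct.inr k := by
      rw [MulEquiv.symm_apply_eq]
      simp [E]
    show E (c (E.symm (k : G))) = _
    rw [h1]
    simp [E, c]

/-- the power automorphism of a cyclic subgroup of prime order -/
theorem exists_pow_mulEquiv [Finite G] (x : G) (j : ℕ) (hj : (Nat.card (Subgroup.zpowers x)).Coprime j) :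
    ∃ κ : Subgroup.zpowers x ≃* Subgroup.zpowers x, ∀ k : Subgroup.zpowers x, κ k = k ^ j := by
  open scoped IsMulCommutative in
  exact ⟨MulEquiv.ofBijective (powMonoidHom j : Subgroup.zpowers x →* Subgroup.zpowers x)
    (powCoprime hj).bijective, fun k => rfl⟩

theorem exists_mulAut_extend_zpowers [Finite G] (P : Subgroup G) [P.Normal] (x : G)
    (hc : P.IsComplement' (Subgroup.zpowers x))
    (τ : P ≃* P) (j : ℕ) (hj : (orderOf x).Coprime j)
    (hτ : ∀ u : P, τ (MulAut.conjNormal x u) = MulAut.conjNormal (x ^ j) (τ u)) :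
    ∃ σ : MulAut G, (∀ u : P, σ (u : G) = (τ u : G)) ∧ σ x = x ^ j := by
  have hj' : (Nat.card (Subgroup.zpowers x)).Coprime j := by
    rw [Nat.card_zpowers]; exact hj
  obtain ⟨κ, hκ⟩ := exists_pow_mulEquiv x j hj'
  have hpow : ∀ (m : ℕ) (u : P), τ (MulAut.conjNormal (x ^ m) u)
      = MulAut.conjNormal ((x ^ m) ^ j) (τ u) := by
    intro m
    induction m with
    | zero =>
      intro u
      simp
    | succ m ih =>
      intro u
      have hcm : ((x ^ m) * x) ^ j = (x ^ m) ^ j * x ^ j :=
        ((Commute.refl x).pow_left m).mul_pow j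
      rw [pow_succ, map_mul, MulAut.mul_apply, ih, hτ, ← MulAut.mul_apply, ← map_mul, ← hcm]
  have hτ' : ∀ (k : Subgroup.zpowers x) (u : P), τ (MulAut.conjNormal (k : G) u)
      = MulAut.conjNormal ((κ k : Subgroup.zpowers x) : G) (τ u) := by
    intro k u
    obtain ⟨m, hm⟩ : ∃ m : ℕ, x ^ m = (k : G) := by
      have h1 : (k : G) ∈ Submonoid.powers x :=
        (isOfFinOrder_of_finite x).mem_powers_iff_mem_zpowers.mpr k.2
      exact Submonoid.mem_powers_iff _ _ |>.mp h1
    rw [hκ, Subgroup.coe_pow, ← hm]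
    exact hpow m u
  obtain ⟨σ, hσ1, hσ2⟩ := exists_mulAut_extend P (Subgroup.zpowers x) hc τ κ hτ'
  refine ⟨σ, hσ1, ?_⟩
  have := hσ2 ⟨x, Subgroup.mem_zpowers x⟩
  rw [hκ] at this
  exact this

end

end Cfsg.Agent.Lib.Helper7.Aut3
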