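import Mathlib
import Cfsg.Agent.Lib.Lead.FpfCyclic

set_option autoImplicit false

/-!
# Three automorphism orbits: a Sylow `q`-subgroup of exponent `q` acting fixed-point-freely has order `q`
-/

namespace Cfsg.Agent.Lib.Helper7.Aut3

section

variable {G : Type*} [Group G]

theorem card_sylow_eq_of_fpf [Finite G] {q : ℕ} [hq : Fact q.Prime] (A : Subgroup G) [A.Normal]
    (hA1 : A ≠ ⊥) (Q : Sylow q G) (hQ1 : (Q : Subgroup G) ≠ ⊥) (hexp : ∀ g ∈ Q, g ^ q = 1)
    (hfpf : ∀ b ∈ Q, b ≠ 1 → ∀ a ∈ A, b * a = a * b → a = 1) : Nat.card Q = q := by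
  haveI : Nontrivial (Q : Subgroup G) := (Subgroup.nontrivial_iff_ne_bot _).mpr hQ1
  haveI := IsPGroup.center_nontrivial Q.2
  obtain ⟨⟨z, hzc⟩, hz1⟩ := exists_ne (1 : Subgroup.center (Q : Subgroup G))
  have hz1' : (z : G) ≠ 1 := by
    intro h
    apply hz1
    apply Subtype.ext
    apply Subtype.ext
    exact h
  have hzq : (z : G) ^ q = 1 := hexp _ z.2
  have hzord : orderOf (z : G) = q := orderOf_eq_prime hzq hz1'
  have hle : (Q : Subgroup G) ≤ Subgroup.zpowers (z : G) := by
    intro y hy
    set B : Subgroup G := Subgroup.closure {(z : G), y} with hB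
    have hBQ : B ≤ (Q : Subgroup G) := by
      rw [hB, Subgroup.closure_le]
      intro w hw
      rcases hw with rfl | rfl
      · exact z.2
      · exact hy
    have hzy : (z : G) * y = y * (z : G) := by
      have := Subgroup.mem_center_iff.mp hzc ⟨y, hy⟩
      exact (congrArg Subtype.val this).symm
    have hBc : IsMulCommutative B := by
      rw [hB]
      apply Subgroup.isMulCommutative_closure
      intro a ha b hb
      rcases ha with rfl | rfl <;> rcases hb with rfl | rfl
      · rfl
      · exact hzy
      · exact hzy.symm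
      · rfl
    have hBcyc : IsCyclic B := by
      apply Cfsg.Agent.Lib.Lead.isCyclic_of_fpf_abelian B A hA1
      · rw [Subgroup.normalizer_eq_top]; exact le_top
      · intro b hb hb1
        rw [eq_bot_iff]
        intro a ha
        rw [Subgroup.mem_inf, Subgroup.mem_centralizer_iff] at ha
        rw [Subgroup.mem_bot]
        exact hfpf b (hBQ hb) hb1 a ha.1 (ha.2 b rfl)
      · exact hBc
    obtain ⟨⟨b, hbB⟩, hb⟩ := hBcyc.exists_generator
    have hbq : b ^ q = 1 := hexp b (hBQ hbB)
    have hBcard : Nat.card B = orderOf b := by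
      have h1 : Nat.card B = orderOf (⟨b, hbB⟩ : B) := by
        rw [← Nat.card_zpowers]
        have : Subgroup.zpowers (⟨b, hbB⟩ : B) = ⊤ := by
          rw [Subgroup.eq_top_iff']
          exact hb
        rw [this, Subgroup.card_top]
      rw [h1]
      exact (Subgroup.orderOf_mk b hbB)
    have hzB : (z : G) ∈ B := Subgroup.subset_closure (by simp)
    have hyB : y ∈ B := Subgroup.subset_closure (by simp)
    have hdvd : orderOf b ∣ q := orderOf_dvd_of_pow_eq_one hbq
    have hzle : Subgroup.zpowers (z : G) ≤ B := by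
      rw [Subgroup.zpowers_le]; exact hzB
    have hcardle : q ≤ Nat.card B := by
      rw [← hzord, ← Nat.card_zpowers]
      exact Subgroup.card_le_of_le hzle
    have hBq : Nat.card B = q := by
      rw [hBcard] at hcardle ⊢
      exact le_antisymm (Nat.le_of_dvd hq.out.pos hdvd) hcardle
    have heq : Subgroup.zpowers (z : G) = B := by
      apply Subgroup.eq_of_le_of_card_ge hzle
      rw [hBq, Nat.card_zpowers, hzord]
    rw [heq]
    exact hyB
  apply le_antisymm
  · calc Nat.card Q ≤ Nat.card (Subgroup.zpowers (z : G)) := Subgroup.card_le_of_le hle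
      _ = q := by rw [Nat.card_zpowers, hzord]
  · have hzle : Subgroup.zpowers (z : G) ≤ (Q : Subgroup G) := by
      rw [Subgroup.zpowers_le]; exact z.2
    calc q = Nat.card (Subgroup.zpowers (z : G)) := by rw [Nat.card_zpowers, hzord]
      _ ≤ Nat.card Q := Subgroup.card_le_of_le hzle

end

end Cfsg.Agent.Lib.Helper7.Aut3
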