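import Mathlib
import Cfsg.Agent.Lib.Helper7.Aut3H
import Cfsg.Agent.Lib.Helper7.Aut3J

set_option autoImplicit false

/-!
# Three automorphism orbits: the structure theorem (forward direction, core)
-/

namespace Cfsg.Agent.Lib.Helper7.Aut3

theorem nat_eq_of_two_primes {n p q : ℕ} (hpq : p ≠ q) (hn : n ≠ 0)
    (h : ∀ r : ℕ, r.Prime → r ∣ n → r = p ∨ r = q) :
    n = p ^ n.factorization p * q ^ n.factorization q := by
  have h1 := Nat.factorization_prod_pow_eq_self hn
  have hsub : n.factorization.support ⊆ ({p, q} : Finset ℕ) := by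
    intro r hr
    rw [Nat.support_factorization, Nat.mem_primeFactors] at hr
    rcases h r hr.1 hr.2.1 with rfl | rfl <;> simp
  rw [Finsupp.prod_of_support_subset _ hsub _ (by intro i _; exact pow_zero i),
    Finset.prod_pair hpq] at h1
  exact h1.symm

section

variable {G : Type*} [Group G]

theorem structure_core [Finite G] (p q : ℕ) [hp : Fact p.Prime] [hq : Fact q.Prime] (hpq : p ≠ q)
    (hord : ∀ g : G, orderOf g = 1 ∨ orderOf g = p ∨ orderOf g = q)
    (hqex : ∃ g : G, orderOf g = q)
    (htp : ∀ a b : G, orderOf a = p → orderOf b = p → ∃ σ : MulAut G, σ a = b)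
    (htq : ∀ a b : G, orderOf a = q → orderOf b = q → ∃ σ : MulAut G, σ a = b)
    (A : Subgroup G) (hAchar : A.Characteristic) (hAab : ∀ a ∈ A, ∀ b ∈ A, a * b = b * a)
    (hAp : ∃ g ∈ A, orderOf g = p) :
    ∃ n : ℕ, 1 ≤ n ∧ Nat.card G = p ^ n * q ∧
      (∀ P : Sylow p G, (P : Subgroup G).Normal ∧ (∀ a ∈ (P : Subgroup G), ∀ b ∈ (P : Subgroup G),
        a * b = b * a) ∧ ∀ a ∈ (P : Subgroup G), a ^ p = 1) ∧
      orderOf ((p : ℕ) : ZMod q) = q - 1 ∧
      ∀ x y : G, orderOf x = q → orderOf y = p → x * y * x⁻¹ ≠ y := by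
  have hp2 := hp.out.two_le
  have hq2 := hq.out.two_le
  have hσA : ∀ (σ : MulAut G) (g : G), σ g ∈ A ↔ g ∈ A := by
    intro σ g
    have h1 := hAchar.fixed σ
    have h2 : g ∈ A.comap σ.toMonoidHom ↔ σ g ∈ A := Subgroup.mem_comap
    rw [← h2, h1]
  obtain ⟨g0, hg0A, hg0⟩ := hAp
  -- all elements of order `p` lie in `A`
  have hApall : ∀ g : G, orderOf g = p → g ∈ A := by
    intro g hg
    obtain ⟨σ, hσ⟩ := htp g0 g hg0 hg
    rw [← hσ, hσA]
    exact hg0A
  -- no commuting pair of orders `q`, `p`
  have hnc : ∀ x y : G, orderOf x = q → orderOf y = p → ¬ Commute x y := by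
    intro x y hx hy hc
    have hco : (orderOf x).Coprime (orderOf y) := by
      rw [hx, hy]
      exact (Nat.coprime_primes hq.out hp.out).mpr (Ne.symm hpq)
    have h1 := hc.orderOf_mul_eq_mul_orderOf_of_coprime hco
    rw [hx, hy] at h1
    rcases hord (x * y) with h | h | h <;> rw [h] at h1 <;> nlinarith
  have hfpf : ∀ x y : G, orderOf x = q → orderOf y = p → x * y * x⁻¹ ≠ y := by
    intro x y hx hy h
    apply hnc x y hx hy
    show x * y = y * x
    calc x * y = (x * y * x⁻¹) * x := by group
      _ = y * x := by rw [h]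
  -- `A` has no element of order `q`
  have hAq : ∀ g ∈ A, orderOf g ≠ q := by
    intro g hgA hg
    exact hnc g g0 hg hg0 (hAab g hgA g0 hg0A)
  have hAmem : ∀ g : G, g ∈ A ↔ g ^ p = 1 := by
    intro g
    constructor
    · intro hgA
      rcases hord g with h | h | h
      · rw [orderOf_eq_one_iff] at h; rw [h, one_pow]
      · rw [← h]; exact pow_orderOf_eq_one g
      · exact absurd h (hAq g hgA)
    · intro hgp
      have h1 : orderOf g ∣ p := orderOf_dvd_of_pow_eq_one hgp
      rcases (Nat.dvd_prime hp.out).mp h1 with h | h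
      · rw [orderOf_eq_one_iff] at h; rw [h]; exact A.one_mem
      · exact hApall g h
  have hApg : IsPGroup p A := by
    intro ⟨g, hg⟩
    refine ⟨1, ?_⟩
    apply Subtype.ext
    rw [pow_one, Subgroup.coe_pow]
    exact (hAmem g).mp hg
  haveI hAn : A.Normal := Subgroup.normal_of_characteristic A
  have hsyl : ∀ P : Sylow p G, (P : Subgroup G) = A := by
    intro P
    have hPA : (P : Subgroup G) ≤ A := by
      intro g hg
      obtain ⟨k, hk⟩ := (IsPGroup.iff_orderOf.mp P.2) ⟨g, hg⟩
      rw [Subgroup.orderOf_mk] at hk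
      rw [hAmem]
      rcases hord g with h | h | h
      · rw [orderOf_eq_one_iff] at h; rw [h, one_pow]
      · rw [← h]; exact pow_orderOf_eq_one g
      · exfalso
        rw [h] at hk
        have hk0 : k ≠ 0 := by
          rintro rfl
          rw [pow_zero] at hk
          omega
        have : p ∣ q := by rw [hk]; exact dvd_pow_self p hk0
        exact hpq ((Nat.prime_dvd_prime_iff_eq hp.out hq.out).mp this)
    exact (P.is_maximal' hApg hPA).symm
  have hA1 : A ≠ ⊥ := by
    intro h
    rw [h, Subgroup.mem_bot] at hg0A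
    rw [hg0A, orderOf_one] at hg0
    omega
  -- the Sylow `q`-subgroup has order `q`
  obtain ⟨x, hx⟩ := hqex
  have hxq : x ^ q = 1 := by rw [← hx]; exact pow_orderOf_eq_one x
  have hxA : x ∉ A := fun h => hAq x h hx
  have hout : ∀ g : G, g ∉ A → orderOf g = q := by
    intro g hg
    rcases hord g with h | h | h
    · rw [orderOf_eq_one_iff] at h; rw [h] at hg; exact absurd A.one_mem hg
    · exact absurd (hApall g h) hg
    · exact h
  have hqdvd : q ∣ Nat.card G := by rw [← hx]; exact orderOf_dvd_natCard x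
  have hpdvd : p ∣ Nat.card G := by rw [← hg0]; exact orderOf_dvd_natCard g0
  obtain ⟨Q⟩ : Nonempty (Sylow q G) := inferInstance
  have hQ1 : (Q : Subgroup G) ≠ ⊥ := by
    intro h
    have h1 := Q.card_eq_multiplicity
    rw [h, Subgroup.card_bot] at h1
    have h2 : 0 < (Nat.card G).factorization q :=
      hq.out.factorization_pos_of_dvd Nat.card_pos.ne' hqdvd
    have h3 : 1 < q ^ (Nat.card G).factorization q := Nat.one_lt_pow h2.ne' (by omega)
    omega
  have hQexp : ∀ g ∈ (Q : Subgroup G), g ^ q = 1 := by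
    intro g hg
    obtain ⟨k, hk⟩ := (IsPGroup.iff_orderOf.mp Q.2) ⟨g, hg⟩
    rw [Subgroup.orderOf_mk] at hk
    rcases hord g with h | h | h
    · rw [orderOf_eq_one_iff] at h; rw [h, one_pow]
    · exfalso
      rw [h] at hk
      have hk0 : k ≠ 0 := by
        rintro rfl
        rw [pow_zero] at hk
        omega
      have : q ∣ p := by rw [hk]; exact dvd_pow_self q hk0
      exact hpq ((Nat.prime_dvd_prime_iff_eq hq.out hp.out).mp this).symm
    · rw [← h]; exact pow_orderOf_eq_one g
  have hQfpf : ∀ b ∈ (Q : Subgroup G), b ≠ 1 → ∀ a ∈ A, b * a = a * b → a = 1 := by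
    intro b hb hb1 a ha hba
    by_contra ha1
    have hbo : orderOf b = q := orderOf_eq_prime (hQexp b hb) hb1
    have hao : orderOf a = p := orderOf_eq_prime ((hAmem a).mp ha) ha1
    exact hnc b a hbo hao hba
  have hQcard : Nat.card Q = q := card_sylow_eq_of_fpf A hA1 Q hQ1 hQexp hQfpf
  -- the order of `G`
  obtain ⟨P⟩ : Nonempty (Sylow p G) := inferInstance
  have hPA := hsyl P
  obtain ⟨n, hn⟩ := IsPGroup.iff_card.mp hApg
  have hn1 : 1 ≤ n := by
    rw [Nat.one_le_iff_ne_zero]
    rintro rfl
    rw [pow_zero, Subgroup.card_eq_one] at hn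
    exact hA1 hn
  have hcardG : Nat.card G = p ^ n * q := by
    have h1 := nat_eq_of_two_primes (n := Nat.card G) hpq Nat.card_pos.ne' (by
      intro r hr hrd
      haveI : Fact r.Prime := ⟨hr⟩
      obtain ⟨g, hg⟩ := exists_prime_orderOf_dvd_card' r hrd
      rcases hord g with h | h | h
      · rw [h] at hg; exact absurd hg.symm hr.ne_one
      · left; rw [← hg, h]
      · right; rw [← hg, h])
    have h2 := P.card_eq_multiplicity
    have h3 := Q.card_eq_multiplicity
    rw [← h2, ← h3, hQcard] at h1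
    rw [h1]
    congr 1
    rw [← hn]
    exact congrArg (fun H : Subgroup G => Nat.card H) hPA
  refine ⟨n, hn1, hcardG, ?_, ?_, hfpf⟩
  · intro P'
    rw [hsyl P']
    exact ⟨hAn, hAab, fun a ha => (hAmem a).mp ha⟩
  · -- the primitive root condition
    let D : EA G p := ⟨A, hAn, hAab, fun a ha => (hAmem a).mp ha⟩
    have hcoset : ∀ a ∈ D.P, (a * x) ^ q = 1 := by
      intro a ha
      have h1 : a * x ∉ A := by
        intro h
        apply hxA
        have : x = a⁻¹ * (a * x) := by group
        rw [this]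
        exact A.mul_mem (A.inv_mem ha) h
      rw [← hout _ h1]
      exact pow_orderOf_eq_one _
    have hc : A.IsComplement' (Subgroup.zpowers x) := by
      apply Subgroup.isComplement'_of_coprime
      · rw [hn, Nat.card_zpowers, hx, hcardG]
      · rw [hn, Nat.card_zpowers, hx]
        exact Nat.Coprime.pow_left n ((Nat.coprime_primes hp.out hq.out).mpr hpq)
    have hdec : ∀ g : G, ∃ a ∈ A, ∃ j : ℕ, g = a * x ^ j := by
      intro g
      obtain ⟨⟨⟨a, ha⟩, ⟨k, hk⟩⟩, hak⟩ := hc.2 g
      obtain ⟨j, hj⟩ : ∃ j : ℕ, x ^ j = k := by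
        have h1 : k ∈ Submonoid.powers x :=
          (isOfFinOrder_of_finite x).mem_powers_iff_mem_zpowers.mpr hk
        exact Submonoid.mem_powers_iff _ _ |>.mp h1
      exact ⟨a, ha, j, by rw [hj]; exact hak.symm⟩
    -- restriction of an automorphism to `A`
    have hres : ∀ σ : MulAut G, ∃ τ : D.P →* D.P, Function.Injective τ ∧
        ∀ u : D.P, ((τ u : D.P) : G) = σ (u : G) := by
      intro σ
      refine ⟨{ toFun := fun u => ⟨σ (u : G), (hσA σ u).mpr u.2⟩
                map_one' := by
                  apply Subtype.ext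
                  show σ ((1 : D.P) : G) = ((1 : D.P) : G)
                  rw [Subgroup.coe_one, map_one]
                map_mul' := by
                  intro u v
                  apply Subtype.ext
                  show σ ((u * v : D.P) : G) = σ (u : G) * σ (v : G)
                  rw [Subgroup.coe_mul, map_mul] }, ?_, fun u => rfl⟩
      intro u v huv
      apply Subtype.ext
      apply σ.injective
      exact congrArg Subtype.val huv
    have htwist : ∀ (σ : MulAut G) (τ : D.P →* D.P) (j : ℕ) (a : G), a ∈ A →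
        (∀ u : D.P, ((τ u : D.P) : G) = σ (u : G)) → σ x = a * x ^ j →
        ∀ u : D.P, τ (MulAut.conjNormal x u) = MulAut.conjNormal (x ^ j) (τ u) := by
      intro σ τ j a ha hτ hσx u
      apply Subtype.ext
      rw [hτ, MulAut.conjNormal_apply, MulAut.conjNormal_apply, map_mul, map_mul, map_inv, hσx,
        hτ]
      have hcA : x ^ j * σ (u : G) * (x ^ j)⁻¹ ∈ A := by
        have h1 : σ (u : G) ∈ A := (hσA σ u).mpr u.2
        exact hAn.conj_mem _ h1 _
      have h2 := hAab a ha _ hcA
      calc a * x ^ j * σ (u : G) * (a * x ^ j)⁻¹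
          = (a * (x ^ j * σ (u : G) * (x ^ j)⁻¹)) * a⁻¹ := by group
        _ = ((x ^ j * σ (u : G) * (x ^ j)⁻¹) * a) * a⁻¹ := by rw [h2]
        _ = x ^ j * σ (u : G) * (x ^ j)⁻¹ := by group
    apply orderOf_eq_of_trans hpq D hA1 x hxq hcoset
    · intro v w hv hw
      have hvo : orderOf (v : G) = p := by
        apply orderOf_eq_prime ((hAmem _).mp v.2)
        intro h
        exact hv (Subtype.ext h)
      have hwo : orderOf (w : G) = p := by
        apply orderOf_eq_prime ((hAmem _).mp w.2)
        intro h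
        exact hw (Subtype.ext h)
      obtain ⟨σ, hσ⟩ := htp _ _ hvo hwo
      obtain ⟨τ, hinj, hτ⟩ := hres σ
      obtain ⟨a, ha, j, hj⟩ := hdec (σ x)
      refine ⟨τ, j, hinj, htwist σ τ j a ha hτ hj, ?_⟩
      apply Subtype.ext
      rw [hτ, hσ]
    · intro j hj1 hjq
      have hxj : orderOf (x ^ j) = q := by
        have hco : (orderOf x).Coprime j := by
          rw [hx]
          exact (Nat.Prime.coprime_iff_not_dvd hq.out).mpr (Nat.not_dvd_of_pos_of_lt hj1 hjq)
        rw [hco.orderOf_pow, hx]
      obtain ⟨σ, hσ⟩ := htq x (x ^ j) hx hxj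
      obtain ⟨τ, hinj, hτ⟩ := hres σ
      exact ⟨τ, hinj, htwist σ τ j 1 A.one_mem hτ (by rw [hσ, one_mul])⟩

end

end Cfsg.Agent.Lib.Helper7.Aut3
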