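import Mathlib
import Cfsg.Agent.Lib.Helper7.Aut3H
import Cfsg.Agent.Lib.Helper7.Aut3I

set_option autoImplicit false

/-!
# Three automorphism orbits: the converse direction
-/

namespace Cfsg.Agent.Lib.Helper7.Aut3

section

variable {G : Type*} [Group G]

theorem card_orbits_eq_three [Finite G] (p q n : ℕ) [hp : Fact p.Prime] [hq : Fact q.Prime]
    (hpq : p ≠ q) (hn : 1 ≤ n) (hcard : Nat.card G = p ^ n * q)
    (hsyl : ∀ P : Sylow p G, (P : Subgroup G).Normal ∧ (∀ a ∈ (P : Subgroup G),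
      ∀ b ∈ (P : Subgroup G), a * b = b * a) ∧ ∀ a ∈ (P : Subgroup G), a ^ p = 1)
    (hprim : orderOf ((p : ℕ) : ZMod q) = q - 1)
    (hfpf : ∀ x y : G, orderOf x = q → orderOf y = p → x * y * x⁻¹ ≠ y) :
    Nat.card (MulAction.orbitRel.Quotient (MulAut G) G) = 3 := by
  have hp2 := hp.out.two_le
  have hq2 := hq.out.two_le
  have hndpq : ¬ p ∣ q := fun h => hpq ((Nat.prime_dvd_prime_iff_eq hp.out hq.out).mp h)
  have hndqp : ¬ q ∣ p := fun h => hpq ((Nat.prime_dvd_prime_iff_eq hq.out hp.out).mp h).symm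
  obtain ⟨P⟩ : Nonempty (Sylow p G) := inferInstance
  obtain ⟨hPn, hPc, hPe⟩ := hsyl P
  set A : Subgroup G := (P : Subgroup G) with hA
  haveI : A.Normal := hPn
  let D : EA G p := ⟨A, hPn, hPc, hPe⟩
  have hAcard : Nat.card A = p ^ n := by
    have h1 := P.card_eq_multiplicity
    have h2 : (Nat.card G).factorization p = n := by
      rw [hcard, Nat.factorization_mul (pow_ne_zero _ hp.out.ne_zero) hq.out.ne_zero,
        Nat.factorization_pow]
      simp [hp.out.factorization_self, Nat.factorization_eq_zero_of_not_dvd hndpq]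
    rw [h2] at h1
    exact h1
  -- membership in `A`
  have hAmem : ∀ g : G, g ∈ A ↔ g ^ p = 1 := by
    intro g
    refine ⟨hPe g, fun hg => ?_⟩
    have hpg : IsPGroup p (Subgroup.zpowers g) := by
      rw [IsPGroup.iff_card (p := p), Nat.card_zpowers]
      have h1 : orderOf g ∣ p := orderOf_dvd_of_pow_eq_one hg
      rcases (Nat.dvd_prime hp.out).mp h1 with h | h
      · exact ⟨0, by rw [h, pow_zero]⟩
      · exact ⟨1, by rw [h, pow_one]⟩
    obtain ⟨Q, hQ⟩ := hpg.exists_le_sylow
    letI := Sylow.unique_of_normal P hPn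
    have hQP : Q = P := Subsingleton.elim _ _
    rw [hQP] at hQ
    exact hQ (Subgroup.mem_zpowers g)
  have hAord : ∀ g ∈ A, g ≠ 1 → orderOf g = p := fun g hg hg1 => orderOf_eq_prime (hPe g hg) hg1
  have hindex : A.index = q := by
    have h1 := A.index_mul_card
    rw [hAcard, hcard, mul_comm] at h1
    exact Nat.eq_of_mul_eq_mul_left (pow_pos hp.out.pos n) h1
  have hpowq : ∀ g : G, g ^ q ∈ A := by
    intro g
    rw [← QuotientGroup.eq_one_iff, QuotientGroup.mk_pow]
    have h1 : Nat.card (G ⧸ A) = q := by rw [← Subgroup.index_eq_card, hindex]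
    rw [← h1]
    exact pow_card_eq_one'
  -- elements outside `A` have order `q`
  have hout : ∀ g : G, g ∉ A → orderOf g = q := by
    intro g hg
    have hg1 : g ≠ 1 := fun h => hg (h ▸ A.one_mem)
    by_cases ha1 : g ^ q = 1
    · exact orderOf_eq_prime ha1 hg1
    · exfalso
      have hao : orderOf (g ^ q) = p := hAord _ (hpowq g) ha1
      have hgp1 : g ^ p ≠ 1 := fun h => hg ((hAmem g).mpr h)
      have hho : orderOf (g ^ p) = q := by
        apply orderOf_eq_prime _ hgp1
        rw [← pow_mul, mul_comm, pow_mul]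
        exact hPe _ (hpowq g)
      apply hfpf (g ^ p) (g ^ q) hho hao
      rw [← pow_add, add_comm, pow_add, mul_inv_cancel_right]
  -- an element of order `q`
  have hqdvd : q ∣ Nat.card G := by rw [hcard]; exact dvd_mul_left _ _
  have hpdvd : p ∣ Nat.card G := by
    rw [hcard]; exact dvd_mul_of_dvd_left (dvd_pow_self p (by omega)) _
  obtain ⟨x, hx⟩ := exists_prime_orderOf_dvd_card' q hqdvd
  obtain ⟨v0, hv0⟩ := exists_prime_orderOf_dvd_card' p hpdvd
  have hv0A : v0 ∈ A := by rw [hAmem, ← hv0]; exact pow_orderOf_eq_one v0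
  have hqnotA : ∀ y : G, orderOf y = q → y ∉ A := by
    intro y hy hyA
    have h1 : orderOf y ∣ p := orderOf_dvd_of_pow_eq_one (hPe y hyA)
    rw [hy] at h1
    exact hndqp h1
  have hxA : x ∉ A := hqnotA x hx
  have hxq : x ^ q = 1 := by rw [← hx]; exact pow_orderOf_eq_one x
  have hcoset : ∀ y : G, orderOf y = q → ∀ a ∈ D.P, (a * y) ^ q = 1 := by
    intro y hy a ha
    have h1 : a * y ∉ A := by
      intro h
      apply hqnotA y hy
      have : y = a⁻¹ * (a * y) := by group
      rw [this]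
      exact A.mul_mem (A.inv_mem ha) h
    rw [← hout _ h1]
    exact pow_orderOf_eq_one _
  have hc : A.IsComplement' (Subgroup.zpowers x) := by
    apply Subgroup.isComplement'_of_coprime
    · rw [hAcard, Nat.card_zpowers, hx, hcard]
    · rw [hAcard, Nat.card_zpowers, hx]
      exact Nat.Coprime.pow_left n ((Nat.coprime_primes hp.out hq.out).mpr hpq)
  have hdec : ∀ g : G, ∃ a ∈ A, ∃ j : ℕ, g = a * x ^ j := by
    intro g
    obtain ⟨⟨⟨a, ha⟩, ⟨k, hk⟩⟩, hak⟩ := hc.2 g
    obtain ⟨j, hj⟩ : ∃ j : ℕ, x ^ j = k := by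
      have h1 : k ∈ Submonoid.powers x :=
        (isOfFinOrder_of_finite x).mem_powers_iff_mem_zpowers.mpr hk
      exact Submonoid.mem_powers_iff _ _ |>.mp h1
    exact ⟨a, ha, j, by rw [hj]; exact hak.symm⟩
  -- transitivity on elements of order `p`
  have htp : ∀ v w : G, v ∈ A → w ∈ A → v ≠ 1 → w ≠ 1 → ∃ σ : MulAut G, σ v = w := by
    intro v w hv hw hv1 hw1
    obtain ⟨τ, hτ, hvw⟩ := exists_mulEquiv_comm hpq hprim D x hxq (hcoset x hx)
      ⟨v, hv⟩ ⟨w, hw⟩ (fun h => hv1 (congrArg Subtype.val h)) (fun h => hw1 (congrArg Subtype.val h))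
    obtain ⟨σ, hσ, -⟩ := exists_mulAut_extend_zpowers D.P x hc τ 1 (Nat.coprime_one_right _)
      (by intro u; rw [pow_one]; exact hτ u)
    refine ⟨σ, ?_⟩
    have := hσ ⟨v, hv⟩
    rw [hvw] at this
    exact this
  -- transitivity on elements of order `q`
  have htq : ∀ g : G, g ∉ A → ∃ σ : MulAut G, σ x = g := by
    intro g hg
    obtain ⟨a, ha, j, rfl⟩ := hdec g
    have hqj : ¬ q ∣ j := by
      intro h
      apply hg
      have : x ^ j = 1 := by
        rw [← hx] at h
        exact orderOf_dvd_iff_pow_eq_one.mp h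
      rw [this, mul_one]
      exact ha
    have hco : (orderOf x).Coprime j := by
      rw [hx]
      exact (Nat.Prime.coprime_iff_not_dvd hq.out).mpr hqj
    have hyo : orderOf (x ^ j) = q := by rw [hco.orderOf_pow, hx]
    have hyq : (x ^ j) ^ q = 1 := by rw [← hyo]; exact pow_orderOf_eq_one _
    obtain ⟨τ, hτ⟩ := exists_mulEquiv_twist hpq hprim D x (x ^ j) hxq hyq (hcoset x hx)
      (hcoset _ hyo)
    obtain ⟨σ1, -, hσ1⟩ := exists_mulAut_extend_zpowers D.P x hc τ j hco hτ
    set y := x ^ j with hy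
    -- find `b ∈ A` with `b * y * b⁻¹ = a * y`
    let φ : A → A := fun b => ⟨(b : G) * (y * (b : G)⁻¹ * y⁻¹),
      A.mul_mem b.2 (hPn.conj_mem _ (A.inv_mem b.2) y)⟩
    have hφinj : Function.Injective φ := by
      intro b b' hbb
      have h1 : (b : G) * (y * (b : G)⁻¹ * y⁻¹) = (b' : G) * (y * (b' : G)⁻¹ * y⁻¹) :=
        congrArg Subtype.val hbb
      have h2 : y * ((b' : G)⁻¹ * (b : G)) * y⁻¹ = (b' : G)⁻¹ * (b : G) := by
        have : (b' : G)⁻¹ * (b : G) = (y * (b' : G)⁻¹ * y⁻¹) * (y * (b : G)⁻¹ * y⁻¹)⁻¹ := by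
          rw [eq_mul_inv_iff_mul_eq, mul_assoc, h1]
          group
        conv_rhs => rw [this]
        group
      have h3 : (b' : G)⁻¹ * (b : G) = 1 := by
        by_contra hne
        exact hfpf y _ hyo (hAord _ (A.mul_mem (A.inv_mem b'.2) b.2) hne) h2
      apply Subtype.ext
      rw [inv_mul_eq_one] at h3
      exact h3.symm
    have hφsurj : Function.Surjective φ := Finite.surjective_of_injective hφinj
    obtain ⟨b, hb⟩ := hφsurj ⟨a, ha⟩
    have hb' : (b : G) * (y * (b : G)⁻¹ * y⁻¹) = a := congrArg Subtype.val hb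
    refine ⟨MulAut.conj (b : G) * σ1, ?_⟩
    rw [MulAut.mul_apply, hσ1, MulAut.conj_apply, ← hb']
    group
  -- counting the orbits
  let ord : MulAction.orbitRel.Quotient (MulAut G) G → ℕ :=
    Quotient.lift (fun g : G => orderOf g) (by
      intro a b hab
      obtain ⟨σ, rfl⟩ := hab
      show orderOf (σ • b) = orderOf b
      rw [MulAut.smul_def]
      exact MulEquiv.orderOf_eq σ b)
  have hordmk : ∀ g : G, ord (Quotient.mk _ g) = orderOf g := fun g => rfl
  have hmk : ∀ (g h : G) (σ : MulAut G), σ g = h →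
      (Quotient.mk _ g : MulAction.orbitRel.Quotient (MulAut G) G) = Quotient.mk _ h := by
    intro g h σ hσ
    symm
    apply Quotient.sound
    exact ⟨σ, by show σ • g = h; rw [MulAut.smul_def]; exact hσ⟩
  let f : Fin 3 → MulAction.orbitRel.Quotient (MulAut G) G :=
    ![Quotient.mk _ 1, Quotient.mk _ v0, Quotient.mk _ x]
  have hf0 : ord (f 0) = 1 := by
    show ord (Quotient.mk _ 1) = 1
    rw [hordmk, orderOf_one]
  have hf1 : ord (f 1) = p := by
    show ord (Quotient.mk _ v0) = p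
    rw [hordmk, hv0]
  have hf2 : ord (f 2) = q := by
    show ord (Quotient.mk _ x) = q
    rw [hordmk, hx]
  have hfbij : Function.Bijective f := by
    constructor
    · intro i j hij
      have h := congrArg ord hij
      fin_cases i <;> fin_cases j <;> first | rfl | (exfalso; simp only [Fin.zero_eta, Fin.mk_one, Fin.reduceFinMk] at h; rw [hf0, hf1] at h; omega) | (exfalso; simp only [Fin.zero_eta, Fin.mk_one, Fin.reduceFinMk] at h; rw [hf0, hf2] at h; omega) | (exfalso; simp only [Fin.zero_eta, Fin.mk_one, Fin.reduceFinMk] at h; rw [hf1, hf0] at h; omega) | (exfalso; simp only [Fin.zero_eta, Fin.mk_one, Fin.reduceFinMk] at h; rw [hf1, hf2] at h; omega) | (exfalso; simp only [Fin.zero_eta, Fin.mk_one, Fin.reduceFinMk] at h; rw [hf2, hf0] at h; omega) | (exfalso; simp only [Fin.zero_eta, Fin.mk_one, Fin.reduceFinMk] at h; rw [hf2, hf1] at h; omega)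
    · intro c
      obtain ⟨g, rfl⟩ := Quotient.exists_rep c
      by_cases hgA : g ∈ A
      · by_cases hg1 : g = 1
        · exact ⟨0, by rw [hg1]; rfl⟩
        · obtain ⟨σ, hσ⟩ := htp v0 g hv0A hgA (by
            intro h; rw [h, orderOf_one] at hv0; omega) hg1
          exact ⟨1, hmk v0 g σ hσ⟩
      · obtain ⟨σ, hσ⟩ := htq g hgA
        exact ⟨2, hmk x g σ hσ⟩
  rw [← Nat.card_congr (Equiv.ofBijective f hfbij), Nat.card_fin]

end

end Cfsg.Agent.Lib.Helper7.Aut3
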