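import Mathlib
import Cfsg.Agent.S0144
import Cfsg.Agent.Lib.Helper7.Aut3K

set_option autoImplicit false

/-!
# Three automorphism orbits: the forward direction
-/

namespace Cfsg.Agent.Lib.Helper7.Aut3

open scoped commutatorElement

section

variable {G : Type*} [Group G]

theorem structure_of_three_orbits [Finite G] (hnpp : ¬ IsPrimePow (Nat.card G))
    (hnt : Nat.card G ≠ 1)
    (h3 : Nat.card (MulAction.orbitRel.Quotient (MulAut G) G) = 3) :
    ∃ (p q n : ℕ) (_ : Fact p.Prime) (_ : Fact q.Prime), p ≠ q ∧ 1 ≤ n ∧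
      Nat.card G = p ^ n * q ∧
      (∀ P : Sylow p G, (P : Subgroup G).Normal ∧ (∀ a ∈ (P : Subgroup G),
        ∀ b ∈ (P : Subgroup G), a * b = b * a) ∧ ∀ a ∈ (P : Subgroup G), a ^ p = 1) ∧
      orderOf ((p : ℕ) : ZMod q) = q - 1 ∧
      ∀ x y : G, orderOf x = q → orderOf y = p → x * y * x⁻¹ ≠ y := by
  -- two distinct prime divisors
  obtain ⟨p1, hp1, hp1d⟩ := Nat.exists_prime_and_dvd hnt
  obtain ⟨p2, hp2, hp2d, hp12⟩ : ∃ p2 : ℕ, p2.Prime ∧ p2 ∣ Nat.card G ∧ p1 ≠ p2 := by
    by_contra hcon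
    push Not at hcon
    apply hnpp
    rw [isPrimePow_iff_unique_prime_dvd]
    exact ⟨p1, ⟨hp1, hp1d⟩, fun r hr => (hcon r hr.1 hr.2).symm⟩
  haveI : Fact p1.Prime := ⟨hp1⟩
  haveI : Fact p2.Prime := ⟨hp2⟩
  obtain ⟨a, ha⟩ := exists_prime_orderOf_dvd_card' p1 hp1d
  obtain ⟨b, hb⟩ := exists_prime_orderOf_dvd_card' p2 hp2d
  have h12 := hp1.two_le
  have h22 := hp2.two_le
  -- orders on orbits
  let ord : MulAction.orbitRel.Quotient (MulAut G) G → ℕ :=
    Quotient.lift (fun g : G => orderOf g) (by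
      intro a b hab
      obtain ⟨σ, rfl⟩ := hab
      show orderOf (σ • b) = orderOf b
      rw [MulAut.smul_def]
      exact MulEquiv.orderOf_eq σ b)
  have hordmk : ∀ g : G, ord (Quotient.mk _ g) = orderOf g := fun g => rfl
  let f : Fin 3 → MulAction.orbitRel.Quotient (MulAut G) G :=
    ![Quotient.mk _ 1, Quotient.mk _ a, Quotient.mk _ b]
  have hf0 : ord (f 0) = 1 := by
    show ord (Quotient.mk _ 1) = 1
    rw [hordmk, orderOf_one]
  have hf1 : ord (f 1) = p1 := by
    show ord (Quotient.mk _ a) = p1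
    rw [hordmk, ha]
  have hf2 : ord (f 2) = p2 := by
    show ord (Quotient.mk _ b) = p2
    rw [hordmk, hb]
  have hofinj : Function.Injective (ord ∘ f) := by
    intro i j hij
    have h : ord (f i) = ord (f j) := hij
    fin_cases i <;> fin_cases j <;> first | rfl | (exfalso; simp only [Fin.zero_eta, Fin.mk_one, Fin.reduceFinMk] at h; rw [hf0, hf1] at h; omega) | (exfalso; simp only [Fin.zero_eta, Fin.mk_one, Fin.reduceFinMk] at h; rw [hf0, hf2] at h; omega) | (exfalso; simp only [Fin.zero_eta, Fin.mk_one, Fin.reduceFinMk] at h; rw [hf1, hf0] at h; omega) | (exfalso; simp only [Fin.zero_eta, Fin.mk_one, Fin.reduceFinMk] at h; rw [hf1, hf2] at h; omega) | (exfalso; simp only [Fin.zero_eta, Fin.mk_one, Fin.reduceFinMk] at h; rw [hf2, hf0] at h; omega) | (exfalso; simp only [Fin.zero_eta, Fin.mk_one, Fin.reduceFinMk] at h; rw [hf2, hf1] at h; omega)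
  have hfinj : Function.Injective f := fun i j hij => hofinj (congrArg ord hij)
  haveI : Finite (MulAction.orbitRel.Quotient (MulAut G) G) :=
    Nat.finite_of_card_ne_zero (by rw [h3]; norm_num)
  have hfbij : Function.Bijective f :=
    hfinj.bijective_of_nat_card_le (by rw [h3, Nat.card_fin])
  have hord3 : ∀ g : G, orderOf g = 1 ∨ orderOf g = p1 ∨ orderOf g = p2 := by
    intro g
    obtain ⟨i, hi⟩ := hfbij.2 (Quotient.mk _ g)
    have h : ord (f i) = orderOf g := by rw [hi, hordmk]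
    fin_cases i
    · left; rw [← h]; exact hf0
    · right; left; rw [← h]; exact hf1
    · right; right; rw [← h]; exact hf2
  have hclass : ∀ g h : G, orderOf g = orderOf h → ∃ σ : MulAut G, σ g = h := by
    intro g h hgh
    obtain ⟨i, hi⟩ := hfbij.2 (Quotient.mk _ g)
    obtain ⟨j, hj⟩ := hfbij.2 (Quotient.mk _ h)
    have hij : i = j := by
      apply hofinj
      show ord (f i) = ord (f j)
      rw [hi, hj, hordmk, hordmk, hgh]
    rw [hij, hj] at hi
    have h1 := Quotient.exact hi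
    obtain ⟨σ, hσ⟩ := h1
    exact ⟨σ, by rw [← MulAut.smul_def]; exact hσ⟩
  -- `G` is solvable
  have hcardG := nat_eq_of_two_primes (n := Nat.card G) hp12 Nat.card_pos.ne' (by
    intro r hr hrd
    haveI : Fact r.Prime := ⟨hr⟩
    obtain ⟨g, hg⟩ := exists_prime_orderOf_dvd_card' r hrd
    rcases hord3 g with h | h | h
    · rw [h] at hg; exact absurd hg.symm hr.ne_one
    · left; rw [← hg, h]
    · right; rw [← hg, h])
  have hsolv : Group.IsSolvable G := Cfsg.Agent.S0144.result p1 p2 _ _ hp1 hp2 hcardG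
  -- the last nontrivial term of the derived series
  obtain ⟨A, hAchar, hAab, hA1⟩ : ∃ A : Subgroup G, A.Characteristic ∧
      (∀ a ∈ A, ∀ b ∈ A, a * b = b * a) ∧ A ≠ ⊥ := by
    classical
    have hex : ∃ n : ℕ, derivedSeries G n = ⊥ := hsolv.solvable
    have hmin : ∀ m : ℕ, m < Nat.find hex → ¬ derivedSeries G m = ⊥ :=
      fun m hm => Nat.find_min hex hm
    have hspec := Nat.find_spec hex
    set m := Nat.find hex with hm
    have hm0 : m ≠ 0 := by
      intro h0
      rw [h0, derivedSeries_zero] at hspec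
      apply hnt
      rw [← Subgroup.card_top (G := G), hspec, Subgroup.card_bot]
    obtain ⟨k, hk⟩ := Nat.exists_eq_succ_of_ne_zero hm0
    refine ⟨derivedSeries G k, inferInstance, ?_, ?_⟩
    · intro a ha b hb
      have h1 : ⁅a, b⁆ ∈ derivedSeries G (k + 1) := by
        rw [derivedSeries_succ]
        exact Subgroup.commutator_mem_commutator ha hb
      rw [← Nat.succ_eq_add_one, ← hk, hspec, Subgroup.mem_bot] at h1
      exact commutatorElement_eq_one_iff_mul_comm.mp h1
    · intro h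
      exact hmin k (by omega) h
  obtain ⟨g, hg1⟩ := (Subgroup.ne_bot_iff_exists_ne_one).mp hA1
  have hg1' : (g : G) ≠ 1 := fun h => hg1 (Subtype.ext h)
  have hgo1 : orderOf (g : G) ≠ 1 := fun h => hg1' (orderOf_eq_one_iff.mp h)
  rcases hord3 g with h | h | h
  · exact absurd h hgo1
  · obtain ⟨n, hn1, hc, hs, ho, hf⟩ := structure_core p1 p2 hp12 hord3 ⟨b, hb⟩
      (fun u v hu hv => hclass u v (by rw [hu, hv]))
      (fun u v hu hv => hclass u v (by rw [hu, hv])) A hAchar hAab ⟨g, g.2, h⟩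
    exact ⟨p1, p2, n, ⟨hp1⟩, ⟨hp2⟩, hp12, hn1, hc, hs, ho, hf⟩
  · obtain ⟨n, hn1, hc, hs, ho, hf⟩ := structure_core p2 p1 (Ne.symm hp12)
      (fun u => by rcases hord3 u with h | h | h <;> simp [h]) ⟨a, ha⟩
      (fun u v hu hv => hclass u v (by rw [hu, hv]))
      (fun u v hu hv => hclass u v (by rw [hu, hv])) A hAchar hAab ⟨g, g.2, h⟩
    exact ⟨p2, p1, n, ⟨hp2⟩, ⟨hp1⟩, Ne.symm hp12, hn1, hc, hs, ho, hf⟩

end

end Cfsg.Agent.Lib.Helper7.Aut3
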