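import Mathlib
import Cfsg.Agent.Lib.Lead.NormalRankTwo
import Cfsg.Agent.Lib.Helper7.CyclicCrit

set_option autoImplicit false

/-!
Groups in which abelian subgroups of equal order are conjugate: Sylow subgroups for odd primes
dividing the order of a normal subgroup.
-/

namespace Cfsg.Agent.Lib.Helper7.BConj

/-- any two abelian subgroups of the same order are conjugate -/
def AbConj (G : Type*) [Group G] : Prop :=
  ∀ A B : Subgroup G, IsMulCommutative ↥A → IsMulCommutative ↥B → Nat.card ↥A = Nat.card ↥B →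
    ∃ g : G, B = A.map (MulAut.conj g).toMonoidHom

variable {G : Type*} [Group G] [Finite G]

theorem zpowers_comm (x : G) : IsMulCommutative ↥(Subgroup.zpowers x) := by
  refine ⟨⟨?_⟩⟩
  rintro ⟨a, ha⟩ ⟨b, hb⟩
  apply Subtype.ext
  obtain ⟨i, rfl⟩ := Subgroup.mem_zpowers_iff.mp ha
  obtain ⟨j, rfl⟩ := Subgroup.mem_zpowers_iff.mp hb
  show x ^ i * x ^ j = x ^ j * x ^ i
  rw [← zpow_add, ← zpow_add, add_comm]

/-- a normal subgroup of order divisible by `p` contains every element killed by `p` -/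
theorem mem_of_pow_eq_one (hB : AbConj G) (M : Subgroup G) [hMn : M.Normal] {p : ℕ}
    [hp : Fact p.Prime] (hpM : p ∣ Nat.card ↥M) {x : G} (hx : x ^ p = 1) : x ∈ M := by
  by_cases hx1 : x = 1
  · rw [hx1]; exact M.one_mem
  have hox : orderOf x = p := orderOf_eq_prime hx hx1
  obtain ⟨y, hy⟩ := exists_prime_orderOf_dvd_card' (G := ↥M) p hpM
  have hoy : orderOf (y : G) = p := by rw [Subgroup.orderOf_coe, hy]
  have hc : Nat.card ↥(Subgroup.zpowers (y : G)) = Nat.card ↥(Subgroup.zpowers x) := by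
    rw [Nat.card_zpowers, Nat.card_zpowers, hox, hoy]
  obtain ⟨g, hg⟩ := hB _ _ (zpowers_comm (y : G)) (zpowers_comm x) hc
  have hxm : x ∈ (Subgroup.zpowers (y : G)).map (MulAut.conj g).toMonoidHom := by
    rw [← hg]; exact Subgroup.mem_zpowers x
  obtain ⟨w, hw, rfl⟩ := Subgroup.mem_map.mp hxm
  have hwM : w ∈ M := (Subgroup.zpowers_le.mpr y.2) hw
  show (MulAut.conj g) w ∈ M
  rw [MulAut.conj_apply]
  exact hMn.conj_mem w hwM g

/-- a non-cyclic Sylow `p`-subgroup, `p` odd, has exponent `p` -/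
theorem pow_eq_one_of_not_cyclic (hB : AbConj G) {p : ℕ} [hp : Fact p.Prime] (hp2 : p ≠ 2)
    (P : Sylow p G) (hnc : ¬ IsCyclic ↥(P : Subgroup G)) : ∀ x ∈ (P : Subgroup G), x ^ p = 1 := by
  obtain ⟨W, -, hWc, hWe, hWcard⟩ :=
    Cfsg.Agent.Lib.Lead.exists_normal_elementary_sq (R := ↥(P : Subgroup G)) hp2 P.2 hnc
  set W' : Subgroup G := W.map (P : Subgroup G).subtype with hW'
  have hW'c : IsMulCommutative ↥W' := by
    refine ⟨⟨?_⟩⟩
    rintro ⟨_, ⟨a, ha, rfl⟩⟩ ⟨_, ⟨b, hb, rfl⟩⟩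
    apply Subtype.ext
    have := hWc.is_comm.comm ⟨a, ha⟩ ⟨b, hb⟩
    have h2 := congrArg (fun x : ↥W => ((x : ↥(P : Subgroup G)) : G)) this
    simpa using h2
  have hW'e : ∀ e ∈ W', e ^ p = 1 := by
    rintro _ ⟨a, ha, rfl⟩
    have := congrArg Subtype.val (hWe a ha)
    simpa using this
  have hW'card : Nat.card ↥W' = p ^ 2 := by
    rw [hW', Subgroup.card_map_of_injective (P : Subgroup G).subtype_injective, hWcard]
  intro x hx
  obtain ⟨k, hk⟩ := (IsPGroup.iff_orderOf.mp P.2) ⟨x, hx⟩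
  rw [Subgroup.orderOf_mk] at hk
  by_cases hk1 : k ≤ 1
  · have : orderOf x ∣ p := by
      rw [hk]
      calc p ^ k ∣ p ^ 1 := pow_dvd_pow p hk1
        _ = p := pow_one p
    exact orderOf_dvd_iff_pow_eq_one.mp this
  · exfalso
    push Not at hk1
    set y : G := x ^ (p ^ (k - 2)) with hy
    have hoy : orderOf y = p ^ 2 := by
      rw [hy, orderOf_pow' x (pow_ne_zero _ hp.out.ne_zero), hk]
      have h1 : Nat.gcd (p ^ k) (p ^ (k - 2)) = p ^ (k - 2) :=
        Nat.gcd_eq_right (pow_dvd_pow p (by omega))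
      rw [h1]
      have h2 : p ^ k = p ^ 2 * p ^ (k - 2) := by rw [← pow_add]; congr 1; omega
      rw [h2, Nat.mul_div_cancel _ (pow_pos hp.out.pos _)]
    have hc : Nat.card ↥(Subgroup.zpowers y) = Nat.card ↥W' := by
      rw [Nat.card_zpowers, hoy, hW'card]
    obtain ⟨g, hg⟩ := hB _ _ (zpowers_comm y) hW'c hc
    have hmem : (MulAut.conj g) y ∈ W' := by
      rw [hg]
      exact Subgroup.mem_map.mpr ⟨y, Subgroup.mem_zpowers y, rfl⟩
    have h1 := hW'e _ hmem
    rw [← map_pow] at h1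
    have h2 : y ^ p = 1 := by
      have := (MulAut.conj g).injective (h1.trans (map_one (MulAut.conj g)).symm)
      exact this
    have h3 : orderOf y ∣ p := orderOf_dvd_of_pow_eq_one h2
    rw [hoy] at h3
    have h4 : p ^ 2 ≤ p := Nat.le_of_dvd hp.out.pos h3
    have h5 : 2 ≤ p := hp.out.two_le
    nlinarith

/-- for an odd prime `p` dividing the order of the normal subgroup `M`, a Sylow `p`-subgroup lies
in `M` or is cyclic -/
theorem sylow_le_or_cyclic (hB : AbConj G) (M : Subgroup G) [hMn : M.Normal] {p : ℕ}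
    [hp : Fact p.Prime] (hp2 : p ≠ 2) (hpM : p ∣ Nat.card ↥M) (P : Sylow p G) :
    (P : Subgroup G) ≤ M ∨ IsCyclic ↥(P : Subgroup G) := by
  by_cases hc : IsCyclic ↥(P : Subgroup G)
  · exact Or.inr hc
  · left
    intro x hx
    exact mem_of_pow_eq_one hB M hpM (pow_eq_one_of_not_cyclic hB hp2 P hc x hx)

end Cfsg.Agent.Lib.Helper7.BConj
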