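import Mathlib
import Cfsg.Agent.Lib.Helper7.BConjA

set_option autoImplicit false

/-!
Cyclic Sylow subgroups and intersections with a normal subgroup.
-/

namespace Cfsg.Agent.Lib.Helper7.BConj

variable {G : Type*} [Group G] [Finite G]

/-- in a cyclic Sylow subgroup `P`, a subgroup `R` not contained in `M` contains `P ⊓ M` -/
theorem inf_le_of_cyclic {p : ℕ} [hp : Fact p.Prime] (P : Sylow p G)
    (hc : IsCyclic ↥(P : Subgroup G)) (R M : Subgroup G) (hRP : R ≤ (P : Subgroup G))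
    (hRM : ¬ R ≤ M) : (P : Subgroup G) ⊓ M ≤ R := by
  have hRp : IsPGroup p ↥R := P.2.to_le hRP
  have hDp : IsPGroup p ↥((P : Subgroup G) ⊓ M) := P.2.to_le inf_le_left
  obtain ⟨i, hi⟩ := IsPGroup.iff_card.mp hRp
  obtain ⟨j, hj⟩ := IsPGroup.iff_card.mp hDp
  have hR1 : Nat.card ↥(R.subgroupOf (P : Subgroup G)) = p ^ i := by
    rw [Nat.card_congr (Subgroup.subgroupOfEquivOfLe hRP).toEquiv, hi]
  have hD1 : Nat.card ↥(((P : Subgroup G) ⊓ M).subgroupOf (P : Subgroup G)) = p ^ j := by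
    rw [Nat.card_congr (Subgroup.subgroupOfEquivOfLe inf_le_left).toEquiv, hj]
  rcases le_total i j with hij | hji
  · exfalso
    apply hRM
    intro x hx
    have hxP : x ∈ (P : Subgroup G) := hRP hx
    have h1 : (⟨x, hxP⟩ : ↥(P : Subgroup G)) ∈ R.subgroupOf (P : Subgroup G) :=
      Subgroup.mem_subgroupOf.mpr hx
    have h2 := (mem_subgroup_iff_pow_card (R.subgroupOf (P : Subgroup G)) ⟨x, hxP⟩).mp h1
    rw [hR1] at h2
    have h3 : (⟨x, hxP⟩ : ↥(P : Subgroup G)) ^ p ^ j = 1 := by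
      obtain ⟨c, rfl⟩ := Nat.exists_eq_add_of_le hij
      rw [pow_add, pow_mul, h2, one_pow]
    rw [← hD1] at h3
    have h4 := (mem_subgroup_iff_pow_card (((P : Subgroup G) ⊓ M).subgroupOf (P : Subgroup G))
      ⟨x, hxP⟩).mpr h3
    exact (Subgroup.mem_subgroupOf.mp h4).2
  · intro x hx
    have hxP : x ∈ (P : Subgroup G) := hx.1
    have h1 : (⟨x, hxP⟩ : ↥(P : Subgroup G)) ∈ ((P : Subgroup G) ⊓ M).subgroupOf (P : Subgroup G) :=
      Subgroup.mem_subgroupOf.mpr hx
    have h2 := (mem_subgroup_iff_pow_card (((P : Subgroup G) ⊓ M).subgroupOf (P : Subgroup G))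
      ⟨x, hxP⟩).mp h1
    rw [hD1] at h2
    have h3 : (⟨x, hxP⟩ : ↥(P : Subgroup G)) ^ p ^ i = 1 := by
      obtain ⟨c, rfl⟩ := Nat.exists_eq_add_of_le hji
      rw [pow_add, pow_mul, h2, one_pow]
    rw [← hR1] at h3
    have h4 := (mem_subgroup_iff_pow_card (R.subgroupOf (P : Subgroup G)) ⟨x, hxP⟩).mpr h3
    exact Subgroup.mem_subgroupOf.mp h4

/-- the intersection of a Sylow `p`-subgroup with a normal subgroup `M` has order divisible by the
full `p`-part of `#M` -/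
theorem pow_factorization_dvd_card_inf (M : Subgroup G) [hMn : M.Normal] {p : ℕ}
    [hp : Fact p.Prime] (P : Sylow p G) :
    p ^ (Nat.card ↥M).factorization p ∣ Nat.card ↥((P : Subgroup G) ⊓ M) := by
  obtain ⟨Q⟩ : Nonempty (Sylow p ↥M) := inferInstance
  set Q0 : Subgroup G := (Q : Subgroup ↥M).map M.subtype with hQ0
  have hQ0card : Nat.card ↥Q0 = p ^ (Nat.card ↥M).factorization p := by
    rw [hQ0, Subgroup.card_map_of_injective M.subtype_injective, Sylow.card_eq_multiplicity]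
  have hQ0p : IsPGroup p ↥Q0 := IsPGroup.of_card hQ0card
  have hQ0M : Q0 ≤ M := Subgroup.map_subtype_le _
  obtain ⟨P', hP'⟩ := hQ0p.exists_le_sylow
  obtain ⟨g, hg⟩ := MulAction.exists_smul_eq G P' P
  have hle : Q0.map (MulAut.conj g).toMonoidHom ≤ (P : Subgroup G) ⊓ M := by
    rintro _ ⟨w, hw, rfl⟩
    refine ⟨?_, ?_⟩
    · rw [← hg, Sylow.coe_subgroup_smul]
      exact Subgroup.smul_mem_pointwise_smul _ _ _ (hP' hw)
    · show (MulAut.conj g) w ∈ M
      rw [MulAut.conj_apply]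
      exact hMn.conj_mem w (hQ0M hw) g
  have h1 : Nat.card ↥(Q0.map (MulAut.conj g).toMonoidHom) = p ^ (Nat.card ↥M).factorization p := by
    rw [Subgroup.card_map_of_injective (MulAut.conj g).injective, hQ0card]
  rw [← h1]
  exact Subgroup.card_dvd_of_le hle

end Cfsg.Agent.Lib.Helper7.BConj
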