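import Mathlib
import Cfsg.Agent.Lib.Helper7.BConjB

set_option autoImplicit false

/-!
Minimal supplements of a normal subgroup `M` over an abelian subgroup of `G ⧸ M`.
-/

namespace Cfsg.Agent.Lib.Helper7.BConj

variable {G : Type*} [Group G] [Finite G]

/-- `X` is a minimal subgroup of `G` mapping onto `Abar ≤ G ⧸ M` -/
structure MinSupp (M : Subgroup G) [M.Normal] (Abar : Subgroup (G ⧸ M)) (X : Subgroup G) : Prop where
  map_eq : X.map (QuotientGroup.mk' M) = Abar
  min : ∀ Y : Subgroup G, Y ≤ X → Y.map (QuotientGroup.mk' M) = Abar → Y = X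

theorem exists_minSupp (M : Subgroup G) [M.Normal] (Abar : Subgroup (G ⧸ M)) :
    ∃ X : Subgroup G, MinSupp M Abar X := by
  classical
  set s : Set (Subgroup G) := {X | X.map (QuotientGroup.mk' M) = Abar} with hs
  have hne : s.Nonempty :=
    ⟨Abar.comap (QuotientGroup.mk' M),
      Subgroup.map_comap_eq_self_of_surjective (QuotientGroup.mk'_surjective M) Abar⟩
  obtain ⟨X, hX, hmin⟩ := Set.exists_min_image s (fun X => Nat.card ↥X) (Set.toFinite s) hne
  refine ⟨X, hX, fun Y hYX hY => ?_⟩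
  exact Subgroup.eq_of_le_of_card_ge hYX (hmin Y hY)

section
variable {M : Subgroup G} [hMn : M.Normal] {Abar : Subgroup (G ⧸ M)} {X : Subgroup G}

theorem MinSupp.comm_mem (h : MinSupp M Abar X) (hA : IsMulCommutative ↥Abar) {x y : G}
    (hx : x ∈ X) (hy : y ∈ X) : x * y * x⁻¹ * y⁻¹ ∈ M := by
  have hx' : (QuotientGroup.mk' M) x ∈ Abar := by
    rw [← h.map_eq]; exact Subgroup.mem_map_of_mem _ hx
  have hy' : (QuotientGroup.mk' M) y ∈ Abar := by
    rw [← h.map_eq]; exact Subgroup.mem_map_of_mem _ hy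
  have hc := congrArg Subtype.val (hA.is_comm.comm ⟨_, hx'⟩ ⟨_, hy'⟩)
  simp only [Subgroup.coe_mul] at hc
  rw [← QuotientGroup.eq_one_iff]
  have : ((x * y * x⁻¹ * y⁻¹ : G) : G ⧸ M) =
      (QuotientGroup.mk' M) x * (QuotientGroup.mk' M) y * ((QuotientGroup.mk' M) x)⁻¹ *
        ((QuotientGroup.mk' M) y)⁻¹ := by
    simp
  rw [this, hc]
  group

/-- a subgroup of `↥X` that together with `M` covers `X` is everything -/
theorem MinSupp.eq_top_of_cover (h : MinSupp M Abar X) (Y : Subgroup ↥X)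
    (hY : ∀ x : ↥X, ∃ y ∈ Y, (x : G)⁻¹ * (y : G) ∈ M) : Y = ⊤ := by
  have h1 : (Y.map X.subtype).map (QuotientGroup.mk' M) = Abar := by
    apply le_antisymm
    · rw [← h.map_eq]
      exact Subgroup.map_mono (Subgroup.map_subtype_le Y)
    · intro a ha
      rw [← h.map_eq] at ha
      obtain ⟨x, hx, rfl⟩ := Subgroup.mem_map.mp ha
      obtain ⟨y, hyY, hy⟩ := hY ⟨x, hx⟩
      refine Subgroup.mem_map.mpr ⟨(y : G), Subgroup.mem_map.mpr ⟨y, hyY, rfl⟩, ?_⟩
      exact (QuotientGroup.eq.mpr hy).symm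
  have h2 := h.min _ (Subgroup.map_subtype_le Y) h1
  rw [eq_top_iff]
  intro x _
  have hx : (x : G) ∈ Y.map X.subtype := by rw [h2]; exact x.2
  obtain ⟨y, hy, hyx⟩ := Subgroup.mem_map.mp hx
  have : y = x := Subtype.ext hyx
  rw [← this]; exact hy

theorem MinSupp.coatom_normal (h : MinSupp M Abar X) (hA : IsMulCommutative ↥Abar)
    (Y : Subgroup ↥X) (hY : IsCoatom Y) : Y.Normal := by
  have hD : M.subgroupOf X ≤ Y := by
    by_contra hnot
    have hlt : Y < Y ⊔ M.subgroupOf X := by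
      refine lt_of_le_of_ne le_sup_left ?_
      intro heq
      apply hnot
      rw [heq]
      exact le_sup_right
    have htop : Y ⊔ M.subgroupOf X = ⊤ := hY.2 _ hlt
    apply hY.1
    apply h.eq_top_of_cover
    intro x
    have hx : x ∈ Y ⊔ M.subgroupOf X := by rw [htop]; exact Subgroup.mem_top x
    obtain ⟨y, hy, d, hd, hyd⟩ := Subgroup.mem_sup_of_normal_right.mp hx
    refine ⟨y, hy, ?_⟩
    have hd' : (d : G) ∈ M := Subgroup.mem_subgroupOf.mp hd
    have : (x : G) = (y : G) * (d : G) := by rw [← hyd]; rfl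
    rw [this, mul_inv_rev, inv_mul_cancel_right]
    exact M.inv_mem hd'
  refine ⟨fun y hy g => ?_⟩
  have hc : g * y * g⁻¹ * y⁻¹ ∈ M.subgroupOf X := by
    rw [Subgroup.mem_subgroupOf]
    have := h.comm_mem hA g.2 y.2
    simpa using this
  have : g * y * g⁻¹ = (g * y * g⁻¹ * y⁻¹) * y := by group
  rw [this]
  exact Y.mul_mem (hD hc) hy

theorem MinSupp.sylow_normal (h : MinSupp M Abar X) (hA : IsMulCommutative ↥Abar)
    (r : ℕ) [Fact r.Prime] (R : Sylow r ↥X) : (R : Subgroup ↥X).Normal := by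
  have h3 : ∀ Y : Subgroup ↥X, IsCoatom Y → Y.Normal := fun Y hY => h.coatom_normal hA Y hY
  have h4 : ∀ (p : ℕ) (_hp : Fact p.Prime) (P : Sylow p ↥X), (↑P : Subgroup ↥X).Normal :=
    ((Group.isNilpotent_of_finite_tfae (G := ↥X)).out 2 3 rfl rfl).mp h3
  exact h4 r inferInstance R

/-- a Sylow subgroup of `X` inside `M` is trivial -/
theorem MinSupp.sylow_eq_bot (h : MinSupp M Abar X) (hA : IsMulCommutative ↥Abar)
    (r : ℕ) [Fact r.Prime] (R : Sylow r ↥X) (hRM : (R : Subgroup ↥X) ≤ M.subgroupOf X) :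
    (R : Subgroup ↥X) = ⊥ := by
  haveI : (R : Subgroup ↥X).Normal := h.sylow_normal hA r R
  obtain ⟨K, hK⟩ := Subgroup.exists_right_complement'_of_coprime (N := (R : Subgroup ↥X))
    R.card_coprime_index
  have hKtop : K = ⊤ := by
    apply h.eq_top_of_cover
    intro x
    have hx : x ∈ K ⊔ (R : Subgroup ↥X) := by
      rw [sup_comm, hK.sup_eq_top]; exact Subgroup.mem_top x
    obtain ⟨y, hy, d, hd, hyd⟩ := Subgroup.mem_sup_of_normal_right.mp hx
    refine ⟨y, hy, ?_⟩
    have hd' : (d : G) ∈ M := Subgroup.mem_subgroupOf.mp (hRM hd)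
    have : (x : G) = (y : G) * (d : G) := by rw [← hyd]; rfl
    rw [this, mul_inv_rev, inv_mul_cancel_right]
    exact M.inv_mem hd'
  have hcard := hK.card_mul
  rw [hKtop, Subgroup.card_top] at hcard
  have hpos : 0 < Nat.card ↥X := Nat.card_pos
  have h1 : Nat.card ↥(R : Subgroup ↥X) = 1 := by
    have : Nat.card ↥(R : Subgroup ↥X) * Nat.card ↥X = 1 * Nat.card ↥X := by rw [hcard, one_mul]
    exact Nat.eq_of_mul_eq_mul_right hpos this
  exact Subgroup.card_eq_one.mp h1

end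

end Cfsg.Agent.Lib.Helper7.BConj
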