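import Mathlib
import Cfsg.Agent.Lib.Helper7.BConjC

set_option autoImplicit false

/-!
Minimal supplements are abelian of a determined order; the quotient theorem.
-/

namespace Cfsg.Agent.Lib.Helper7.BConj

variable {G : Type*} [Group G] [Finite G]

section
variable {M : Subgroup G} [hMn : M.Normal] {Abar : Subgroup (G ⧸ M)} {X : Subgroup G}

/-- a non-trivial Sylow `r`-subgroup of `X`, `r ∣ #M` odd, lies in a cyclic Sylow subgroup `P` of
`G` with `P ⊓ M ≤ X` -/
theorem MinSupp.exists_cyclic_sylow (hB : AbConj G) (hM : Odd (Nat.card ↥M))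
    (h : MinSupp M Abar X) (hA : IsMulCommutative ↥Abar) (r : ℕ) [hr : Fact r.Prime]
    (hrM : r ∣ Nat.card ↥M) (R : Sylow r ↥X) (hR : (R : Subgroup ↥X) ≠ ⊥) :
    ∃ P : Sylow r G, IsCyclic ↥(P : Subgroup G) ∧ (R : Subgroup ↥X).map X.subtype ≤ P ∧
      (P : Subgroup G) ⊓ M ≤ X := by
  have hr2 : r ≠ 2 := by
    rintro rfl
    rcases hM with ⟨m, hm⟩
    omega
  have hnot : ¬ (R : Subgroup ↥X) ≤ M.subgroupOf X := fun hle => hR (h.sylow_eq_bot hA r R hle)
  have hR0p : IsPGroup r ↥((R : Subgroup ↥X).map X.subtype) := R.2.map X.subtype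
  obtain ⟨P, hP⟩ := hR0p.exists_le_sylow
  have hPM : ¬ (P : Subgroup G) ≤ M := by
    intro hle
    apply hnot
    intro x hx
    rw [Subgroup.mem_subgroupOf]
    exact hle (hP (Subgroup.mem_map.mpr ⟨x, hx, rfl⟩))
  have hc : IsCyclic ↥(P : Subgroup G) := by
    rcases sylow_le_or_cyclic hB M hr2 hrM P with h1 | h1
    · exact absurd h1 hPM
    · exact h1
  have hR0M : ¬ (R : Subgroup ↥X).map X.subtype ≤ M := by
    intro hle
    apply hnot
    intro x hx
    rw [Subgroup.mem_subgroupOf]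
    exact hle (Subgroup.mem_map.mpr ⟨x, hx, rfl⟩)
  refine ⟨P, hc, hP, ?_⟩
  exact (inf_le_of_cyclic P hc _ M hP hR0M).trans (Subgroup.map_subtype_le _)

theorem MinSupp.sylow_comm (hB : AbConj G) (hM : Odd (Nat.card ↥M))
    (h : MinSupp M Abar X) (hA : IsMulCommutative ↥Abar) (r : ℕ) [hr : Fact r.Prime]
    (R : Sylow r ↥X) : ∀ a ∈ (R : Subgroup ↥X), ∀ b ∈ (R : Subgroup ↥X), a * b = b * a := by
  intro a ha b hb
  by_cases hrM : r ∣ Nat.card ↥M
  · by_cases hRbot : (R : Subgroup ↥X) = ⊥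
    · rw [hRbot, Subgroup.mem_bot] at ha hb
      rw [ha, hb]
    · obtain ⟨P, hc, hP, -⟩ := h.exists_cyclic_sylow hB hM hA r hrM R hRbot
      have haP : (a : G) ∈ (P : Subgroup G) := hP (Subgroup.mem_map.mpr ⟨a, ha, rfl⟩)
      have hbP : (b : G) ∈ (P : Subgroup G) := hP (Subgroup.mem_map.mpr ⟨b, hb, rfl⟩)
      obtain ⟨g, hg⟩ := hc.exists_generator
      obtain ⟨i, hi⟩ := Subgroup.mem_zpowers_iff.mp (hg ⟨(a : G), haP⟩)
      obtain ⟨j, hj⟩ := Subgroup.mem_zpowers_iff.mp (hg ⟨(b : G), hbP⟩)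
      have hcomm : (⟨(a : G), haP⟩ : ↥(P : Subgroup G)) * ⟨(b : G), hbP⟩ =
          ⟨(b : G), hbP⟩ * ⟨(a : G), haP⟩ := by
        rw [← hi, ← hj, ← zpow_add, ← zpow_add, add_comm]
      have h2 := congrArg (fun x : ↥(P : Subgroup G) => (x : G)) hcomm
      apply Subtype.ext
      simpa using h2
  · set c : ↥X := a * b * a⁻¹ * b⁻¹ with hcdef
    have hcR : c ∈ (R : Subgroup ↥X) :=
      Subgroup.mul_mem _ (Subgroup.mul_mem _ (Subgroup.mul_mem _ ha hb) (Subgroup.inv_mem _ ha))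
        (Subgroup.inv_mem _ hb)
    have hcM : (c : G) ∈ M := by
      have := h.comm_mem hA a.2 b.2
      simpa [hcdef] using this
    obtain ⟨k, hk⟩ := (IsPGroup.iff_orderOf.mp R.2) ⟨c, hcR⟩
    rw [Subgroup.orderOf_mk] at hk
    have hdvd : orderOf c ∣ Nat.card ↥M := by
      have h1 : orderOf (⟨(c : G), hcM⟩ : ↥M) ∣ Nat.card ↥M := orderOf_dvd_natCard _
      rw [Subgroup.orderOf_mk, Subgroup.orderOf_coe] at h1
      exact h1
    have hk0 : k = 0 := by
      by_contra hk0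
      apply hrM
      exact dvd_trans (hk ▸ dvd_pow_self r hk0) hdvd
    rw [hk0, pow_zero, orderOf_eq_one_iff] at hk
    have : a * b = c * (b * a) := by rw [hcdef]; group
    rw [this, hk, one_mul]

theorem MinSupp.comm (hB : AbConj G) (hM : Odd (Nat.card ↥M))
    (h : MinSupp M Abar X) (hA : IsMulCommutative ↥Abar) : IsMulCommutative ↥X := by
  have h3 : ∀ Y : Subgroup ↥X, IsCoatom Y → Y.Normal := fun Y hY => h.coatom_normal hA Y hY
  have h5 : Nonempty ((∀ p : (Nat.card ↥X).primeFactors, ∀ P : Sylow p ↥X, (↑P : Subgroup ↥X)) ≃* ↥X) :=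
    ((Group.isNilpotent_of_finite_tfae (G := ↥X)).out 2 4 rfl rfl).mp h3
  obtain ⟨e⟩ := h5
  refine ⟨⟨fun a b => ?_⟩⟩
  obtain ⟨u, rfl⟩ := e.surjective a
  obtain ⟨v, rfl⟩ := e.surjective b
  rw [← map_mul, ← map_mul]
  congr 1
  funext p P
  haveI : Fact (p : ℕ).Prime := ⟨Nat.prime_of_mem_primeFactors p.2⟩
  apply Subtype.ext
  exact h.sylow_comm hB hM hA (p : ℕ) P (u p P) (u p P).2 (v p P) (v p P).2

theorem MinSupp.card_eq (h : MinSupp M Abar X) :
    Nat.card ↥X = Nat.card ↥Abar * Nat.card ↥(M.subgroupOf X) := by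
  set φ : ↥X →* G ⧸ M := (QuotientGroup.mk' M).comp X.subtype with hφ
  have hker : φ.ker = M.subgroupOf X := by
    ext x
    rw [MonoidHom.mem_ker, Subgroup.mem_subgroupOf, hφ, MonoidHom.comp_apply]
    exact QuotientGroup.eq_one_iff _
  have hrange : φ.range = Abar := by
    rw [← h.map_eq]
    ext y
    constructor
    · rintro ⟨x, rfl⟩
      exact Subgroup.mem_map.mpr ⟨(x : G), x.2, rfl⟩
    · intro hy
      obtain ⟨x, hx, rfl⟩ := Subgroup.mem_map.mp hy
      exact ⟨⟨x, hx⟩, rfl⟩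
  have h1 := Subgroup.card_eq_card_quotient_mul_card_subgroup φ.ker
  have h2 : Nat.card (↥X ⧸ φ.ker) = Nat.card ↥φ.range :=
    Nat.card_congr (QuotientGroup.quotientKerEquivRange φ).toEquiv
  rw [h2, hrange, hker] at h1
  exact h1

theorem card_subgroupOf_eq (M X : Subgroup G) :
    Nat.card ↥(M.subgroupOf X) = Nat.card ↥(M ⊓ X) := by
  rw [← Subgroup.inf_subgroupOf_right M X]
  exact Nat.card_congr (Subgroup.subgroupOfEquivOfLe (inf_le_right : M ⊓ X ≤ X)).toEquiv

theorem MinSupp.factorization_ker (hB : AbConj G) (hM : Odd (Nat.card ↥M))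
    (h : MinSupp M Abar X) (hA : IsMulCommutative ↥Abar) (r : ℕ) (hr : r.Prime) :
    (Nat.card ↥(M.subgroupOf X)).factorization r =
      if r ∣ Nat.card ↥Abar then (Nat.card ↥M).factorization r else 0 := by
  haveI : Fact r.Prime := ⟨hr⟩
  have hD0 : Nat.card ↥(M.subgroupOf X) = Nat.card ↥(M ⊓ X) := card_subgroupOf_eq M X
  have hdvdM : Nat.card ↥(M ⊓ X) ∣ Nat.card ↥M := Subgroup.card_dvd_of_le inf_le_left
  have hMpos : Nat.card ↥M ≠ 0 := Nat.card_pos.ne'
  have hDpos : Nat.card ↥(M ⊓ X) ≠ 0 := Nat.card_pos.ne'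
  have hle : (Nat.card ↥(M ⊓ X)).factorization r ≤ (Nat.card ↥M).factorization r :=
    (Nat.factorization_le_iff_dvd hDpos hMpos).mpr hdvdM r
  obtain ⟨R⟩ : Nonempty (Sylow r ↥X) := inferInstance
  split_ifs with hrA
  · -- `r ∣ #Abar`
    by_cases hrM : r ∣ Nat.card ↥M
    · have hrX : r ∣ Nat.card ↥X := by
        rw [h.card_eq]; exact Dvd.dvd.mul_right hrA _
      have hRbot : (R : Subgroup ↥X) ≠ ⊥ := R.ne_bot_of_dvd_card hrX
      obtain ⟨P, -, -, hPX⟩ := h.exists_cyclic_sylow hB hM hA r hrM R hRbot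
      have h1 : (P : Subgroup G) ⊓ M ≤ M ⊓ X := le_inf inf_le_right hPX
      have h2 : r ^ (Nat.card ↥M).factorization r ∣ Nat.card ↥(M ⊓ X) :=
        (pow_factorization_dvd_card_inf M P).trans (Subgroup.card_dvd_of_le h1)
      have h3 : (Nat.card ↥M).factorization r ≤ (Nat.card ↥(M ⊓ X)).factorization r :=
        (hr.pow_dvd_iff_le_factorization hDpos).mp h2
      rw [hD0]
      exact le_antisymm hle h3
    · rw [hD0]
      have : (Nat.card ↥M).factorization r = 0 := Nat.factorization_eq_zero_of_not_dvd hrM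
      rw [this] at hle ⊢
      exact Nat.le_zero.mp hle
  · -- `r ∤ #Abar`
    apply Nat.factorization_eq_zero_of_not_dvd
    intro hrD
    have hrX : r ∣ Nat.card ↥X := by
      rw [h.card_eq]; exact Dvd.dvd.mul_left hrD _
    have hRbot : (R : Subgroup ↥X) ≠ ⊥ := R.ne_bot_of_dvd_card hrX
    apply hRbot
    apply h.sylow_eq_bot hA r R
    intro x hx
    rw [Subgroup.mem_subgroupOf, ← QuotientGroup.eq_one_iff]
    have hxA : ((x : G) : G ⧸ M) ∈ Abar := by
      rw [← h.map_eq]; exact Subgroup.mem_map.mpr ⟨(x : G), x.2, rfl⟩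
    obtain ⟨k, hk⟩ := (IsPGroup.iff_orderOf.mp R.2) ⟨x, hx⟩
    rw [Subgroup.orderOf_mk] at hk
    have h1 : orderOf ((x : G) : G ⧸ M) ∣ r ^ k := by
      rw [← hk]
      have : ((x : G) : G ⧸ M) = ((QuotientGroup.mk' M).comp X.subtype) x := rfl
      rw [this]
      exact orderOf_map_dvd _ x
    have h2 : orderOf ((x : G) : G ⧸ M) ∣ Nat.card ↥Abar := by
      have h3 : orderOf (⟨((x : G) : G ⧸ M), hxA⟩ : ↥Abar) ∣ Nat.card ↥Abar := orderOf_dvd_natCard _
      rw [Subgroup.orderOf_mk] at h3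
      exact h3
    have hcop : Nat.Coprime (r ^ k) (Nat.card ↥Abar) :=
      Nat.Coprime.pow_left k ((Nat.Prime.coprime_iff_not_dvd hr).mpr hrA)
    have h4 : orderOf ((x : G) : G ⧸ M) = 1 :=
      Nat.eq_one_of_dvd_coprimes hcop h1 h2
    exact orderOf_eq_one_iff.mp h4

end

/-- **Quotients by normal subgroups of odd order** inherit the conjugacy of abelian subgroups of
equal order. -/
theorem quotient_abConj (hB : AbConj G) (M : Subgroup G) [hMn : M.Normal]
    (hM : Odd (Nat.card ↥M)) : AbConj (G ⧸ M) := by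
  intro Abar Bbar hA hB' hcard
  obtain ⟨X, hX⟩ := exists_minSupp M Abar
  obtain ⟨X', hX'⟩ := exists_minSupp M Bbar
  have hXc := hX.comm hB hM hA
  have hX'c := hX'.comm hB hM hB'
  have hker : Nat.card ↥(M.subgroupOf X) = Nat.card ↥(M.subgroupOf X') := by
    apply Nat.eq_of_factorization_eq Nat.card_pos.ne' Nat.card_pos.ne'
    intro r
    by_cases hr : r.Prime
    · rw [hX.factorization_ker hB hM hA r hr, hX'.factorization_ker hB hM hB' r hr, hcard]
    · rw [Nat.factorization_eq_zero_of_not_prime _ hr, Nat.factorization_eq_zero_of_not_prime _ hr]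
  have hcardX : Nat.card ↥X = Nat.card ↥X' := by
    rw [hX.card_eq, hX'.card_eq, hker, hcard]
  obtain ⟨g, hg⟩ := hB X X' hXc hX'c hcardX
  refine ⟨(QuotientGroup.mk' M) g, ?_⟩
  rw [← hX'.map_eq, ← hX.map_eq, hg, Subgroup.map_map, Subgroup.map_map]
  congr 1

end Cfsg.Agent.Lib.Helper7.BConj
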