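import Mathlib
import Cfsg.Agent.Lib.Helper7.BL1

set_option autoImplicit false

/-!
# Brauer–Leonard: centralizers of non-identity elements of `P` have normal `p`-complements
-/

namespace Cfsg.Agent.Lib.Helper7.BL

open Cfsg Subgroup

variable {G : Type*} [Group G] {p : ℕ} {P : Sylow p G}

theorem Hyp.nilp [hp : Fact p.Prime] [Finite G] (h : Hyp p P) {y : G}
    (hy : y ∈ (P : Subgroup G)) (hy1 : y ≠ 1) :
    (∃ k : ℕ, (pPrimeCore p ↥(Subgroup.centralizer ({y} : Set G))).index = p ^ k) ∧
    ∀ v : G, Commute y v → ¬ p ∣ orderOf v → v ∈ centralizerPPrimeCore p y := by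
  classical
  set H : Subgroup G := Subgroup.centralizer ({y} : Set G) with hH
  have hPH : (P : Subgroup G) ≤ H := h.P_le_cent hy
  set P' : Sylow p H := P.subtype hPH with hP'
  have hmemP' : ∀ x : H, x ∈ (P' : Subgroup H) ↔ (x : G) ∈ (P : Subgroup G) := by
    intro x
    rw [hP', Sylow.coe_subtype, Subgroup.mem_subgroupOf]
  have hNC : Subgroup.normalizer ((P' : Subgroup H) : Set H) ≤
      Subgroup.centralizer ((P' : Subgroup H) : Set H) := by
    intro x hx
    have hxN : (x : G) ∈ Subgroup.normalizer ((P : Subgroup G) : Set G) := by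
      rw [Subgroup.mem_normalizer_iff]
      intro g
      constructor
      · intro hg
        have h1 : (⟨g, hPH hg⟩ : H) ∈ (P' : Subgroup H) := (hmemP' _).mpr hg
        have h2 := (Subgroup.mem_normalizer_iff.mp hx _).mp h1
        exact (hmemP' _).mp h2
      · intro hg
        have hgH : g ∈ H := by
          have h3 : (x : G) * g * (x : G)⁻¹ ∈ H := hPH hg
          have h4 : g = (x : G)⁻¹ * ((x : G) * g * (x : G)⁻¹) * (x : G) := by group
          rw [h4]
          exact H.mul_mem (H.mul_mem (H.inv_mem x.2) h3) x.2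
        have h2 : x * (⟨g, hgH⟩ : H) * x⁻¹ ∈ (P' : Subgroup H) := (hmemP' _).mpr hg
        have h1 := (Subgroup.mem_normalizer_iff.mp hx _).mpr h2
        exact (hmemP' _).mp h1
    have hxC : (x : G) ∈ Subgroup.centralizer ((P : Subgroup G) : Set G) := by
      rw [← h.hfrob y hy hy1]
      exact ⟨x.2, hxN⟩
    rw [Subgroup.mem_centralizer_iff]
    intro z hz
    have hz' : (z : G) ∈ (P : Subgroup G) := (hmemP' z).mp hz
    have := (Subgroup.mem_centralizer_iff.mp hxC) (z : G) hz'
    exact Subtype.ext this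
  set τ := MonoidHom.transferSylow P' hNC with hτ
  have hKn : τ.ker.Normal := MonoidHom.normal_ker τ
  have hKc : (Nat.card τ.ker).Coprime p := by
    have := MonoidHom.not_dvd_card_ker_transferSylow P' hNC
    exact ((Nat.Prime.coprime_iff_not_dvd hp.out).mpr this).symm
  have hKle : τ.ker ≤ pPrimeCore p ↥H := le_sSup ⟨hKn, hKc⟩
  constructor
  · have h1 : (pPrimeCore p ↥H).index ∣ τ.ker.index := Subgroup.index_dvd_of_le hKle
    have h2 : τ.ker.index = Nat.card (P' : Subgroup H) :=
      (MonoidHom.ker_transferSylow_isComplement' P' hNC).symm.index_eq_card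
    obtain ⟨n, hn⟩ := (IsPGroup.iff_card).mp P'.2
    rw [h2, hn] at h1
    obtain ⟨k, -, hk⟩ := (Nat.dvd_prime_pow hp.out).mp h1
    exact ⟨k, hk⟩
  · intro v hv hvp
    have hvH : v ∈ H := by
      rw [hH, Subgroup.mem_centralizer_singleton_iff]
      exact hv.eq.symm
    have hker : (⟨v, hvH⟩ : H) ∈ τ.ker := by
      rw [MonoidHom.mem_ker]
      have h1 : orderOf (τ ⟨v, hvH⟩) ∣ orderOf (⟨v, hvH⟩ : H) := orderOf_map_dvd τ _
      have h2 : orderOf (⟨v, hvH⟩ : H) = orderOf v := by
        rw [← Subgroup.orderOf_coe]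
      rw [h2] at h1
      obtain ⟨k, hk⟩ := (IsPGroup.iff_orderOf.mp P'.2) (τ ⟨v, hvH⟩)
      rw [hk] at h1
      rw [← orderOf_eq_one_iff, hk]
      by_contra hne
      have hk0 : k ≠ 0 := by
        rintro rfl
        exact hne (pow_zero p)
      apply hvp
      exact dvd_trans (dvd_pow_self p hk0) h1
    unfold centralizerPPrimeCore
    exact ⟨⟨v, hvH⟩, hKle hker, rfl⟩

end Cfsg.Agent.Lib.Helper7.BL
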