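import Mathlib
import Cfsg.Agent.Lib.Helper7.BL2
import Cfsg.Agent.Lib.Helper8.BA3
import Cfsg.Agent.S0947

set_option autoImplicit false

/-!
# Brauer–Leonard: the weight condition for the inner product formula
-/

namespace Cfsg.Agent.Lib.Helper7.BL

open Cfsg Subgroup
open Cfsg.Agent.Lib.Helper1 Cfsg.Agent.Lib.Helper4 Cfsg.Agent.Lib.Helper8

variable {G : Type*} [Group G] {p : ℕ} {P : Sylow p G}

theorem factorization_cent [hp : Fact p.Prime] [Finite G] (h : Hyp p P) {y : G}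
    (hy : y ∈ (P : Subgroup G)) :
    p ^ (Nat.card ↥(Subgroup.centralizer ({y} : Set G))).factorization p = Nat.card (P : Subgroup G) := by
  have h1 : Nat.card (P : Subgroup G) = p ^ (Nat.card G).factorization p := P.card_eq_multiplicity
  have h2 : Nat.card (P : Subgroup G) ∣ Nat.card ↥(Subgroup.centralizer ({y} : Set G)) :=
    Subgroup.card_dvd_of_le (h.P_le_cent hy)
  have h3 : Nat.card ↥(Subgroup.centralizer ({y} : Set G)) ∣ Nat.card G := Subgroup.card_subgroup_dvd_card _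
  have hH0 : Nat.card ↥(Subgroup.centralizer ({y} : Set G)) ≠ 0 := Nat.card_pos.ne'
  have hG0 : Nat.card G ≠ 0 := Nat.card_pos.ne'
  have h4 : (Nat.card ↥(Subgroup.centralizer ({y} : Set G))).factorization p ≤
      (Nat.card G).factorization p :=
    (Nat.factorization_le_iff_dvd hH0 hG0).mpr h3 p
  have h5 : (Nat.card G).factorization p ≤
      (Nat.card ↥(Subgroup.centralizer ({y} : Set G))).factorization p := by
    rw [h1] at h2
    exact (hp.out.pow_dvd_iff_le_factorization hH0).mp h2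
  rw [h1, le_antisymm h4 h5]

/-- the sum of the squares of the degrees in the principal block of `C_G(y)` is `|P|`. -/
theorem Hyp.lambda_cent [hp : Fact p.Prime] [Finite G] (h : Hyp p P) {M : Ideal AlgInt}
    (hM : IsPModular p M) {y : G} (hy : y ∈ (P : Subgroup G)) (hy1 : y ≠ 1) :
    ((∑ᶠ ψ ∈ principalBlock M ↥(Subgroup.centralizer ({y} : Set G)),
      (charDegree (ψ : ↥(Subgroup.centralizer ({y} : Set G)) → ℂ) : ℚ) ^ 2) : ℚ)
      = (Nat.card (P : Subgroup G) : ℚ) := by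
  classical
  have hyp : ∃ k : ℕ, orderOf y = p ^ k := by
    obtain ⟨k, hk⟩ := (IsPGroup.iff_orderOf.mp P.2) ⟨y, hy⟩
    exact ⟨k, by rw [← hk]; exact (Subgroup.orderOf_coe (⟨y, hy⟩ : (P : Subgroup G)))⟩
  have h1 : ¬ p ∣ orderOf (1 : ↥(Subgroup.centralizer ({y} : Set G))) := by
    rw [orderOf_one]
    exact fun hd => hp.out.one_lt.ne' (Nat.dvd_one.1 hd)
  obtain ⟨hi, hii⟩ := Cfsg.Agent.S0947.result p M hM y hyp hy1 1 h1
  have hii' := hii (h.nilp hy hy1).1
  rw [hi, factorization_cent h hy] at hii'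
  -- convert
  have hfin : (principalBlock M ↥(Subgroup.centralizer ({y} : Set G))).Finite := Set.toFinite _
  rw [finsum_mem_eq_finite_toFinset_sum _ hfin] at hii' ⊢
  have h3 : ∀ ψ : IrrCharacter ↥(Subgroup.centralizer ({y} : Set G)),
      ‖(ψ : ↥(Subgroup.centralizer ({y} : Set G)) → ℂ) (1 : ↥(Subgroup.centralizer ({y} : Set G)))‖ ^ 2
        = ((charDegree (ψ : ↥(Subgroup.centralizer ({y} : Set G)) → ℂ) : ℚ) ^ 2 : ℚ) := by
    intro ψ
    rw [(irr_apply_one_eq_charDegree ψ.2).1, Complex.norm_natCast]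
    push_cast
    rfl
  rw [Finset.sum_congr rfl fun ψ _ => h3 ψ] at hii'
  have h4 : ((∑ ψ ∈ hfin.toFinset,
      (charDegree (ψ : ↥(Subgroup.centralizer ({y} : Set G)) → ℂ) : ℚ) ^ 2 : ℚ) : ℝ)
      = ((Nat.card (P : Subgroup G) : ℚ) : ℝ) := by
    push_cast
    push_cast at hii'
    exact hii'
  exact_mod_cast h4

end Cfsg.Agent.Lib.Helper7.BL
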