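import Mathlib
import Cfsg.Agent.Lib.Helper7.BL3
import Cfsg.Agent.Lib.Helper7.BL7
import Cfsg.Agent.S4720

set_option autoImplicit false

/-!
# Brauer–Leonard: the Gram relations for the multiplicities (from Brauer's inner product formula)
-/

namespace Cfsg.Agent.Lib.Helper7.BL

open Cfsg Subgroup
open Cfsg.Agent.Lib.Helper1 Cfsg.Agent.Lib.Helper4 Cfsg.Agent.Lib.Helper8
open scoped ComplexConjugate

attribute [local instance] actHom

variable {G : Type*} [Group G] {p : ℕ} {P : Sylow p G}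

/-- the sum over the normalizer of the extension by zero of a linear character. -/
theorem sum_extend (K : Subgroup G) [Fintype ↥(Subgroup.normalizer (K : Set G))]
    (ψ₃ : ↥K →* ℂˣ) (y : ↥K) :
    ∑ x : ↥(Subgroup.normalizer (K : Set G)),
        extendByZero K (homFun ψ₃) ((x : G) * (y : G) * (x : G)⁻¹) =
      ∑ x : ↥(Subgroup.normalizer (K : Set G)), homFun (x⁻¹ • ψ₃) y := by
  refine Finset.sum_congr rfl fun x _ => ?_
  have h1 : (x : G) * (y : G) * (x : G)⁻¹ = ((conjK K x y : ↥K) : G) := (conjK_apply K x y).symm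
  rw [h1]
  unfold extendByZero
  rw [Subtype.val_injective.extend_apply]
  rw [homFun_apply, homFun_apply, actHom_apply, inv_inv]

/-- the inner sum of Brauer's formula for linear characters. -/
theorem sum_theta_eta [Finite G] (K : Subgroup G) [Fintype ↥K]
    [Fintype ↥(Subgroup.normalizer (K : Set G))] (ψ₁ ψ₃ : ↥K →* ℂˣ) :
    ∑ y : ↥K, homFun ψ₁ y *
        conj (∑ x : ↥(Subgroup.normalizer (K : Set G)), homFun (x⁻¹ • ψ₃) y) =
      (Nat.card ↥K : ℂ) *
        (Nat.card {x : ↥(Subgroup.normalizer (K : Set G)) // x • ψ₃ = ψ₁} : ℂ) := by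
  classical
  simp only [map_sum, Finset.mul_sum]
  rw [Finset.sum_comm]
  have h1 : ∀ x : ↥(Subgroup.normalizer (K : Set G)),
      ∑ y : ↥K, homFun ψ₁ y * conj (homFun (x⁻¹ • ψ₃) y) =
        (Nat.card ↥K : ℂ) * (if x⁻¹ • ψ₃ = ψ₁ then 1 else 0) := by
    intro x
    have h2 := hom_orth ψ₁ (x⁻¹ • ψ₃)
    rw [classInner_def] at h2
    have h3 : (Nat.card ↥K : ℂ) ≠ 0 := Nat.cast_ne_zero.mpr Nat.card_pos.ne'
    have h4 : ∑ y : ↥K, homFun ψ₁ y * conj (homFun (x⁻¹ • ψ₃) y) =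
        (Nat.card ↥K : ℂ) * ((Nat.card ↥K : ℂ)⁻¹ *
          ∑ y : ↥K, homFun ψ₁ y * conj (homFun (x⁻¹ • ψ₃) y)) := by
      field_simp
    rw [h4, h2]
    congr 1
    by_cases hx : x⁻¹ • ψ₃ = ψ₁
    · rw [if_pos hx, if_pos hx.symm]
    · rw [if_neg hx, if_neg (Ne.symm hx)]
  rw [Finset.sum_congr rfl (fun x _ => h1 x), ← Finset.mul_sum]
  congr 1
  rw [← Equiv.sum_comp (Equiv.inv ↥(Subgroup.normalizer (K : Set G)))]
  simp only [Equiv.inv_apply, inv_inv]
  rw [Finset.sum_boole, Nat.card_eq_fintype_card, Fintype.card_subtype]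

/-- **The Gram relation**, raw form. -/
theorem Hyp.gram_raw [Fact p.Prime] [Finite G] (h : Hyp p P) (hP1 : Nat.card P ≠ 1)
    {M : Ideal AlgInt} (hM : IsPModular p M) (ψ₁ ψ₂ ψ₃ : ↥(P : Subgroup G) →* ℂˣ) :
    ∑ᶠ χ ∈ principalBlock M G,
        (mu (P : Subgroup G) (χ : G → ℂ) ψ₁ - mu (P : Subgroup G) (χ : G → ℂ) ψ₂) *
          conj (mu (P : Subgroup G) (χ : G → ℂ) ψ₃) =
      ((Nat.card {x : ↥(Subgroup.normalizer ((P : Subgroup G) : Set G)) // x • ψ₃ = ψ₁} : ℂ) -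
        (Nat.card {x : ↥(Subgroup.normalizer ((P : Subgroup G) : Set G)) // x • ψ₃ = ψ₂} : ℂ)) /
        (Nat.card ↥(Subgroup.centralizer ((P : Subgroup G) : Set G)) : ℂ) := by
  classical
  haveI : Fintype ↥(P : Subgroup G) := Fintype.ofFinite _
  haveI : Fintype ↥(Subgroup.normalizer ((P : Subgroup G) : Set G)) := Fintype.ofFinite _
  set N : Subgroup G := Subgroup.normalizer ((P : Subgroup G) : Set G) with hN
  set U : Set G := {u | u ∈ (P : Subgroup G) ∧ u ≠ 1} with hU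
  have hUne : U.Nonempty := by
    by_contra hne
    apply hP1
    rw [Set.not_nonempty_iff_eq_empty] at hne
    have hsub : Subsingleton ↥(P : Subgroup G) := by
      constructor
      intro a b
      have ha : a = 1 := by
        by_contra ha
        have : (a : G) ∈ U := ⟨a.2, fun h0 => ha (Subtype.ext h0)⟩
        rw [hne] at this
        exact this
      have hb : b = 1 := by
        by_contra hb
        have : (b : G) ∈ U := ⟨b.2, fun h0 => hb (Subtype.ext h0)⟩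
        rw [hne] at this
        exact this
      rw [ha, hb]
    exact Nat.card_unique
  have hUN : ∀ n ∈ N, ∀ u ∈ U, n * u * n⁻¹ ∈ U := by
    intro n hn u hu
    refine ⟨(Subgroup.mem_normalizer_iff.mp hn u).mp hu.1, ?_⟩
    intro h0
    apply hu.2
    have : u = n⁻¹ * (n * u * n⁻¹) * n := by group
    rw [this, h0]
    group
  have hfus : ∀ u ∈ U, ∀ g : G, g * u * g⁻¹ ∈ ((P : Subgroup G) : Set G) →
      ∃ n ∈ N, n * u * n⁻¹ = g * u * g⁻¹ := fun u hu g hg => h.fusion u hu.1 g hg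
  have hC0 : (Nat.card ↥(Subgroup.centralizer ((P : Subgroup G) : Set G)) : ℚ) ≠ 0 :=
    Nat.cast_ne_zero.mpr Nat.card_pos.ne'
  set w : ℚ := (Nat.card ↥(P : Subgroup G) : ℚ) /
    (Nat.card ↥(Subgroup.centralizer ((P : Subgroup G) : Set G)) : ℚ) with hw
  have hwU : ∀ y ∈ U, ((∑ᶠ ψ ∈ principalBlock M ↥(Subgroup.centralizer ({y} : Set G)),
      (charDegree (ψ : ↥(Subgroup.centralizer ({y} : Set G)) → ℂ) : ℚ) ^ 2) : ℚ) =
        w * Nat.card ↥(N ⊓ Subgroup.centralizer ({y} : Set G)) := by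
    intro y hy
    rw [h.lambda_cent hM hy.1 hy.2, h.card_inf hy.1 hy.2, hw]
    field_simp
  have hθ : IsGeneralizedCharacter ↥(P : Subgroup G) (homFun ψ₁ - homFun ψ₂) :=
    isGenChar_sub (isGenChar_of_irr (homFun_irr ψ₁)) (isGenChar_of_irr (homFun_irr ψ₂))
  have hη : IsGeneralizedCharacter ↥(P : Subgroup G) (homFun ψ₃) :=
    isGenChar_of_irr (homFun_irr ψ₃)
  have hθU : ∀ y : ↥(P : Subgroup G), (y : G) ∉ U → (homFun ψ₁ - homFun ψ₂) y = 0 := by
    intro y hy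
    have hy1 : y = 1 := by
      by_contra hne
      exact hy ⟨y.2, fun h0 => hne (Subtype.ext h0)⟩
    rw [hy1, Pi.sub_apply, homFun_apply, homFun_apply, map_one, map_one, sub_self]
  have key := Cfsg.Agent.S4720.result p M hM (P : Subgroup G) P.isPGroup' N
    Subgroup.le_normalizer le_rfl U hUne (fun u hu => hu.1) hUN hfus w hwU
    (homFun ψ₁ - homFun ψ₂) (homFun ψ₃) hθ hη hθU
  have hL : ∀ χ : IrrCharacter G,
      ((Nat.card ↥(P : Subgroup G) : ℂ)⁻¹ * ∑ᶠ y : ↥(P : Subgroup G), (χ : G → ℂ) (y : G) *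
        (homFun ψ₁ - homFun ψ₂) y⁻¹) =
      mu (P : Subgroup G) (χ : G → ℂ) ψ₁ - mu (P : Subgroup G) (χ : G → ℂ) ψ₂ := by
    intro χ
    unfold mu
    rw [← mul_sub, ← finsum_sub_distrib (Set.toFinite _) (Set.toFinite _)]
    congr 1
    refine finsum_congr fun y => ?_
    rw [Pi.sub_apply, mul_sub]
  have hL2 : ∀ χ : IrrCharacter G,
      ((Nat.card ↥(P : Subgroup G) : ℂ)⁻¹ * ∑ᶠ y : ↥(P : Subgroup G), (χ : G → ℂ) (y : G) *
        (homFun ψ₃) y⁻¹) = mu (P : Subgroup G) (χ : G → ℂ) ψ₃ := fun χ => rfl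
  simp only [hL, hL2] at key
  rw [key]
  simp only [finsum_eq_sum_of_fintype]
  have h5 : ∀ y : ↥(P : Subgroup G), ∑ x : ↥N,
      extendByZero (P : Subgroup G) (homFun ψ₃) ((x : G) * (y : G) * (x : G)⁻¹) =
      ∑ x : ↥N, homFun (x⁻¹ • ψ₃) y := fun y => sum_extend (P : Subgroup G) ψ₃ y
  simp only [h5, Pi.sub_apply, sub_mul, Finset.sum_sub_distrib]
  rw [sum_theta_eta, sum_theta_eta, hw]
  have hP0 : (Nat.card ↥(P : Subgroup G) : ℂ) ≠ 0 := Nat.cast_ne_zero.mpr Nat.card_pos.ne'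
  have hC0' : (Nat.card ↥(Subgroup.centralizer ((P : Subgroup G) : Set G)) : ℂ) ≠ 0 :=
    Nat.cast_ne_zero.mpr Nat.card_pos.ne'
  push_cast
  field_simp

end Cfsg.Agent.Lib.Helper7.BL
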