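import Mathlib
import Cfsg.Agent.Lib.Helper7.BL8
import Cfsg.Agent.S0925
import Cfsg.Agent.Lib.Helper8.BlockDefect

set_option autoImplicit false

/-!
# Brauer–Leonard: integral Gram relations, block orthogonality, expansion on `P`
-/

namespace Cfsg.Agent.Lib.Helper7.BL

open Cfsg Subgroup
open Cfsg.Agent.Lib.Helper1 Cfsg.Agent.Lib.Helper4 Cfsg.Agent.Lib.Helper8
open scoped ComplexConjugate

attribute [local instance] actHom

variable {G : Type*} [Group G] {p : ℕ} {P : Sylow p G}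

open Classical in
/-- the right hand side of the Gram relation. -/
noncomputable def kap (K : Subgroup G) (ψ₁ ψ₃ : ↥K →* ℂˣ) : ℤ :=
  if ψ₃ = 1 then
    (if ψ₁ = 1 then ((Subgroup.centralizer (K : Set G)).relIndex
      (Subgroup.normalizer (K : Set G)) : ℤ) else 0)
  else (if ψ₁ ∈ MulAction.orbit ↥(Subgroup.normalizer (K : Set G)) ψ₃ then 1 else 0)

theorem card_normalizer_eq (P : Sylow p G) :
    Nat.card ↥(Subgroup.normalizer ((P : Subgroup G) : Set G)) =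
      (Subgroup.centralizer ((P : Subgroup G) : Set G)).relIndex
        (Subgroup.normalizer ((P : Subgroup G) : Set G)) *
      Nat.card ↥(Subgroup.centralizer ((P : Subgroup G) : Set G)) := by
  rw [← Subgroup.card_mul_index ((Subgroup.centralizer ((P : Subgroup G) : Set G)).subgroupOf
    (Subgroup.normalizer ((P : Subgroup G) : Set G))),
    Nat.card_congr (Subgroup.subgroupOfEquivOfLe (C_le_N P)).toEquiv, mul_comm]
  rfl

theorem Hyp.card_div [Finite G] (h : Hyp p P) (ψ₁ ψ₃ : ↥(P : Subgroup G) →* ℂˣ) :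
    (Nat.card {x : ↥(Subgroup.normalizer ((P : Subgroup G) : Set G)) // x • ψ₃ = ψ₁} : ℂ) /
      (Nat.card ↥(Subgroup.centralizer ((P : Subgroup G) : Set G)) : ℂ) =
    (kap (P : Subgroup G) ψ₁ ψ₃ : ℂ) := by
  classical
  have hC0 : (Nat.card ↥(Subgroup.centralizer ((P : Subgroup G) : Set G)) : ℂ) ≠ 0 :=
    Nat.cast_ne_zero.mpr Nat.card_pos.ne'
  unfold kap
  by_cases h3 : ψ₃ = 1
  · subst h3
    rw [if_pos rfl, card_fiber_one]
    by_cases h1 : ψ₁ = 1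
    · rw [if_pos h1, if_pos h1, card_normalizer_eq]
      push_cast
      field_simp
    · rw [if_neg h1, if_neg h1]
      simp
  · rw [if_neg h3, h.card_fiber h3]
    by_cases h1 : ψ₁ ∈ MulAction.orbit ↥(Subgroup.normalizer ((P : Subgroup G) : Set G)) ψ₃
    · rw [if_pos h1, if_pos h1]
      push_cast
      field_simp
    · rw [if_neg h1, if_neg h1]
      simp

/-- **The Gram relation**, integral form. -/
theorem Hyp.gramZ [Fact p.Prime] [Finite G] (h : Hyp p P) (hP1 : Nat.card P ≠ 1)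
    {M : Ideal AlgInt} (hM : IsPModular p M) (B : Finset (IrrCharacter G))
    (hB : (B : Set (IrrCharacter G)) = principalBlock M G)
    (ψ₁ ψ₂ ψ₃ : ↥(P : Subgroup G) →* ℂˣ) :
    ∑ χ ∈ B, (muZ (P : Subgroup G) χ ψ₁ - muZ (P : Subgroup G) χ ψ₂) * muZ (P : Subgroup G) χ ψ₃ =
      kap (P : Subgroup G) ψ₁ ψ₃ - kap (P : Subgroup G) ψ₂ ψ₃ := by
  have key := h.gram_raw hP1 hM ψ₁ ψ₂ ψ₃
  rw [← hB, finsum_mem_coe_finset, sub_div, h.card_div, h.card_div] at key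
  have h1 : ∀ χ ∈ B, (mu (P : Subgroup G) (χ : G → ℂ) ψ₁ - mu (P : Subgroup G) (χ : G → ℂ) ψ₂) *
      conj (mu (P : Subgroup G) (χ : G → ℂ) ψ₃) =
      (((muZ (P : Subgroup G) χ ψ₁ - muZ (P : Subgroup G) χ ψ₂) * muZ (P : Subgroup G) χ ψ₃ : ℤ) : ℂ) := by
    intro χ _
    rw [muZ_spec, muZ_spec, muZ_spec, map_intCast]
    push_cast
    ring
  rw [Finset.sum_congr rfl h1] at key
  exact_mod_cast key

theorem Hyp.gramZ4 [Fact p.Prime] [Finite G] (h : Hyp p P) (hP1 : Nat.card P ≠ 1)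
    {M : Ideal AlgInt} (hM : IsPModular p M) (B : Finset (IrrCharacter G))
    (hB : (B : Set (IrrCharacter G)) = principalBlock M G)
    (ψ₁ ψ₂ ψ₃ ψ₄ : ↥(P : Subgroup G) →* ℂˣ) :
    ∑ χ ∈ B, (muZ (P : Subgroup G) χ ψ₁ - muZ (P : Subgroup G) χ ψ₂) *
        (muZ (P : Subgroup G) χ ψ₃ - muZ (P : Subgroup G) χ ψ₄) =
      kap (P : Subgroup G) ψ₁ ψ₃ - kap (P : Subgroup G) ψ₂ ψ₃ -
        kap (P : Subgroup G) ψ₁ ψ₄ + kap (P : Subgroup G) ψ₂ ψ₄ := by
  have h3 := h.gramZ hP1 hM B hB ψ₁ ψ₂ ψ₃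
  have h4 := h.gramZ hP1 hM B hB ψ₁ ψ₂ ψ₄
  have : ∑ χ ∈ B, (muZ (P : Subgroup G) χ ψ₁ - muZ (P : Subgroup G) χ ψ₂) *
        (muZ (P : Subgroup G) χ ψ₃ - muZ (P : Subgroup G) χ ψ₄) =
      ∑ χ ∈ B, (muZ (P : Subgroup G) χ ψ₁ - muZ (P : Subgroup G) χ ψ₂) * muZ (P : Subgroup G) χ ψ₃ -
      ∑ χ ∈ B, (muZ (P : Subgroup G) χ ψ₁ - muZ (P : Subgroup G) χ ψ₂) * muZ (P : Subgroup G) χ ψ₄ := by
    rw [← Finset.sum_sub_distrib]
    refine Finset.sum_congr rfl fun χ _ => ?_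
    ring
  rw [this, h3, h4]
  ring

/-- **Block orthogonality** for the multiplicities. -/
theorem Hyp.orthZ [hp : Fact p.Prime] [Finite G] (h : Hyp p P)
    {M : Ideal AlgInt} (hM : IsPModular p M) (B : Finset (IrrCharacter G))
    (hB : (B : Set (IrrCharacter G)) = principalBlock M G)
    (ψ₁ ψ₂ : ↥(P : Subgroup G) →* ℂˣ) (g : G) (hg : ¬ p ∣ orderOf g) :
    ∑ χ ∈ B, ((muZ (P : Subgroup G) χ ψ₁ - muZ (P : Subgroup G) χ ψ₂ : ℤ) : ℂ) *
      (χ : G → ℂ) g = 0 := by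
  classical
  haveI : Fintype ↥(P : Subgroup G) := Fintype.ofFinite _
  have hg' : ¬ p ∣ orderOf g⁻¹ := by rw [orderOf_inv]; exact hg
  have hpart1 : IsPPart p g⁻¹ 1 := by
    refine ⟨g⁻¹, one_mul _, Commute.one_left _, ⟨0, ?_⟩, hg'⟩
    rw [orderOf_one, pow_zero]
  -- block orthogonality at `y ≠ 1`
  have horth : ∀ y : ↥(P : Subgroup G), y ≠ 1 →
      ∑ χ ∈ B, (χ : G → ℂ) (y : G) * (χ : G → ℂ) g = 0 := by
    intro y hy
    have hyp : ∃ k : ℕ, orderOf (y : G) = p ^ k := by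
      obtain ⟨k, hk⟩ := (IsPGroup.iff_orderOf.mp P.2) y
      exact ⟨k, by rw [← hk]; exact (Subgroup.orderOf_coe y)⟩
    have h1 := (Cfsg.Agent.S0925.result p M hM).2 (y : G) g⁻¹ (y : G) 1
      (isPPart_self hyp hp.out) hpart1 (by
        rw [isConj_one_left]
        exact fun h0 => hy (Subtype.ext h0)) (principalBlock M G) isPBlock_principalBlock
    rw [← hB, finsum_mem_coe_finset, inv_inv] at h1
    exact h1
  -- the sum of `μ_χ(ψ) χ(g)` does not depend on `ψ`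
  have hsum : ∀ ψ : ↥(P : Subgroup G) →* ℂˣ,
      ∑ χ ∈ B, mu (P : Subgroup G) (χ : G → ℂ) ψ * (χ : G → ℂ) g =
        (Nat.card ↥(P : Subgroup G) : ℂ)⁻¹ * ∑ χ ∈ B, (χ : G → ℂ) 1 * (χ : G → ℂ) g := by
    intro ψ
    unfold mu
    simp only [finsum_eq_sum_of_fintype]
    have h2 : ∀ χ ∈ B, (Nat.card ↥(P : Subgroup G) : ℂ)⁻¹ *
        (∑ y : ↥(P : Subgroup G), (χ : G → ℂ) (y : G) * homFun ψ y⁻¹) * (χ : G → ℂ) g =
        (Nat.card ↥(P : Subgroup G) : ℂ)⁻¹ *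
        ∑ y : ↥(P : Subgroup G), homFun ψ y⁻¹ * ((χ : G → ℂ) (y : G) * (χ : G → ℂ) g) := by
      intro χ _
      rw [mul_assoc, Finset.sum_mul]
      congr 1
      refine Finset.sum_congr rfl fun y _ => ?_
      ring
    rw [Finset.sum_congr rfl h2, ← Finset.mul_sum, Finset.sum_comm]
    congr 1
    simp only [← Finset.mul_sum]
    rw [Finset.sum_eq_single (1 : ↥(P : Subgroup G))]
    · rw [inv_one, homFun_apply, map_one, Units.val_one, one_mul]
      rfl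
    · intro y _ hy
      rw [horth y hy, mul_zero]
    · intro h0
      exact absurd (Finset.mem_univ _) h0
  have h3 : ∀ χ ∈ B, ((muZ (P : Subgroup G) χ ψ₁ - muZ (P : Subgroup G) χ ψ₂ : ℤ) : ℂ) *
      (χ : G → ℂ) g = mu (P : Subgroup G) (χ : G → ℂ) ψ₁ * (χ : G → ℂ) g -
        mu (P : Subgroup G) (χ : G → ℂ) ψ₂ * (χ : G → ℂ) g := by
    intro χ _
    rw [muZ_spec, muZ_spec]
    push_cast
    ring
  rw [Finset.sum_congr rfl h3, Finset.sum_sub_distrib, hsum, hsum, sub_self]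

/-- the expansion of the restriction to `P`. -/
theorem Hyp.expandZ [Finite G] (h : Hyp p P) [Fintype (↥(P : Subgroup G) →* ℂˣ)]
    (χ : IrrCharacter G) (y : ↥(P : Subgroup G)) :
    (χ : G → ℂ) (y : G) =
      ∑ ψ : ↥(P : Subgroup G) →* ℂˣ, (muZ (P : Subgroup G) χ ψ : ℂ) * homFun ψ y := by
  classical
  haveI : Fintype ↥(P : Subgroup G) := Fintype.ofFinite _
  have hcomm : ∀ a b : ↥(P : Subgroup G), a * b = b * a :=
    fun a b => Subtype.ext (h.hab a a.2 b b.2)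
  have h1 := hom_expansion hcomm (fun y : ↥(P : Subgroup G) => (χ : G → ℂ) (y : G))
  have h2 := congrFun h1 y
  rw [Finset.sum_apply] at h2
  rw [h2]
  refine Finset.sum_congr rfl fun ψ _ => ?_
  rw [Pi.smul_apply, smul_eq_mul, ← mu_eq_classInner, muZ_spec]

end Cfsg.Agent.Lib.Helper7.BL
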