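import Mathlib
import Cfsg.Agent.Lib.Helper7.BL9
import Cfsg.Agent.Lib.Helper2.Exceptional

set_option autoImplicit false

/-!
# Brauer–Leonard: the exceptional characters
-/

namespace Cfsg.Agent.Lib.Helper7.BL

open Cfsg Subgroup
open Cfsg.Agent.Lib.Helper1 Cfsg.Agent.Lib.Helper4 Cfsg.Agent.Lib.Helper8
open Cfsg.Agent.Lib.Helper2.Exceptional
open scoped ComplexConjugate

attribute [local instance] actHom

section Lin

variable {G : Type*} [Group G] [Fintype G]

theorem classInner_lin_irr (B : Finset (IrrCharacter G)) (a : IrrCharacter G → ℂ)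
    (χ' : IrrCharacter G) [Decidable (χ' ∈ B)] :
    classInner (∑ χ ∈ B, a χ • (χ : G → ℂ)) (χ' : G → ℂ) = if χ' ∈ B then a χ' else 0 := by
  classical
  rw [classInner_sum_left]
  have h1 : ∀ χ ∈ B, classInner (a χ • (χ : G → ℂ)) (χ' : G → ℂ) =
      if χ = χ' then a χ else 0 := by
    intro χ _
    rw [classInner_smul_left, classInner_irr χ.2 χ'.2]
    by_cases h : χ = χ'
    · rw [if_pos h, if_pos (congrArg Subtype.val h), mul_one]
    · rw [if_neg h, if_neg (fun h' => h (Subtype.ext h')), mul_zero]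
  rw [Finset.sum_congr rfl h1, Finset.sum_ite_eq' B χ' a]
  congr

theorem classInner_lin (B : Finset (IrrCharacter G)) (a b : IrrCharacter G → ℂ) :
    classInner (∑ χ ∈ B, a χ • (χ : G → ℂ)) (∑ χ ∈ B, b χ • (χ : G → ℂ)) =
      ∑ χ ∈ B, a χ * conj (b χ) := by
  classical
  rw [classInner_sum_right]
  refine Finset.sum_congr rfl fun χ' hχ' => ?_
  rw [classInner_smul_right, classInner_lin_irr, if_pos hχ', mul_comm]

end Lin

variable {G : Type*} [Group G] [Fintype G] {p : ℕ} {P : Sylow p G}

/-- the differences of the restrictions, as generalized characters of `G`. -/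
noncomputable def vv (P : Sylow p G) (B : Finset (IrrCharacter G))
    (i j : Idx (P : Subgroup G)) : G → ℂ :=
  ∑ χ ∈ B, ((muZ (P : Subgroup G) χ (rep (P : Subgroup G) i) -
    muZ (P : Subgroup G) χ (rep (P : Subgroup G) j) : ℤ) : ℂ) • (χ : G → ℂ)

theorem kap_rep_self (i : Idx (P : Subgroup G)) :
    kap (P : Subgroup G) (rep (P : Subgroup G) i) (rep (P : Subgroup G) i) = 1 := by
  unfold kap
  rw [if_neg (rep_ne_one _ i), if_pos (MulAction.mem_orbit_self _)]

theorem kap_rep_ne {i j : Idx (P : Subgroup G)} (hij : i ≠ j) :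
    kap (P : Subgroup G) (rep (P : Subgroup G) i) (rep (P : Subgroup G) j) = 0 := by
  unfold kap
  rw [if_neg (rep_ne_one _ j), if_neg]
  intro hmem
  apply hij
  rw [← idxOf_rep (P : Subgroup G) i, ← idxOf_rep (P : Subgroup G) j]
  exact (idxOf_eq_iff _ (rep_ne_one _ i) (rep_ne_one _ j)).mpr hmem

theorem Hyp.sys [Fact p.Prime] (h : Hyp p P) (hP1 : Nat.card P ≠ 1)
    {M : Ideal AlgInt} (hM : IsPModular p M) (B : Finset (IrrCharacter G))
    (hB : (B : Set (IrrCharacter G)) = principalBlock M G) : Sys (vv P B) where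
  gen := by
    intro i j
    unfold vv
    apply isGenChar_sum
    intro χ _
    rw [Int.cast_smul_eq_zsmul]
    exact Cfsg.Agent.Lib.Helper2.TIFN.isGenChar_zsmul (isGenChar_of_irr χ.2) _
  one := by
    intro i j
    unfold vv
    rw [Finset.sum_apply]
    have h1 := h.orthZ hM B hB (rep (P : Subgroup G) i) (rep (P : Subgroup G) j) 1 (by
      rw [orderOf_one]
      exact fun hd => (Fact.out : p.Prime).one_lt.ne' (Nat.dvd_one.1 hd))
    simpa only [Pi.smul_apply, smul_eq_mul] using h1
  add := by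
    intro i j k
    unfold vv
    rw [← Finset.sum_add_distrib]
    refine Finset.sum_congr rfl fun χ _ => ?_
    rw [← add_smul]
    congr 1
    push_cast
    ring
  norm := by
    intro i j hij
    unfold vv
    rw [classInner_lin]
    have h1 := h.gramZ4 hP1 hM B hB (rep (P : Subgroup G) i) (rep (P : Subgroup G) j)
      (rep (P : Subgroup G) i) (rep (P : Subgroup G) j)
    rw [kap_rep_self, kap_rep_self, kap_rep_ne hij, kap_rep_ne (Ne.symm hij)] at h1
    have h2 : ∀ χ ∈ B, ((muZ (P : Subgroup G) χ (rep (P : Subgroup G) i) -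
        muZ (P : Subgroup G) χ (rep (P : Subgroup G) j) : ℤ) : ℂ) *
        conj ((muZ (P : Subgroup G) χ (rep (P : Subgroup G) i) -
        muZ (P : Subgroup G) χ (rep (P : Subgroup G) j) : ℤ) : ℂ) =
        (((muZ (P : Subgroup G) χ (rep (P : Subgroup G) i) -
        muZ (P : Subgroup G) χ (rep (P : Subgroup G) j)) *
        (muZ (P : Subgroup G) χ (rep (P : Subgroup G) i) -
        muZ (P : Subgroup G) χ (rep (P : Subgroup G) j)) : ℤ) : ℂ) := by
      intro χ _
      rw [map_intCast]
      push_cast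
      ring
    rw [Finset.sum_congr rfl h2, ← Int.cast_sum, h1]
    norm_num
  inner := by
    intro i j k hij hik hjk
    unfold vv
    rw [classInner_lin]
    have h1 := h.gramZ4 hP1 hM B hB (rep (P : Subgroup G) i) (rep (P : Subgroup G) j)
      (rep (P : Subgroup G) i) (rep (P : Subgroup G) k)
    rw [kap_rep_self, kap_rep_ne (Ne.symm hij), kap_rep_ne hik, kap_rep_ne hjk] at h1
    have h2 : ∀ χ ∈ B, ((muZ (P : Subgroup G) χ (rep (P : Subgroup G) i) -
        muZ (P : Subgroup G) χ (rep (P : Subgroup G) j) : ℤ) : ℂ) *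
        conj ((muZ (P : Subgroup G) χ (rep (P : Subgroup G) i) -
        muZ (P : Subgroup G) χ (rep (P : Subgroup G) k) : ℤ) : ℂ) =
        (((muZ (P : Subgroup G) χ (rep (P : Subgroup G) i) -
        muZ (P : Subgroup G) χ (rep (P : Subgroup G) j)) *
        (muZ (P : Subgroup G) χ (rep (P : Subgroup G) i) -
        muZ (P : Subgroup G) χ (rep (P : Subgroup G) k)) : ℤ) : ℂ) := by
      intro χ _
      rw [map_intCast]
      push_cast
      ring
    rw [Finset.sum_congr rfl h2, ← Int.cast_sum, h1]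
    norm_num

/-- **The exceptional characters.** -/
theorem Hyp.exceptional [Fact p.Prime] (h : Hyp p P) (hP1 : Nat.card P ≠ 1)
    {M : Ideal AlgInt} (hM : IsPModular p M) (B : Finset (IrrCharacter G))
    (hB : (B : Set (IrrCharacter G)) = principalBlock M G)
    [Nontrivial (Idx (P : Subgroup G))] :
    ∃ (e : ℤ) (f : Idx (P : Subgroup G) → IrrCharacter G), (e = 1 ∨ e = -1) ∧
      Function.Injective f ∧ (∀ i, f i ∈ B) ∧
      ∀ χ ∈ B, ∀ i j, muZ (P : Subgroup G) χ (rep (P : Subgroup G) i) -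
        muZ (P : Subgroup G) χ (rep (P : Subgroup G) j) =
        e * ((if χ = f i then 1 else 0) - (if χ = f j then 1 else 0)) := by
  classical
  obtain ⟨ε, hε, f, hf, hv⟩ := (h.sys hP1 hM B hB).main
  -- the integer sign
  obtain ⟨e, he, heε⟩ : ∃ e : ℤ, (e = 1 ∨ e = -1) ∧ ε = (e : ℂ) := by
    rcases hε with h1 | h1
    · exact ⟨1, Or.inl rfl, by rw [h1]; norm_num⟩
    · exact ⟨-1, Or.inr rfl, by rw [h1]; norm_num⟩
  have hε0 : ε ≠ 0 := by
    rcases hε with h1 | h1 <;> rw [h1] <;> norm_num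
  -- coefficient comparison
  have hcoef : ∀ (i j : Idx (P : Subgroup G)) (χ' : IrrCharacter G),
      (if χ' ∈ B then ((muZ (P : Subgroup G) χ' (rep (P : Subgroup G) i) -
        muZ (P : Subgroup G) χ' (rep (P : Subgroup G) j) : ℤ) : ℂ) else 0) =
      ε * ((if χ' = f i then 1 else 0) - (if χ' = f j then 1 else 0)) := by
    intro i j χ'
    have h1 : classInner (vv P B i j) (χ' : G → ℂ) =
        classInner (ε • ((f i : G → ℂ) - (f j : G → ℂ))) (χ' : G → ℂ) := by rw [hv i j]
    unfold vv at h1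
    rw [classInner_lin_irr, classInner_smul_left, classInner_sub_left,
      classInner_irr (f i).2 χ'.2, classInner_irr (f j).2 χ'.2] at h1
    rw [h1]
    congr 2
    · by_cases hc : χ' = f i
      · rw [if_pos hc, if_pos (congrArg Subtype.val hc.symm)]
      · rw [if_neg hc, if_neg (fun h' => hc (Subtype.ext h').symm)]
    · by_cases hc : χ' = f j
      · rw [if_pos hc, if_pos (congrArg Subtype.val hc.symm)]
      · rw [if_neg hc, if_neg (fun h' => hc (Subtype.ext h').symm)]
  have hfB : ∀ i, f i ∈ B := by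
    intro i
    by_contra hni
    obtain ⟨j, hj⟩ := exists_ne i
    have h1 := hcoef i j (f i)
    rw [if_neg hni, if_pos rfl, if_neg (fun h' => hj (hf h').symm)] at h1
    apply hε0
    rw [h1]
    ring
  refine ⟨e, f, he, hf, hfB, ?_⟩
  intro χ hχ i j
  have h1 := hcoef i j χ
  rw [if_pos hχ, heε] at h1
  have h2 : ((if χ = f i then (1 : ℂ) else 0) - (if χ = f j then (1 : ℂ) else 0)) =
      (((if χ = f i then (1 : ℤ) else 0) - (if χ = f j then (1 : ℤ) else 0) : ℤ) : ℂ) := by
    push_cast
    rfl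
  rw [h2] at h1
  exact_mod_cast h1

end Cfsg.Agent.Lib.Helper7.BL
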