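import Mathlib
import Cfsg.Agent.Lib.Helper7.BL2
import Cfsg.Agent.Lib.Helper7.BL10
import Cfsg.Agent.S0942
import Cfsg.Agent.Lib.Helper8.BlockLocal

set_option autoImplicit false

/-!
# Brauer–Leonard: values of the characters of the principal block
-/

namespace Cfsg.Agent.Lib.Helper7.BL

open Cfsg Subgroup
open Cfsg.Agent.Lib.Helper1 Cfsg.Agent.Lib.Helper4 Cfsg.Agent.Lib.Helper8
open scoped ComplexConjugate

attribute [local instance] actHom

/-- the sum of the values of all linear characters of an abelian group at a non-identity element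
vanishes. -/
theorem sum_hom_eq_zero {A : Type*} [Group A] [Finite A] [Fintype (A →* ℂˣ)]
    (hcomm : ∀ a b : A, a * b = b * a) {y : A} (hy : y ≠ 1) :
    ∑ ψ : A →* ℂˣ, homFun ψ y = 0 := by
  classical
  haveI : Fintype A := Fintype.ofFinite _
  have h1 := hom_expansion hcomm (fun a : A => if a = 1 then (1 : ℂ) else 0)
  have h2 := congrFun h1 y
  rw [if_neg hy, Finset.sum_apply] at h2
  have hA0 : (Nat.card A : ℂ) ≠ 0 := Nat.cast_ne_zero.mpr Nat.card_pos.ne'
  have h3 : ∀ ψ : A →* ℂˣ, classInner (fun a : A => if a = 1 then (1 : ℂ) else 0) (homFun ψ) =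
      (Nat.card A : ℂ)⁻¹ := by
    intro ψ
    rw [classInner_def, Finset.sum_eq_single (1 : A)]
    · rw [if_pos rfl, homFun_apply, map_one, Units.val_one, map_one, mul_one, mul_one]
    · intro a _ ha
      rw [if_neg ha, zero_mul]
    · intro h0
      exact absurd (Finset.mem_univ _) h0
  simp only [Pi.smul_apply, smul_eq_mul, h3] at h2
  rw [← Finset.mul_sum] at h2
  rcases mul_eq_zero.mp h2.symm with h4 | h4
  · exact absurd h4 (inv_ne_zero hA0)
  · exact h4

variable {G : Type*} [Group G] {p : ℕ} {P : Sylow p G}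

/-- characters of the principal block do not vanish on `P`. -/
theorem Hyp.ne_zero_of_mem [hp : Fact p.Prime] [Finite G] (h : Hyp p P)
    {M : Ideal AlgInt} (hM : IsPModular p M) {χ : IrrCharacter G}
    (hχ : χ ∈ principalBlock M G) {y : G} (hy : y ∈ (P : Subgroup G)) :
    (χ : G → ℂ) y ≠ 0 := by
  intro h0
  have h1 : MemLocalIdeal M (centralChar (fun _ : G => (1 : ℂ)) y - centralChar (χ : G → ℂ) y) :=
    hχ y
  unfold centralChar at h1
  rw [h0, mul_zero, zero_div, sub_zero, mul_one, div_one, memLocalIdeal_natCast_iff hM] at h1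
  have h2 : (Subgroup.centralizer ({y} : Set G)).index ∣ (P : Subgroup G).index :=
    Subgroup.index_dvd_of_le (h.P_le_cent hy)
  exact P.not_dvd_index (dvd_trans h1 h2)

/-- the value at an element whose `p`-part is a non-identity element of `P`. -/
theorem Hyp.value_ext [hp : Fact p.Prime] [Finite G] (h : Hyp p P)
    {M : Ideal AlgInt} (hM : IsPModular p M) {χ : IrrCharacter G}
    (hχ : χ ∈ principalBlock M G) {z y : G} (hzy : IsPPart p z y) (hy : y ∈ (P : Subgroup G))
    (hy1 : y ≠ 1) : (χ : G → ℂ) z = (χ : G → ℂ) y := by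
  obtain ⟨v, hv, hcomm, hk, hreg⟩ := hzy
  have h1 := (h.nilp hy hy1).2 v hcomm hreg
  rw [← hv]
  exact Cfsg.Agent.S0942.result p M hM y hk v h1 χ hχ

/-- the multiplicities of the principal character. -/
theorem muZ_triv [Finite G] (K : Subgroup G) (ψ : ↥K →* ℂˣ) [Decidable (ψ = 1)] :
    muZ K (trivIrr G) ψ = if ψ = 1 then 1 else 0 := by
  have h1 := muZ_spec K (trivIrr G) ψ
  have h2 : ((trivIrr G : IrrCharacter G) : G → ℂ) = fun _ => (1 : ℂ) := by
    funext x
    rw [trivIrr_apply]
  rw [h2, mu_triv] at h1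
  by_cases hψ : ψ = 1
  · rw [if_pos hψ] at h1 ⊢
    exact_mod_cast h1.symm
  · rw [if_neg hψ] at h1 ⊢
    exact_mod_cast h1.symm

end Cfsg.Agent.Lib.Helper7.BL
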