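import Mathlib
import Cfsg.Agent.Lib.Helper7.BL11

set_option autoImplicit false

/-!
# Brauer–Leonard: the structural data and its consequences
-/

namespace Cfsg.Agent.Lib.Helper7.BL

open Cfsg Subgroup
open Cfsg.Agent.Lib.Helper1 Cfsg.Agent.Lib.Helper4 Cfsg.Agent.Lib.Helper8
open scoped ComplexConjugate Classical

attribute [local instance] actHom

variable {G : Type*} [Group G] [Fintype G] {p : ℕ} {P : Sylow p G}

/-- the structural data. -/
structure Data (P : Sylow p G) (B : Finset (IrrCharacter G)) where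
  e : ℤ
  f : Idx (P : Subgroup G) → IrrCharacter G
  w : IrrCharacter G → ℤ
  he : e = 1 ∨ e = -1
  hf : Function.Injective f
  hfB : ∀ i, f i ∈ B
  hw : ∀ χ ∈ B, ∀ i, muZ (P : Subgroup G) χ (rep (P : Subgroup G) i) -
    muZ (P : Subgroup G) χ 1 = w χ + e * (if χ = f i then 1 else 0)

theorem Hyp.exists_data [Fact p.Prime] (h : Hyp p P) (hP1 : Nat.card P ≠ 1)
    {M : Ideal AlgInt} (hM : IsPModular p M) (B : Finset (IrrCharacter G))
    (hB : (B : Set (IrrCharacter G)) = principalBlock M G)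
    [Nontrivial (Idx (P : Subgroup G))] : Nonempty (Data P B) := by
  obtain ⟨e, f, he, hf, hfB, hrel⟩ := h.exceptional hP1 hM B hB
  obtain ⟨i₀⟩ : Nonempty (Idx (P : Subgroup G)) := inferInstance
  refine ⟨⟨e, f, fun χ => muZ (P : Subgroup G) χ (rep (P : Subgroup G) i₀) -
    e * (if χ = f i₀ then 1 else 0) - muZ (P : Subgroup G) χ 1, he, hf, hfB, ?_⟩⟩
  intro χ hχ i
  have h1 := hrel χ hχ i i₀
  linarith

variable {B : Finset (IrrCharacter G)}

theorem Data.e_sq (D : Data P B) : D.e * D.e = 1 := by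
  rcases D.he with h | h <;> rw [h] <;> norm_num

theorem exists_smul_eq_rep (K : Subgroup G) {ψ : ↥K →* ℂˣ} (hψ : ψ ≠ 1) :
    ∃ n : ↥(Subgroup.normalizer (K : Set G)), n • ψ = rep K (idxOf K ψ hψ) := by
  have h1 : idxOf K (rep K (idxOf K ψ hψ)) (rep_ne_one K _) = idxOf K ψ hψ := idxOf_rep K _
  exact (idxOf_eq_iff K (rep_ne_one K _) hψ).mp h1

theorem Data.mu_eq (D : Data P B) {χ : IrrCharacter G} (hχ : χ ∈ B)
    {ψ : ↥(P : Subgroup G) →* ℂˣ} (hψ : ψ ≠ 1) :
    muZ (P : Subgroup G) χ ψ - muZ (P : Subgroup G) χ 1 =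
      D.w χ + D.e * (if χ = D.f (idxOf (P : Subgroup G) ψ hψ) then 1 else 0) := by
  obtain ⟨n, hn⟩ := exists_smul_eq_rep (P : Subgroup G) hψ
  rw [← muZ_smul (P : Subgroup G) χ n ψ, hn]
  exact D.hw χ hχ _

theorem kap_one_rep (i : Idx (P : Subgroup G)) :
    kap (P : Subgroup G) 1 (rep (P : Subgroup G) i) = 0 := by
  unfold kap
  rw [if_neg (rep_ne_one _ i), if_neg]
  rintro ⟨n, hn⟩
  apply rep_ne_one (P : Subgroup G) i
  have : rep (P : Subgroup G) i = n⁻¹ • (1 : ↥(P : Subgroup G) →* ℂˣ) := by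
    rw [← hn, inv_smul_smul]
  rw [this, smul_one_hom]

theorem kap_rep_one (i : Idx (P : Subgroup G)) :
    kap (P : Subgroup G) (rep (P : Subgroup G) i) 1 = 0 := by
  unfold kap
  rw [if_pos rfl, if_neg (rep_ne_one _ i)]

theorem kap_one_one (P : Sylow p G) :
    kap (P : Subgroup G) 1 1 = ((Subgroup.centralizer ((P : Subgroup G) : Set G)).relIndex
      (Subgroup.normalizer ((P : Subgroup G) : Set G)) : ℤ) := by
  unfold kap
  rw [if_pos rfl, if_pos rfl]

theorem Data.norm [Fact p.Prime] (h : Hyp p P) (hP1 : Nat.card P ≠ 1)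
    {M : Ideal AlgInt} (hM : IsPModular p M)
    (hB : (B : Set (IrrCharacter G)) = principalBlock M G) (D : Data P B)
    (i : Idx (P : Subgroup G)) :
    ∑ χ ∈ B, (D.w χ + D.e * (if χ = D.f i then 1 else 0)) ^ 2 =
      ((Subgroup.centralizer ((P : Subgroup G) : Set G)).relIndex
        (Subgroup.normalizer ((P : Subgroup G) : Set G)) : ℤ) + 1 := by
  have h1 := h.gramZ4 hP1 hM B hB (rep (P : Subgroup G) i) 1 (rep (P : Subgroup G) i) 1
  rw [kap_rep_self, kap_one_rep, kap_rep_one, kap_one_one] at h1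
  have h2 : ∀ χ ∈ B, (D.w χ + D.e * (if χ = D.f i then 1 else 0)) ^ 2 =
      (muZ (P : Subgroup G) χ (rep (P : Subgroup G) i) - muZ (P : Subgroup G) χ 1) *
      (muZ (P : Subgroup G) χ (rep (P : Subgroup G) i) - muZ (P : Subgroup G) χ 1) := by
    intro χ hχ
    rw [D.hw χ hχ i]
    ring
  rw [Finset.sum_congr rfl h2, h1]
  ring

theorem Data.sum_expand (D : Data P B) (i : Idx (P : Subgroup G)) :
    ∑ χ ∈ B, (D.w χ + D.e * (if χ = D.f i then 1 else 0)) ^ 2 =
      ∑ χ ∈ B, (D.w χ) ^ 2 + 2 * D.e * D.w (D.f i) + 1 := by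
  have h1 : ∀ χ ∈ B, (D.w χ + D.e * (if χ = D.f i then 1 else 0)) ^ 2 =
      (D.w χ) ^ 2 + (if χ = D.f i then 2 * D.e * D.w χ + 1 else 0) := by
    intro χ _
    by_cases hc : χ = D.f i
    · rw [if_pos hc, if_pos hc]
      have := D.e_sq
      ring_nf
      nlinarith [this]
    · rw [if_neg hc, if_neg hc]
      ring
  rw [Finset.sum_congr rfl h1, Finset.sum_add_distrib, Finset.sum_ite_eq' B (D.f i),
    if_pos (D.hfB i)]
  ring

theorem Data.sum_sq [Fact p.Prime] (h : Hyp p P) (hP1 : Nat.card P ≠ 1)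
    {M : Ideal AlgInt} (hM : IsPModular p M)
    (hB : (B : Set (IrrCharacter G)) = principalBlock M G) (D : Data P B)
    (i : Idx (P : Subgroup G)) :
    ∑ χ ∈ B, (D.w χ) ^ 2 =
      ((Subgroup.centralizer ((P : Subgroup G) : Set G)).relIndex
        (Subgroup.normalizer ((P : Subgroup G) : Set G)) : ℤ) - 2 * D.e * D.w (D.f i) := by
  have h1 := D.norm h hP1 hM hB i
  rw [D.sum_expand] at h1
  linarith

theorem Data.w_const [Fact p.Prime] (h : Hyp p P) (hP1 : Nat.card P ≠ 1)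
    {M : Ideal AlgInt} (hM : IsPModular p M)
    (hB : (B : Set (IrrCharacter G)) = principalBlock M G) (D : Data P B)
    (i j : Idx (P : Subgroup G)) : D.w (D.f i) = D.w (D.f j) := by
  have h1 := D.sum_sq h hP1 hM hB i
  have h2 := D.sum_sq h hP1 hM hB j
  rw [h1] at h2
  rcases D.he with he | he <;> rw [he] at h2 <;> linarith

/-- the map `ζ`. -/
noncomputable def Data.zet (D : Data P B) (ψ : ↥(P : Subgroup G) →* ℂˣ) : IrrCharacter G :=
  if hψ : ψ = 1 then trivIrr G else D.f (idxOf (P : Subgroup G) ψ hψ)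

theorem Data.zet_of_ne (D : Data P B) {ψ : ↥(P : Subgroup G) →* ℂˣ} (hψ : ψ ≠ 1) :
    D.zet ψ = D.f (idxOf (P : Subgroup G) ψ hψ) := by
  unfold Data.zet
  rw [dif_neg hψ]

theorem Data.zet_rep (D : Data P B) (i : Idx (P : Subgroup G)) :
    D.zet (rep (P : Subgroup G) i) = D.f i := by
  rw [D.zet_of_ne (rep_ne_one _ i), idxOf_rep]

/-- the values on the non-identity elements of `P`. -/
theorem Data.value (h : Hyp p P) (D : Data P B) [Fintype (↥(P : Subgroup G) →* ℂˣ)]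
    {χ : IrrCharacter G} (hχ : χ ∈ B) (y : ↥(P : Subgroup G)) (hy : y ≠ 1) :
    (χ : G → ℂ) (y : G) = -(D.w χ : ℂ) + (D.e : ℂ) *
      ∑ ψ ∈ Finset.univ.filter (fun ψ : ↥(P : Subgroup G) →* ℂˣ => ψ ≠ 1 ∧ χ = D.zet ψ),
        homFun ψ y := by
  have hcomm : ∀ a b : ↥(P : Subgroup G), a * b = b * a :=
    fun a b => Subtype.ext (h.hab a a.2 b b.2)
  rw [h.expandZ χ y]
  have hterm : ∀ ψ : ↥(P : Subgroup G) →* ℂˣ, (muZ (P : Subgroup G) χ ψ : ℂ) * homFun ψ y =
      (muZ (P : Subgroup G) χ 1 : ℂ) * homFun ψ y +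
      ((D.w χ : ℂ) * homFun ψ y - (D.w χ : ℂ) * (if ψ = 1 then 1 else 0)) +
      (D.e : ℂ) * (if ψ ≠ 1 ∧ χ = D.zet ψ then homFun ψ y else 0) := by
    intro ψ
    by_cases hψ : ψ = 1
    · subst hψ
      rw [if_pos rfl, if_neg (fun hh => hh.1 rfl)]
      simp only [homFun_apply, MonoidHom.one_apply, Units.val_one]
      ring
    · have h1 := D.mu_eq hχ hψ
      rw [← D.zet_of_ne hψ] at h1
      have h2 : (muZ (P : Subgroup G) χ ψ : ℂ) = (muZ (P : Subgroup G) χ 1 : ℂ) + (D.w χ : ℂ) +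
          (D.e : ℂ) * (if χ = D.zet ψ then 1 else 0) := by
        have : muZ (P : Subgroup G) χ ψ = muZ (P : Subgroup G) χ 1 + D.w χ +
            D.e * (if χ = D.zet ψ then 1 else 0) := by linarith
        rw [this]
        push_cast
        rfl
      rw [h2, if_neg hψ]
      by_cases hc : χ = D.zet ψ
      · rw [if_pos hc, if_pos ⟨hψ, hc⟩]
        ring
      · rw [if_neg hc, if_neg (fun hh => hc hh.2)]
        ring
  rw [Finset.sum_congr rfl (fun ψ _ => hterm ψ), Finset.sum_add_distrib, Finset.sum_add_distrib,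
    Finset.sum_sub_distrib, ← Finset.mul_sum, ← Finset.mul_sum, ← Finset.mul_sum,
    ← Finset.mul_sum, sum_hom_eq_zero hcomm hy, Finset.sum_ite_eq' Finset.univ
      (1 : ↥(P : Subgroup G) →* ℂˣ), if_pos (Finset.mem_univ _), Finset.sum_filter]
  ring

theorem Data.orth [hp : Fact p.Prime] (h : Hyp p P)
    {M : Ideal AlgInt} (hM : IsPModular p M)
    (hB : (B : Set (IrrCharacter G)) = principalBlock M G) (D : Data P B)
    (i : Idx (P : Subgroup G)) (g : G) (hg : ¬ p ∣ orderOf g) :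
    ∑ χ ∈ B, ((D.w χ : ℂ) + (D.e : ℂ) * (if χ = D.f i then 1 else 0)) * (χ : G → ℂ) g = 0 := by
  have h1 := h.orthZ hM B hB (rep (P : Subgroup G) i) 1 g hg
  refine Eq.trans ?_ h1
  refine Finset.sum_congr rfl fun χ hχ => ?_
  rw [D.hw χ hχ i]
  push_cast
  rfl

theorem Data.agree [hp : Fact p.Prime] (h : Hyp p P)
    {M : Ideal AlgInt} (hM : IsPModular p M)
    (hB : (B : Set (IrrCharacter G)) = principalBlock M G) (D : Data P B)
    (i j : Idx (P : Subgroup G)) (g : G) (hg : ¬ p ∣ orderOf g) :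
    (D.f i : G → ℂ) g = (D.f j : G → ℂ) g := by
  have h1 := D.orth h hM hB i g hg
  have h2 := D.orth h hM hB j g hg
  have h3 : ∑ χ ∈ B, (D.e : ℂ) * ((if χ = D.f i then (χ : G → ℂ) g else 0) -
      (if χ = D.f j then (χ : G → ℂ) g else 0)) = 0 := by
    have h4 : ∑ χ ∈ B, (D.e : ℂ) * ((if χ = D.f i then (χ : G → ℂ) g else 0) -
        (if χ = D.f j then (χ : G → ℂ) g else 0)) =
        ∑ χ ∈ B, ((D.w χ : ℂ) + (D.e : ℂ) * (if χ = D.f i then 1 else 0)) * (χ : G → ℂ) g -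
        ∑ χ ∈ B, ((D.w χ : ℂ) + (D.e : ℂ) * (if χ = D.f j then 1 else 0)) * (χ : G → ℂ) g := by
      rw [← Finset.sum_sub_distrib]
      refine Finset.sum_congr rfl fun χ _ => ?_
      by_cases hi : χ = D.f i
      · by_cases hj : χ = D.f j
        · simp only [if_pos hi, if_pos hj]
          ring
        · simp only [if_pos hi, if_neg hj]
          ring
      · by_cases hj : χ = D.f j
        · simp only [if_neg hi, if_pos hj]
          ring
        · simp only [if_neg hi, if_neg hj]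
          ring
    rw [h4, h1, h2, sub_self]
  rw [← Finset.mul_sum, Finset.sum_sub_distrib, Finset.sum_ite_eq' B (D.f i),
    Finset.sum_ite_eq' B (D.f j), if_pos (D.hfB i), if_pos (D.hfB j)] at h3
  have he0 : (D.e : ℂ) ≠ 0 := by
    rcases D.he with he | he <;> rw [he] <;> norm_num
  rcases mul_eq_zero.mp h3 with h4 | h4
  · exact absurd h4 he0
  · exact sub_eq_zero.mp h4

theorem Data.triv_not_mem [Finite G] [Nontrivial (Idx (P : Subgroup G))] (D : Data P B)
    (htriv : trivIrr G ∈ B) (i : Idx (P : Subgroup G)) : D.f i ≠ trivIrr G := by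
  intro hi
  obtain ⟨j, hj⟩ := exists_ne i
  have h1 := D.hw (trivIrr G) htriv i
  have h2 := D.hw (trivIrr G) htriv j
  rw [muZ_triv, muZ_triv, if_neg (rep_ne_one _ _), if_pos rfl] at h1 h2
  rw [if_pos hi.symm] at h1
  rw [if_neg (fun hh => hj (D.hf (hh.symm.trans hi.symm)))] at h2
  rcases D.he with he | he <;> rw [he] at h1 <;> linarith

end Cfsg.Agent.Lib.Helper7.BL
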