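import Mathlib
import Cfsg.Agent.Lib.Helper7.BL12

set_option autoImplicit false

/-!
# Brauer–Leonard: splitting the principal block into the two families
-/

namespace Cfsg.Agent.Lib.Helper7.BL

open Cfsg Subgroup
open Cfsg.Agent.Lib.Helper1 Cfsg.Agent.Lib.Helper4 Cfsg.Agent.Lib.Helper8
open scoped ComplexConjugate Classical

attribute [local instance] actHom

variable {G : Type*} [Group G] [Fintype G] {p : ℕ} {P : Sylow p G}
variable {B : Finset (IrrCharacter G)}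

theorem Data.image_subset (D : Data P B) [Fintype (Idx (P : Subgroup G))] :
    Finset.univ.image D.f ⊆ B := by
  intro χ hχ
  obtain ⟨i, _, rfl⟩ := Finset.mem_image.mp hχ
  exact D.hfB i

theorem Data.sum_X [Fact p.Prime] (h : Hyp p P) (hP1 : Nat.card P ≠ 1)
    {M : Ideal AlgInt} (hM : IsPModular p M)
    (hB : (B : Set (IrrCharacter G)) = principalBlock M G) (D : Data P B)
    [Fintype (Idx (P : Subgroup G))] (i₀ : Idx (P : Subgroup G)) :
    ∑ χ ∈ B \ Finset.univ.image D.f, (D.w χ) ^ 2 =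
      ((Subgroup.centralizer ((P : Subgroup G) : Set G)).relIndex
        (Subgroup.normalizer ((P : Subgroup G) : Set G)) : ℤ) - 2 * D.e * D.w (D.f i₀) -
        (Fintype.card (Idx (P : Subgroup G)) : ℤ) * (D.w (D.f i₀)) ^ 2 := by
  have h1 := D.sum_sq h hP1 hM hB i₀
  rw [← Finset.sum_sdiff D.image_subset, Finset.sum_image (fun a _ b _ hab => D.hf hab)] at h1
  have h2 : ∑ i : Idx (P : Subgroup G), (D.w (D.f i)) ^ 2 =
      (Fintype.card (Idx (P : Subgroup G)) : ℤ) * (D.w (D.f i₀)) ^ 2 := by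
    rw [Finset.sum_congr rfl (fun i _ => by rw [D.w_const h hP1 hM hB i i₀]), Finset.sum_const,
      Finset.card_univ, nsmul_eq_mul]
  rw [h2] at h1
  linarith

theorem Data.orth_split [Fact p.Prime] (h : Hyp p P)
    {M : Ideal AlgInt} (hM : IsPModular p M) (hP1 : Nat.card P ≠ 1)
    (hB : (B : Set (IrrCharacter G)) = principalBlock M G) (D : Data P B)
    [Fintype (Idx (P : Subgroup G))] (i : Idx (P : Subgroup G)) (g : G)
    (hg : ¬ p ∣ orderOf g) :
    ∑ χ ∈ B \ Finset.univ.image D.f, (D.w χ : ℂ) * (χ : G → ℂ) g +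
      ((Fintype.card (Idx (P : Subgroup G)) : ℂ) * (D.w (D.f i) : ℂ) + (D.e : ℂ)) *
        (D.f i : G → ℂ) g = 0 := by
  have h1 := D.orth h hM hB i g hg
  rw [← Finset.sum_sdiff D.image_subset, Finset.sum_image (fun a _ b _ hab => D.hf hab)] at h1
  have h2 : ∀ χ ∈ B \ Finset.univ.image D.f,
      ((D.w χ : ℂ) + (D.e : ℂ) * (if χ = D.f i then 1 else 0)) * (χ : G → ℂ) g =
      (D.w χ : ℂ) * (χ : G → ℂ) g := by
    intro χ hχ
    rw [if_neg, mul_zero, add_zero]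
    intro hc
    apply (Finset.mem_sdiff.mp hχ).2
    rw [hc]
    exact Finset.mem_image_of_mem _ (Finset.mem_univ _)
  have h3 : ∀ j ∈ (Finset.univ : Finset (Idx (P : Subgroup G))),
      ((D.w (D.f j) : ℂ) + (D.e : ℂ) * (if D.f j = D.f i then 1 else 0)) * (D.f j : G → ℂ) g =
      (D.w (D.f i) : ℂ) * (D.f i : G → ℂ) g +
        (if j = i then (D.e : ℂ) * (D.f i : G → ℂ) g else 0) := by
    intro j _
    rw [D.agree h hM hB j i g hg, D.w_const h hP1 hM hB j i]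
    by_cases hji : j = i
    · rw [if_pos hji, if_pos (by rw [hji])]
      ring
    · rw [if_neg hji, if_neg (fun hc => hji (D.hf hc))]
      ring
  rw [Finset.sum_congr rfl h2, Finset.sum_congr rfl h3, Finset.sum_add_distrib,
    Finset.sum_const, Finset.card_univ, nsmul_eq_mul, Finset.sum_ite_eq' Finset.univ i,
    if_pos (Finset.mem_univ _)] at h1
  rw [← h1]
  ring

theorem Data.filter_empty (D : Data P B) [Fintype (Idx (P : Subgroup G))]
    [Fintype (↥(P : Subgroup G) →* ℂˣ)] {χ : IrrCharacter G}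
    (hχ : χ ∉ Finset.univ.image D.f) :
    Finset.univ.filter (fun ψ : ↥(P : Subgroup G) →* ℂˣ => ψ ≠ 1 ∧ χ = D.zet ψ) = ∅ := by
  rw [Finset.filter_eq_empty_iff]
  intro ψ _ hψ
  apply hχ
  rw [hψ.2, D.zet_of_ne hψ.1]
  exact Finset.mem_image_of_mem _ (Finset.mem_univ _)

theorem smul_ne_one (K : Subgroup G) {ψ : ↥K →* ℂˣ} (hψ : ψ ≠ 1)
    (n : ↥(Subgroup.normalizer (K : Set G))) : n • ψ ≠ 1 := by
  intro h1
  apply hψ
  have : ψ = n⁻¹ • (n • ψ) := by rw [inv_smul_smul]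
  rw [this, h1, smul_one_hom]

theorem Data.zet_smul (D : Data P B) {ψ : ↥(P : Subgroup G) →* ℂˣ} (hψ : ψ ≠ 1)
    (n : ↥(Subgroup.normalizer ((P : Subgroup G) : Set G))) : D.zet (n • ψ) = D.zet ψ := by
  rw [D.zet_of_ne hψ, D.zet_of_ne (smul_ne_one _ hψ n)]
  congr 1
  rw [idxOf_eq_iff]
  exact ⟨n, rfl⟩

theorem Data.filter_eq (D : Data P B) [Fintype (↥(P : Subgroup G) →* ℂˣ)]
    {ψ : ↥(P : Subgroup G) →* ℂˣ} (hψ : ψ ≠ 1) :
    ((Finset.univ.filter (fun ψ' : ↥(P : Subgroup G) →* ℂˣ => ψ' ≠ 1 ∧ D.zet ψ = D.zet ψ') :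
      Finset (↥(P : Subgroup G) →* ℂˣ)) : Set (↥(P : Subgroup G) →* ℂˣ)) =
    {ψ' : ↥(P : Subgroup G) →* ℂˣ | ∃ n : G, n ∈ Subgroup.normalizer ((P : Subgroup G) : Set G) ∧
      ∀ w w' : ↥(P : Subgroup G), (w' : G) = n * w * n⁻¹ → ψ' w' = ψ w} := by
  ext ψ'
  rw [Finset.mem_coe, Finset.mem_filter, Set.mem_ofPred_eq, rel_iff_smul]
  constructor
  · rintro ⟨_, hψ', hz⟩
    rw [D.zet_of_ne hψ, D.zet_of_ne hψ'] at hz
    have h1 := D.hf hz
    obtain ⟨n, hn⟩ := (idxOf_eq_iff _ hψ' hψ).mp h1.symm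
    exact ⟨n, hn.symm⟩
  · rintro ⟨n, rfl⟩
    exact ⟨Finset.mem_univ _, smul_ne_one _ hψ n, (D.zet_smul hψ n).symm⟩

end Cfsg.Agent.Lib.Helper7.BL
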