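import Mathlib
import Cfsg.Agent.Lib.Helper7.BL13

set_option autoImplicit false

/-!
# Brauer–Leonard: the main theorem
-/

namespace Cfsg.Agent.Lib.Helper7.BL

open Cfsg Subgroup
open Cfsg.Agent.Lib.Helper1 Cfsg.Agent.Lib.Helper4 Cfsg.Agent.Lib.Helper8
open scoped ComplexConjugate Classical

attribute [local instance] actHom

theorem int_aux (r m e d' : ℤ) (hr : 2 ≤ r) (he : e = 1 ∨ e = -1) :
    0 ≤ 2 * e * d' + r * d' ^ 2 := by
  have h1 : 0 ≤ d' * (d' + 1) := by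
    rcases le_or_gt 0 d' with h | h
    · positivity
    · have : d' + 1 ≤ 0 := by omega
      nlinarith
  have h2 : 0 ≤ d' * (d' - 1) := by
    rcases le_or_gt d' 0 with h | h
    · have : d' - 1 ≤ 0 := by omega
      nlinarith
    · have : 0 ≤ d' - 1 := by omega
      positivity
  rcases he with he | he <;> rw [he] <;> nlinarith [sq_nonneg d']

theorem Hyp.main {G : Type*} [Group G] [Finite G] (p : ℕ) [Fact p.Prime] (M : Ideal AlgInt)
    (hM : IsPModular p M) (P : Sylow p G) (h : Hyp p P) (hP1 : Nat.card P ≠ 1) (m : ℕ)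
    (hm1 : 1 < m) (hm2 : m + 1 < Nat.card P)
    (hCN : (Subgroup.centralizer ((P : Subgroup G) : Set G)).relIndex
      (Subgroup.normalizer ((P : Subgroup G) : Set G)) = m) :
    ∃ (s : ℕ) (X Y : Set (Cfsg.IrrCharacter G)), s ≤ m ∧ Cfsg.principalBlock M G = X ∪ Y ∧
      Disjoint X Y ∧ Nat.card X = s ∧ Nat.card Y = (Nat.card P - 1) / m ∧
      (∃ χ₁ ∈ X, (χ₁ : G → ℂ) = fun _ => 1) ∧
      ∃ (a : Cfsg.IrrCharacter G → ℤ) (d δ : ℤ)
        (ζ : (↥(P : Subgroup G) →* ℂˣ) → Cfsg.IrrCharacter G), (δ = 1 ∨ δ = -1) ∧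
      (∀ χ ∈ X, a χ ≠ 0 ∧ ∀ z y : G, Cfsg.IsPPart p z y → y ∈ (P : Subgroup G) → y ≠ 1 →
        (χ : G → ℂ) z = (a χ : ℂ)) ∧
      (∀ ψ : ↥(P : Subgroup G) →* ℂˣ, ψ ≠ 1 → ζ ψ ∈ Y) ∧
      (∀ η ∈ Y, ∃ ψ : ↥(P : Subgroup G) →* ℂˣ, ψ ≠ 1 ∧ ζ ψ = η) ∧
      (∀ ψ ψ' : ↥(P : Subgroup G) →* ℂˣ, ψ ≠ 1 →
        (∃ n : G, n ∈ Subgroup.normalizer ((P : Subgroup G) : Set G) ∧
          ∀ w w' : ↥(P : Subgroup G), (w' : G) = n * w * n⁻¹ → ψ' w' = ψ w) → ζ ψ' = ζ ψ) ∧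
      (∀ ψ : ↥(P : Subgroup G) →* ℂˣ, ψ ≠ 1 → ∀ (z : G) (y : ↥(P : Subgroup G)),
        Cfsg.IsPPart p z (y : G) → (y : G) ≠ 1 →
        (ζ ψ : G → ℂ) z = (d : ℂ) + (δ : ℂ) *
          ∑ᶠ ψ' ∈ {ψ' : ↥(P : Subgroup G) →* ℂˣ | ∃ n : G,
            n ∈ Subgroup.normalizer ((P : Subgroup G) : Set G) ∧
            ∀ w w' : ↥(P : Subgroup G), (w' : G) = n * w * n⁻¹ → ψ' w' = ψ w},
            ((ψ' y : ℂˣ) : ℂ)) ∧
      ((d - δ) ^ 2 + ((Nat.card P - 1) / m - 1 : ℤ) * d ^ 2 + ∑ᶠ χ ∈ X, a χ ^ 2 = (m : ℤ) + 1) ∧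
      (∀ η ∈ Y, ∀ η' ∈ Y, ∀ g : G, ¬ p ∣ orderOf g → (η : G → ℂ) g = (η' : G → ℂ) g) ∧
      (∀ η ∈ Y, ∀ g : G, ¬ p ∣ orderOf g →
        ((((Nat.card P - 1) / m : ℕ) : ℂ) * d - δ) * (η : G → ℂ) g +
          ∑ᶠ χ ∈ X, (a χ : ℂ) * (χ : G → ℂ) g = 0) := by
  haveI : Fintype G := Fintype.ofFinite G
  haveI : Fintype (IrrCharacter G) := Fintype.ofFinite _
  have hcomm : ∀ a b : ↥(P : Subgroup G), a * b = b * a :=
    fun a b => Subtype.ext (h.hab a a.2 b b.2)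
  haveI : Finite (↥(P : Subgroup G) →* ℂˣ) := finite_hom hcomm
  haveI : Fintype (↥(P : Subgroup G) →* ℂˣ) := Fintype.ofFinite _
  haveI : Finite (Idx (P : Subgroup G)) := by
    unfold Idx
    infer_instance
  haveI : Fintype (Idx (P : Subgroup G)) := Fintype.ofFinite _
  set B : Finset (IrrCharacter G) := Finset.univ.filter (fun χ => χ ∈ principalBlock M G) with hBdef
  have hB : (B : Set (IrrCharacter G)) = principalBlock M G := by
    ext χ
    rw [Finset.mem_coe, hBdef, Finset.mem_filter]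
    exact ⟨fun hh => hh.2, fun hh => ⟨Finset.mem_univ _, hh⟩⟩
  have hmemB : ∀ χ, χ ∈ B → χ ∈ principalBlock M G := fun χ hχ => by
    rw [← hB]
    exact hχ
  have hcard := h.card_idx
  rw [hCN] at hcard
  have hr2 : 2 ≤ Nat.card (Idx (P : Subgroup G)) := by
    by_contra hlt
    have h1 : Nat.card (Idx (P : Subgroup G)) ≤ 1 := by omega
    have h2 : Nat.card (Idx (P : Subgroup G)) * m ≤ 1 * m := Nat.mul_le_mul_right m h1
    omega
  haveI : Nontrivial (Idx (P : Subgroup G)) := Finite.one_lt_card_iff_nontrivial.mp (by omega)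
  obtain ⟨D⟩ := h.exists_data hP1 hM B hB
  have htrivB : trivIrr G ∈ B := by
    rw [← Finset.mem_coe, hB]
    exact trivIrr_mem_principalBlock (isPModular_ne_top hM)
  obtain ⟨i₀⟩ : Nonempty (Idx (P : Subgroup G)) := inferInstance
  set r : ℕ := Nat.card (Idx (P : Subgroup G)) with hr
  have hrF : Fintype.card (Idx (P : Subgroup G)) = r := by rw [hr, Nat.card_eq_fintype_card]
  have hm0 : 0 < m := by omega
  have hdivN : (Nat.card P - 1) / m = r := by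
    have : Nat.card P - 1 = r * m := by
      have := hcard
      show Nat.card ↥(P : Subgroup G) - 1 = r * m
      omega
    rw [this, Nat.mul_div_cancel _ hm0]
  have hdivZ : ((Nat.card P : ℤ) - 1) / (m : ℤ) = (r : ℤ) := by
    have : (Nat.card P : ℤ) - 1 = (r : ℤ) * (m : ℤ) := by
      have := hcard
      have h2 : (Nat.card ↥(P : Subgroup G) : ℤ) = (r : ℤ) * (m : ℤ) + 1 := by exact_mod_cast this.symm
      show (Nat.card ↥(P : Subgroup G) : ℤ) - 1 = (r : ℤ) * (m : ℤ)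
      linarith
    rw [this, Int.mul_ediv_cancel _ (by exact_mod_cast hm0.ne')]
  set Y : Finset (IrrCharacter G) := Finset.univ.image D.f with hY
  set X : Finset (IrrCharacter G) := B \ Y with hX
  have hYB : Y ⊆ B := D.image_subset
  set d' : ℤ := D.w (D.f i₀) with hd'
  have hdc : ∀ i, D.w (D.f i) = d' := fun i => D.w_const h hP1 hM hB i i₀
  have hSX := D.sum_X h hP1 hM hB i₀
  rw [hCN, hrF, ← hd', ← hY, ← hX] at hSX
  -- a non-identity element of `P`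
  obtain ⟨y₀, hy₀⟩ : ∃ y : ↥(P : Subgroup G), y ≠ 1 := by
    by_contra hne
    push Not at hne
    apply hP1
    haveI : Subsingleton ↥(P : Subgroup G) := ⟨fun a b => by rw [hne a, hne b]⟩
    exact Nat.card_unique
  have hX_val : ∀ χ ∈ X, ∀ y : ↥(P : Subgroup G), y ≠ 1 →
      (χ : G → ℂ) (y : G) = -(D.w χ : ℂ) := by
    intro χ hχ y hy
    rw [D.value h (Finset.mem_sdiff.mp hχ).1 y hy, D.filter_empty (Finset.mem_sdiff.mp hχ).2,
      Finset.sum_empty, mul_zero, add_zero]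
  have hX_ne : ∀ χ ∈ X, D.w χ ≠ 0 := by
    intro χ hχ h0
    have h1 := hX_val χ hχ y₀ hy₀
    rw [h0, Int.cast_zero, neg_zero] at h1
    exact h.ne_zero_of_mem hM (hmemB χ (Finset.mem_sdiff.mp hχ).1) y₀.2 h1
  have hYmem : ∀ η, η ∈ Y ↔ ∃ i, D.f i = η := by
    intro η
    rw [hY, Finset.mem_image]
    constructor
    · rintro ⟨i, _, hi⟩
      exact ⟨i, hi⟩
    · rintro ⟨i, hi⟩
      exact ⟨i, Finset.mem_univ _, hi⟩
  refine ⟨X.card, (X : Set (IrrCharacter G)), (Y : Set (IrrCharacter G)), ?_, ?_, ?_, ?_, ?_, ?_,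
    fun χ => -D.w χ, -d', D.e, D.zet, D.he, ?_, ?_, ?_, ?_, ?_, ?_, ?_, ?_⟩
  · -- s ≤ m
    have h1 : (X.card : ℤ) ≤ ∑ χ ∈ X, (D.w χ) ^ 2 := by
      rw [Finset.card_eq_sum_ones, Nat.cast_sum]
      apply Finset.sum_le_sum
      intro χ hχ
      have := hX_ne χ hχ
      rw [Nat.cast_one, one_le_sq_iff_one_le_abs]
      exact Int.one_le_abs this
    have h2 := int_aux (r : ℤ) (m : ℤ) D.e d' (by exact_mod_cast hr2) D.he
    have h3 : (X.card : ℤ) ≤ (m : ℤ) := by linarith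
    exact_mod_cast h3
  · rw [← hB, ← Finset.coe_union, hX, Finset.sdiff_union_of_subset hYB]
  · exact Finset.disjoint_coe.mpr Finset.sdiff_disjoint
  · rw [Nat.card_coe_set_eq, Set.ncard_coe_finset]
  · rw [Nat.card_coe_set_eq, Set.ncard_coe_finset, hdivN, hY,
      Finset.card_image_of_injective _ D.hf, Finset.card_univ, hrF]
  · refine ⟨trivIrr G, ?_, ?_⟩
    · rw [Finset.mem_coe, hX, Finset.mem_sdiff]
      refine ⟨htrivB, ?_⟩
      intro hmem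
      obtain ⟨i, hi⟩ := (hYmem _).mp hmem
      exact D.triv_not_mem htrivB i hi
    · funext x
      rw [trivIrr_apply]
  · -- values of X
    intro χ hχ
    rw [Finset.mem_coe] at hχ
    refine ⟨neg_ne_zero.mpr (hX_ne χ hχ), ?_⟩
    intro z y hzy hy hy1
    rw [h.value_ext hM (hmemB χ (Finset.mem_sdiff.mp hχ).1) hzy hy hy1]
    have := hX_val χ hχ ⟨y, hy⟩ (fun h0 => hy1 (congrArg Subtype.val h0))
    rw [this, Int.cast_neg]
  · intro ψ hψ
    rw [Finset.mem_coe, hYmem]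
    exact ⟨_, (D.zet_of_ne hψ).symm⟩
  · intro η hη
    rw [Finset.mem_coe, hYmem] at hη
    obtain ⟨i, rfl⟩ := hη
    exact ⟨rep (P : Subgroup G) i, rep_ne_one _ i, D.zet_rep i⟩
  · intro ψ ψ' hψ hrel
    rw [rel_iff_smul] at hrel
    obtain ⟨n, rfl⟩ := hrel
    exact D.zet_smul hψ n
  · intro ψ hψ z y hzy hy1
    have hy1' : y ≠ 1 := fun h0 => hy1 (by rw [h0]; rfl)
    have hzB : D.zet ψ ∈ B := by
      rw [D.zet_of_ne hψ]
      exact D.hfB _
    rw [h.value_ext hM (hmemB _ hzB) hzy y.2 hy1, D.value h hzB y hy1', ← D.filter_eq hψ,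
      finsum_mem_coe_finset, D.zet_of_ne hψ, hdc, Int.cast_neg]
    rfl
  · -- the norm relation
    rw [finsum_mem_coe_finset]
    have h1 : ∑ χ ∈ X, (-D.w χ) ^ 2 = ∑ χ ∈ X, (D.w χ) ^ 2 :=
      Finset.sum_congr rfl fun χ _ => neg_sq _
    rw [h1, hSX, hdivZ]
    have h2 := D.e_sq
    ring_nf
    nlinarith [h2]
  · intro η hη η' hη' g hg
    rw [Finset.mem_coe, hYmem] at hη hη'
    obtain ⟨i, rfl⟩ := hη
    obtain ⟨j, rfl⟩ := hη'
    exact D.agree h hM hB i j g hg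
  · intro η hη g hg
    rw [Finset.mem_coe, hYmem] at hη
    obtain ⟨i, rfl⟩ := hη
    have h1 := D.orth_split h hM hP1 hB i g hg
    rw [hrF, hdc, ← hY, ← hX] at h1
    rw [finsum_mem_coe_finset, hdivN]
    have h2 : ∑ χ ∈ X, ((-D.w χ : ℤ) : ℂ) * (χ : G → ℂ) g =
        -∑ χ ∈ X, (D.w χ : ℂ) * (χ : G → ℂ) g := by
      rw [← Finset.sum_neg_distrib]
      refine Finset.sum_congr rfl fun χ _ => ?_
      rw [Int.cast_neg, neg_mul]
    rw [h2]
    have h3 : ∑ χ ∈ X, (D.w χ : ℂ) * (χ : G → ℂ) g =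
        -(((r : ℂ) * (d' : ℂ) + (D.e : ℂ)) * (D.f i : G → ℂ) g) := by
      rw [eq_neg_iff_add_eq_zero]
      exact h1
    rw [h3]
    push_cast
    ring

end Cfsg.Agent.Lib.Helper7.BL
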