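import Mathlib
import Cfsg.Agent.Lib.Helper7.BL14

set_option autoImplicit false

/-!
# Brauer's theorem on homocyclic Sylow 2-subgroups: consequences of the Brauer–Leonard data
for inertial index 3
-/

namespace Cfsg.Agent.Lib.Helper7.BH

open Cfsg Subgroup
open Cfsg.Agent.Lib.Helper1 Cfsg.Agent.Lib.Helper4 Cfsg.Agent.Lib.Helper8
open Cfsg.Agent.Lib.Helper7.BL
open scoped ComplexConjugate Classical

attribute [local instance] actHom

variable {G : Type*} [Group G] [Fintype G] {p : ℕ} {P : Sylow p G}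
variable {B : Finset (IrrCharacter G)}

/-- values of the non-exceptional characters on `P`. -/
theorem X_val (h : Hyp p P) (D : Data P B) [Fintype (↥(P : Subgroup G) →* ℂˣ)]
    [Fintype (Idx (P : Subgroup G))] {χ : IrrCharacter G} (hχB : χ ∈ B)
    (hχY : χ ∉ Finset.univ.image D.f) (y : ↥(P : Subgroup G)) (hy : y ≠ 1) :
    (χ : G → ℂ) (y : G) = -(D.w χ : ℂ) := by
  rw [D.value h hχB y hy, D.filter_empty hχY, Finset.sum_empty, mul_zero, add_zero]

theorem X_ne [Fact p.Prime] (h : Hyp p P) {M : Ideal AlgInt} (hM : IsPModular p M)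
    (hB : (B : Set (IrrCharacter G)) = principalBlock M G) (D : Data P B)
    [Fintype (↥(P : Subgroup G) →* ℂˣ)] [Fintype (Idx (P : Subgroup G))]
    {χ : IrrCharacter G} (hχB : χ ∈ B) (hχY : χ ∉ Finset.univ.image D.f)
    (y : ↥(P : Subgroup G)) (hy : y ≠ 1) : D.w χ ≠ 0 := by
  intro h0
  have h1 := X_val h D hχB hχY y hy
  rw [h0, Int.cast_zero, neg_zero] at h1
  have hmem : χ ∈ principalBlock M G := by
    rw [← hB]
    exact hχB
  exact h.ne_zero_of_mem hM hmem y.2 h1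

theorem w_triv [Nontrivial (Idx (P : Subgroup G))] (D : Data P B) (htriv : trivIrr G ∈ B) :
    D.w (trivIrr G) = -1 := by
  obtain ⟨i⟩ : Nonempty (Idx (P : Subgroup G)) := inferInstance
  have h1 := D.hw (trivIrr G) htriv i
  rw [muZ_triv, muZ_triv, if_neg (rep_ne_one _ _), if_pos rfl,
    if_neg (fun hh => D.triv_not_mem htriv i hh.symm)] at h1
  linarith

theorem triv_mem_X [Nontrivial (Idx (P : Subgroup G))] (D : Data P B)
    [Fintype (Idx (P : Subgroup G))] (htriv : trivIrr G ∈ B) :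
    trivIrr G ∈ B \ Finset.univ.image D.f := by
  rw [Finset.mem_sdiff]
  refine ⟨htriv, ?_⟩
  intro hmem
  obtain ⟨i, _, hi⟩ := Finset.mem_image.mp hmem
  exact D.triv_not_mem htriv i hi

/-- with inertial index `3` and at least five orbits the constant `d` vanishes. -/
theorem d_zero [Fact p.Prime] (h : Hyp p P) (hP1 : Nat.card P ≠ 1)
    {M : Ideal AlgInt} (hM : IsPModular p M)
    (hB : (B : Set (IrrCharacter G)) = principalBlock M G) (D : Data P B)
    [Fintype (Idx (P : Subgroup G))] [Nontrivial (Idx (P : Subgroup G))]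
    (htriv : trivIrr G ∈ B)
    (h3 : (Subgroup.centralizer ((P : Subgroup G) : Set G)).relIndex
      (Subgroup.normalizer ((P : Subgroup G) : Set G)) = 3)
    (h5 : 5 ≤ Fintype.card (Idx (P : Subgroup G))) (i : Idx (P : Subgroup G)) :
    D.w (D.f i) = 0 := by
  have h1 := D.sum_X h hP1 hM hB i
  rw [h3] at h1
  push_cast at h1
  have h2 : (D.w (trivIrr G)) ^ 2 ≤ ∑ χ ∈ B \ Finset.univ.image D.f, (D.w χ) ^ 2 :=
    Finset.single_le_sum (f := fun χ => (D.w χ) ^ 2) (fun χ _ => sq_nonneg _)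
      (triv_mem_X D htriv)
  rw [w_triv D htriv, h1] at h2
  set d' := D.w (D.f i) with hd'
  have h5' : (5 : ℤ) ≤ (Fintype.card (Idx (P : Subgroup G)) : ℤ) := by exact_mod_cast h5
  have h6 : (5 : ℤ) * d' ^ 2 ≤ (Fintype.card (Idx (P : Subgroup G)) : ℤ) * d' ^ 2 :=
    mul_le_mul_of_nonneg_right h5' (sq_nonneg _)
  have h7 : 5 * d' ^ 2 + 2 * D.e * d' ≤ 2 := by linarith
  rcases D.he with he | he
  · rw [he] at h7
    have hb1 : -1 ≤ d' := by nlinarith
    have hb2 : d' ≤ 1 := by nlinarith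
    interval_cases d' <;> first | rfl | (exfalso; linarith)
  · rw [he] at h7
    have hb1 : -1 ≤ d' := by nlinarith
    have hb2 : d' ≤ 1 := by nlinarith
    interval_cases d' <;> first | rfl | (exfalso; linarith)

/-- the structure of `X`: apart from the principal character there are exactly two members, with
`w = ±1`. -/
theorem X_structure [Fact p.Prime] (h : Hyp p P) (hP1 : Nat.card P ≠ 1)
    {M : Ideal AlgInt} (hM : IsPModular p M)
    (hB : (B : Set (IrrCharacter G)) = principalBlock M G) (D : Data P B)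
    [Fintype (↥(P : Subgroup G) →* ℂˣ)]
    [Fintype (Idx (P : Subgroup G))] [Nontrivial (Idx (P : Subgroup G))]
    (htriv : trivIrr G ∈ B)
    (h3 : (Subgroup.centralizer ((P : Subgroup G) : Set G)).relIndex
      (Subgroup.normalizer ((P : Subgroup G) : Set G)) = 3)
    (h5 : 5 ≤ Fintype.card (Idx (P : Subgroup G))) :
    ∃ χ₂ χ₃ : IrrCharacter G, χ₂ ≠ χ₃ ∧ χ₂ ≠ trivIrr G ∧ χ₃ ≠ trivIrr G ∧
      B \ Finset.univ.image D.f = {trivIrr G, χ₂, χ₃} ∧
      (D.w χ₂ = 1 ∨ D.w χ₂ = -1) ∧ (D.w χ₃ = 1 ∨ D.w χ₃ = -1) := by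
  obtain ⟨i₀⟩ : Nonempty (Idx (P : Subgroup G)) := inferInstance
  obtain ⟨y₀, hy₀⟩ : ∃ y : ↥(P : Subgroup G), y ≠ 1 := by
    by_contra hne
    push Not at hne
    apply hP1
    haveI : Subsingleton ↥(P : Subgroup G) := ⟨fun a b => by rw [hne a, hne b]⟩
    exact Nat.card_unique
  set X := B \ Finset.univ.image D.f with hX
  have h1 := D.sum_X h hP1 hM hB i₀
  rw [h3, d_zero h hP1 hM hB D htriv h3 h5 i₀, ← hX] at h1
  push_cast at h1
  have htX : trivIrr G ∈ X := triv_mem_X D htriv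
  set X' := X.erase (trivIrr G) with hX'
  have h2 : ∑ χ ∈ X', (D.w χ) ^ 2 = 2 := by
    have := Finset.add_sum_erase X (fun χ => (D.w χ) ^ 2) htX
    rw [h1] at this
    simp only [w_triv D htriv] at this
    rw [← hX'] at this
    linarith
  have hne : ∀ χ ∈ X', D.w χ ≠ 0 := by
    intro χ hχ
    have hχX : χ ∈ X := Finset.mem_of_mem_erase hχ
    exact X_ne h hM hB D (Finset.mem_sdiff.mp hχX).1 (Finset.mem_sdiff.mp hχX).2 y₀ hy₀
  have hge : ∀ χ ∈ X', (1 : ℤ) ≤ (D.w χ) ^ 2 := by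
    intro χ hχ
    rw [one_le_sq_iff_one_le_abs]
    exact Int.one_le_abs (hne χ hχ)
  have hle : ∀ χ ∈ X', (D.w χ) ^ 2 ≤ 2 := by
    intro χ hχ
    rw [← h2]
    exact Finset.single_le_sum (f := fun χ => (D.w χ) ^ 2) (fun χ _ => sq_nonneg _) hχ
  have hone : ∀ χ ∈ X', D.w χ = 1 ∨ D.w χ = -1 := by
    intro χ hχ
    have ha := hge χ hχ
    have hb := hle χ hχ
    have hb1 : -1 ≤ D.w χ := by nlinarith
    have hb2 : D.w χ ≤ 1 := by nlinarith
    have h0 := hne χ hχ
    generalize D.w χ = z at *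
    interval_cases z
    · right; rfl
    · exact absurd rfl h0
    · left; rfl
  have hcard : X'.card = 2 := by
    have h3' : ∑ χ ∈ X', (D.w χ) ^ 2 = ∑ χ ∈ X', (1 : ℤ) := by
      refine Finset.sum_congr rfl fun χ hχ => ?_
      rcases hone χ hχ with h | h <;> rw [h] <;> norm_num
    rw [h3', Finset.sum_const, nsmul_eq_mul, mul_one] at h2
    exact_mod_cast h2
  obtain ⟨χ₂, χ₃, hne23, hX'eq⟩ := Finset.card_eq_two.mp hcard
  have hm2 : χ₂ ∈ X' := by rw [hX'eq]; simp
  have hm3 : χ₃ ∈ X' := by rw [hX'eq]; simp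
  refine ⟨χ₂, χ₃, hne23, (Finset.mem_erase.mp hm2).1, (Finset.mem_erase.mp hm3).1, ?_,
    hone χ₂ hm2, hone χ₃ hm3⟩
  rw [← Finset.insert_erase htX, ← hX', hX'eq]

end Cfsg.Agent.Lib.Helper7.BH
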