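import Mathlib
import Cfsg.Agent.Lib.Helper7.BH1
import Cfsg.Agent.S4722

set_option autoImplicit false

/-!
# Brauer's theorem on homocyclic Sylow 2-subgroups: the involution relation
-/

namespace Cfsg.Agent.Lib.Helper7.BH

open Cfsg Subgroup
open Cfsg.Agent.Lib.Helper1 Cfsg.Agent.Lib.Helper4 Cfsg.Agent.Lib.Helper8
open Cfsg.Agent.Lib.Helper7.BL
open scoped ComplexConjugate Classical

attribute [local instance] actHom

variable {G : Type*} [Group G] [Fintype G] {P : Sylow 2 G}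
variable {B : Finset (IrrCharacter G)}

/-- the relation of S4722 in terms of the data. -/
theorem invol_rel [Fact (Nat.Prime 2)] (h : Hyp 2 P) {M : Ideal AlgInt} (hM : IsPModular 2 M)
    (hB : (B : Set (IrrCharacter G)) = principalBlock M G) (D : Data P B)
    (t : G) (ht : orderOf t = 2) (U : Set G) (hUP : U ⊆ ((P : Subgroup G) : Set G))
    (hinv : ∀ u ∈ U, ∀ g : G, (g * t * g⁻¹) * u * (g * t * g⁻¹)⁻¹ ≠ u⁻¹)
    (ψ : ↥(P : Subgroup G) →* ℂˣ) (hψ : ψ ≠ 1)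
    (hψU : ∀ y : ↥(P : Subgroup G), (y : G) ∉ U → ψ y = 1) :
    ∑ χ ∈ B, ((D.w χ : ℂ) + (D.e : ℂ) * (if χ = D.zet ψ then 1 else 0)) *
      (χ : G → ℂ) t ^ 2 / (χ : G → ℂ) 1 = 0 := by
  have hθ : IsGeneralizedCharacter ↥(P : Subgroup G) (homFun ψ - homFun (1 : ↥(P : Subgroup G) →* ℂˣ)) :=
    isGenChar_sub (isGenChar_of_irr (homFun_irr ψ)) (isGenChar_of_irr (homFun_irr (1 : ↥(P : Subgroup G) →* ℂˣ)))
  have hθU : ∀ y : ↥(P : Subgroup G), (y : G) ∉ U → (homFun ψ - homFun (1 : ↥(P : Subgroup G) →* ℂˣ)) y = 0 := by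
    intro y hy
    rw [Pi.sub_apply, homFun_apply, homFun_apply, hψU y hy, MonoidHom.one_apply, sub_self]
  have key := (Cfsg.Agent.S4722.result M hM (P : Subgroup G) P.isPGroup' U hUP t ht hinv
    (homFun ψ - homFun (1 : ↥(P : Subgroup G) →* ℂˣ)) hθ hθU).1
  rw [← hB, finsum_mem_coe_finset] at key
  refine Eq.trans ?_ key
  refine Finset.sum_congr rfl fun χ hχ => ?_
  have hL : ((Nat.card ↥(P : Subgroup G) : ℂ)⁻¹ * ∑ᶠ y : ↥(P : Subgroup G), (χ : G → ℂ) (y : G) *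
        (homFun ψ - homFun (1 : ↥(P : Subgroup G) →* ℂˣ)) y⁻¹) =
      mu (P : Subgroup G) (χ : G → ℂ) ψ - mu (P : Subgroup G) (χ : G → ℂ) 1 := by
    unfold mu
    rw [← mul_sub, ← finsum_sub_distrib (Set.toFinite _) (Set.toFinite _)]
    congr 1
    refine finsum_congr fun y => ?_
    rw [Pi.sub_apply, mul_sub]
  rw [hL, muZ_spec, muZ_spec]
  have h1 := D.mu_eq hχ hψ
  rw [← D.zet_of_ne hψ] at h1
  have h2 : ((muZ (P : Subgroup G) χ ψ : ℂ) - (muZ (P : Subgroup G) χ 1 : ℂ)) =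
      (D.w χ : ℂ) + (D.e : ℂ) * (if χ = D.zet ψ then 1 else 0) := by
    have : ((muZ (P : Subgroup G) χ ψ - muZ (P : Subgroup G) χ 1 : ℤ) : ℂ) =
        ((D.w χ + D.e * (if χ = D.zet ψ then 1 else 0) : ℤ) : ℂ) := by rw [h1]
    push_cast at this
    rw [this]
  rw [h2]

/-- the number of elements of the orbit of `ψ`. -/
theorem card_filter (h : Hyp 2 P) (D : Data P B) [Fintype (↥(P : Subgroup G) →* ℂˣ)]
    {ψ : ↥(P : Subgroup G) →* ℂˣ} (hψ : ψ ≠ 1) :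
    (Finset.univ.filter (fun ψ' : ↥(P : Subgroup G) →* ℂˣ =>
      ψ' ≠ 1 ∧ D.zet ψ = D.zet ψ')).card =
    (Subgroup.centralizer ((P : Subgroup G) : Set G)).relIndex
      (Subgroup.normalizer ((P : Subgroup G) : Set G)) := by
  rw [← h.ncard_orbit hψ, ← Set.ncard_coe_finset, D.filter_eq hψ]
  congr 1
  ext ψ'
  rw [Set.mem_ofPred_eq, rel_iff_smul]
  constructor
  · rintro ⟨n, rfl⟩
    exact ⟨n, rfl⟩
  · rintro ⟨n, rfl⟩
    exact ⟨n, rfl⟩

/-- the value of `ζ ψ` at an involution `t` of `P` when `ψ` is trivial on the involutions. -/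
theorem zet_at_invol (h : Hyp 2 P) (D : Data P B) [Fintype (↥(P : Subgroup G) →* ℂˣ)]
    {ψ : ↥(P : Subgroup G) →* ℂˣ} (hψ : ψ ≠ 1)
    (hψ2 : ∀ y : ↥(P : Subgroup G), y ^ 2 = 1 → ψ y = 1)
    (hzB : D.zet ψ ∈ B) (hd : D.w (D.zet ψ) = 0)
    (t : ↥(P : Subgroup G)) (ht : t ≠ 1) (ht2 : t ^ 2 = 1) :
    (D.zet ψ : G → ℂ) (t : G) = (D.e : ℂ) *
      ((Subgroup.centralizer ((P : Subgroup G) : Set G)).relIndex
        (Subgroup.normalizer ((P : Subgroup G) : Set G)) : ℂ) := by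
  rw [D.value h hzB t ht, hd, Int.cast_zero, neg_zero, zero_add]
  congr 1
  have h1 : ∀ ψ' ∈ Finset.univ.filter (fun ψ' : ↥(P : Subgroup G) →* ℂˣ =>
      ψ' ≠ 1 ∧ D.zet ψ = D.zet ψ'), homFun ψ' t = 1 := by
    intro ψ' hψ'
    have hmem : ψ' ∈ ((Finset.univ.filter (fun ψ' : ↥(P : Subgroup G) →* ℂˣ =>
      ψ' ≠ 1 ∧ D.zet ψ = D.zet ψ') : Finset _) : Set _) := hψ'
    rw [D.filter_eq hψ, Set.mem_ofPred_eq, rel_iff_smul] at hmem
    obtain ⟨n, rfl⟩ := hmem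
    rw [homFun_apply, actHom_apply, hψ2, Units.val_one]
    rw [← map_pow, ht2, map_one]
  rw [Finset.sum_congr rfl h1, Finset.sum_const, nsmul_eq_mul, mul_one, card_filter h D hψ]

end Cfsg.Agent.Lib.Helper7.BH
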