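import Mathlib

set_option autoImplicit false

/-!
# Brauer's theorem on homocyclic Sylow 2-subgroups: the diophantine equation
-/

namespace Cfsg.Agent.Lib.Helper7.BH

set_option maxHeartbeats 1600000 in
/-- the only solution in odd integers of `9xy = (1 + x + y)(xy + x + y)` is `x = y = 1`. -/
theorem dioph (x y : ℤ) (hxo : Odd x) (hyo : Odd y)
    (h : 9 * x * y = (1 + x + y) * (x * y + x + y)) : x = 1 ∧ y = 1 := by
  obtain ⟨a, ha⟩ := hxo
  obtain ⟨b, hb⟩ := hyo
  obtain ⟨u, hu⟩ : ∃ u : ℤ, u = 8 - (x + y) := ⟨_, rfl⟩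
  obtain ⟨q, hq⟩ : ∃ q : ℤ, q = x * y := ⟨_, rfl⟩
  obtain ⟨z, hz⟩ : ∃ z : ℤ, z = x - y := ⟨_, rfl⟩
  have hk : u * (q + 17 - u) = 72 := by
    rw [hu, hq]
    linear_combination h
  have hzz : z * z = (8 - u) * (8 - u) - 4 * q := by
    rw [hz, hu, hq]
    ring
  have hu0 : u ≠ 0 := by
    intro h0
    rw [h0] at hk
    norm_num at hk
  have hdvd : u ∣ 72 := Dvd.intro _ hk
  have hle : u ≤ 72 := Int.le_of_dvd (by norm_num) hdvd
  have hge : -72 ≤ u := by
    have : -u ≤ 72 := Int.le_of_dvd (by norm_num) ((Int.neg_dvd).mpr hdvd)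
    linarith
  have hqu : q + 17 - u = 72 / u := Int.eq_ediv_of_mul_eq_right hu0 hk
  -- parity information
  obtain ⟨c, hc⟩ : ∃ c : ℤ, c = a * b := ⟨_, rfl⟩
  have hqc : q = 4 * c + 2 * a + 2 * b + 1 := by
    rw [hq, ha, hb, hc]
    ring
  interval_cases u <;> first
    | (exfalso; omega)
    | (norm_num at hqu
       norm_num at hzz
       have hzb1 : z ≤ 83 := by nlinarith
       have hzb2 : -83 ≤ z := by nlinarith
       interval_cases z <;> first
        | (exfalso; omega)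
        | (constructor <;> omega))

end Cfsg.Agent.Lib.Helper7.BH
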