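import Mathlib
import Cfsg.Agent.Lib.Helper7.BL11

set_option autoImplicit false

/-!
# Brauer's theorem on homocyclic Sylow 2-subgroups: auxiliary group theory
-/

namespace Cfsg.Agent.Lib.Helper7.BH

open Cfsg Subgroup
open Cfsg.Agent.Lib.Helper7.BL

/-- a subgroup all of whose elements of odd order are trivial is a `2`-group. -/
theorem isPGroup_two_of_odd_trivial {G : Type*} [Group G] [Finite G] (K : Subgroup G)
    (h : ∀ g ∈ K, ¬ 2 ∣ orderOf g → g = 1) : IsPGroup 2 K := by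
  intro g
  have hpos : 0 < orderOf (g : G) := orderOf_pos _
  obtain ⟨k, m, hm, hkm⟩ := Nat.exists_eq_two_pow_mul_odd hpos.ne'
  refine ⟨k, ?_⟩
  have h1 : ((g : G) ^ 2 ^ k) ∈ K := K.pow_mem g.2 _
  have h2 : orderOf ((g : G) ^ 2 ^ k) = m := by
    rw [orderOf_pow' _ (pow_ne_zero _ two_ne_zero), hkm, Nat.gcd_eq_right (Dvd.intro _ rfl),
      Nat.mul_div_cancel_left _ (pow_pos two_pos k)]
  have h3 : (g : G) ^ 2 ^ k = 1 := by
    apply h _ h1
    rw [h2]
    exact fun hd => (Nat.not_even_iff_odd.mpr hm) (even_iff_two_dvd.mpr hd)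
  apply Subtype.ext
  rw [Subgroup.coe_pow, h3]
  rfl

/-- linear characters of a finite abelian group separate points. -/
theorem exists_hom_ne_one {A : Type*} [Group A] [Finite A] (hcomm : ∀ a b : A, a * b = b * a)
    {y : A} (hy : y ≠ 1) : ∃ ψ : A →* ℂˣ, ψ y ≠ 1 := by
  classical
  haveI : Finite (A →* ℂˣ) := finite_hom hcomm
  haveI : Fintype (A →* ℂˣ) := Fintype.ofFinite _
  by_contra hne
  push Not at hne
  have h1 := sum_hom_eq_zero hcomm hy
  have h2 : ∀ ψ ∈ (Finset.univ : Finset (A →* ℂˣ)), homFun ψ y = 1 := by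
    intro ψ _
    rw [homFun_apply, hne ψ, Units.val_one]
  rw [Finset.sum_congr rfl h2, Finset.sum_const, nsmul_eq_mul, mul_one] at h1
  have h3 : (Finset.univ : Finset (A →* ℂˣ)).card ≠ 0 := by
    rw [Finset.card_univ]
    exact Fintype.card_ne_zero
  exact h3 (by exact_mod_cast h1)

/-- a sum of `n` complex numbers, each `1` or `-1`, one of them `-1`, is not `n`. -/
theorem sum_ne_card {ι : Type*} (F : Finset ι) (v : ι → ℂ) (hv : ∀ i ∈ F, v i = 1 ∨ v i = -1)
    {i₀ : ι} (hi₀ : i₀ ∈ F) (h0 : v i₀ = -1) : ∑ i ∈ F, v i ≠ (F.card : ℂ) := by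
  intro h
  have h1 : ∑ i ∈ F, (1 - v i).re = 0 := by
    rw [← Complex.re_sum, Finset.sum_sub_distrib, h, Finset.sum_const, nsmul_eq_mul, mul_one,
      sub_self, Complex.zero_re]
  have h2 : ∀ i ∈ F, 0 ≤ (1 - v i).re := by
    intro i hi
    rcases hv i hi with h' | h' <;> rw [h'] <;> norm_num
  have h3 := (Finset.sum_eq_zero_iff_of_nonneg h2).mp h1 i₀ hi₀
  rw [h0] at h3
  norm_num at h3

/-- an involution of `G` is conjugate to an element of a Sylow `2`-subgroup. -/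
theorem exists_conj_mem_sylow {G : Type*} [Group G] [Finite G] {p : ℕ} [Fact p.Prime]
    (P : Sylow p G) {s : G} (hs : ∃ k : ℕ, orderOf s = p ^ k) :
    ∃ g : G, g * s * g⁻¹ ∈ (P : Subgroup G) := by
  have hZ : IsPGroup p (Subgroup.zpowers s) := by
    obtain ⟨k, hk⟩ := hs
    apply IsPGroup.of_card (n := k)
    rw [Nat.card_zpowers, hk]
  obtain ⟨Q, hQ⟩ := hZ.exists_le_sylow
  obtain ⟨g, hg⟩ := MulAction.exists_smul_eq G Q P
  refine ⟨g, ?_⟩
  have h1 : s ∈ (Q : Subgroup G) := hQ (Subgroup.mem_zpowers s)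
  rw [← hg, Sylow.coe_subgroup_smul, Subgroup.mem_smul_pointwise_iff_exists]
  exact ⟨s, h1, rfl⟩

end Cfsg.Agent.Lib.Helper7.BH
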