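import Mathlib
import Cfsg.Agent.Lib.Helper7.BH2
import Cfsg.Agent.Lib.Helper7.BH4

set_option autoImplicit false

/-!
# Brauer's theorem on homocyclic Sylow 2-subgroups: the two degree equations
-/

namespace Cfsg.Agent.Lib.Helper7.BH

open Cfsg Subgroup
open Cfsg.Agent.Lib.Helper1 Cfsg.Agent.Lib.Helper4 Cfsg.Agent.Lib.Helper8
open Cfsg.Agent.Lib.Helper7.BL
open scoped ComplexConjugate Classical

attribute [local instance] actHom

variable {G : Type*} [Group G] [Fintype G] {P : Sylow 2 G}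
variable {B : Finset (IrrCharacter G)}

/-- the degree equation. -/
theorem eqA [Fact (Nat.Prime 2)] (h : Hyp 2 P) (hP1 : Nat.card P ≠ 1)
    {M : Ideal AlgInt} (hM : IsPModular 2 M)
    (hB : (B : Set (IrrCharacter G)) = principalBlock M G) (D : Data P B)
    [Fintype (Idx (P : Subgroup G))] [Nontrivial (Idx (P : Subgroup G))]
    (htriv : trivIrr G ∈ B)
    (hd0 : ∀ i, D.w (D.f i) = 0)
    {χ₂ χ₃ : IrrCharacter G} (hne23 : χ₂ ≠ χ₃) (hne2 : χ₂ ≠ trivIrr G) (hne3 : χ₃ ≠ trivIrr G)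
    (hXeq : B \ Finset.univ.image D.f = {trivIrr G, χ₂, χ₃})
    (i : Idx (P : Subgroup G)) (g : G) (hg : ¬ 2 ∣ orderOf g) :
    -1 + (D.w χ₂ : ℂ) * (χ₂ : G → ℂ) g + (D.w χ₃ : ℂ) * (χ₃ : G → ℂ) g +
      (D.e : ℂ) * (D.f i : G → ℂ) g = 0 := by
  have h1 := D.orth_split h hM hP1 hB i g hg
  rw [hXeq, hd0 i, Finset.sum_insert (by simp [hne2.symm, hne3.symm]),
    Finset.sum_insert (by simp [hne23]), Finset.sum_singleton, w_triv D htriv,
    trivIrr_apply] at h1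
  rw [← h1]
  push_cast
  ring

/-- the involution equation. -/
theorem eqB [Fact (Nat.Prime 2)] (h : Hyp 2 P)
    {M : Ideal AlgInt} (hM : IsPModular 2 M)
    (hB : (B : Set (IrrCharacter G)) = principalBlock M G) (D : Data P B)
    [Fintype (↥(P : Subgroup G) →* ℂˣ)]
    [Fintype (Idx (P : Subgroup G))] [Nontrivial (Idx (P : Subgroup G))]
    (htriv : trivIrr G ∈ B)
    (h3 : (Subgroup.centralizer ((P : Subgroup G) : Set G)).relIndex
      (Subgroup.normalizer ((P : Subgroup G) : Set G)) = 3)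
    (hd0 : ∀ i, D.w (D.f i) = 0)
    {χ₂ χ₃ : IrrCharacter G} (hne23 : χ₂ ≠ χ₃) (hne2 : χ₂ ≠ trivIrr G) (hne3 : χ₃ ≠ trivIrr G)
    (hXeq : B \ Finset.univ.image D.f = {trivIrr G, χ₂, χ₃})
    (hw2 : D.w χ₂ = 1 ∨ D.w χ₂ = -1) (hw3 : D.w χ₃ = 1 ∨ D.w χ₃ = -1)
    (t : ↥(P : Subgroup G)) (ht1 : t ≠ 1) (ht2 : t ^ 2 = 1)
    (hinv : ∀ u : G, u ∈ (P : Subgroup G) → u * u ≠ 1 → ∀ g : G,
      (g * (t : G) * g⁻¹) * u * (g * (t : G) * g⁻¹)⁻¹ ≠ u⁻¹)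
    (ψ : ↥(P : Subgroup G) →* ℂˣ) (hψ : ψ ≠ 1)
    (hψ2 : ∀ y : ↥(P : Subgroup G), y ^ 2 = 1 → ψ y = 1) :
    -1 + (D.w χ₂ : ℂ) / (χ₂ : G → ℂ) 1 + (D.w χ₃ : ℂ) / (χ₃ : G → ℂ) 1 +
      9 * (D.e : ℂ) / (D.zet ψ : G → ℂ) 1 = 0 := by
  have htG : orderOf (t : G) = 2 := by
    rw [Subgroup.orderOf_coe]
    apply orderOf_eq_prime ht2 ht1
  have hzY : D.zet ψ ∈ Finset.univ.image D.f := by
    rw [D.zet_of_ne hψ]
    exact Finset.mem_image_of_mem _ (Finset.mem_univ _)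
  have hzB : D.zet ψ ∈ B := D.image_subset hzY
  have hzw : D.w (D.zet ψ) = 0 := by
    rw [D.zet_of_ne hψ]
    exact hd0 _
  have key := invol_rel h hM hB D (t : G) htG {u : G | u ∈ (P : Subgroup G) ∧ u * u ≠ 1}
    (fun u hu => hu.1) (fun u hu g => hinv u hu.1 hu.2 g) ψ hψ (by
      intro y hy
      apply hψ2
      by_contra hne
      apply hy
      refine ⟨y.2, ?_⟩
      intro h0
      apply hne
      apply Subtype.ext
      rw [sq, Subgroup.coe_mul, h0]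
      rfl)
  rw [← Finset.sum_sdiff D.image_subset, hXeq] at key
  -- the exceptional part
  have hY : ∑ χ ∈ Finset.univ.image D.f,
      ((D.w χ : ℂ) + (D.e : ℂ) * (if χ = D.zet ψ then 1 else 0)) *
        (χ : G → ℂ) (t : G) ^ 2 / (χ : G → ℂ) 1 =
      (D.e : ℂ) * (D.zet ψ : G → ℂ) (t : G) ^ 2 / (D.zet ψ : G → ℂ) 1 := by
    rw [Finset.sum_eq_single (D.zet ψ)]
    · rw [hzw, if_pos rfl]
      push_cast
      ring
    · intro χ hχ hne
      obtain ⟨j, _, rfl⟩ := Finset.mem_image.mp hχ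
      rw [hd0 j, if_neg hne]
      push_cast
      ring
    · intro hn
      exact absurd hzY hn
  rw [hY, zet_at_invol h D hψ hψ2 hzB hzw t ht1 ht2, h3] at key
  -- the non-exceptional part
  have hXmem : ∀ χ ∈ ({trivIrr G, χ₂, χ₃} : Finset (IrrCharacter G)),
      χ ∈ B ∧ χ ∉ Finset.univ.image D.f := by
    intro χ hχ
    rw [← hXeq] at hχ
    exact Finset.mem_sdiff.mp hχ
  have hval : ∀ χ ∈ ({trivIrr G, χ₂, χ₃} : Finset (IrrCharacter G)),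
      ((D.w χ : ℂ) + (D.e : ℂ) * (if χ = D.zet ψ then 1 else 0)) *
        (χ : G → ℂ) (t : G) ^ 2 / (χ : G → ℂ) 1 = (D.w χ : ℂ) ^ 3 / (χ : G → ℂ) 1 := by
    intro χ hχ
    obtain ⟨hχB, hχY⟩ := hXmem χ hχ
    rw [X_val h D hχB hχY t ht1, if_neg (fun hc : χ = D.zet ψ => hχY (by rw [hc]; exact hzY))]
    ring
  rw [Finset.sum_congr rfl hval, Finset.sum_insert (by simp [hne2.symm, hne3.symm]),
    Finset.sum_insert (by simp [hne23]), Finset.sum_singleton, w_triv D htriv,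
    trivIrr_apply] at key
  have he2 : (D.e : ℂ) ^ 2 = 1 := by
    have := D.e_sq
    have h' : ((D.e * D.e : ℤ) : ℂ) = 1 := by rw [this]; norm_num
    push_cast at h'
    rw [sq]
    exact h'
  have hc2 : (D.w χ₂ : ℂ) ^ 3 = (D.w χ₂ : ℂ) := by
    rcases hw2 with h' | h' <;> rw [h'] <;> norm_num
  have hc3 : (D.w χ₃ : ℂ) ^ 3 = (D.w χ₃ : ℂ) := by
    rcases hw3 with h' | h' <;> rw [h'] <;> norm_num
  rw [hc2, hc3] at key
  rw [← key]
  have : (D.e : ℂ) * ((D.e : ℂ) * ((3 : ℕ) : ℂ)) ^ 2 = 9 * (D.e : ℂ) := by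
    have : (D.e : ℂ) * ((D.e : ℂ) * ((3 : ℕ) : ℂ)) ^ 2 = 9 * (D.e : ℂ) * (D.e : ℂ) ^ 2 := by
      push_cast
      ring
    rw [this, he2, mul_one]
  rw [this]
  push_cast
  ring

end Cfsg.Agent.Lib.Helper7.BH
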