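import Mathlib
import Cfsg.Agent.Lib.Helper7.BH3

set_option autoImplicit false

/-!
# Brauer's theorem on homocyclic Sylow 2-subgroups: solving the degree equations
-/

namespace Cfsg.Agent.Lib.Helper7.BH

theorem arith (w₂ w₃ e : ℤ) (f₂ f₃ f : ℕ) (hw2 : w₂ = 1 ∨ w₂ = -1) (hw3 : w₃ = 1 ∨ w₃ = -1)
    (he : e = 1 ∨ e = -1) (hf2 : 0 < f₂) (hf3 : 0 < f₃) (hf : 0 < f) (ho2 : Odd f₂)
    (ho3 : Odd f₃)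
    (hA : (-1 : ℂ) + (w₂ : ℂ) * (f₂ : ℂ) + (w₃ : ℂ) * (f₃ : ℂ) + (e : ℂ) * (f : ℂ) = 0)
    (hB : (-1 : ℂ) + (w₂ : ℂ) / (f₂ : ℂ) + (w₃ : ℂ) / (f₃ : ℂ) + 9 * (e : ℂ) / (f : ℂ) = 0) :
    w₂ = -1 ∧ w₃ = -1 ∧ f₂ = 1 ∧ f₃ = 1 ∧ e = 1 ∧ f = 3 := by
  have hf2' : (f₂ : ℂ) ≠ 0 := Nat.cast_ne_zero.mpr hf2.ne'
  have hf3' : (f₃ : ℂ) ≠ 0 := Nat.cast_ne_zero.mpr hf3.ne'
  have hf' : (f : ℂ) ≠ 0 := Nat.cast_ne_zero.mpr hf.ne'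
  have hA' : (-1 : ℤ) + w₂ * (f₂ : ℤ) + w₃ * (f₃ : ℤ) + e * (f : ℤ) = 0 := by exact_mod_cast hA
  have hB1 : (-1 : ℂ) * ((f₂ : ℂ) * (f₃ : ℂ) * (f : ℂ)) + (w₂ : ℂ) * ((f₃ : ℂ) * (f : ℂ)) +
      (w₃ : ℂ) * ((f₂ : ℂ) * (f : ℂ)) + 9 * (e : ℂ) * ((f₂ : ℂ) * (f₃ : ℂ)) = 0 := by
    have h1 : (-1 : ℂ) * ((f₂ : ℂ) * (f₃ : ℂ) * (f : ℂ)) + (w₂ : ℂ) * ((f₃ : ℂ) * (f : ℂ)) +
        (w₃ : ℂ) * ((f₂ : ℂ) * (f : ℂ)) + 9 * (e : ℂ) * ((f₂ : ℂ) * (f₃ : ℂ)) =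
        ((f₂ : ℂ) * (f₃ : ℂ) * (f : ℂ)) *
          ((-1 : ℂ) + (w₂ : ℂ) / (f₂ : ℂ) + (w₃ : ℂ) / (f₃ : ℂ) + 9 * (e : ℂ) / (f : ℂ)) := by
      field_simp
    rw [h1, hB, mul_zero]
  have hB' : (-1 : ℤ) * ((f₂ : ℤ) * (f₃ : ℤ) * (f : ℤ)) + w₂ * ((f₃ : ℤ) * (f : ℤ)) +
      w₃ * ((f₂ : ℤ) * (f : ℤ)) + 9 * e * ((f₂ : ℤ) * (f₃ : ℤ)) = 0 := by exact_mod_cast hB1
  obtain ⟨a, ha⟩ := ho2
  obtain ⟨b, hb⟩ := ho3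
  have hf2z : (0 : ℤ) < (f₂ : ℤ) := by exact_mod_cast hf2
  have hf3z : (0 : ℤ) < (f₃ : ℤ) := by exact_mod_cast hf3
  have hfz : (0 : ℤ) < (f : ℤ) := by exact_mod_cast hf
  have hoz2 : Odd (f₂ : ℤ) := ⟨a, by rw [ha]; push_cast; ring⟩
  have hoz3 : Odd (f₃ : ℤ) := ⟨b, by rw [hb]; push_cast; ring⟩
  have hox : Odd (-w₂ * (f₂ : ℤ)) := by
    rcases hw2 with h | h <;> rw [h]
    · simpa using hoz2.neg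
    · simpa using hoz2
  have hoy : Odd (-w₃ * (f₃ : ℤ)) := by
    rcases hw3 with h | h <;> rw [h]
    · simpa using hoz3.neg
    · simpa using hoz3
  have hw2sq : w₂ * w₂ = 1 := by rcases hw2 with h | h <;> rw [h] <;> norm_num
  have hw3sq : w₃ * w₃ = 1 := by rcases hw3 with h | h <;> rw [h] <;> norm_num
  have hesq : e * e = 1 := by rcases he with h | h <;> rw [h] <;> norm_num
  have hd := dioph (-w₂ * (f₂ : ℤ)) (-w₃ * (f₃ : ℤ)) hox hoy (by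
    linear_combination (w₂ * w₃ * e) * hB' +
      ((-w₂ * (f₂ : ℤ)) * (-w₃ * (f₃ : ℤ)) + (-w₂ * (f₂ : ℤ)) + (-w₃ * (f₃ : ℤ))) * hA' +
      (-(w₃ * e * (f₃ : ℤ) * (f : ℤ))) * hw2sq + (-(w₂ * e * (f₂ : ℤ) * (f : ℤ))) * hw3sq +
      (-(9 * w₂ * w₃ * (f₂ : ℤ) * (f₃ : ℤ))) * hesq)
  obtain ⟨hx, hy⟩ := hd
  have h2 : w₂ = -1 ∧ f₂ = 1 := by
    rcases hw2 with h | h
    · rw [h] at hx
      omega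
    · rw [h] at hx
      exact ⟨h, by omega⟩
  have h3 : w₃ = -1 ∧ f₃ = 1 := by
    rcases hw3 with h | h
    · rw [h] at hy
      omega
    · rw [h] at hy
      exact ⟨h, by omega⟩
  obtain ⟨hw2', hf2''⟩ := h2
  obtain ⟨hw3', hf3''⟩ := h3
  rw [hw2', hw3', hf2'', hf3''] at hA'
  have h4 : e = 1 ∧ f = 3 := by
    rcases he with h | h
    · rw [h] at hA'
      exact ⟨h, by push_cast at hA'; omega⟩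
    · rw [h] at hA'
      push_cast at hA'
      omega
  exact ⟨hw2', hw3', hf2'', hf3'', h4.1, h4.2⟩

end Cfsg.Agent.Lib.Helper7.BH
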