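import Mathlib
import Cfsg.Agent.Lib.Helper7.BH5
import Cfsg.Agent.Lib.Helper8.CharKernel
import Cfsg.Agent.Lib.Helper8.PB1

set_option autoImplicit false

/-!
# Brauer's theorem on homocyclic Sylow 2-subgroups: the end of the proof
-/

namespace Cfsg.Agent.Lib.Helper7.BH

open Cfsg Subgroup
open Cfsg.Agent.Lib.Helper1 Cfsg.Agent.Lib.Helper4 Cfsg.Agent.Lib.Helper8
open Cfsg.Agent.Lib.Helper7.BL
open scoped ComplexConjugate Classical

attribute [local instance] actHom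

variable {G : Type*} [Group G] [Fintype G] {P : Sylow 2 G}
variable {B : Finset (IrrCharacter G)}

set_option maxHeartbeats 800000 in
theorem finish [Fact (Nat.Prime 2)] (h : Hyp 2 P) (hP1 : Nat.card P ≠ 1)
    {M : Ideal AlgInt} (hM : IsPModular 2 M)
    (hB : (B : Set (IrrCharacter G)) = principalBlock M G) (D : Data P B)
    [Fintype (↥(P : Subgroup G) →* ℂˣ)]
    [Fintype (Idx (P : Subgroup G))] [Nontrivial (Idx (P : Subgroup G))]
    (htriv : trivIrr G ∈ B)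
    (h3 : (Subgroup.centralizer ((P : Subgroup G) : Set G)).relIndex
      (Subgroup.normalizer ((P : Subgroup G) : Set G)) = 3)
    (hd0 : ∀ i, D.w (D.f i) = 0)
    {χ₂ χ₃ : IrrCharacter G} (hne23 : χ₂ ≠ χ₃) (hne2 : χ₂ ≠ trivIrr G) (hne3 : χ₃ ≠ trivIrr G)
    (hXeq : B \ Finset.univ.image D.f = {trivIrr G, χ₂, χ₃})
    (hw2 : D.w χ₂ = -1) (hw3 : D.w χ₃ = -1)
    (hdeg2 : (χ₂ : G → ℂ) 1 = 1) (hdeg3 : (χ₃ : G → ℂ) 1 = 1) (he : D.e = 1)
    (hdegY : ∀ i, (D.f i : G → ℂ) 1 = 3)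
    (hO : ∀ N : Subgroup G, N.Normal → Odd (Nat.card N) → N = ⊥) :
    (P : Subgroup G).Normal ∧
      Subgroup.centralizer ((P : Subgroup G) : Set G) = (P : Subgroup G) ∧
      (P : Subgroup G).index = 3 := by
  have hcomm : ∀ a b : ↥(P : Subgroup G), a * b = b * a :=
    fun a b => Subtype.ext (h.hab a a.2 b b.2)
  have hmemB : ∀ χ, χ ∈ B → χ ∈ principalBlock M G := fun χ hχ => by
    rw [← hB]
    exact hχ
  have hX2 : χ₂ ∈ B \ Finset.univ.image D.f := by rw [hXeq]; simp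
  have hX3 : χ₃ ∈ B \ Finset.univ.image D.f := by rw [hXeq]; simp
  obtain ⟨hB2, hY2⟩ := Finset.mem_sdiff.mp hX2
  obtain ⟨hB3, hY3⟩ := Finset.mem_sdiff.mp hX3
  -- the kernels
  obtain ⟨K₂, hK₂n, hK₂⟩ := exists_normal_ker (isCharacter_of_irr χ₂.2)
  obtain ⟨K₃, hK₃n, hK₃⟩ := exists_normal_ker (isCharacter_of_irr χ₃.2)
  have hL : ∀ i : Idx (P : Subgroup G), ∃ L : Subgroup G, L.Normal ∧
      ∀ g : G, g ∈ L ↔ (D.f i : G → ℂ) g = (D.f i : G → ℂ) 1 :=
    fun i => exists_normal_ker (isCharacter_of_irr (D.f i).2)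
  choose L hLn hLm using hL
  set Lall : Subgroup G := (K₂ ⊓ K₃) ⊓ ⨅ i, L i with hLall
  haveI : (⨅ i, L i).Normal := Subgroup.normal_iInf_normal hLn
  haveI : Lall.Normal := inferInstance
  -- values on P
  have hval2 : ∀ y : ↥(P : Subgroup G), (χ₂ : G → ℂ) (y : G) = 1 := by
    intro y
    by_cases hy : y = 1
    · rw [hy]
      exact hdeg2
    · rw [X_val h D hB2 hY2 y hy, hw2]
      norm_num
  have hval3 : ∀ y : ↥(P : Subgroup G), (χ₃ : G → ℂ) (y : G) = 1 := by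
    intro y
    by_cases hy : y = 1
    · rw [hy]
      exact hdeg3
    · rw [X_val h D hB3 hY3 y hy, hw3]
      norm_num
  -- `Lall` has odd order
  have hodd : Odd (Nat.card Lall) := by
    rw [← Nat.not_even_iff_odd, even_iff_two_dvd]
    intro hdvd
    obtain ⟨s, hs⟩ := exists_prime_orderOf_dvd_card' (G := ↥Lall) 2 hdvd
    have hsG : orderOf (s : G) = 2 := by rw [Subgroup.orderOf_coe]; exact hs
    obtain ⟨g, hg⟩ := exists_conj_mem_sylow P (s := (s : G)) ⟨1, by rw [hsG, pow_one]⟩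
    set s' : ↥(P : Subgroup G) := ⟨g * (s : G) * g⁻¹, hg⟩ with hs'
    have hs'L : (s' : G) ∈ Lall := ‹Lall.Normal›.conj_mem _ s.2 g
    have hs'2 : s' ^ 2 = 1 := by
      apply Subtype.ext
      rw [Subgroup.coe_pow]
      show (g * (s : G) * g⁻¹) ^ 2 = 1
      rw [conj_pow, ← hsG, pow_orderOf_eq_one]
      group
    have hs'1 : s' ≠ 1 := by
      intro h1
      have h2 : (s : G) = 1 := by
        have : g * (s : G) * g⁻¹ = 1 := congrArg Subtype.val h1
        have h3 : (s : G) = g⁻¹ * (g * (s : G) * g⁻¹) * g := by group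
        rw [h3, this]
        group
      rw [h2, orderOf_one] at hsG
      omega
    obtain ⟨ψ₁, hψ₁⟩ := exists_hom_ne_one hcomm hs'1
    have hψ₁ne : ψ₁ ≠ 1 := by
      intro h0
      apply hψ₁
      rw [h0]
      rfl
    have hzB : D.zet ψ₁ ∈ B := by
      rw [D.zet_of_ne hψ₁ne]
      exact D.hfB _
    have hv := D.value h hzB s' hs'1
    have hmemL : (s' : G) ∈ L (idxOf (P : Subgroup G) ψ₁ hψ₁ne) := by
      have : (s' : G) ∈ ⨅ i, L i := (Subgroup.mem_inf.mp hs'L).2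
      exact (Subgroup.mem_iInf.mp this) _
    rw [hLm, hdegY, ← D.zet_of_ne hψ₁ne] at hmemL
    rw [hmemL, D.zet_of_ne hψ₁ne, hd0, he, ← D.zet_of_ne hψ₁ne] at hv
    have hv' : ∑ ψ ∈ Finset.univ.filter (fun ψ : ↥(P : Subgroup G) →* ℂˣ =>
        ψ ≠ 1 ∧ D.zet ψ₁ = D.zet ψ), homFun ψ s' = 3 := by
      rw [hv]
      push_cast
      ring
    have hc := card_filter h D hψ₁ne
    rw [h3] at hc
    have hF := sum_ne_card (Finset.univ.filter (fun ψ : ↥(P : Subgroup G) →* ℂˣ =>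
        ψ ≠ 1 ∧ D.zet ψ₁ = D.zet ψ)) (fun ψ => homFun ψ s') (i₀ := ψ₁) ?_ ?_ ?_
    · apply hF
      rw [hv', hc]
      norm_num
    · intro ψ _
      have h1 : (ψ s') ^ 2 = 1 := by rw [← map_pow, hs'2, map_one]
      have h2 : (homFun ψ s') ^ 2 = 1 := by
        rw [homFun_apply, ← Units.val_pow_eq_pow_val, h1, Units.val_one]
      have h2' : homFun ψ s' * homFun ψ s' = 1 := by rw [← sq]; exact h2
      exact mul_self_eq_one_iff.mp h2'
    · rw [Finset.mem_filter]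
      exact ⟨Finset.mem_univ _, hψ₁ne, rfl⟩
    · have h1 : (ψ₁ s') ^ 2 = 1 := by rw [← map_pow, hs'2, map_one]
      have h2 : (homFun ψ₁ s') ^ 2 = 1 := by
        rw [homFun_apply, ← Units.val_pow_eq_pow_val, h1, Units.val_one]
      have h2' : homFun ψ₁ s' * homFun ψ₁ s' = 1 := by rw [← sq]; exact h2
      rcases mul_self_eq_one_iff.mp h2' with h' | h'
      · exfalso
        apply hψ₁
        apply Units.ext
        rw [← homFun_apply, h', Units.val_one]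
      · exact h'
  have hLbot : Lall = ⊥ := hO Lall inferInstance hodd
  -- elements of odd order in `K₂ ⊓ K₃` are trivial
  have hKodd : ∀ g ∈ K₂ ⊓ K₃, ¬ 2 ∣ orderOf g → g = 1 := by
    intro g hg hg2
    have hgL : g ∈ Lall := by
      refine Subgroup.mem_inf.mpr ⟨hg, ?_⟩
      rw [Subgroup.mem_iInf]
      intro i
      rw [hLm, hdegY]
      have h1 := eqA h hP1 hM hB D htriv hd0 hne23 hne2 hne3 hXeq i g hg2
      rw [hw2, hw3, he, (hK₂ g).mp (Subgroup.mem_inf.mp hg).1,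
        (hK₃ g).mp (Subgroup.mem_inf.mp hg).2, hdeg2, hdeg3] at h1
      push_cast at h1
      linear_combination h1
    rw [hLbot] at hgL
    exact Subgroup.mem_bot.mp hgL
  have hK2grp : IsPGroup 2 ↥(K₂ ⊓ K₃) := isPGroup_two_of_odd_trivial _ hKodd
  have hPK : (P : Subgroup G) ≤ K₂ ⊓ K₃ := by
    intro y hy
    exact Subgroup.mem_inf.mpr ⟨(hK₂ y).mpr (by rw [hval2 ⟨y, hy⟩, hdeg2]),
      (hK₃ y).mpr (by rw [hval3 ⟨y, hy⟩, hdeg3])⟩
  have hKP : K₂ ⊓ K₃ = (P : Subgroup G) := P.is_maximal' hK2grp hPK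
  have hPn : (P : Subgroup G).Normal := by
    rw [← hKP]
    infer_instance
  -- the centralizer
  obtain ⟨y₀, hy₀⟩ : ∃ y : ↥(P : Subgroup G), y ≠ 1 := by
    by_contra hne
    push Not at hne
    apply hP1
    haveI : Subsingleton ↥(P : Subgroup G) := ⟨fun a b => by rw [hne a, hne b]⟩
    exact Nat.card_unique
  have hy₀G : (y₀ : G) ≠ 1 := fun h0 => hy₀ (Subtype.ext h0)
  have hy₀ord : ∃ k : ℕ, orderOf (y₀ : G) = 2 ^ k := by
    obtain ⟨k, hk⟩ := (IsPGroup.iff_orderOf.mp P.2) y₀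
    exact ⟨k, by rw [← hk]; exact (Subgroup.orderOf_coe y₀)⟩
  have hCodd : ∀ g ∈ Subgroup.centralizer ((P : Subgroup G) : Set G), ¬ 2 ∣ orderOf g →
      g = 1 := by
    intro g hg hg2
    have hcm : Commute (y₀ : G) g := (Subgroup.mem_centralizer_iff.mp hg (y₀ : G) y₀.2)
    have hpp : IsPPart 2 ((y₀ : G) * g) (y₀ : G) := ⟨g, rfl, hcm, hy₀ord, hg2⟩
    have hgK : g ∈ K₂ ⊓ K₃ := by
      refine Subgroup.mem_inf.mpr ⟨?_, ?_⟩
      · rw [hK₂, ← character_mul_of_ker (isCharacter_of_irr χ₂.2)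
          (n := (y₀ : G)) (by rw [hval2 y₀, hdeg2]) g,
          h.value_ext hM (hmemB _ hB2) hpp y₀.2 hy₀G, hval2 y₀, hdeg2]
      · rw [hK₃, ← character_mul_of_ker (isCharacter_of_irr χ₃.2)
          (n := (y₀ : G)) (by rw [hval3 y₀, hdeg3]) g,
          h.value_ext hM (hmemB _ hB3) hpp y₀.2 hy₀G, hval3 y₀, hdeg3]
    exact hKodd g hgK hg2
  have hC2grp : IsPGroup 2 ↥(Subgroup.centralizer ((P : Subgroup G) : Set G)) :=
    isPGroup_two_of_odd_trivial _ hCodd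
  have hCP : Subgroup.centralizer ((P : Subgroup G) : Set G) = (P : Subgroup G) :=
    P.is_maximal' hC2grp h.P_le_C
  refine ⟨hPn, hCP, ?_⟩
  rw [Subgroup.normalizer_eq_top, Subgroup.relIndex_top_right, hCP] at h3
  exact h3

end Cfsg.Agent.Lib.Helper7.BH
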