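import Mathlib
import Cfsg.Agent.Lib.Helper7.BH6
import Cfsg.Agent.Lib.Helper7.BH7
import Cfsg.Agent.Lib.Helper8.TildeBlock
import Cfsg.Agent.Lib.Helper8.Deflation
import Cfsg.Agent.S0944
import Cfsg.Agent.S0945

set_option autoImplicit false

/-!
# Brauer's theorem on homocyclic Sylow 2-subgroups
-/

namespace Cfsg.Agent.Lib.Helper7.BH

open Cfsg Subgroup
open Cfsg.Agent.Lib.Helper1 Cfsg.Agent.Lib.Helper4 Cfsg.Agent.Lib.Helper8
open Cfsg.Agent.Lib.Helper7.BL
open scoped ComplexConjugate Classical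

attribute [local instance] actHom

/-- the case of inertial index `3`. -/
theorem case_three {G : Type*} [Group G] [Finite G] (P : Sylow 2 G) (h : Hyp 2 P)
    (h3 : (Subgroup.centralizer ((P : Subgroup G) : Set G)).relIndex
      (Subgroup.normalizer ((P : Subgroup G) : Set G)) = 3)
    (hcard : 16 ≤ Nat.card P) (y₀ : ↥(P : Subgroup G)) (hy₀ : y₀ * y₀ ≠ 1)
    (hO : ∀ N : Subgroup G, N.Normal → Odd (Nat.card N) → N = ⊥) :
    (P : Subgroup G).Normal ∧
      Subgroup.centralizer ((P : Subgroup G) : Set G) = (P : Subgroup G) ∧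
      (P : Subgroup G).index = 3 := by
  haveI : Fact (Nat.Prime 2) := ⟨Nat.prime_two⟩
  obtain ⟨M, hM⟩ := exists_isPModular 2
  haveI : Fintype G := Fintype.ofFinite G
  haveI : Fintype (IrrCharacter G) := Fintype.ofFinite _
  have hcomm : ∀ a b : ↥(P : Subgroup G), a * b = b * a :=
    fun a b => Subtype.ext (h.hab a a.2 b b.2)
  haveI : Finite (↥(P : Subgroup G) →* ℂˣ) := finite_hom hcomm
  haveI : Fintype (↥(P : Subgroup G) →* ℂˣ) := Fintype.ofFinite _
  haveI : Finite (Idx (P : Subgroup G)) := by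
    unfold Idx
    infer_instance
  haveI : Fintype (Idx (P : Subgroup G)) := Fintype.ofFinite _
  have hP1 : Nat.card P ≠ 1 := by omega
  set B : Finset (IrrCharacter G) := Finset.univ.filter (fun χ => χ ∈ principalBlock M G)
    with hBdef
  have hB : (B : Set (IrrCharacter G)) = principalBlock M G := by
    ext χ
    rw [Finset.mem_coe, hBdef, Finset.mem_filter]
    exact ⟨fun hh => hh.2, fun hh => ⟨Finset.mem_univ _, hh⟩⟩
  have hci := h.card_idx
  rw [h3] at hci
  have h5 : 5 ≤ Fintype.card (Idx (P : Subgroup G)) := by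
    rw [← Nat.card_eq_fintype_card]
    have : 16 ≤ Nat.card ↥(P : Subgroup G) := hcard
    omega
  haveI : Nontrivial (Idx (P : Subgroup G)) := by
    apply Fintype.one_lt_card_iff_nontrivial.mp
    omega
  obtain ⟨D⟩ := h.exists_data hP1 hM B hB
  have htriv : trivIrr G ∈ B := by
    rw [← Finset.mem_coe, hB]
    exact trivIrr_mem_principalBlock (isPModular_ne_top hM)
  obtain ⟨χ₂, χ₃, hne23, hne2, hne3, hXeq, hw2, hw3⟩ :=
    X_structure h hP1 hM hB D htriv h3 h5
  have hd0 : ∀ i, D.w (D.f i) = 0 := fun i => d_zero h hP1 hM hB D htriv h3 h5 i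
  have hX2 : χ₂ ∈ B \ Finset.univ.image D.f := by rw [hXeq]; simp
  have hX3 : χ₃ ∈ B \ Finset.univ.image D.f := by rw [hXeq]; simp
  obtain ⟨hB2, hY2⟩ := Finset.mem_sdiff.mp hX2
  obtain ⟨hB3, hY3⟩ := Finset.mem_sdiff.mp hX3
  -- an involution of `P`
  have h2P : 2 ∣ Nat.card ↥(P : Subgroup G) := by
    obtain ⟨k, hk⟩ := IsPGroup.iff_card.mp P.2
    rw [hk]
    have hk0 : k ≠ 0 := by
      intro h0
      rw [h0, pow_zero] at hk
      exact hP1 hk
    exact dvd_pow_self 2 hk0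
  obtain ⟨t, ht⟩ := exists_prime_orderOf_dvd_card' (G := ↥(P : Subgroup G)) 2 h2P
  have ht1 : t ≠ 1 := by
    intro h0
    rw [h0, orderOf_one] at ht
    omega
  have ht2 : t ^ 2 = 1 := by
    have := pow_orderOf_eq_one t
    rwa [ht] at this
  have htG : orderOf (t : G) = 2 := by rw [Subgroup.orderOf_coe]; exact ht
  -- the linear character `ψ`
  obtain ⟨χ₁, hχ₁⟩ := exists_hom_ne_one hcomm hy₀
  set ψ : ↥(P : Subgroup G) →* ℂˣ := χ₁ * χ₁ with hψdef
  have hψ : ψ ≠ 1 := by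
    intro h0
    apply hχ₁
    have h1 := DFunLike.congr_fun h0 y₀
    rw [hψdef, MonoidHom.mul_apply, MonoidHom.one_apply, ← map_mul] at h1
    exact h1
  have hψ2 : ∀ y : ↥(P : Subgroup G), y ^ 2 = 1 → ψ y = 1 := by
    intro y hy
    rw [hψdef, MonoidHom.mul_apply, ← map_mul, ← sq, hy, map_one]
  -- no element of `P` of order greater than `2` is inverted
  have hinv : ∀ u : G, u ∈ (P : Subgroup G) → u * u ≠ 1 → ∀ g : G,
      (g * (t : G) * g⁻¹) * u * (g * (t : G) * g⁻¹)⁻¹ ≠ u⁻¹ := by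
    intro u hu huu g hinv
    have hu1 : u ≠ 1 := by
      intro h0
      apply huu
      rw [h0, mul_one]
    obtain ⟨n, hn, hnu⟩ := h.fusion u hu (g * (t : G) * g⁻¹) (by
      rw [hinv]
      exact (P : Subgroup G).inv_mem hu)
    rw [hinv] at hnu
    -- `n ^ 2` centralizes `u`
    have hn2 : n ^ 2 ∈ Subgroup.centralizer ((P : Subgroup G) : Set G) := by
      rw [← h.hfrob u hu hu1]
      refine Subgroup.mem_inf.mpr ⟨?_, Subgroup.pow_mem _ hn 2⟩
      rw [Subgroup.mem_centralizer_singleton_iff]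
      have h1 : n * u = u⁻¹ * n := by
        calc n * u = (n * u * n⁻¹) * n := by group
          _ = u⁻¹ * n := by rw [hnu]
      have h2' : n * u⁻¹ * n⁻¹ = u := by
        have h0 : (n * u * n⁻¹)⁻¹ = (u⁻¹)⁻¹ := by rw [hnu]
        calc n * u⁻¹ * n⁻¹ = (n * u * n⁻¹)⁻¹ := by group
          _ = u := by rw [h0, inv_inv]
      have h2 : n * u⁻¹ = u * n := by
        calc n * u⁻¹ = (n * u⁻¹ * n⁻¹) * n := by group
          _ = u * n := by rw [h2']
      calc n ^ 2 * u = n * (n * u) := by rw [sq, mul_assoc]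
        _ = n * (u⁻¹ * n) := by rw [h1]
        _ = (n * u⁻¹) * n := by rw [mul_assoc]
        _ = u * n * n := by rw [h2]
        _ = u * n ^ 2 := by rw [sq, mul_assoc]
    set n' : ↥(Subgroup.normalizer ((P : Subgroup G) : Set G)) := ⟨n, hn⟩ with hn'
    have hidx : ((Subgroup.centralizer ((P : Subgroup G) : Set G)).subgroupOf
        (Subgroup.normalizer ((P : Subgroup G) : Set G))).index = 3 := h3
    have h3' := Subgroup.pow_index_mem ((Subgroup.centralizer ((P : Subgroup G) : Set G)).subgroupOf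
        (Subgroup.normalizer ((P : Subgroup G) : Set G))) n'
    rw [hidx] at h3'
    have h2' : n' ^ 2 ∈ (Subgroup.centralizer ((P : Subgroup G) : Set G)).subgroupOf
        (Subgroup.normalizer ((P : Subgroup G) : Set G)) := by
      rw [Subgroup.mem_subgroupOf]
      exact hn2
    have h1' : n' ∈ (Subgroup.centralizer ((P : Subgroup G) : Set G)).subgroupOf
        (Subgroup.normalizer ((P : Subgroup G) : Set G)) := by
      have : n' = n' ^ 3 * (n' ^ 2)⁻¹ := by group
      rw [this]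
      exact Subgroup.mul_mem _ h3' (Subgroup.inv_mem _ h2')
    rw [Subgroup.mem_subgroupOf] at h1'
    have hnC : n ∈ Subgroup.centralizer ((P : Subgroup G) : Set G) := h1'
    have h4 := Subgroup.mem_centralizer_iff.mp hnC u hu
    apply huu
    have : u = u⁻¹ := by
      rw [← hnu, ← h4]
      group
    calc u * u = u * u⁻¹ := by rw [← this]
      _ = 1 := mul_inv_cancel u
  -- the two equations
  have hA := eqA h hP1 hM hB D htriv hd0 hne23 hne2 hne3 hXeq
    (idxOf (P : Subgroup G) ψ hψ) 1 (by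
      rw [orderOf_one]
      omega)
  rw [← D.zet_of_ne hψ] at hA
  have hBq := eqB h hM hB D htriv h3 hd0 hne23 hne2 hne3 hXeq hw2 hw3 t ht1 ht2 hinv ψ hψ hψ2
  obtain ⟨hdeg2, hpos2⟩ := irr_apply_one_eq_charDegree χ₂.2
  obtain ⟨hdeg3, hpos3⟩ := irr_apply_one_eq_charDegree χ₃.2
  obtain ⟨hdegZ, hposZ⟩ := irr_apply_one_eq_charDegree (D.zet ψ).2
  -- parity
  have hpar : ∀ χ : IrrCharacter G, χ ∈ B → χ ∉ Finset.univ.image D.f →
      (D.w χ = 1 ∨ D.w χ = -1) → Odd (charDegree (χ : G → ℂ)) := by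
    intro χ hχB hχY hw
    obtain ⟨n, hn1, hn2⟩ := Cfsg.Agent.S0944.result χ (t : G) htG
    rw [X_val h D hχB hχY t ht1] at hn1
    have hn3 : n = -D.w χ := by
      have : ((-D.w χ : ℤ) : ℂ) = (n : ℂ) := by
        rw [← hn1]
        push_cast
        rfl
      exact_mod_cast this.symm
    rw [hn3] at hn2
    rcases hw with hw | hw <;> rw [hw] at hn2 <;> rw [Nat.odd_iff] <;> omega
  rw [hdeg2, hdeg3, hdegZ] at hA hBq
  obtain ⟨hw2', hw3', hf2, hf3, he, hf⟩ := arith (D.w χ₂) (D.w χ₃) D.e _ _ _ hw2 hw3 D.he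
    hpos2 hpos3 hposZ (hpar χ₂ hB2 hY2 hw2) (hpar χ₃ hB3 hY3 hw3) hA hBq
  refine finish h hP1 hM hB D htriv h3 hd0 hne23 hne2 hne3 hXeq hw2' hw3'
    (by rw [hdeg2, hf2]; norm_num) (by rw [hdeg3, hf3]; norm_num) he ?_ hO
  intro i
  have h1 := D.agree h hM hB i (idxOf (P : Subgroup G) ψ hψ) 1 (by
    rw [orderOf_one]
    omega)
  rw [h1, ← D.zet_of_ne hψ, hdegZ, hf]
  norm_num

end Cfsg.Agent.Lib.Helper7.BH
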