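import Mathlib

set_option autoImplicit false

/-! Modular lemmas: a `p`-group acting linearly in characteristic `p`. -/

namespace Cfsg.Agent.Lib.Helper7.VL

open MulAction

section FP

variable {k : Type*} [Field k] {p : ℕ} [hp : Fact p.Prime] [CharP k p]
variable {P : Type*} [Group P] [Finite P]
variable {W : Type*} [AddCommGroup W] [Module k W]

theorem nsmul_eq_zero_of_charP (k : Type*) [Field k] (p : ℕ) [CharP k p] {W : Type*} [AddCommGroup W]
    [Module k W] (w : W) : p • w = 0 := by
  rw [← Nat.cast_smul_eq_nsmul k p w, CharP.cast_eq_zero k p, zero_smul]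

/-- A `p`-group acting linearly on a vector space in characteristic `p`: every nonzero vector `w₀`
gives rise to a nonzero fixed vector in the additive group generated by its orbit. -/
theorem exists_fixed_in_closure (hP : IsPGroup p P) (σ : P →* (W →ₗ[k] W)) (w₀ : W) (hw₀ : w₀ ≠ 0) :
    ∃ w ∈ AddSubgroup.closure (Set.range fun x : P => σ x w₀), w ≠ 0 ∧ ∀ x : P, σ x w = w := by
  classical
  set S : Set W := Set.range fun x : P => σ x w₀ with hS
  set U : AddSubgroup W := AddSubgroup.closure S with hU
  have hSfin : S.Finite := Set.finite_range _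
  have hstab : ∀ (y : P) (u : W), u ∈ U → σ y u ∈ U := by
    intro y u hu
    induction hu using AddSubgroup.closure_induction with
    | mem u hu =>
      obtain ⟨x, rfl⟩ := hu
      apply AddSubgroup.subset_closure
      refine ⟨y * x, ?_⟩
      simp only [map_mul, Module.End.mul_apply]
    | zero => rw [map_zero]; exact U.zero_mem
    | add a b _ _ ha hb => rw [map_add]; exact U.add_mem ha hb
    | neg a _ ha => rw [map_neg]; exact U.neg_mem ha
  have hw₀U : w₀ ∈ U := by
    apply AddSubgroup.subset_closure
    exact ⟨1, by simp⟩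
  -- finiteness
  have hfg : AddGroup.FG U := by
    rw [AddGroup.fg_iff_addSubgroup_fg, AddSubgroup.fg_iff]
    exact ⟨S, rfl, hSfin⟩
  have htors : IsAddTorsion U := by
    intro u
    rw [isOfFinAddOrder_iff_nsmul_eq_zero]
    refine ⟨p, hp.out.pos, ?_⟩
    apply Subtype.ext
    rw [AddSubgroup.coe_nsmul]
    exact nsmul_eq_zero_of_charP k p _
  have hfin : Finite U := AddCommGroup.finite_of_fg_isAddTorsion (G := U) htors
  -- the action of `P` on `U`
  let act : MulAction P U :=
    { smul := fun y u => ⟨σ y u, hstab y u u.2⟩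
      one_smul := fun u => by
        apply Subtype.ext
        show σ 1 (u : W) = u
        rw [map_one]; rfl
      mul_smul := fun x y u => by
        apply Subtype.ext
        show σ (x * y) (u : W) = σ x (σ y u)
        rw [map_mul]; rfl }
  have hsmul : ∀ (y : P) (u : U), ((y • u : U) : W) = σ y u := fun y u => rfl
  -- p divides the cardinality of U
  have hpU : p ∣ Nat.card U := by
    have h1 : addOrderOf (⟨w₀, hw₀U⟩ : U) = p := by
      apply addOrderOf_eq_prime
      · apply Subtype.ext
        rw [AddSubgroup.coe_nsmul]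
        exact nsmul_eq_zero_of_charP k p _
      · intro h
        exact hw₀ (congrArg Subtype.val h)
    rw [← h1]
    exact addOrderOf_dvd_natCard _
  have h0 : (0 : U) ∈ fixedPoints P U := by
    intro y
    apply Subtype.ext
    rw [hsmul]
    simp
  obtain ⟨b, hb, hb0⟩ := hP.exists_fixed_point_of_prime_dvd_card_of_fixed_point U hpU h0
  refine ⟨b, b.2, ?_, ?_⟩
  · intro h
    apply hb0
    apply Subtype.ext
    exact h.symm
  · intro x
    have := hb x
    rw [← hsmul, this]

end FP

section LemmaA

variable {k : Type*} [Field k] {p : ℕ} [hp : Fact p.Prime] [CharP k p]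
variable {P : Type*} [Group P] [Fintype P]
variable {W : Type*} [AddCommGroup W] [Module k W]

/-- translation action on functions -/
def transl (k : Type*) [Field k] (P : Type*) [Group P] : P →* ((P → k) →ₗ[k] (P → k)) where
  toFun y := LinearMap.funLeft k k (fun x => y⁻¹ * x)
  map_one' := by
    ext c x
    simp [LinearMap.funLeft]
  map_mul' a b := by
    ext c x
    simp [LinearMap.funLeft, mul_assoc]

theorem transl_apply (y : P) (c : P → k) (x : P) : transl k P y c x = c (y⁻¹ * x) := rfl

/-- If the norm element does not kill `w`, the translates of `w` are linearly independent. -/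
theorem linearIndependent_of_sum_ne_zero (hP : IsPGroup p P) (σ : P →* (W →ₗ[k] W)) (w : W)
    (hw : ∑ x : P, σ x w ≠ 0) : LinearIndependent k (fun x : P => σ x w) := by
  classical
  rw [Fintype.linearIndependent_iff]
  intro c hc
  by_contra hne
  push Not at hne
  have hc0 : c ≠ 0 := by
    intro h
    obtain ⟨x, hx⟩ := hne
    exact hx (by rw [h]; rfl)
  -- the kernel
  let Φ : (P → k) →ₗ[k] W := Fintype.linearCombination k (fun x => σ x w)
  have hΦ : ∀ c : P → k, Φ c = ∑ x, c x • σ x w := fun c => Fintype.linearCombination_apply k _ c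
  have hΦc : Φ c = 0 := by rw [hΦ]; exact hc
  have hΦt : ∀ (y : P) (c : P → k), Φ (transl k P y c) = σ y (Φ c) := by
    intro y c
    rw [hΦ, hΦ, map_sum]
    rw [← Equiv.sum_comp (Equiv.mulLeft y)]
    refine Finset.sum_congr rfl fun x _ => ?_
    rw [transl_apply, Equiv.coe_mulLeft, inv_mul_cancel_left, map_smul, map_mul]
    rfl
  obtain ⟨c', hc'mem, hc'0, hc'fix⟩ := exists_fixed_in_closure (k := k) hP (transl k P) c hc0
  have hc'ker : Φ c' = 0 := by
    have : AddSubgroup.closure (Set.range fun y : P => transl k P y c) ≤
        (LinearMap.ker Φ).toAddSubgroup := by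
      rw [AddSubgroup.closure_le]
      rintro _ ⟨y, rfl⟩
      show Φ (transl k P y c) = 0
      rw [hΦt, hΦc, map_zero]
    exact this hc'mem
  have hconst : ∀ x, c' x = c' 1 := by
    intro x
    have := congrFun (hc'fix x) x
    rw [transl_apply, inv_mul_cancel] at this
    exact this.symm
  have h1 : c' 1 ≠ 0 := by
    intro h
    apply hc'0
    ext x
    rw [hconst x, h]
    rfl
  rw [hΦ] at hc'ker
  have : c' 1 • ∑ x : P, σ x w = 0 := by
    rw [Finset.smul_sum, ← hc'ker]
    refine Finset.sum_congr rfl fun x _ => ?_
    rw [hconst x]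
  rcases smul_eq_zero.1 this with h | h
  · exact h1 h
  · exact hw h

end LemmaA

end Cfsg.Agent.Lib.Helper7.VL
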