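import Mathlib
import Cfsg.Agent.Lib.Helper7.VL1

set_option autoImplicit false

/-! The norm element of a `p`-group kills small matrix algebras in characteristic `p`. -/

namespace Cfsg.Agent.Lib.Helper7.VL

open Matrix

section PartC

variable {k : Type*} [Field k] {p : ℕ} [hp : Fact p.Prime] [CharP k p]
variable {P : Type*} [Group P] [Fintype P]
variable {n : ℕ}

/-- the conjugation action on matrices -/
def conjRep (B : P →* Matrix (Fin n) (Fin n) k) :
    P →* (Matrix (Fin n) (Fin n) k →ₗ[k] Matrix (Fin n) (Fin n) k) where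
  toFun x := (LinearMap.mulLeft k (B x)).comp (LinearMap.mulRight k (B x⁻¹))
  map_one' := by
    ext S : 1
    simp
  map_mul' a b := by
    ext S : 1
    simp [mul_assoc]

theorem conjRep_apply (B : P →* Matrix (Fin n) (Fin n) k) (x : P) (S : Matrix (Fin n) (Fin n) k) :
    conjRep B x S = B x * S * B x⁻¹ := by
  simp [conjRep, mul_assoc]

theorem B_mul_inv (B : P →* Matrix (Fin n) (Fin n) k) (x : P) : B x * B x⁻¹ = 1 := by
  rw [← map_mul, mul_inv_cancel, map_one]

theorem B_inv_mul (B : P →* Matrix (Fin n) (Fin n) k) (x : P) : B x⁻¹ * B x = 1 := by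
  rw [← map_mul, inv_mul_cancel, map_one]

/-- the natural action on column vectors -/
def vecRep (B : P →* Matrix (Fin n) (Fin n) k) : P →* ((Fin n → k) →ₗ[k] (Fin n → k)) where
  toFun x := Matrix.mulVecLin (B x)
  map_one' := by rw [map_one, Matrix.mulVecLin_one]; rfl
  map_mul' a b := by rw [map_mul, Matrix.mulVecLin_mul]; rfl

/-- the contragredient action -/
def vecRep' (B : P →* Matrix (Fin n) (Fin n) k) : P →* ((Fin n → k) →ₗ[k] (Fin n → k)) where
  toFun x := Matrix.mulVecLin (B x⁻¹)ᵀ
  map_one' := by rw [inv_one, map_one, Matrix.transpose_one, Matrix.mulVecLin_one]; rfl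
  map_mul' a b := by
    rw [_root_.mul_inv_rev, map_mul, Matrix.transpose_mul, Matrix.mulVecLin_mul]; rfl

theorem sum_conj_eq_zero (hP : IsPGroup p P) (hP1 : 1 < Fintype.card P)
    (B : P →* Matrix (Fin n) (Fin n) k) (hn : n ^ 2 ≤ Fintype.card P) (S : Matrix (Fin n) (Fin n) k) :
    ∑ x : P, B x * S * B x⁻¹ = 0 := by
  classical
  by_contra hne
  have hne' : ∑ x : P, conjRep B x S ≠ 0 := by
    simp only [conjRep_apply]
    exact hne
  have hLI := linearIndependent_of_sum_ne_zero hP (conjRep B) S hne'
  have hfr : Module.finrank k (Matrix (Fin n) (Fin n) k) = n ^ 2 := by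
    rw [Module.finrank_matrix]
    simp [sq]
  have hle := hLI.fintype_card_le_finrank
  rw [hfr] at hle
  have hcard : Fintype.card P = Module.finrank k (Matrix (Fin n) (Fin n) k) := by
    rw [hfr]; omega
  have hn2 : 2 ≤ n := by
    by_contra h
    have : n ≤ 1 := by omega
    have : n ^ 2 ≤ 1 := by
      calc n ^ 2 ≤ 1 ^ 2 := Nat.pow_le_pow_left this 2
        _ = 1 := by norm_num
    omega
  let b := basisOfLinearIndependentOfCardEqFinrank hLI hcard
  have hb : ∀ x, b x = B x * S * B x⁻¹ := by
    intro x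
    show (basisOfLinearIndependentOfCardEqFinrank hLI hcard) x = _
    rw [coe_basisOfLinearIndependentOfCardEqFinrank, conjRep_apply]
  set N : Matrix (Fin n) (Fin n) k := ∑ x : P, B x * S * B x⁻¹ with hN
  -- fixed elements are multiples of N
  have hfix : ∀ F : Matrix (Fin n) (Fin n) k, (∀ y : P, B y * F * B y⁻¹ = F) → ∃ a : k, F = a • N := by
    intro F hF
    let c := b.repr F
    have hFc : F = ∑ x : P, c x • b x := (b.sum_repr F).symm
    have hconst : ∀ y : P, c y = c 1 := by
      intro y
      have h1 : F = ∑ x : P, c (y⁻¹ * x) • b x := by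
        have h2 : B y * F * B y⁻¹ = ∑ x : P, c x • b (y * x) := by
          conv_lhs => rw [hFc]
          rw [Finset.mul_sum, Finset.sum_mul]
          refine Finset.sum_congr rfl fun x _ => ?_
          rw [hb, hb, Matrix.mul_smul, Matrix.smul_mul, map_mul, _root_.mul_inv_rev, map_mul]
          simp only [mul_assoc]
        rw [hF y] at h2
        rw [h2, ← Equiv.sum_comp (Equiv.mulLeft y) (fun z => c (y⁻¹ * z) • b z)]
        refine Finset.sum_congr rfl fun x _ => ?_
        rw [Equiv.coe_mulLeft, inv_mul_cancel_left]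
      have h3 := congrArg (fun M => b.repr M y) h1
      rw [map_sum, Finsupp.coe_finsetSum, Finset.sum_apply] at h3
      simp only [map_smul, Finsupp.smul_apply, b.repr_self, smul_eq_mul] at h3
      rw [Finset.sum_eq_single y] at h3
      · simpa using h3
      · intro x _ hxy
        rw [Finsupp.single_apply, if_neg hxy, mul_zero]
      · intro h; exact absurd (Finset.mem_univ y) h
    refine ⟨c 1, ?_⟩
    rw [hFc, hN, Finset.smul_sum]
    refine Finset.sum_congr rfl fun x _ => ?_
    rw [hconst x, hb]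
  -- the identity is fixed
  obtain ⟨a₁, ha₁⟩ := hfix 1 (fun y => by rw [mul_one, B_mul_inv])
  -- a fixed column vector and a fixed row vector
  have i0 : Fin n := ⟨0, by omega⟩
  have hw0 : (Pi.single i0 1 : Fin n → k) ≠ 0 := by
    intro h
    have := congrFun h i0
    simp at this
  obtain ⟨v, -, hv0, hvfix⟩ := exists_fixed_in_closure (k := k) hP (vecRep B) _ hw0
  obtain ⟨f, -, hf0, hffix⟩ := exists_fixed_in_closure (k := k) hP (vecRep' B) _ hw0
  have hv : ∀ x : P, B x *ᵥ v = v := fun x => hvfix x
  have hf : ∀ x : P, f ᵥ* B x⁻¹ = f := by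
    intro x
    have := hffix x
    rw [← Matrix.mulVec_transpose]
    exact this
  obtain ⟨a₂, ha₂⟩ := hfix (vecMulVec v f) (fun y => by
    rw [Matrix.mul_vecMulVec, Matrix.vecMulVec_mul, hv, hf])
  have ha₁0 : a₁ ≠ 0 := by
    intro h
    rw [h, zero_smul] at ha₁
    have := congrFun (congrFun ha₁ i0) i0
    simp at this
  have hR : vecMulVec v f = (a₂ * a₁⁻¹) • (1 : Matrix (Fin n) (Fin n) k) := by
    rw [ha₂, ha₁, smul_smul, mul_assoc, inv_mul_cancel₀ ha₁0, mul_one]
  -- contradiction
  obtain ⟨i, hi⟩ : ∃ i, v i ≠ 0 := by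
    by_contra h
    push Not at h
    exact hv0 (funext h)
  obtain ⟨j, hj⟩ : ∃ j, f j ≠ 0 := by
    by_contra h
    push Not at h
    exact hf0 (funext h)
  have hij : i = j := by
    by_contra hij
    have := congrFun (congrFun hR i) j
    rw [vecMulVec_apply, Matrix.smul_apply, Matrix.one_apply_ne hij, smul_zero] at this
    exact mul_ne_zero hi hj this
  subst hij
  obtain ⟨l, hl⟩ : ∃ l : Fin n, l ≠ i := by
    by_contra h
    push Not at h
    have h0 := h ⟨0, by omega⟩
    have h1 := h ⟨1, by omega⟩
    have := h0.trans h1.symm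
    simp [Fin.ext_iff] at this
  have hc : a₂ * a₁⁻¹ = v i * f i := by
    have := congrFun (congrFun hR i) i
    rw [vecMulVec_apply, Matrix.smul_apply, Matrix.one_apply_eq, smul_eq_mul, mul_one] at this
    exact this.symm
  have hl1 := congrFun (congrFun hR l) l
  rw [vecMulVec_apply, Matrix.smul_apply, Matrix.one_apply_eq, smul_eq_mul, mul_one, hc] at hl1
  have hl2 := congrFun (congrFun hR l) i
  rw [vecMulVec_apply, Matrix.smul_apply, Matrix.one_apply_ne hl, smul_zero] at hl2
  have hvl : v l = 0 := by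
    rcases mul_eq_zero.1 hl2 with h | h
    · exact h
    · exact absurd h hj
  rw [hvl, zero_mul] at hl1
  exact mul_ne_zero hi hj hl1.symm

end PartC

end Cfsg.Agent.Lib.Helper7.VL
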