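import Mathlib

set_option autoImplicit false

/-! Valuation subrings of `ℂ` above a rational prime; integral forms of matrix representations. -/

namespace Cfsg.Agent.Lib.Helper7.VL

open Matrix

theorem exists_valuationSubring (p : ℕ) (hp : p.Prime) :
    ∃ 𝒪 : ValuationSubring ℂ, (p : ℂ) ∈ 𝒪.nonunits := by
  let A : Subring ℂ := (Int.castRingHom ℂ).range
  have hpA : (p : ℂ) ∈ A := ⟨(p : ℤ), by simp⟩
  let I : Ideal A := Ideal.span {(⟨(p : ℂ), hpA⟩ : A)}
  have hI : I ≠ ⊤ := by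
    intro h
    rw [Ideal.eq_top_iff_one, Ideal.mem_span_singleton'] at h
    obtain ⟨a, ha⟩ := h
    obtain ⟨m, hm⟩ := a.2
    have h1 : ((m * (p : ℤ) : ℤ) : ℂ) = ((1 : ℤ) : ℂ) := by
      have := congrArg Subtype.val ha
      simp only [Subring.coe_mul, Subring.coe_one] at this
      rw [← hm] at this
      push_cast
      simpa using this
    have h2 : m * (p : ℤ) = 1 := Int.cast_injective h1
    have h3 : (p : ℤ) ∣ 1 := Dvd.intro_left _ h2
    have h4 : p ∣ 1 := by exact_mod_cast h3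
    exact hp.one_lt.ne' (Nat.dvd_one.1 h4)
  obtain ⟨B, -, hB⟩ := Ideal.image_subset_nonunits_valuationSubring I hI
  refine ⟨B, hB ⟨⟨(p : ℂ), hpA⟩, ?_, rfl⟩⟩
  exact Ideal.subset_span rfl

section scale

variable (𝒪 : ValuationSubring ℂ)

theorem div_mem_of_valuation_le {a b : ℂ} (hb : b ≠ 0) (h : 𝒪.valuation a ≤ 𝒪.valuation b) :
    a / b ∈ 𝒪 := by
  rw [← ValuationSubring.valuation_le_one_iff, map_div₀]
  have hb' : 𝒪.valuation b ≠ 0 := (Valuation.ne_zero_iff _).2 hb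
  rw [div_le_one₀ (zero_lt_iff.2 hb')]
  exact h

/-- rescale a nonzero matrix to a primitive integral one -/
theorem exists_scale {m n : ℕ} (T : Matrix (Fin m) (Fin n) ℂ) (hT : T ≠ 0) :
    ∃ (c : ℂ) (T' : Matrix (Fin m) (Fin n) 𝒪), c ≠ 0 ∧ T'.map 𝒪.subtype = c • T ∧
      ∃ i j, T' i j = 1 := by
  classical
  obtain ⟨i₁, j₁, h₁⟩ : ∃ i j, T i j ≠ 0 := by
    by_contra h
    push Not at h
    apply hT
    ext i j
    exact h i j
  have : Nonempty (Fin m × Fin n) := ⟨(i₁, j₁)⟩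
  obtain ⟨⟨i₀, j₀⟩, hmax⟩ := Finite.exists_max (fun q : Fin m × Fin n => 𝒪.valuation (T q.1 q.2))
  have h0 : T i₀ j₀ ≠ 0 := by
    intro h
    have := hmax (i₁, j₁)
    simp only [h, map_zero] at this
    have h2 : 𝒪.valuation (T i₁ j₁) = 0 := le_antisymm this zero_le
    exact h₁ ((Valuation.zero_iff _).1 h2)
  have hmem : ∀ i j, T i j / T i₀ j₀ ∈ 𝒪 := fun i j =>
    div_mem_of_valuation_le 𝒪 h0 (hmax (i, j))
  refine ⟨(T i₀ j₀)⁻¹, Matrix.of fun i j => ⟨T i j / T i₀ j₀, hmem i j⟩, inv_ne_zero h0, ?_,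
    i₀, j₀, ?_⟩
  · ext i j
    simp [div_eq_inv_mul]
  · apply Subtype.ext
    simp [div_self h0]

end scale

section integral

variable (𝒪 : ValuationSubring ℂ) {G : Type*} [Group G] [Finite G] {n : ℕ}

/-- Every matrix representation of a finite group over `ℂ` is conjugate to one with entries in the
valuation ring. -/
theorem exists_integral_conj (ρ : G →* Matrix (Fin n) (Fin n) ℂ) :
    ∃ (Q : Matrix (Fin n) (Fin n) ℂ) (A : G →* Matrix (Fin n) (Fin n) 𝒪), Q.det ≠ 0 ∧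
      ∀ g, (A g).map 𝒪.subtype = Q⁻¹ * ρ g * Q := by
  classical
  -- the vectors ρ(g) e_j
  let x : G × Fin n → (Fin n → ℂ) := fun q r => ρ q.1 r q.2
  let Bm : (Fin n → G × Fin n) → Matrix (Fin n) (Fin n) ℂ := fun c => Matrix.of fun r i => x (c i) r
  have : Nonempty (Fin n → G × Fin n) := ⟨fun i => ((1 : G), i)⟩
  obtain ⟨c, hc⟩ := Finite.exists_max (fun c : Fin n → G × Fin n => 𝒪.valuation (Bm c).det)
  set Q := Bm c with hQ
  have hc0 : Bm (fun i => ((1 : G), i)) = 1 := by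
    ext r i
    simp [Bm, x]
  have hdet : Q.det ≠ 0 := by
    intro h
    have := hc (fun i => ((1 : G), i))
    simp only [hc0, det_one, map_one] at this
    rw [h, map_zero] at this
    exact (not_le.2 zero_lt_one) this
  have hupd : ∀ (i : Fin n) (q : G × Fin n), Q.updateCol i (x q) = Bm (Function.update c i q) := by
    intro i q
    ext r i'
    rw [Matrix.updateCol_apply]
    by_cases h : i' = i
    · subst h
      simp [Bm]
    · simp [Bm, h, hQ]
  have hcoord : ∀ (q : G × Fin n) (i : Fin n), (Q⁻¹ *ᵥ x q) i ∈ 𝒪 := by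
    intro q i
    have h1 : Q⁻¹ *ᵥ x q = (Q.det)⁻¹ • Q.cramer (x q) := by
      rw [Matrix.inv_def, Ring.inverse_eq_inv', Matrix.smul_mulVec, ← Matrix.cramer_eq_adjugate_mulVec]
    rw [h1, Pi.smul_apply, Matrix.cramer_apply, hupd, smul_eq_mul, inv_mul_eq_div]
    exact div_mem_of_valuation_le 𝒪 hdet (hc _)
  have hcol : ∀ (g : G) (i : Fin n), (ρ g * Q).col i = x (g * (c i).1, (c i).2) := by
    intro g i
    ext r
    simp only [Matrix.col_apply, Matrix.mul_apply, x, map_mul]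
    rfl
  have hent : ∀ (g : G) (r i : Fin n), (Q⁻¹ * ρ g * Q) r i ∈ 𝒪 := by
    intro g r i
    have : (Q⁻¹ * ρ g * Q) r i = (Q⁻¹ *ᵥ (ρ g * Q).col i) r := by
      rw [Matrix.mul_assoc]
      simp [Matrix.mul_apply, Matrix.mulVec, dotProduct]
    rw [this, hcol]
    exact hcoord _ r
  have hQQ : Q * Q⁻¹ = 1 := Matrix.mul_nonsing_inv Q (isUnit_iff_ne_zero.2 hdet)
  have hQQ' : Q⁻¹ * Q = 1 := Matrix.nonsing_inv_mul Q (isUnit_iff_ne_zero.2 hdet)
  have hinj : Function.Injective (fun M : Matrix (Fin n) (Fin n) 𝒪 => M.map 𝒪.subtype) :=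
    Matrix.map_injective Subtype.val_injective
  let A0 : G → Matrix (Fin n) (Fin n) 𝒪 := fun g => Matrix.of fun r i => ⟨(Q⁻¹ * ρ g * Q) r i, hent g r i⟩
  have hA0 : ∀ g, (A0 g).map 𝒪.subtype = Q⁻¹ * ρ g * Q := by
    intro g
    ext r i
    rfl
  refine ⟨Q, ⟨⟨A0, ?_⟩, ?_⟩, hdet, hA0⟩
  · apply hinj
    show (A0 1).map 𝒪.subtype = (1 : Matrix (Fin n) (Fin n) 𝒪).map 𝒪.subtype
    rw [hA0, map_one, Matrix.mul_one, hQQ', Matrix.map_one _ (map_zero _) (map_one _)]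
  · intro g h
    apply hinj
    show (A0 (g * h)).map 𝒪.subtype = (A0 g * A0 h).map 𝒪.subtype
    rw [Matrix.map_mul, hA0, hA0, hA0, map_mul]
    calc Q⁻¹ * (ρ g * ρ h) * Q = Q⁻¹ * ρ g * 1 * ρ h * Q := by rw [Matrix.mul_one]; simp only [Matrix.mul_assoc]
      _ = Q⁻¹ * ρ g * (Q * Q⁻¹) * ρ h * Q := by rw [hQQ]
      _ = Q⁻¹ * ρ g * Q * (Q⁻¹ * ρ h * Q) := by simp only [Matrix.mul_assoc]

end integral

end Cfsg.Agent.Lib.Helper7.VL
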