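import Mathlib
import Cfsg.Agent.Lib.Helper7.VL2
import Cfsg.Agent.Lib.Helper7.VL3

set_option autoImplicit false

/-! Orbit decomposition and the core vanishing theorem. -/

namespace Cfsg.Agent.Lib.Helper7.VL

open Matrix

theorem sum_free_orbits {P X M : Type*} [Group P] [Fintype P] [Fintype X] [DecidableEq X]
    [MulAction P X] [AddCommMonoid M]
    (base : X) (hbase : ∀ x : P, x • base = base)
    (hfree : ∀ (x : P) (q : X), q ≠ base → x • q = q → x = 1)
    (act : P → M →+ M) (F : X → M) (hF : ∀ x q, F (x • q) = act x (F q)) :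
    ∃ S₀ : M, ∑ q ∈ Finset.univ.erase base, F q = ∑ x : P, act x S₀ := by
  classical
  let Ω := MulAction.orbitRel.Quotient P X
  have : Fintype Ω := Fintype.ofFinite _
  let mk : X → Ω := fun q => Quotient.mk'' q
  let r : Ω → X := fun o => Quotient.out o
  have hr : ∀ o, mk (r o) = o := fun o => Quotient.out_eq' o
  have hmk : ∀ q q', mk q = mk q' ↔ q ∈ MulAction.orbit P q' := by
    intro q q'
    show (Quotient.mk'' q : Ω) = Quotient.mk'' q' ↔ _
    rw [Quotient.eq'']
    exact MulAction.orbitRel_apply
  have hbase' : ∀ q, mk q = mk base → q = base := by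
    intro q hq
    rw [hmk] at hq
    obtain ⟨x, rfl⟩ := hq
    exact hbase x
  refine ⟨∑ o ∈ Finset.univ.erase (mk base), F (r o), ?_⟩
  have h1 : ∑ q ∈ Finset.univ.erase base, F q =
      ∑ o ∈ Finset.univ.erase (mk base), ∑ q ∈ Finset.univ.erase base with mk q = o, F q := by
    rw [Finset.sum_fiberwise_of_maps_to]
    intro q hq
    rw [Finset.mem_erase] at hq ⊢
    exact ⟨fun h => hq.1 (hbase' q h), Finset.mem_univ _⟩
  rw [h1]
  have h2 : ∀ o ∈ Finset.univ.erase (mk base),
      ∑ q ∈ Finset.univ.erase base with mk q = o, F q = ∑ x : P, act x (F (r o)) := by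
    intro o ho
    rw [Finset.mem_erase] at ho
    have hro : r o ≠ base := by
      intro h
      apply ho.1
      rw [← hr o, h]
    symm
    refine Finset.sum_bij (fun x _ => x • r o) ?_ ?_ ?_ ?_
    · intro x _
      rw [Finset.mem_filter, Finset.mem_erase]
      refine ⟨⟨?_, Finset.mem_univ _⟩, ?_⟩
      · intro h
        apply hro
        have : r o = x⁻¹ • base := by rw [← h, inv_smul_smul]
        rw [this, hbase]
      · rw [← hr o, hmk, hr o]
        exact ⟨x, rfl⟩
    · intro x _ y _ hxy
      have h3 : (y⁻¹ * x) • r o = r o := by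
        rw [mul_smul, hxy, inv_smul_smul]
      have := hfree _ _ hro h3
      rw [inv_mul_eq_one] at this
      exact this.symm
    · intro q hq
      rw [Finset.mem_filter] at hq
      have : mk q = mk (r o) := by rw [hq.2, hr o]
      rw [hmk] at this
      obtain ⟨x, hx⟩ := this
      exact ⟨x, Finset.mem_univ _, hx⟩
    · intro x _
      rw [hF]
  rw [Finset.sum_congr rfl h2, Finset.sum_comm]
  refine Finset.sum_congr rfl fun x _ => ?_
  rw [map_sum]

end Cfsg.Agent.Lib.Helper7.VL
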