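import Mathlib
import Cfsg.Agent.Lib.Helper7.VL4

set_option autoImplicit false

/-! The core vanishing theorem in characteristic `p`. -/

namespace Cfsg.Agent.Lib.Helper7.VL

open Matrix

section CoreMod

variable {G : Type*} [Group G] {R : Type*} [Ring R] {n : ℕ}

theorem M_mul_inv (B : G →* Matrix (Fin n) (Fin n) R) (x : G) : B x * B x⁻¹ = 1 := by
  rw [← map_mul, mul_inv_cancel, map_one]

theorem M_inv_mul (B : G →* Matrix (Fin n) (Fin n) R) (x : G) : B x⁻¹ * B x = 1 := by
  rw [← map_mul, inv_mul_cancel, map_one]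

/-- conjugation by a coset representative does not depend on the representative -/
theorem conj_out_eq (H : Subgroup G) (B : G →* Matrix (Fin n) (Fin n) R)
    (T : Matrix (Fin n) (Fin n) R) (hT : ∀ h ∈ H, B h * T = T * B h) (g : G) :
    B (QuotientGroup.mk g : G ⧸ H).out * T * B ((QuotientGroup.mk g : G ⧸ H).out)⁻¹
      = B g * T * B g⁻¹ := by
  obtain ⟨h, hh⟩ := QuotientGroup.mk_out_eq_mul H g
  rw [hh, _root_.mul_inv_rev, map_mul, map_mul]
  have h1 := hT h h.2
  calc B g * B (h : G) * T * (B (h : G)⁻¹ * B g⁻¹)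
      = B g * (B (h : G) * T) * B (h : G)⁻¹ * B g⁻¹ := by simp only [Matrix.mul_assoc]
    _ = B g * (T * B (h : G)) * B (h : G)⁻¹ * B g⁻¹ := by rw [h1]
    _ = B g * T * (B (h : G) * B (h : G)⁻¹) * B g⁻¹ := by simp only [Matrix.mul_assoc]
    _ = B g * T * B g⁻¹ := by rw [M_mul_inv, Matrix.mul_one]

/-- conjugation as an additive map -/
def conjAdd (B : G →* Matrix (Fin n) (Fin n) R) (x : G) :
    Matrix (Fin n) (Fin n) R →+ Matrix (Fin n) (Fin n) R where
  toFun S := B x * S * B x⁻¹
  map_zero' := by simp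
  map_add' a b := by rw [Matrix.mul_add, Matrix.add_mul]

theorem conjAdd_apply (B : G →* Matrix (Fin n) (Fin n) R) (x : G) (S : Matrix (Fin n) (Fin n) R) :
    conjAdd B x S = B x * S * B x⁻¹ := rfl

end CoreMod

section CoreMod2

variable {G : Type*} [Group G] {k : Type*} [Field k] {p : ℕ} [hp : Fact p.Prime] [CharP k p]
  {n : ℕ}

theorem core_mod (H P : Subgroup G) [Fintype (G ⧸ H)] [Fintype P]
    (hP : IsPGroup p P) (hP1 : 1 < Fintype.card P) (hPH : P ≤ H)
    (hfree : ∀ x ∈ P, ∀ g : G, g ∉ H → g⁻¹ * x * g ∈ H → x = 1)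
    (B : G →* Matrix (Fin n) (Fin n) k) (hn : n ^ 2 ≤ Fintype.card P)
    (T : Matrix (Fin n) (Fin n) k) (hT : ∀ h ∈ H, B h * T = T * B h)
    (hsum : ∑ q : G ⧸ H, B q.out * T * B (q.out)⁻¹ = 0) : T = 0 := by
  classical
  let F : G ⧸ H → Matrix (Fin n) (Fin n) k := fun q => B q.out * T * B (q.out)⁻¹
  have hF : ∀ g : G, F (QuotientGroup.mk g) = B g * T * B g⁻¹ := fun g => conj_out_eq H B T hT g
  let base : G ⧸ H := QuotientGroup.mk 1
  have hbase : ∀ x : P, x • base = base := by
    intro x
    show ((x : G) • (QuotientGroup.mk 1 : G ⧸ H)) = QuotientGroup.mk 1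
    rw [MulAction.Quotient.smul_mk, QuotientGroup.eq]
    simpa using hPH x.2
  have hfree' : ∀ (x : P) (q : G ⧸ H), q ≠ base → x • q = q → x = 1 := by
    intro x q hq hxq
    induction q using QuotientGroup.induction_on with
    | H g =>
      have hg : g ∉ H := by
        intro hg
        apply hq
        show (QuotientGroup.mk g : G ⧸ H) = QuotientGroup.mk 1
        rw [QuotientGroup.eq]
        simpa using hg
      have h1 : ((x : G) • (QuotientGroup.mk g : G ⧸ H)) = QuotientGroup.mk g := hxq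
      rw [MulAction.Quotient.smul_mk, QuotientGroup.eq] at h1
      have h2 : g⁻¹ * (x : G) * g ∈ H := by
        have := H.inv_mem h1
        simpa [mul_assoc] using this
      have := hfree x x.2 g hg h2
      exact Subtype.ext this
  have hFsmul : ∀ (x : P) (q : G ⧸ H), F (x • q) = conjAdd B (x : G) (F q) := by
    intro x q
    induction q using QuotientGroup.induction_on with
    | H g =>
      have : x • (QuotientGroup.mk g : G ⧸ H) = QuotientGroup.mk ((x : G) * g) := rfl
      rw [this, hF, hF, conjAdd_apply, map_mul, _root_.mul_inv_rev, map_mul]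
      simp only [Matrix.mul_assoc]
  obtain ⟨S₀, hS₀⟩ := sum_free_orbits (P := P) (X := G ⧸ H) base hbase hfree'
    (fun x => conjAdd B (x : G)) F hFsmul
  have h0 : ∑ x : P, conjAdd B (x : G) S₀ = 0 := by
    have := sum_conj_eq_zero (k := k) (p := p) hP hP1 (B.comp P.subtype) hn S₀
    simpa [conjAdd_apply] using this
  have h1 : ∑ q : G ⧸ H, F q = F base := by
    rw [← Finset.add_sum_erase Finset.univ F (Finset.mem_univ base), hS₀, h0, add_zero]
  have h2 : F base = T := by
    show F (QuotientGroup.mk 1) = T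
    rw [hF]
    simp
  rw [← h2, ← h1]
  exact hsum

end CoreMod2

end Cfsg.Agent.Lib.Helper7.VL
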