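import Mathlib
import Cfsg.Agent.Lib.Helper7.VL5

set_option autoImplicit false

/-! Lifting the vanishing theorem to `ℂ`. -/

namespace Cfsg.Agent.Lib.Helper7.VL

open Matrix

section CoreComplex

variable {G : Type*} [Group G] [Finite G] {p : ℕ} [hp : Fact p.Prime] {n : ℕ}

theorem residue_charP (𝒪 : ValuationSubring ℂ) (h𝒪 : (p : ℂ) ∈ 𝒪.nonunits) :
    CharP (IsLocalRing.ResidueField 𝒪) p := by
  rw [CharP.charP_iff_prime_eq_zero hp.out]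
  obtain ⟨ha, hmem⟩ := ValuationSubring.mem_nonunits_iff_exists_mem_maximalIdeal.1 h𝒪
  have h1 : IsLocalRing.residue 𝒪 (⟨(p : ℂ), ha⟩ : 𝒪) = 0 :=
    (IsLocalRing.residue_eq_zero_iff _).2 hmem
  have h2 : (⟨(p : ℂ), ha⟩ : 𝒪) = ((p : ℕ) : 𝒪) := by
    apply Subtype.ext
    simp
  rw [h2, map_natCast] at h1
  exact h1

theorem core_complex (H P : Subgroup G) [Fintype (G ⧸ H)] [Fintype P]
    (hP : IsPGroup p P) (hP1 : 1 < Fintype.card P) (hPH : P ≤ H)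
    (hfree : ∀ x ∈ P, ∀ g : G, g ∉ H → g⁻¹ * x * g ∈ H → x = 1)
    (ρ : G →* Matrix (Fin n) (Fin n) ℂ) (hn : n ^ 2 ≤ Fintype.card P)
    (T : Matrix (Fin n) (Fin n) ℂ) (hT : ∀ h ∈ H, ρ h * T = T * ρ h)
    (hsum : ∑ q : G ⧸ H, ρ q.out * T * ρ (q.out)⁻¹ = 0) : T = 0 := by
  classical
  by_contra hT0
  obtain ⟨𝒪, h𝒪⟩ := exists_valuationSubring p hp.out
  obtain ⟨Q, A, hQ, hA⟩ := exists_integral_conj 𝒪 ρ
  have hQQ : Q * Q⁻¹ = 1 := Matrix.mul_nonsing_inv Q (isUnit_iff_ne_zero.2 hQ)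
  have hQQ' : Q⁻¹ * Q = 1 := Matrix.nonsing_inv_mul Q (isUnit_iff_ne_zero.2 hQ)
  set T₁ : Matrix (Fin n) (Fin n) ℂ := Q⁻¹ * T * Q with hT₁
  have hT₁0 : T₁ ≠ 0 := by
    intro h
    apply hT0
    calc T = (Q * Q⁻¹) * T * (Q * Q⁻¹) := by rw [hQQ, Matrix.one_mul, Matrix.mul_one]
      _ = Q * (Q⁻¹ * T * Q) * Q⁻¹ := by simp only [Matrix.mul_assoc]
      _ = 0 := by rw [← hT₁, h]; simp
  obtain ⟨c, T₀, hc, hT₀, i, j, hij⟩ := exists_scale 𝒪 T₁ hT₁0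
  have hinj : Function.Injective (fun M : Matrix (Fin n) (Fin n) 𝒪 => M.map 𝒪.subtype) :=
    Matrix.map_injective Subtype.val_injective
  -- key conjugation identity
  have hconj : ∀ (g g' : G) (X : Matrix (Fin n) (Fin n) ℂ),
      (Q⁻¹ * ρ g * Q) * (c • (Q⁻¹ * X * Q)) * (Q⁻¹ * ρ g' * Q) =
        c • (Q⁻¹ * (ρ g * X * ρ g') * Q) := by
    intro g g' X
    rw [Matrix.mul_smul, Matrix.smul_mul]
    congr 1
    calc Q⁻¹ * ρ g * Q * (Q⁻¹ * X * Q) * (Q⁻¹ * ρ g' * Q)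
        = Q⁻¹ * ρ g * (Q * Q⁻¹) * X * (Q * Q⁻¹) * ρ g' * Q := by simp only [Matrix.mul_assoc]
      _ = Q⁻¹ * (ρ g * X * ρ g') * Q := by
        rw [hQQ, Matrix.mul_one, Matrix.mul_one]; simp only [Matrix.mul_assoc]
  -- commutation in 𝒪
  have hcomm : ∀ h ∈ H, A h * T₀ = T₀ * A h := by
    intro h hh
    apply hinj
    show (A h * T₀).map 𝒪.subtype = (T₀ * A h).map 𝒪.subtype
    rw [Matrix.map_mul, Matrix.map_mul, hT₀, hA, hT₁]
    have h1 := hconj h 1 T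
    have h2 := hconj 1 h T
    rw [map_one, Matrix.mul_one, hQQ', Matrix.mul_one, Matrix.mul_one] at h1
    rw [map_one, Matrix.mul_one, hQQ', Matrix.one_mul, Matrix.one_mul] at h2
    rw [h1, h2, hT h hh]
  have hsum𝒪 : ∑ q : G ⧸ H, A q.out * T₀ * A (q.out)⁻¹ = 0 := by
    apply hinj
    show (∑ q : G ⧸ H, A q.out * T₀ * A (q.out)⁻¹).map 𝒪.subtype =
      (0 : Matrix (Fin n) (Fin n) 𝒪).map 𝒪.subtype
    have hz : (0 : Matrix (Fin n) (Fin n) 𝒪).map 𝒪.subtype = 0 := Matrix.map_zero _ (map_zero _)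
    rw [hz]
    have hmapsum : (∑ q : G ⧸ H, A q.out * T₀ * A (q.out)⁻¹).map 𝒪.subtype =
        ∑ q : G ⧸ H, (A q.out * T₀ * A (q.out)⁻¹).map 𝒪.subtype :=
      map_sum (RingHom.mapMatrix (m := Fin n) 𝒪.subtype) _ _
    rw [hmapsum]
    have hterm : ∀ q : G ⧸ H, (A q.out * T₀ * A (q.out)⁻¹).map 𝒪.subtype =
        c • (Q⁻¹ * (ρ q.out * T * ρ (q.out)⁻¹) * Q) := by
      intro q
      rw [Matrix.map_mul, Matrix.map_mul, hT₀, hA, hA, hT₁, hconj]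
    rw [Finset.sum_congr rfl (fun q _ => hterm q), ← Finset.smul_sum, ← Finset.sum_mul,
      ← Finset.mul_sum, hsum]
    simp
  -- reduce
  let k := IsLocalRing.ResidueField 𝒪
  have : CharP k p := residue_charP 𝒪 h𝒪
  let π : 𝒪 →+* k := IsLocalRing.residue 𝒪
  let B : G →* Matrix (Fin n) (Fin n) k := (RingHom.mapMatrix π).toMonoidHom.comp A
  have hB : ∀ g, B g = (A g).map π := fun g => rfl
  have hcommk : ∀ h ∈ H, B h * T₀.map π = T₀.map π * B h := by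
    intro h hh
    rw [hB, ← Matrix.map_mul, ← Matrix.map_mul, hcomm h hh]
  have hsumk : ∑ q : G ⧸ H, B q.out * T₀.map π * B (q.out)⁻¹ = 0 := by
    have h1 := congrArg (RingHom.mapMatrix (m := Fin n) π) hsum𝒪
    rw [map_sum, map_zero] at h1
    rw [← h1]
    refine Finset.sum_congr rfl fun q _ => ?_
    rw [map_mul, map_mul]
    rfl
  have h0 := core_mod (k := k) (p := p) H P hP hP1 hPH hfree B hn (T₀.map π) hcommk hsumk
  have h1 := congrFun (congrFun h0 i) j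
  rw [Matrix.map_apply, hij, map_one] at h1
  exact one_ne_zero h1

end CoreComplex

end Cfsg.Agent.Lib.Helper7.VL
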