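import Mathlib
import Cfsg.Agent.Lib.Helper7.VL6

set_option autoImplicit false

/-! The commutant of the restriction to `H` equals the commutant of the representation. -/

namespace Cfsg.Agent.Lib.Helper7.VL

open Matrix

section Commutant

variable {G : Type*} [Group G] [Finite G] {p : ℕ} [hp : Fact p.Prime] {n : ℕ}

theorem commutant_eq (H P : Subgroup G) [Fintype P]
    (hP : IsPGroup p P) (hP1 : 1 < Fintype.card P) (hPH : P ≤ H)
    (hfree : ∀ x ∈ P, ∀ g : G, g ∉ H → g⁻¹ * x * g ∈ H → x = 1)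
    (ρ : G →* Matrix (Fin n) (Fin n) ℂ) (hn : n ^ 2 ≤ Fintype.card P)
    (T : Matrix (Fin n) (Fin n) ℂ) (hT : ∀ h ∈ H, ρ h * T = T * ρ h) (g : G) :
    ρ g * T = T * ρ g := by
  classical
  have : Fintype (G ⧸ H) := Fintype.ofFinite _
  -- the transfer map
  let S : Matrix (Fin n) (Fin n) ℂ → Matrix (Fin n) (Fin n) ℂ :=
    fun X => ∑ q : G ⧸ H, ρ q.out * X * ρ (q.out)⁻¹
  have hSG : ∀ X, (∀ h ∈ H, ρ h * X = X * ρ h) → ∀ g : G, ρ g * S X = S X * ρ g := by
    intro X hX g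
    have h1 : ρ g * S X * ρ g⁻¹ = S X := by
      show ρ g * (∑ q : G ⧸ H, ρ q.out * X * ρ (q.out)⁻¹) * ρ g⁻¹ = _
      rw [Finset.mul_sum, Finset.sum_mul]
      show _ = ∑ q : G ⧸ H, ρ q.out * X * ρ (q.out)⁻¹
      rw [← Equiv.sum_comp (MulAction.toPerm g : G ⧸ H ≃ G ⧸ H)
        (fun q => ρ q.out * X * ρ (q.out)⁻¹)]
      refine Finset.sum_congr rfl fun q _ => ?_
      induction q using QuotientGroup.induction_on with
      | H g' =>
        have : (MulAction.toPerm g : G ⧸ H ≃ G ⧸ H) (QuotientGroup.mk g') =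
            QuotientGroup.mk (g * g') := rfl
        rw [this, conj_out_eq H ρ X hX, conj_out_eq H ρ X hX, map_mul, _root_.mul_inv_rev, map_mul]
        simp only [Matrix.mul_assoc]
    calc ρ g * S X = ρ g * S X * (ρ g⁻¹ * ρ g) := by rw [M_inv_mul, Matrix.mul_one]
      _ = (ρ g * S X * ρ g⁻¹) * ρ g := by simp only [Matrix.mul_assoc]
      _ = S X * ρ g := by rw [h1]
  have hSadd : ∀ X Y, S (X - Y) = S X - S Y := by
    intro X Y
    show ∑ q : G ⧸ H, ρ q.out * (X - Y) * ρ (q.out)⁻¹ =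
      ∑ q : G ⧸ H, ρ q.out * X * ρ (q.out)⁻¹ - ∑ q : G ⧸ H, ρ q.out * Y * ρ (q.out)⁻¹
    simp only [Matrix.mul_sub, Matrix.sub_mul, Finset.sum_sub_distrib]
  have hSsmul : ∀ (m : ℕ) X, S (m • X) = m • S X := by
    intro m X
    show ∑ q : G ⧸ H, ρ q.out * (m • X) * ρ (q.out)⁻¹ =
      m • ∑ q : G ⧸ H, ρ q.out * X * ρ (q.out)⁻¹
    rw [Finset.smul_sum]
    refine Finset.sum_congr rfl fun q _ => ?_
    rw [Matrix.mul_smul, Matrix.smul_mul]
  have hSfix : ∀ X, (∀ g : G, ρ g * X = X * ρ g) → S X = Fintype.card (G ⧸ H) • X := by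
    intro X hX
    show ∑ q : G ⧸ H, ρ q.out * X * ρ (q.out)⁻¹ = _
    rw [Finset.card_univ.symm, ← Finset.sum_const]
    refine Finset.sum_congr rfl fun q _ => ?_
    rw [hX, Matrix.mul_assoc, M_mul_inv, Matrix.mul_one]
  set m := Fintype.card (G ⧸ H) with hm
  have hm0 : m ≠ 0 := Fintype.card_ne_zero
  let T' := m • T - S T
  have hT'H : ∀ h ∈ H, ρ h * T' = T' * ρ h := by
    intro h hh
    show ρ h * (m • T - S T) = (m • T - S T) * ρ h
    rw [Matrix.mul_sub, Matrix.sub_mul, Matrix.mul_smul, Matrix.smul_mul, hT h hh, hSG T hT h]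
  have hST' : S T' = 0 := by
    show S (m • T - S T) = 0
    rw [hSadd, hSsmul, hSfix (S T) (hSG T hT), sub_self]
  have hT'0 : T' = 0 := core_complex (p := p) H P hP hP1 hPH hfree ρ hn T' hT'H hST'
  have hmT : m • T = S T := sub_eq_zero.1 hT'0
  have h1 : m • (ρ g * T) = m • (T * ρ g) := by
    rw [← Matrix.mul_smul, ← Matrix.smul_mul, hmT, hSG T hT g]
  have h2 : (m : ℂ) • (ρ g * T) = (m : ℂ) • (T * ρ g) := by
    rw [Nat.cast_smul_eq_nsmul, Nat.cast_smul_eq_nsmul]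
    exact h1
  have hmc : (m : ℂ) ≠ 0 := Nat.cast_ne_zero.2 hm0
  exact smul_right_injective _ hmc h2

end Commutant

end Cfsg.Agent.Lib.Helper7.VL
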