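import Mathlib
import Cfsg.Agent.Lib.Helper7.VL7

set_option autoImplicit false

/-! A TI Sylow subgroup acts freely on the non-trivial cosets of any subgroup containing its
normalizer. -/

namespace Cfsg.Agent.Lib.Helper7.VL

open scoped Pointwise

section TI

variable {G : Type*} [Group G] [Finite G] {p : ℕ} [hp : Fact p.Prime]

theorem ti_free (P : Sylow p G)
    (hTI : ∀ g : G, g ∉ Subgroup.normalizer ((P : Subgroup G) : Set G) →
      (P : Subgroup G) ⊓ (MulAut.conj g • (P : Subgroup G)) = ⊥)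
    (H : Subgroup G) (hH : Subgroup.normalizer ((P : Subgroup G) : Set G) ≤ H) :
    ∀ x ∈ (P : Subgroup G), ∀ g : G, g ∉ H → g⁻¹ * x * g ∈ H → x = 1 := by
  intro x hx g hg hy
  by_contra hx1
  have hPH : (P : Subgroup G) ≤ H := le_trans Subgroup.le_normalizer hH
  -- the conjugate Sylow subgroup containing y
  let Pg : Sylow p G := g⁻¹ • P
  have hyPg : g⁻¹ * x * g ∈ (Pg : Subgroup G) := by
    show g⁻¹ * x * g ∈ MulAut.conj g⁻¹ • (P : Subgroup G)
    rw [Subgroup.mem_pointwise_smul_iff_inv_smul_mem, MulAut.smul_def, ← map_inv,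
      MulAut.conj_apply]
    simpa [mul_assoc] using hx
  -- a Sylow subgroup of H containing y
  have hK : IsPGroup p ((Pg : Subgroup G).subgroupOf H) := Pg.2.comap_subtype
  obtain ⟨Q, hQ⟩ := hK.exists_le_sylow
  let P' : Sylow p H := P.subtype hPH
  obtain ⟨h, hh⟩ := MulAction.exists_smul_eq H P' Q
  have hyQ : (⟨g⁻¹ * x * g, hy⟩ : H) ∈ (Q : Subgroup H) := hQ (by
    rw [Subgroup.mem_subgroupOf]
    exact hyPg)
  rw [← hh] at hyQ
  have h2 : (⟨g⁻¹ * x * g, hy⟩ : H) ∈ MulAut.conj h • (P' : Subgroup H) := hyQ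
  rw [Subgroup.mem_pointwise_smul_iff_inv_smul_mem, MulAut.smul_def, ← map_inv,
    MulAut.conj_apply] at h2
  have h3 : ((h⁻¹ * ⟨g⁻¹ * x * g, hy⟩ * h⁻¹⁻¹ : H) : G) ∈ (P : Subgroup G) := by
    have : (h⁻¹ * ⟨g⁻¹ * x * g, hy⟩ * h⁻¹⁻¹ : H) ∈ (P : Subgroup G).subgroupOf H := h2
    rw [Subgroup.mem_subgroupOf] at this
    exact this
  have h4 : (h : G)⁻¹ * (g⁻¹ * x * g) * (h : G) ∈ (P : Subgroup G) := by
    simpa using h3
  have h5 : x ∈ MulAut.conj (g * (h : G)) • (P : Subgroup G) := by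
    rw [Subgroup.mem_pointwise_smul_iff_inv_smul_mem, MulAut.smul_def, ← map_inv,
      MulAut.conj_apply]
    simpa [mul_assoc] using h4
  have h6 : g * (h : G) ∈ Subgroup.normalizer ((P : Subgroup G) : Set G) := by
    by_contra hn
    have := hTI _ hn
    have hxb : x ∈ (⊥ : Subgroup G) := by
      rw [← this]
      exact ⟨hx, h5⟩
    exact hx1 (Subgroup.mem_bot.1 hxb)
  have h7 : g * (h : G) ∈ H := hH h6
  have h8 : g ∈ H := by
    have := H.mul_mem h7 (H.inv_mem h.2)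
    simpa using this
  exact hg h8

end TI

end Cfsg.Agent.Lib.Helper7.VL
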