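import Mathlib
import Cfsg.Agent.Lib.Helper7.VL8

set_option autoImplicit false

/-! Fixed vectors of `H ≥ N_G(P)` in a representation of degree `< |P|` (`P` a TI Sylow
subgroup) are fixed by `G`: the vector version of the commutant theorem of `VL7`. -/

namespace Cfsg.Agent.Lib.Helper7.BLt

open Matrix Cfsg.Agent.Lib.Helper7.VL

section PartA

variable {k : Type*} [Field k] {p : ℕ} [hp : Fact p.Prime] [CharP k p]
variable {P : Type*} [Group P] [Fintype P]
variable {n : ℕ}

/-- left multiplication on column matrices -/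
def leftRep (B : P →* Matrix (Fin n) (Fin n) k) :
    P →* (Matrix (Fin n) (Fin 1) k →ₗ[k] Matrix (Fin n) (Fin 1) k) where
  toFun x :=
    { toFun := fun S => B x * S
      map_add' := fun S S' => Matrix.mul_add _ S S'
      map_smul' := fun c S => Matrix.mul_smul _ c S }
  map_one' := by
    ext S : 1
    simp
  map_mul' a b := by
    ext S : 1
    simp [Matrix.mul_assoc]

theorem leftRep_apply (B : P →* Matrix (Fin n) (Fin n) k) (x : P) (S : Matrix (Fin n) (Fin 1) k) :
    leftRep B x S = B x * S := rfl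

theorem sum_mul_eq_zero (hP : IsPGroup p P)
    (B : P →* Matrix (Fin n) (Fin n) k) (hn : n < Fintype.card P) (S : Matrix (Fin n) (Fin 1) k) :
    ∑ x : P, B x * S = 0 := by
  classical
  by_contra hne
  have hne' : ∑ x : P, leftRep B x S ≠ 0 := by
    simp only [leftRep_apply]
    exact hne
  have hLI := linearIndependent_of_sum_ne_zero hP (leftRep B) S hne'
  have hfr : Module.finrank k (Matrix (Fin n) (Fin 1) k) = n := by
    rw [Module.finrank_matrix]
    simp
  have hle := hLI.fintype_card_le_finrank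
  rw [hfr] at hle
  omega

end PartA

section CoreMod

variable {G : Type*} [Group G] {R : Type*} [Ring R] {n : ℕ}

/-- multiplication by a coset representative does not depend on the representative -/
theorem mul_out_eq (H : Subgroup G) (B : G →* Matrix (Fin n) (Fin n) R)
    (T : Matrix (Fin n) (Fin 1) R) (hT : ∀ h ∈ H, B h * T = T) (g : G) :
    B (QuotientGroup.mk g : G ⧸ H).out * T = B g * T := by
  obtain ⟨h, hh⟩ := QuotientGroup.mk_out_eq_mul H g
  rw [hh, map_mul, Matrix.mul_assoc, hT h h.2]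

/-- left multiplication as an additive map -/
def mulAdd (B : G →* Matrix (Fin n) (Fin n) R) (x : G) :
    Matrix (Fin n) (Fin 1) R →+ Matrix (Fin n) (Fin 1) R where
  toFun S := B x * S
  map_zero' := by simp
  map_add' a b := by rw [Matrix.mul_add]

theorem mulAdd_apply (B : G →* Matrix (Fin n) (Fin n) R) (x : G) (S : Matrix (Fin n) (Fin 1) R) :
    mulAdd B x S = B x * S := rfl

end CoreMod

section CoreMod2

variable {G : Type*} [Group G] {k : Type*} [Field k] {p : ℕ} [hp : Fact p.Prime] [CharP k p]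
  {n : ℕ}

theorem core_vec_mod (H P : Subgroup G) [Fintype (G ⧸ H)] [Fintype P]
    (hP : IsPGroup p P) (hPH : P ≤ H)
    (hfree : ∀ x ∈ P, ∀ g : G, g ∉ H → g⁻¹ * x * g ∈ H → x = 1)
    (B : G →* Matrix (Fin n) (Fin n) k) (hn : n < Fintype.card P)
    (T : Matrix (Fin n) (Fin 1) k) (hT : ∀ h ∈ H, B h * T = T)
    (hsum : ∑ q : G ⧸ H, B q.out * T = 0) : T = 0 := by
  classical
  let F : G ⧸ H → Matrix (Fin n) (Fin 1) k := fun q => B q.out * T
  have hF : ∀ g : G, F (QuotientGroup.mk g) = B g * T := fun g => mul_out_eq H B T hT g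
  let base : G ⧸ H := QuotientGroup.mk 1
  have hbase : ∀ x : P, x • base = base := by
    intro x
    show ((x : G) • (QuotientGroup.mk 1 : G ⧸ H)) = QuotientGroup.mk 1
    rw [MulAction.Quotient.smul_mk, QuotientGroup.eq]
    simpa using hPH x.2
  have hfree' : ∀ (x : P) (q : G ⧸ H), q ≠ base → x • q = q → x = 1 := by
    intro x q hq hxq
    induction q using QuotientGroup.induction_on with
    | H g =>
      have hg : g ∉ H := by
        intro hg
        apply hq
        show (QuotientGroup.mk g : G ⧸ H) = QuotientGroup.mk 1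
        rw [QuotientGroup.eq]
        simpa using hg
      have h1 : ((x : G) • (QuotientGroup.mk g : G ⧸ H)) = QuotientGroup.mk g := hxq
      rw [MulAction.Quotient.smul_mk, QuotientGroup.eq] at h1
      have h2 : g⁻¹ * (x : G) * g ∈ H := by
        have := H.inv_mem h1
        simpa [mul_assoc] using this
      have := hfree x x.2 g hg h2
      exact Subtype.ext this
  have hFsmul : ∀ (x : P) (q : G ⧸ H), F (x • q) = mulAdd B (x : G) (F q) := by
    intro x q
    induction q using QuotientGroup.induction_on with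
    | H g =>
      have : x • (QuotientGroup.mk g : G ⧸ H) = QuotientGroup.mk ((x : G) * g) := rfl
      rw [this, hF, hF, mulAdd_apply, map_mul, Matrix.mul_assoc]
  obtain ⟨S₀, hS₀⟩ := sum_free_orbits (P := P) (X := G ⧸ H) base hbase hfree'
    (fun x => mulAdd B (x : G)) F hFsmul
  have h0 : ∑ x : P, mulAdd B (x : G) S₀ = 0 := by
    have := sum_mul_eq_zero (k := k) (p := p) hP (B.comp P.subtype) hn S₀
    simpa [mulAdd_apply] using this
  have h1 : ∑ q : G ⧸ H, F q = F base := by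
    rw [← Finset.add_sum_erase Finset.univ F (Finset.mem_univ base), hS₀, h0, add_zero]
  have h2 : F base = T := by
    show F (QuotientGroup.mk 1) = T
    rw [hF]
    simp
  rw [← h2, ← h1]
  exact hsum

end CoreMod2

section CoreComplex

variable {G : Type*} [Group G] [Finite G] {p : ℕ} [hp : Fact p.Prime] {n : ℕ}

theorem core_vec_complex (H P : Subgroup G) [Fintype (G ⧸ H)] [Fintype P]
    (hP : IsPGroup p P) (hPH : P ≤ H)
    (hfree : ∀ x ∈ P, ∀ g : G, g ∉ H → g⁻¹ * x * g ∈ H → x = 1)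
    (ρ : G →* Matrix (Fin n) (Fin n) ℂ) (hn : n < Fintype.card P)
    (T : Matrix (Fin n) (Fin 1) ℂ) (hT : ∀ h ∈ H, ρ h * T = T)
    (hsum : ∑ q : G ⧸ H, ρ q.out * T = 0) : T = 0 := by
  classical
  by_contra hT0
  obtain ⟨𝒪, h𝒪⟩ := exists_valuationSubring p hp.out
  obtain ⟨Q, A, hQ, hA⟩ := exists_integral_conj 𝒪 ρ
  have hQQ : Q * Q⁻¹ = 1 := Matrix.mul_nonsing_inv Q (isUnit_iff_ne_zero.2 hQ)
  have hQQ' : Q⁻¹ * Q = 1 := Matrix.nonsing_inv_mul Q (isUnit_iff_ne_zero.2 hQ)
  set T₁ : Matrix (Fin n) (Fin 1) ℂ := Q⁻¹ * T with hT₁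
  have hT₁0 : T₁ ≠ 0 := by
    intro h
    apply hT0
    calc T = (Q * Q⁻¹) * T := by rw [hQQ, Matrix.one_mul]
      _ = Q * (Q⁻¹ * T) := by rw [Matrix.mul_assoc]
      _ = 0 := by rw [← hT₁, h]; simp
  obtain ⟨c, T₀, hc, hT₀, i, j, hij⟩ := exists_scale 𝒪 T₁ hT₁0
  have hinj : Function.Injective (fun M : Matrix (Fin n) (Fin 1) 𝒪 => M.map 𝒪.subtype) :=
    Matrix.map_injective Subtype.val_injective
  -- key identity
  have hconj : ∀ (g : G) (X : Matrix (Fin n) (Fin 1) ℂ),
      (Q⁻¹ * ρ g * Q) * (c • (Q⁻¹ * X)) = c • (Q⁻¹ * (ρ g * X)) := by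
    intro g X
    rw [Matrix.mul_smul]
    congr 1
    calc Q⁻¹ * ρ g * Q * (Q⁻¹ * X)
        = Q⁻¹ * ρ g * (Q * Q⁻¹) * X := by simp only [Matrix.mul_assoc]
      _ = Q⁻¹ * (ρ g * X) := by
        rw [hQQ, Matrix.mul_one]; simp only [Matrix.mul_assoc]
  have hfix : ∀ h ∈ H, A h * T₀ = T₀ := by
    intro h hh
    apply hinj
    show (A h * T₀).map 𝒪.subtype = T₀.map 𝒪.subtype
    rw [Matrix.map_mul, hT₀, hA, hT₁, hconj, hT h hh]
  have hsum𝒪 : ∑ q : G ⧸ H, A q.out * T₀ = 0 := by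
    apply hinj
    show (∑ q : G ⧸ H, A q.out * T₀).map 𝒪.subtype =
      (0 : Matrix (Fin n) (Fin 1) 𝒪).map 𝒪.subtype
    have hz : (0 : Matrix (Fin n) (Fin 1) 𝒪).map 𝒪.subtype = 0 := Matrix.map_zero _ (map_zero _)
    rw [hz]
    have hmapsum : (∑ q : G ⧸ H, A q.out * T₀).map 𝒪.subtype =
        ∑ q : G ⧸ H, (A q.out * T₀).map 𝒪.subtype :=
      map_sum (AddMonoidHom.mapMatrix (m := Fin n) (n := Fin 1) 𝒪.subtype.toAddMonoidHom) _ _
    rw [hmapsum]
    have hterm : ∀ q : G ⧸ H, (A q.out * T₀).map 𝒪.subtype =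
        c • (Q⁻¹ * (ρ q.out * T)) := by
      intro q
      rw [Matrix.map_mul, hT₀, hA, hT₁, hconj]
    rw [Finset.sum_congr rfl (fun q _ => hterm q), ← Finset.smul_sum, ← Matrix.mul_sum, hsum]
    simp
  -- reduce
  let k := IsLocalRing.ResidueField 𝒪
  have : CharP k p := residue_charP 𝒪 h𝒪
  let π : 𝒪 →+* k := IsLocalRing.residue 𝒪
  let B : G →* Matrix (Fin n) (Fin n) k := (RingHom.mapMatrix π).toMonoidHom.comp A
  have hB : ∀ g, B g = (A g).map π := fun g => rfl
  have hfixk : ∀ h ∈ H, B h * T₀.map π = T₀.map π := by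
    intro h hh
    rw [hB, ← Matrix.map_mul, hfix h hh]
  have hsumk : ∑ q : G ⧸ H, B q.out * T₀.map π = 0 := by
    have h1 := congrArg (AddMonoidHom.mapMatrix (m := Fin n) (n := Fin 1) π.toAddMonoidHom) hsum𝒪
    rw [map_sum, map_zero] at h1
    rw [← h1]
    refine Finset.sum_congr rfl fun q _ => ?_
    rw [hB, ← Matrix.map_mul]
    rfl
  have h0 := core_vec_mod (k := k) (p := p) H P hP hPH hfree B hn (T₀.map π) hfixk hsumk
  have h1 := congrFun (congrFun h0 i) j
  rw [Matrix.map_apply, hij, map_one] at h1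
  exact one_ne_zero h1

/-- `H`-fixed column vectors are `G`-fixed. -/
theorem fixed_eq (H P : Subgroup G) [Fintype P]
    (hP : IsPGroup p P) (hPH : P ≤ H)
    (hfree : ∀ x ∈ P, ∀ g : G, g ∉ H → g⁻¹ * x * g ∈ H → x = 1)
    (ρ : G →* Matrix (Fin n) (Fin n) ℂ) (hn : n < Fintype.card P)
    (T : Matrix (Fin n) (Fin 1) ℂ) (hT : ∀ h ∈ H, ρ h * T = T) (g : G) :
    ρ g * T = T := by
  classical
  have : Fintype (G ⧸ H) := Fintype.ofFinite _
  let S : Matrix (Fin n) (Fin 1) ℂ → Matrix (Fin n) (Fin 1) ℂ :=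
    fun X => ∑ q : G ⧸ H, ρ q.out * X
  have hSG : ∀ X : Matrix (Fin n) (Fin 1) ℂ, (∀ h ∈ H, ρ h * X = X) →
      ∀ g : G, ρ g * S X = S X := by
    intro X hX g
    show ρ g * (∑ q : G ⧸ H, ρ q.out * X) = _
    rw [Matrix.mul_sum]
    show _ = ∑ q : G ⧸ H, ρ q.out * X
    rw [← Equiv.sum_comp (MulAction.toPerm g : G ⧸ H ≃ G ⧸ H) (fun q => ρ q.out * X)]
    refine Finset.sum_congr rfl fun q _ => ?_
    induction q using QuotientGroup.induction_on with
    | H g' =>
      have : (MulAction.toPerm g : G ⧸ H ≃ G ⧸ H) (QuotientGroup.mk g') =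
          QuotientGroup.mk (g * g') := rfl
      rw [this, mul_out_eq H ρ X hX, mul_out_eq H ρ X hX, map_mul, Matrix.mul_assoc]
  have hSadd : ∀ X Y, S (X - Y) = S X - S Y := by
    intro X Y
    show ∑ q : G ⧸ H, ρ q.out * (X - Y) =
      ∑ q : G ⧸ H, ρ q.out * X - ∑ q : G ⧸ H, ρ q.out * Y
    simp only [Matrix.mul_sub, Finset.sum_sub_distrib]
  have hSsmul : ∀ (m : ℕ) X, S (m • X) = m • S X := by
    intro m X
    show ∑ q : G ⧸ H, ρ q.out * (m • X) = m • ∑ q : G ⧸ H, ρ q.out * X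
    rw [Finset.smul_sum]
    refine Finset.sum_congr rfl fun q _ => ?_
    rw [Matrix.mul_smul]
  have hSfix : ∀ X : Matrix (Fin n) (Fin 1) ℂ, (∀ g : G, ρ g * X = X) →
      S X = Fintype.card (G ⧸ H) • X := by
    intro X hX
    show ∑ q : G ⧸ H, ρ q.out * X = _
    rw [Finset.card_univ.symm, ← Finset.sum_const]
    refine Finset.sum_congr rfl fun q _ => ?_
    rw [hX]
  set m := Fintype.card (G ⧸ H) with hm
  have hm0 : m ≠ 0 := Fintype.card_ne_zero
  let T' := m • T - S T
  have hT'H : ∀ h ∈ H, ρ h * T' = T' := by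
    intro h hh
    show ρ h * (m • T - S T) = (m • T - S T)
    rw [Matrix.mul_sub, Matrix.mul_smul, hT h hh, hSG T hT h]
  have hST' : S T' = 0 := by
    show S (m • T - S T) = 0
    rw [hSadd, hSsmul, hSfix (S T) (hSG T hT), sub_self]
  have hT'0 : T' = 0 := core_vec_complex (p := p) H P hP hPH hfree ρ hn T' hT'H hST'
  have hmT : m • T = S T := sub_eq_zero.1 hT'0
  have h1 : m • (ρ g * T) = m • T := by
    rw [← Matrix.mul_smul, hmT, hSG T hT g]
  have h2 : (m : ℂ) • (ρ g * T) = (m : ℂ) • T := by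
    rw [Nat.cast_smul_eq_nsmul, Nat.cast_smul_eq_nsmul]
    exact h1
  have hmc : (m : ℂ) ≠ 0 := Nat.cast_ne_zero.2 hm0
  exact smul_right_injective _ hmc h2

end CoreComplex

end Cfsg.Agent.Lib.Helper7.BLt
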