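import Mathlib
import Cfsg.Prelude.Def_Characters
import Cfsg.Agent.Lib.Helper4.Characters
import Cfsg.Agent.Lib.Helper7.VL8

set_option autoImplicit false

/-! Norm of a character as the dimension of the commutant; final assembly. -/

namespace Cfsg.Agent.Lib.Helper7.VL

open scoped ComplexConjugate
open Matrix

section Norm

variable {G : Type*} [Group G] [Fintype G] {n : ℕ}

theorem classInner_self_eq_finrank (ρ : Representation ℂ G (Fin n → ℂ)) :
    Cfsg.classInner ρ.character ρ.character =
      (Module.finrank ℂ (Representation.invariants (Representation.linHom ρ ρ)) : ℂ) := by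
  have : Invertible (Nat.card G : ℂ) := invertibleOfNonzero (Nat.cast_ne_zero.2 Nat.card_pos.ne')
  rw [← Representation.card_inv_mul_sum_char_eq_finrank]
  unfold Cfsg.classInner
  congr 1
  refine Finset.sum_congr rfl fun g _ => ?_
  rw [Representation.char_linHom, ← Cfsg.Agent.Lib.Helper4.character_inv, mul_comm]

/-- the matrix form of a representation -/
noncomputable def matRep (ρ : Representation ℂ G (Fin n → ℂ)) : G →* Matrix (Fin n) (Fin n) ℂ where
  toFun g := LinearMap.toMatrix' (ρ g)
  map_one' := by rw [map_one, Module.End.one_eq_id, LinearMap.toMatrix'_id]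
  map_mul' g h := by rw [map_mul, Module.End.mul_eq_comp, LinearMap.toMatrix'_comp]

theorem matRep_apply (ρ : Representation ℂ G (Fin n → ℂ)) (g : G) :
    matRep ρ g = LinearMap.toMatrix' (ρ g) := rfl

theorem comm_iff (ρ : Representation ℂ G (Fin n → ℂ)) (f : (Fin n → ℂ) →ₗ[ℂ] (Fin n → ℂ)) (g : G) :
    ρ g ∘ₗ f ∘ₗ ρ g⁻¹ = f ↔ matRep ρ g * LinearMap.toMatrix' f = LinearMap.toMatrix' f * matRep ρ g := by
  rw [matRep_apply, ← LinearMap.toMatrix'_comp, ← LinearMap.toMatrix'_comp,
    (LinearMap.toMatrix' (R := ℂ) (m := Fin n) (n := Fin n)).injective.eq_iff]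
  have h1 : ρ g⁻¹ ∘ₗ ρ g = LinearMap.id := by
    rw [← Module.End.mul_eq_comp, ← map_mul, inv_mul_cancel, map_one, Module.End.one_eq_id]
  have h2 : ρ g ∘ₗ ρ g⁻¹ = LinearMap.id := by
    rw [← Module.End.mul_eq_comp, ← map_mul, mul_inv_cancel, map_one, Module.End.one_eq_id]
  constructor
  · intro h
    calc ρ g ∘ₗ f = ρ g ∘ₗ f ∘ₗ (ρ g⁻¹ ∘ₗ ρ g) := by rw [h1, LinearMap.comp_id]
      _ = (ρ g ∘ₗ f ∘ₗ ρ g⁻¹) ∘ₗ ρ g := by simp only [LinearMap.comp_assoc]
      _ = f ∘ₗ ρ g := by rw [h]
  · intro h
    calc ρ g ∘ₗ f ∘ₗ ρ g⁻¹ = (ρ g ∘ₗ f) ∘ₗ ρ g⁻¹ := by simp only [LinearMap.comp_assoc]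
      _ = f ∘ₗ (ρ g ∘ₗ ρ g⁻¹) := by rw [h]; simp only [LinearMap.comp_assoc]
      _ = f := by rw [h2, LinearMap.comp_id]

theorem norm_restrict_eq {p : ℕ} [hp : Fact p.Prime] (H P : Subgroup G) [Fintype H]
    (hP : IsPGroup p P) (hP1 : P ≠ ⊥) (hPH : P ≤ H)
    (hfree : ∀ x ∈ P, ∀ g : G, g ∉ H → g⁻¹ * x * g ∈ H → x = 1)
    (ρ : Representation ℂ G (Fin n → ℂ)) (hn : n ^ 2 ≤ Nat.card P) :
    Cfsg.classInner ρ.character ρ.character =
      Cfsg.classInner (fun h : H => ρ.character h) (fun h : H => ρ.character h) := by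
  classical
  have : Fintype P := Fintype.ofFinite _
  let ρH : Representation ℂ H (Fin n → ℂ) := MonoidHom.comp ρ H.subtype
  have hρH : (fun h : H => ρ.character h) = ρH.character := rfl
  rw [hρH, classInner_self_eq_finrank, classInner_self_eq_finrank]
  have hn' : n ^ 2 ≤ Fintype.card P := by rwa [← Nat.card_eq_fintype_card]
  have hP1' : 1 < Fintype.card P := by
    rw [← Nat.card_eq_fintype_card]
    exact (Subgroup.one_lt_card_iff_ne_bot P).2 hP1
  have heq : Representation.invariants (Representation.linHom ρ ρ) =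
      Representation.invariants (Representation.linHom ρH ρH) := by
    ext f
    rw [Representation.mem_invariants, Representation.mem_invariants]
    constructor
    · intro h x
      have := h (x : G)
      rw [Representation.linHom_apply] at this ⊢
      exact this
    · intro h g
      rw [Representation.linHom_apply, comm_iff]
      apply commutant_eq (p := p) H P hP hP1' hPH hfree (matRep ρ) hn'
      intro x hx
      have := h ⟨x, hx⟩
      rw [Representation.linHom_apply] at this
      exact (comm_iff ρ f x).1 this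
  rw [heq]

end Norm

end Cfsg.Agent.Lib.Helper7.VL
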