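import Mathlib
import Cfsg.Prelude.Def_Characters
import Cfsg.Agent.Lib.Helper7.VL9
import Cfsg.Agent.Lib.Helper7.BLt1

set_option autoImplicit false

/-! Invariants of the restriction to `H ≥ N_G(P)` in degree `< |P|`. -/

namespace Cfsg.Agent.Lib.Helper7.BLt

open Matrix Cfsg.Agent.Lib.Helper7.VL
open scoped ComplexConjugate

section

variable {G : Type*} [Group G] [Fintype G] {n : ℕ}

theorem fix_iff (ρ : Representation ℂ G (Fin n → ℂ)) (v : Fin n → ℂ) (g : G) :
    ρ g v = v ↔ matRep ρ g * replicateCol (Fin 1) v = replicateCol (Fin 1) v := by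
  rw [← replicateCol_mulVec, replicateCol_inj, matRep_apply, LinearMap.toMatrix'_mulVec]

theorem invariants_restrict_eq {p : ℕ} [hp : Fact p.Prime] (H P : Subgroup G)
    (hP : IsPGroup p P) (hPH : P ≤ H)
    (hfree : ∀ x ∈ P, ∀ g : G, g ∉ H → g⁻¹ * x * g ∈ H → x = 1)
    (ρ : Representation ℂ G (Fin n → ℂ)) (hn : n < Nat.card P) :
    Representation.invariants ρ =
      Representation.invariants (MonoidHom.comp ρ H.subtype : Representation ℂ H (Fin n → ℂ)) := by
  classical
  have : Fintype P := Fintype.ofFinite _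
  have hn' : n < Fintype.card P := by rwa [← Nat.card_eq_fintype_card]
  ext v
  rw [Representation.mem_invariants, Representation.mem_invariants]
  constructor
  · intro h x
    exact h (x : G)
  · intro h g
    rw [fix_iff]
    apply fixed_eq (p := p) H P hP hPH hfree (matRep ρ) hn'
    intro x hx
    have := h ⟨x, hx⟩
    exact (fix_iff ρ v x).1 this

/-- `[χ_H, 1_H] = [χ, 1_G]` in degree `< |P|`. -/
theorem classInner_one_restrict {p : ℕ} [hp : Fact p.Prime] (H P : Subgroup G) [Fintype H]
    (hP : IsPGroup p P) (hPH : P ≤ H)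
    (hfree : ∀ x ∈ P, ∀ g : G, g ∉ H → g⁻¹ * x * g ∈ H → x = 1)
    (ρ : Representation ℂ G (Fin n → ℂ)) (hn : n < Nat.card P) :
    Cfsg.classInner (fun h : H => ρ.character h) (fun _ => (1 : ℂ)) =
      Cfsg.classInner ρ.character (fun _ => (1 : ℂ)) := by
  classical
  let ρH : Representation ℂ H (Fin n → ℂ) := MonoidHom.comp ρ H.subtype
  have hρH : (fun h : H => ρ.character h) = ρH.character := rfl
  have : Invertible (Nat.card G : ℂ) := invertibleOfNonzero (Nat.cast_ne_zero.2 Nat.card_pos.ne')
  have : Invertible (Nat.card H : ℂ) := invertibleOfNonzero (Nat.cast_ne_zero.2 Nat.card_pos.ne')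
  have h1 := Representation.card_inv_mul_sum_char_eq_finrank (ρ := ρ)
  have h2 := Representation.card_inv_mul_sum_char_eq_finrank (ρ := ρH)
  have heq := invariants_restrict_eq (p := p) H P hP hPH hfree ρ hn
  unfold Cfsg.classInner
  simp only [map_one, mul_one]
  rw [hρH, h1, h2, heq]

end

end Cfsg.Agent.Lib.Helper7.BLt
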