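import Mathlib
import Cfsg.Prelude.Def_Characters
import Cfsg.Agent.Lib.Helper7.BLt2
import Cfsg.Agent.Lib.Helper4.CharTools
import Cfsg.Agent.Lib.Helper1.CharFound3
import Cfsg.Agent.S0146
import Cfsg.Agent.S0148
import Cfsg.Agent.S0161
import Cfsg.Agent.S0170

set_option autoImplicit false

/-! A group with a proper subgroup `H` containing a `p`-subgroup `P` acting freely on the
non-trivial cosets of `H` has an irreducible character of degree at least `|P|`. -/

namespace Cfsg.Agent.Lib.Helper7.BLt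

open Cfsg Cfsg.Agent.Lib.Helper1 Cfsg.Agent.Lib.Helper4
open scoped ComplexConjugate

universe u

section

variable {G : Type u} [Group G] [Fintype G]

theorem exists_degree_ge {p : ℕ} [hp : Fact p.Prime] (H P : Subgroup G)
    (hP : IsPGroup p P) (hPH : P ≤ H)
    (hfree : ∀ x ∈ P, ∀ g : G, g ∉ H → g⁻¹ * x * g ∈ H → x = 1) (hH : H ≠ ⊤) :
    ∃ (n : ℕ) (ρ : Representation ℂ G (Fin n → ℂ)), ρ.IsIrreducible ∧ Nat.card P ≤ n := by
  classical
  haveI : Fintype H := Fintype.ofFinite _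
  set θ : H → ℂ := fun _ => 1 with hθdef
  have hθ : IsIrrCharacter H θ := Cfsg.Agent.S0161.isIrrCharacter_one
  set ψ := indFun H θ with hψdef
  have hψ : IsCharacter G ψ := Cfsg.Agent.S0148.result H θ (isCharacter_of_irr hθ)
  have h1G : IsIrrCharacter G (fun _ => (1 : ℂ)) := Cfsg.Agent.S0161.isIrrCharacter_one
  have hfr : classInner ψ (fun _ => (1 : ℂ)) = 1 := by
    rw [Cfsg.Agent.S0146.result H θ _ (isClassFunction_irr h1G)]
    exact classInner_irr_self hθ
  have hsub : IsCharacter G (ψ - (fun _ => (1 : ℂ)) : G → ℂ) :=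
    isCharacter_sub_irr hψ h1G (m := 1) one_pos (by rw [hfr]; simp)
  have hHG : Nat.card H ≠ Nat.card G := by
    intro h
    apply hH
    exact Subgroup.card_eq_iff_eq_top H |>.1 h
  have hdeg : (ψ - (fun _ => (1 : ℂ)) : G → ℂ) 1 ≠ 0 := by
    rw [Pi.sub_apply, hψdef, Cfsg.Agent.S0170.indFun_one]
    intro h
    have hH0 : (Nat.card H : ℂ) ≠ 0 := Nat.cast_ne_zero.2 Nat.card_pos.ne'
    have h2 : (Nat.card H : ℂ)⁻¹ * ((Nat.card G : ℂ) * 1) = 1 := sub_eq_zero.1 h
    rw [mul_one, inv_mul_eq_one₀ hH0] at h2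
    exact hHG (by exact_mod_cast h2)
  obtain ⟨φ, hφ, m, hm, hin⟩ := exists_constituent hsub hdeg
  have hφne : φ ≠ fun _ => (1 : ℂ) := by
    intro h
    rw [h, classInner_sub_left, hfr, classInner_irr_self h1G, sub_self] at hin
    have : m = 0 := by exact_mod_cast hin.symm
    omega
  have h1φ : classInner (fun _ => (1 : ℂ)) φ = 0 := classInner_irr_ne h1G hφ (Ne.symm hφne)
  have hψφ : classInner ψ φ = m := by
    rw [classInner_sub_left, h1φ, sub_zero] at hin
    exact hin
  rw [Cfsg.Agent.S0146.result H θ φ (isClassFunction_irr hφ)] at hψφ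
  have hres : classInner (fun h : H => φ h) θ = m := by
    rw [← classInner_conj_symm, hψφ]
    simp
  obtain ⟨n, ρ, hirr, rfl⟩ := hφ
  refine ⟨n, ρ, hirr, ?_⟩
  by_contra hlt
  push Not at hlt
  have h3 := classInner_one_restrict (p := p) H P hP hPH hfree ρ hlt
  have h4 : classInner ρ.character (fun _ => (1 : ℂ)) = 0 :=
    classInner_irr_ne ⟨n, ρ, hirr, rfl⟩ h1G hφne
  rw [h4] at h3
  rw [hθdef, h3] at hres
  have : m = 0 := by exact_mod_cast hres.symm
  omega

end

end Cfsg.Agent.Lib.Helper7.BLt
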