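import Mathlib
import Cfsg.Prelude.Def_Characters
import Cfsg.Prelude.Def_Blocks
import Cfsg.Agent.Lib.Helper7.BLt3
import Cfsg.Agent.Lib.Helper8.Deflation
import Cfsg.Agent.Lib.Helper8.Rey3

set_option autoImplicit false

/-! If all irreducible character degrees of `G` are less than `p`, then `G` has a normal abelian
Sylow `p`-subgroup. -/

namespace Cfsg.Agent.Lib.Helper7.BLt

open Cfsg Cfsg.Agent.Lib.Helper1 Cfsg.Agent.Lib.Helper4 Cfsg.Agent.Lib.Helper8
open scoped ComplexConjugate Pointwise

universe u

/-- all irreducible character degrees are less than `p` -/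
def Small (p : ℕ) (G : Type u) [Group G] : Prop :=
  ∀ χ : IrrCharacter G, charDegree (χ : G → ℂ) < p

section Inherit

variable {G : Type u} [Group G] [Finite G] {p : ℕ}

/-- every irreducible character of a subgroup lies under an irreducible character of the group -/
theorem exists_irr_over' (H : Subgroup G) {ψ : H → ℂ} (hψ : IsIrrCharacter H ψ) :
    ∃ χ : G → ℂ, IsIrrCharacter G χ ∧
      letI : Fintype H := Fintype.ofFinite _
      classInner (fun n : H => χ n) ψ ≠ 0 := by
  classical
  haveI : Fintype G := Fintype.ofFinite _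
  haveI : Fintype H := Fintype.ofFinite _
  haveI : Fintype (IrrCharacter G) := Fintype.ofFinite _
  by_contra hcon
  push Not at hcon
  have hI : IsCharacter G (indFun H ψ) := Cfsg.Agent.S0148.result H ψ (isCharacter_of_irr hψ)
  have hexp := class_function_expansion _ (isClassFunction_of_isCharacter hI)
  have hzero : indFun H ψ = 0 := by
    rw [hexp]
    apply Finset.sum_eq_zero
    intro χ _
    have h1 := Cfsg.Agent.S0146.result H ψ (χ : G → ℂ) (isClassFunction_irr χ.2)
    have h2 := hcon χ χ.2
    rw [h1, ← classInner_conj_symm]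
    have h3 : classInner (fun h : H => (χ : G → ℂ) h) ψ = 0 := by
      convert h2
    rw [h3, map_zero, zero_smul]
  have h1 := congrFun hzero 1
  rw [Cfsg.Agent.S0170.indFun_one] at h1
  have hN0 : (Nat.card H : ℂ) ≠ 0 := Nat.cast_ne_zero.2 Nat.card_pos.ne'
  have hG0 : (Nat.card G : ℂ) ≠ 0 := Nat.cast_ne_zero.2 Nat.card_pos.ne'
  have := irr_apply_one_ne_zero hψ
  simp only [Pi.zero_apply, mul_eq_zero, inv_eq_zero] at h1
  rcases h1 with h | h | h
  · exact hN0 h
  · exact hG0 h
  · exact this h

theorem small_subgroup (hb : Small p G) (H : Subgroup G) : Small p H := by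
  classical
  haveI : Fintype G := Fintype.ofFinite _
  haveI : Fintype H := Fintype.ofFinite _
  intro ψ
  obtain ⟨χ, hχ, hne⟩ := exists_irr_over' H ψ.2
  have hne' : classInner (fun n : H => χ n) (ψ : H → ℂ) ≠ 0 := by convert hne
  have hres : IsCharacter H (fun n : H => χ n) :=
    Cfsg.Agent.S0148.isCharacter_restrict H (isCharacter_of_irr hχ)
  obtain ⟨m, hm⟩ := classInner_char_irr_nat hres ψ.2
  have hm0 : 0 < m := by
    rcases Nat.eq_zero_or_pos m with h | h
    · exfalso
      apply hne'
      rw [hm, h]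
      simp
    · exact h
  have hsub := isCharacter_sub_irr hres ψ.2 hm0 hm
  obtain ⟨d, hd⟩ := isCharacter_apply_one hsub
  have h1 := (irr_apply_one_eq_charDegree hχ).1
  have h2 := (irr_apply_one_eq_charDegree ψ.2).1
  have h3 : χ 1 - (ψ : H → ℂ) 1 = d := hd
  rw [h1, h2] at h3
  have h4 : (charDegree χ : ℂ) = ((charDegree (ψ : H → ℂ) + d : ℕ) : ℂ) := by
    push_cast
    linear_combination h3
  have h5 : charDegree χ = charDegree (ψ : H → ℂ) + d := by exact_mod_cast h4
  have := hb ⟨χ, hχ⟩
  show charDegree (ψ : H → ℂ) < p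
  have h6 : charDegree ((⟨χ, hχ⟩ : IrrCharacter G) : G → ℂ) = charDegree χ := rfl
  omega

theorem small_quotient (hb : Small p G) (N : Subgroup G) [N.Normal] : Small p (G ⧸ N) := by
  intro ψ
  have h1 := isIrrCharacter_inflation N ψ.2
  have := hb ⟨_, h1⟩
  exact this

theorem small_sylow_comm [hp : Fact p.Prime] (hb : Small p G) (P : Sylow p G) :
    ∀ a b : P, a * b = b * a := by
  classical
  haveI : Fintype P := Fintype.ofFinite _
  apply comm_of_charDegree_eq_one
  intro ζ
  have h1 := small_subgroup hb (P : Subgroup G) ζ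
  have h2 := charDegree_dvd_card ζ.2
  obtain ⟨a, ha⟩ := IsPGroup.iff_card.1 P.2
  have h2' : charDegree (ζ : P → ℂ) ∣ p ^ a := by
    rw [← ha]
    exact h2
  rw [Nat.dvd_prime_pow hp.out] at h2'
  obtain ⟨j, -, hj⟩ := h2'
  rcases Nat.eq_zero_or_pos j with h | h
  · rw [hj, h, pow_zero]
  · exfalso
    have : p ^ 1 ≤ p ^ j := Nat.pow_le_pow_right hp.out.pos h
    rw [pow_one] at this
    omega

end Inherit

section Main

variable {p : ℕ} [hp : Fact p.Prime]

theorem sylow_normal_aux : ∀ (N : ℕ) (G : Type u) [Group G] [Finite G], Nat.card G = N →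
    Small p G → ∀ P : Sylow p G, (P : Subgroup G).Normal := by
  intro N
  induction N using Nat.strong_induction_on with
  | _ N ih =>
  intro G _ _ hN hb P
  classical
  by_contra hnn
  have hab := small_sylow_comm hb P
  have habG : ∀ a ∈ (P : Subgroup G), ∀ b ∈ (P : Subgroup G), a * b = b * a := by
    intro a ha b hb'
    have := hab ⟨a, ha⟩ ⟨b, hb'⟩
    exact congrArg Subtype.val this
  -- proper subgroups containing `P` normalize `P`
  have hprop : ∀ H : Subgroup G, H ≠ ⊤ → (P : Subgroup G) ≤ H →
      H ≤ Subgroup.normalizer ((P : Subgroup G) : Set G) := by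
    intro H hH hPH
    have hcard : Nat.card H < N := by
      rw [← hN]
      rcases lt_or_eq_of_le (Subgroup.card_le_card_group H) with h | h
      · exact h
      · exact absurd ((Subgroup.card_eq_iff_eq_top H).1 h) hH
    have h1 := ih (Nat.card H) hcard H rfl (small_subgroup hb H) (P.subtype hPH)
    rw [Sylow.coe_subtype] at h1
    exact (Subgroup.normal_subgroupOf_iff_le_normalizer hPH).1 h1
  -- `P` is a TI subgroup
  have hTI : ∀ g : G, g ∉ Subgroup.normalizer ((P : Subgroup G) : Set G) →
      (P : Subgroup G) ⊓ (MulAut.conj g • (P : Subgroup G)) = ⊥ := by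
    intro g hg
    rw [eq_bot_iff]
    intro x hx
    rw [Subgroup.mem_bot]
    by_contra hx1
    obtain ⟨hxP, hxQ⟩ := hx
    set Q : Sylow p G := g • P with hQ
    have hQc : (Q : Subgroup G) = MulAut.conj g • (P : Subgroup G) := rfl
    have habQ : ∀ a ∈ (Q : Subgroup G), ∀ b ∈ (Q : Subgroup G), a * b = b * a := by
      intro a ha b hb'
      rw [hQc, Subgroup.mem_pointwise_smul_iff_inv_smul_mem, MulAut.smul_def, ← map_inv,
        MulAut.conj_apply] at ha hb'
      have := habG _ ha _ hb'
      have e1 : a * b = g * ((g⁻¹ * a * g⁻¹⁻¹) * (g⁻¹ * b * g⁻¹⁻¹)) * g⁻¹ := by group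
      have e2 : b * a = g * ((g⁻¹ * b * g⁻¹⁻¹) * (g⁻¹ * a * g⁻¹⁻¹)) * g⁻¹ := by group
      rw [e1, e2, this]
    set C := Subgroup.centralizer ({x} : Set G) with hC
    have hPC : (P : Subgroup G) ≤ C := by
      intro y hy
      rw [hC, Subgroup.mem_centralizer_iff]
      intro z hz
      rw [Set.mem_singleton_iff] at hz
      rw [hz]
      exact habG x hxP y hy
    have hQC : (Q : Subgroup G) ≤ C := by
      intro y hy
      rw [hC, Subgroup.mem_centralizer_iff]
      intro z hz
      rw [Set.mem_singleton_iff] at hz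
      rw [hz]
      exact habQ x hxQ y hy
    by_cases hCtop : C = ⊤
    · -- `x` is central
      have hxc : ∀ y : G, x * y = y * x := by
        intro y
        have : y ∈ C := by rw [hCtop]; exact Subgroup.mem_top y
        rw [hC, Subgroup.mem_centralizer_iff] at this
        exact this x rfl
      set Z := Subgroup.zpowers x with hZ
      have hZc : ∀ z ∈ Z, ∀ y : G, z * y = y * z := by
        intro z hz y
        rw [hZ, Subgroup.mem_zpowers_iff] at hz
        obtain ⟨k, rfl⟩ := hz
        have : Commute x y := hxc y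
        exact (this.zpow_left k).eq
      have hZn : Z.Normal := ⟨fun z hz y => by
        rw [← hZc z hz y, mul_inv_cancel_right]
        exact hz⟩
      have hZP : Z ≤ (P : Subgroup G) := by
        rw [hZ, Subgroup.zpowers_le]
        exact hxP
      have hZ1 : 1 < Nat.card Z := by
        rw [Subgroup.one_lt_card_iff_ne_bot]
        intro h
        apply hx1
        have : x ∈ Z := Subgroup.mem_zpowers x
        rw [h, Subgroup.mem_bot] at this
        exact this
      have hcard : Nat.card (G ⧸ Z) < N := by
        rw [← hN, Subgroup.card_eq_card_quotient_mul_card_subgroup Z]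
        have : 0 < Nat.card (G ⧸ Z) := Nat.card_pos
        nlinarith
      have h1 := ih (Nat.card (G ⧸ Z)) hcard (G ⧸ Z) rfl (small_quotient hb Z)
        (P.mapSurjective (QuotientGroup.mk'_surjective Z))
      rw [Sylow.coe_mapSurjective] at h1
      have h2 : ((P : Subgroup G).map (QuotientGroup.mk' Z)).comap (QuotientGroup.mk' Z) =
          (P : Subgroup G) := by
        rw [Subgroup.comap_map_eq, QuotientGroup.ker_mk', sup_eq_left]
        exact hZP
      apply hnn
      rw [← h2]
      exact h1.comap _
    · have hCN := hprop C hCtop hPC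
      have hQN : (Q : Subgroup G) ≤ Subgroup.normalizer ((P : Subgroup G) : Set G) :=
        le_trans hQC hCN
      have h1 := IsPGroup.inf_normalizer_sylow Q.2 P
      have hQP : (Q : Subgroup G) ≤ (P : Subgroup G) := by
        intro y hy
        have h' : y ∈ (Q : Subgroup G) ⊓ (P : Subgroup G) := by
          rw [← h1]
          exact ⟨hy, hQN hy⟩
        exact h'.2
      have h2 : (P : Subgroup G) = Q := Q.3 P.2 hQP
      have h3 : g • P = P := Sylow.ext h2.symm
      exact hg (Sylow.smul_eq_iff_mem_normalizer.1 h3)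
  -- conclusion
  set H := Subgroup.normalizer ((P : Subgroup G) : Set G) with hH
  have hHtop : H ≠ ⊤ := by
    intro h
    exact hnn (Subgroup.normalizer_eq_top_iff.1 h)
  have hfree := Cfsg.Agent.Lib.Helper7.VL.ti_free P hTI H le_rfl
  haveI : Fintype G := Fintype.ofFinite _
  obtain ⟨n, ρ, hirr, hle⟩ := exists_degree_ge (p := p) H (P : Subgroup G) P.2
    Subgroup.le_normalizer hfree hHtop
  have h1 := hb ⟨ρ.character, n, ρ, hirr, rfl⟩
  have h2 : charDegree ρ.character = n := by
    unfold charDegree
    rw [Representation.char_one, Module.finrank_fin_fun]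
    simp
  have h3 : charDegree ((⟨ρ.character, n, ρ, hirr, rfl⟩ : IrrCharacter G) : G → ℂ) =
      charDegree ρ.character := rfl
  -- `|P| ≥ p`
  have hPbot : (P : Subgroup G) ≠ ⊥ := by
    intro h
    apply hnn
    rw [h]
    infer_instance
  obtain ⟨a, ha⟩ := IsPGroup.iff_card.1 P.2
  have ha0 : a ≠ 0 := by
    intro h
    rw [h, pow_zero] at ha
    exact hPbot ((Subgroup.card_eq_one).1 ha)
  have hpa : p ≤ p ^ a := by
    calc p = p ^ 1 := (pow_one p).symm
      _ ≤ p ^ a := Nat.pow_le_pow_right hp.out.pos (Nat.one_le_iff_ne_zero.2 ha0)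
  have : Nat.card (P : Subgroup G) = p ^ a := ha
  omega

end Main

end Cfsg.Agent.Lib.Helper7.BLt
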