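import Mathlib
import Cfsg.Agent.Lib.Helper7.BH1

set_option autoImplicit false

/-!
# Brauer–Leonard for inertial index `3`: normalising the structural data
-/

namespace Cfsg.Agent.Lib.Helper7.BM

open Cfsg Subgroup
open Cfsg.Agent.Lib.Helper1 Cfsg.Agent.Lib.Helper4 Cfsg.Agent.Lib.Helper8
open Cfsg.Agent.Lib.Helper7.BL Cfsg.Agent.Lib.Helper7.BH
open scoped ComplexConjugate Classical

attribute [local instance] actHom

variable {G : Type*} [Group G] [Fintype G] {p : ℕ} {P : Sylow p G}
variable {B : Finset (IrrCharacter G)}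

/-- the data with the two exceptional characters interchanged -/
noncomputable def swapData (D : Data P B) [Fintype (Idx (P : Subgroup G))]
    (σ : Idx (P : Subgroup G) ≃ Idx (P : Subgroup G))
    (hσ : ∀ i j, j ≠ i ↔ j = σ i) (hc : ∀ i, D.w (D.f i) = -D.e) : Data P B where
  e := -D.e
  f := fun i => D.f (σ i)
  w := fun χ => if χ ∈ Finset.univ.image D.f then 0 else D.w χ
  he := by rcases D.he with h | h <;> rw [h] <;> simp
  hf := fun i j hij => σ.injective (D.hf hij)
  hfB := fun i => D.hfB _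
  hw := by
    intro χ hχ i
    rw [D.hw χ hχ i]
    have hii : σ i ≠ i := fun hh => ((hσ i i).mpr hh.symm) rfl
    by_cases hmem : χ ∈ Finset.univ.image D.f
    · rw [if_pos hmem]
      obtain ⟨j, _, rfl⟩ := Finset.mem_image.mp hmem
      rw [hc j]
      by_cases hji : j = i
      · subst hji
        rw [if_pos rfl, if_neg (fun hh => hii (D.hf hh).symm)]
        ring
      · have hj : j = σ i := (hσ i j).mp hji
        rw [if_neg (fun hh => hji (D.hf hh)), if_pos (by rw [hj])]
        ring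
    · have e1 : ¬ χ = D.f i := by
        rintro rfl
        exact hmem (Finset.mem_image_of_mem _ (Finset.mem_univ _))
      have e2 : ¬ χ = D.f (σ i) := by
        rintro rfl
        exact hmem (Finset.mem_image_of_mem _ (Finset.mem_univ _))
      rw [if_neg hmem, if_neg e1, if_neg e2]
      ring

theorem swapData_w (D : Data P B) [Fintype (Idx (P : Subgroup G))]
    (σ : Idx (P : Subgroup G) ≃ Idx (P : Subgroup G))
    (hσ : ∀ i j, j ≠ i ↔ j = σ i) (hc : ∀ i, D.w (D.f i) = -D.e) (i : Idx (P : Subgroup G)) :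
    (swapData D σ hσ hc).w ((swapData D σ hσ hc).f i) = 0 := by
  show (if D.f (σ i) ∈ Finset.univ.image D.f then 0 else D.w (D.f (σ i))) = 0
  rw [if_pos (Finset.mem_image_of_mem _ (Finset.mem_univ _))]

theorem not_pow_eq_ten (p : ℕ) (hp : p.Prime) (k : ℕ) : p ^ k ≠ 10 := by
  intro h
  have h2 : 2 ∣ p ^ k := by rw [h]; norm_num
  have h5 : 5 ∣ p ^ k := by rw [h]; norm_num
  have h2' := (Nat.prime_dvd_prime_iff_eq Nat.prime_two hp).mp (Nat.prime_two.dvd_of_dvd_pow h2)
  have h5' := (Nat.prime_dvd_prime_iff_eq Nat.prime_five hp).mp (Nat.prime_five.dvd_of_dvd_pow h5)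
  omega

/-- the structural data may be chosen with vanishing constant. -/
theorem exists_data_zero [hp : Fact p.Prime] (h : Hyp p P) (hP1 : Nat.card P ≠ 1)
    {M : Ideal AlgInt} (hM : IsPModular p M)
    (hB : (B : Set (IrrCharacter G)) = principalBlock M G)
    [Fintype (↥(P : Subgroup G) →* ℂˣ)]
    [Fintype (Idx (P : Subgroup G))] [Nontrivial (Idx (P : Subgroup G))]
    (htriv : trivIrr G ∈ B)
    (h3 : (Subgroup.centralizer ((P : Subgroup G) : Set G)).relIndex
      (Subgroup.normalizer ((P : Subgroup G) : Set G)) = 3) :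
    ∃ D : Data P B, ∀ i, D.w (D.f i) = 0 := by
  obtain ⟨D⟩ := h.exists_data hP1 hM B hB
  obtain ⟨i₀⟩ : Nonempty (Idx (P : Subgroup G)) := inferInstance
  obtain ⟨y₀, hy₀⟩ : ∃ y : ↥(P : Subgroup G), y ≠ 1 := by
    by_contra hne
    push Not at hne
    apply hP1
    haveI : Subsingleton ↥(P : Subgroup G) := ⟨fun a b => by rw [hne a, hne b]⟩
    exact Nat.card_unique
  set c : ℤ := D.w (D.f i₀) with hc
  have hconst : ∀ i, D.w (D.f i) = c := fun i => D.w_const h hP1 hM hB i i₀
  by_cases hc0 : c = 0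
  · exact ⟨D, fun i => by rw [hconst i, hc0]⟩
  set r : ℕ := Fintype.card (Idx (P : Subgroup G)) with hr
  have hr2 : 2 ≤ r := by
    have : 1 < Fintype.card (Idx (P : Subgroup G)) := Fintype.one_lt_card
    omega
  set X := B \ Finset.univ.image D.f with hX
  have h1 := D.sum_X h hP1 hM hB i₀
  rw [h3, ← hc, ← hX, ← hr] at h1
  push_cast at h1
  have htX : trivIrr G ∈ X := triv_mem_X D htriv
  set X' := X.erase (trivIrr G) with hX'
  have h2 : ∑ χ ∈ X', (D.w χ) ^ 2 = 2 - 2 * D.e * c - (r : ℤ) * c ^ 2 := by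
    have := Finset.add_sum_erase X (fun χ => (D.w χ) ^ 2) htX
    rw [h1] at this
    simp only [w_triv D htriv] at this
    rw [← hX'] at this
    linarith
  have hnn : 0 ≤ ∑ χ ∈ X', (D.w χ) ^ 2 := Finset.sum_nonneg (fun χ _ => sq_nonneg _)
  have hr2' : (2 : ℤ) ≤ (r : ℤ) := by exact_mod_cast hr2
  have h6 : (2 : ℤ) * c ^ 2 ≤ (r : ℤ) * c ^ 2 := mul_le_mul_of_nonneg_right hr2' (sq_nonneg _)
  have hce : c = -D.e := by
    rcases D.he with he | he
    · rw [he] at h2 ⊢
      have hb1 : -1 ≤ c := by nlinarith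
      have hb2 : c ≤ 0 := by nlinarith
      interval_cases c
      · rfl
      · exact absurd rfl hc0
    · rw [he] at h2 ⊢
      have hb1 : 0 ≤ c := by nlinarith
      have hb2 : c ≤ 1 := by nlinarith
      interval_cases c
      · exact absurd rfl hc0
      · rfl
  have hee : D.e * D.e = 1 := D.e_sq
  have hcc : c ^ 2 = 1 := by rw [hce]; nlinarith
  have hec : D.e * c = -1 := by rw [hce]; nlinarith
  have h2' : ∑ χ ∈ X', (D.w χ) ^ 2 = 4 - (r : ℤ) := by
    rw [h2, hcc]
    linarith
  have hr4 : r ≤ 4 := by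
    have : (r : ℤ) ≤ 4 := by linarith
    exact_mod_cast this
  have hcardP := h.card_idx
  rw [h3, Nat.card_eq_fintype_card (α := Idx (P : Subgroup G)), ← hr] at hcardP
  have hr3 : r ≠ 3 := by
    intro hr3
    obtain ⟨k, hk⟩ := (P.isPGroup').exists_card_eq
    rw [hr3] at hcardP
    apply not_pow_eq_ten p hp.out k
    rw [← hk]
    exact hcardP.symm
  have hr4' : r ≠ 4 := by
    intro hr4'
    have hne : ∀ χ ∈ X', D.w χ ≠ 0 := by
      intro χ hχ
      have hχX : χ ∈ X := Finset.mem_of_mem_erase hχ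
      exact X_ne h hM hB D (Finset.mem_sdiff.mp hχX).1 (Finset.mem_sdiff.mp hχX).2 y₀ hy₀
    have hemp : X' = ∅ := by
      by_contra hne'
      obtain ⟨χ, hχ⟩ := Finset.nonempty_iff_ne_empty.mpr hne'
      have ha : (1 : ℤ) ≤ (D.w χ) ^ 2 := by
        rw [one_le_sq_iff_one_le_abs]
        exact Int.one_le_abs (hne χ hχ)
      have hb : (D.w χ) ^ 2 ≤ ∑ χ ∈ X', (D.w χ) ^ 2 :=
        Finset.single_le_sum (f := fun χ => (D.w χ) ^ 2) (fun χ _ => sq_nonneg _) hχ
      rw [h2', hr4'] at hb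
      push_cast at hb
      linarith
    have hXeq : X = {trivIrr G} := by
      rw [← Finset.insert_erase htX, ← hX', hemp]
      rfl
    have ho := D.orth_split h hM hP1 hB i₀ 1 (by
      rw [orderOf_one]
      exact hp.out.one_lt.ne' ∘ Nat.dvd_one.mp)
    rw [← hX, hXeq, Finset.sum_singleton, w_triv D htriv, trivIrr_apply, ← hr, hr4', ← hc,
      (irr_apply_one_eq_charDegree (D.f i₀).2).1] at ho
    have ho' : (-1 : ℤ) + (4 * c + D.e) * (charDegree (D.f i₀ : G → ℂ) : ℤ) = 0 := by
      have : (((-1 : ℤ) + (4 * c + D.e) * (charDegree (D.f i₀ : G → ℂ) : ℤ) : ℤ) : ℂ) = 0 := by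
        push_cast
        rw [← ho]
        push_cast
        ring
      exact_mod_cast this
    rw [hce] at ho'
    have : (3 : ℤ) ∣ 1 := by
      refine ⟨-(D.e * (charDegree (D.f i₀ : G → ℂ) : ℤ)), ?_⟩
      linarith
    norm_num at this
  have hr2'' : r = 2 := by omega
  have hN2 : Nat.card (Idx (P : Subgroup G)) = 2 := by
    rw [Nat.card_eq_fintype_card, ← hr, hr2'']
  obtain ⟨x, y, hxy, huniv⟩ := Nat.card_eq_two_iff.mp hN2
  have hmem : ∀ j : Idx (P : Subgroup G), j = x ∨ j = y := by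
    intro j
    have : j ∈ (Set.univ : Set (Idx (P : Subgroup G))) := Set.mem_univ j
    rw [← huniv] at this
    simpa using this
  have hσ : ∀ i j, j ≠ i ↔ j = (Equiv.swap x y) i := by
    intro i j
    rcases hmem i with rfl | rfl <;> rcases hmem j with rfl | rfl
    · simp [hxy]
    · simp [hxy.symm]
    · simp [hxy]
    · simp [hxy.symm]
  have hcD : ∀ i, D.w (D.f i) = -D.e := fun i => by rw [hconst i, hce]
  exact ⟨swapData D (Equiv.swap x y) hσ hcD, swapData_w D _ hσ hcD⟩

end Cfsg.Agent.Lib.Helper7.BM
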