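import Mathlib

set_option autoImplicit false

/-!
# Brauer–Leonard for inertial index `3`: the algebra of the three relations
-/

namespace Cfsg.Agent.Lib.Helper7.BM

theorem core_sq (di dj dk Xi Xj : ℤ) (hd : di + dj - dk = 1)
    (hQ : (Xi + Xj) ^ 2 * (di * dj) = Xi ^ 2 * (dj * dk) + Xj ^ 2 * (di * dk)) :
    (di * dj * dk) * Xj ^ 2 = (dj * (di - dk) * Xi + di * dj * Xj) ^ 2 := by
  linear_combination (-(dj * (di - dk))) * hQ + (-(di * dj * dk * Xj ^ 2)) * hd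

theorem core_cs (di dj dk Xi Xj : ℤ) (hi : 0 < di) (hj : 0 < dj) (hd : dk = 1 + di + dj)
    (hQ : (Xi + Xj) ^ 2 * (di * dj) = Xi ^ 2 * (dj * dk) + Xj ^ 2 * (di * dk)) :
    Xi = 0 ∧ Xj = 0 := by
  have key : Xi ^ 2 * dj + Xj ^ 2 * di + (Xi * dj - Xj * di) ^ 2 = 0 := by
    rw [hd] at hQ
    linear_combination (-1 : ℤ) * hQ
  have h1 : 0 ≤ Xi ^ 2 * dj := mul_nonneg (sq_nonneg _) hj.le
  have h2 : 0 ≤ Xj ^ 2 * di := mul_nonneg (sq_nonneg _) hi.le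
  have h3 : 0 ≤ (Xi * dj - Xj * di) ^ 2 := sq_nonneg _
  have e1 : Xi ^ 2 * dj = 0 := by linarith
  have e2 : Xj ^ 2 * di = 0 := by linarith
  constructor
  · rcases mul_eq_zero.mp e1 with h | h
    · exact pow_eq_zero_iff (two_ne_zero) |>.mp h
    · exact absurd h hj.ne'
  · rcases mul_eq_zero.mp e2 with h | h
    · exact pow_eq_zero_iff (two_ne_zero) |>.mp h
    · exact absurd h hi.ne'

theorem isSquare_of_mul_sq (N : ℕ) (X Y : ℤ) (hX : X ≠ 0) (h : (N : ℤ) * X ^ 2 = Y ^ 2) :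
    IsSquare N := by
  rw [← Rat.isSquare_natCast_iff]
  have hX' : (X : ℚ) ≠ 0 := by exact_mod_cast hX
  have h' : (N : ℚ) * (X : ℚ) ^ 2 = (Y : ℚ) ^ 2 := by exact_mod_cast h
  refine ⟨(Y : ℚ) / (X : ℚ), ?_⟩
  field_simp
  linarith

/-- the three relations force exactly one negative sign and a square product of the degrees. -/
theorem alg_sym (s₁ s₂ s₃ : ℤ) (d₁ d₂ d₃ : ℕ) (X₁ X₂ X₃ : ℤ)
    (hs1 : s₁ = 1 ∨ s₁ = -1) (hs2 : s₂ = 1 ∨ s₂ = -1) (hs3 : s₃ = 1 ∨ s₃ = -1)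
    (hd1 : 0 < d₁) (hd2 : 0 < d₂) (hd3 : 0 < d₃)
    (hX1 : X₁ ≠ 0) (hX2 : X₂ ≠ 0) (hX3 : X₃ ≠ 0)
    (hD : s₁ * d₁ + s₂ * d₂ + s₃ * d₃ = 1)
    (hL : s₁ * X₁ + s₂ * X₂ + s₃ * X₃ = 0)
    (hQ : s₁ * X₁ ^ 2 * ((d₂ : ℤ) * d₃) + s₂ * X₂ ^ 2 * ((d₁ : ℤ) * d₃) +
      s₃ * X₃ ^ 2 * ((d₁ : ℤ) * d₂) = 0) :
    ((s₁ = -1 ∧ s₂ = 1 ∧ s₃ = 1) ∨ (s₁ = 1 ∧ s₂ = -1 ∧ s₃ = 1) ∨ (s₁ = 1 ∧ s₂ = 1 ∧ s₃ = -1)) ∧
      IsSquare (d₁ * d₂ * d₃) := by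
  have p1 : (0 : ℤ) < d₁ := by exact_mod_cast hd1
  have p2 : (0 : ℤ) < d₂ := by exact_mod_cast hd2
  have p3 : (0 : ℤ) < d₃ := by exact_mod_cast hd3
  rcases hs1 with rfl | rfl <;> rcases hs2 with rfl | rfl <;> rcases hs3 with rfl | rfl
  · -- + + +
    exfalso
    have h1 : 0 < X₁ ^ 2 * ((d₂ : ℤ) * d₃) := mul_pos (by positivity) (mul_pos p2 p3)
    have h2 : 0 ≤ X₂ ^ 2 * ((d₁ : ℤ) * d₃) := mul_nonneg (sq_nonneg _) (mul_pos p1 p3).le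
    have h3 : 0 ≤ X₃ ^ 2 * ((d₁ : ℤ) * d₂) := mul_nonneg (sq_nonneg _) (mul_pos p1 p2).le
    linarith
  · -- + + -
    refine ⟨Or.inr (Or.inr ⟨rfl, rfl, rfl⟩), ?_⟩
    have hX : X₃ = X₁ + X₂ := by linarith
    have h := core_sq (d₁ : ℤ) d₂ d₃ X₁ X₂ (by linarith) (by rw [← hX]; linarith)
    apply isSquare_of_mul_sq _ X₂ _ hX2
    rw [← h]
    push_cast
    ring
  · -- + - +
    refine ⟨Or.inr (Or.inl ⟨rfl, rfl, rfl⟩), ?_⟩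
    have hX : X₂ = X₁ + X₃ := by linarith
    have h := core_sq (d₁ : ℤ) d₃ d₂ X₁ X₃ (by linarith) (by rw [← hX]; linarith)
    apply isSquare_of_mul_sq _ X₃ _ hX3
    rw [← h]
    push_cast
    ring
  · -- + - -
    exfalso
    have hX : X₁ = X₂ + X₃ := by linarith
    have h := core_cs (d₂ : ℤ) d₃ d₁ X₂ X₃ p2 p3 (by linarith) (by rw [← hX]; linarith)
    exact hX2 h.1
  · -- - + +
    refine ⟨Or.inl ⟨rfl, rfl, rfl⟩, ?_⟩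
    have hX : X₁ = X₂ + X₃ := by linarith
    have h := core_sq (d₂ : ℤ) d₃ d₁ X₂ X₃ (by linarith) (by rw [← hX]; linarith)
    apply isSquare_of_mul_sq _ X₃ _ hX3
    rw [← h]
    push_cast
    ring
  · -- - + -
    exfalso
    have hX : X₂ = X₁ + X₃ := by linarith
    have h := core_cs (d₁ : ℤ) d₃ d₂ X₁ X₃ p1 p3 (by linarith) (by rw [← hX]; linarith)
    exact hX1 h.1
  · -- - - +
    exfalso
    have hX : X₃ = X₁ + X₂ := by linarith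
    have h := core_cs (d₁ : ℤ) d₂ d₃ X₁ X₂ p1 p2 (by linarith) (by rw [← hX]; linarith)
    exact hX1 h.1
  · -- - - -
    exfalso
    linarith

end Cfsg.Agent.Lib.Helper7.BM
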