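import Mathlib
import Cfsg.Agent.Lib.Helper7.BL14
import Cfsg.Agent.Lib.Helper8.BA4

set_option autoImplicit false

/-!
# Brauer–Leonard for inertial index `3`: the class-sum relation for an involution
-/

namespace Cfsg.Agent.Lib.Helper7.BM

open Cfsg Subgroup
open Cfsg.Agent.Lib.Helper1 Cfsg.Agent.Lib.Helper4 Cfsg.Agent.Lib.Helper8
open Cfsg.Agent.Lib.Helper7.BL
open scoped ComplexConjugate Classical

universe u

section

variable {G : Type u} [Group G] [Fintype G] {M : Ideal AlgInt} {p : ℕ}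

/-- the class-sum relation: if no `p`-part of a product of two conjugates of the involution `t`
is conjugate to the `p`-element `u`, then the weighted sum vanishes. -/
theorem first_sum [Fact p.Prime] [Fintype (IrrCharacter G)] (hM : IsPModular p M) (t : G)
    (u : G) (hu : ∃ k : ℕ, orderOf u = p ^ k)
    (hnc : ∀ y z : G, IsPPart p (t * (y * t * y⁻¹)) z → ¬ IsConj z u) :
    ∑ χ : IrrCharacter G, (if χ ∈ principalBlock M G then (1 : ℂ) else 0) *
      (conj ((χ : G → ℂ) u) * ((χ : G → ℂ) t ^ 2 / (χ : G → ℂ) 1)) = 0 := by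
  have hp : p.Prime := Fact.out
  have hG : (Fintype.card G : ℂ) ≠ 0 := Nat.cast_ne_zero.2 Fintype.card_pos.ne'
  have h1 : ∀ χ : IrrCharacter G, (χ : G → ℂ) t ^ 2 / (χ : G → ℂ) 1 =
      (Fintype.card G : ℂ)⁻¹ * ∑ y : G, (χ : G → ℂ) (t * (y * t * y⁻¹)) := by
    intro χ
    rw [sum_irr_mul_conj χ.2 t t]
    field_simp
  simp only [h1]
  have h2 : ∀ χ : IrrCharacter G, (if χ ∈ principalBlock M G then (1 : ℂ) else 0) *
      (conj ((χ : G → ℂ) u) * ((Fintype.card G : ℂ)⁻¹ * ∑ y : G, (χ : G → ℂ) (t * (y * t * y⁻¹))))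
      = (Fintype.card G : ℂ)⁻¹ * ∑ y : G, (if χ ∈ principalBlock M G then (1 : ℂ) else 0) *
        (conj ((χ : G → ℂ) u) * (χ : G → ℂ) (t * (y * t * y⁻¹))) := by
    intro χ
    rw [Finset.mul_sum, Finset.mul_sum, Finset.mul_sum, Finset.mul_sum]
    refine Finset.sum_congr rfl fun y _ => ?_
    ring
  simp only [h2]
  rw [← Finset.mul_sum, Finset.sum_comm]
  have h3 : ∀ y : G, ∑ χ : IrrCharacter G, (if χ ∈ principalBlock M G then (1 : ℂ) else 0) *
      (conj ((χ : G → ℂ) u) * (χ : G → ℂ) (t * (y * t * y⁻¹))) = 0 := by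
    intro y
    obtain ⟨z, hz⟩ := exists_isPPart hp (t * (y * t * y⁻¹))
    have := prin_orth (p := p) hM hz hu (hnc y z hz)
    convert this
  simp only [h3]
  simp

end

section

variable {G : Type*} [Group G]

/-- the involution `t` inverts every power of `t * s` for an involution `s`. -/
theorem invol_conj_zpow (t s : G) (ht : t * t = 1) (hs : s * s = 1) (m : ℤ) :
    t * (t * s) ^ m * t⁻¹ = ((t * s) ^ m)⁻¹ := by
  have htinv : t⁻¹ = t := inv_eq_of_mul_eq_one_right ht
  have hsinv : s⁻¹ = s := inv_eq_of_mul_eq_one_right hs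
  have hg : t * (t * s) * t⁻¹ = (t * s)⁻¹ := by
    rw [mul_inv_rev, htinv, hsinv, ← mul_assoc, ht, one_mul]
  have : t * (t * s) ^ m * t⁻¹ = (t * (t * s) * t⁻¹) ^ m := by
    rw [← MulAut.conj_apply, map_zpow, MulAut.conj_apply]
  rw [this, hg, inv_zpow]

/-- `t * (t * s) ^ m` is conjugate to `t` or to `s`. -/
theorem invol_mul_zpow_conj (t s : G) (ht : t * t = 1) (hs : s * s = 1) (m : ℤ) :
    (∃ c : G, c * t * c⁻¹ = t * (t * s) ^ m) ∨ (∃ c : G, c * s * c⁻¹ = t * (t * s) ^ m) := by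
  have htinv : t⁻¹ = t := inv_eq_of_mul_eq_one_right ht
  have hcomm : ∀ k : ℤ, t * (t * s) ^ k = ((t * s) ^ k)⁻¹ * t := by
    intro k
    have h1 := invol_conj_zpow t s ht hs k
    calc t * (t * s) ^ k = (t * (t * s) ^ k * t⁻¹) * t := by group
      _ = ((t * s) ^ k)⁻¹ * t := by rw [h1]
  rcases Int.even_or_odd' m with ⟨k, hk | hk⟩
  · left
    refine ⟨((t * s) ^ k)⁻¹, ?_⟩
    rw [inv_inv, ← hcomm k, mul_assoc, ← zpow_add, hk, two_mul]
  · right
    refine ⟨((t * s) ^ k)⁻¹, ?_⟩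
    rw [inv_inv]
    have hts : t * (t * s) = s := by rw [← mul_assoc, ht, one_mul]
    have h2 : t * (t * s) ^ (2 * k + 1) = ((t * s) ^ k)⁻¹ * s * (t * s) ^ k := by
      calc t * (t * s) ^ (2 * k + 1) = t * (t * s) ^ k * ((t * s) * (t * s) ^ k) := by
            rw [mul_assoc, ← zpow_one_add, ← zpow_add]
            congr 2
            ring
        _ = ((t * s) ^ k)⁻¹ * (t * (t * s)) * (t * s) ^ k := by
            rw [hcomm k]
            simp only [mul_assoc]
        _ = ((t * s) ^ k)⁻¹ * s * (t * s) ^ k := by rw [hts]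
    rw [hk, h2]

end

section

variable {G : Type*} [Group G] [Finite G] {p : ℕ} {P : Sylow p G}

/-- no element of `P` other than an involution is inverted by an element of `G`. -/
theorem not_inverted [Fact p.Prime] (h : Hyp p P)
    (h3 : (Subgroup.centralizer ((P : Subgroup G) : Set G)).relIndex
      (Subgroup.normalizer ((P : Subgroup G) : Set G)) = 3)
    (u : G) (hu : u ∈ (P : Subgroup G)) (huu : u * u ≠ 1) (s : G) :
    s * u * s⁻¹ ≠ u⁻¹ := by
  intro hinv
  have hu1 : u ≠ 1 := by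
    intro h0
    apply huu
    rw [h0, mul_one]
  obtain ⟨n, hn, hnu⟩ := h.fusion u hu s (by
    rw [hinv]
    exact (P : Subgroup G).inv_mem hu)
  rw [hinv] at hnu
  -- `n ^ 2` centralizes `u`
  have hn2 : n ^ 2 ∈ Subgroup.centralizer ((P : Subgroup G) : Set G) := by
    rw [← h.hfrob u hu hu1]
    refine Subgroup.mem_inf.mpr ⟨?_, Subgroup.pow_mem _ hn 2⟩
    rw [Subgroup.mem_centralizer_singleton_iff]
    have h1 : n * u = u⁻¹ * n := by
      calc n * u = (n * u * n⁻¹) * n := by group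
        _ = u⁻¹ * n := by rw [hnu]
    have h2' : n * u⁻¹ * n⁻¹ = u := by
      have h0 : (n * u * n⁻¹)⁻¹ = (u⁻¹)⁻¹ := by rw [hnu]
      calc n * u⁻¹ * n⁻¹ = (n * u * n⁻¹)⁻¹ := by group
        _ = u := by rw [h0, inv_inv]
    have h2 : n * u⁻¹ = u * n := by
      calc n * u⁻¹ = (n * u⁻¹ * n⁻¹) * n := by group
        _ = u * n := by rw [h2']
    calc n ^ 2 * u = n * (n * u) := by rw [sq, mul_assoc]
      _ = n * (u⁻¹ * n) := by rw [h1]
      _ = (n * u⁻¹) * n := by rw [mul_assoc]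
      _ = u * n * n := by rw [h2]
      _ = u * n ^ 2 := by rw [sq, mul_assoc]
  set n' : ↥(Subgroup.normalizer ((P : Subgroup G) : Set G)) := ⟨n, hn⟩ with hn'
  have hidx : ((Subgroup.centralizer ((P : Subgroup G) : Set G)).subgroupOf
      (Subgroup.normalizer ((P : Subgroup G) : Set G))).index = 3 := h3
  have h3' := Subgroup.pow_index_mem ((Subgroup.centralizer ((P : Subgroup G) : Set G)).subgroupOf
      (Subgroup.normalizer ((P : Subgroup G) : Set G))) n'
  rw [hidx] at h3'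
  have h2' : n' ^ 2 ∈ (Subgroup.centralizer ((P : Subgroup G) : Set G)).subgroupOf
      (Subgroup.normalizer ((P : Subgroup G) : Set G)) := by
    rw [Subgroup.mem_subgroupOf]
    exact hn2
  have h1' : n' ∈ (Subgroup.centralizer ((P : Subgroup G) : Set G)).subgroupOf
      (Subgroup.normalizer ((P : Subgroup G) : Set G)) := by
    have : n' = n' ^ 3 * (n' ^ 2)⁻¹ := by group
    rw [this]
    exact Subgroup.mul_mem _ h3' (Subgroup.inv_mem _ h2')
  rw [Subgroup.mem_subgroupOf] at h1'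
  have hnC : n ∈ Subgroup.centralizer ((P : Subgroup G) : Set G) := h1'
  have h4 := Subgroup.mem_centralizer_iff.mp hnC u hu
  apply huu
  have : u = u⁻¹ := by
    rw [← hnu, ← h4]
    group
  calc u * u = u * u⁻¹ := by rw [← this]
    _ = 1 := mul_inv_cancel u

end

end Cfsg.Agent.Lib.Helper7.BM
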