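import Mathlib
import Cfsg.Agent.Lib.Helper7.BM2
import Cfsg.Agent.Lib.Helper7.BM4

set_option autoImplicit false

/-!
# Brauer–Leonard for inertial index `3`: the context and the basic relations
-/

namespace Cfsg.Agent.Lib.Helper7.BM

open Cfsg Subgroup
open Cfsg.Agent.Lib.Helper1 Cfsg.Agent.Lib.Helper4 Cfsg.Agent.Lib.Helper8
open Cfsg.Agent.Lib.Helper7.BL Cfsg.Agent.Lib.Helper7.BH
open scoped ComplexConjugate Classical

attribute [local instance] actHom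

variable {G : Type*} [Group G] [Fintype G] {p : ℕ} {P : Sylow p G}
variable {B : Finset (IrrCharacter G)} {M : Ideal AlgInt}

/-- the context: normalised data and the three non-exceptional characters. -/
structure Ctx (p : ℕ) (P : Sylow p G) (M : Ideal AlgInt) (B : Finset (IrrCharacter G))
    [Fintype (Idx (P : Subgroup G))] where
  h : Hyp p P
  hP1 : Nat.card P ≠ 1
  hM : IsPModular p M
  hB : (B : Set (IrrCharacter G)) = principalBlock M G
  D : Data P B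
  htriv : trivIrr G ∈ B
  h3 : (Subgroup.centralizer ((P : Subgroup G) : Set G)).relIndex
      (Subgroup.normalizer ((P : Subgroup G) : Set G)) = 3
  hd0 : ∀ i, D.w (D.f i) = 0
  χ₂ : IrrCharacter G
  χ₃ : IrrCharacter G
  hne23 : χ₂ ≠ χ₃
  hne2 : χ₂ ≠ trivIrr G
  hne3 : χ₃ ≠ trivIrr G
  hXeq : B \ Finset.univ.image D.f = {trivIrr G, χ₂, χ₃}
  hw2 : D.w χ₂ = 1 ∨ D.w χ₂ = -1
  hw3 : D.w χ₃ = 1 ∨ D.w χ₃ = -1

variable [Fintype (Idx (P : Subgroup G))]

namespace Ctx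

theorem mem2 (c : Ctx p P M B) : c.χ₂ ∈ B ∧ c.χ₂ ∉ Finset.univ.image c.D.f := by
  have : c.χ₂ ∈ B \ Finset.univ.image c.D.f := by rw [c.hXeq]; simp
  exact Finset.mem_sdiff.mp this

theorem mem3 (c : Ctx p P M B) : c.χ₃ ∈ B ∧ c.χ₃ ∉ Finset.univ.image c.D.f := by
  have : c.χ₃ ∈ B \ Finset.univ.image c.D.f := by rw [c.hXeq]; simp
  exact Finset.mem_sdiff.mp this

theorem memT (c : Ctx p P M B) : trivIrr G ∈ B ∧ trivIrr G ∉ Finset.univ.image c.D.f := by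
  have : trivIrr G ∈ B \ Finset.univ.image c.D.f := by rw [c.hXeq]; simp
  exact Finset.mem_sdiff.mp this

/-- splitting a sum over the block. -/
theorem sum_B (c : Ctx p P M B) (F : IrrCharacter G → ℂ) :
    ∑ χ ∈ B, F χ = F (trivIrr G) + F c.χ₂ + F c.χ₃ + ∑ i, F (c.D.f i) := by
  rw [← Finset.sum_sdiff c.D.image_subset, c.hXeq,
    Finset.sum_insert (by simp [c.hne2.symm, c.hne3.symm]),
    Finset.sum_insert (by simp [c.hne23]), Finset.sum_singleton,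
    Finset.sum_image (fun a _ b _ hab => c.D.hf hab)]
  ring

theorem w_triv (c : Ctx p P M B) [Nontrivial (Idx (P : Subgroup G))] : c.D.w (trivIrr G) = -1 :=
  BH.w_triv c.D c.htriv

/-- the relation on the `p`-regular elements. -/
theorem eqA (c : Ctx p P M B) [Fact p.Prime] [Nontrivial (Idx (P : Subgroup G))]
    (i : Idx (P : Subgroup G)) (g : G) (hg : ¬ p ∣ orderOf g) :
    -1 + (c.D.w c.χ₂ : ℂ) * (c.χ₂ : G → ℂ) g + (c.D.w c.χ₃ : ℂ) * (c.χ₃ : G → ℂ) g +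
      (c.D.e : ℂ) * (c.D.f i : G → ℂ) g = 0 := by
  have h1 := c.D.orth_split c.h c.hM c.hP1 c.hB i g hg
  rw [c.hXeq, c.hd0 i, Finset.sum_insert (by simp [c.hne2.symm, c.hne3.symm]),
    Finset.sum_insert (by simp [c.hne23]), Finset.sum_singleton, c.w_triv,
    trivIrr_apply] at h1
  rw [← h1]
  push_cast
  ring

/-- the sum of the exceptional characters at a non-identity element of `P`. -/
theorem sum_Y (c : Ctx p P M B) [Fintype (↥(P : Subgroup G) →* ℂˣ)] (y : ↥(P : Subgroup G)) (hy : y ≠ 1) :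
    ∑ i, (c.D.f i : G → ℂ) (y : G) = -(c.D.e : ℂ) := by
  have hcomm : ∀ a b : ↥(P : Subgroup G), a * b = b * a :=
    fun a b => Subtype.ext (c.h.hab a a.2 b b.2)
  have h1 : ∀ i, (c.D.f i : G → ℂ) (y : G) = (c.D.e : ℂ) *
      ∑ ψ : ↥(P : Subgroup G) →* ℂˣ,
        if (ψ ≠ 1 ∧ c.D.f i = c.D.zet ψ) then homFun ψ y else 0 := by
    intro i
    rw [c.D.value c.h (c.D.hfB i) y hy, c.hd0 i, Int.cast_zero, neg_zero, zero_add,
      Finset.sum_filter]
  rw [Finset.sum_congr rfl (fun i _ => h1 i), ← Finset.mul_sum, Finset.sum_comm]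
  have h2 : ∀ ψ : ↥(P : Subgroup G) →* ℂˣ,
      ∑ i, (if (ψ ≠ 1 ∧ c.D.f i = c.D.zet ψ) then homFun ψ y else 0) =
        homFun ψ y - (if ψ = 1 then 1 else 0) := by
    intro ψ
    by_cases hψ : ψ = 1
    · subst hψ
      rw [if_pos rfl]
      simp [homFun_apply]
    · rw [if_neg hψ, sub_zero, c.D.zet_of_ne hψ,
        Finset.sum_eq_single (idxOf (P : Subgroup G) ψ hψ)]
      · rw [if_pos ⟨hψ, rfl⟩]
      · intro i _ hi
        rw [if_neg]
        intro hh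
        exact hi (c.D.hf hh.2)
      · intro hn
        exact absurd (Finset.mem_univ _) hn
  rw [Finset.sum_congr rfl (fun ψ _ => h2 ψ), Finset.sum_sub_distrib, sum_hom_eq_zero hcomm hy,
    Finset.sum_ite_eq' Finset.univ (1 : ↥(P : Subgroup G) →* ℂˣ), if_pos (Finset.mem_univ _)]
  ring

theorem val2 (c : Ctx p P M B) [Fintype (↥(P : Subgroup G) →* ℂˣ)] (y : ↥(P : Subgroup G)) (hy : y ≠ 1) :
    (c.χ₂ : G → ℂ) (y : G) = -(c.D.w c.χ₂ : ℂ) :=
  X_val c.h c.D c.mem2.1 c.mem2.2 y hy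

theorem val3 (c : Ctx p P M B) [Fintype (↥(P : Subgroup G) →* ℂˣ)] (y : ↥(P : Subgroup G)) (hy : y ≠ 1) :
    (c.χ₃ : G → ℂ) (y : G) = -(c.D.w c.χ₃ : ℂ) :=
  X_val c.h c.D c.mem3.1 c.mem3.2 y hy

theorem B_eq_filter (c : Ctx p P M B) [Fintype (IrrCharacter G)] :
    B = Finset.univ.filter (fun χ => χ ∈ principalBlock M G) := by
  ext χ
  rw [Finset.mem_filter, ← c.hB, Finset.mem_coe]
  exact ⟨fun hh => ⟨Finset.mem_univ _, hh⟩, fun hh => hh.2⟩

/-- the class-sum relation in terms of the block. -/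
theorem T_rel (c : Ctx p P M B) [Fact p.Prime] (t : G) (y : ↥(P : Subgroup G))
    (hnc : ∀ x z : G, IsPPart p (t * (x * t * x⁻¹)) z → ¬ IsConj z (y : G)) :
    ∑ χ ∈ B, conj ((χ : G → ℂ) (y : G)) * ((χ : G → ℂ) t ^ 2 / (χ : G → ℂ) 1) = 0 := by
  haveI : Fintype (IrrCharacter G) := Fintype.ofFinite _
  have hu : ∃ k : ℕ, orderOf (y : G) = p ^ k := by
    obtain ⟨k, hk⟩ := P.isPGroup' y
    have h1 : (y : G) ^ p ^ k = 1 := by
      have := congrArg Subtype.val hk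
      simpa using this
    obtain ⟨j, _, hj⟩ := (Nat.dvd_prime_pow (Fact.out : p.Prime)).mp (orderOf_dvd_of_pow_eq_one h1)
    exact ⟨j, hj⟩
  have key := first_sum c.hM t (y : G) hu hnc
  rw [c.B_eq_filter, Finset.sum_filter]
  refine Eq.trans ?_ key
  refine Finset.sum_congr rfl fun χ _ => ?_
  by_cases hχ : χ ∈ principalBlock M G
  · rw [if_pos hχ, if_pos hχ, one_mul]
  · rw [if_neg hχ, if_neg hχ, zero_mul]

/-- the class-sum relation, split. -/
theorem T_split (c : Ctx p P M B) [Fact p.Prime] [Nontrivial (Idx (P : Subgroup G))]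
    [Fintype (↥(P : Subgroup G) →* ℂˣ)] (t : G) (y : ↥(P : Subgroup G)) (hy : y ≠ 1)
    (hnc : ∀ x z : G, IsPPart p (t * (x * t * x⁻¹)) z → ¬ IsConj z (y : G)) :
    1 - (c.D.w c.χ₂ : ℂ) * ((c.χ₂ : G → ℂ) t ^ 2 / (c.χ₂ : G → ℂ) 1)
      - (c.D.w c.χ₃ : ℂ) * ((c.χ₃ : G → ℂ) t ^ 2 / (c.χ₃ : G → ℂ) 1)
      + ∑ i, conj ((c.D.f i : G → ℂ) (y : G)) *
          ((c.D.f i : G → ℂ) t ^ 2 / (c.D.f i : G → ℂ) 1) = 0 := by
  have h1 := c.T_rel t y hnc
  rw [c.sum_B (fun χ => conj ((χ : G → ℂ) (y : G)) * ((χ : G → ℂ) t ^ 2 / (χ : G → ℂ) 1))] at h1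
  simp only [trivIrr_apply, c.val2 y hy, c.val3 y hy] at h1
  rw [← h1]
  simp only [map_neg, map_one, map_intCast]
  ring

end Ctx

end Cfsg.Agent.Lib.Helper7.BM
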