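import Mathlib
import Cfsg.Agent.Lib.Helper7.BM3
import Cfsg.Agent.Lib.Helper7.BM5
import Cfsg.Agent.Lib.Helper8.BA6
import Cfsg.Agent.Lib.Helper8.CharKernel
import Cfsg.Agent.Lib.Helper8.Deflation
import Cfsg.Agent.S0944

set_option autoImplicit false

/-!
# Brauer–Leonard for inertial index `3`: the case of an odd prime
-/

namespace Cfsg.Agent.Lib.Helper7.BM

open Cfsg Subgroup
open Cfsg.Agent.Lib.Helper1 Cfsg.Agent.Lib.Helper4 Cfsg.Agent.Lib.Helper8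
open Cfsg.Agent.Lib.Helper7.BL Cfsg.Agent.Lib.Helper7.BH
open scoped ComplexConjugate Classical

attribute [local instance] actHom

variable {G : Type*} [Group G] [Fintype G] {p : ℕ} {P : Sylow p G}
variable {B : Finset (IrrCharacter G)} {M : Ideal AlgInt}

/-- an element lying in no proper normal subgroup is not in the kernel of a non-principal
irreducible character. -/
theorem ne_deg_of_ne_triv (χ : IrrCharacter G) (hχ : χ ≠ trivIrr G) (t : G)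
    (hker : ∀ K : Subgroup G, K.Normal → t ∈ K → K = ⊤) :
    (χ : G → ℂ) t ≠ (χ : G → ℂ) 1 := by
  obtain ⟨K, hKn, hK⟩ := exists_normal_ker (isCharacter_of_irr χ.2)
  intro h
  have hKtop := hker K hKn ((hK t).mpr h)
  apply hχ
  apply eq_trivIrr_of_const
  intro g
  exact (hK g).mp (hKtop ▸ Subgroup.mem_top g)

variable [Fintype (Idx (P : Subgroup G))]

/-- for an odd prime, no `p`-part of a product of two involutions is conjugate to a non-identity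
element of `P`. -/
theorem hnc_odd (c : Ctx p P M B) [hp : Fact p.Prime] (hp2 : p ≠ 2) (t : G) (ht : orderOf t = 2)
    (y : ↥(P : Subgroup G)) (hy : y ≠ 1) :
    ∀ x z : G, IsPPart p (t * (x * t * x⁻¹)) z → ¬ IsConj z (y : G) := by
  intro x z hz hc
  have ht2 : t * t = 1 := by
    have := pow_orderOf_eq_one t
    rwa [ht, pow_two] at this
  have hs : (x * t * x⁻¹) * (x * t * x⁻¹) = 1 := by
    calc (x * t * x⁻¹) * (x * t * x⁻¹) = x * (t * t) * x⁻¹ := by group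
      _ = 1 := by rw [ht2]; group
  obtain ⟨m, hm⟩ := IsPPart.exists_zpow hp.out hz
  have hinvz : t * z * t⁻¹ = z⁻¹ := by
    rw [hm]
    exact invol_conj_zpow t _ ht2 hs m
  obtain ⟨cc, hcc⟩ := isConj_iff.mp hc
  have hyy : (y : G) * (y : G) ≠ 1 := by
    intro h0
    apply hy
    have h1 : orderOf (y : G) ∣ 2 := orderOf_dvd_of_pow_eq_one (by rw [pow_two]; exact h0)
    obtain ⟨k, hk⟩ := P.isPGroup' y
    have h2 : (y : G) ^ p ^ k = 1 := by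
      have := congrArg Subtype.val hk
      simpa using this
    have h3 : orderOf (y : G) ∣ p ^ k := orderOf_dvd_of_pow_eq_one h2
    have hcop : Nat.Coprime 2 (p ^ k) := by
      apply Nat.Coprime.pow_right
      rw [Nat.coprime_primes Nat.prime_two hp.out]
      exact fun hh => hp2 hh.symm
    have h4 : orderOf (y : G) ∣ 1 := by
      have := Nat.dvd_gcd h1 h3
      rwa [hcop] at this
    have h5 : (y : G) = 1 := orderOf_eq_one_iff.mp (Nat.dvd_one.mp h4)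
    exact Subtype.ext h5
  apply not_inverted c.h c.h3 (y : G) y.2 hyy (cc * t * cc⁻¹)
  rw [← hcc]
  calc cc * t * cc⁻¹ * (cc * z * cc⁻¹) * (cc * t * cc⁻¹)⁻¹ = cc * (t * z * t⁻¹) * cc⁻¹ := by group
    _ = (cc * z * cc⁻¹)⁻¹ := by rw [hinvz]; group

/-- the case of an odd prime. -/
theorem caseA (c : Ctx p P M B) [hp : Fact p.Prime] [Nontrivial (Idx (P : Subgroup G))]
    [Fintype (↥(P : Subgroup G) →* ℂˣ)] (hp2 : p ≠ 2) (t : G) (ht : orderOf t = 2)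
    (hker : ∀ K : Subgroup G, K.Normal → t ∈ K → K = ⊤) :
    ((c.D.w c.χ₂ = -1 ∧ c.D.w c.χ₃ = 1 ∧ c.D.e = 1) ∨
      (c.D.w c.χ₂ = 1 ∧ c.D.w c.χ₃ = -1 ∧ c.D.e = 1) ∨
      (c.D.w c.χ₂ = 1 ∧ c.D.w c.χ₃ = 1 ∧ c.D.e = -1)) ∧
    ∀ i, IsSquare (charDegree (c.χ₂ : G → ℂ) * charDegree (c.χ₃ : G → ℂ) *
      charDegree (c.D.f i : G → ℂ)) := by
  obtain ⟨i₀⟩ : Nonempty (Idx (P : Subgroup G)) := inferInstance
  obtain ⟨y₀, hy₀⟩ : ∃ y : ↥(P : Subgroup G), y ≠ 1 := by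
    by_contra hne
    push Not at hne
    apply c.hP1
    haveI : Subsingleton ↥(P : Subgroup G) := ⟨fun a b => by rw [hne a, hne b]⟩
    exact Nat.card_unique
  have hreg1 : ¬ p ∣ orderOf (1 : G) := by
    rw [orderOf_one]
    exact hp.out.one_lt.ne' ∘ Nat.dvd_one.mp
  have hregt : ¬ p ∣ orderOf t := by
    rw [ht]
    intro hd
    exact hp2 ((Nat.prime_dvd_prime_iff_eq hp.out Nat.prime_two).mp hd)
  -- degrees and values
  obtain ⟨hdeg2, hpos2⟩ := irr_apply_one_eq_charDegree c.χ₂.2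
  obtain ⟨hdeg3, hpos3⟩ := irr_apply_one_eq_charDegree c.χ₃.2
  obtain ⟨n2, hn2, -⟩ := Cfsg.Agent.S0944.result c.χ₂ t ht
  obtain ⟨n3, hn3, -⟩ := Cfsg.Agent.S0944.result c.χ₃ t ht
  have hsq : ∀ i, ((c.D.w c.χ₂ = -1 ∧ c.D.w c.χ₃ = 1 ∧ c.D.e = 1) ∨
      (c.D.w c.χ₂ = 1 ∧ c.D.w c.χ₃ = -1 ∧ c.D.e = 1) ∨
      (c.D.w c.χ₂ = 1 ∧ c.D.w c.χ₃ = 1 ∧ c.D.e = -1)) ∧
      IsSquare (charDegree (c.χ₂ : G → ℂ) * charDegree (c.χ₃ : G → ℂ) *
        charDegree (c.D.f i : G → ℂ)) := by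
    intro i
    obtain ⟨hdegf, hposf⟩ := irr_apply_one_eq_charDegree (c.D.f i).2
    obtain ⟨nf, hnf, -⟩ := Cfsg.Agent.S0944.result (c.D.f i) t ht
    set f₂ := charDegree (c.χ₂ : G → ℂ) with hf2
    set f₃ := charDegree (c.χ₃ : G → ℂ) with hf3
    set f := charDegree (c.D.f i : G → ℂ) with hf
    have hE3 := c.eqA i 1 hreg1
    have hE2 := c.eqA i t hregt
    have hT := c.T_split t y₀ hy₀ (hnc_odd c hp2 t ht y₀ hy₀)
    have hY : ∑ j, conj ((c.D.f j : G → ℂ) (y₀ : G)) *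
        ((c.D.f j : G → ℂ) t ^ 2 / (c.D.f j : G → ℂ) 1) =
        -(c.D.e : ℂ) * ((c.D.f i : G → ℂ) t ^ 2 / (c.D.f i : G → ℂ) 1) := by
      have h1 : ∀ j ∈ (Finset.univ : Finset (Idx (P : Subgroup G))),
          conj ((c.D.f j : G → ℂ) (y₀ : G)) * ((c.D.f j : G → ℂ) t ^ 2 / (c.D.f j : G → ℂ) 1) =
          conj ((c.D.f j : G → ℂ) (y₀ : G)) *
            ((c.D.f i : G → ℂ) t ^ 2 / (c.D.f i : G → ℂ) 1) := by
        intro j _
        rw [c.D.agree c.h c.hM c.hB j i t hregt, c.D.agree c.h c.hM c.hB j i 1 hreg1]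
      rw [Finset.sum_congr rfl h1, ← Finset.sum_mul, ← map_sum, c.sum_Y y₀ hy₀, map_neg,
        map_intCast]
    rw [hY] at hT
    rw [hdeg2, hdeg3, hdegf] at hE3
    rw [hn2, hn3, hnf] at hE2
    rw [hn2, hn3, hnf, hdeg2, hdeg3, hdegf] at hT
    have hf2' : (f₂ : ℂ) ≠ 0 := Nat.cast_ne_zero.mpr hpos2.ne'
    have hf3' : (f₃ : ℂ) ≠ 0 := Nat.cast_ne_zero.mpr hpos3.ne'
    have hf' : (f : ℂ) ≠ 0 := Nat.cast_ne_zero.mpr hposf.ne'
    have hE3' : c.D.w c.χ₂ * (f₂ : ℤ) + c.D.w c.χ₃ * (f₃ : ℤ) + c.D.e * (f : ℤ) = 1 := by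
      have : ((c.D.w c.χ₂ * (f₂ : ℤ) + c.D.w c.χ₃ * (f₃ : ℤ) + c.D.e * (f : ℤ) : ℤ) : ℂ) =
          ((1 : ℤ) : ℂ) := by
        push_cast
        linear_combination hE3
      exact_mod_cast this
    have hE2' : c.D.w c.χ₂ * n2 + c.D.w c.χ₃ * n3 + c.D.e * nf = 1 := by
      have : ((c.D.w c.χ₂ * n2 + c.D.w c.χ₃ * n3 + c.D.e * nf : ℤ) : ℂ) = ((1 : ℤ) : ℂ) := by
        push_cast
        linear_combination hE2
      exact_mod_cast this
    have hE1' : c.D.w c.χ₂ * n2 ^ 2 * ((f₃ : ℤ) * f) + c.D.w c.χ₃ * n3 ^ 2 * ((f₂ : ℤ) * f) +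
        c.D.e * nf ^ 2 * ((f₂ : ℤ) * f₃) = (f₂ : ℤ) * f₃ * f := by
      have : ((c.D.w c.χ₂ * n2 ^ 2 * ((f₃ : ℤ) * f) + c.D.w c.χ₃ * n3 ^ 2 * ((f₂ : ℤ) * f) +
          c.D.e * nf ^ 2 * ((f₂ : ℤ) * f₃) : ℤ) : ℂ) = (((f₂ : ℤ) * f₃ * f : ℤ) : ℂ) := by
        push_cast
        have h1 : (1 - (c.D.w c.χ₂ : ℂ) * ((n2 : ℂ) ^ 2 / (f₂ : ℂ)) -
            (c.D.w c.χ₃ : ℂ) * ((n3 : ℂ) ^ 2 / (f₃ : ℂ)) +
            -(c.D.e : ℂ) * ((nf : ℂ) ^ 2 / (f : ℂ))) * ((f₂ : ℂ) * f₃ * f) = 0 := by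
          rw [hT, zero_mul]
        field_simp at h1
        linear_combination -h1
      exact_mod_cast this
    have hX2 : n2 - (f₂ : ℤ) ≠ 0 := by
      intro h0
      apply ne_deg_of_ne_triv c.χ₂ c.hne2 t hker
      rw [hn2, hdeg2]
      have : n2 = (f₂ : ℤ) := by linarith
      rw [this]
      push_cast
      rfl
    have hX3 : n3 - (f₃ : ℤ) ≠ 0 := by
      intro h0
      apply ne_deg_of_ne_triv c.χ₃ c.hne3 t hker
      rw [hn3, hdeg3]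
      have : n3 = (f₃ : ℤ) := by linarith
      rw [this]
      push_cast
      rfl
    have hXf : nf - (f : ℤ) ≠ 0 := by
      intro h0
      apply ne_deg_of_ne_triv (c.D.f i) (c.D.triv_not_mem c.htriv i) t hker
      rw [hnf, hdegf]
      have : nf = (f : ℤ) := by linarith
      rw [this]
      push_cast
      rfl
    exact alg_sym (c.D.w c.χ₂) (c.D.w c.χ₃) c.D.e f₂ f₃ f (n2 - f₂) (n3 - f₃) (nf - f)
      c.hw2 c.hw3 c.D.he hpos2 hpos3 hposf hX2 hX3 hXf hE3' (by linarith)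
      (by linear_combination hE1' - 2 * ((f₂ : ℤ) * f₃ * f) * hE2' + ((f₂ : ℤ) * f₃ * f) * hE3')
  exact ⟨(hsq i₀).1, fun i => (hsq i).2⟩

end Cfsg.Agent.Lib.Helper7.BM
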