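import Mathlib
import Cfsg.Agent.Lib.Helper7.BM5
import Cfsg.Agent.Lib.Helper7.BH4

set_option autoImplicit false

/-!
# Brauer–Leonard for inertial index `3`: group theory for an elementary abelian Sylow `2`-subgroup
-/

namespace Cfsg.Agent.Lib.Helper7.BM

open Cfsg Subgroup
open Cfsg.Agent.Lib.Helper1 Cfsg.Agent.Lib.Helper4 Cfsg.Agent.Lib.Helper8
open Cfsg.Agent.Lib.Helper7.BL Cfsg.Agent.Lib.Helper7.BH
open scoped ComplexConjugate Classical

/-- a `p`-subgroup is conjugate into a given Sylow `p`-subgroup. -/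
theorem exists_conj_le_sylow {G : Type*} [Group G] [Finite G] {p : ℕ} [Fact p.Prime]
    (P : Sylow p G) (K : Subgroup G) (hK : IsPGroup p K) :
    ∃ g : G, ∀ s ∈ K, g * s * g⁻¹ ∈ (P : Subgroup G) := by
  obtain ⟨Q, hQ⟩ := hK.exists_le_sylow
  obtain ⟨g, hg⟩ := MulAction.exists_smul_eq G Q P
  refine ⟨g, fun s hs => ?_⟩
  rw [← hg, Sylow.coe_subgroup_smul, Subgroup.mem_smul_pointwise_iff_exists]
  exact ⟨s, hQ hs, rfl⟩

/-- two commuting involutions generate a `2`-group. -/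
theorem isPGroup_two_invol {G : Type*} [Group G] (t z : G) (ht : orderOf t = 2)
    (hz : orderOf z = 2) (htz : t * z = z * t) :
    IsPGroup 2 (Subgroup.zpowers t ⊔ Subgroup.zpowers z : Subgroup G) := by
  have h1 : IsPGroup 2 (Subgroup.zpowers t) := by
    apply IsPGroup.of_card (n := 1)
    rw [Nat.card_zpowers, ht, pow_one]
  have h2 : IsPGroup 2 (Subgroup.zpowers z) := by
    apply IsPGroup.of_card (n := 1)
    rw [Nat.card_zpowers, hz, pow_one]
  apply IsPGroup.to_sup_of_normal_right' h1 h2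
  rw [Subgroup.zpowers_le]
  apply Subgroup.centralizer_le_normalizer
  rw [Subgroup.mem_centralizer_iff]
  intro a ha
  obtain ⟨k, rfl⟩ := Subgroup.mem_zpowers_iff.mp ha
  exact ((Commute.zpow_left (show Commute z t from htz.symm) k)).eq

variable {G : Type*} [Group G] [Finite G] {P : Sylow 2 G}

/-- in the elementary abelian case, the `2`-part of a product of two conjugates of the involution
`t` of `P` is trivial or conjugate to `t`. -/
theorem hnc_elem [Fact (Nat.Prime 2)] (h : Hyp 2 P)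
    (h3 : (Subgroup.centralizer ((P : Subgroup G) : Set G)).relIndex
      (Subgroup.normalizer ((P : Subgroup G) : Set G)) = 3)
    (hel : ∀ y ∈ (P : Subgroup G), y * y = 1) (t : G) (htP : t ∈ (P : Subgroup G)) (ht1 : t ≠ 1)
    (u : G) (hu1 : u ≠ 1) (hut : ¬ IsConj u t) :
    ∀ x z : G, IsPPart 2 (t * (x * t * x⁻¹)) z → ¬ IsConj z u := by
  intro x z hz hc
  have ht2 : t * t = 1 := hel t htP
  have hs : (x * t * x⁻¹) * (x * t * x⁻¹) = 1 := by
    calc (x * t * x⁻¹) * (x * t * x⁻¹) = x * (t * t) * x⁻¹ := by group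
      _ = 1 := by rw [ht2]; group
  obtain ⟨m, hm⟩ := IsPPart.exists_zpow Nat.prime_two hz
  have hinvz : t * z * t⁻¹ = z⁻¹ := by
    rw [hm]
    exact invol_conj_zpow t _ ht2 hs m
  obtain ⟨cc, hcc⟩ := isConj_iff.mp hc
  -- `z` is conjugate into `P`
  have hzk : ∃ k : ℕ, orderOf z = 2 ^ k := by
    obtain ⟨_, _, _, hk, _⟩ := hz
    exact hk
  obtain ⟨g₀, hg₀⟩ := exists_conj_mem_sylow P (s := z) hzk
  have hz2 : z * z = 1 := by
    have h1 := hel _ hg₀
    calc z * z = g₀⁻¹ * ((g₀ * z * g₀⁻¹) * (g₀ * z * g₀⁻¹)) * g₀ := by group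
      _ = 1 := by rw [h1]; group
  have hz1 : z ≠ 1 := by
    intro h0
    apply hu1
    rw [← hcc, h0]
    group
  have hzinv : z⁻¹ = z := inv_eq_of_mul_eq_one_right hz2
  have htz : t * z = z * t := by
    calc t * z = (t * z * t⁻¹) * t := by group
      _ = z * t := by rw [hinvz, hzinv]
  have hot : orderOf t = 2 := orderOf_eq_prime (by rw [pow_two]; exact ht2) ht1
  have hoz : orderOf z = 2 := orderOf_eq_prime (by rw [pow_two]; exact hz2) hz1
  -- `t * z` is conjugate to `t`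
  obtain ⟨c₁, hc₁⟩ : ∃ c₁ : G, c₁ * t * c₁⁻¹ = t * z := by
    rcases invol_mul_zpow_conj t (x * t * x⁻¹) ht2 hs m with ⟨c, hc'⟩ | ⟨c, hc'⟩
    · exact ⟨c, by rw [hc', hm]⟩
    · refine ⟨c * x, ?_⟩
      rw [hm, ← hc']
      group
  -- conjugate the four-group into `P`
  obtain ⟨g, hg⟩ := exists_conj_le_sylow P _ (isPGroup_two_invol t z hot hoz htz)
  have haP : g * t * g⁻¹ ∈ (P : Subgroup G) :=
    hg t (Subgroup.mem_sup_left (Subgroup.mem_zpowers t))
  have hzP : g * z * g⁻¹ ∈ (P : Subgroup G) :=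
    hg z (Subgroup.mem_sup_right (Subgroup.mem_zpowers z))
  obtain ⟨a, ha⟩ : ∃ a : G, a = g * t * g⁻¹ := ⟨_, rfl⟩
  obtain ⟨z', hz'⟩ : ∃ z' : G, z' = g * z * g⁻¹ := ⟨_, rfl⟩
  obtain ⟨b, hb⟩ : ∃ b : G, b = a * z' := ⟨_, rfl⟩
  rw [← ha] at haP
  rw [← hz'] at hzP
  have hbP : b ∈ (P : Subgroup G) := by
    rw [hb]
    exact (P : Subgroup G).mul_mem haP hzP
  have hb' : b = (g * c₁) * t * (g * c₁)⁻¹ := by
    rw [hb, ha, hz']
    calc g * t * g⁻¹ * (g * z * g⁻¹) = g * (t * z) * g⁻¹ := by group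
      _ = g * (c₁ * t * c₁⁻¹) * g⁻¹ := by rw [hc₁]
      _ = (g * c₁) * t * (g * c₁)⁻¹ := by group
  obtain ⟨n₁, hn₁, hn₁a⟩ := h.fusion t htP g (by rw [← ha]; exact haP)
  obtain ⟨n₂, hn₂, hn₂b⟩ := h.fusion t htP (g * c₁) (by rw [← hb']; exact hbP)
  rw [← hb'] at hn₂b
  rw [← ha] at hn₁a
  obtain ⟨m', hm'⟩ : ∃ m' : G, m' = n₂ * n₁⁻¹ := ⟨_, rfl⟩
  have hm'N : m' ∈ Subgroup.normalizer ((P : Subgroup G) : Set G) := by
    rw [hm']
    exact Subgroup.mul_mem _ hn₂ (Subgroup.inv_mem _ hn₁)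
  have hmab : m' * a * m'⁻¹ = b := by
    rw [← hn₂b, ← hn₁a, hm']
    group
  obtain ⟨cth, hcth⟩ : ∃ cth : G, cth = m' * b * m'⁻¹ := ⟨_, rfl⟩
  have hcthP : cth ∈ (P : Subgroup G) := by
    have := (Subgroup.mem_normalizer_iff.mp hm'N b).mp hbP
    rw [hcth]
    exact this
  -- `m' ^ 3` centralizes `P`
  have hm3 : m' ^ 3 ∈ Subgroup.centralizer ((P : Subgroup G) : Set G) := by
    set n' : ↥(Subgroup.normalizer ((P : Subgroup G) : Set G)) := ⟨m', hm'N⟩ with hn'
    have hidx : ((Subgroup.centralizer ((P : Subgroup G) : Set G)).subgroupOf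
        (Subgroup.normalizer ((P : Subgroup G) : Set G))).index = 3 := h3
    have h3' := Subgroup.pow_index_mem
      ((Subgroup.centralizer ((P : Subgroup G) : Set G)).subgroupOf
        (Subgroup.normalizer ((P : Subgroup G) : Set G))) n'
    rw [hidx, Subgroup.mem_subgroupOf] at h3'
    exact h3'
  have hm3a : m' ^ 3 * a * (m' ^ 3)⁻¹ = a := by
    have := Subgroup.mem_centralizer_iff.mp hm3 a haP
    calc m' ^ 3 * a * (m' ^ 3)⁻¹ = (m' ^ 3 * a) * (m' ^ 3)⁻¹ := rfl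
      _ = (a * m' ^ 3) * (m' ^ 3)⁻¹ := by rw [this]
      _ = a := by group
  have hmc : m' * cth * m'⁻¹ = a := by
    calc m' * cth * m'⁻¹ = m' ^ 3 * a * (m' ^ 3)⁻¹ := by
          rw [hcth, ← hmab]
          simp only [pow_succ, pow_zero, one_mul, mul_inv_rev, mul_assoc]
      _ = a := hm3a
  -- the product of the three is trivial
  obtain ⟨w, hw⟩ : ∃ w : G, w = a * b * cth := ⟨_, rfl⟩
  have hwP : w ∈ (P : Subgroup G) := by
    rw [hw]
    exact (P : Subgroup G).mul_mem ((P : Subgroup G).mul_mem haP hbP) hcthP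
  have hmw : m' * w * m'⁻¹ = w := by
    have : m' * w * m'⁻¹ = (m' * a * m'⁻¹) * (m' * b * m'⁻¹) * (m' * cth * m'⁻¹) := by
      rw [hw]; group
    rw [this, hmab, ← hcth, hmc, hw,
      h.hab (b * cth) ((P : Subgroup G).mul_mem hbP hcthP) a haP, mul_assoc]
  have hw1 : w = 1 := by
    by_contra hw1
    have hmC : m' ∈ Subgroup.centralizer ((P : Subgroup G) : Set G) := by
      rw [← h.hfrob w hwP hw1]
      refine Subgroup.mem_inf.mpr ⟨?_, hm'N⟩
      rw [Subgroup.mem_centralizer_singleton_iff]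
      calc m' * w = (m' * w * m'⁻¹) * m' := by group
        _ = w * m' := by rw [hmw]
    have hab : b = a := by
      rw [← hmab]
      have := Subgroup.mem_centralizer_iff.mp hmC a haP
      calc m' * a * m'⁻¹ = (m' * a) * m'⁻¹ := rfl
        _ = (a * m') * m'⁻¹ := by rw [this]
        _ = a := by group
    apply hz1
    have hz'1 : z' = 1 := by
      have : a * z' = a := by rw [← hb]; exact hab
      calc z' = a⁻¹ * (a * z') := by group
        _ = 1 := by rw [this]; group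
    calc z = g⁻¹ * z' * g := by rw [hz']; group
      _ = 1 := by rw [hz'1]; group
  -- hence `z'` is conjugate to `t`
  have haa : a * a = 1 := hel a haP
  have hcc2 : cth * cth = 1 := hel cth hcthP
  have hz'c : z' = cth := by
    have h1 : a * b = z' := by
      rw [hb, ← mul_assoc, haa, one_mul]
    have h2 : z' * cth = 1 := by
      rw [← h1, ← hw, hw1]
    calc z' = z' * (cth * cth) := by rw [hcc2, mul_one]
      _ = (z' * cth) * cth := by group
      _ = cth := by rw [h2, one_mul]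
  apply hut
  rw [isConj_iff]
  -- `u = cc z cc⁻¹`, `z = g⁻¹ z' g`, `z' = m' b m'⁻¹`, `b = n₂ t n₂⁻¹`
  refine ⟨(cc * g⁻¹ * m' * n₂)⁻¹, ?_⟩
  rw [← hcc]
  have : z = g⁻¹ * (m' * (n₂ * t * n₂⁻¹) * m'⁻¹) * g := by
    rw [hn₂b, ← hcth, ← hz'c, hz']
    group
  rw [this]
  group

end Cfsg.Agent.Lib.Helper7.BM
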