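import Mathlib
import Cfsg.Agent.Lib.Helper7.BM7
import Cfsg.Agent.Lib.Helper7.BH2

set_option autoImplicit false

/-!
# Brauer–Leonard for inertial index `3`: the elementary abelian Sylow `2`-subgroup
-/

namespace Cfsg.Agent.Lib.Helper7.BM

open Cfsg Subgroup
open Cfsg.Agent.Lib.Helper1 Cfsg.Agent.Lib.Helper4 Cfsg.Agent.Lib.Helper8
open Cfsg.Agent.Lib.Helper7.BL Cfsg.Agent.Lib.Helper7.BH
open scoped ComplexConjugate Classical

attribute [local instance] actHom

variable {G : Type*} [Group G] [Fintype G] {P : Sylow 2 G}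
variable {B : Finset (IrrCharacter G)} {M : Ideal AlgInt}
variable [Fintype (Idx (P : Subgroup G))] [Fintype (↥(P : Subgroup G) →* ℂˣ)]

namespace Ctx

/-- the orbit of linear characters belonging to `i`. -/
noncomputable def F (c : Ctx 2 P M B) (i : Idx (P : Subgroup G)) :
    Finset (↥(P : Subgroup G) →* ℂˣ) :=
  Finset.univ.filter (fun ψ' => ψ' ≠ 1 ∧ c.D.f i = c.D.zet ψ')

theorem F_card (c : Ctx 2 P M B) (i : Idx (P : Subgroup G)) : (c.F i).card = 3 := by
  have h1 := card_filter c.h c.D (rep_ne_one (P : Subgroup G) i)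
  rw [c.D.zet_rep, c.h3] at h1
  exact h1

theorem rep_mem_F (c : Ctx 2 P M B) (i : Idx (P : Subgroup G)) :
    rep (P : Subgroup G) i ∈ c.F i := by
  unfold F
  rw [Finset.mem_filter]
  exact ⟨Finset.mem_univ _, rep_ne_one _ i, (c.D.zet_rep i).symm⟩

theorem F_stable (c : Ctx 2 P M B) (i : Idx (P : Subgroup G))
    (n : ↥(Subgroup.normalizer ((P : Subgroup G) : Set G))) {ψ' : ↥(P : Subgroup G) →* ℂˣ}
    (hψ' : ψ' ∈ c.F i) : n • ψ' ∈ c.F i := by
  unfold F at hψ' ⊢
  rw [Finset.mem_filter] at hψ' ⊢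
  exact ⟨Finset.mem_univ _, smul_ne_one _ hψ'.2.1 n, by rw [c.D.zet_smul hψ'.2.1 n]; exact hψ'.2.2⟩

/-- the product of the characters of an orbit is trivial. -/
theorem prod_F (c : Ctx 2 P M B) (i : Idx (P : Subgroup G)) : ∏ ψ' ∈ c.F i, ψ' = 1 := by
  by_contra hne
  have hfix : ∀ n : ↥(Subgroup.normalizer ((P : Subgroup G) : Set G)),
      n • (∏ ψ' ∈ c.F i, ψ') = ∏ ψ' ∈ c.F i, ψ' := by
    intro n
    ext w
    rw [actHom_apply, MonoidHom.finset_prod_apply, MonoidHom.finset_prod_apply]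
    congr 1
    refine Finset.prod_equiv (MulAction.toPerm n) ?_ ?_
    · intro ψ'
      constructor
      · intro hψ'
        exact c.F_stable i n hψ'
      · intro hψ'
        have := c.F_stable i n⁻¹ hψ'
        rwa [MulAction.toPerm_apply, inv_smul_smul] at this
    · intro ψ' _
      rfl
  have hall : ∀ n : ↥(Subgroup.normalizer ((P : Subgroup G) : Set G)),
      (n : G) ∈ Subgroup.centralizer ((P : Subgroup G) : Set G) := fun n => c.h.stab hne n (hfix n)
  have h1 : (Subgroup.centralizer ((P : Subgroup G) : Set G)).relIndex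
      (Subgroup.normalizer ((P : Subgroup G) : Set G)) = 1 :=
    Subgroup.relIndex_eq_one.mpr (fun n hn => hall ⟨n, hn⟩)
  rw [c.h3] at h1
  norm_num at h1

theorem value_F (c : Ctx 2 P M B) (i : Idx (P : Subgroup G)) (y : ↥(P : Subgroup G))
    (hy : y ≠ 1) :
    (c.D.f i : G → ℂ) (y : G) = (c.D.e : ℂ) * ∑ ψ' ∈ c.F i, homFun ψ' y := by
  rw [c.D.value c.h (c.D.hfB i) y hy, c.hd0 i, Int.cast_zero, neg_zero, zero_add]
  rfl

theorem e_sq (c : Ctx 2 P M B) : (c.D.e : ℂ) * (c.D.e : ℂ) = 1 := by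
  have := c.D.e_sq
  have h' : ((c.D.e * c.D.e : ℤ) : ℂ) = 1 := by rw [this]; norm_num
  push_cast at h'
  exact h'

theorem val_sq (hel : ∀ y ∈ (P : Subgroup G), y * y = 1) (ψ' : ↥(P : Subgroup G) →* ℂˣ)
    (y : ↥(P : Subgroup G)) : homFun ψ' y * homFun ψ' y = 1 := by
  rw [homFun_apply, ← Units.val_mul, ← map_mul]
  have : y * y = 1 := Subtype.ext (hel y y.2)
  rw [this, map_one, Units.val_one]

/-- the exceptional characters satisfy a quadratic equation on `P`. -/
theorem f_sq (c : Ctx 2 P M B) (hel : ∀ y ∈ (P : Subgroup G), y * y = 1)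
    (i : Idx (P : Subgroup G)) (y : ↥(P : Subgroup G)) (hy : y ≠ 1) :
    (c.D.f i : G → ℂ) (y : G) ^ 2 = 3 + 2 * (c.D.e : ℂ) * (c.D.f i : G → ℂ) (y : G) := by
  obtain ⟨α, β, γ, hαβ, hαγ, hβγ, hF⟩ := Finset.card_eq_three.mp (c.F_card i)
  have hprod := c.prod_F i
  rw [hF, Finset.prod_insert (by simp [hαβ, hαγ]), Finset.prod_insert (by simp [hβγ]),
    Finset.prod_singleton] at hprod
  rw [c.value_F i y hy, hF, Finset.sum_insert (by simp [hαβ, hαγ]),
    Finset.sum_insert (by simp [hβγ]), Finset.sum_singleton]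
  have h1 := val_sq hel α y
  have h2 := val_sq hel β y
  have h3 := val_sq hel γ y
  have h4 : homFun α y * (homFun β y * homFun γ y) = 1 := by
    have := DFunLike.congr_fun hprod y
    rw [MonoidHom.mul_apply, MonoidHom.mul_apply, MonoidHom.one_apply] at this
    rw [homFun_apply, homFun_apply, homFun_apply, ← Units.val_mul, ← Units.val_mul, this,
      Units.val_one]
  have he := c.e_sq
  generalize homFun α y = a at *
  generalize homFun β y = b at *
  generalize homFun γ y = g at *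
  generalize (c.D.e : ℂ) = e at *
  linear_combination ((a + (b + g)) ^ 2 - 2 * (a + (b + g))) * he + (1 - 2 * b * g) * h1 +
    (1 - 2 * a * g) * h2 + (1 - 2 * a * b) * h3 + 2 * (a + b + g) * h4

theorem f_cases (c : Ctx 2 P M B) (hel : ∀ y ∈ (P : Subgroup G), y * y = 1)
    (i : Idx (P : Subgroup G)) (y : ↥(P : Subgroup G)) (hy : y ≠ 1) :
    (c.D.f i : G → ℂ) (y : G) = 3 * (c.D.e : ℂ) ∨ (c.D.f i : G → ℂ) (y : G) = -(c.D.e : ℂ) := by
  have h1 := c.f_sq hel i y hy
  have he := c.e_sq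
  have h2 : ((c.D.f i : G → ℂ) (y : G) - 3 * (c.D.e : ℂ)) *
      ((c.D.f i : G → ℂ) (y : G) + (c.D.e : ℂ)) = 0 := by
    linear_combination h1 - 3 * he
  rcases mul_eq_zero.mp h2 with h | h
  · left; linear_combination h
  · right; linear_combination h

/-- some exceptional character takes the value `3 e` at `t`. -/
theorem exists_three (c : Ctx 2 P M B) [Nontrivial (Idx (P : Subgroup G))]
    (hel : ∀ y ∈ (P : Subgroup G), y * y = 1) (t : ↥(P : Subgroup G)) (ht : t ≠ 1) :
    ∃ i, (c.D.f i : G → ℂ) (t : G) = 3 * (c.D.e : ℂ) := by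
  by_contra hne
  push Not at hne
  have h1 : ∀ i ∈ (Finset.univ : Finset (Idx (P : Subgroup G))),
      (c.D.f i : G → ℂ) (t : G) = -(c.D.e : ℂ) := by
    intro i _
    rcases c.f_cases hel i t ht with h | h
    · exact absurd h (hne i)
    · exact h
  have h2 := c.sum_Y t ht
  rw [Finset.sum_congr rfl h1, Finset.sum_const, Finset.card_univ, nsmul_eq_mul] at h2
  have he0 : (c.D.e : ℂ) ≠ 0 := by
    intro h0
    have := c.e_sq
    rw [h0, mul_zero] at this
    exact zero_ne_one this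
  have h3 : ((Fintype.card (Idx (P : Subgroup G)) : ℂ) - 1) * (c.D.e : ℂ) = 0 := by
    linear_combination -h2
  rcases mul_eq_zero.mp h3 with h | h
  · have h4 : (Fintype.card (Idx (P : Subgroup G)) : ℂ) = ((1 : ℕ) : ℂ) := by
      push_cast
      linear_combination h
    have h5 : Fintype.card (Idx (P : Subgroup G)) = 1 := by exact_mod_cast h4
    have : 1 < Fintype.card (Idx (P : Subgroup G)) := Fintype.one_lt_card
    omega
  · exact he0 h

/-- an element of `P` at which the exceptional character does not take the value `3 e`. -/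
theorem exists_u (c : Ctx 2 P M B) (hel : ∀ y ∈ (P : Subgroup G), y * y = 1)
    (i : Idx (P : Subgroup G)) :
    ∃ u : ↥(P : Subgroup G), u ≠ 1 ∧ (c.D.f i : G → ℂ) (u : G) ≠ 3 * (c.D.e : ℂ) := by
  have hψ := rep_ne_one (P : Subgroup G) i
  obtain ⟨u, hu⟩ : ∃ u : ↥(P : Subgroup G), rep (P : Subgroup G) i u ≠ 1 := by
    by_contra hne
    push Not at hne
    apply hψ
    ext w
    rw [hne w]
    rfl
  have hu1 : u ≠ 1 := by
    intro h0
    apply hu
    rw [h0, map_one]
  refine ⟨u, hu1, ?_⟩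
  rw [c.value_F i u hu1]
  intro h1
  have he0 : (c.D.e : ℂ) ≠ 0 := by
    intro h0
    have := c.e_sq
    rw [h0, mul_zero] at this
    exact zero_ne_one this
  have h2 : ∑ ψ' ∈ c.F i, homFun ψ' u = ((c.F i).card : ℂ) := by
    rw [c.F_card i]
    have : (c.D.e : ℂ) * (∑ ψ' ∈ c.F i, homFun ψ' u - 3) = 0 := by linear_combination h1
    rcases mul_eq_zero.mp this with h | h
    · exact absurd h he0
    · push_cast
      linear_combination h
  have hpm : ∀ ψ' ∈ c.F i, homFun ψ' u = 1 ∨ homFun ψ' u = -1 := by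
    intro ψ' _
    have h3 := val_sq hel ψ' u
    have h4 : (homFun ψ' u - 1) * (homFun ψ' u + 1) = 0 := by linear_combination h3
    rcases mul_eq_zero.mp h4 with h | h
    · left; linear_combination h
    · right; linear_combination h
  have h5 : homFun (rep (P : Subgroup G) i) u = -1 := by
    rcases hpm _ (c.rep_mem_F i) with h | h
    · exfalso
      apply hu
      rw [homFun_apply] at h
      exact Units.ext (by rw [h]; rfl)
    · exact h
  exact sum_ne_card (c.F i) (fun ψ' => homFun ψ' u) hpm (c.rep_mem_F i) h5 h2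

end Ctx

end Cfsg.Agent.Lib.Helper7.BM
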