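import Mathlib
import Cfsg.Agent.Lib.Helper7.BM8
import Cfsg.Agent.Lib.Helper8.BA1

set_option autoImplicit false

/-!
# Brauer–Leonard for inertial index `3`: the relation for an elementary abelian Sylow
`2`-subgroup
-/

namespace Cfsg.Agent.Lib.Helper7.BM

open Cfsg Subgroup
open Cfsg.Agent.Lib.Helper1 Cfsg.Agent.Lib.Helper4 Cfsg.Agent.Lib.Helper8
open Cfsg.Agent.Lib.Helper7.BL Cfsg.Agent.Lib.Helper7.BH
open scoped ComplexConjugate Classical

attribute [local instance] actHom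

theorem orderOf_mem_sylow {G : Type*} [Group G] {p : ℕ} [hp : Fact p.Prime] {P : Sylow p G}
    (y : ↥(P : Subgroup G)) : ∃ k : ℕ, orderOf (y : G) = p ^ k := by
  obtain ⟨k, hk⟩ := P.isPGroup' y
  have h1 : (y : G) ^ p ^ k = 1 := by
    have := congrArg Subtype.val hk
    simpa using this
  obtain ⟨j, _, hj⟩ := (Nat.dvd_prime_pow hp.out).mp (orderOf_dvd_of_pow_eq_one h1)
  exact ⟨j, hj⟩

variable {G : Type*} [Group G] [Fintype G] {P : Sylow 2 G}
variable {B : Finset (IrrCharacter G)} {M : Ideal AlgInt}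
variable [Fintype (Idx (P : Subgroup G))] [Fintype (↥(P : Subgroup G) →* ℂˣ)]

namespace Ctx

theorem w2_sq (c : Ctx 2 P M B) : (c.D.w c.χ₂ : ℂ) * (c.D.w c.χ₂ : ℂ) = 1 := by
  rcases c.hw2 with h | h <;> rw [h] <;> norm_num

theorem w3_sq (c : Ctx 2 P M B) : (c.D.w c.χ₃ : ℂ) * (c.D.w c.χ₃ : ℂ) = 1 := by
  rcases c.hw3 with h | h <;> rw [h] <;> norm_num

/-- block orthogonality between two non-conjugate elements of `P`. -/
theorem orth_ut (c : Ctx 2 P M B) [Fact (Nat.Prime 2)] [Nontrivial (Idx (P : Subgroup G))]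
    (t u : ↥(P : Subgroup G)) (ht : t ≠ 1) (hu : u ≠ 1) (hut : ¬ IsConj (u : G) (t : G)) :
    ∑ i, conj ((c.D.f i : G → ℂ) (u : G)) * (c.D.f i : G → ℂ) (t : G) = -3 := by
  have h1 := prinT_eq_zero c.hM (orderOf_mem_sylow u) (orderOf_mem_sylow t) hut
  unfold prinT at h1
  rw [← c.hB, finsum_mem_coe_finset,
    c.sum_B (fun χ => conj ((χ : G → ℂ) (u : G)) * (χ : G → ℂ) (t : G))] at h1
  simp only [trivIrr_apply, c.val2 u hu, c.val3 u hu, c.val2 t ht, c.val3 t ht, map_neg, map_one,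
    map_intCast] at h1
  have h2 := c.w2_sq
  have h3 := c.w3_sq
  linear_combination h1 - h2 - h3

/-- the relation in the elementary abelian case. -/
theorem caseC (c : Ctx 2 P M B) [Fact (Nat.Prime 2)] [Nontrivial (Idx (P : Subgroup G))]
    (hel : ∀ y ∈ (P : Subgroup G), y * y = 1) (t : ↥(P : Subgroup G)) (ht : t ≠ 1)
    (i₀ : Idx (P : Subgroup G)) :
    -1 + (c.D.w c.χ₂ : ℂ) / (c.χ₂ : G → ℂ) 1 + (c.D.w c.χ₃ : ℂ) / (c.χ₃ : G → ℂ) 1 +
      9 * (c.D.e : ℂ) / (c.D.f i₀ : G → ℂ) 1 = 0 := by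
  obtain ⟨i₁, hi₁⟩ := c.exists_three hel t ht
  obtain ⟨u, hu1, hu⟩ := c.exists_u hel i₁
  have hut : ¬ IsConj (u : G) (t : G) := by
    intro hc
    obtain ⟨g, hg⟩ := isConj_iff.mp hc
    apply hu
    rw [← hi₁, ← hg]
    exact (isClassFunction_irr (c.D.f i₁).2 (u : G) g).symm
  have ht1' : (t : G) ≠ 1 := fun h0 => ht (Subtype.ext h0)
  have hu1' : (u : G) ≠ 1 := fun h0 => hu1 (Subtype.ext h0)
  have hnc := hnc_elem c.h c.h3 hel (t : G) t.2 ht1' (u : G) hu1' hut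
  have hT := c.T_split (t : G) u hu1 hnc
  have hreg1 : ¬ 2 ∣ orderOf (1 : G) := by
    rw [orderOf_one]
    norm_num
  have hY : ∑ i, conj ((c.D.f i : G → ℂ) (u : G)) *
      ((c.D.f i : G → ℂ) (t : G) ^ 2 / (c.D.f i : G → ℂ) 1) =
      -9 * (c.D.e : ℂ) / (c.D.f i₀ : G → ℂ) 1 := by
    have h1 : ∀ i ∈ (Finset.univ : Finset (Idx (P : Subgroup G))),
        conj ((c.D.f i : G → ℂ) (u : G)) *
          ((c.D.f i : G → ℂ) (t : G) ^ 2 / (c.D.f i : G → ℂ) 1) =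
        (3 * conj ((c.D.f i : G → ℂ) (u : G)) + 2 * (c.D.e : ℂ) *
          (conj ((c.D.f i : G → ℂ) (u : G)) * (c.D.f i : G → ℂ) (t : G))) /
            (c.D.f i₀ : G → ℂ) 1 := by
      intro i _
      rw [c.f_sq hel i t ht, c.D.agree c.h c.hM c.hB i i₀ 1 hreg1]
      ring
    rw [Finset.sum_congr rfl h1, ← Finset.sum_div, Finset.sum_add_distrib, ← Finset.mul_sum,
      ← Finset.mul_sum, ← map_sum, c.sum_Y u hu1, c.orth_ut t u ht hu1 hut, map_neg, map_intCast]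
    ring
  rw [hY, c.val2 t ht, c.val3 t ht] at hT
  have h2 := c.w2_sq
  have h3 := c.w3_sq
  have e2 : (-(c.D.w c.χ₂ : ℂ)) ^ 2 = 1 := by rw [neg_sq, sq]; exact h2
  have e3 : (-(c.D.w c.χ₃ : ℂ)) ^ 2 = 1 := by rw [neg_sq, sq]; exact h3
  rw [e2, e3] at hT
  linear_combination -hT

end Ctx

end Cfsg.Agent.Lib.Helper7.BM
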