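import Mathlib
import Cfsg.Agent.Lib.Helper7.BM6
import Cfsg.Agent.Lib.Helper7.BM9
import Cfsg.Agent.Lib.Helper7.BH5
import Cfsg.Agent.Lib.Helper7.BH6

set_option autoImplicit false

/-!
# Brauer–Leonard for inertial index `3`: the prime `2`
-/

namespace Cfsg.Agent.Lib.Helper7.BM

open Cfsg Subgroup
open Cfsg.Agent.Lib.Helper1 Cfsg.Agent.Lib.Helper4 Cfsg.Agent.Lib.Helper8
open Cfsg.Agent.Lib.Helper7.BL Cfsg.Agent.Lib.Helper7.BH
open scoped ComplexConjugate Classical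

attribute [local instance] actHom

variable {G : Type*} [Group G] [Fintype G] {P : Sylow 2 G}
variable {B : Finset (IrrCharacter G)} {M : Ideal AlgInt}
variable [Fintype (Idx (P : Subgroup G))] [Fintype (↥(P : Subgroup G) →* ℂˣ)]

namespace Ctx

/-- the second relation, for some index. -/
theorem rel_two (c : Ctx 2 P M B) [Fact (Nat.Prime 2)] [Nontrivial (Idx (P : Subgroup G))]
    (t : ↥(P : Subgroup G)) (ht1 : t ≠ 1) (ht2 : t ^ 2 = 1) :
    ∃ i₀ : Idx (P : Subgroup G),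
      -1 + (c.D.w c.χ₂ : ℂ) / (c.χ₂ : G → ℂ) 1 + (c.D.w c.χ₃ : ℂ) / (c.χ₃ : G → ℂ) 1 +
        9 * (c.D.e : ℂ) / (c.D.f i₀ : G → ℂ) 1 = 0 := by
  have hcomm : ∀ a b : ↥(P : Subgroup G), a * b = b * a :=
    fun a b => Subtype.ext (c.h.hab a a.2 b b.2)
  by_cases hex : ∃ y₀ : ↥(P : Subgroup G), y₀ * y₀ ≠ 1
  · obtain ⟨y₀, hy₀⟩ := hex
    obtain ⟨χ₁, hχ₁⟩ := exists_hom_ne_one hcomm hy₀
    set ψ : ↥(P : Subgroup G) →* ℂˣ := χ₁ * χ₁ with hψdef
    have hψ : ψ ≠ 1 := by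
      intro h0
      apply hχ₁
      have h1 := DFunLike.congr_fun h0 y₀
      rw [hψdef, MonoidHom.mul_apply, MonoidHom.one_apply, ← map_mul] at h1
      exact h1
    have hψ2 : ∀ y : ↥(P : Subgroup G), y ^ 2 = 1 → ψ y = 1 := by
      intro y hy
      rw [hψdef, MonoidHom.mul_apply, ← map_mul, ← sq, hy, map_one]
    have hinv : ∀ u : G, u ∈ (P : Subgroup G) → u * u ≠ 1 → ∀ g : G,
        (g * (t : G) * g⁻¹) * u * (g * (t : G) * g⁻¹)⁻¹ ≠ u⁻¹ :=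
      fun u hu huu g => not_inverted c.h c.h3 u hu huu _
    have hBq := eqB c.h c.hM c.hB c.D c.htriv c.h3 c.hd0 c.hne23 c.hne2 c.hne3 c.hXeq c.hw2 c.hw3
      t ht1 ht2 hinv ψ hψ hψ2
    refine ⟨idxOf (P : Subgroup G) ψ hψ, ?_⟩
    rw [← c.D.zet_of_ne hψ]
    exact hBq
  · push Not at hex
    obtain ⟨i₀⟩ : Nonempty (Idx (P : Subgroup G)) := inferInstance
    refine ⟨i₀, c.caseC ?_ t ht1 i₀⟩
    intro y hy
    have := hex ⟨y, hy⟩
    exact congrArg Subtype.val this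

/-- for the prime `2` no involution lies outside all proper normal subgroups. -/
theorem caseTwo (c : Ctx 2 P M B) [Fact (Nat.Prime 2)] [Nontrivial (Idx (P : Subgroup G))]
    (t : G) (ht : orderOf t = 2) (hker : ∀ K : Subgroup G, K.Normal → t ∈ K → K = ⊤) : False := by
  obtain ⟨g, hg⟩ := exists_conj_mem_sylow P (s := t) ⟨1, by rw [ht, pow_one]⟩
  have hker' : ∀ K : Subgroup G, K.Normal → g * t * g⁻¹ ∈ K → K = ⊤ := by
    intro K hK hmem
    apply hker K hK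
    have := hK.conj_mem _ hmem g⁻¹
    have e : g⁻¹ * (g * t * g⁻¹) * g⁻¹⁻¹ = t := by group
    rwa [e] at this
  have ho : orderOf (g * t * g⁻¹) = 2 := by
    rw [← ht]
    have := orderOf_injective (MulAut.conj g).toMonoidHom (MulAut.conj g).injective t
    simpa using this
  set t' : ↥(P : Subgroup G) := ⟨g * t * g⁻¹, hg⟩ with ht'
  have hot' : orderOf t' = 2 := by
    rw [← Subgroup.orderOf_coe]
    exact ho
  have ht1 : t' ≠ 1 := by
    intro h0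
    rw [h0, orderOf_one] at hot'
    omega
  have ht2 : t' ^ 2 = 1 := by
    have := pow_orderOf_eq_one t'
    rwa [hot'] at this
  obtain ⟨i₀, hBq⟩ := c.rel_two t' ht1 ht2
  have hA := c.eqA i₀ 1 (by rw [orderOf_one]; norm_num)
  obtain ⟨hdeg2, hpos2⟩ := irr_apply_one_eq_charDegree c.χ₂.2
  obtain ⟨hdeg3, hpos3⟩ := irr_apply_one_eq_charDegree c.χ₃.2
  obtain ⟨hdegZ, hposZ⟩ := irr_apply_one_eq_charDegree (c.D.f i₀).2
  have hpar : ∀ χ : IrrCharacter G, χ ∈ B → χ ∉ Finset.univ.image c.D.f →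
      (c.D.w χ = 1 ∨ c.D.w χ = -1) → Odd (charDegree (χ : G → ℂ)) := by
    intro χ hχB hχY hw
    obtain ⟨n, hn1, hn2⟩ := Cfsg.Agent.S0944.result χ (t' : G) ho
    rw [X_val c.h c.D hχB hχY t' ht1] at hn1
    have hn3 : n = -c.D.w χ := by
      have : ((-c.D.w χ : ℤ) : ℂ) = (n : ℂ) := by
        rw [← hn1]
        push_cast
        rfl
      exact_mod_cast this.symm
    rw [hn3] at hn2
    rcases hw with hw | hw <;> rw [hw] at hn2 <;> rw [Nat.odd_iff] <;> omega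
  rw [hdeg2, hdeg3, hdegZ] at hA hBq
  obtain ⟨hw2', -, hf2, -, -, -⟩ := arith (c.D.w c.χ₂) (c.D.w c.χ₃) c.D.e _ _ _ c.hw2 c.hw3
    c.D.he hpos2 hpos3 hposZ (hpar c.χ₂ c.mem2.1 c.mem2.2 c.hw2)
    (hpar c.χ₃ c.mem3.1 c.mem3.2 c.hw3) hA hBq
  apply ne_deg_of_ne_triv c.χ₂ c.hne2 (g * t * g⁻¹) hker'
  have h1 := c.val2 t' ht1
  rw [hw2'] at h1
  rw [hdeg2, hf2]
  rw [show ((t' : ↥(P : Subgroup G)) : G) = g * t * g⁻¹ from rfl] at h1
  rw [h1]
  norm_num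

end Ctx

end Cfsg.Agent.Lib.Helper7.BM
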