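import Mathlib
import Cfsg.Agent.Lib.Helper7.BM10

set_option autoImplicit false

/-!
# Brauer–Leonard for inertial index `3`: the main theorem
-/

namespace Cfsg.Agent.Lib.Helper7.BM

open Cfsg Subgroup
open Cfsg.Agent.Lib.Helper1 Cfsg.Agent.Lib.Helper4 Cfsg.Agent.Lib.Helper8
open Cfsg.Agent.Lib.Helper7.BL Cfsg.Agent.Lib.Helper7.BH
open scoped ComplexConjugate Classical

attribute [local instance] actHom

theorem coe_ne_one_of_ne_triv {G : Type*} [Group G] (χ : IrrCharacter G) (h : χ ≠ trivIrr G) :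
    (χ : G → ℂ) ≠ fun _ => 1 := by
  intro h0
  apply h
  apply Subtype.ext
  rw [h0]
  funext x
  rw [trivIrr_apply]

theorem triv_coe {G : Type*} [Group G] : ((trivIrr G : IrrCharacter G) : G → ℂ) = fun _ => 1 := by
  funext x
  rw [trivIrr_apply]

/-- the second half, from the sign pattern and the square property. -/
theorem second_half {G : Type*} [Group G] (w : IrrCharacter G → ℤ) (e : ℤ)
    (χ₂ χ₃ : IrrCharacter G) (hne23 : χ₂ ≠ χ₃) (hne2 : χ₂ ≠ trivIrr G) (hne3 : χ₃ ≠ trivIrr G)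
    (X : Set (IrrCharacter G)) (hX : ∀ χ, χ ∈ X ↔ (χ = trivIrr G ∨ χ = χ₂ ∨ χ = χ₃))
    (hsign : (w χ₂ = -1 ∧ w χ₃ = 1 ∧ e = 1) ∨ (w χ₂ = 1 ∧ w χ₃ = -1 ∧ e = 1) ∨
      (w χ₂ = 1 ∧ w χ₃ = 1 ∧ e = -1)) :
    Nat.card {χ : IrrCharacter G // χ ∈ X ∧ (χ : G → ℂ) ≠ (fun _ => 1) ∧ (fun χ => -w χ) χ = -1} +
      (if e = 1 then 1 else 0) = 2 := by
  have hc2 := coe_ne_one_of_ne_triv χ₂ hne2
  have hc3 := coe_ne_one_of_ne_triv χ₃ hne3
  have hmem : ∀ χ : IrrCharacter G, (χ ∈ X ∧ (χ : G → ℂ) ≠ (fun _ => 1) ∧ (fun χ => -w χ) χ = -1) ↔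
      ((χ = χ₂ ∨ χ = χ₃) ∧ w χ = 1) := by
    intro χ
    rw [hX]
    constructor
    · rintro ⟨h1 | h1 | h1, h2, h3⟩
      · exfalso
        apply h2
        rw [h1]
        exact triv_coe
      · exact ⟨Or.inl h1, by simp only at h3; linarith⟩
      · exact ⟨Or.inr h1, by simp only at h3; linarith⟩
    · rintro ⟨h1 | h1, h2⟩
      · exact ⟨Or.inr (Or.inl h1), by rw [h1]; exact hc2, by simp only; linarith⟩
      · exact ⟨Or.inr (Or.inr h1), by rw [h1]; exact hc3, by simp only; linarith⟩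
  have hset : {χ : IrrCharacter G | χ ∈ X ∧ (χ : G → ℂ) ≠ (fun _ => 1) ∧ (fun χ => -w χ) χ = -1} =
      {χ : IrrCharacter G | (χ = χ₂ ∨ χ = χ₃) ∧ w χ = 1} := by
    ext χ
    exact hmem χ
  show Nat.card ↥{χ : IrrCharacter G | χ ∈ X ∧ (χ : G → ℂ) ≠ (fun _ => 1) ∧ (fun χ => -w χ) χ = -1} +
      (if e = 1 then 1 else 0) = 2
  rw [hset, Nat.card_coe_set_eq]
  rcases hsign with ⟨h2, h3, he⟩ | ⟨h2, h3, he⟩ | ⟨h2, h3, he⟩
  · have : {χ : IrrCharacter G | (χ = χ₂ ∨ χ = χ₃) ∧ w χ = 1} = {χ₃} := by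
      ext χ
      rw [Set.mem_ofPred_eq, Set.mem_singleton_iff]
      constructor
      · rintro ⟨h | h, hw⟩
        · rw [h, h2] at hw
          norm_num at hw
        · exact h
      · rintro rfl
        exact ⟨Or.inr rfl, h3⟩
    rw [this, Set.ncard_singleton, if_pos he]
  · have : {χ : IrrCharacter G | (χ = χ₂ ∨ χ = χ₃) ∧ w χ = 1} = {χ₂} := by
      ext χ
      rw [Set.mem_ofPred_eq, Set.mem_singleton_iff]
      constructor
      · rintro ⟨h | h, hw⟩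
        · exact h
        · rw [h, h3] at hw
          norm_num at hw
      · rintro rfl
        exact ⟨Or.inl rfl, h2⟩
    rw [this, Set.ncard_singleton, if_pos he]
  · have : {χ : IrrCharacter G | (χ = χ₂ ∨ χ = χ₃) ∧ w χ = 1} = {χ₂, χ₃} := by
      ext χ
      rw [Set.mem_ofPred_eq, Set.mem_insert_iff, Set.mem_singleton_iff]
      constructor
      · rintro ⟨h, _⟩
        exact h
      · rintro (rfl | rfl)
        · exact ⟨Or.inl rfl, h2⟩
        · exact ⟨Or.inr rfl, h3⟩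
    rw [this, Set.ncard_pair hne23, if_neg (by rw [he]; norm_num)]

/-- the product of the degrees of the non-principal members of `X`. -/
theorem finprod_deg {G : Type*} [Group G] (χ₂ χ₃ : IrrCharacter G) (hne23 : χ₂ ≠ χ₃)
    (hne2 : χ₂ ≠ trivIrr G) (hne3 : χ₃ ≠ trivIrr G)
    (X : Set (IrrCharacter G)) (hX : ∀ χ, χ ∈ X ↔ (χ = trivIrr G ∨ χ = χ₂ ∨ χ = χ₃)) :
    ∏ᶠ χ ∈ {χ : IrrCharacter G | χ ∈ X ∧ (χ : G → ℂ) ≠ fun _ => 1}, charDegree (χ : G → ℂ) =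
      charDegree (χ₂ : G → ℂ) * charDegree (χ₃ : G → ℂ) := by
  have hc2 := coe_ne_one_of_ne_triv χ₂ hne2
  have hc3 := coe_ne_one_of_ne_triv χ₃ hne3
  have hset : {χ : IrrCharacter G | χ ∈ X ∧ (χ : G → ℂ) ≠ fun _ => 1} = {χ₂, χ₃} := by
    ext χ
    rw [Set.mem_ofPred_eq, hX, Set.mem_insert_iff, Set.mem_singleton_iff]
    constructor
    · rintro ⟨h1 | h1 | h1, h2⟩
      · exfalso
        apply h2
        rw [h1]
        exact triv_coe
      · exact Or.inl h1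
      · exact Or.inr h1
    · rintro (rfl | rfl)
      · exact ⟨Or.inr (Or.inl rfl), hc2⟩
      · exact ⟨Or.inr (Or.inr rfl), hc3⟩
  rw [hset, finprod_mem_pair hne23]

/-- the Brauer–Leonard theorem for inertial index `3`. -/
theorem main3 {G : Type*} [Group G] [Finite G] (p : ℕ) [hp : Fact p.Prime] (M : Ideal AlgInt)
    (hM : IsPModular p M) (P : Sylow p G) (h : Hyp p P) (hP1 : Nat.card P ≠ 1)
    (hCN : (Subgroup.centralizer ((P : Subgroup G) : Set G)).relIndex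
      (Subgroup.normalizer ((P : Subgroup G) : Set G)) = 3)
    (hm2 : 3 + 1 < Nat.card P) :
    ∃ (X Y : Set (Cfsg.IrrCharacter G)), Cfsg.principalBlock M G = X ∪ Y ∧ Disjoint X Y ∧
      Nat.card X = 3 ∧ Nat.card Y = (Nat.card P - 1) / 3 ∧
      (∃ χ₁ ∈ X, (χ₁ : G → ℂ) = fun _ => 1) ∧
      ∃ (a : Cfsg.IrrCharacter G → ℤ) (δ : ℤ)
        (ζ : (↥(P : Subgroup G) →* ℂˣ) → Cfsg.IrrCharacter G), (δ = 1 ∨ δ = -1) ∧
      (∀ χ ∈ X, (a χ = 1 ∨ a χ = -1) ∧ ∀ z y : G, Cfsg.IsPPart p z y → y ∈ (P : Subgroup G) →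
        y ≠ 1 → (χ : G → ℂ) z = (a χ : ℂ)) ∧
      (∀ ψ : ↥(P : Subgroup G) →* ℂˣ, ψ ≠ 1 → ζ ψ ∈ Y) ∧
      (∀ η ∈ Y, ∃ ψ : ↥(P : Subgroup G) →* ℂˣ, ψ ≠ 1 ∧ ζ ψ = η) ∧
      (∀ ψ ψ' : ↥(P : Subgroup G) →* ℂˣ, ψ ≠ 1 →
        (∃ n : G, n ∈ Subgroup.normalizer ((P : Subgroup G) : Set G) ∧
          ∀ w w' : ↥(P : Subgroup G), (w' : G) = n * w * n⁻¹ → ψ' w' = ψ w) → ζ ψ' = ζ ψ) ∧
      (∀ ψ : ↥(P : Subgroup G) →* ℂˣ, ψ ≠ 1 → ∀ (z : G) (y : ↥(P : Subgroup G)),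
        Cfsg.IsPPart p z (y : G) → (y : G) ≠ 1 →
        (ζ ψ : G → ℂ) z = (δ : ℂ) *
          ∑ᶠ ψ' ∈ {ψ' : ↥(P : Subgroup G) →* ℂˣ | ∃ n : G,
            n ∈ Subgroup.normalizer ((P : Subgroup G) : Set G) ∧
            ∀ w w' : ↥(P : Subgroup G), (w' : G) = n * w * n⁻¹ → ψ' w' = ψ w},
            ((ψ' y : ℂˣ) : ℂ)) ∧
      ((∃ t : G, orderOf t = 2 ∧ ∀ K : Subgroup G, K.Normal → t ∈ K → K = ⊤) →
        Nat.card {χ : Cfsg.IrrCharacter G // χ ∈ X ∧ (χ : G → ℂ) ≠ (fun _ => 1) ∧ a χ = -1} +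
          (if δ = 1 then 1 else 0) = 2 ∧
        ∀ η ∈ Y, IsSquare (Cfsg.charDegree (η : G → ℂ) *
          ∏ᶠ χ ∈ {χ : Cfsg.IrrCharacter G | χ ∈ X ∧ (χ : G → ℂ) ≠ fun _ => 1},
            Cfsg.charDegree (χ : G → ℂ))) := by
  haveI : Fintype G := Fintype.ofFinite G
  haveI : Fintype (IrrCharacter G) := Fintype.ofFinite _
  have hcomm : ∀ a b : ↥(P : Subgroup G), a * b = b * a :=
    fun a b => Subtype.ext (h.hab a a.2 b b.2)
  haveI : Finite (↥(P : Subgroup G) →* ℂˣ) := finite_hom hcomm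
  haveI : Fintype (↥(P : Subgroup G) →* ℂˣ) := Fintype.ofFinite _
  haveI : Finite (Idx (P : Subgroup G)) := by
    unfold Idx
    infer_instance
  haveI : Fintype (Idx (P : Subgroup G)) := Fintype.ofFinite _
  set B : Finset (IrrCharacter G) := Finset.univ.filter (fun χ => χ ∈ principalBlock M G) with hBdef
  have hB : (B : Set (IrrCharacter G)) = principalBlock M G := by
    ext χ
    rw [Finset.mem_coe, hBdef, Finset.mem_filter]
    exact ⟨fun hh => hh.2, fun hh => ⟨Finset.mem_univ _, hh⟩⟩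
  have hmemB : ∀ χ, χ ∈ B → χ ∈ principalBlock M G := fun χ hχ => by
    rw [← hB]
    exact hχ
  have hcard := h.card_idx
  rw [hCN] at hcard
  have hr2 : 2 ≤ Nat.card (Idx (P : Subgroup G)) := by
    by_contra hlt
    have h1 : Nat.card (Idx (P : Subgroup G)) ≤ 1 := by omega
    have h2 : Nat.card (Idx (P : Subgroup G)) * 3 ≤ 1 * 3 := Nat.mul_le_mul_right 3 h1
    omega
  haveI : Nontrivial (Idx (P : Subgroup G)) := Finite.one_lt_card_iff_nontrivial.mp (by omega)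
  have htrivB : trivIrr G ∈ B := by
    rw [← Finset.mem_coe, hB]
    exact trivIrr_mem_principalBlock (isPModular_ne_top hM)
  obtain ⟨D, hd0⟩ := exists_data_zero h hP1 hM hB htrivB hCN
  obtain ⟨χ₂, χ₃, hne23, hne2, hne3, hXeq, hw2, hw3⟩ :=
    X_structure' h hP1 hM hB D htrivB hCN hd0
  let c : Ctx p P M B := ⟨h, hP1, hM, hB, D, htrivB, hCN, hd0, χ₂, χ₃, hne23, hne2, hne3, hXeq,
    hw2, hw3⟩
  set r : ℕ := Nat.card (Idx (P : Subgroup G)) with hr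
  have hrF : Fintype.card (Idx (P : Subgroup G)) = r := by rw [hr, Nat.card_eq_fintype_card]
  have hdivN : (Nat.card P - 1) / 3 = r := by
    have : Nat.card P - 1 = r * 3 := by
      have := hcard
      show Nat.card ↥(P : Subgroup G) - 1 = r * 3
      omega
    rw [this, Nat.mul_div_cancel _ (by norm_num)]
  set Y : Finset (IrrCharacter G) := Finset.univ.image D.f with hY
  have hYB : Y ⊆ B := D.image_subset
  have hXY : B \ Y = {trivIrr G, χ₂, χ₃} := hXeq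
  have hYmem : ∀ η, η ∈ Y ↔ ∃ i, D.f i = η := by
    intro η
    rw [hY, Finset.mem_image]
    constructor
    · rintro ⟨i, _, hi⟩
      exact ⟨i, hi⟩
    · rintro ⟨i, hi⟩
      exact ⟨i, Finset.mem_univ _, hi⟩
  have hXsub : ∀ χ ∈ ({trivIrr G, χ₂, χ₃} : Finset (IrrCharacter G)), χ ∈ B ∧ χ ∉ Y := by
    intro χ hχ
    rw [← hXY] at hχ
    exact Finset.mem_sdiff.mp hχ
  refine ⟨(({trivIrr G, χ₂, χ₃} : Finset (IrrCharacter G)) : Set (IrrCharacter G)),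
    (Y : Set (IrrCharacter G)), ?_, ?_, ?_, ?_, ?_, fun χ => -D.w χ, D.e, D.zet, D.he,
    ?_, ?_, ?_, ?_, ?_, ?_⟩
  · rw [← hB, ← Finset.coe_union, ← hXY, Finset.sdiff_union_of_subset hYB]
  · rw [← hXY]
    exact Finset.disjoint_coe.mpr Finset.sdiff_disjoint
  · rw [Nat.card_coe_set_eq, Set.ncard_coe_finset]
    exact Finset.card_eq_three.mpr ⟨_, _, _, hne2.symm, hne3.symm, hne23, rfl⟩
  · rw [Nat.card_coe_set_eq, Set.ncard_coe_finset, hdivN, hY,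
      Finset.card_image_of_injective _ D.hf, Finset.card_univ, hrF]
  · refine ⟨trivIrr G, ?_, triv_coe⟩
    rw [Finset.mem_coe]
    simp
  · -- values of X
    intro χ hχ
    rw [Finset.mem_coe] at hχ
    obtain ⟨hχB, hχY⟩ := hXsub χ hχ
    refine ⟨?_, ?_⟩
    · rw [Finset.mem_insert, Finset.mem_insert, Finset.mem_singleton] at hχ
      beta_reduce
      rcases hχ with rfl | rfl | rfl
      · left
        rw [w_triv D htrivB]
        norm_num
      · rcases hw2 with h' | h' <;> rw [h'] <;> simp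
      · rcases hw3 with h' | h' <;> rw [h'] <;> simp
    · intro z y hzy hy hy1
      rw [h.value_ext hM (hmemB χ hχB) hzy hy hy1]
      have := X_val h D hχB hχY ⟨y, hy⟩ (fun h0 => hy1 (congrArg Subtype.val h0))
      rw [this, Int.cast_neg]
  · intro ψ hψ
    rw [Finset.mem_coe, hYmem]
    exact ⟨_, (D.zet_of_ne hψ).symm⟩
  · intro η hη
    rw [Finset.mem_coe, hYmem] at hη
    obtain ⟨i, rfl⟩ := hη
    exact ⟨rep (P : Subgroup G) i, rep_ne_one _ i, D.zet_rep i⟩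
  · intro ψ ψ' hψ hrel
    rw [rel_iff_smul] at hrel
    obtain ⟨n, rfl⟩ := hrel
    exact D.zet_smul hψ n
  · intro ψ hψ z y hzy hy1
    have hy1' : y ≠ 1 := fun h0 => hy1 (by rw [h0]; rfl)
    have hzB : D.zet ψ ∈ B := by
      rw [D.zet_of_ne hψ]
      exact D.hfB _
    rw [h.value_ext hM (hmemB _ hzB) hzy y.2 hy1, D.value h hzB y hy1', ← D.filter_eq hψ,
      finsum_mem_coe_finset, D.zet_of_ne hψ, hd0, Int.cast_zero, neg_zero, zero_add]
    rfl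
  · -- the second half
    rintro ⟨t, ht, hker⟩
    have hkey : ((D.w χ₂ = -1 ∧ D.w χ₃ = 1 ∧ D.e = 1) ∨ (D.w χ₂ = 1 ∧ D.w χ₃ = -1 ∧ D.e = 1) ∨
        (D.w χ₂ = 1 ∧ D.w χ₃ = 1 ∧ D.e = -1)) ∧
        ∀ i, IsSquare (charDegree (χ₂ : G → ℂ) * charDegree (χ₃ : G → ℂ) *
          charDegree (D.f i : G → ℂ)) := by
      by_cases hp2 : p = 2
      · exfalso
        subst hp2
        exact c.caseTwo t ht hker
      · exact caseA c hp2 t ht hker
    have hXiff : ∀ χ : IrrCharacter G, χ ∈ (({trivIrr G, χ₂, χ₃} : Finset (IrrCharacter G)) :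
        Set (IrrCharacter G)) ↔ (χ = trivIrr G ∨ χ = χ₂ ∨ χ = χ₃) := by
      intro χ
      rw [Finset.mem_coe, Finset.mem_insert, Finset.mem_insert, Finset.mem_singleton]
    refine ⟨second_half D.w D.e χ₂ χ₃ hne23 hne2 hne3 _ hXiff hkey.1, ?_⟩
    intro η hη
    rw [Finset.mem_coe, hYmem] at hη
    obtain ⟨i, rfl⟩ := hη
    rw [finprod_deg χ₂ χ₃ hne23 hne2 hne3 _ hXiff]
    have := hkey.2 i
    rwa [mul_comm] at this

end Cfsg.Agent.Lib.Helper7.BM
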