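import Mathlib

set_option autoImplicit false

/-! Cancellation for representations over a field of characteristic zero: if `χ + ψ₂ = ψ₁`
with `ψ₁, ψ₂` characters of representations over `K` and `χ` has natural multiplicities against all
`K`-representations, then `χ` is the character of a representation over `K`. -/

namespace Cfsg.Agent.Lib.Helper7.BSF

open Module Representation

universe u v w

section Basic

variable {K : Type u} [Field K] {G : Type w} [Group G]

/-- the character splits along complementary subrepresentations -/
theorem char_add_of_isCompl {V : Type v} [AddCommGroup V] [Module K V] [FiniteDimensional K V]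
    (ρ : Representation K G V) (σ τ : Subrepresentation ρ)
    (h : IsCompl σ.toSubmodule τ.toSubmodule) (g : G) :
    ρ.character g = σ.toRepresentation.character g + τ.toRepresentation.character g := by
  unfold Representation.character
  let e := Submodule.prodEquivOfIsCompl σ.toSubmodule τ.toSubmodule h
  have h1 : e.conj ((σ.toRepresentation g).prodMap (τ.toRepresentation g)) = ρ g := by
    apply LinearMap.ext
    intro v
    obtain ⟨⟨x, y⟩, rfl⟩ := e.surjective v
    rw [LinearEquiv.conj_apply, LinearMap.comp_apply, LinearMap.comp_apply]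
    simp only [LinearEquiv.coe_coe, LinearEquiv.symm_apply_apply, LinearMap.prodMap_apply]
    show e (σ.toRepresentation g x, τ.toRepresentation g y) = ρ g (e (x, y))
    rw [Submodule.coe_prodEquivOfIsCompl', Submodule.coe_prodEquivOfIsCompl', map_add]
    rfl
  rw [← h1, LinearMap.trace_conj', LinearMap.trace_prodMap']

theorem isCompl_toSubmodule {V : Type v} [AddCommGroup V] [Module K V]
    {ρ : Representation K G V} {σ τ : Subrepresentation ρ} (h : IsCompl σ τ) :
    IsCompl σ.toSubmodule τ.toSubmodule := by
  rw [isCompl_iff, disjoint_iff, codisjoint_iff] at h ⊢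
  exact ⟨congrArg Subrepresentation.toSubmodule h.1, congrArg Subrepresentation.toSubmodule h.2⟩

end Basic

section Cancel

variable {K : Type u} [Field K] [CharZero K] {G : Type w} [Group G] [Fintype G]

theorem card_ne_zero' : (Nat.card G : K) ≠ 0 := Nat.cast_ne_zero.2 Nat.card_pos.ne'

/-- Hom-dimension formula. -/
theorem hom_formula {V W : Type v} [AddCommGroup V] [Module K V] [FiniteDimensional K V]
    [AddCommGroup W] [Module K W] [FiniteDimensional K W]
    (ρ : Representation K G V) (σ : Representation K G W) :
    (Nat.card G : K)⁻¹ * ∑ g : G, ρ.character g⁻¹ * σ.character g =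
      (finrank K (invariants (linHom ρ σ)) : K) := by
  have : Invertible (Nat.card G : K) := invertibleOfNonzero card_ne_zero'
  rw [← Representation.card_inv_mul_sum_char_eq_finrank]
  congr 1
  refine Finset.sum_congr rfl fun g _ => ?_
  rw [Representation.char_linHom]

theorem exists_complement {V : Type v} [AddCommGroup V] [Module K V]
    (ρ : Representation K G V) (σ : Subrepresentation ρ) :
    ∃ τ : Subrepresentation ρ, IsCompl σ.toSubmodule τ.toSubmodule := by
  have : NeZero (Nat.card G : K) := ⟨card_ne_zero'⟩
  obtain ⟨τ, hτ⟩ := exists_isCompl σ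
  exact ⟨τ, isCompl_toSubmodule hτ⟩

/-- a minimal nonzero subrepresentation -/
theorem exists_minimal {V : Type v} [AddCommGroup V] [Module K V] [FiniteDimensional K V]
    (ρ : Representation K G V) (hV : finrank K V ≠ 0) :
    ∃ σ : Subrepresentation ρ, σ.toSubmodule ≠ ⊥ ∧
      ∀ τ : Subrepresentation ρ, τ.toSubmodule ≠ ⊥ → τ.toSubmodule ≤ σ.toSubmodule →
        τ.toSubmodule = σ.toSubmodule := by
  classical
  have hex : ∃ n : ℕ, ∃ τ : Subrepresentation ρ, τ.toSubmodule ≠ ⊥ ∧
      finrank K τ.toSubmodule = n := by
    refine ⟨finrank K V, ⊤, ?_, ?_⟩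
    · intro h
      have h1 : finrank K (⊤ : Submodule K V) = 0 := by
        have : (⊤ : Subrepresentation ρ).toSubmodule = ⊤ := rfl
        rw [← this, h, finrank_bot]
      rw [finrank_top] at h1
      exact hV h1
    · exact finrank_top K V
  obtain ⟨σ, hσ0, hσn⟩ := Nat.find_spec hex
  refine ⟨σ, hσ0, ?_⟩
  intro τ hτ0 hle
  have h1 : Nat.find hex ≤ finrank K τ.toSubmodule := Nat.find_min' hex ⟨τ, hτ0, rfl⟩
  apply Submodule.eq_of_le_of_finrank_le hle
  rw [hσn]
  exact h1

theorem cancel_aux (χ : G → K)
    (hnat : ∀ (W : Type v) [AddCommGroup W] [Module K W] [FiniteDimensional K W]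
      (σ : Representation K G W), ∃ n : ℕ,
        (Nat.card G : K)⁻¹ * ∑ g : G, σ.character g⁻¹ * χ g = n) :
    ∀ (n : ℕ) (V₁ V₂ : Type v) [AddCommGroup V₁] [Module K V₁] [FiniteDimensional K V₁]
      [AddCommGroup V₂] [Module K V₂] [FiniteDimensional K V₂]
      (ρ₁ : Representation K G V₁) (ρ₂ : Representation K G V₂),
      finrank K V₂ = n → (∀ g, ρ₁.character g = χ g + ρ₂.character g) →
      ∃ (V : Type v) (_ : AddCommGroup V) (_ : Module K V) (_ : FiniteDimensional K V)
        (ρ : Representation K G V), ∀ g, ρ.character g = χ g := by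
  intro n
  induction n using Nat.strong_induction_on with
  | _ n ih =>
  intro V₁ V₂ _ _ _ _ _ _ ρ₁ ρ₂ hn hchar
  classical
  rcases Nat.eq_zero_or_pos n with h0 | hpos
  · -- `V₂ = 0`
    refine ⟨V₁, inferInstance, inferInstance, inferInstance, ρ₁, ?_⟩
    intro g
    rw [hchar g]
    have hsub : Subsingleton V₂ := by
      rw [← Module.finrank_zero_iff (R := K)]
      rw [hn, h0]
    have : ρ₂ g = 0 := Subsingleton.elim _ _
    unfold Representation.character
    rw [this, map_zero, add_zero]
  · have hV₂ : finrank K V₂ ≠ 0 := by omega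
    obtain ⟨σ, hσ0, hσmin⟩ := exists_minimal ρ₂ hV₂
    obtain ⟨τ, hτ⟩ := exists_complement ρ₂ σ
    have hψ₂ := char_add_of_isCompl ρ₂ σ τ hτ
    set ρσ := σ.toRepresentation with hρσ
    set ρτ := τ.toRepresentation with hρτ
    -- count intertwiners from `σ` to `ρ₁`
    obtain ⟨nχ, hnχ⟩ := hnat _ ρσ
    have hcount : (finrank K (invariants (linHom ρσ ρ₁)) : K) =
        ((nχ + finrank K (invariants (linHom ρσ ρσ)) +
          finrank K (invariants (linHom ρσ ρτ)) : ℕ) : K) := by
      rw [← hom_formula]
      push_cast
      rw [← hnχ, ← hom_formula, ← hom_formula, ← mul_add, ← mul_add, ← Finset.sum_add_distrib,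
        ← Finset.sum_add_distrib]
      congr 1
      refine Finset.sum_congr rfl fun g _ => ?_
      rw [hchar g, hψ₂ g]
      ring
    have hcount' : finrank K (invariants (linHom ρσ ρ₁)) =
        nχ + finrank K (invariants (linHom ρσ ρσ)) + finrank K (invariants (linHom ρσ ρτ)) := by
      exact_mod_cast hcount
    -- the identity is a nonzero self-intertwiner
    have hid : (LinearMap.id : σ.toSubmodule →ₗ[K] σ.toSubmodule) ∈ invariants (linHom ρσ ρσ) := by
      rw [mem_invariants]
      intro g
      rw [linHom_apply, LinearMap.id_comp, ← Module.End.mul_eq_comp, ← map_mul, mul_inv_cancel,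
        map_one]
      rfl
    have hntσ : Nontrivial σ.toSubmodule := Submodule.nontrivial_iff_ne_bot.2 hσ0
    have hpos1 : 0 < finrank K (invariants (linHom ρσ ρσ)) := by
      refine (Module.finrank_pos_iff_exists_ne_zero (R := K)).2
        ⟨(⟨LinearMap.id, hid⟩ : invariants (linHom ρσ ρσ)), ?_⟩
      intro h
      have h1 : (LinearMap.id : σ.toSubmodule →ₗ[K] σ.toSubmodule) = 0 := congrArg Subtype.val h
      obtain ⟨x, hx⟩ := exists_ne (0 : σ.toSubmodule)
      apply hx
      have := LinearMap.congr_fun h1 x
      simpa using this
    have hpos2 : 0 < finrank K (invariants (linHom ρσ ρ₁)) := by omega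
    obtain ⟨⟨f, hf⟩, hf0⟩ := (Module.finrank_pos_iff_exists_ne_zero (R := K)).1 hpos2
    have hf0' : f ≠ 0 := fun h => hf0 (Subtype.ext h)
    rw [mem_invariants] at hf
    have hfi : ρσ.IsIntertwiningMap ρ₁ f := by
      rw [← mem_linHom_invariants_iff_isIntertwining]
      intro g
      have := hf g
      rw [linHom_apply] at this
      exact this
    -- `f` is injective
    have hker : LinearMap.ker f = ⊥ := by
      by_contra hne
      let κ : Subrepresentation ρ₂ :=
        { toSubmodule := (LinearMap.ker f).map σ.toSubmodule.subtype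
          apply_mem_toSubmodule := by
            rintro g v ⟨w, hw, rfl⟩
            refine ⟨ρσ g w, ?_, rfl⟩
            rw [SetLike.mem_coe, LinearMap.mem_ker] at hw ⊢
            rw [hfi.isIntertwining, hw, map_zero] }
      have hκ0 : κ.toSubmodule ≠ ⊥ := by
        intro h
        apply hne
        have h1 : (LinearMap.ker f).map σ.toSubmodule.subtype = ⊥ := h
        have h2 : (LinearMap.ker f).map σ.toSubmodule.subtype =
            (⊥ : Submodule K σ.toSubmodule).map σ.toSubmodule.subtype := by
          rw [h1, Submodule.map_bot]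
        exact Submodule.map_injective_of_injective σ.toSubmodule.injective_subtype h2
      have hκle : κ.toSubmodule ≤ σ.toSubmodule := by
        rintro v ⟨w, -, rfl⟩
        exact w.2
      have hκeq := hσmin κ hκ0 hκle
      apply hf0'
      apply LinearMap.ext
      intro w
      have hw : (w : V₂) ∈ κ.toSubmodule := by
        rw [hκeq]
        exact w.2
      obtain ⟨w', hw', hww⟩ := hw
      have : w' = w := Subtype.ext hww
      rw [← this]
      exact hw'
    have hinj : Function.Injective f := LinearMap.ker_eq_bot.1 hker
    -- the image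
    let R : Subrepresentation ρ₁ :=
      { toSubmodule := LinearMap.range f
        apply_mem_toSubmodule := by
          rintro g v ⟨w, rfl⟩
          exact ⟨ρσ g w, hfi.isIntertwining g w⟩ }
    let e : σ.toSubmodule ≃ₗ[K] R.toSubmodule := LinearEquiv.ofInjective f hinj
    have hcharR : ∀ g, R.toRepresentation.character g = ρσ.character g := by
      intro g
      unfold Representation.character
      have h1 : e.conj (ρσ g) = R.toRepresentation g := by
        apply LinearMap.ext
        intro v
        obtain ⟨w, rfl⟩ := e.surjective v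
        rw [LinearEquiv.conj_apply, LinearMap.comp_apply, LinearMap.comp_apply]
        simp only [LinearEquiv.coe_coe, LinearEquiv.symm_apply_apply]
        apply Subtype.ext
        show f (ρσ g w) = ρ₁ g (f w)
        exact hfi.isIntertwining g w
      rw [← h1, LinearMap.trace_conj']
    obtain ⟨U, hU⟩ := exists_complement ρ₁ R
    have hψ₁ := char_add_of_isCompl ρ₁ R U hU
    -- dimensions
    have hdim : finrank K σ.toSubmodule + finrank K τ.toSubmodule = finrank K V₂ :=
      Submodule.finrank_add_eq_of_isCompl hτ
    have hσpos : 0 < finrank K σ.toSubmodule := Module.finrank_pos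
    have hlt : finrank K τ.toSubmodule < n := by omega
    refine ih (finrank K τ.toSubmodule) hlt U.toSubmodule τ.toSubmodule U.toRepresentation ρτ rfl ?_
    intro g
    have h1 := hψ₁ g
    rw [hchar g, hψ₂ g, hcharR g] at h1
    have h2 : U.toRepresentation.character g = χ g + ρτ.character g := by
      have h3 : χ g + (ρσ.character g + ρτ.character g) =
          ρσ.character g + U.toRepresentation.character g := h1
      linear_combination -h3
    exact h2

end Cancel

end Cfsg.Agent.Lib.Helper7.BSF
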