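import Mathlib
import Cfsg.Agent.Lib.Helper7.BSF1

set_option autoImplicit false

/-! Monomial matrix representations, and the class of characters of representations over `K`. -/

namespace Cfsg.Agent.Lib.Helper7.BSF

open Module Representation

universe u v w

section Ext0

variable {K : Type u} [Field K] {G : Type w} [Group G] (H : Subgroup G) (l : H →* K)

/-- extension by zero -/
noncomputable def ext0 (g : G) : K := by
  classical exact if h : g ∈ H then l ⟨g, h⟩ else 0

theorem ext0_of_mem {g : G} (h : g ∈ H) : ext0 H l g = l ⟨g, h⟩ := by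
  unfold ext0
  rw [dif_pos h]

theorem ext0_of_not_mem {g : G} (h : g ∉ H) : ext0 H l g = 0 := by
  unfold ext0
  rw [dif_neg h]

theorem ext0_one : ext0 H l 1 = 1 := by
  rw [ext0_of_mem H l H.one_mem]
  exact map_one l

theorem ext0_mul_right (a : G) {b : G} (hb : b ∈ H) :
    ext0 H l (a * b) = ext0 H l a * ext0 H l b := by
  by_cases ha : a ∈ H
  · rw [ext0_of_mem H l ha, ext0_of_mem H l hb, ext0_of_mem H l (H.mul_mem ha hb), ← map_mul]
    rfl
  · have hab : a * b ∉ H := fun h => ha (by
      have := H.mul_mem h (H.inv_mem hb)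
      rwa [mul_inv_cancel_right] at this)
    rw [ext0_of_not_mem H l ha, ext0_of_not_mem H l hab, zero_mul]

end Ext0

section Mono

variable {K : Type u} [Field K] {G : Type w} [Group G] (H : Subgroup G) (l : H →* K)
  [Fintype (G ⧸ H)] [DecidableEq (G ⧸ H)]

theorem out_inv_mul_out_mem_iff (q' q : G ⧸ H) : q'.out⁻¹ * q.out ∈ H ↔ q' = q := by
  rw [← QuotientGroup.eq, QuotientGroup.out_eq', QuotientGroup.out_eq']

/-- the monomial matrices of the induced representation -/
noncomputable def monoMat : G →* Matrix (G ⧸ H) (G ⧸ H) K where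
  toFun g := Matrix.of fun q' q => ext0 H l (q'.out⁻¹ * g * q.out)
  map_one' := by
    ext q' q
    rw [Matrix.of_apply, mul_one, Matrix.one_apply]
    by_cases h : q' = q
    · rw [if_pos h, h, inv_mul_cancel, ext0_one]
    · rw [if_neg h, ext0_of_not_mem]
      rwa [out_inv_mul_out_mem_iff]
  map_mul' a b := by
    ext q' q
    rw [Matrix.mul_apply, Matrix.of_apply]
    simp only [Matrix.of_apply]
    set r₀ : G ⧸ H := QuotientGroup.mk (b * q.out) with hr₀
    have hmem : ∀ r : G ⧸ H, r.out⁻¹ * b * q.out ∈ H ↔ r = r₀ := by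
      intro r
      rw [hr₀, mul_assoc, ← QuotientGroup.eq, QuotientGroup.out_eq']
    rw [Finset.sum_eq_single r₀]
    · have h1 : r₀.out⁻¹ * b * q.out ∈ H := (hmem r₀).2 rfl
      rw [← ext0_mul_right H l _ h1]
      congr 1
      group
    · intro r _ hr
      rw [ext0_of_not_mem H l (g := r.out⁻¹ * b * q.out), mul_zero]
      rw [hmem]
      exact hr
    · intro h
      exact absurd (Finset.mem_univ _) h

theorem monoMat_apply (g : G) (q' q : G ⧸ H) :
    monoMat H l g q' q = ext0 H l (q'.out⁻¹ * g * q.out) := rfl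

theorem trace_monoMat (g : G) :
    (monoMat H l g).trace = ∑ q : G ⧸ H, ext0 H l (q.out⁻¹ * g * q.out) := by
  unfold Matrix.trace
  refine Finset.sum_congr rfl fun q _ => ?_
  rw [Matrix.diag_apply, monoMat_apply]

end Mono

section RealK

variable (K : Type u) [Field K] (G : Type w) [Group G]

/-- `ψ` is the character of a representation over `K` on a module in `Type v` -/
def RealK (ψ : G → K) : Prop :=
  ∃ (V : Type v) (_ : AddCommGroup V) (_ : Module K V) (_ : FiniteDimensional K V)
    (ρ : Representation K G V), ∀ g, ρ.character g = ψ g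

variable {K G}

theorem realK_zero : RealK.{u, v, w} K G (0 : G → K) := by
  refine ⟨PUnit.{v + 1}, inferInstance, inferInstance, inferInstance, 1, ?_⟩
  intro g
  unfold Representation.character
  have : ((1 : Representation K G PUnit.{v + 1}) g) = 0 := Subsingleton.elim _ _
  rw [this, map_zero]
  rfl

theorem realK_add {ψ₁ ψ₂ : G → K} (h₁ : RealK.{u, v, w} K G ψ₁) (h₂ : RealK.{u, v, w} K G ψ₂) :
    RealK.{u, v, w} K G (ψ₁ + ψ₂) := by
  obtain ⟨V₁, _, _, _, ρ₁, hρ₁⟩ := h₁
  obtain ⟨V₂, _, _, _, ρ₂, hρ₂⟩ := h₂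
  refine ⟨V₁ × V₂, inferInstance, inferInstance, inferInstance, ρ₁.prod ρ₂, ?_⟩
  intro g
  unfold Representation.character at hρ₁ hρ₂ ⊢
  rw [Pi.add_apply, ← hρ₁ g, ← hρ₂ g]
  exact LinearMap.trace_prodMap' (ρ₁ g) (ρ₂ g)

theorem realK_nsmul {ψ : G → K} (h : RealK.{u, v, w} K G ψ) (n : ℕ) :
    RealK.{u, v, w} K G (n • ψ) := by
  induction n with
  | zero =>
    rw [zero_smul]
    exact realK_zero
  | succ n ih =>
    rw [succ_nsmul]
    exact realK_add ih h

/-- a matrix representation gives a representation -/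
noncomputable def repOfMat {ι : Type v} [Fintype ι] [DecidableEq ι] (M : G →* Matrix ι ι K) :
    Representation K G (ι → K) where
  toFun g := Matrix.toLin' (M g)
  map_one' := by rw [map_one, Matrix.toLin'_one]; rfl
  map_mul' a b := by rw [map_mul, Matrix.toLin'_mul]; rfl

theorem repOfMat_character {ι : Type v} [Fintype ι] [DecidableEq ι] (M : G →* Matrix ι ι K)
    (g : G) : (repOfMat M).character g = (M g).trace := by
  unfold Representation.character
  show LinearMap.trace K _ (Matrix.toLin' (M g)) = _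
  rw [Matrix.trace_toLin'_eq]

theorem realK_of_mat {ι : Type v} [Fintype ι] [DecidableEq ι] (M : G →* Matrix ι ι K) :
    RealK.{u, max u v, w} K G (fun g => (M g).trace) :=
  ⟨ι → K, inferInstance, inferInstance, inferInstance, repOfMat M, repOfMat_character M⟩

end RealK

end Cfsg.Agent.Lib.Helper7.BSF
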