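import Mathlib
import Cfsg.Prelude.Def_Characters
import Cfsg.Agent.Lib.Helper7.BSF2
import Cfsg.Agent.Lib.Helper1.IndFun
import Cfsg.Agent.Lib.Helper1.CharFound6
import Cfsg.Agent.Lib.Helper4.Characters
import Cfsg.Agent.Lib.Helper5.BorelInd

set_option autoImplicit false

/-! Bridging representations over a subfield `K` of `ℂ` with complex characters. -/

namespace Cfsg.Agent.Lib.Helper7.BSF

open Module Representation Cfsg Cfsg.Agent.Lib.Helper1 Cfsg.Agent.Lib.Helper4
open scoped ComplexConjugate

universe u v w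

section Bridge

variable {K : Type u} [Field K] (ι : K →+* ℂ) {G : Type w} [Group G]

/-- matrices of an abstract representation -/
noncomputable def matOf {V : Type v} [AddCommGroup V] [Module K V] [FiniteDimensional K V]
    (ρ : Representation K G V) :
    G →* Matrix (Fin (finrank K V)) (Fin (finrank K V)) K where
  toFun g := LinearMap.toMatrix (Module.finBasis K V) (Module.finBasis K V) (ρ g)
  map_one' := by rw [map_one, Module.End.one_eq_id, LinearMap.toMatrix_id]
  map_mul' a b := by
    rw [map_mul, Module.End.mul_eq_comp,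
      LinearMap.toMatrix_comp (Module.finBasis K V) (Module.finBasis K V) (Module.finBasis K V)]

theorem trace_matOf {V : Type v} [AddCommGroup V] [Module K V] [FiniteDimensional K V]
    (ρ : Representation K G V) (g : G) : (matOf ρ g).trace = ρ.character g :=
  (LinearMap.trace_eq_matrix_trace K (Module.finBasis K V) (ρ g)).symm

/-- base change of a matrix representation to `ℂ` -/
noncomputable def repC {d : ℕ} (M : G →* Matrix (Fin d) (Fin d) K) :
    Representation ℂ G (Fin d → ℂ) where
  toFun g := Matrix.toLin' ((M g).map ι)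
  map_one' := by
    rw [map_one, Matrix.map_one _ (map_zero ι) (map_one ι), Matrix.toLin'_one]
    rfl
  map_mul' a b := by
    rw [map_mul, Matrix.map_mul, Matrix.toLin'_mul]
    rfl

theorem repC_apply {d : ℕ} (M : G →* Matrix (Fin d) (Fin d) K) (g : G) :
    repC ι M g = Matrix.toLin' ((M g).map ι) := rfl

theorem toMatrix'_repC {d : ℕ} (M : G →* Matrix (Fin d) (Fin d) K) (g : G) :
    LinearMap.toMatrix' (repC ι M g) = (M g).map ι := by
  rw [repC_apply, LinearMap.toMatrix'_toLin']

theorem repC_character {d : ℕ} (M : G →* Matrix (Fin d) (Fin d) K) (g : G) :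
    (repC ι M).character g = ι ((M g).trace) := by
  unfold Representation.character
  rw [repC_apply, Matrix.trace_toLin'_eq]
  exact (AddMonoidHom.map_trace ι.toAddMonoidHom _).symm

end Bridge

section Nat

variable {K : Type u} [Field K] (ι : K →+* ℂ) {G : Type w} [Group G] [Fintype G]

/-- multiplicities of a complex character against representations over `K` are natural -/
theorem hnat_of_isCharacter {χ : G → ℂ} (hχ : IsCharacter G χ) (χK : G → K)
    (hχK : ∀ g, ι (χK g) = χ g)
    (W : Type v) [AddCommGroup W] [Module K W] [FiniteDimensional K W]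
    (σ : Representation K G W) :
    ∃ n : ℕ, (Nat.card G : K)⁻¹ * ∑ g : G, σ.character g⁻¹ * χK g = n := by
  classical
  set ψ : G → ℂ := (repC ι (matOf σ)).character with hψ
  have hψc : IsCharacter G ψ := ⟨_, repC ι (matOf σ), rfl⟩
  obtain ⟨n, hn⟩ := classInner_char_nat hχ hψc
  refine ⟨n, ?_⟩
  apply ι.injective
  rw [map_mul, map_inv₀, map_natCast, map_natCast, map_sum, ← hn]
  unfold classInner
  congr 1
  refine Finset.sum_congr rfl fun g _ => ?_
  rw [map_mul, hχK, hψ, ← character_inv, repC_character, trace_matOf, mul_comm]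

end Nat

section Lift

variable {K : Type u} [Field K] (ι : K →+* ℂ)

theorem exists_lift_hom {E : Type*} [Group E] (lam : E →* ℂˣ)
    (h : ∀ e, ∃ k : K, ι k = ((lam e : ℂˣ) : ℂ)) :
    ∃ l : E →* K, ∀ e, ι (l e) = ((lam e : ℂˣ) : ℂ) := by
  choose f hf using h
  refine ⟨⟨⟨f, ?_⟩, ?_⟩, hf⟩
  · apply ι.injective
    rw [hf, map_one, map_one, Units.val_one]
  · intro a b
    apply ι.injective
    rw [map_mul, hf, hf, hf, map_mul, Units.val_mul]

end Lift

section Ind

variable {K : Type u} [Field K] (ι : K →+* ℂ) {G : Type w} [Group G] [Fintype G]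

theorem indFun_eq_trace (E : Subgroup G) [Fintype (G ⧸ E)] [DecidableEq (G ⧸ E)] (l : E →* K)
    (g : G) : Cfsg.indFun E (fun e => ι (l e)) g = ι ((monoMat E l g).trace) := by
  classical
  have hθ : ∀ h k : E, (fun e : E => ι (l e)) (h⁻¹ * k * h) = (fun e : E => ι (l e)) k := by
    intro h k
    show ι (l (h⁻¹ * k * h)) = ι (l k)
    congr 1
    rw [map_mul, map_mul, mul_comm (l h⁻¹), mul_assoc, ← map_mul, inv_mul_cancel, map_one, mul_one]
  have hbij : Function.Bijective (fun p : (G ⧸ E) × E => (Quotient.out p.1 : G) * (p.2 : G)) := by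
    constructor
    · rintro ⟨q, h⟩ ⟨q', h'⟩ hqq
      have hqq' : (Quotient.out q : G) * (h : G) = (Quotient.out q' : G) * (h' : G) := hqq
      have h1 : q = q' := by
        rw [← out_inv_mul_out_mem_iff E]
        have : (Quotient.out q : G)⁻¹ * (Quotient.out q' : G) = (h : G) * (h' : G)⁻¹ := by
          rw [eq_mul_inv_iff_mul_eq, mul_assoc, ← hqq', inv_mul_cancel_left]
        rw [this]
        exact E.mul_mem h.2 (E.inv_mem h'.2)
      subst h1
      have h2 : (h : G) = (h' : G) := mul_left_cancel hqq'
      rw [Subtype.ext h2]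
    · intro x
      obtain ⟨h, hh⟩ := QuotientGroup.mk_out_eq_mul E x
      refine ⟨(QuotientGroup.mk x, h⁻¹), ?_⟩
      show (Quotient.out (QuotientGroup.mk x : G ⧸ E) : G) * ((h⁻¹ : E) : G) = x
      rw [hh, Subgroup.coe_inv, mul_inv_cancel_right]
  rw [Cfsg.Agent.Lib.Helper5.indFun_eq_sum_transversal E _ hθ (fun q : G ⧸ E => Quotient.out q) hbij g,
    trace_monoMat, map_sum]
  refine Finset.sum_congr rfl fun q _ => ?_
  by_cases hm : (Quotient.out q : G)⁻¹ * g * Quotient.out q ∈ E
  · rw [extendByZero_of_mem E _ hm, ext0_of_mem E l hm]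
  · rw [extendByZero_of_notMem E _ hm, ext0_of_not_mem E l hm, map_zero]

end Ind

end Cfsg.Agent.Lib.Helper7.BSF
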