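import Mathlib
import Cfsg.Prelude.Def_Characters
import Cfsg.Agent.Lib.Helper7.BSF3
import Cfsg.Agent.S0163

set_option autoImplicit false

/-! Every complex character is afforded by a representation over any subfield of `ℂ` containing
the values of all linear characters of subgroups. -/

namespace Cfsg.Agent.Lib.Helper7.BSF

open Module Representation Cfsg Cfsg.Agent.Lib.Helper1 Cfsg.Agent.Lib.Helper4
open scoped ComplexConjugate

universe u w

section Main

variable {K : Type u} [Field K] [CharZero K] (ι : K →+* ℂ) {G : Type w} [Group G] [Fintype G]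

theorem exists_parts
    (hK : ∀ (E : Subgroup G) (lam : E →* ℂˣ) (e : E), ∃ k : K, ι k = ((lam e : ℂˣ) : ℂ))
    (L : List ((E : Subgroup G) × ((E →* ℂˣ) × ℤ))) :
    ∃ ψp ψm : G → K, RealK.{u, max u w, w} K G ψp ∧ RealK.{u, max u w, w} K G ψm ∧
      ∀ g, (L.map fun t => (t.2.2 : ℂ) • Cfsg.indFun t.1 (fun e => ((t.2.1 e : ℂˣ) : ℂ))).sum g =
        ι (ψp g) - ι (ψm g) := by
  classical
  induction L with
  | nil =>
    refine ⟨0, 0, realK_zero, realK_zero, ?_⟩
    intro g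
    simp
  | cons t L ih =>
    obtain ⟨ψp, ψm, hp, hm, hsum⟩ := ih
    obtain ⟨E, lam, a⟩ := t
    haveI : Fintype (G ⧸ E) := Fintype.ofFinite _
    obtain ⟨l, hl⟩ := exists_lift_hom ι lam (hK E lam)
    set φ : G → K := fun g => (monoMat E l g).trace with hφ
    have hφR : RealK.{u, max u w, w} K G φ := realK_of_mat (monoMat E l)
    have hind : ∀ g, Cfsg.indFun E (fun e => ((lam e : ℂˣ) : ℂ)) g = ι (φ g) := by
      intro g
      have h1 : (fun e : E => ((lam e : ℂˣ) : ℂ)) = fun e => ι (l e) := funext fun e => (hl e).symm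
      rw [h1]
      exact indFun_eq_trace ι E l g
    obtain ⟨n, hn | hn⟩ := Int.eq_nat_or_neg a
    · refine ⟨ψp + n • φ, ψm, realK_add hp (realK_nsmul hφR n), hm, ?_⟩
      intro g
      rw [List.map_cons, List.sum_cons, Pi.add_apply, hsum g]
      show ((a : ℂ) • Cfsg.indFun E (fun e => ((lam e : ℂˣ) : ℂ))) g + _ = _
      rw [Pi.smul_apply, hind g, hn, Pi.add_apply, Pi.smul_apply, map_add, map_nsmul]
      simp only [smul_eq_mul, nsmul_eq_mul, Int.cast_natCast]
      ring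
    · refine ⟨ψp, ψm + n • φ, hp, realK_add hm (realK_nsmul hφR n), ?_⟩
      intro g
      rw [List.map_cons, List.sum_cons, Pi.add_apply, hsum g]
      show ((a : ℂ) • Cfsg.indFun E (fun e => ((lam e : ℂˣ) : ℂ))) g + _ = _
      rw [Pi.smul_apply, hind g, hn, Pi.add_apply, Pi.smul_apply, map_add, map_nsmul]
      simp only [smul_eq_mul, nsmul_eq_mul, Int.cast_neg, Int.cast_natCast]
      ring

theorem realizable {χ : G → ℂ} (hχ : IsCharacter G χ)
    (hK : ∀ (E : Subgroup G) (lam : E →* ℂˣ) (e : E), ∃ k : K, ι k = ((lam e : ℂˣ) : ℂ)) :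
    ∃ (d : ℕ) (M : G →* Matrix (Fin d) (Fin d) K), ∀ g, ι ((M g).trace) = χ g := by
  classical
  obtain ⟨L, -, hL⟩ := Cfsg.Agent.S0163.result χ hχ
  obtain ⟨ψp, ψm, hp, hm, hsum⟩ := exists_parts ι hK L
  set χK : G → K := fun g => ψp g - ψm g with hχKdef
  have hχK : ∀ g, ι (χK g) = χ g := by
    intro g
    rw [hχKdef, map_sub, ← hsum g, ← hL]
  obtain ⟨V₁, _, _, _, ρ₁, hρ₁⟩ := hp
  obtain ⟨V₂, _, _, _, ρ₂, hρ₂⟩ := hm
  have hchar : ∀ g, ρ₁.character g = χK g + ρ₂.character g := by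
    intro g
    rw [hρ₁ g, hρ₂ g, hχKdef]
    ring
  obtain ⟨V, _, _, _, ρ, hρ⟩ := cancel_aux χK
    (fun W _ _ _ σ => hnat_of_isCharacter ι hχ χK hχK W σ) (finrank K V₂) V₁ V₂ ρ₁ ρ₂ rfl hchar
  refine ⟨finrank K V, matOf ρ, ?_⟩
  intro g
  rw [trace_matOf, hρ g, hχK g]

end Main

end Cfsg.Agent.Lib.Helper7.BSF
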