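import Mathlib

set_option autoImplicit false

/-!
# Local structure: `P ≤ C ≤ N` with `|C| = 2|P|`, `|N| = 4|P|`
-/

namespace Cfsg.Agent.Lib.Helper7.BSW

variable {G : Type*} [Group G]

/-- membership calculus for a subgroup of relative index two. -/
theorem mul_mem_iff_of_card_two [Finite G] {H K : Subgroup G} (hHK : H ≤ K)
    (hcard : Nat.card K = 2 * Nat.card H) {a b : G} (ha : a ∈ K) (hb : b ∈ K) :
    a * b ∈ H ↔ (a ∈ H ↔ b ∈ H) := by
  have h1 : Nat.card (H.subgroupOf K) = Nat.card H :=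
    Nat.card_congr (Subgroup.subgroupOfEquivOfLe hHK).toEquiv
  have h2 := Subgroup.card_mul_index (H.subgroupOf K)
  rw [h1, hcard] at h2
  have hpos : 0 < Nat.card H := Nat.card_pos
  have h3 : (H.subgroupOf K).index = 2 := by
    have : Nat.card H * (H.subgroupOf K).index = Nat.card H * 2 := by rw [h2]; ring
    exact Nat.eq_of_mul_eq_mul_left hpos this
  have h4 := Subgroup.mul_mem_iff_of_index_two h3 (a := (⟨a, ha⟩ : K)) (b := ⟨b, hb⟩)
  simpa [Subgroup.mem_subgroupOf] using h4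

/-- the basic local data. -/
structure Base (P C N : Subgroup G) (m : ℕ) : Prop where
  hPC : P ≤ C
  hCN : C ≤ N
  cardP : Nat.card P = m
  cardC : Nat.card C = 2 * m
  cardN : Nat.card N = 4 * m
  hodd : Odd m
  centP : ∀ c ∈ C, ∀ p ∈ P, c * p = p * c
  normP : ∀ n ∈ N, ∀ p ∈ P, n * p * n⁻¹ ∈ P
  normC : ∀ n ∈ N, ∀ c ∈ C, n * c * n⁻¹ ∈ C
  ti : ∀ g a : G, a ∈ C → a ≠ 1 → g * a * g⁻¹ ∈ C → g ∈ N

variable {P C N : Subgroup G} {m : ℕ}

theorem Base.idxP [Finite G] (h : Base P C N m) {a b : G} (ha : a ∈ C) (hb : b ∈ C) :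
    a * b ∈ P ↔ (a ∈ P ↔ b ∈ P) :=
  mul_mem_iff_of_card_two h.hPC (by rw [h.cardC, h.cardP]) ha hb

theorem Base.idxC [Finite G] (h : Base P C N m) {a b : G} (ha : a ∈ N) (hb : b ∈ N) :
    a * b ∈ C ↔ (a ∈ C ↔ b ∈ C) :=
  mul_mem_iff_of_card_two h.hCN (by rw [h.cardN, h.cardC]; ring) ha hb

/-- `C` is abelian. -/
theorem Base.comm [Finite G] (h : Base P C N m) {a b : G} (ha : a ∈ C) (hb : b ∈ C) :
    a * b = b * a := by
  by_cases haP : a ∈ P
  · exact (h.centP b hb a haP).symm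
  · by_cases hbP : b ∈ P
    · exact h.centP a ha b hbP
    · have hab : a * b ∈ P := (h.idxP ha hb).2 ⟨fun h' => absurd h' haP, fun h' => absurd h' hbP⟩
      -- b = a⁻¹ * (a * b)
      have h1 : a⁻¹ * (a * b) = (a * b) * a⁻¹ := h.centP a⁻¹ (C.inv_mem ha) (a * b) hab
      have h2 : b = a * b * a⁻¹ := by
        rw [← h1]; group
      calc a * b = a * b * a⁻¹ * a := by group
        _ = b * a := by rw [← h2]

/-- elements of `P` of order two are trivial. -/
theorem Base.eq_one_of_sq [Finite G] (h : Base P C N m) {x : G} (hx : x ∈ P) (hx2 : x * x = 1) :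
    x = 1 := by
  have h1 : (⟨x, hx⟩ : P) ^ m = 1 := by
    rw [← h.cardP]
    exact pow_card_eq_one'
  have h2 : x ^ m = 1 := by
    have := congrArg Subtype.val h1
    simpa using this
  obtain ⟨k, hk⟩ := h.hodd
  rw [hk, pow_succ, pow_mul, pow_two, hx2, one_pow, one_mul] at h2
  exact h2

/-- an element of `C` of odd order dividing `m` lies in `P`. -/
theorem Base.mem_P_of_pow [Finite G] (h : Base P C N m) {x : G} (hx : x ∈ C) (hxm : x ^ m = 1) :
    x ∈ P := by
  have h1 : x * x ∈ P := (h.idxP hx hx).2 Iff.rfl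
  obtain ⟨k, hk⟩ := h.hodd
  have h2 : x = (x * x) ^ (k + 1) * (x ^ m)⁻¹ := by
    rw [hk, ← pow_two, ← pow_mul]
    have : 2 * (k + 1) = (2 * k + 1) + 1 := by ring
    rw [this, pow_succ (x) (2 * k + 1)]
    group
  rw [h2, hxm, inv_one, mul_one]
  exact P.pow_mem h1 _

/-- existence of the involution. -/
theorem Base.exists_involution [Finite G] (h : Base P C N m) :
    ∃ z ∈ C, z ≠ 1 ∧ z * z = 1 := by
  haveI : Fact (Nat.Prime 2) := ⟨Nat.prime_two⟩
  have h2 : 2 ∣ Nat.card C := by rw [h.cardC]; exact dvd_mul_right 2 m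
  obtain ⟨x, hx⟩ := exists_prime_orderOf_dvd_card' 2 h2
  refine ⟨x, x.2, ?_, ?_⟩
  · intro h1
    have : x = 1 := Subtype.ext h1
    rw [this, orderOf_one] at hx
    norm_num at hx
  · have := pow_orderOf_eq_one x
    rw [hx, pow_two] at this
    exact congrArg Subtype.val this

/-- uniqueness of the involution. -/
theorem Base.involution_unique [Finite G] (h : Base P C N m) {z u : G} (hz : z ∈ C) (hz1 : z ≠ 1)
    (hz2 : z * z = 1) (hu : u ∈ C) (hu2 : u * u = 1) : u = 1 ∨ u = z := by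
  by_cases hu1 : u = 1
  · exact Or.inl hu1
  · right
    have hzP : z ∉ P := fun hzP => hz1 (h.eq_one_of_sq hzP hz2)
    have huP : u ∉ P := fun huP => hu1 (h.eq_one_of_sq huP hu2)
    have huz : u * z ∈ P := (h.idxP hu hz).2 ⟨fun h' => absurd h' huP, fun h' => absurd h' hzP⟩
    have hsq : (u * z) * (u * z) = 1 := by
      have hc := h.comm hu hz
      calc (u * z) * (u * z) = u * (z * u) * z := by group
        _ = u * (u * z) * z := by rw [hc]
        _ = (u * u) * (z * z) := by group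
        _ = 1 := by rw [hu2, hz2, one_mul]
    have h1 := h.eq_one_of_sq huz hsq
    have h2 : u = z⁻¹ := eq_inv_of_mul_eq_one_left h1
    rw [h2]
    exact inv_eq_of_mul_eq_one_left hz2

/-- the centralizer of the involution is `N`. -/
theorem Base.cent_z [Finite G] (h : Base P C N m) {z : G} (hz : z ∈ C) (hz1 : z ≠ 1)
    (hz2 : z * z = 1) (g : G) : g * z = z * g ↔ g ∈ N := by
  constructor
  · intro hg
    apply h.ti g z hz hz1
    rw [hg, mul_assoc, mul_inv_cancel, mul_one]
    exact hz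
  · intro hg
    have h1 : g * z * g⁻¹ ∈ C := h.normC g hg z hz
    have h2 : (g * z * g⁻¹) * (g * z * g⁻¹) = 1 := by
      calc (g * z * g⁻¹) * (g * z * g⁻¹) = g * (z * z) * g⁻¹ := by group
        _ = 1 := by rw [hz2]; group
    rcases h.involution_unique hz hz1 hz2 h1 h2 with h3 | h3
    · exfalso
      apply hz1
      have : z = g⁻¹ * (g * z * g⁻¹) * g := by group
      rw [this, h3]; group
    · calc g * z = (g * z * g⁻¹) * g := by group
        _ = z * g := by rw [h3]

end Cfsg.Agent.Lib.Helper7.BSW
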