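import Mathlib
import Cfsg.Prelude.Def_OddOrderLocal
import Cfsg.Agent.Lib.Helper7.BSW9

set_option autoImplicit false

/-!
# From the hypotheses on the Sylow 3-subgroup to the local data
-/

namespace Cfsg.Agent.Lib.Helper7.BSW

variable {G : Type*} [Group G] [Finite G]

theorem mem_of_pow_of_card_two {H K : Subgroup G} (hHK : H ≤ K)
    (hcard : Nat.card K = 2 * Nat.card H) (hodd : Odd (Nat.card H)) {x : G} (hx : x ∈ K)
    (hxm : x ^ Nat.card H = 1) : x ∈ H := by
  have h1 : x * x ∈ H := (mul_mem_iff_of_card_two hHK hcard hx hx).2 Iff.rfl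
  obtain ⟨k, hk⟩ := hodd
  have h2 : x = (x * x) ^ (k + 1) * (x ^ Nat.card H)⁻¹ := by
    rw [hk, ← pow_two, ← pow_mul]
    have : 2 * (k + 1) = (2 * k + 1) + 1 := by ring
    rw [this, pow_succ (x) (2 * k + 1)]
    group
  rw [h2, hxm, inv_one, mul_one]
  exact H.pow_mem h1 _

theorem sylow_three_card_odd (P : Sylow 3 G) : Odd (Nat.card P) := by
  haveI : Fact (Nat.Prime 3) := ⟨Nat.prime_three⟩
  rw [Sylow.card_eq_multiplicity]
  exact Odd.pow (by decide)

theorem base_of_hyp (P : Sylow 3 G) (hab : IsMulCommutative P)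
    (hN : Nat.card (Subgroup.normalizer ((P : Subgroup G) : Set G)) = 4 * Nat.card P)
    (hC : Nat.card (Subgroup.centralizer (P : Set G)) = 2 * Nat.card P)
    (hTI : Cfsg.IsTISubset (Subgroup.centralizer (P : Set G) : Set G)) :
    Base (P : Subgroup G) (Subgroup.centralizer (P : Set G))
      (Subgroup.normalizer ((P : Subgroup G) : Set G)) (Nat.card P) := by
  have hPC : (P : Subgroup G) ≤ Subgroup.centralizer (P : Set G) := by
    haveI : IsMulCommutative (P : Subgroup G) := hab
    exact Subgroup.le_centralizer (H := (P : Subgroup G))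
  have hoddP := sylow_three_card_odd P
  have hnormC : ∀ n ∈ Subgroup.normalizer ((P : Subgroup G) : Set G),
      ∀ c ∈ Subgroup.centralizer (P : Set G), n * c * n⁻¹ ∈ Subgroup.centralizer (P : Set G) := by
    intro n hn c hc
    rw [Subgroup.mem_centralizer_iff] at hc ⊢
    intro p hp
    have hp' : n⁻¹ * p * n ∈ (P : Subgroup G) := by
      rw [Subgroup.mem_normalizer_iff''] at hn
      exact (hn p).1 hp
    have h1 := hc (n⁻¹ * p * n) hp'
    calc p * (n * c * n⁻¹) = n * ((n⁻¹ * p * n) * c) * n⁻¹ := by group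
      _ = n * (c * (n⁻¹ * p * n)) * n⁻¹ := by rw [h1]
      _ = n * c * n⁻¹ * p := by group
  refine ⟨hPC, Subgroup.centralizer_le_normalizer _, rfl, hC, hN, hoddP, ?_, ?_, hnormC, ?_⟩
  · intro c hc p hp
    rw [Subgroup.mem_centralizer_iff] at hc
    exact (hc p hp).symm
  · intro n hn p hp
    rw [Subgroup.mem_normalizer_iff] at hn
    exact (hn p).1 hp
  · intro g a ha ha1 hga
    have hg : g ∈ Subgroup.normalizer ((Subgroup.centralizer (P : Set G) : Subgroup G) : Set G) := by
      by_contra hcon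
      exact ha1 (hTI g hcon a ha hga)
    apply Subgroup.mem_normalizer_fintype
    intro p hp
    have hp' : p ∈ (P : Subgroup G) := hp
    have h1 : g * p * g⁻¹ ∈ Subgroup.centralizer (P : Set G) := by
      rw [Subgroup.mem_normalizer_iff] at hg
      exact (hg p).1 (hPC hp')
    have h2 : (g * p * g⁻¹) ^ Nat.card (P : Subgroup G) = 1 := by
      rw [conj_pow]
      have : (⟨p, hp'⟩ : (P : Subgroup G)) ^ Nat.card (P : Subgroup G) = 1 := pow_card_eq_one'
      have h3 : p ^ Nat.card (P : Subgroup G) = 1 := by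
        have h4 := congrArg Subtype.val this
        rw [SubmonoidClass.coe_pow] at h4
        exact h4
      rw [h3]; group
    exact mem_of_pow_of_card_two hPC hC hoddP h1 h2

end Cfsg.Agent.Lib.Helper7.BSW
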