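import Mathlib

set_option autoImplicit false

/-!
# Sylow lemmas and fusion in an elementary abelian group of order four
-/

namespace Cfsg.Agent.Lib.Helper7.BSW

variable {G : Type*} [Group G]

/-- a `p`-element normalizing a Sylow `p`-subgroup lies in it. -/
theorem mem_sylow_of_mem_normalizer {p : ℕ} [Fact p.Prime] (Q : Sylow p G) {x : G}
    (hx : x ∈ Subgroup.normalizer ((Q : Subgroup G) : Set G)) {j : ℕ} (hxp : x ^ (p ^ j) = 1) :
    x ∈ (Q : Subgroup G) := by
  have h1 : IsPGroup p (Subgroup.zpowers x) := by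
    intro y
    obtain ⟨y, hy⟩ := y
    obtain ⟨i, rfl⟩ := Subgroup.mem_zpowers_iff.mp hy
    refine ⟨j, ?_⟩
    apply Subtype.ext
    push_cast
    rw [← zpow_natCast, ← zpow_mul, mul_comm, zpow_mul, zpow_natCast, hxp, one_zpow]
  have h2 : Subgroup.zpowers x ≤ Subgroup.normalizer ((Q : Subgroup G) : Set G) := by
    rw [Subgroup.zpowers_le]
    exact hx
  have h3 := IsPGroup.to_sup_of_normal_right' h1 Q.isPGroup' h2
  have h4 := Q.is_maximal' h3 le_sup_right
  have h5 : Subgroup.zpowers x ≤ (Q : Subgroup G) := by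
    have : Subgroup.zpowers x ≤ Subgroup.zpowers x ⊔ (Q : Subgroup G) := le_sup_left
    rw [h4] at this
    exact this
  exact h5 (Subgroup.mem_zpowers x)

/-- an odd power of an element normalizing a Sylow 2-subgroup lies in it. -/
theorem exists_odd_pow_mem [Finite G] (S : Sylow 2 G) {g : G}
    (hg : g ∈ Subgroup.normalizer ((S : Subgroup G) : Set G)) :
    ∃ k : ℕ, Odd k ∧ g ^ k ∈ (S : Subgroup G) := by
  haveI : Fact (Nat.Prime 2) := ⟨Nat.prime_two⟩
  have hn : orderOf g ≠ 0 := (orderOf_pos g).ne'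
  obtain ⟨j, k, hk, hjk⟩ := Nat.exists_eq_two_pow_mul_odd hn
  refine ⟨k, hk, ?_⟩
  apply mem_sylow_of_mem_normalizer S (Subgroup.pow_mem _ hg k) (j := j)
  rw [← pow_mul, mul_comm, ← hjk, pow_orderOf_eq_one]

section Four

variable {S : Subgroup G}

theorem four_elements (hS4 : Nat.card S = 4) {z t : G} (hz : z ∈ S) (ht : t ∈ S)
    (hz1 : z ≠ 1) (ht1 : t ≠ 1) (htz : t ≠ z) (hz2 : z * z = 1) {s : G} (hs : s ∈ S) :
    s = 1 ∨ s = z ∨ s = t ∨ s = z * t := by
  classical
  by_contra hcon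
  push Not at hcon
  obtain ⟨h1, h2, h3, h4⟩ := hcon
  have hzt1 : z * t ≠ 1 := by
    intro h
    apply htz
    have : t = z⁻¹ := eq_inv_of_mul_eq_one_right h
    rw [this]
    exact inv_eq_of_mul_eq_one_left hz2
  have hztz : z * t ≠ z := by
    intro h
    exact ht1 (mul_eq_left.mp h)
  have hztt : z * t ≠ t := by
    intro h
    exact hz1 (mul_eq_right.mp h)
  haveI : Finite S := Nat.finite_of_card_ne_zero (by rw [hS4]; norm_num)
  have hsub : ({s, 1, z, t, z * t} : Set G) ⊆ (S : Set G) := by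
    intro x hx
    simp only [Set.mem_insert_iff, Set.mem_singleton_iff] at hx
    rcases hx with rfl | rfl | rfl | rfl | rfl
    · exact hs
    · exact S.one_mem
    · exact hz
    · exact ht
    · exact S.mul_mem hz ht
  have hfin : (S : Set G).Finite := Set.toFinite _
  have hle := Set.ncard_le_ncard hsub hfin
  have hS : (S : Set G).ncard = 4 := by
    rw [← hS4]; rfl
  have h5 : ({s, 1, z, t, z * t} : Set G).ncard = 5 := by
    rw [Set.ncard_insert_of_notMem, Set.ncard_insert_of_notMem, Set.ncard_insert_of_notMem,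
      Set.ncard_insert_of_notMem, Set.ncard_singleton]
    · simp only [Set.mem_singleton_iff]; exact fun h => hztt h.symm
    · simp only [Set.mem_insert_iff, Set.mem_singleton_iff, not_or]
      exact ⟨fun h => htz h.symm, fun h => hztz h.symm⟩
    · simp only [Set.mem_insert_iff, Set.mem_singleton_iff, not_or]
      exact ⟨fun h => hz1 h.symm, fun h => ht1 h.symm, fun h => hzt1 h.symm⟩
    · simp only [Set.mem_insert_iff, Set.mem_singleton_iff, not_or]
      exact ⟨h1, h2, h3, h4⟩
  rw [hS, h5] at hle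
  omega

/-- if `g ^ 2` and an odd power of `g` commute with `s` then so does `g`. -/
theorem commute_of_sq_of_odd {g s : G} {k : ℕ} (hk : Odd k) (h2 : Commute (g ^ 2) s)
    (hks : Commute (g ^ k) s) : Commute g s := by
  obtain ⟨j, rfl⟩ := hk
  have h3 : g = ((g ^ 2) ^ j)⁻¹ * g ^ (2 * j + 1) := by
    rw [← pow_mul, pow_succ]; group
  rw [h3]
  exact ((h2.pow_left j).inv_left).mul_left hks

theorem commute_iff_conj {g s : G} : Commute g s ↔ g * s * g⁻¹ = s := by
  constructor
  · intro h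
    rw [h.eq, mul_assoc, mul_inv_cancel, mul_one]
  · intro h
    show g * s = s * g
    calc g * s = (g * s * g⁻¹) * g := by group
      _ = s * g := by rw [h]

/-- fusion in an elementary abelian group of order four. -/
theorem conj_of_not_centralizing (hS4 : Nat.card S = 4) (hS2 : ∀ s ∈ S, s * s = 1) {z : G}
    (hz : z ∈ S) (hz1 : z ≠ 1) {g : G} (hgN : ∀ s ∈ S, g * s * g⁻¹ ∈ S)
    (hgC : ∃ s ∈ S, g * s * g⁻¹ ≠ s) {k : ℕ} (hk : Odd k)
    (hgk : ∀ s ∈ S, Commute (g ^ k) s) :
    ∀ s ∈ S, s ≠ 1 → ∃ x : G, x * z * x⁻¹ = s := by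
  have hz2 := hS2 z hz
  have hconj_ne_one : ∀ s : G, s ≠ 1 → g * s * g⁻¹ ≠ 1 := by
    intro s hs h
    apply hs
    have : s = g⁻¹ * (g * s * g⁻¹) * g := by group
    rw [this, h]; group
  have hconj_inj : ∀ a b : G, g * a * g⁻¹ = g * b * g⁻¹ → a = b := by
    intro a b h
    have : a = g⁻¹ * (g * a * g⁻¹) * g := by group
    rw [this, h]; group
  have hsq : ∀ s : G, g ^ 2 * s * (g ^ 2)⁻¹ = g * (g * s * g⁻¹) * g⁻¹ := by
    intro s; rw [pow_two]; group
  -- Step A
  have hA : g * z * g⁻¹ ≠ z := by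
    intro hgz
    obtain ⟨t, ht, hgt⟩ := hgC
    have ht1 : t ≠ 1 := by
      intro h; apply hgt; rw [h]; group
    have htz : t ≠ z := by
      intro h; apply hgt; rw [h]; exact hgz
    have h1 := four_elements hS4 hz ht hz1 ht1 htz hz2 (hgN t ht)
    rcases h1 with h | h | h | h
    · exact hconj_ne_one t ht1 h
    · rw [← hgz] at h
      exact htz (hconj_inj _ _ h)
    · exact hgt h
    · have h2 : g ^ 2 * t * (g ^ 2)⁻¹ = t := by
        rw [hsq, h]
        have : g * (z * t) * g⁻¹ = (g * z * g⁻¹) * (g * t * g⁻¹) := by group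
        rw [this, hgz, h, ← mul_assoc, hz2, one_mul]
      have h3 : Commute g t :=
        commute_of_sq_of_odd hk (commute_iff_conj.2 h2) (hgk t ht)
      exact hgt (commute_iff_conj.1 h3)
  -- Step B
  set z' := g * z * g⁻¹ with hz'
  have hz'S : z' ∈ S := hgN z hz
  have hz'1 : z' ≠ 1 := hconj_ne_one z hz1
  set z'' := g * z' * g⁻¹ with hz''
  have hz''S : z'' ∈ S := hgN z' hz'S
  have hz''1 : z'' ≠ 1 := hconj_ne_one z' hz'1
  have hz''z' : z'' ≠ z' := fun h => hA (hconj_inj _ _ h)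
  have hz''z : z'' ≠ z := by
    intro h
    have h2 : g ^ 2 * z * (g ^ 2)⁻¹ = z := by rw [hsq]; exact h
    have h3 : Commute g z := commute_of_sq_of_odd hk (commute_iff_conj.2 h2) (hgk z hz)
    exact hA (commute_iff_conj.1 h3)
  have h4 := four_elements hS4 hz hz'S hz1 hz'1 hA hz2 hz''S
  have hz''eq : z'' = z * z' := by
    rcases h4 with h | h | h | h
    · exact absurd h hz''1
    · exact absurd h hz''z
    · exact absurd h hz''z'
    · exact h
  intro s hs hs1
  rcases four_elements hS4 hz hz'S hz1 hz'1 hA hz2 hs with h | h | h | h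
  · exact absurd h hs1
  · exact ⟨1, by rw [h]; group⟩
  · exact ⟨g, by rw [h]⟩
  · refine ⟨g ^ 2, ?_⟩
    rw [h, ← hz''eq, hsq]

end Four

end Cfsg.Agent.Lib.Helper7.BSW
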