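import Mathlib
import Cfsg.Agent.Lib.Helper7.BSW11

set_option autoImplicit false

/-!
# The Sylow 2-subgroups: order four, elementary abelian, one class of involutions
-/

namespace Cfsg.Agent.Lib.Helper7.BSW

open Subgroup
open scoped Pointwise

variable {G : Type*} [Group G] [Finite G]

theorem mem_smul_sylow_iff' {p : ℕ} {Q : Sylow p G} {x d : G} :
    d ∈ ((x • Q : Sylow p G) : Subgroup G) ↔ x⁻¹ * d * x ∈ (Q : Subgroup G) := by
  show d ∈ MulAut.conj x • (Q : Subgroup G) ↔ _
  rw [Subgroup.mem_pointwise_smul_iff_inv_smul_mem]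
  simp [MulAut.smul_def, map_inv]

/-- the Sylow 2-subgroups have order four. -/
theorem card_sylow_two {m : ℕ} (h4 : 4 ∣ Nat.card G) (hodd : Odd m) (hm1 : 1 < m)
    (hmG : m ∣ Nat.card G)
    (heven : ∀ H : Subgroup G, H ≠ ⊤ → 2 ∣ Nat.card H → Nat.card H ∣ 4 * m) (S : Sylow 2 G) :
    Nat.card S = 4 := by
  haveI : Fact (Nat.Prime 2) := ⟨Nat.prime_two⟩
  have hcard := S.card_eq_multiplicity
  have hG0 : Nat.card G ≠ 0 := Nat.card_pos.ne'
  have h2k : 2 ≤ (Nat.card G).factorization 2 := by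
    have : 2 ^ 2 ∣ Nat.card G := by norm_num; exact h4
    exact (Nat.Prime.pow_dvd_iff_le_factorization Nat.prime_two hG0).1 this
  have h4S : 4 ∣ Nat.card S := by
    rw [hcard]
    have : (4 : ℕ) = 2 ^ 2 := by norm_num
    rw [this]
    exact pow_dvd_pow 2 h2k
  have hne : (S : Subgroup G) ≠ ⊤ := by
    intro htop
    have h1 : Nat.card (S : Subgroup G) = Nat.card G := by
      rw [htop]; exact Subgroup.card_top
    have h2 : m ∣ 2 ^ (Nat.card G).factorization 2 := by
      rw [← hcard]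
      show m ∣ Nat.card (S : Subgroup G)
      rw [h1]; exact hmG
    have h3 : Nat.Coprime m (2 ^ (Nat.card G).factorization 2) :=
      Nat.Coprime.pow_right _ (Nat.Coprime.symm (Nat.coprime_two_left.mpr hodd))
    have := Nat.Coprime.eq_one_of_dvd h3 h2
    omega
  have h2S : 2 ∣ Nat.card (S : Subgroup G) := dvd_trans (by norm_num) h4S
  have h5 := heven S hne h2S
  have h6 : Nat.card (S : Subgroup G) ∣ 4 := by
    apply Nat.Coprime.dvd_of_dvd_mul_right _ h5
    show Nat.Coprime (Nat.card S) m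
    rw [hcard]
    exact Nat.Coprime.pow_left _ (Nat.coprime_two_left.mpr hodd)
  exact Nat.dvd_antisymm h6 h4S

/-- Burnside's transfer theorem excludes `N(S) ≤ C(S)` in a simple group. -/
theorem burnside_contra [IsSimpleGroup G] (S : Sylow 2 G) (hS4 : Nat.card S = 4)
    (hG : Nat.card G ≠ 4) :
    ¬ normalizer ((S : Subgroup G) : Set G) ≤ centralizer ((S : Subgroup G) : Set G) := by
  haveI : Fact (Nat.Prime 2) := ⟨Nat.prime_two⟩
  intro hP
  have hcomp := MonoidHom.ker_transferSylow_isComplement' S hP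
  have hcard := hcomp.card_mul_card
  have hn : (MonoidHom.transferSylow S hP).ker.Normal := MonoidHom.normal_ker _
  rcases hn.eq_bot_or_eq_top with h | h
  · rw [h, Subgroup.card_bot, one_mul] at hcard
    apply hG
    rw [← hcard]
    exact hS4
  · rw [h, Subgroup.card_top] at hcard
    have h1 : Nat.card (S : Subgroup G) = 4 := hS4
    have hpos : 0 < Nat.card G := Nat.card_pos
    rw [h1] at hcard
    nlinarith

/-- the Sylow 2-subgroup is elementary abelian. -/
theorem sylow_two_sq [IsSimpleGroup G] (S : Sylow 2 G) (hS4 : Nat.card S = 4)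
    (hG : Nat.card G ≠ 4) : ∀ s ∈ (S : Subgroup G), s * s = 1 := by
  haveI : Fact (Nat.Prime 2) := ⟨Nat.prime_two⟩
  have hncyc : ¬ IsCyclic (S : Subgroup G) := by
    intro hcyc
    have h2 : 2 ∣ Nat.card G := by
      have := Subgroup.card_subgroup_dvd_card (S : Subgroup G)
      have h4 : Nat.card (S : Subgroup G) = 4 := hS4
      rw [h4] at this
      exact dvd_trans (by norm_num) this
    have hmin : (Nat.card G).minFac = 2 := (Nat.minFac_eq_two_iff _).2 h2
    exact burnside_contra S hS4 hG (IsCyclic.normalizer_le_centralizer hmin hcyc)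
  intro s hs
  have h1 : orderOf (⟨s, hs⟩ : (S : Subgroup G)) ∣ 4 := by
    have := orderOf_dvd_natCard (⟨s, hs⟩ : (S : Subgroup G))
    have h4 : Nat.card (S : Subgroup G) = 4 := hS4
    rwa [h4] at this
  have h2 : orderOf (⟨s, hs⟩ : (S : Subgroup G)) ≠ 4 := by
    intro h
    apply hncyc
    apply isCyclic_of_orderOf_eq_card (⟨s, hs⟩ : (S : Subgroup G))
    rw [h]
    exact hS4.symm
  have h3 : orderOf (⟨s, hs⟩ : (S : Subgroup G)) ∣ 2 := by
    have hle : orderOf (⟨s, hs⟩ : (S : Subgroup G)) ≤ 4 := Nat.le_of_dvd (by norm_num) h1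
    interval_cases h : orderOf (⟨s, hs⟩ : (S : Subgroup G))
    · norm_num at h1
    · norm_num
    · norm_num
    · norm_num at h1
    · exact absurd rfl h2
  have h4 : (⟨s, hs⟩ : (S : Subgroup G)) ^ 2 = 1 := orderOf_dvd_iff_pow_eq_one.mp h3
  have h5 := congrArg Subtype.val h4
  rw [SubmonoidClass.coe_pow, pow_two] at h5
  exact h5

/-- the nonidentity elements of the Sylow 2-subgroup are conjugate. -/
theorem sylow_two_conj [IsSimpleGroup G] (S : Sylow 2 G) (hS4 : Nat.card S = 4)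
    (hG : Nat.card G ≠ 4) {z : G} (hz : z ∈ (S : Subgroup G)) (hz1 : z ≠ 1) :
    ∀ s ∈ (S : Subgroup G), s ≠ 1 → ∃ x : G, x * z * x⁻¹ = s := by
  have hS2 := sylow_two_sq S hS4 hG
  have hnot := burnside_contra S hS4 hG
  rw [SetLike.not_le_iff_exists] at hnot
  obtain ⟨g, hgN, hgC⟩ := hnot
  obtain ⟨k, hk, hgk⟩ := exists_odd_pow_mem S hgN
  have hcomm : ∀ a ∈ (S : Subgroup G), ∀ b ∈ (S : Subgroup G), Commute a b := by
    intro a ha b hb
    have h1 := hS2 (a * b) (Subgroup.mul_mem _ ha hb)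
    have h2 := hS2 a ha
    have h3 := hS2 b hb
    show a * b = b * a
    have ha' : a⁻¹ = a := inv_eq_of_mul_eq_one_right h2
    have hb' : b⁻¹ = b := inv_eq_of_mul_eq_one_right h3
    have h4 : (a * b)⁻¹ = a * b := inv_eq_of_mul_eq_one_right h1
    rw [mul_inv_rev, ha', hb'] at h4
    exact h4.symm
  apply conj_of_not_centralizing (S := (S : Subgroup G)) hS4 hS2 hz hz1 (g := g) ?_ ?_ hk
    (fun s hs => hcomm _ hgk s hs)
  · intro s hs
    rw [Subgroup.mem_normalizer_iff] at hgN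
    exact (hgN s).1 hs
  · by_contra hcon
    push Not at hcon
    apply hgC
    rw [Subgroup.mem_centralizer_iff]
    intro s hs
    have := hcon s hs
    calc s * g = (g * s * g⁻¹) * g := by rw [this]
      _ = g * s := by group

/-- all involutions of `G` are conjugate. -/
theorem involutions_conj [IsSimpleGroup G] (S : Sylow 2 G) (hS4 : Nat.card S = 4)
    (hG : Nat.card G ≠ 4) {z : G} (hz : z ∈ (S : Subgroup G)) (hz1 : z ≠ 1) {u : G} (hu1 : u ≠ 1)
    (hu2 : u * u = 1) : ∃ x : G, x * z * x⁻¹ = u := by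
  haveI : Fact (Nat.Prime 2) := ⟨Nat.prime_two⟩
  have h1 : IsPGroup 2 (Subgroup.zpowers u) := by
    intro y
    obtain ⟨y, hy⟩ := y
    obtain ⟨i, rfl⟩ := Subgroup.mem_zpowers_iff.mp hy
    refine ⟨1, ?_⟩
    apply Subtype.ext
    push_cast
    rw [← zpow_natCast, ← zpow_mul, mul_comm, zpow_mul, zpow_natCast, pow_two, hu2,
      one_zpow]
  obtain ⟨S', hS'⟩ := h1.exists_le_sylow
  obtain ⟨x, hx⟩ := MulAction.exists_smul_eq G S S'
  have hu : u ∈ ((x • S : Sylow 2 G) : Subgroup G) := by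
    rw [hx]; exact hS' (Subgroup.mem_zpowers u)
  rw [mem_smul_sylow_iff'] at hu
  have hne : x⁻¹ * u * x ≠ 1 := by
    intro h
    apply hu1
    have : u = x * (x⁻¹ * u * x) * x⁻¹ := by group
    rw [this, h]; group
  obtain ⟨y, hy⟩ := sylow_two_conj S hS4 hG hz hz1 _ hu hne
  refine ⟨x * y, ?_⟩
  calc x * y * z * (x * y)⁻¹ = x * (y * z * y⁻¹) * x⁻¹ := by group
    _ = x * (x⁻¹ * u * x) * x⁻¹ := by rw [hy]
    _ = u := by group

end Cfsg.Agent.Lib.Helper7.BSW
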