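import Mathlib
import Cfsg.Agent.Lib.Helper7.BSW1
import Cfsg.Agent.Lib.Helper7.BSW9
import Cfsg.Agent.Lib.Helper7.BSW11
import Cfsg.Agent.Lib.Helper7.BSW12

set_option autoImplicit false

/-!
# The full local structure: the inverting involution
-/

namespace Cfsg.Agent.Lib.Helper7.BSW

open Subgroup

variable {G : Type*} [Group G] [Finite G]

/-- the full local data. -/
structure Full (P C N : Subgroup G) (m : ℕ) (z t : G) : Prop where
  base : Base P C N m
  hz : z ∈ C
  hz1 : z ≠ 1
  hz2 : z * z = 1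
  ht : t ∈ N
  htC : t ∉ C
  ht2 : t * t = 1
  inv : ∀ a ∈ C, t * a * t⁻¹ = a⁻¹
  conj : ∀ u : G, u ≠ 1 → u * u = 1 → ∃ x : G, x * z * x⁻¹ = u

theorem Full.cfg {P C N : Subgroup G} {m : ℕ} {z t : G} (h : Full P C N m z t) : Cfg C t where
  comm := fun a ha b hb => h.base.comm ha hb
  notMem := h.htC
  sq := h.ht2
  inv := h.inv
  ti := by
    intro g a ha ha1 hga
    have hgN := h.base.ti g a ha ha1 hga
    by_cases hgC : g ∈ C
    · exact Or.inl hgC
    · right
      exact (h.base.idxC hgN h.ht).2 ⟨fun h' => absurd h' hgC, fun h' => absurd h' h.htC⟩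

theorem exists_full (P : Sylow 3 G) {C N : Subgroup G} {m : ℕ}
    (hb : Base (P : Subgroup G) C N m) (hm1 : 1 < m) [IsSimpleGroup G]
    (heven : ∀ H : Subgroup G, H ≠ ⊤ → 2 ∣ Nat.card H → Nat.card H ∣ 4 * m) :
    ∃ z t : G, Full (P : Subgroup G) C N m z t := by
  haveI : Fact (Nat.Prime 2) := ⟨Nat.prime_two⟩
  haveI : Fact (Nat.Prime 3) := ⟨Nat.prime_three⟩
  obtain ⟨z, hz, hz1, hz2⟩ := hb.exists_involution
  -- Sylow 2-subgroup containing z
  have hz2g : IsPGroup 2 (Subgroup.zpowers z) := by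
    intro y
    obtain ⟨y, hy⟩ := y
    obtain ⟨i, rfl⟩ := Subgroup.mem_zpowers_iff.mp hy
    refine ⟨1, ?_⟩
    apply Subtype.ext
    push_cast
    rw [← zpow_natCast, ← zpow_mul, mul_comm, zpow_mul, zpow_natCast, pow_two, hz2,
      one_zpow]
  obtain ⟨S, hS⟩ := hz2g.exists_le_sylow
  have hzS : z ∈ (S : Subgroup G) := hS (Subgroup.mem_zpowers z)
  have h4G : 4 ∣ Nat.card G := by
    have := Subgroup.card_subgroup_dvd_card N
    rw [hb.cardN] at this
    exact dvd_trans (dvd_mul_right 4 m) this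
  have hmG : m ∣ Nat.card G := by
    have := Subgroup.card_subgroup_dvd_card (P : Subgroup G)
    rwa [hb.cardP] at this
  have hS4 : Nat.card S = 4 := card_sylow_two h4G hb.hodd hm1 hmG heven S
  have hG4 : Nat.card G ≠ 4 := by
    intro h
    rw [h] at hmG
    have hle : m ≤ 4 := Nat.le_of_dvd (by norm_num) hmG
    obtain ⟨k, hk⟩ := hb.hodd
    interval_cases m
    all_goals first | omega | (norm_num at hmG)
  have hS2 := sylow_two_sq S hS4 hG4
  have hSconj := sylow_two_conj S hS4 hG4 hzS hz1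
  -- an element t of S other than 1, z
  obtain ⟨t, htS, ht1, htz⟩ : ∃ t ∈ (S : Subgroup G), t ≠ 1 ∧ t ≠ z := by
    by_contra hcon
    push Not at hcon
    have hsub : ((S : Subgroup G) : Set G) ⊆ {1, z} := by
      intro s hs
      by_cases h1 : s = 1
      · left; exact h1
      · right; exact hcon s hs h1
    have h1 := Set.ncard_le_ncard hsub (Set.toFinite _)
    have h2 : (({1, z} : Set G)).ncard ≤ 2 := by
      have := Set.ncard_insert_le (1 : G) ({z} : Set G)
      rw [Set.ncard_singleton] at this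
      exact this
    have h3 : ((S : Subgroup G) : Set G).ncard = 4 := by rw [← hS4]; rfl
    omega
  have ht2 := hS2 t htS
  -- t commutes with z
  have htz_comm : t * z = z * t := by
    have h1 := hS2 (t * z) (Subgroup.mul_mem _ htS hzS)
    have ht' : t⁻¹ = t := inv_eq_of_mul_eq_one_right ht2
    have hz' : z⁻¹ = z := inv_eq_of_mul_eq_one_right hz2
    have h4 : (t * z)⁻¹ = t * z := inv_eq_of_mul_eq_one_right h1
    rw [mul_inv_rev, ht', hz'] at h4
    exact h4.symm
  have htN : t ∈ N := (hb.cent_z hz hz1 hz2 t).1 htz_comm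
  have htC : t ∉ C := by
    intro h
    rcases hb.involution_unique hz hz1 hz2 h ht2 with h' | h'
    · exact ht1 h'
    · exact htz h'
  obtain ⟨x, hx⟩ := hSconj t htS ht1
  have hNnorm : N ≤ normalizer ((P : Subgroup G) : Set G) := by
    intro n hn
    apply Subgroup.mem_normalizer_fintype
    intro p hp
    exact hb.normP n hn p hp
  -- fixed points of t on P
  have hfix : ∀ p ∈ (P : Subgroup G), t * p = p * t → p = 1 := by
    intro p hp hcomm
    by_contra hp1
    set p' := x⁻¹ * p * x with hp'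
    have h1 : p' * z = z * p' := by
      have hz_eq : z = x⁻¹ * t * x := by rw [← hx]; group
      rw [hp', hz_eq]
      calc x⁻¹ * p * x * (x⁻¹ * t * x) = x⁻¹ * (p * t) * x := by group
        _ = x⁻¹ * (t * p) * x := by rw [hcomm]
        _ = x⁻¹ * t * x * (x⁻¹ * p * x) := by group
    have h2 : p' ∈ N := (hb.cent_z hz hz1 hz2 p').1 h1
    have h3 : p' ^ (3 ^ (Nat.card G).factorization 3) = 1 := by
      rw [hp', ← Sylow.card_eq_multiplicity P]
      have h4 : (⟨p, hp⟩ : (P : Subgroup G)) ^ Nat.card (P : Subgroup G) = 1 := pow_card_eq_one'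
      have h5 := congrArg Subtype.val h4
      rw [SubmonoidClass.coe_pow] at h5
      have h6 : (x⁻¹ * p * x) ^ Nat.card (P : Subgroup G) = x⁻¹ * p ^ Nat.card (P : Subgroup G) * x := by
        have := conj_pow (a := x⁻¹) (b := p) (i := Nat.card (P : Subgroup G))
        rwa [inv_inv] at this
      show (x⁻¹ * p * x) ^ Nat.card (P : Subgroup G) = 1
      rw [h6, h5, OneMemClass.coe_one]
      group
    have h4 : p' ∈ (P : Subgroup G) := mem_sylow_of_mem_normalizer P (hNnorm h2) h3
    have h5 : p' ≠ 1 := by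
      intro h
      apply hp1
      have : p = x * p' * x⁻¹ := by rw [hp']; group
      rw [this, h]; group
    have h6 : x * p' * x⁻¹ ∈ C := by
      have : x * p' * x⁻¹ = p := by rw [hp']; group
      rw [this]
      exact hb.hPC hp
    have h7 : x ∈ N := hb.ti x p' (hb.hPC h4) h5 h6
    have h8 : x * z = z * x := (hb.cent_z hz hz1 hz2 x).2 h7
    apply htz
    rw [← hx, h8, mul_assoc, mul_inv_cancel, mul_one]
  have ht' : t⁻¹ = t := inv_eq_of_mul_eq_one_right ht2
  have hinvP : ∀ p ∈ (P : Subgroup G), t * p * t⁻¹ = p⁻¹ := by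
    intro p hp
    have hq : t * p * t⁻¹ ∈ (P : Subgroup G) := hb.normP t htN p hp
    have hcommP : ∀ a ∈ (P : Subgroup G), ∀ b ∈ (P : Subgroup G), a * b = b * a :=
      fun a ha b hb' => hb.comm (hb.hPC ha) (hb.hPC hb')
    have h1 : t * (p * (t * p * t⁻¹)) = (p * (t * p * t⁻¹)) * t := by
      rw [ht']
      have e1 : t * (p * (t * p * t)) = (t * p * t) * (t * t) * p * t := by
        rw [ht2]; group
      have e2 : (t * p * t) * (t * t) * p * t = ((t * p * t) * p) * t := by
        rw [ht2]; group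
      rw [e1, e2]
      have := hcommP (t * p * t) (by rw [ht'] at hq; exact hq) p hp
      rw [this]
    have h2 := hfix _ (Subgroup.mul_mem _ hp hq) h1
    exact (eq_inv_of_mul_eq_one_right h2)
  have hinvC : ∀ a ∈ C, t * a * t⁻¹ = a⁻¹ := by
    intro a ha
    by_cases haP : a ∈ (P : Subgroup G)
    · exact hinvP a haP
    · have hzP : z ∉ (P : Subgroup G) := fun h => hz1 (hb.eq_one_of_sq h hz2)
      have haz : a * z ∈ (P : Subgroup G) :=
        (hb.idxP ha hz).2 ⟨fun h' => absurd h' haP, fun h' => absurd h' hzP⟩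
      have h1 := hinvP (a * z) haz
      have hz' : z⁻¹ = z := inv_eq_of_mul_eq_one_right hz2
      have h2 : t * z * t⁻¹ = z := by
        rw [htz_comm, mul_assoc, mul_inv_cancel, mul_one]
      have h3 : t * a * t⁻¹ = (t * (a * z) * t⁻¹) * (t * z * t⁻¹) := by
        have : a = (a * z) * z := by rw [mul_assoc, hz2, mul_one]
        calc t * a * t⁻¹ = t * ((a * z) * z) * t⁻¹ := by rw [← this]
          _ = (t * (a * z) * t⁻¹) * (t * z * t⁻¹) := by group
      rw [h3, h1, h2, mul_inv_rev, hz']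
      have h4 := hb.comm hz (C.inv_mem ha)
      rw [h4, mul_assoc, hz2, mul_one]
  refine ⟨z, t, ⟨hb, hz, hz1, hz2, htN, htC, ht2, hinvC, ?_⟩⟩
  intro u hu1 hu2
  exact involutions_conj S hS4 hG4 hzS hz1 hu1 hu2

end Cfsg.Agent.Lib.Helper7.BSW
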