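import Mathlib
import Cfsg.Agent.Lib.Helper1.ConjCount
import Cfsg.Agent.Lib.Helper7.BSW13

set_option autoImplicit false

/-!
# Counting involutions, I
-/

namespace Cfsg.Agent.Lib.Helper7.BSW

open Subgroup

variable {G : Type*} [Group G] [Finite G]

/-- cardinality of a disjoint union of sets of constant size. -/
theorem ncard_biUnion_const {α β : Type*} [Finite β] (J : Set α) (hJ : J.Finite) (B : α → Set β)
    (k : ℕ) (hdisj : ∀ s ∈ J, ∀ s' ∈ J, s ≠ s' → Disjoint (B s) (B s'))
    (hcard : ∀ s ∈ J, (B s).ncard = k) : (⋃ s ∈ J, B s).ncard = J.ncard * k := by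
  classical
  haveI : Fintype β := Fintype.ofFinite β
  have h1 : (⋃ s ∈ J, B s) = ((hJ.toFinset.biUnion fun s => (B s).toFinset : Finset β) : Set β) := by
    ext w
    simp
  rw [h1, Set.ncard_coe_finset, Finset.card_biUnion]
  · rw [Finset.sum_congr rfl (fun s hs => by
      rw [← Set.ncard_eq_toFinset_card', hcard s ((Set.Finite.mem_toFinset hJ).1 hs)]),
      Finset.sum_const, smul_eq_mul, Set.ncard_eq_toFinset_card J hJ]
  · intro s hs s' hs' hne
    simp only [Set.Finite.coe_toFinset] at hs hs'
    have := hdisj s hs s' hs' hne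
    rw [Function.onFun]
    rw [Finset.disjoint_left]
    intro w hw hw'
    rw [Set.mem_toFinset] at hw hw'
    exact (Set.disjoint_left.1 this) hw hw'

variable {P C N : Subgroup G} {m : ℕ} {z t : G}

/-- the set of involutions. -/
def Inv (G : Type*) [Group G] : Set G := {u | u ≠ 1 ∧ u * u = 1}

theorem Full.card_eq (h : Full P C N m z t) : Nat.card G = (Inv G).ncard * (4 * m) := by
  have h1 := Cfsg.Agent.Lib.Helper1.card_isConj_mul_card_centralizer z
  have h2 : Subgroup.centralizer ({z} : Set G) = N := by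
    ext g
    rw [Subgroup.mem_centralizer_singleton_iff, ← h.base.cent_z h.hz h.hz1 h.hz2]
  rw [h2, h.base.cardN] at h1
  rw [← h1]
  congr 1
  have h3 : {v : G | IsConj z v} = Inv G := by
    ext v
    constructor
    · intro hv
      obtain ⟨c, hc⟩ := isConj_iff.1 hv
      refine ⟨?_, ?_⟩
      · intro hv1
        apply h.hz1
        have : z = c⁻¹ * v * c := by rw [← hc]; group
        rw [this, hv1]; group
      · rw [← hc]
        calc c * z * c⁻¹ * (c * z * c⁻¹) = c * (z * z) * c⁻¹ := by group
          _ = 1 := by rw [h.hz2]; group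
    · intro hv
      obtain ⟨x, hx⟩ := h.conj v hv.1 hv.2
      exact isConj_iff.2 ⟨x, hx⟩
  rw [← h3]
  rfl

/-- the elements inverted by `z` other than `1, z`. -/
def Wset (z : G) : Set G := {w | w ≠ 1 ∧ w ≠ z ∧ z * w * z⁻¹ = w⁻¹}

theorem Full.ncard_inv (h : Full P C N m z t) : (Inv G).ncard = (Wset z).ncard + 1 := by
  have hz' : z⁻¹ = z := inv_eq_of_mul_eq_one_right h.hz2
  have hzI : z ∈ Inv G := ⟨h.hz1, h.hz2⟩
  have h1 : Wset z = (fun u => z * u) '' (Inv G \ {z}) := by
    ext w
    constructor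
    · rintro ⟨hw1, hwz, hw⟩
      refine ⟨z * w, ⟨⟨?_, ?_⟩, ?_⟩, ?_⟩
      · intro h'
        apply hwz
        have : w = z⁻¹ := eq_inv_of_mul_eq_one_right h'
        rw [this, hz']
      · rw [hz'] at hw
        calc z * w * (z * w) = (z * w * z) * w := by group
          _ = 1 := by rw [hw, inv_mul_cancel]
      · simp only [Set.mem_singleton_iff]
        intro h'
        exact hw1 (mul_eq_left.mp h')
      · show z * (z * w) = w
        rw [← mul_assoc, h.hz2, one_mul]
    · rintro ⟨u, ⟨⟨hu1, hu2⟩, huz⟩, rfl⟩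
      simp only [Set.mem_singleton_iff] at huz
      have hu' : u⁻¹ = u := inv_eq_of_mul_eq_one_right hu2
      refine ⟨?_, ?_, ?_⟩
      · intro h'
        apply huz
        have : u = z⁻¹ := eq_inv_of_mul_eq_one_right h'
        rw [this, hz']
      · intro h'
        exact hu1 (mul_eq_left.mp h')
      · show z * (z * u) * z⁻¹ = (z * u)⁻¹
        rw [mul_inv_rev, hu', ← mul_assoc, h.hz2, one_mul]
  rw [h1, Set.ncard_image_of_injective _ (mul_right_injective z),
    Set.ncard_diff_singleton_add_one hzI (Set.toFinite _)]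

/-- the involutions of `N` other than `z`. -/
theorem Full.ncard_J (h : Full P C N m z t) : ((N : Set G) \ (C : Set G)).ncard = 2 * m := by
  have h1 : (C : Set G) ⊆ (N : Set G) := h.base.hCN
  rw [Set.ncard_diff h1 (Set.toFinite _)]
  have h2 : (N : Set G).ncard = 4 * m := by rw [← h.base.cardN]; rfl
  have h3 : (C : Set G).ncard = 2 * m := by rw [← h.base.cardC]; rfl
  rw [h2, h3]
  omega

end Cfsg.Agent.Lib.Helper7.BSW
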