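import Mathlib
import Cfsg.Agent.Lib.Helper7.BSW14

set_option autoImplicit false

/-!
# Counting involutions, II: the decomposition of the set of elements inverted by `z`
-/

namespace Cfsg.Agent.Lib.Helper7.BSW

open Subgroup

variable {G : Type*} [Group G] [Finite G] {P C N : Subgroup G} {m : ℕ} {z t : G}

/-- the nonidentity elements of the conjugate of `C` belonging to the involution `s`. -/
def Bset (C : Subgroup G) (z s : G) : Set G :=
  {w | w ≠ 1 ∧ ∃ x : G, x * z * x⁻¹ = s ∧ x⁻¹ * w * x ∈ C}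

/-- elements of `N` outside `C` invert `C`. -/
theorem Full.inverts (h : Full P C N m z t) {y : G} (hyN : y ∈ N) (hyC : y ∉ C) {c : G}
    (hc : c ∈ C) : y * c * y⁻¹ = c⁻¹ := by
  have hyt : y * t ∈ C :=
    (h.base.idxC hyN h.ht).2 ⟨fun h' => absurd h' hyC, fun h' => absurd h' h.htC⟩
  exact h.cfg.conj_of_mul_mem hyt hc

/-- elements of `N` outside `C` are involutions. -/
theorem Full.sq_of_mem_diff (h : Full P C N m z t) {y : G} (hyN : y ∈ N) (hyC : y ∉ C) :
    y ≠ 1 ∧ y * y = 1 := by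
  refine ⟨fun h1 => hyC (h1 ▸ C.one_mem), ?_⟩
  have hyy : y * y ∈ C := (h.base.idxC hyN hyN).2 Iff.rfl
  have h1 := h.inverts hyN hyC hyy
  have h2 : y * (y * y) * y⁻¹ = y * y := by group
  rw [h2] at h1
  -- (y*y) = (y*y)⁻¹, so (y*y)^2 = 1, and y*y ∈ C is then 1 or z
  have h3 : (y * y) * (y * y) = 1 := by
    nth_rewrite 2 [h1]
    exact mul_inv_cancel _
  rcases h.base.involution_unique h.hz h.hz1 h.hz2 hyy h3 with h4 | h4
  · exact h4
  · exfalso
    -- y inverts z but also commutes with z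
    have h5 := h.inverts hyN hyC h.hz
    have h6 : y * z = z * y := (h.base.cent_z h.hz h.hz1 h.hz2 y).2 hyN
    -- y * y = z means y has order 4; y commutes with y*y = z fine. Use y ∉ C: y*y = z,
    -- consider y * z = y * y * y ∈ ? we show y ∈ C via index: y * (y*y)... instead use inversion of y*y
    -- y * (y*y) * y⁻¹ = y*y = z and = z⁻¹ fine; no contradiction yet: use t.
    have hyt : y * t ∈ C :=
      (h.base.idxC hyN h.ht).2 ⟨fun h' => absurd h' hyC, fun h' => absurd h' h.htC⟩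
    -- y = (y*t) * t, so y*y = (y*t) * t * (y*t) * t = (y*t) * (y*t)⁻¹ * (t*t) = 1
    have ht' : t⁻¹ = t := inv_eq_of_mul_eq_one_right h.ht2
    have h7 : t * (y * t) * t⁻¹ = (y * t)⁻¹ := h.inv _ hyt
    have h8 : y * y = 1 := by
      calc y * y = (y * t) * (t * (y * t) * t) := by
            have : t * t = 1 := h.ht2
            calc y * y = y * (t * t) * y * (t * t) := by rw [this]; group
              _ = (y * t) * (t * (y * t) * t) := by group
        _ = (y * t) * (y * t)⁻¹ := by rw [← h7, ht']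
        _ = 1 := mul_inv_cancel _
    rw [h8] at h4
    exact h.hz1 h4.symm

theorem Full.Bset_subset (h : Full P C N m z t) {s : G} (hsN : s ∈ N) (hsC : s ∉ C) :
    Bset C z s ⊆ Wset z := by
  rintro w ⟨hw1, x, hx, hwC⟩
  have hz' : z⁻¹ = z := inv_eq_of_mul_eq_one_right h.hz2
  set z' := x⁻¹ * z * x with hz'def
  have hsz : s * z = z * s := (h.base.cent_z h.hz h.hz1 h.hz2 s).2 hsN
  have hz'z : z' * z = z * z' := by
    rw [← hx] at hsz
    have e1 : z' * z = x⁻¹ * (z * (x * z * x⁻¹)) * x := by rw [hz'def]; group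
    have e2 : z * z' = x⁻¹ * ((x * z * x⁻¹) * z) * x := by rw [hz'def]; group
    rw [e1, e2, hsz]
  have hz'N : z' ∈ N := (h.base.cent_z h.hz h.hz1 h.hz2 z').1 hz'z
  have hz'1 : z' ≠ 1 := by
    intro h1
    apply h.hz1
    have : z = x * z' * x⁻¹ := by rw [hz'def]; group
    rw [this, h1]; group
  have hz'2 : z' * z' = 1 := by
    calc z' * z' = x⁻¹ * (z * z) * x := by rw [hz'def]; group
      _ = 1 := by rw [h.hz2]; group
  have hz'C : z' ∉ C := by
    intro h1
    rcases h.base.involution_unique h.hz h.hz1 h.hz2 h1 hz'2 with h2 | h2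
    · exact hz'1 h2
    · apply hsC
      have : s = z := by
        rw [← hx]
        have e : x⁻¹ * z * x = z := by rw [← hz'def]; exact h2
        calc x * z * x⁻¹ = x * (x⁻¹ * z * x) * x⁻¹ := by rw [e]
          _ = z := by group
      rw [this]
      exact h.hz
  have hinv := h.inverts hz'N hz'C hwC
  refine ⟨hw1, ?_, ?_⟩
  · intro hwz
    apply hz'C
    have : x⁻¹ * w * x = z' := by rw [hwz]
    rw [← this]
    exact hwC
  · have e1 : z * w * z⁻¹ = x * (z' * (x⁻¹ * w * x) * z'⁻¹) * x⁻¹ := by rw [hz'def]; group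
    rw [e1, hinv]
    group

theorem Full.W_subset (h : Full P C N m z t)
    (H : ∀ w ∈ Wset z, ∃ x : G, x⁻¹ * w * x ∈ C) :
    Wset z ⊆ ⋃ s ∈ ((N : Set G) \ (C : Set G)), Bset C z s := by
  intro w hw
  obtain ⟨x, hx⟩ := H w hw
  obtain ⟨hw1, hwz, hwinv⟩ := hw
  have hz' : z⁻¹ = z := inv_eq_of_mul_eq_one_right h.hz2
  set c := x⁻¹ * w * x with hcdef
  have hc1 : c ≠ 1 := by
    intro h1
    apply hw1
    have : w = x * c * x⁻¹ := by rw [hcdef]; group
    rw [this, h1]; group
  set z' := x⁻¹ * z * x with hz'def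
  have hz'c : z' * c * z'⁻¹ = c⁻¹ := by
    have e1 : z' * c * z'⁻¹ = x⁻¹ * (z * w * z⁻¹) * x := by rw [hz'def, hcdef]; group
    rw [e1, hwinv, hcdef]; group
  have hz'N : z' ∈ N := h.base.ti z' c hx hc1 (by rw [hz'c]; exact C.inv_mem hx)
  have hz'z : z' * z = z * z' := (h.base.cent_z h.hz h.hz1 h.hz2 z').2 hz'N
  set s := x * z * x⁻¹ with hsdef
  have hsz : s * z = z * s := by
    -- conjugate the relation hz'z by x... we need s commutes with z:
    -- z' * z = z * z'  where z' = x⁻¹ z x.  Conjugating by x: z * (x z x⁻¹) = (x z x⁻¹) * z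
    have e1 : s * z = x * (z * z') * x⁻¹ * (x * z'⁻¹ * x⁻¹) * z := by
      rw [hsdef, hz'def]; group
    have e0 : z * (x * z * x⁻¹) = (x * z * x⁻¹) * z := by
      have e2 : z * (x * z * x⁻¹) = x * (z' * z) * x⁻¹ * (x * z⁻¹ * x⁻¹) * (x * z * x⁻¹) := by
        rw [hz'def]; group
      have e3 : (x * z * x⁻¹) * z = x * (z * z') * x⁻¹ * (x * z⁻¹ * x⁻¹) * (x * z * x⁻¹) := by
        rw [hz'def]; group
      rw [e2, e3, hz'z]
    rw [hsdef]
    exact e0.symm
  have hsN : s ∈ N := (h.base.cent_z h.hz h.hz1 h.hz2 s).1 hsz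
  have hs2 : s * s = 1 := by
    calc s * s = x * (z * z) * x⁻¹ := by rw [hsdef]; group
      _ = 1 := by rw [h.hz2]; group
  have hs1 : s ≠ 1 := by
    intro h1
    apply h.hz1
    have : z = x⁻¹ * s * x := by rw [hsdef]; group
    rw [this, h1]; group
  have hsC : s ∉ C := by
    intro h1
    rcases h.base.involution_unique h.hz h.hz1 h.hz2 h1 hs2 with h2 | h2
    · exact hs1 h2
    · -- s = z, so x commutes with z, z' = z, and c is inverted and centralized by z
      have hxz : x * z = z * x := by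
        calc x * z = (x * z * x⁻¹) * x := by group
          _ = z * x := by rw [← hsdef, h2]
      have hz'eq : z' = z := by
        rw [hz'def]
        calc x⁻¹ * z * x = x⁻¹ * (z * x) := by group
          _ = x⁻¹ * (x * z) := by rw [hxz]
          _ = z := by group
      rw [hz'eq] at hz'c
      have h3 : z * c * z⁻¹ = c := by
        rw [h.base.comm h.hz hx, mul_assoc, mul_inv_cancel, mul_one]
      rw [h3] at hz'c
      have h4 : c * c = 1 := by
        nth_rewrite 2 [hz'c]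
        exact mul_inv_cancel _
      rcases h.base.involution_unique h.hz h.hz1 h.hz2 hx h4 with h5 | h5
      · exact hc1 h5
      · apply hwz
        have : w = x * c * x⁻¹ := by rw [hcdef]; group
        rw [this, h5, ← hsdef, h2]
  simp only [Set.mem_iUnion, Set.mem_sdiff, SetLike.mem_coe, exists_prop]
  exact ⟨s, ⟨hsN, hsC⟩, hw1, x, rfl, hx⟩

theorem Full.Bset_disjoint (h : Full P C N m z t) {s s' : G} (hne : s ≠ s') :
    Disjoint (Bset C z s) (Bset C z s') := by
  rw [Set.disjoint_left]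
  rintro w ⟨hw1, x, hx, hwC⟩ ⟨-, x', hx', hwC'⟩
  apply hne
  set c := x⁻¹ * w * x with hcdef
  have hc1 : c ≠ 1 := by
    intro h1
    apply hw1
    have : w = x * c * x⁻¹ := by rw [hcdef]; group
    rw [this, h1]; group
  have h2 : (x'⁻¹ * x) * c * (x'⁻¹ * x)⁻¹ ∈ C := by
    have : (x'⁻¹ * x) * c * (x'⁻¹ * x)⁻¹ = x'⁻¹ * w * x' := by rw [hcdef]; group
    rw [this]
    exact hwC'
  have h3 : x'⁻¹ * x ∈ N := h.base.ti _ c hwC hc1 h2
  have h4 : (x'⁻¹ * x) * z = z * (x'⁻¹ * x) := (h.base.cent_z h.hz h.hz1 h.hz2 _).2 h3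
  rw [← hx, ← hx']
  calc x * z * x⁻¹ = x' * ((x'⁻¹ * x) * z) * x⁻¹ := by group
    _ = x' * (z * (x'⁻¹ * x)) * x⁻¹ := by rw [h4]
    _ = x' * z * x'⁻¹ := by group

theorem Full.ncard_Bset (h : Full P C N m z t) {s : G} (hs : ∃ x : G, x * z * x⁻¹ = s) :
    (Bset C z s).ncard = 2 * m - 1 := by
  obtain ⟨x₀, hx₀⟩ := hs
  have h1 : Bset C z s = (fun c => x₀ * c * x₀⁻¹) '' ((C : Set G) \ {1}) := by
    ext w
    constructor
    · rintro ⟨hw1, x, hx, hwC⟩
      refine ⟨x₀⁻¹ * w * x₀, ⟨?_, ?_⟩, by group⟩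
      · -- x₀⁻¹ x ∈ N
        have h2 : (x₀⁻¹ * x) * z = z * (x₀⁻¹ * x) := by
          have e : x * z * x⁻¹ = x₀ * z * x₀⁻¹ := by rw [hx, hx₀]
          calc (x₀⁻¹ * x) * z = x₀⁻¹ * (x * z * x⁻¹) * x := by group
            _ = x₀⁻¹ * (x₀ * z * x₀⁻¹) * x := by rw [e]
            _ = z * (x₀⁻¹ * x) := by group
        have h3 : x₀⁻¹ * x ∈ N := (h.base.cent_z h.hz h.hz1 h.hz2 _).1 h2
        have h4 := h.base.normC _ h3 _ hwC
        have e : (x₀⁻¹ * x) * (x⁻¹ * w * x) * (x₀⁻¹ * x)⁻¹ = x₀⁻¹ * w * x₀ := by group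
        rw [e] at h4
        exact h4
      · simp only [Set.mem_singleton_iff]
        intro h2
        apply hw1
        have : w = x₀ * (x₀⁻¹ * w * x₀) * x₀⁻¹ := by group
        rw [this, h2]; group
    · rintro ⟨c, ⟨hcC, hc1⟩, rfl⟩
      simp only [Set.mem_singleton_iff] at hc1
      refine ⟨?_, x₀, hx₀, ?_⟩
      · intro h2
        have h2' : x₀ * c * x₀⁻¹ = 1 := h2
        apply hc1
        have : c = x₀⁻¹ * (x₀ * c * x₀⁻¹) * x₀ := by group
        rw [this, h2']; group
      · have : x₀⁻¹ * (x₀ * c * x₀⁻¹) * x₀ = c := by group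
        rw [this]
        exact hcC
  have hinj : Function.Injective (fun c => x₀ * c * x₀⁻¹) := by
    intro a b hab
    simp only at hab
    have : a = x₀⁻¹ * (x₀ * a * x₀⁻¹) * x₀ := by group
    rw [this, hab]; group
  rw [h1, Set.ncard_image_of_injective _ hinj, Set.ncard_sdiff_singleton_of_mem C.one_mem]
  have : (C : Set G).ncard = 2 * m := by rw [← h.base.cardC]; rfl
  rw [this]

end Cfsg.Agent.Lib.Helper7.BSW
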