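import Mathlib
import Cfsg.Agent.Lib.Helper7.BSW15

set_option autoImplicit false

/-!
# The order formula
-/

namespace Cfsg.Agent.Lib.Helper7.BSW

open Subgroup

variable {G : Type*} [Group G] [Finite G] {P C N : Subgroup G} {m : ℕ} {z t : G}

theorem Full.ncard_W (h : Full P C N m z t)
    (H : ∀ w ∈ Wset z, ∃ x : G, x⁻¹ * w * x ∈ C) :
    (Wset z).ncard = 2 * m * (2 * m - 1) := by
  have h1 : Wset z = ⋃ s ∈ ((N : Set G) \ (C : Set G)), Bset C z s := by
    apply Set.Subset.antisymm (h.W_subset H)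
    intro w hw
    simp only [Set.mem_iUnion, Set.mem_sdiff, SetLike.mem_coe, exists_prop] at hw
    obtain ⟨s, ⟨hsN, hsC⟩, hws⟩ := hw
    exact h.Bset_subset hsN hsC hws
  rw [h1, ncard_biUnion_const _ (Set.toFinite _) (Bset C z) (2 * m - 1), h.ncard_J]
  · intro s _ s' _ hne
    exact h.Bset_disjoint hne
  · intro s hs
    obtain ⟨hs1, hs2⟩ := h.sq_of_mem_diff hs.1 hs.2
    exact h.ncard_Bset (h.conj s hs1 hs2)

theorem Full.order_formula (h : Full P C N m z t)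
    (H : ∀ w ∈ Wset z, ∃ x : G, x⁻¹ * w * x ∈ C) :
    (Nat.card G : ℤ) = 4 * m * (4 * (m : ℤ) ^ 2 - 2 * m + 1) := by
  have h1 := h.card_eq
  rw [h.ncard_inv, h.ncard_W H] at h1
  have hm : 1 ≤ m := by
    have := h.base.cardP
    have hpos : 0 < Nat.card P := Nat.card_pos
    omega
  have h2 : ((2 * m - 1 : ℕ) : ℤ) = 2 * (m : ℤ) - 1 := by
    have : 1 ≤ 2 * m := by omega
    push_cast [Nat.cast_sub this]
    ring
  have h3 : (Nat.card G : ℤ) = ((2 * m * (2 * m - 1) + 1 : ℕ) : ℤ) * ((4 * m : ℕ) : ℤ) := by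
    rw [h1]; push_cast; ring
  rw [h3]
  push_cast [h2]
  ring

end Cfsg.Agent.Lib.Helper7.BSW
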