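import Mathlib
import Cfsg.Agent.Lib.Helper7.BSW15

set_option autoImplicit false

/-!
# Products of two involutions lie in conjugates of `C`
-/

namespace Cfsg.Agent.Lib.Helper7.BSW

open Subgroup

variable {G : Type*} [Group G] [Finite G]

theorem Full.conj_mem_C (P : Sylow 3 G) {C N : Subgroup G} {m : ℕ} {z t : G}
    (h : Full (P : Subgroup G) C N m z t) [IsSimpleGroup G] (hnc : ∃ a b : G, a * b ≠ b * a)
    (heven : ∀ H : Subgroup G, H ≠ ⊤ → 2 ∣ Nat.card H → Nat.card H ∣ 4 * m) :
    ∀ w ∈ Wset z, ∃ x : G, x⁻¹ * w * x ∈ C := by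
  haveI : Fact (Nat.Prime 3) := ⟨Nat.prime_three⟩
  rintro w ⟨hw1, hwz, hwinv⟩
  have hz' : z⁻¹ = z := inv_eq_of_mul_eq_one_right h.hz2
  rcases Nat.even_or_odd (orderOf w) with hev | hodd
  · -- even order
    obtain ⟨j, hj⟩ := hev
    have hj0 : j ≠ 0 := by
      intro h0
      have := orderOf_pos w
      omega
    set s := w ^ j with hsdef
    have hs1 : s ≠ 1 := by
      apply pow_ne_one_of_lt_orderOf hj0
      omega
    have hs2 : s * s = 1 := by
      rw [hsdef, ← pow_add, ← hj, pow_orderOf_eq_one]
    have hsw : s * w = w * s := by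
      rw [hsdef, ← pow_succ, ← pow_succ']
    obtain ⟨x, hx⟩ := h.conj s hs1 hs2
    set y := x⁻¹ * w * x with hydef
    have hyz : y * z = z * y := by
      have e1 : y * z = x⁻¹ * (w * (x * z * x⁻¹)) * x := by rw [hydef]; group
      have e2 : z * y = x⁻¹ * ((x * z * x⁻¹) * w) * x := by rw [hydef]; group
      rw [e1, e2, hx, hsw]
    have hyN : y ∈ N := (h.base.cent_z h.hz h.hz1 h.hz2 y).1 hyz
    by_cases hyC : y ∈ C
    · exact ⟨x, hyC⟩
    · exfalso
      obtain ⟨-, hy2⟩ := h.sq_of_mem_diff hyN hyC
      have hw2 : w * w = 1 := by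
        have e : w * w = x * (y * y) * x⁻¹ := by rw [hydef]; group
        rw [e, hy2]; group
      have hdvd : orderOf w ∣ 2 := orderOf_dvd_of_pow_eq_one (by rw [pow_two, hw2])
      have hj1 : j = 1 := by
        have := Nat.le_of_dvd (by norm_num) hdvd
        omega
      have hsw' : s = w := by rw [hsdef, hj1, pow_one]
      apply hyC
      have : y = z := by
        rw [hydef, ← hsw', ← hx]; group
      rw [this]
      exact h.hz
  · -- odd order
    obtain ⟨u, hudef⟩ : ∃ u : G, u = z * w := ⟨_, rfl⟩
    have hu2 : u * u = 1 := by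
      rw [hz'] at hwinv
      calc u * u = (z * w * z) * w := by rw [hudef]; group
        _ = 1 := by rw [hwinv, inv_mul_cancel]
    have hu' : u⁻¹ = u := inv_eq_of_mul_eq_one_right hu2
    have hwu : w = z * u := by rw [hudef, ← mul_assoc, h.hz2, one_mul]
    -- the subgroup generated by z and u is proper
    have hne : Subgroup.closure ({z, u} : Set G) ≠ ⊤ := by
      intro htop
      have hnorm : Subgroup.closure ({z, u} : Set G) ≤
          Subgroup.normalizer ((Subgroup.zpowers w : Subgroup G) : Set G) := by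
        rw [Subgroup.closure_le]
        intro g hg
        simp only [Set.mem_insert_iff, Set.mem_singleton_iff] at hg
        have key : g * w * g⁻¹ = w⁻¹ := by
          rcases hg with hg | hg
          · rw [hg]; exact hwinv
          · rw [hg]
            calc u * w * u⁻¹ = u * (z * u) * u⁻¹ := by rw [← hwu]
              _ = u * z := by group
              _ = u⁻¹ * z⁻¹ := by rw [hu', hz']
              _ = (z * u)⁻¹ := by group
              _ = w⁻¹ := by rw [← hwu]
        apply Subgroup.mem_normalizer_fintype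
        intro n hn
        obtain ⟨i, rfl⟩ := Subgroup.mem_zpowers_iff.mp hn
        have : g * w ^ i * g⁻¹ = (g * w * g⁻¹) ^ i := by
          rw [conj_zpow]
        show g * w ^ i * g⁻¹ ∈ Subgroup.zpowers w
        rw [this, key]
        exact Subgroup.zpow_mem _ (Subgroup.inv_mem _ (Subgroup.mem_zpowers w)) i
      rw [htop, top_le_iff] at hnorm
      have hnormal : (Subgroup.zpowers w).Normal := Subgroup.normalizer_eq_top_iff.mp hnorm
      rcases hnormal.eq_bot_or_eq_top with hb | ht
      · apply hw1
        have := Subgroup.mem_zpowers w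
        rw [hb, Subgroup.mem_bot] at this
        exact this
      · obtain ⟨a, b, hab⟩ := hnc
        apply hab
        have ha : a ∈ Subgroup.zpowers w := by rw [ht]; trivial
        have hb : b ∈ Subgroup.zpowers w := by rw [ht]; trivial
        obtain ⟨i, rfl⟩ := Subgroup.mem_zpowers_iff.mp ha
        obtain ⟨i', rfl⟩ := Subgroup.mem_zpowers_iff.mp hb
        rw [← zpow_add, ← zpow_add, add_comm]
    have hzH : z ∈ Subgroup.closure ({z, u} : Set G) :=
      Subgroup.subset_closure (by simp)
    have huH : u ∈ Subgroup.closure ({z, u} : Set G) :=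
      Subgroup.subset_closure (by simp)
    have hwH : w ∈ Subgroup.closure ({z, u} : Set G) := by
      rw [hwu]; exact Subgroup.mul_mem _ hzH huH
    have h2H : 2 ∣ Nat.card (Subgroup.closure ({z, u} : Set G)) := by
      have hoz : orderOf z = 2 := orderOf_eq_prime (by rw [pow_two, h.hz2]) h.hz1
      have := orderOf_dvd_natCard (⟨z, hzH⟩ : Subgroup.closure ({z, u} : Set G))
      rw [Subgroup.orderOf_mk] at this
      rwa [hoz] at this
    have hH := heven _ hne h2H
    have hkH : orderOf w ∣ Nat.card (Subgroup.closure ({z, u} : Set G)) := by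
      have := orderOf_dvd_natCard (⟨w, hwH⟩ : Subgroup.closure ({z, u} : Set G))
      rwa [Subgroup.orderOf_mk] at this
    have hk4m : orderOf w ∣ 4 * m := dvd_trans hkH hH
    have hkm : orderOf w ∣ m := by
      apply Nat.Coprime.dvd_of_dvd_mul_left _ hk4m
      have : Nat.Coprime (orderOf w) 2 := (Nat.coprime_two_right).mpr hodd
      have h4 : (4 : ℕ) = 2 ^ 2 := by norm_num
      rw [h4]
      exact Nat.Coprime.pow_right 2 this
    have hwm : w ^ (3 ^ (Nat.card G).factorization 3) = 1 := by
      rw [← Sylow.card_eq_multiplicity P]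
      have : Nat.card (P : Subgroup G) = m := h.base.cardP
      show w ^ Nat.card (P : Subgroup G) = 1
      rw [this]
      exact orderOf_dvd_iff_pow_eq_one.mp hkm
    have h3g : IsPGroup 3 (Subgroup.zpowers w) := by
      intro y
      obtain ⟨y, hy⟩ := y
      obtain ⟨i, rfl⟩ := Subgroup.mem_zpowers_iff.mp hy
      refine ⟨(Nat.card G).factorization 3, ?_⟩
      apply Subtype.ext
      push_cast
      rw [← zpow_natCast, ← zpow_mul, mul_comm, zpow_mul, zpow_natCast]
      have := hwm
      push_cast at this
      rw [this, one_zpow]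
    obtain ⟨Q, hQ⟩ := h3g.exists_le_sylow
    obtain ⟨x, hx⟩ := MulAction.exists_smul_eq G P Q
    have hwQ : w ∈ ((x • P : Sylow 3 G) : Subgroup G) := by
      rw [hx]; exact hQ (Subgroup.mem_zpowers w)
    rw [mem_smul_sylow_iff'] at hwQ
    exact ⟨x, h.base.hPC hwQ⟩

end Cfsg.Agent.Lib.Helper7.BSW
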