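import Mathlib
import Cfsg.Agent.Lib.Helper7.BSW1

set_option autoImplicit false

/-!
# The T.I. counting inequality
-/

namespace Cfsg.Agent.Lib.Helper7.BSW

open Cfsg

variable {G : Type*} [Group G] {A : Subgroup G} {t : G} [Fintype G] [Fintype A]

theorem card_filter_mem (A : Subgroup G) [Fintype A] [DecidablePred (· ∈ A)] :
    (Finset.univ.filter (fun y : G => y ∈ A)).card = Nat.card A := by
  rw [Nat.card_eq_fintype_card, ← Fintype.card_subtype]

theorem card_filter_mul_mem (A : Subgroup G) [Fintype A] (t : G) [DecidablePred (· ∈ A)] :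
    (Finset.univ.filter (fun y : G => y * t ∈ A)).card = Nat.card A := by
  classical
  rw [← card_filter_mem A]
  apply Finset.card_bij (fun y _ => y * t)
  · intro y hy
    simp only [Finset.mem_filter, Finset.mem_univ, true_and] at hy ⊢
    exact hy
  · intro y _ y' _ h
    exact mul_right_cancel h
  · intro b hb
    simp only [Finset.mem_filter, Finset.mem_univ, true_and] at hb
    refine ⟨b * t⁻¹, ?_, by group⟩
    simp only [Finset.mem_filter, Finset.mem_univ, true_and]
    have : b * t⁻¹ * t = b := by group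
    rw [this]
    exact hb

/-- the fibre bound. -/
theorem Cfg.card_fibre_le (hc : Cfg A t) (g : G) [DecidablePred (· ∈ A)] [DecidableEq G] :
    (Finset.univ.filter (fun x : G => x⁻¹ * g * x ∈ A ∧ x⁻¹ * g * x ≠ 1)).card
      ≤ 2 * Nat.card A := by
  classical
  by_cases hne : (Finset.univ.filter (fun x : G => x⁻¹ * g * x ∈ A ∧ x⁻¹ * g * x ≠ 1)).Nonempty
  · obtain ⟨x₀, hx₀⟩ := hne
    simp only [Finset.mem_filter, Finset.mem_univ, true_and] at hx₀
    have hT : (Finset.univ.filter (fun y : G => y ∈ A ∨ y * t ∈ A)).card ≤ 2 * Nat.card A := by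
      rw [Finset.filter_or]
      refine le_trans (Finset.card_union_le _ _) ?_
      rw [card_filter_mem, card_filter_mul_mem, two_mul]
    refine le_trans ?_ hT
    apply Finset.card_le_card_of_injOn (fun x => x⁻¹ * x₀)
    · intro x hx
      simp only [Finset.coe_filter, Finset.mem_univ, true_and, Set.mem_ofPred_eq] at hx ⊢
      apply hc.ti (x⁻¹ * x₀) (x₀⁻¹ * g * x₀) hx₀.1 hx₀.2
      have : x⁻¹ * x₀ * (x₀⁻¹ * g * x₀) * (x⁻¹ * x₀)⁻¹ = x⁻¹ * g * x := by group
      rw [this]
      exact hx.1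
    · intro x _ y _ h
      simp only at h
      have := mul_right_cancel h
      exact inv_injective this
  · rw [Finset.not_nonempty_iff_eq_empty] at hne
    rw [hne]
    simp

/-- the counting inequality. -/
theorem Cfg.count_ineq (hc : Cfg A t) (F : G → ℝ) (hF0 : ∀ g, 0 ≤ F g)
    (hFc : ∀ g x : G, F (x * g * x⁻¹) = F g) :
    (Nat.card G : ℝ) * (∑ a : A, F a - F 1)
      ≤ 2 * (Nat.card A : ℝ) * (∑ g : G, F g - F 1) := by
  classical
  -- step 1
  have h1 : ∀ x : G, ∑ g : G, (if x⁻¹ * g * x ∈ A ∧ x⁻¹ * g * x ≠ 1 then F g else 0)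
      = ∑ a : A, F a - F 1 := by
    intro x
    rw [← Equiv.sum_comp (MulAut.conj x).toEquiv]
    have e1 : ∀ y : G, (if x⁻¹ * ((MulAut.conj x).toEquiv y) * x ∈ A ∧
        x⁻¹ * ((MulAut.conj x).toEquiv y) * x ≠ 1 then F ((MulAut.conj x).toEquiv y) else 0)
        = (if y ∈ A then F y else 0) - (if y = 1 then F 1 else 0) := by
      intro y
      have e2 : (MulAut.conj x).toEquiv y = x * y * x⁻¹ := rfl
      have e3 : x⁻¹ * (x * y * x⁻¹) * x = y := by group
      rw [e2, e3, hFc]
      by_cases hy : y ∈ A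
      · by_cases hy1 : y = 1
        · subst hy1
          simp
        · simp [hy, hy1]
      · have hy1 : y ≠ 1 := fun h => hy (h ▸ A.one_mem)
        simp [hy, hy1]
    simp only [e1]
    rw [Finset.sum_sub_distrib, Finset.sum_ite_eq' Finset.univ (1 : G) (fun _ => F 1),
      if_pos (Finset.mem_univ _)]
    congr 1
    rw [← Finset.sum_filter]
    exact Finset.sum_subtype (Finset.univ.filter (fun y : G => y ∈ A))
      (fun y => by simp) (fun y => F y)
  -- step 2
  have h2 : ∑ x : G, ∑ g : G, (if x⁻¹ * g * x ∈ A ∧ x⁻¹ * g * x ≠ 1 then F g else 0)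
      = (Nat.card G : ℝ) * (∑ a : A, F a - F 1) := by
    rw [Finset.sum_congr rfl (fun x _ => h1 x), Finset.sum_const, Finset.card_univ,
      Nat.card_eq_fintype_card, nsmul_eq_mul]
  rw [← h2, Finset.sum_comm]
  -- step 3
  have h3 : ∀ g : G, ∑ x : G, (if x⁻¹ * g * x ∈ A ∧ x⁻¹ * g * x ≠ 1 then F g else 0)
      ≤ 2 * (Nat.card A : ℝ) * ((F g) - (if g = 1 then F 1 else 0)) := by
    intro g
    rw [← Finset.sum_filter, Finset.sum_const, nsmul_eq_mul]
    by_cases hg : g = 1
    · subst hg
      have : (Finset.univ.filter (fun x : G => x⁻¹ * 1 * x ∈ A ∧ x⁻¹ * 1 * x ≠ 1)) = ∅ := by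
        apply Finset.filter_eq_empty_iff.mpr
        intro x _ hx
        apply hx.2
        group
      rw [this]
      simp
    · rw [if_neg hg, sub_zero]
      have hb := hc.card_fibre_le g
      have hb' : ((Finset.univ.filter
          (fun x : G => x⁻¹ * g * x ∈ A ∧ x⁻¹ * g * x ≠ 1)).card : ℝ) ≤ 2 * (Nat.card A : ℝ) := by
        exact_mod_cast hb
      exact mul_le_mul_of_nonneg_right hb' (hF0 g)
  refine le_trans (Finset.sum_le_sum (fun g _ => h3 g)) ?_
  rw [← Finset.mul_sum, Finset.sum_sub_distrib, Finset.sum_ite_eq' Finset.univ (1 : G) (fun _ => F 1),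
    if_pos (Finset.mem_univ _)]

end Cfsg.Agent.Lib.Helper7.BSW
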