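import Mathlib

set_option autoImplicit false

/-!
# Arithmetic for the exceptional character degree
-/

namespace Cfsg.Agent.Lib.Helper7.BSW

theorem arith_main (m c e X₁ X₂ D S : ℤ) (hm : 9 ≤ m) (he : e = 1 ∨ e = -1) (hc0 : 0 ≤ c)
    (hX : X₁ ^ 2 ≤ 2 * X₂)
    (hD : D = 2 * m * c + 2 * e + X₁)
    (hS : S = 2 * m * c ^ 2 + 2 * c * (2 * e + X₁) + 2 + X₂)
    (hineq : (4 * m ^ 2 - 2 * m + 1) * (2 * m * S - D ^ 2)
      ≤ 4 * m * (4 * m ^ 2 - 2 * m + 1) - D ^ 2)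
    (hDpos : 0 < D) :
    X₂ = 0 ∧ X₁ = 0 ∧ ((c = 0 ∧ e = 1) ∨ c = 1 ∨ (c = 2 ∧ e = -1)) := by
  have hr : 0 < 4 * m ^ 2 - 2 * m + 1 := by nlinarith
  have hX2 : 0 ≤ X₂ := by nlinarith [sq_nonneg X₁]
  -- Step A
  have hA : D ^ 2 ≤ (4 * m ^ 2 - 2 * m + 1) * ((2 * e + X₁) ^ 2 - 2 * m * X₂) := by
    have e1 : 2 * m * S - D ^ 2 = 2 * m * (2 + X₂) - (2 * e + X₁) ^ 2 := by
      rw [hS, hD]; ring
    rw [e1] at hineq
    nlinarith
  have he2 : e ^ 2 = 1 := by rcases he with h | h <;> rw [h] <;> norm_num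
  -- Step B
  have hX20 : X₂ = 0 := by
    by_contra hne
    have hX21 : 1 ≤ X₂ := by omega
    have h4 : 4 * e * X₁ ≤ 4 * X₁ ^ 2 := by
      rcases he with h | h <;> rw [h]
      · rcases le_or_gt X₁ 0 with h0 | h0
        · nlinarith [sq_nonneg X₁]
        · nlinarith
      · rcases le_or_gt 0 X₁ with h0 | h0
        · nlinarith [sq_nonneg X₁]
        · nlinarith
    have h5 : (2 * e + X₁) ^ 2 ≤ 4 + 10 * X₂ := by
      have : (2 * e + X₁) ^ 2 = 4 * e ^ 2 + 4 * e * X₁ + X₁ ^ 2 := by ring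
      rw [this, he2]
      nlinarith
    have h6 : (2 * e + X₁) ^ 2 - 2 * m * X₂ < 0 := by nlinarith
    have h7 : (4 * m ^ 2 - 2 * m + 1) * ((2 * e + X₁) ^ 2 - 2 * m * X₂) < 0 :=
      mul_neg_of_pos_of_neg hr h6
    nlinarith [sq_nonneg D]
  have hX10 : X₁ = 0 := by
    rw [hX20] at hX
    have : X₁ ^ 2 = 0 := le_antisymm (by linarith) (sq_nonneg X₁)
    exact pow_eq_zero_iff (by norm_num) |>.mp this
  refine ⟨hX20, hX10, ?_⟩
  subst hX20 hX10
  have hD' : D = 2 * (m * c + e) := by rw [hD]; ring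
  have hB : (m * c + e) ^ 2 ≤ 4 * m ^ 2 - 2 * m + 1 := by
    have : D ^ 2 = 4 * (m * c + e) ^ 2 := by rw [hD']; ring
    have h8 : (2 * e + 0) ^ 2 - 2 * m * 0 = 4 := by
      have : (2 * e + 0) ^ 2 - 2 * m * 0 = 4 * e ^ 2 := by ring
      rw [this, he2]; norm_num
    rw [h8] at hA
    nlinarith
  have hc2 : c ≤ 2 := by
    by_contra hgt
    have hc3 : 3 ≤ c := by omega
    have h9 : 3 * m - 1 ≤ m * c + e := by
      rcases he with h | h <;> rw [h] <;> nlinarith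
    have h10 : 0 ≤ 3 * m - 1 := by linarith
    have h11 : (3 * m - 1) ^ 2 ≤ (m * c + e) ^ 2 := by
      apply pow_le_pow_left₀ h10 h9
    nlinarith
  have hcases : c = 0 ∨ c = 1 ∨ c = 2 := by omega
  rcases hcases with h | h | h
  · left
    refine ⟨h, ?_⟩
    rcases he with h' | h'
    · exact h'
    · exfalso
      rw [hD', h, h'] at hDpos
      norm_num at hDpos
  · right; left; exact h
  · right; right
    refine ⟨h, ?_⟩
    rcases he with h' | h'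
    · exfalso
      rw [h, h'] at hB
      nlinarith
    · exact h'

theorem arith_dvd (m c e D : ℤ) (hm : 9 ≤ m) (h3 : (3 : ℤ) ∣ m)
    (hD : D = 2 * m * c + 2 * e)
    (hcase : (c = 0 ∧ e = 1) ∨ (c = 1 ∧ (e = 1 ∨ e = -1)) ∨ (c = 2 ∧ e = -1))
    (hdvd : D ∣ 4 * m * (4 * m ^ 2 - 2 * m + 1)) :
    c = 0 ∧ e = 1 := by
  rcases hcase with h | ⟨hc, he⟩ | ⟨hc, he⟩
  · exact h
  · exfalso
    rcases he with he | he
    · -- D = 2m + 2
      rw [hD, hc, he] at hdvd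
      obtain ⟨k, hk⟩ := hdvd
      have h1 : (m + 1) ∣ 14 := by
        refine ⟨8 * m ^ 2 - 12 * m + 14 - k, ?_⟩
        nlinarith
      have h2 : m + 1 ≤ 14 := Int.le_of_dvd (by norm_num) h1
      have h4 : m ≤ 13 := by linarith
      obtain ⟨j, hj⟩ := h3
      have hj1 : 3 ≤ j := by omega
      have hj2 : j ≤ 4 := by omega
      interval_cases j
      · rw [hj] at h1; norm_num at h1
      · rw [hj] at h1; norm_num at h1
    · -- D = 2m - 2
      rw [hD, hc, he] at hdvd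
      obtain ⟨k, hk⟩ := hdvd
      have h1 : (m - 1) ∣ 6 := by
        refine ⟨k - (8 * m ^ 2 + 4 * m + 6), ?_⟩
        nlinarith
      have h2 : m - 1 ≤ 6 := Int.le_of_dvd (by norm_num) h1
      linarith
  · exfalso
    rw [hD, hc, he] at hdvd
    obtain ⟨k, hk⟩ := hdvd
    have h1 : (2 * m - 1) ∣ 1 := by
      refine ⟨k - (4 * m ^ 2 + 1), ?_⟩
      nlinarith
    have h2 : 2 * m - 1 ≤ 1 := Int.le_of_dvd (by norm_num) h1
    linarith

end Cfsg.Agent.Lib.Helper7.BSW
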