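import Mathlib
import Cfsg.Prelude.Def_Characters
import Cfsg.Agent.Lib.Helper7.BSW1
import Cfsg.Agent.Lib.Helper7.BSW2
import Cfsg.Agent.Lib.Helper7.BSW3
import Cfsg.Agent.Lib.Helper7.BSW4
import Cfsg.Agent.Lib.Helper7.BSW5
import Cfsg.Agent.Lib.Helper7.BSW6
import Cfsg.Agent.Lib.Helper7.BSW7

set_option autoImplicit false
set_option maxHeartbeats 1000000

/-!
# The character-theoretic contradiction
-/

namespace Cfsg.Agent.Lib.Helper7.BSW

open Cfsg Cfsg.Agent.Lib.Helper1 Cfsg.Agent.Lib.Helper4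
open scoped ComplexConjugate

variable {G : Type*} [Group G] [Fintype G] {A : Subgroup G} {t : G}

theorem Cfg.false (hc : Cfg A t) [IsSimpleGroup G] (hnc : ∃ a b : G, a * b ≠ b * a)
    (m : ℕ) (hm : 9 ≤ m) (h3 : 3 ∣ m) (hodd : Odd m) (hA : Nat.card A = 2 * m)
    (hG : (Nat.card G : ℤ) = 4 * m * (4 * (m : ℤ) ^ 2 - 2 * m + 1))
    (z : G) (hzA : z ∈ A) (hz1 : z ≠ 1) (hz2 : z * z = 1)
    (hAm : ∀ a ∈ A, a ^ m = 1 ∨ (z * a) ^ m = 1) : False := by
  classical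
  haveI : Fintype A := Fintype.ofFinite A
  haveI : Fintype (Cfsg.IrrCharacter A) := Fintype.ofFinite _
  obtain ⟨R, hR⟩ := exists_half (A := A)
  obtain ⟨ε, hε, f, hf, hrel⟩ := exists_exceptional hc hR
  -- the size of the dual
  have hcard : Fintype.card (Cfsg.IrrCharacter A) = 2 * m := by
    rw [← Nat.card_eq_fintype_card, card_irr hc, hA]
  set Rl := Finset.univ.filter (fun μ : Cfsg.IrrCharacter A => bar μ = μ) with hRl_def
  have hRl : Rl.card ≤ 2 := card_real_le hc hodd hzA hz2 hAm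
  have hmemRl : ∀ μ, μ ∈ Rl ↔ bar μ = μ := fun μ => by
    rw [hRl_def, Finset.mem_filter]; simp
  -- a nonreal character
  obtain ⟨μ₁, hμ₁⟩ : ∃ μ : Cfsg.IrrCharacter A, bar μ ≠ μ := by
    by_contra hcon
    push Not at hcon
    have : Rl = Finset.univ := by
      apply Finset.eq_univ_of_forall
      intro μ
      exact (hmemRl μ).2 (hcon μ)
    rw [this, Finset.card_univ, hcard] at hRl
    omega
  obtain ⟨μ₀, hμ₀R⟩ : ∃ μ₀, μ₀ ∈ R :=
    (hR.cover μ₁ hμ₁).elim (fun h => ⟨_, h⟩) (fun h => ⟨_, h⟩)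
  have hμ₀ : bar μ₀ ≠ μ₀ := hR.ne_bar hμ₀R
  set κ : R := ⟨μ₀, hμ₀R⟩ with hκ
  set Θ : G → ℂ := (f κ : G → ℂ) with hΘdef
  have hΘ : Cfsg.IsIrrCharacter G Θ := (f κ).2
  have hΘch : Cfsg.IsCharacter G Θ := isCharacter_of_irr hΘ
  have hΘcf : Cfsg.IsClassFunction G Θ := isClassFunction_irr hΘ
  choose bn hbn using fun μ : Cfsg.IrrCharacter A => mult_nat (A := A) hΘch μ
  obtain ⟨e, he, hεe⟩ : ∃ e : ℤ, (e = 1 ∨ e = -1) ∧ ε = (e : ℂ) := by
    rcases hε with h | h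
    · exact ⟨1, Or.inl rfl, by rw [h]; simp⟩
    · exact ⟨-1, Or.inr rfl, by rw [h]; simp⟩
  have hbar : ∀ μ, bn (bar μ) = bn μ := by
    intro μ
    have := mult_bar hc hΘcf μ
    rw [hbn, hbn] at this
    exact_mod_cast this
  have hdiff : ∀ ν : R, ν ≠ κ → (bn μ₀ : ℤ) - bn ν = e := by
    intro ν hν
    have h1 := mult_diff hf hrel κ κ ν
    rw [if_pos rfl, if_neg hν, sub_zero, mul_one, hεe] at h1
    have h2 : mult A Θ μ₀ - mult A Θ (ν : Cfsg.IrrCharacter A) = (e : ℂ) := h1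
    rw [hbn, hbn] at h2
    exact_mod_cast h2
  set c : ℤ := (bn μ₀ : ℤ) - e with hcdef
  have hgen : ∀ μ, bar μ ≠ μ → μ ≠ μ₀ → μ ≠ bar μ₀ → (bn μ : ℤ) = c := by
    intro μ h1 h2 h3
    rcases hR.cover μ h1 with h | h
    · have := hdiff ⟨μ, h⟩ (fun h' => h2 (congrArg Subtype.val h'))
      simp only at this
      omega
    · have hne : (⟨bar μ, h⟩ : R) ≠ κ := by
        intro h'
        have h4 : bar μ = μ₀ := congrArg Subtype.val h'
        apply h3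
        rw [← h4, bar_bar]
      have := hdiff ⟨bar μ, h⟩ hne
      simp only at this
      rw [hbar] at this
      omega
  -- c is nonnegative
  have hc0 : 0 ≤ c := by
    have hex : ∃ μ : Cfsg.IrrCharacter A, μ ∉ ({μ₀, bar μ₀} ∪ Rl : Finset _) := by
      by_contra hcon
      push Not at hcon
      have h1 : ({μ₀, bar μ₀} ∪ Rl : Finset (Cfsg.IrrCharacter A)) = Finset.univ :=
        Finset.eq_univ_of_forall hcon
      have h2 := Finset.card_union_le ({μ₀, bar μ₀} : Finset (Cfsg.IrrCharacter A)) Rl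
      rw [h1, Finset.card_univ, hcard] at h2
      have h3 : ({μ₀, bar μ₀} : Finset (Cfsg.IrrCharacter A)).card ≤ 2 := Finset.card_le_two
      omega
    obtain ⟨μ, hμ⟩ := hex
    simp only [Finset.mem_union, Finset.mem_insert, Finset.mem_singleton, not_or, hmemRl] at hμ
    rw [← hgen μ hμ.2 hμ.1.1 hμ.1.2]
    exact Int.natCast_nonneg _
  -- the shifted multiplicities
  set b' : Cfsg.IrrCharacter A → ℤ := fun μ => (bn μ : ℤ) - c with hb'
  have hb'0 : b' μ₀ = e := by simp only [hb', hcdef]; ring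
  have hb'1 : b' (bar μ₀) = e := by simp only [hb', hcdef, hbar]; ring
  have hμ₀Rl : μ₀ ∉ Rl := fun h => hμ₀ ((hmemRl _).1 h)
  have hbμ₀Rl : bar μ₀ ∉ Rl := fun h => hμ₀ (by
    have := (hmemRl _).1 h
    rw [bar_bar] at this
    exact this.symm)
  have hsupp : ∀ (g : ℤ → ℤ), g 0 = 0 → ∀ μ, μ ≠ μ₀ → μ ≠ bar μ₀ → μ ∉ Rl → g (b' μ) = 0 := by
    intro g hg μ h1 h2 h3
    have : b' μ = 0 := by
      simp only [hb']
      rw [hgen μ (fun h => h3 ((hmemRl _).2 h)) h1 h2]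
      ring
    rw [this, hg]
  set X₁ : ℤ := ∑ μ ∈ Rl, b' μ with hX₁
  set X₂ : ℤ := ∑ μ ∈ Rl, b' μ ^ 2 with hX₂
  have hsum1 : ∑ μ, b' μ = 2 * e + X₁ := by
    rw [sum_eq_of_support (fun μ => b' μ) μ₀ (bar μ₀) hμ₀.symm Rl hμ₀Rl hbμ₀Rl
      (hsupp id rfl), hb'0, hb'1]
    ring
  have he2 : e ^ 2 = 1 := by rcases he with h | h <;> rw [h] <;> norm_num
  have hsum2 : ∑ μ, b' μ ^ 2 = 2 + X₂ := by
    rw [sum_eq_of_support (fun μ => b' μ ^ 2) μ₀ (bar μ₀) hμ₀.symm Rl hμ₀Rl hbμ₀Rl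
      (hsupp (fun x => x ^ 2) (by norm_num)), hb'0, hb'1, he2]
    ring
  have hX : X₁ ^ 2 ≤ 2 * X₂ := by
    have h1 := sq_sum_le_card_mul_sum_sq (s := Rl) (f := b')
    have h2 : (Rl.card : ℤ) ≤ 2 := by exact_mod_cast hRl
    have h3 : 0 ≤ X₂ := Finset.sum_nonneg (fun μ _ => sq_nonneg _)
    calc X₁ ^ 2 ≤ (Rl.card : ℤ) * X₂ := h1
      _ ≤ 2 * X₂ := mul_le_mul_of_nonneg_right h2 h3
  -- degree and norm
  obtain ⟨D, hDpos, hD1⟩ := irr_apply_one_pos hΘ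
  have hbnb' : ∀ μ, (bn μ : ℤ) = c + b' μ := fun μ => by simp only [hb']; ring
  have hDsum : (D : ℤ) = 2 * m * c + 2 * e + X₁ := by
    have h1 := degree_eq_sum_mult hc Θ
    rw [hD1] at h1
    simp only [hbn] at h1
    have h2 : (D : ℤ) = ∑ μ, (bn μ : ℤ) := by exact_mod_cast h1
    rw [h2, Finset.sum_congr rfl (fun μ _ => hbnb' μ), Finset.sum_add_distrib, hsum1,
      Finset.sum_const, Finset.card_univ, hcard]
    simp only [nsmul_eq_mul]
    push_cast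
    ring
  set S : ℤ := ∑ μ, (bn μ : ℤ) ^ 2 with hSdef
  have hS : S = 2 * m * c ^ 2 + 2 * c * (2 * e + X₁) + 2 + X₂ := by
    have h1 : ∀ μ, (bn μ : ℤ) ^ 2 = c ^ 2 + 2 * c * b' μ + b' μ ^ 2 := fun μ => by
      rw [hbnb' μ]; ring
    rw [hSdef, Finset.sum_congr rfl (fun μ _ => h1 μ), Finset.sum_add_distrib,
      Finset.sum_add_distrib, ← Finset.mul_sum, hsum1, hsum2, Finset.sum_const, Finset.card_univ,
      hcard]
    simp only [nsmul_eq_mul]
    push_cast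
    ring
  -- the counting inequality
  have hnormA : ∑ a : A, Complex.normSq (Θ a) = 2 * (m : ℝ) * (S : ℝ) := by
    have h1 := sum_norm_res hc hΘch
    simp only [hbn] at h1
    have h2 : ∀ a : A, Θ a * conj (Θ a) = ((Complex.normSq (Θ a) : ℝ) : ℂ) := fun a =>
      Complex.mul_conj _
    rw [Finset.sum_congr rfl (fun a _ => h2 a), hA] at h1
    have h3 : ((∑ a : A, Complex.normSq (Θ a) : ℝ) : ℂ) = ((2 * (m : ℝ) * (S : ℝ) : ℝ) : ℂ) := by
      push_cast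
      rw [h1, hSdef]
      push_cast
      congr 1
      refine Finset.sum_congr rfl fun μ _ => ?_
      ring
    exact_mod_cast h3
  have hnormG : ∑ g : G, Complex.normSq (Θ g) = (Nat.card G : ℝ) := by
    have h1 := classInner_irr_self hΘ
    rw [classInner_def] at h1
    have h2 : ∀ g : G, Θ g * conj (Θ g) = ((Complex.normSq (Θ g) : ℝ) : ℂ) := fun g =>
      Complex.mul_conj _
    rw [Finset.sum_congr rfl (fun g _ => h2 g)] at h1
    have hG0 : (Nat.card G : ℂ) ≠ 0 := Nat.cast_ne_zero.mpr Nat.card_pos.ne'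
    have h3 : ((∑ g : G, Complex.normSq (Θ g) : ℝ) : ℂ) = ((Nat.card G : ℝ) : ℂ) := by
      push_cast
      field_simp at h1
      exact h1
    exact_mod_cast h3
  have hF1 : Complex.normSq (Θ 1) = (D : ℝ) ^ 2 := by
    rw [hD1, Complex.normSq_natCast]
    ring
  have hcount := hc.count_ineq (fun g => Complex.normSq (Θ g)) (fun g => Complex.normSq_nonneg _)
    (fun g x => by rw [hΘcf g x])
  rw [hnormA, hnormG, hF1, hA] at hcount
  have hGr : (Nat.card G : ℝ) = 4 * (m : ℝ) * (4 * (m : ℝ) ^ 2 - 2 * m + 1) := by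
    exact_mod_cast hG
  rw [hGr] at hcount
  have hm0 : (0 : ℝ) < m := by
    have : 0 < m := by omega
    exact_mod_cast this
  have hineqR : (4 * (m : ℝ) ^ 2 - 2 * m + 1) * (2 * m * (S : ℝ) - (D : ℝ) ^ 2)
      ≤ 4 * m * (4 * (m : ℝ) ^ 2 - 2 * m + 1) - (D : ℝ) ^ 2 := by
    have h4 : (0 : ℝ) < 4 * m := by linarith
    have : 4 * (m : ℝ) * ((4 * (m : ℝ) ^ 2 - 2 * m + 1) * (2 * m * (S : ℝ) - (D : ℝ) ^ 2))
        ≤ 4 * (m : ℝ) * (4 * m * (4 * (m : ℝ) ^ 2 - 2 * m + 1) - (D : ℝ) ^ 2) := by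
      push_cast at hcount
      nlinarith [hcount]
    exact le_of_mul_le_mul_left this h4
  have hineq : (4 * (m : ℤ) ^ 2 - 2 * m + 1) * (2 * m * S - (D : ℤ) ^ 2)
      ≤ 4 * m * (4 * (m : ℤ) ^ 2 - 2 * m + 1) - (D : ℤ) ^ 2 := by
    exact_mod_cast hineqR
  have hm9 : (9 : ℤ) ≤ m := by exact_mod_cast hm
  have hDposZ : (0 : ℤ) < D := by exact_mod_cast hDpos
  obtain ⟨hX20, hX10, hcase⟩ := arith_main (m : ℤ) c e X₁ X₂ D S hm9 he hc0 hX hDsum hS hineq hDposZ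
  -- divisibility
  have hdvd : (D : ℤ) ∣ 4 * m * (4 * (m : ℤ) ^ 2 - 2 * m + 1) := by
    rw [← hG]
    exact_mod_cast irr_degree_dvd hΘ hD1
  have hcase' : (c = 0 ∧ e = 1) ∨ (c = 1 ∧ (e = 1 ∨ e = -1)) ∨ (c = 2 ∧ e = -1) := by
    rcases hcase with h | h | h
    · exact Or.inl h
    · exact Or.inr (Or.inl ⟨h, he⟩)
    · exact Or.inr (Or.inr h)
  have h3' : (3 : ℤ) ∣ m := by exact_mod_cast h3
  have hD' : (D : ℤ) = 2 * m * c + 2 * e := by rw [hDsum, hX10]; ring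
  obtain ⟨hc00, he1⟩ := arith_dvd (m : ℤ) c e D hm9 h3' hD' hcase' hdvd
  -- now D = 2 and Θ z = ± 2
  have hD2 : D = 2 := by
    have : (D : ℤ) = 2 := by rw [hD', hc00, he1]; ring
    exact_mod_cast this
  have hbRl : ∀ μ ∈ Rl, b' μ = 0 := by
    intro μ hμ
    have h1 : ∑ μ ∈ Rl, b' μ ^ 2 = 0 := hX20
    have h2 := (Finset.sum_eq_zero_iff_of_nonneg (fun μ _ => sq_nonneg (b' μ))).1 h1 μ hμ
    exact pow_eq_zero_iff (by norm_num) |>.mp h2
  have hbnval : ∀ μ, (bn μ : ℤ) = if μ = μ₀ ∨ μ = bar μ₀ then 1 else 0 := by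
    intro μ
    rw [hbnb' μ, hc00, zero_add]
    by_cases h1 : μ = μ₀
    · rw [if_pos (Or.inl h1), h1, hb'0, he1]
    · by_cases h2 : μ = bar μ₀
      · rw [if_pos (Or.inr h2), h2, hb'1, he1]
      · rw [if_neg (by tauto)]
        by_cases h3 : μ ∈ Rl
        · exact hbRl μ h3
        · exact hsupp id rfl μ h1 h2 h3
  have hΘz : Θ z = 2 * (μ₀ : A → ℂ) ⟨z, hzA⟩ := by
    have hcf : Cfsg.IsClassFunction A (res A Θ) := by
      intro g x
      have : x * g * x⁻¹ = g := by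
        apply Subtype.ext
        push_cast
        exact hc.conj_of_mem x.2 g.2
      rw [this]
    have h1 := congrFun (class_function_expansion (res A Θ) hcf) ⟨z, hzA⟩
    rw [Finset.sum_apply] at h1
    have h2 : res A Θ ⟨z, hzA⟩ = Θ z := rfl
    rw [h2] at h1
    rw [h1]
    have h3 : ∀ μ : Cfsg.IrrCharacter A,
        (Cfsg.classInner (res A Θ) (μ : A → ℂ) • (μ : A → ℂ)) ⟨z, hzA⟩
        = (((if μ = μ₀ ∨ μ = bar μ₀ then 1 else 0 : ℤ) : ℤ) : ℂ) * (μ : A → ℂ) ⟨z, hzA⟩ := by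
      intro μ
      rw [Pi.smul_apply, smul_eq_mul, ← hbnval μ]
      have := hbn μ
      unfold mult at this
      rw [this]
      push_cast
      rfl
    rw [Finset.sum_congr rfl (fun μ _ => h3 μ)]
    have h4 : ∀ μ : Cfsg.IrrCharacter A, μ ≠ μ₀ → μ ≠ bar μ₀ → μ ∉ (∅ : Finset (Cfsg.IrrCharacter A)) →
        (((if μ = μ₀ ∨ μ = bar μ₀ then 1 else 0 : ℤ) : ℤ) : ℂ) * (μ : A → ℂ) ⟨z, hzA⟩ = 0 := by
      intro μ h1 h2 _
      rw [if_neg (by tauto)]
      simp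
    have h5 : ∑ μ : Cfsg.IrrCharacter A,
        (((if μ = μ₀ ∨ μ = bar μ₀ then 1 else 0 : ℤ) : ℤ) : ℂ) * (μ : A → ℂ) ⟨z, hzA⟩
        = (μ₀ : A → ℂ) ⟨z, hzA⟩ + (bar μ₀ : A → ℂ) ⟨z, hzA⟩ := by
      rw [← Finset.sum_subset (Finset.subset_univ ({μ₀, bar μ₀} : Finset (Cfsg.IrrCharacter A)))]
      · rw [Finset.sum_pair hμ₀.symm, if_pos (Or.inl rfl), if_pos (Or.inr rfl)]
        simp
      · intro μ _ hμ
        simp only [Finset.mem_insert, Finset.mem_singleton, not_or] at hμ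
        rw [if_neg (by tauto)]
        simp
    rw [h5, bar_apply]
    have hzinv : (⟨z, hzA⟩ : A)⁻¹ = ⟨z, hzA⟩ := by
      apply Subtype.ext
      push_cast
      exact inv_eq_of_mul_eq_one_right hz2
    rw [hzinv]
    ring
  have hsq : Θ z * Θ z = Θ 1 * Θ 1 := by
    rw [hΘz, hD1, hD2]
    rcases apply_z hc hzA hz2 μ₀ with h | h <;> rw [h] <;> norm_num
  have hΘ12 : Θ 1 = 2 := by rw [hD1, hD2]; norm_num
  exact false_of_sq_eq hnc hΘ hΘ12 hz2 hz1 hsq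

end Cfsg.Agent.Lib.Helper7.BSW
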