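import Mathlib
import Cfsg.Prelude.Def_OddOrderLocal
import Cfsg.Agent.Lib.Helper7.BSW8
import Cfsg.Agent.Lib.Helper7.BSW10
import Cfsg.Agent.Lib.Helper7.BSW13
import Cfsg.Agent.Lib.Helper7.BSW16
import Cfsg.Agent.Lib.Helper7.BSW17

set_option autoImplicit false

/-!
# Final assembly: abelian Sylow 3-subgroup with small normalizer
-/

namespace Cfsg.Agent.Lib.Helper7.BSW

open Subgroup

variable {G : Type*} [Group G] [Finite G]

theorem not_simple_of_card_four (h4 : Nat.card G = 4) : ¬ IsSimpleGroup G := by
  intro hs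
  haveI : Fact (Nat.Prime 2) := ⟨Nat.prime_two⟩
  obtain ⟨x, hx⟩ := exists_prime_orderOf_dvd_card' (G := G) 2 (by rw [h4]; norm_num)
  have hcard : Nat.card (Subgroup.zpowers x) = 2 := by rw [Nat.card_zpowers, hx]
  have hidx : (Subgroup.zpowers x).index = 2 := by
    have := Subgroup.card_mul_index (Subgroup.zpowers x)
    rw [hcard, h4] at this
    omega
  have hnorm : (Subgroup.zpowers x).Normal := Subgroup.normal_of_index_eq_two hidx
  rcases hnorm.eq_bot_or_eq_top with hb | ht
  · rw [hb, Subgroup.card_bot] at hcard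
    omega
  · rw [ht, Subgroup.card_top, h4] at hcard
    omega

theorem not_simple_of_card_372 (h : Nat.card G = 372) : ¬ IsSimpleGroup G := by
  intro hs
  haveI : Fact (Nat.Prime 31) := ⟨by norm_num⟩
  obtain ⟨Q⟩ : Nonempty (Sylow 31 G) := inferInstance
  have hQ : Nat.card Q = 31 := by
    rw [Sylow.card_eq_multiplicity, h]
    have hk1 : 0 < (372 : ℕ).factorization 31 :=
      Nat.Prime.factorization_pos_of_dvd (by norm_num) (by norm_num) (by norm_num)
    have hk2 : 31 ^ (372 : ℕ).factorization 31 ∣ 372 := Nat.ordProj_dvd 372 31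
    have hk3 : (372 : ℕ).factorization 31 < 2 := by
      by_contra hge
      push Not at hge
      have : 31 ^ 2 ∣ 31 ^ (372 : ℕ).factorization 31 := pow_dvd_pow 31 hge
      have := Nat.le_of_dvd (by norm_num) (dvd_trans this hk2)
      norm_num at this
    have : (372 : ℕ).factorization 31 = 1 := by omega
    rw [this, pow_one]
  have hidx : (Q : Subgroup G).index = 12 := by
    have := Subgroup.card_mul_index (Q : Subgroup G)
    rw [hQ, h] at this
    omega
  have h1 := card_sylow_modEq_one 31 G
  have h2 : Nat.card (Sylow 31 G) ∣ 12 := by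
    rw [← hidx]; exact Sylow.card_dvd_index Q
  have h3 : Nat.card (Sylow 31 G) ≤ 12 := Nat.le_of_dvd (by norm_num) h2
  have h4 : Nat.card (Sylow 31 G) = 1 := by
    unfold Nat.ModEq at h1
    have hpos : 0 < Nat.card (Sylow 31 G) := Nat.card_pos
    omega
  have hnormal : (Q : Subgroup G).Normal := by
    have hsub : Subsingleton (Sylow 31 G) := (Nat.card_eq_one_iff_unique.mp h4).1
    exact Sylow.normal_of_subsingleton Q
  rcases hnormal.eq_bot_or_eq_top with hb | ht
  · rw [hb, Subgroup.card_bot] at hQ
    omega
  · rw [ht, Subgroup.card_top, h] at hQ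
    omega

theorem main (P : Sylow 3 G) (hab : IsMulCommutative P)
    (hN : Nat.card (Subgroup.normalizer ((P : Subgroup G) : Set G)) = 4 * Nat.card P)
    (hC : Nat.card (Subgroup.centralizer (P : Set G)) = 2 * Nat.card P)
    (hTI : Cfsg.IsTISubset (Subgroup.centralizer (P : Set G) : Set G))
    (heven : ∀ H : Subgroup G, H ≠ ⊤ → 2 ∣ Nat.card H → Nat.card H ∣ 4 * Nat.card P) :
    ¬ IsSimpleGroup G := by
  intro hsimple
  haveI : Fact (Nat.Prime 3) := ⟨Nat.prime_three⟩
  haveI : Fintype G := Fintype.ofFinite G
  obtain ⟨m, hmdef⟩ : ∃ m : ℕ, m = Nat.card P := ⟨_, rfl⟩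
  have hm3 : m = 3 ^ (Nat.card G).factorization 3 := by
    rw [hmdef]; exact Sylow.card_eq_multiplicity P
  by_cases hm1 : m = 1
  · -- trivial Sylow 3-subgroup
    have hPbot : (P : Subgroup G) = ⊥ := by
      apply (Subgroup.card_eq_one).mp
      rw [← hm1, hmdef]
    have hNtop : Subgroup.normalizer ((P : Subgroup G) : Set G) = ⊤ := by
      rw [hPbot]
      exact Subgroup.normalizer_eq_top_iff.mpr inferInstance
    rw [hNtop, Subgroup.card_top, ← hmdef, hm1] at hN
    exact not_simple_of_card_four (by omega) hsimple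
  · have hmpos : 0 < m := by rw [hmdef]; exact Nat.card_pos
    have hm1' : 1 < m := by omega
    have hb := base_of_hyp P hab hN hC hTI
    rw [← hmdef] at hb heven
    obtain ⟨z, t, hF⟩ := exists_full P hb hm1' heven
    -- G is nonabelian
    have hnc : ∃ a b : G, a * b ≠ b * a := by
      by_contra hcomm
      push Not at hcomm
      -- then t inverts and centralizes C, so every element of P has order ≤ 2
      have hall : ∀ p ∈ (P : Subgroup G), p = 1 := by
        intro p hp
        have h1 := hF.inv p (hb.hPC hp)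
        have h2 : t * p * t⁻¹ = p := by rw [hcomm t p]; group
        rw [h2] at h1
        apply hb.eq_one_of_sq hp
        calc p * p = p * p⁻¹ := by rw [← h1]
          _ = 1 := mul_inv_cancel p
      have hPbot : (P : Subgroup G) = ⊥ := by
        rw [Subgroup.eq_bot_iff_forall]; exact hall
      have : Nat.card (P : Subgroup G) = 1 := by rw [hPbot, Subgroup.card_bot]
      rw [hb.cardP] at this
      omega
    have H := hF.conj_mem_C P hnc heven
    have hG := hF.order_formula H
    -- m is a power of three
    obtain ⟨k, hk⟩ : ∃ k, m = 3 ^ k := ⟨_, hm3⟩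
    have hk0 : k ≠ 0 := by
      rintro rfl
      rw [pow_zero] at hk
      exact hm1 hk
    by_cases hk1 : k = 1
    · -- m = 3, |G| = 372
      have hm : m = 3 := by rw [hk, hk1, pow_one]
      rw [hm] at hG
      have : Nat.card G = 372 := by
        have : (Nat.card G : ℤ) = 372 := by rw [hG]; norm_num
        exact_mod_cast this
      exact not_simple_of_card_372 this hsimple
    · have hk2 : 2 ≤ k := by omega
      have h9 : 9 ≤ m := by
        rw [hk]
        calc 9 = 3 ^ 2 := by norm_num
          _ ≤ 3 ^ k := Nat.pow_le_pow_right (by norm_num) hk2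
      have h3 : 3 ∣ m := by
        rw [hk]; exact dvd_pow_self 3 hk0
      have hzP : z ∉ (P : Subgroup G) := by
        intro hzP
        exact hF.hz1 (hb.eq_one_of_sq hzP hF.hz2)
      have hAm : ∀ a ∈ Subgroup.centralizer (P : Set G), a ^ m = 1 ∨ (z * a) ^ m = 1 := by
        intro a ha
        have hpow : ∀ x ∈ (P : Subgroup G), x ^ m = 1 := by
          intro x hx
          have h1 : (⟨x, hx⟩ : (P : Subgroup G)) ^ m = 1 := by
            rw [← hb.cardP]
            exact pow_card_eq_one'
          have := congrArg Subtype.val h1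
          simpa using this
        by_cases haP : a ∈ (P : Subgroup G)
        · exact Or.inl (hpow a haP)
        · right
          apply hpow
          exact (hb.idxP hF.hz ha).2 ⟨fun h' => absurd h' hzP, fun h' => absurd h' haP⟩
      exact hF.cfg.false hnc m h9 h3 hb.hodd hb.cardC hG z hF.hz hF.hz1 hF.hz2 hAm

end Cfsg.Agent.Lib.Helper7.BSW
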