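import Mathlib

set_option autoImplicit false

/-!
The Baer trick: a finite group of odd order and nilpotency class at most two carries an abelian
group structure on the same set, preserved by all automorphisms.
-/

namespace Cfsg.Agent.Lib.Helper7.Baer

open scoped commutatorElement

/-- hypotheses for the Baer trick -/
class Hyp (H : Type*) [Group H] : Prop where
  odd : Odd (Nat.card H)
  central : ∀ a b c : H, ⁅a, b⁆ * c = c * ⁅a, b⁆

variable {H : Type*} [Group H]

/-- the square root in a group of odd order -/
noncomputable def half (g : H) : H := g ^ ((Nat.card H + 1) / 2)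

theorem half_one : half (1 : H) = 1 := one_pow _

theorem half_inv (g : H) : half g⁻¹ = (half g)⁻¹ := inv_pow _ _

theorem half_mul_of_commute {a b : H} (h : Commute a b) : half (a * b) = half a * half b :=
  h.mul_pow _

theorem map_half (φ : H ≃* H) (g : H) : φ (half g) = half (φ g) := map_pow φ g _

theorem half_central {z : H} (hz : ∀ g : H, z * g = g * z) (g : H) : half z * g = g * half z := by
  have : Commute z g := hz g
  exact this.pow_left _

theorem half_mul_half [Hyp H] (g : H) : half g * half g = g := by
  unfold half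
  rw [← pow_add]
  obtain ⟨k, hk⟩ := (Hyp.odd : Odd (Nat.card H))
  have : (Nat.card H + 1) / 2 + (Nat.card H + 1) / 2 = Nat.card H + 1 := by omega
  rw [this, pow_succ, pow_card_eq_one', one_mul]

section comm
variable [Hyp H]

theorem comm_mul_left (a b c : H) : ⁅a * b, c⁆ = ⁅a, c⁆ * ⁅b, c⁆ := by
  have e : ⁅a * b, c⁆ = a * ⁅b, c⁆ * a⁻¹ * ⁅a, c⁆ := by
    simp only [commutatorElement_def]; group
  rw [e, ← Hyp.central b c a, mul_inv_cancel_right, Hyp.central]

theorem comm_mul_right (a b c : H) : ⁅a, b * c⁆ = ⁅a, b⁆ * ⁅a, c⁆ := by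
  rw [← commutatorElement_inv (b * c) a, comm_mul_left, mul_inv_rev, commutatorElement_inv,
    commutatorElement_inv, Hyp.central]

theorem comm_central_right (a b : H) {z : H} (hz : ∀ g : H, z * g = g * z) :
    ⁅a, b * z⁆ = ⁅a, b⁆ := by
  rw [comm_mul_right]
  have : ⁅a, z⁆ = 1 := by
    rw [commutatorElement_eq_one_iff_commute]
    exact (hz a).symm
  rw [this, mul_one]

theorem comm_central_left (a b : H) {z : H} (hz : ∀ g : H, z * g = g * z) :
    ⁅a * z, b⁆ = ⁅a, b⁆ := by
  rw [comm_mul_left]
  have : ⁅z, b⁆ = 1 := by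
    rw [commutatorElement_eq_one_iff_commute]
    exact hz b
  rw [this, mul_one]

theorem half_comm_central (a b c : H) : half ⁅a, b⁆ * c = c * half ⁅a, b⁆ :=
  half_central (Hyp.central a b) c

end comm

/-- the Baer group: the same set with the operation `a ∘ b = a b [b, a]^{1/2}` -/
structure B (H : Type*) where
  /-- the underlying element -/
  val : H

omit [Group H] in
theorem B.ext' {a b : B H} (h : a.val = b.val) : a = b := by
  cases a; cases b; cases h; rfl

noncomputable instance [Hyp H] : CommGroup (B H) where
  mul a b := ⟨a.val * b.val * half ⁅b.val, a.val⁆⟩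
  one := ⟨1⟩
  inv a := ⟨a.val⁻¹⟩
  mul_assoc a b c := by
    apply B.ext'
    show (a.val * b.val * half ⁅b.val, a.val⁆) * c.val *
        half ⁅c.val, a.val * b.val * half ⁅b.val, a.val⁆⁆ =
      a.val * (b.val * c.val * half ⁅c.val, b.val⁆) *
        half ⁅b.val * c.val * half ⁅c.val, b.val⁆, a.val⁆
    rw [comm_central_right _ _ (half_comm_central b.val a.val),
      comm_central_left _ _ (half_comm_central c.val b.val), comm_mul_right, comm_mul_left,
      half_mul_of_commute (Hyp.central c.val a.val _),
      half_mul_of_commute (Hyp.central b.val a.val _)]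
    have e1 : a.val * b.val * half ⁅b.val, a.val⁆ * c.val =
        a.val * b.val * c.val * half ⁅b.val, a.val⁆ := by
      rw [mul_assoc (a.val * b.val), half_comm_central, ← mul_assoc]
    rw [e1]
    have e2 : a.val * (b.val * c.val * half ⁅c.val, b.val⁆) =
        a.val * b.val * c.val * half ⁅c.val, b.val⁆ := by
      simp only [mul_assoc]
    rw [e2]
    simp only [mul_assoc]
    congr 3
    rw [← mul_assoc, half_comm_central c.val b.val, mul_assoc]
  one_mul a := by
    apply B.ext'
    show (1 : H) * a.val * half ⁅a.val, 1⁆ = a.val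
    rw [commutatorElement_one_right, half_one, mul_one, one_mul]
  mul_one a := by
    apply B.ext'
    show a.val * 1 * half ⁅(1 : H), a.val⁆ = a.val
    rw [commutatorElement_one_left, half_one, mul_one, mul_one]
  inv_mul_cancel a := by
    apply B.ext'
    show a.val⁻¹ * a.val * half ⁅a.val, a.val⁻¹⁆ = 1
    have : ⁅a.val, a.val⁻¹⁆ = 1 := by
      rw [commutatorElement_eq_one_iff_commute]
      exact (Commute.refl a.val).inv_right
    rw [this, half_one, mul_one, inv_mul_cancel]
  mul_comm a b := by
    apply B.ext'
    show a.val * b.val * half ⁅b.val, a.val⁆ = b.val * a.val * half ⁅a.val, b.val⁆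
    have e1 : a.val * b.val = ⁅a.val, b.val⁆ * (b.val * a.val) := by
      simp only [commutatorElement_def]; group
    have e2 : half ⁅b.val, a.val⁆ = (half ⁅a.val, b.val⁆)⁻¹ := by
      rw [← commutatorElement_inv, half_inv]
    obtain ⟨h, hh⟩ : ∃ h, h = half ⁅a.val, b.val⁆ := ⟨_, rfl⟩
    have e3 : ⁅a.val, b.val⁆ = h * h := by rw [hh]; exact (half_mul_half _).symm
    rw [e1, e2, Hyp.central, ← hh, e3, mul_assoc, mul_assoc, mul_inv_cancel_right, ← mul_assoc]

section basic
variable [Hyp H]

theorem val_mul (a b : B H) : (a * b).val = a.val * b.val * half ⁅b.val, a.val⁆ := rfl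

theorem val_one : (1 : B H).val = 1 := rfl

theorem val_inv (a : B H) : a⁻¹.val = a.val⁻¹ := rfl

theorem eq_one_iff (a : B H) : a = 1 ↔ a.val = 1 :=
  ⟨fun h => by rw [h]; rfl, fun h => B.ext' h⟩

/-- the underlying bijection -/
def equivVal : B H ≃ H where
  toFun a := a.val
  invFun g := ⟨g⟩
  left_inv _ := rfl
  right_inv _ := rfl

omit [Group H] [Hyp H] in
theorem card_eq : Nat.card (B H) = Nat.card H := Nat.card_congr equivVal

/-- an automorphism of `H` is an endomorphism of the Baer group -/
noncomputable def act (φ : H ≃* H) : B H →* B H where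
  toFun a := ⟨φ a.val⟩
  map_one' := by
    apply B.ext'
    show φ 1 = 1
    exact map_one φ
  map_mul' a b := by
    apply B.ext'
    show φ (a.val * b.val * half ⁅b.val, a.val⁆) =
      φ a.val * φ b.val * half ⁅φ b.val, φ a.val⁆
    rw [map_mul, map_mul, map_half, map_commutatorElement]

theorem act_val (φ : H ≃* H) (a : B H) : (act φ a).val = φ a.val := rfl

theorem act_mul (φ ψ : MulAut H) (a : B H) : act (φ * ψ) a = act φ (act ψ a) := rfl

theorem act_one (a : B H) : act (1 : MulAut H) a = a := rfl

end basic

end Cfsg.Agent.Lib.Helper7.Baer
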