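import Mathlib
import Cfsg.Agent.Lib.Helper7.Baer1

set_option autoImplicit false

/-!
Fixed points via the Baer trick: if a `p`-group `P` normalizes a `p'`-group `Q` and both act on a
`p`-group `H` of odd order and class at most two, with `Q` acting nontrivially, then `P` fixes an
element of `H` that `Q` does not fix.
-/

namespace Cfsg.Agent.Lib.Helper7.Baer

open scoped commutatorElement

variable {H : Type*} [Group H] [Hyp H] {Γ : Type*} [Group Γ]

/-- the norm map of a finite group of operators on the Baer group -/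
noncomputable def norm (ρ : Γ →* MulAut H) (Q : Subgroup Γ) [Fintype Q] : B H →* B H :=
  ∏ y : Q, act (ρ y)

theorem norm_apply (ρ : Γ →* MulAut H) (Q : Subgroup Γ) [Fintype Q] (a : B H) :
    norm ρ Q a = ∏ y : Q, act (ρ y) a := by
  unfold norm
  rw [MonoidHom.finset_prod_apply]

theorem norm_act_of_mem (ρ : Γ →* MulAut H) (Q : Subgroup Γ) [Fintype Q] {y₀ : Γ} (hy₀ : y₀ ∈ Q)
    (a : B H) : norm ρ Q (act (ρ y₀) a) = norm ρ Q a := by
  rw [norm_apply, norm_apply]
  refine Fintype.prod_equiv (Equiv.mulRight (⟨y₀, hy₀⟩ : Q)) _ _ ?_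
  intro y
  rw [← act_mul, ← map_mul]
  rfl

/-- conjugation by an element of the normalizer, as a permutation of the subgroup -/
def conjEquiv (Q : Subgroup Γ) {x : Γ} (hx : x ∈ Subgroup.normalizer (Q : Set Γ)) : Q ≃ Q where
  toFun y := ⟨x⁻¹ * y * x, by
    have := (Subgroup.mem_normalizer_iff.mp (Subgroup.inv_mem _ hx) y).mp y.2
    simpa using this⟩
  invFun y := ⟨x * y * x⁻¹, (Subgroup.mem_normalizer_iff.mp hx y).mp y.2⟩
  left_inv y := by
    apply Subtype.ext
    show x * (x⁻¹ * y * x) * x⁻¹ = y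
    group
  right_inv y := by
    apply Subtype.ext
    show x⁻¹ * (x * y * x⁻¹) * x = y
    group

theorem norm_act_of_mem_normalizer (ρ : Γ →* MulAut H) (Q : Subgroup Γ) [Fintype Q] {x : Γ}
    (hx : x ∈ Subgroup.normalizer (Q : Set Γ)) (a : B H) :
    norm ρ Q (act (ρ x) a) = act (ρ x) (norm ρ Q a) := by
  rw [norm_apply, norm_apply, map_prod]
  refine Fintype.prod_equiv (conjEquiv Q hx) _ _ ?_
  intro y
  rw [← act_mul, ← act_mul, ← map_mul, ← map_mul]
  have e : (y : Γ) * x = x * ((conjEquiv Q hx y : Q) : Γ) := by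
    show (y : Γ) * x = x * (x⁻¹ * y * x)
    group
  rw [e]

theorem norm_of_fixed (ρ : Γ →* MulAut H) (Q : Subgroup Γ) [Fintype Q] (a : B H)
    (hfix : ∀ y ∈ Q, ρ y a.val = a.val) : norm ρ Q a = a ^ Nat.card Q := by
  rw [norm_apply]
  have : ∀ y : Q, act (ρ y) a = a := by
    intro y
    apply B.ext'
    rw [act_val]
    exact hfix y y.2
  simp only [this]
  rw [Finset.prod_const, Finset.card_univ, Nat.card_eq_fintype_card]

theorem exists_fixed_not_fixed {p : ℕ} [Fact p.Prime] [Finite H] (hH : IsPGroup p H)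
    (ρ : Γ →* MulAut H) (P Q : Subgroup Γ) [Finite Q] (hP : IsPGroup p P)
    (hQ : (Nat.card Q).Coprime p) (hPQ : P ≤ Subgroup.normalizer (Q : Set Γ))
    (hnt : ∃ y ∈ Q, ∃ h : H, ρ y h ≠ h) :
    ∃ w : H, (∀ x ∈ P, ρ x w = w) ∧ ∃ y ∈ Q, ρ y w ≠ w := by
  classical
  haveI : Fintype Q := Fintype.ofFinite Q
  haveI : Finite (B H) := Finite.of_equiv H equivVal.symm
  obtain ⟨W, hW⟩ : ∃ W : Subgroup (B H), W = (norm ρ Q).ker := ⟨_, rfl⟩
  have hmemW : ∀ a : B H, a ∈ W ↔ norm ρ Q a = 1 := by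
    intro a; rw [hW, MonoidHom.mem_ker]
  have hinv : ∀ x ∈ P, ∀ a ∈ W, act (ρ x) a ∈ W := by
    intro x hx a ha
    rw [hmemW] at ha ⊢
    rw [norm_act_of_mem_normalizer ρ Q (hPQ hx), ha, map_one]
  letI : MulAction P W :=
    { smul := fun x w => ⟨act (ρ x) w, hinv x x.2 w w.2⟩
      one_smul := fun w => by
        apply Subtype.ext
        show act (ρ ((1 : P) : Γ)) (w : B H) = w
        rw [Subgroup.coe_one, map_one, act_one]
      mul_smul := fun x y w => by
        apply Subtype.ext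
        show act (ρ ((x * y : P) : Γ)) (w : B H) = act (ρ x) (act (ρ y) w)
        rw [Subgroup.coe_mul, map_mul, act_mul] }
  have hsmul : ∀ (x : P) (w : W), ((x • w : W) : B H) = act (ρ x) w := fun _ _ => rfl
  -- `W` is a nontrivial `p`-group
  have hBp : IsPGroup p (B H) := by
    obtain ⟨n, hn⟩ := IsPGroup.iff_card.mp hH
    exact IsPGroup.of_card (n := n) (by rw [card_eq, hn])
  have hWne : W ≠ ⊥ := by
    obtain ⟨y, hy, h, hyh⟩ := hnt
    intro hbot
    have hmem : (⟨h⟩ : B H) * (act (ρ y) ⟨h⟩)⁻¹ ∈ W := by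
      rw [hmemW, map_mul, map_inv, norm_act_of_mem ρ Q hy, mul_inv_cancel]
    rw [hbot, Subgroup.mem_bot, mul_inv_eq_one] at hmem
    apply hyh
    have := congrArg B.val hmem
    rw [act_val] at this
    exact this.symm
  have hWp : p ∣ Nat.card W := by
    obtain ⟨n, hn⟩ := IsPGroup.iff_card.mp (hBp.to_subgroup W)
    rw [hn]
    rcases Nat.eq_zero_or_pos n with h0 | h0
    · rw [h0, pow_zero] at hn
      exact absurd (Subgroup.card_eq_one.mp hn) hWne
    · exact dvd_pow_self p h0.ne'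
  have h1 : (1 : W) ∈ MulAction.fixedPoints P W := by
    intro x
    apply Subtype.ext
    rw [hsmul]
    exact map_one _
  obtain ⟨w, hwfix, hw1⟩ := hP.exists_fixed_point_of_prime_dvd_card_of_fixed_point W hWp h1
  refine ⟨(w : B H).val, ?_, ?_⟩
  · intro x hx
    have h2 := hwfix ⟨x, hx⟩
    have h3 := congrArg (fun t : W => (t : B H).val) h2
    simp only [hsmul, act_val] at h3
    exact h3
  · by_contra hcon
    push Not at hcon
    have h2 := norm_of_fixed ρ Q (w : B H) hcon
    have h3 : norm ρ Q (w : B H) = 1 := (hmemW _).mp w.2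
    rw [h3] at h2
    -- the order of `w` divides `|Q|` and a power of `p`
    have h4 : orderOf (w : B H) ∣ Nat.card Q := orderOf_dvd_of_pow_eq_one h2.symm
    obtain ⟨n, hn⟩ := IsPGroup.iff_card.mp hBp
    have h5 : orderOf (w : B H) ∣ p ^ n := by rw [← hn]; exact orderOf_dvd_natCard _
    have h6 : orderOf (w : B H) = 1 :=
      Nat.eq_one_of_dvd_coprimes (Nat.Coprime.pow_right n hQ) h4 h5
    rw [orderOf_eq_one_iff] at h6
    apply hw1
    apply Subtype.ext
    rw [h6]; rfl

end Cfsg.Agent.Lib.Helper7.Baer
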