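import Mathlib

set_option autoImplicit false

/-!
Abstract part of Bender's theorem on primitive pairs.
-/

namespace Cfsg.Agent.Lib.Helper7.Bender

open Subgroup

variable {G : Type*} [Group G]

/-- subgroups normalizing each other with trivial intersection commute elementwise -/
theorem commute_of_normalize_of_disjoint {A B : Subgroup G}
    (hA : A ≤ normalizer (B : Set G)) (hB : B ≤ normalizer (A : Set G)) (hAB : A ⊓ B = ⊥)
    {a b : G} (ha : a ∈ A) (hb : b ∈ B) : a * b = b * a := by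
  have h1 : a * b * a⁻¹ * b⁻¹ ∈ A ⊓ B := by
    refine ⟨?_, ?_⟩
    · have : b * a⁻¹ * b⁻¹ ∈ A := (mem_normalizer_iff.mp (hB hb) a⁻¹).mp (A.inv_mem ha)
      have e : a * b * a⁻¹ * b⁻¹ = a * (b * a⁻¹ * b⁻¹) := by group
      rw [e]; exact A.mul_mem ha this
    · have : a * b * a⁻¹ ∈ B := (mem_normalizer_iff.mp (hA ha) b).mp hb
      exact B.mul_mem this (B.inv_mem hb)
  rw [hAB, mem_bot] at h1
  have e : a * b = (a * b * a⁻¹ * b⁻¹) * (b * a) := by group
  rw [e, h1, one_mul]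

theorem mem_centralizer_sup' {A B : Subgroup G} {x : G} :
    x ∈ centralizer ((A ⊔ B : Subgroup G) : Set G) ↔
      x ∈ centralizer (A : Set G) ∧ x ∈ centralizer (B : Set G) := by
  constructor
  · intro h
    exact ⟨centralizer_le (show (A : Set G) ⊆ ((A ⊔ B : Subgroup G) : Set G) from
        fun y hy => (le_sup_left : A ≤ A ⊔ B) hy) h,
      centralizer_le (show (B : Set G) ⊆ ((A ⊔ B : Subgroup G) : Set G) from
        fun y hy => (le_sup_right : B ≤ A ⊔ B) hy) h⟩
  · rintro ⟨hA, hB⟩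
    have h1 : A ⊔ B ≤ centralizer ({x} : Set G) := by
      apply sup_le
      · intro a ha
        rw [mem_centralizer_singleton_iff]
        exact (mem_centralizer_iff.mp hA a ha)
      · intro b hb
        rw [mem_centralizer_singleton_iff]
        exact (mem_centralizer_iff.mp hB b hb)
    rw [mem_centralizer_iff]
    intro y hy
    have := h1 hy
    rw [mem_centralizer_singleton_iff] at this
    exact this

/-- a subgroup permuting a generating set by conjugation normalizes the closure -/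
theorem le_normalizer_closure {M : Subgroup G} {S : Set G}
    (h : ∀ m ∈ M, ∀ s ∈ S, m * s * m⁻¹ ∈ S) : M ≤ normalizer ((closure S : Subgroup G) : Set G) := by
  have key : ∀ m ∈ M, ∀ x ∈ closure S, m * x * m⁻¹ ∈ closure S := by
    intro m hm x hx
    induction hx using closure_induction with
    | mem s hs => exact subset_closure (h m hm s hs)
    | one => simp
    | mul a b _ _ iha ihb =>
      have e : m * (a * b) * m⁻¹ = (m * a * m⁻¹) * (m * b * m⁻¹) := by group
      rw [e]; exact mul_mem iha ihb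
    | inv a _ iha =>
      have e : m * a⁻¹ * m⁻¹ = (m * a * m⁻¹)⁻¹ := by group
      rw [e]; exact inv_mem iha
  intro m hm
  rw [mem_normalizer_iff]
  intro x
  constructor
  · exact key m hm x
  · intro hx
    have := key m⁻¹ (M.inv_mem hm) _ hx
    have e : m⁻¹ * (m * x * m⁻¹) * m⁻¹⁻¹ = x := by group
    rwa [e] at this

/-- **Key lemma.** Let `P` (a `p`-group) and `R` (a `p'`-group) be normalized by `H`, contained in
`H`, with `C_H(PR) ≤ PR`. Then a `p`-element of `H` centralizing `R` commutes with any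
`p'`-element of `H` centralizing `P`. -/
theorem commute_of_p_pprime [Finite G] {p : ℕ} [Fact p.Prime] (H P R : Subgroup G)
    (hPn : H ≤ normalizer (P : Set G)) (hRn : H ≤ normalizer (R : Set G))
    (hPH : P ≤ H) (hRH : R ≤ H)
    (hP : IsPGroup p P) (hR : (Nat.card R).Coprime p)
    (hC : H ⊓ centralizer ((P ⊔ R : Subgroup G) : Set G) ≤ P ⊔ R)
    (x y : G) (hx : x ∈ H) (hy : y ∈ H) (hxp : ∃ k : ℕ, x ^ (p ^ k) = 1)
    (hyp : (orderOf y).Coprime p)
    (hxR : x ∈ centralizer (R : Set G)) (hyP : y ∈ centralizer (P : Set G)) :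
    x * y = y * x := by
  have hp : p.Prime := Fact.out
  obtain ⟨k, hk⟩ := hxp
  have hPRbot : P ⊓ R = ⊥ := by
    rw [eq_bot_iff_forall]
    intro g hg
    obtain ⟨j, hj⟩ := hP ⟨g, hg.1⟩
    have hj' : g ^ (p ^ j) = 1 := by
      have := congrArg Subtype.val hj
      simpa using this
    have h1 : orderOf g ∣ p ^ j := orderOf_dvd_of_pow_eq_one hj'
    have h2 : orderOf g ∣ Nat.card R := by
      have := orderOf_dvd_natCard (⟨g, hg.2⟩ : R)
      rwa [Subgroup.orderOf_mk] at this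
    have h3 : (orderOf g).Coprime (orderOf g) :=
      Nat.Coprime.coprime_dvd_left h2 (Nat.Coprime.coprime_dvd_right h1 (Nat.Coprime.pow_right j hR))
    rw [Nat.coprime_self] at h3
    exact orderOf_eq_one_iff.mp h3
  have hPRc : ∀ a ∈ P, ∀ b ∈ R, a * b = b * a := fun a ha b hb =>
    commute_of_normalize_of_disjoint (hPH.trans hRn) (hRH.trans hPn) hPRbot ha hb
  set z := y * x * y⁻¹ * x⁻¹ with hz
  have hzH : z ∈ H := H.mul_mem (H.mul_mem (H.mul_mem hy hx) (H.inv_mem hy)) (H.inv_mem hx)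
  -- z centralizes P
  have hzP : ∀ a ∈ P, a * z = z * a := by
    intro a ha
    have ha1 : x⁻¹ * a * x⁻¹⁻¹ ∈ P :=
      (mem_normalizer_iff.mp (hPn (H.inv_mem hx)) a).mp ha
    rw [inv_inv] at ha1
    have c1 : (x⁻¹ * a * x) * y = y * (x⁻¹ * a * x) := mem_centralizer_iff.mp hyP _ ha1
    have c2 : a * y = y * a := mem_centralizer_iff.mp hyP _ ha
    have c1' : y⁻¹ * (x⁻¹ * a * x) = (x⁻¹ * a * x) * y⁻¹ := by
      have : y⁻¹ * ((x⁻¹ * a * x) * y) * y⁻¹ = y⁻¹ * (y * (x⁻¹ * a * x)) * y⁻¹ := by rw [c1]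
      simpa [mul_assoc] using this
    calc a * z = a * y * x * y⁻¹ * x⁻¹ := by rw [hz]; group
      _ = y * a * x * y⁻¹ * x⁻¹ := by rw [c2]
      _ = y * x * ((x⁻¹ * a * x) * y⁻¹) * x⁻¹ := by group
      _ = y * x * (y⁻¹ * (x⁻¹ * a * x)) * x⁻¹ := by rw [c1']
      _ = z * a := by rw [hz]; group
  -- z centralizes R
  have hzR : ∀ b ∈ R, b * z = z * b := by
    intro b hb
    have hb1 : y⁻¹ * b * y⁻¹⁻¹ ∈ R :=
      (mem_normalizer_iff.mp (hRn (H.inv_mem hy)) b).mp hb
    rw [inv_inv] at hb1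
    have c1 : (y⁻¹ * b * y) * x = x * (y⁻¹ * b * y) := mem_centralizer_iff.mp hxR _ hb1
    have c2 : b * x = x * b := mem_centralizer_iff.mp hxR _ hb
    have c2' : x⁻¹ * b = b * x⁻¹ := by
      have : x⁻¹ * (b * x) * x⁻¹ = x⁻¹ * (x * b) * x⁻¹ := by rw [c2]
      simpa [mul_assoc] using this
    calc b * z = y * ((y⁻¹ * b * y) * x) * y⁻¹ * x⁻¹ := by rw [hz]; group
      _ = y * (x * (y⁻¹ * b * y)) * y⁻¹ * x⁻¹ := by rw [c1]
      _ = y * x * y⁻¹ * (b * x⁻¹) := by group
      _ = y * x * y⁻¹ * (x⁻¹ * b) := by rw [c2']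
      _ = z * b := by rw [hz]; group
  have hzc : z ∈ centralizer ((P ⊔ R : Subgroup G) : Set G) := by
    have h1 : P ⊔ R ≤ centralizer ({z} : Set G) := by
      apply sup_le
      · intro a ha
        rw [mem_centralizer_singleton_iff]
        exact hzP a ha
      · intro b hb
        rw [mem_centralizer_singleton_iff]
        exact hzR b hb
    rw [mem_centralizer_iff]
    intro g hg
    have := h1 hg
    rw [mem_centralizer_singleton_iff] at this
    exact this
  have hzPR : z ∈ P ⊔ R := hC ⟨hzH, hzc⟩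
  have hRnP : R ≤ normalizer (P : Set G) := hRH.trans hPn
  have hmem : z ∈ ((P ⊔ R : Subgroup G) : Set G) := hzPR
  rw [Subgroup.coe_mul_of_right_le_normalizer_left P R hRnP] at hmem
  obtain ⟨a, ha, b, hb, hab'⟩ := hmem
  have hab : a * b = z := hab'
  have ha : a ∈ P := ha
  have hb : b ∈ R := hb
  -- y x y⁻¹ = z x
  have hconj : y * x * y⁻¹ = z * x := by rw [hz]; group
  have hzxpow : (z * x) ^ (p ^ k) = 1 := by
    rw [← hconj]
    have : (y * x * y⁻¹) ^ (p ^ k) = y * x ^ (p ^ k) * y⁻¹ := by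
      rw [conj_pow]
    rw [this, hk]; group
  -- a * x is a p-element
  have hax : ∃ m : ℕ, (a * x) ^ (p ^ m) = 1 := by
    have hxn : zpowers x ≤ normalizer (P : Set G) := by
      rw [zpowers_le]; exact hPn hx
    have hxpg : IsPGroup p (zpowers x) := by
      apply IsPGroup.of_card (n := (orderOf x).factorization p)
      rw [Nat.card_zpowers]
      have hd : orderOf x ∣ p ^ k := orderOf_dvd_of_pow_eq_one hk
      obtain ⟨j, _, hj⟩ := (Nat.dvd_prime_pow hp).mp hd
      rw [hj, hp.factorization_pow]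
      simp
    have hpg : IsPGroup p (P ⊔ zpowers x : Subgroup G) :=
      IsPGroup.to_sup_of_normal_left' hP hxpg hxn
    have hmem : a * x ∈ P ⊔ zpowers x :=
      mul_mem (le_sup_left (a := P) ha) (le_sup_right (b := zpowers x) (mem_zpowers x))
    obtain ⟨m, hm⟩ := hpg ⟨a * x, hmem⟩
    refine ⟨m, ?_⟩
    have := congrArg Subtype.val hm
    simpa using this
  obtain ⟨m, hm⟩ := hax
  -- b commutes with a * x
  have hbc : Commute b (a * x) := by
    have h1 : b * a = a * b := (hPRc a ha b hb).symm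
    have h2 : b * x = x * b := mem_centralizer_iff.mp hxR b hb
    show b * (a * x) = a * x * b
    rw [← mul_assoc, h1, mul_assoc, h2, mul_assoc]
  have hzx : z * x = b * (a * x) := by
    have : (a * b) = b * a := hPRc a ha b hb
    rw [← hab, this, mul_assoc]
  have hb1 : b = 1 := by
    have e1 : (z * x) ^ (p ^ (k + m)) = 1 := by
      rw [pow_add, pow_mul, hzxpow, one_pow]
    have e2 : (a * x) ^ (p ^ (k + m)) = 1 := by
      rw [pow_add, mul_comm (p ^ k), pow_mul, hm, one_pow]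
    rw [hzx, hbc.mul_pow, e2, mul_one] at e1
    have h1 : orderOf b ∣ p ^ (k + m) := orderOf_dvd_of_pow_eq_one e1
    have h2 : orderOf b ∣ Nat.card R := by
      have := orderOf_dvd_natCard (⟨b, hb⟩ : R)
      rwa [Subgroup.orderOf_mk] at this
    have h3 : (orderOf b).Coprime (orderOf b) :=
      Nat.Coprime.coprime_dvd_left h2
        (Nat.Coprime.coprime_dvd_right h1 (Nat.Coprime.pow_right _ hR))
    rw [Nat.coprime_self] at h3
    exact orderOf_eq_one_iff.mp h3
  have hza : z ∈ P := by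
    rw [← hab, hb1, mul_one]; exact ha
  have hyz : y * z = z * y := (mem_centralizer_iff.mp hyP z hza).symm
  have hpow : ∀ n : ℕ, y ^ n * x * (y ^ n)⁻¹ = z ^ n * x := by
    intro n
    induction n with
    | zero => simp
    | succ n ih =>
      have hyzn : y * z ^ n = z ^ n * y := (Commute.pow_right (show Commute y z from hyz) n)
      calc y ^ (n + 1) * x * (y ^ (n + 1))⁻¹
          = y * (y ^ n * x * (y ^ n)⁻¹) * y⁻¹ := by rw [pow_succ']; group
        _ = y * (z ^ n * x) * y⁻¹ := by rw [ih]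
        _ = (y * z ^ n) * (x * y⁻¹) := by group
        _ = z ^ n * y * (x * y⁻¹) := by rw [hyzn]
        _ = z ^ n * (y * x * y⁻¹) := by group
        _ = z ^ n * (z * x) := by rw [hconj]
        _ = z ^ (n + 1) * x := by rw [pow_succ]; group
  have hzn : z ^ orderOf y = 1 := by
    have := hpow (orderOf y)
    rw [pow_orderOf_eq_one, one_mul, inv_one, mul_one] at this
    have h2 : z ^ orderOf y * x = 1 * x := by rw [one_mul]; exact this.symm
    exact mul_right_cancel h2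
  have hz1 : z = 1 := by
    obtain ⟨j, hj⟩ := hP ⟨z, hza⟩
    have hj' : z ^ (p ^ j) = 1 := by
      have := congrArg Subtype.val hj
      simpa using this
    have h1 : orderOf z ∣ p ^ j := orderOf_dvd_of_pow_eq_one hj'
    have h2 : orderOf z ∣ orderOf y := orderOf_dvd_of_pow_eq_one hzn
    have h3 : (orderOf z).Coprime (orderOf z) :=
      Nat.Coprime.coprime_dvd_left h2
        (Nat.Coprime.coprime_dvd_right h1 (Nat.Coprime.pow_right _ hyp))
    rw [Nat.coprime_self] at h3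
    exact orderOf_eq_one_iff.mp h3
  have : y * x = z * (x * y) := by rw [hz]; group
  rw [this, hz1, one_mul]

/-- the primitivity condition -/
def Prim (M₁ M₂ : Subgroup G) : Prop :=
  ∀ A : Subgroup G, A ≠ ⊥ → A ≤ M₁ ⊓ M₂ →
    (M₁ ≤ normalizer (A : Set G) → M₂ ⊓ normalizer (A : Set G) = M₁ ⊓ M₂) ∧
    (M₂ ≤ normalizer (A : Set G) → M₁ ⊓ normalizer (A : Set G) = M₁ ⊓ M₂)

theorem Prim.symm {M₁ M₂ : Subgroup G} (h : Prim M₁ M₂) : Prim M₂ M₁ := by
  intro A hA hle
  have := h A hA (by rwa [inf_comm])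
  rw [inf_comm M₂ M₁]
  exact ⟨this.2, this.1⟩

/-- a nontrivial subgroup of the intersection normalized by both members forces equality -/
theorem Prim.eq_of_common_normal {M₁ M₂ : Subgroup G} (h : Prim M₁ M₂) (A : Subgroup G)
    (hA : A ≠ ⊥) (hle : A ≤ M₁ ⊓ M₂) (h1 : M₁ ≤ normalizer (A : Set G))
    (h2 : M₂ ≤ normalizer (A : Set G)) : M₁ = M₂ := by
  have e1 := (h A hA hle).1 h1
  have e2 := (h A hA hle).2 h2
  rw [inf_eq_left.mpr h2] at e1
  rw [inf_eq_left.mpr h1] at e2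
  rw [e1]
  exact e2

/-- the generating set of `O^p(C_M(P))` -/
def genSet (p : ℕ) (M P : Subgroup G) : Set G :=
  {y | y ∈ M ∧ y ∈ centralizer (P : Set G) ∧ (orderOf y).Coprime p}

theorem le_normalizer_closure_genSet (p : ℕ) (M P : Subgroup G)
    (hn : M ≤ normalizer (P : Set G)) :
    M ≤ normalizer ((closure (genSet p M P) : Subgroup G) : Set G) := by
  apply le_normalizer_closure
  rintro m hm s ⟨hsM, hsC, hso⟩
  refine ⟨M.mul_mem (M.mul_mem hm hsM) (M.inv_mem hm), ?_, ?_⟩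
  · rw [mem_centralizer_iff]
    intro a ha
    have ha1 : m⁻¹ * a * m⁻¹⁻¹ ∈ P := (mem_normalizer_iff.mp (hn (M.inv_mem hm)) a).mp ha
    rw [inv_inv] at ha1
    have c := mem_centralizer_iff.mp hsC _ ha1
    calc a * (m * s * m⁻¹) = m * ((m⁻¹ * a * m) * s) * m⁻¹ := by group
      _ = m * (s * (m⁻¹ * a * m)) * m⁻¹ := by rw [c]
      _ = m * s * m⁻¹ * a := by group
  · have : orderOf (m * s * m⁻¹) = orderOf s := by
      have := (MulAut.conj m).orderOf_eq s
      simpa [MulAut.conj_apply] using this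
    rw [this]; exact hso

/-- **Main abstract step.** Two primes cannot occur. -/
theorem false_of_two_primes [Finite G] {p : ℕ} [Fact p.Prime] (M₁ M₂ : Subgroup G)
    (hne : M₁ ≠ M₂) (hP : Prim M₁ M₂) (P₁ R₁ P₂ R₂ : Subgroup G)
    (h1 : P₁ ⊔ R₁ ≤ M₁ ⊓ M₂) (h2 : P₂ ⊔ R₂ ≤ M₁ ⊓ M₂)
    (n11 : M₁ ≤ normalizer (P₁ : Set G)) (n12 : M₁ ≤ normalizer (R₁ : Set G))
    (n21 : M₂ ≤ normalizer (P₂ : Set G)) (n22 : M₂ ≤ normalizer (R₂ : Set G))
    (pg1 : IsPGroup p P₁) (pg2 : IsPGroup p P₂)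
    (c1 : (Nat.card R₁).Coprime p) (c2 : (Nat.card R₂).Coprime p)
    (sc1 : M₁ ⊓ centralizer ((P₁ ⊔ R₁ : Subgroup G) : Set G) ≤ P₁ ⊔ R₁)
    (sc2 : M₂ ⊓ centralizer ((P₂ ⊔ R₂ : Subgroup G) : Set G) ≤ P₂ ⊔ R₂)
    (x12 : P₁ ≤ centralizer (R₂ : Set G)) (x21 : P₂ ≤ centralizer (R₁ : Set G))
    (hP1 : P₁ ≠ ⊥) (hP2 : P₂ ≠ ⊥) (hR1 : R₁ ≠ ⊥) (hR2 : R₂ ≠ ⊥) : False := by
  have hp : p.Prime := Fact.out
  -- one direction, to be used twice
  have key : ∀ (M₁ M₂ : Subgroup G) (_ : Prim M₁ M₂) (P₁ P₂ R₂ : Subgroup G)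
      (_ : P₁ ≤ M₁ ⊓ M₂) (_ : P₂ ⊔ R₂ ≤ M₁ ⊓ M₂)
      (_ : M₁ ≤ normalizer (P₁ : Set G))
      (_ : M₂ ≤ normalizer (P₂ : Set G)) (_ : M₂ ≤ normalizer (R₂ : Set G))
      (_ : IsPGroup p P₁) (_ : IsPGroup p P₂) (_ : (Nat.card R₂).Coprime p)
      (_ : M₂ ⊓ centralizer ((P₂ ⊔ R₂ : Subgroup G) : Set G) ≤ P₂ ⊔ R₂)
      (_ : P₁ ≤ centralizer (R₂ : Set G)) (_ : P₁ ≠ ⊥),
      genSet p M₂ P₂ ⊆ genSet p M₁ P₁ := by
    intro M₁ M₂ hP P₁ P₂ R₂ h1 h2 n11 n21 n22 pg1 pg2 c2 sc2 x12 hP1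
    rintro y ⟨hyM, hyC, hyo⟩
    have hyP1 : y ∈ centralizer (P₁ : Set G) := by
      rw [mem_centralizer_iff]
      intro x hx
      have hxM2 : x ∈ M₂ := (h1 hx).2
      have hxp : ∃ k : ℕ, x ^ (p ^ k) = 1 := by
        obtain ⟨k, hk⟩ := pg1 ⟨x, hx⟩
        refine ⟨k, ?_⟩
        have := congrArg Subtype.val hk
        simpa using this
      exact commute_of_p_pprime M₂ P₂ R₂ n21 n22 ((le_sup_left.trans h2).trans inf_le_right)
        ((le_sup_right.trans h2).trans inf_le_right) pg2 c2 sc2 x y hxM2 hyM hxp hyo (x12 hx) hyC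
    have hyN : y ∈ M₂ ⊓ normalizer (P₁ : Set G) :=
      ⟨hyM, (Subgroup.centralizer_le_normalizer (P₁ : Set G)) hyP1⟩
    rw [(hP P₁ hP1 h1).1 n11] at hyN
    exact ⟨hyN.1, hyP1, hyo⟩
  have k1 : genSet p M₂ P₂ ⊆ genSet p M₁ P₁ :=
    key M₁ M₂ hP P₁ P₂ R₂ (le_sup_left.trans h1) h2 n11 n21 n22 pg1 pg2 c2 sc2 x12 hP1
  have k2 : genSet p M₁ P₁ ⊆ genSet p M₂ P₂ :=
    key M₂ M₁ hP.symm P₂ P₁ R₁ (by rw [inf_comm]; exact le_sup_left.trans h2)
      (by rw [inf_comm]; exact h1) n21 n11 n12 pg2 pg1 c1 sc1 x21 hP2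
  have hS : genSet p M₁ P₁ = genSet p M₂ P₂ := Set.Subset.antisymm k2 k1
  set A := closure (genSet p M₁ P₁) with hA
  have hA1 : M₁ ≤ normalizer (A : Set G) := le_normalizer_closure_genSet p M₁ P₁ n11
  have hA2 : M₂ ≤ normalizer (A : Set G) := by
    rw [hA, hS]; exact le_normalizer_closure_genSet p M₂ P₂ n21
  have hAle : A ≤ M₁ ⊓ M₂ := by
    rw [hA, closure_le]
    intro y hy
    exact ⟨hy.1, (k2 hy).1⟩
  have hAne : A ≠ ⊥ := by
    intro hbot
    apply hR1
    rw [eq_bot_iff, ← hbot, hA]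
    intro b hb
    apply Subgroup.subset_closure
    refine ⟨((le_sup_right.trans h1) hb).1, ?_, ?_⟩
    · rw [mem_centralizer_iff]
      intro a ha
      have hPRbot : P₁ ⊓ R₁ = ⊥ := by
        rw [eq_bot_iff_forall]
        intro g hg
        obtain ⟨j, hj⟩ := pg1 ⟨g, hg.1⟩
        have hj' : g ^ (p ^ j) = 1 := by
          have := congrArg Subtype.val hj
          simpa using this
        have e1 : orderOf g ∣ p ^ j := orderOf_dvd_of_pow_eq_one hj'
        have e2 : orderOf g ∣ Nat.card R₁ := by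
          have := orderOf_dvd_natCard (⟨g, hg.2⟩ : R₁)
          rwa [Subgroup.orderOf_mk] at this
        have e3 : (orderOf g).Coprime (orderOf g) :=
          Nat.Coprime.coprime_dvd_left e2
            (Nat.Coprime.coprime_dvd_right e1 (Nat.Coprime.pow_right j c1))
        rw [Nat.coprime_self] at e3
        exact orderOf_eq_one_iff.mp e3
      exact commute_of_normalize_of_disjoint
        (((le_sup_left.trans h1).trans inf_le_left).trans n12)
        (((le_sup_right.trans h1).trans inf_le_left).trans n11) hPRbot ha hb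
    · have e2 : orderOf b ∣ Nat.card R₁ := by
        have := orderOf_dvd_natCard (⟨b, hb⟩ : R₁)
        rwa [Subgroup.orderOf_mk] at this
      exact Nat.Coprime.coprime_dvd_left e2 c1
  exact hne (hP.eq_of_common_normal A hAne hAle hA1 hA2)

end Cfsg.Agent.Lib.Helper7.Bender
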