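import Mathlib
import Cfsg.Prelude.Def_Local
import Cfsg.Agent.Lib.Helper7.Bender1
import Cfsg.Agent.Lib.Helper3.Components7
import Cfsg.Agent.Lib.Helper6.PPrimeCore
import Cfsg.Agent.Lib.Lead.Core

set_option autoImplicit false

/-!
Bender's theorem on primitive pairs: the pieces that use the Fitting subgroup, layer, `F*`.
-/

namespace Cfsg.Agent.Lib.Helper7.Bender

open Subgroup Cfsg.Agent.Lib.Helper3 Cfsg.Agent.Lib.Lead Cfsg.Agent.Lib.Helper6

/-! ### The `p'`-part of the Fitting subgroup -/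

section hlevel

variable {X : Type*} [Group X]

/-- the join of the `O_q(X)` for `q ≠ p` -/
def Rp (p : ℕ) (X : Type*) [Group X] : Subgroup X :=
  ⨆ q : {q : Nat.Primes // (q : ℕ) ≠ p}, Cfsg.pCore (q.1 : ℕ) X

instance Rp_normal (p : ℕ) : (Rp p X).Normal := by
  unfold Rp
  infer_instance

theorem Rp_coprime [Finite X] (p : ℕ) [hp : Fact p.Prime] : (Nat.card (Rp p X)).Coprime p := by
  have h1 : Rp p X ≤ Cfsg.pPrimeCore p X := by
    unfold Rp
    apply iSup_le
    intro q
    apply le_pPrimeCore (inferInstance : (Cfsg.pCore (q.1 : ℕ) X).Normal)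
    have hq : (q.1 : ℕ).Prime := q.1.2
    haveI : Fact (q.1 : ℕ).Prime := ⟨hq⟩
    obtain ⟨n, hn⟩ := IsPGroup.iff_card.mp (Cfsg.Agent.Lib.Lead.pCore_isPGroup (G := X) (q.1 : ℕ))
    rw [hn]
    apply Nat.Coprime.pow_left
    exact (Nat.coprime_primes hq hp.out).mpr q.2
  exact Nat.Coprime.coprime_dvd_left (Subgroup.card_dvd_of_le h1) (pPrimeCore_coprime p)

theorem fitting_eq [Finite X] (p : ℕ) [hp : Fact p.Prime] :
    Cfsg.fittingSubgroup X = Cfsg.pCore p X ⊔ Rp p X := by
  rw [fittingSubgroup_eq_iSup_pCore]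
  apply le_antisymm
  · apply iSup_le
    intro q
    by_cases hq : (q : ℕ) = p
    · rw [hq]; exact le_sup_left
    · exact le_trans (le_iSup (fun q : {q : Nat.Primes // (q : ℕ) ≠ p} =>
        Cfsg.pCore (q.1 : ℕ) X) ⟨q, hq⟩) le_sup_right
  · apply sup_le
    · exact le_iSup (fun q : Nat.Primes => Cfsg.pCore (q : ℕ) X) ⟨p, hp.out⟩
    · unfold Rp
      apply iSup_le
      intro q
      exact le_iSup (fun q : Nat.Primes => Cfsg.pCore (q : ℕ) X) q.1

end hlevel

/-! ### Transport to the ambient group -/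

section transport

variable {G : Type*} [Group G]

theorem le_normalizer_map (M : Subgroup G) (K : Subgroup M) [hK : K.Normal] :
    M ≤ normalizer ((K.map M.subtype : Subgroup G) : Set G) := by
  intro m hm
  rw [mem_normalizer_iff]
  intro x
  constructor
  · rintro ⟨k, hk, rfl⟩
    exact ⟨⟨m, hm⟩ * k * ⟨m, hm⟩⁻¹, hK.conj_mem k hk ⟨m, hm⟩, rfl⟩
  · rintro ⟨k, hk, hkx⟩
    refine ⟨⟨m, hm⟩⁻¹ * k * ⟨m, hm⟩, ?_, ?_⟩
    · have := hK.conj_mem k hk ⟨m, hm⟩⁻¹
      simpa using this
    · have : (k : G) = m * x * m⁻¹ := hkx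
      simp only [Subgroup.coe_subtype, Subgroup.coe_mul, Subgroup.coe_inv, this]
      group

theorem self_centralizing_map (M : Subgroup G) (K : Subgroup M)
    (h : centralizer (K : Set M) ≤ K) :
    M ⊓ centralizer ((K.map M.subtype : Subgroup G) : Set G) ≤ K.map M.subtype := by
  rintro x ⟨hxM, hxC⟩
  have : (⟨x, hxM⟩ : M) ∈ centralizer (K : Set M) := by
    rw [mem_centralizer_iff]
    intro k hk
    apply Subtype.ext
    exact mem_centralizer_iff.mp hxC (k : G) ⟨k, hk, rfl⟩
  exact ⟨⟨x, hxM⟩, h this, rfl⟩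

theorem map_le_self (M : Subgroup G) (K : Subgroup M) : K.map M.subtype ≤ M := by
  rintro _ ⟨k, _, rfl⟩
  exact k.2

theorem map_eq_bot_iff' (M : Subgroup G) (K : Subgroup M) : K.map M.subtype = ⊥ ↔ K = ⊥ :=
  Subgroup.map_eq_bot_iff_of_injective K M.subtype_injective

end transport

/-! ### The setup -/

section setup

variable {G : Type*} [Group G] [Finite G]

/-- `F*(M)` as a subgroup of the ambient group -/
def Fs (M : Subgroup G) : Subgroup G := (Cfsg.generalizedFittingSubgroup M).map M.subtype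
/-- `E(M)` as a subgroup of the ambient group -/
def Ly (M : Subgroup G) : Subgroup G := (Cfsg.layer M).map M.subtype
/-- `F(M)` as a subgroup of the ambient group -/
def Ft (M : Subgroup G) : Subgroup G := (Cfsg.fittingSubgroup M).map M.subtype
/-- `O_p(M)` as a subgroup of the ambient group -/
def Pp (p : ℕ) (M : Subgroup G) : Subgroup G := (Cfsg.pCore p M).map M.subtype
/-- the `p'`-part of `F(M)` as a subgroup of the ambient group -/
def Rq (p : ℕ) (M : Subgroup G) : Subgroup G := (Rp p M).map M.subtype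

theorem Fs_eq (M : Subgroup G) : Fs M = Ly M ⊔ Ft M := by
  unfold Fs Ly Ft Cfsg.generalizedFittingSubgroup
  rw [Subgroup.map_sup]

theorem Ft_eq (p : ℕ) [Fact p.Prime] (M : Subgroup G) : Ft M = Pp p M ⊔ Rq p M := by
  unfold Ft Pp Rq
  rw [fitting_eq p, Subgroup.map_sup]

theorem Fs_self_centralizing (M : Subgroup G) :
    M ⊓ centralizer ((Fs M : Subgroup G) : Set G) ≤ Fs M :=
  self_centralizing_map M _ centralizer_generalizedFittingSubgroup_le

theorem M_le_normalizer_Ly (M : Subgroup G) : M ≤ normalizer ((Ly M : Subgroup G) : Set G) :=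
  le_normalizer_map M _

theorem M_le_normalizer_Ft (M : Subgroup G) : M ≤ normalizer ((Ft M : Subgroup G) : Set G) :=
  le_normalizer_map M _

theorem M_le_normalizer_Pp (p : ℕ) (M : Subgroup G) :
    M ≤ normalizer ((Pp p M : Subgroup G) : Set G) := by
  exact le_normalizer_map M _

theorem M_le_normalizer_Rq (p : ℕ) (M : Subgroup G) :
    M ≤ normalizer ((Rq p M : Subgroup G) : Set G) :=
  le_normalizer_map M _

theorem Pp_isPGroup (p : ℕ) (M : Subgroup G) : IsPGroup p (Pp p M) :=
  (Cfsg.Agent.Lib.Lead.pCore_isPGroup (G := M) p).map M.subtype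

theorem Rq_coprime (p : ℕ) [Fact p.Prime] (M : Subgroup G) : (Nat.card (Rq p M)).Coprime p := by
  unfold Rq
  rw [Nat.card_congr ((Rp p M).equivMapOfInjective M.subtype M.subtype_injective).symm.toEquiv]
  exact Rp_coprime p

theorem Pp_le_Ft (p : ℕ) [Fact p.Prime] (M : Subgroup G) : Pp p M ≤ Ft M := by
  rw [Ft_eq p]; exact le_sup_left

theorem Ft_le_Fs (M : Subgroup G) : Ft M ≤ Fs M := by
  rw [Fs_eq]; exact le_sup_right

theorem Ly_le_Fs (M : Subgroup G) : Ly M ≤ Fs M := by
  rw [Fs_eq]; exact le_sup_left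

theorem Rq_eq_iSup (p : ℕ) (M : Subgroup G) :
    Rq p M = ⨆ q : {q : Nat.Primes // (q : ℕ) ≠ p}, Pp (q.1 : ℕ) M := by
  unfold Rq Rp Pp
  rw [Subgroup.map_iSup]

/-- hypotheses of Bender's theorem, in symmetric form -/
structure Setup (M₁ M₂ : Subgroup G) : Prop where
  prim : Prim M₁ M₂
  ne : M₁ ≠ M₂
  h₁ : Fs M₁ ≤ M₂
  h₂ : Fs M₂ ≤ M₁

theorem Setup.symm {M₁ M₂ : Subgroup G} (h : Setup M₁ M₂) : Setup M₂ M₁ :=
  ⟨h.prim.symm, h.ne.symm, h.h₂, h.h₁⟩

theorem Setup.Fs_le_inf {M₁ M₂ : Subgroup G} (h : Setup M₁ M₂) : Fs M₁ ≤ M₁ ⊓ M₂ :=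
  le_inf (map_le_self M₁ _) h.h₁

/-- every component of `M₁` lies in `E(M₂)` -/
theorem Setup.Ly_le {M₁ M₂ : Subgroup G} (h : Setup M₁ M₂) : Ly M₁ ≤ Ly M₂ := by
  unfold Ly
  rw [Subgroup.map_le_iff_le_comap, layer_le_iff]
  intro K hK
  -- K is a component of M₁
  have hKM₂ : ∀ k ∈ K, (k : G) ∈ M₂ := by
    intro k hk
    apply h.h₁
    apply Ly_le_Fs
    exact ⟨k, (IsComponent.le_layer hK) hk, rfl⟩
  set HE : Subgroup M₁ := (Ly M₂).comap M₁.subtype with hHE
  set HF : Subgroup M₁ := (Ft M₂).comap M₁.subtype with hHF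
  have hnorm : ∀ (A : Subgroup G), M₂ ≤ normalizer (A : Set G) →
      K ≤ normalizer ((A.comap M₁.subtype : Subgroup M₁) : Set M₁) := by
    intro A hA k hk
    have h1 := hA (hKM₂ k hk)
    rw [mem_normalizer_iff] at h1 ⊢
    intro x
    rw [Subgroup.mem_comap, Subgroup.mem_comap]
    have := h1 (x : G)
    simpa using this
  have hnE : K ≤ normalizer (HE : Set M₁) := hnorm _ (M_le_normalizer_Ly M₂)
  have hnF : K ≤ normalizer (HF : Set M₁) := hnorm _ (M_le_normalizer_Ft M₂)
  rcases IsComponent.le_or_commutator_eq_bot_of_le_normalizer hK hnE with h1 | h1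
  · exact h1
  · exfalso
    have hsolv : Group.IsSolvable HF := by
      haveI : Group.IsSolvable (Cfsg.fittingSubgroup M₂) := isSolvable_fittingSubgroup
      haveI : Group.IsSolvable (Ft M₂) := by
        unfold Ft
        exact solvable_of_surjective (f := (M₂.subtype.subgroupMap (Cfsg.fittingSubgroup M₂)))
          (MonoidHom.subgroupMap_surjective _ _)
      let f : HF →* Ft M₂ :=
        { toFun := fun x => ⟨(x : M₁), x.2⟩
          map_one' := rfl
          map_mul' := fun _ _ => rfl }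
      have hf : Function.Injective f := by
        intro a b hab
        apply Subtype.ext
        apply Subtype.ext
        exact congrArg (fun z : Ft M₂ => (z : G)) hab
      exact solvable_of_solvable_injective hf
    have h2 : ⁅K, HF⁆ = ⊥ := IsComponent.commutator_eq_bot_of_isSolvable hK hsolv hnF
    rw [Subgroup.commutator_eq_bot_iff_le_centralizer] at h1 h2
    -- every element of K centralizes Fs M₂, hence lies in it
    have hcent : ∀ k ∈ K, (k : G) ∈ centralizer ((Fs M₂ : Subgroup G) : Set G) := by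
      intro k hk
      rw [Fs_eq]
      rw [Cfsg.Agent.Lib.Helper7.Bender.mem_centralizer_sup']
      constructor
      · rw [mem_centralizer_iff]
        intro e he
        have heM₁ : e ∈ M₁ := h.h₂ (Ly_le_Fs M₂ he)
        have := mem_centralizer_iff.mp (h1 hk) ⟨e, heM₁⟩ (Subgroup.mem_comap.mpr he)
        exact congrArg Subtype.val this
      · rw [mem_centralizer_iff]
        intro e he
        have heM₁ : e ∈ M₁ := h.h₂ (Ft_le_Fs M₂ he)
        have := mem_centralizer_iff.mp (h2 hk) ⟨e, heM₁⟩ (Subgroup.mem_comap.mpr he)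
        exact congrArg Subtype.val this
    have hKFs : ∀ k ∈ K, (k : G) ∈ Fs M₂ := fun k hk =>
      Fs_self_centralizing M₂ ⟨hKM₂ k hk, hcent k hk⟩
    apply IsQuasisimple.not_isMulCommutative hK.2
    refine ⟨⟨fun a b => ?_⟩⟩
    apply Subtype.ext
    apply Subtype.ext
    have := mem_centralizer_iff.mp (hcent a.1 a.2) (b.1 : G) (hKFs b.1 b.2)
    simpa using this.symm

end setup

end Cfsg.Agent.Lib.Helper7.Bender
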