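import Mathlib
import Cfsg.Agent.Lib.Helper7.Bender2

set_option autoImplicit false

/-!
Bender's theorem on primitive pairs: assembly.
-/

namespace Cfsg.Agent.Lib.Helper7.Bender

open Subgroup Cfsg.Agent.Lib.Helper3 Cfsg.Agent.Lib.Lead Cfsg.Agent.Lib.Helper6

variable {G : Type*} [Group G] [Finite G]

theorem Setup.Ly_eq_bot {M₁ M₂ : Subgroup G} (h : Setup M₁ M₂) : Ly M₁ = ⊥ := by
  by_contra hne
  have he : Ly M₁ = Ly M₂ := le_antisymm h.Ly_le h.symm.Ly_le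
  apply h.ne
  apply h.prim.eq_of_common_normal (Ly M₁) hne ((Ly_le_Fs M₁).trans h.Fs_le_inf)
    (M_le_normalizer_Ly M₁)
  rw [he]
  exact M_le_normalizer_Ly M₂

theorem Setup.Fs_eq_Ft {M₁ M₂ : Subgroup G} (h : Setup M₁ M₂) : Fs M₁ = Ft M₁ := by
  rw [Fs_eq, h.Ly_eq_bot, bot_sup_eq]

theorem Setup.layer_eq_bot {M₁ M₂ : Subgroup G} (h : Setup M₁ M₂) : Cfsg.layer M₁ = ⊥ :=
  (map_eq_bot_iff' M₁ _).mp h.Ly_eq_bot

theorem Setup.Ft_self_centralizing {M₁ M₂ : Subgroup G} (h : Setup M₁ M₂) :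
    M₁ ⊓ centralizer ((Ft M₁ : Subgroup G) : Set G) ≤ Ft M₁ := by
  rw [← h.Fs_eq_Ft]
  exact Fs_self_centralizing M₁

theorem Setup.Ft_le_inf {M₁ M₂ : Subgroup G} (h : Setup M₁ M₂) : Ft M₁ ≤ M₁ ⊓ M₂ := by
  rw [← h.Fs_eq_Ft]; exact h.Fs_le_inf

theorem Setup.Ft_le_inf' {M₁ M₂ : Subgroup G} (h : Setup M₁ M₂) : Ft M₂ ≤ M₁ ⊓ M₂ := by
  rw [inf_comm]; exact h.symm.Ft_le_inf

theorem Setup.ne_bot {M₁ M₂ : Subgroup G} (h : Setup M₁ M₂) : Ft M₁ ≠ ⊥ := by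
  intro hbot
  have key : ∀ (M₁ M₂ : Subgroup G), Setup M₁ M₂ → Ft M₁ = ⊥ → M₁ = ⊥ := by
    intro M₁ M₂ h hbot
    have h1 := h.Ft_self_centralizing
    rw [hbot] at h1
    rw [eq_bot_iff]
    intro x hx
    apply h1
    refine ⟨hx, ?_⟩
    show x ∈ centralizer ((⊥ : Subgroup G) : Set G)
    rw [mem_centralizer_iff]
    intro y hy
    rw [Subgroup.coe_bot, Set.mem_singleton_iff] at hy
    rw [hy, one_mul, mul_one]
  have h1 : M₁ = ⊥ := key M₁ M₂ h hbot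
  have h2 : Ft M₂ = ⊥ := by
    rw [eq_bot_iff]
    have := h.Ft_le_inf'
    rw [h1] at this
    exact this.trans inf_le_left
  have h3 : M₂ = ⊥ := key M₂ M₁ h.symm h2
  exact h.ne (h1.trans h3.symm)

/-- Step 2: different primes commute across the pair. -/
theorem Setup.Pp_le_centralizer {M₁ M₂ : Subgroup G} (h : Setup M₁ M₂) (p q : ℕ) [Fact p.Prime]
    [Fact q.Prime] (hpq : p ≠ q) : Pp p M₁ ≤ centralizer ((Pp q M₂ : Subgroup G) : Set G) := by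
  intro a ha
  rw [mem_centralizer_iff]
  intro b hb
  have hA : Pp p M₁ ≤ M₁ ⊓ M₂ := (Pp_le_Ft p M₁).trans h.Ft_le_inf
  have hB : Pp q M₂ ≤ M₁ ⊓ M₂ := (Pp_le_Ft q M₂).trans h.Ft_le_inf'
  have hdis : Pp p M₁ ⊓ Pp q M₂ = ⊥ :=
    disjoint_iff.mp (IsPGroup.disjoint_of_ne p q hpq _ _ (Pp_isPGroup p M₁) (Pp_isPGroup q M₂))
  exact (commute_of_normalize_of_disjoint
    ((hA.trans inf_le_right).trans (M_le_normalizer_Pp q M₂))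
    ((hB.trans inf_le_left).trans (M_le_normalizer_Pp p M₁)) hdis ha hb).symm

theorem Setup.Pp_le_centralizer_Rq {M₁ M₂ : Subgroup G} (h : Setup M₁ M₂) (p : ℕ) [Fact p.Prime] :
    Pp p M₁ ≤ centralizer ((Rq p M₂ : Subgroup G) : Set G) := by
  rw [Subgroup.le_centralizer_iff, Rq_eq_iSup]
  apply iSup_le
  intro q
  rw [← Subgroup.le_centralizer_iff]
  haveI : Fact (q.1 : ℕ).Prime := ⟨q.1.2⟩
  exact h.Pp_le_centralizer p (q.1 : ℕ) (fun e => q.2 e.symm)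

/-- Step 3: the primes of `F(M₁)` and `F(M₂)` coincide. -/
theorem Setup.Pp_ne_bot {M₁ M₂ : Subgroup G} (h : Setup M₁ M₂) (p : ℕ) [Fact p.Prime]
    (h1 : Pp p M₁ ≠ ⊥) : Pp p M₂ ≠ ⊥ := by
  intro hbot
  apply h1
  have hFt : Ft M₂ = Rq p M₂ := by rw [Ft_eq p, hbot, bot_sup_eq]
  have hle : Pp p M₁ ≤ Rq p M₂ := by
    intro a ha
    rw [← hFt]
    apply h.symm.Ft_self_centralizing
    refine ⟨(((Pp_le_Ft p M₁).trans h.Ft_le_inf) ha).2, ?_⟩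
    rw [hFt]
    exact h.Pp_le_centralizer_Rq p ha
  have hdis : Pp p M₁ ⊓ Rq p M₂ = ⊥ :=
    isPGroup_inf_coprime_eq_bot (Rq_coprime p M₂) (Pp_isPGroup p M₁)
  rw [eq_bot_iff, ← hdis]
  exact le_inf le_rfl hle

theorem Setup.Rq_ne_bot {M₁ M₂ : Subgroup G} (h : Setup M₁ M₂) (p : ℕ) [Fact p.Prime]
    (h1 : Rq p M₁ ≠ ⊥) : Rq p M₂ ≠ ⊥ := by
  intro hbot
  apply h1
  rw [Rq_eq_iSup] at hbot ⊢
  rw [eq_bot_iff]
  apply iSup_le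
  intro q
  haveI : Fact (q.1 : ℕ).Prime := ⟨q.1.2⟩
  by_contra hq
  have hq' : Pp (q.1 : ℕ) M₁ ≠ ⊥ := fun e => hq (e ▸ le_rfl)
  have := h.Pp_ne_bot (q.1 : ℕ) hq'
  apply this
  rw [eq_bot_iff, ← hbot]
  exact le_iSup (fun q : {q : Nat.Primes // (q : ℕ) ≠ p} => Pp (q.1 : ℕ) M₂) q

theorem Setup.exists_prime {M₁ M₂ : Subgroup G} (h : Setup M₁ M₂) :
    ∃ p : ℕ, p.Prime ∧ Pp p M₁ ≠ ⊥ := by
  by_contra hcon
  push Not at hcon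
  apply h.ne_bot
  unfold Ft
  rw [fittingSubgroup_eq_iSup_pCore, Subgroup.map_iSup, eq_bot_iff]
  apply iSup_le
  intro q
  have := hcon (q : ℕ) q.2
  unfold Pp at this
  rw [this]

/-- In the setting of Bender's theorem only one prime occurs. -/
theorem Setup.Rq_eq_bot {M₁ M₂ : Subgroup G} (h : Setup M₁ M₂) (p : ℕ) [Fact p.Prime]
    (hp1 : Pp p M₁ ≠ ⊥) : Rq p M₁ = ⊥ ∧ Rq p M₂ = ⊥ := by
  by_contra hcon
  have hR : Rq p M₁ ≠ ⊥ ∧ Rq p M₂ ≠ ⊥ := by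
    by_cases h1 : Rq p M₁ = ⊥
    · have h2 : Rq p M₂ ≠ ⊥ := fun h2 => hcon ⟨h1, h2⟩
      exact ⟨h.symm.Rq_ne_bot p h2, h2⟩
    · exact ⟨h1, h.Rq_ne_bot p h1⟩
  have hp2 : Pp p M₂ ≠ ⊥ := h.Pp_ne_bot p hp1
  refine false_of_two_primes (p := p) M₁ M₂ h.ne h.prim (Pp p M₁) (Rq p M₁) (Pp p M₂) (Rq p M₂)
    ?_ ?_ (M_le_normalizer_Pp p M₁) (M_le_normalizer_Rq p M₁) (M_le_normalizer_Pp p M₂)
    (M_le_normalizer_Rq p M₂) (Pp_isPGroup p M₁) (Pp_isPGroup p M₂) (Rq_coprime p M₁)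
    (Rq_coprime p M₂) ?_ ?_ (h.Pp_le_centralizer_Rq p) (h.symm.Pp_le_centralizer_Rq p)
    hp1 hp2 hR.1 hR.2
  · rw [← Ft_eq p]; exact h.Ft_le_inf
  · rw [← Ft_eq p]; exact h.Ft_le_inf'
  · rw [← Ft_eq p]; exact h.Ft_self_centralizing
  · rw [← Ft_eq p]; exact h.symm.Ft_self_centralizing

theorem Setup.gfs_eq_pCore {M₁ M₂ : Subgroup G} (h : Setup M₁ M₂) (p : ℕ) [Fact p.Prime]
    (hR : Rq p M₁ = ⊥) : Cfsg.generalizedFittingSubgroup M₁ = Cfsg.pCore p M₁ := by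
  unfold Cfsg.generalizedFittingSubgroup
  rw [h.layer_eq_bot, bot_sup_eq, fitting_eq p]
  have : Rp p M₁ = ⊥ := (map_eq_bot_iff' M₁ _).mp hR
  rw [this, sup_bot_eq]

/-- **Bender's theorem on primitive pairs.** -/
theorem bender {M₁ M₂ : Subgroup G} (h : Setup M₁ M₂) :
    ∃ p : ℕ, p.Prime ∧
      centralizer (Cfsg.pCore p M₁ : Set M₁) ≤ Cfsg.pCore p M₁ ∧
      centralizer (Cfsg.pCore p M₂ : Set M₂) ≤ Cfsg.pCore p M₂ ∧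
      (Cfsg.pCore p M₁).map M₁.subtype ⊔ (Cfsg.pCore p M₂).map M₂.subtype ≤ M₁ ⊓ M₂ := by
  obtain ⟨p, hp, hp1⟩ := h.exists_prime
  haveI : Fact p.Prime := ⟨hp⟩
  obtain ⟨hR1, hR2⟩ := h.Rq_eq_bot p hp1
  refine ⟨p, hp, ?_, ?_, ?_⟩
  · rw [← h.gfs_eq_pCore p hR1]
    exact centralizer_generalizedFittingSubgroup_le
  · rw [← h.symm.gfs_eq_pCore p hR2]
    exact centralizer_generalizedFittingSubgroup_le
  · apply sup_le
    · exact (Pp_le_Ft p M₁).trans h.Ft_le_inf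
    · exact (Pp_le_Ft p M₂).trans h.Ft_le_inf'

end Cfsg.Agent.Lib.Helper7.Bender
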