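import Mathlib

set_option autoImplicit false

/-! Cyclic extensions of an abelian group: given an automorphism `φ` of the abelian group `A`
with `φ ^ n = 1` and an element `w` fixed by `φ`, a group containing `A` and an element `β`
inducing `φ` on `A` with `β ^ n = w`. -/

namespace Cfsg.Agent.Lib.Helper7.Beyl

open SemidirectProduct

universe u

theorem normal_of_central {G : Type u} [Group G] (N : Subgroup G)
    (h : N ≤ Subgroup.center G) : N.Normal := by
  refine ⟨fun n hn g => ?_⟩
  have h1 := Subgroup.mem_center_iff.1 (h hn) g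
  rw [h1, mul_assoc, mul_inv_cancel, mul_one]
  exact hn

section model

variable {A : Type u} [CommGroup A] (φ : MulAut A) (n : ℕ) (w : A)

/-- the split extension of `A` by the infinite cyclic group acting through `φ` -/
abbrev SS : Type u := A ⋊[zpowersHom (MulAut A) φ] Multiplicative ℤ

/-- the element `w⁻¹ βⁿ` of the split extension -/
def zet : SS φ := ⟨w⁻¹, Multiplicative.ofAdd (n : ℤ)⟩

theorem zpowersHom_fix (hw : φ w = w) (z : Multiplicative ℤ) :
    (zpowersHom (MulAut A) φ z) w = w := by
  have h1 : φ ∈ MulAction.stabilizer (MulAut A) w := by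
    rw [MulAction.mem_stabilizer_iff]
    exact hw
  have h2 : zpowersHom (MulAut A) φ z ∈ MulAction.stabilizer (MulAut A) w := by
    rw [zpowersHom_apply]
    exact Subgroup.zpow_mem _ h1 _
  rw [MulAction.mem_stabilizer_iff] at h2
  exact h2

theorem zet_mem_center (hφ : φ ^ n = 1) (hw : φ w = w) :
    zet φ n w ∈ Subgroup.center (SS φ) := by
  rw [Subgroup.mem_center_iff]
  intro s
  have hn : zpowersHom (MulAut A) φ (Multiplicative.ofAdd (n : ℤ)) = 1 := by
    rw [zpowersHom_apply, toAdd_ofAdd, zpow_natCast, hφ]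
  apply SemidirectProduct.ext
  · rw [mul_left, mul_left]
    show s.left * (zpowersHom (MulAut A) φ s.right) w⁻¹ =
      w⁻¹ * (zpowersHom (MulAut A) φ (Multiplicative.ofAdd (n : ℤ))) s.left
    rw [hn, map_inv, zpowersHom_fix φ w hw]
    show s.left * w⁻¹ = w⁻¹ * s.left
    exact mul_comm _ _
  · rw [mul_right, mul_right]
    exact mul_comm _ _

theorem exists_cyclic_extension (hn : 0 < n) (hφ : φ ^ n = 1) (hw : φ w = w) :
    ∃ (E : Type u) (_ : Group E) (ι : A →* E) (b : E), Function.Injective ι ∧
      (∀ x : A, b * ι x * b⁻¹ = ι (φ x)) ∧ b ^ n = ι w := by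
  have hcen : Subgroup.zpowers (zet φ n w) ≤ Subgroup.center (SS φ) := by
    rw [Subgroup.zpowers_le]
    exact zet_mem_center φ n w hφ hw
  haveI : (Subgroup.zpowers (zet φ n w)).Normal := normal_of_central _ hcen
  refine ⟨SS φ ⧸ Subgroup.zpowers (zet φ n w), inferInstance,
    (QuotientGroup.mk' _).comp inl, QuotientGroup.mk (inr (Multiplicative.ofAdd (1 : ℤ))),
    ?_, ?_, ?_⟩
  · rw [injective_iff_map_eq_one]
    intro x hx
    rw [MonoidHom.comp_apply, QuotientGroup.mk'_apply, QuotientGroup.eq_one_iff] at hx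
    obtain ⟨k, hk⟩ := Subgroup.mem_zpowers_iff.mp hx
    have h1 := congrArg (rightHom (N := A) (G := Multiplicative ℤ)
      (φ := zpowersHom (MulAut A) φ)) hk
    rw [map_zpow, rightHom_inl] at h1
    have h2 : (rightHom (N := A) (G := Multiplicative ℤ)
      (φ := zpowersHom (MulAut A) φ)) (zet φ n w) = Multiplicative.ofAdd (n : ℤ) := rfl
    rw [h2, ← ofAdd_zsmul] at h1
    have h3 : k • (n : ℤ) = 0 := congrArg Multiplicative.toAdd h1
    have hk0 : k = 0 := by
      rw [smul_eq_mul] at h3
      rcases mul_eq_zero.mp h3 with h | h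
      · exact h
      · exfalso
        have : (n : ℤ) ≠ 0 := by exact_mod_cast hn.ne'
        exact this h
    rw [hk0, zpow_zero] at hk
    have h4 : (inl x : SS φ) = inl 1 := by rw [← hk, map_one]
    exact inl_injective h4
  · intro x
    rw [MonoidHom.comp_apply, MonoidHom.comp_apply, QuotientGroup.mk'_apply,
      QuotientGroup.mk'_apply, ← QuotientGroup.mk_inv, ← QuotientGroup.mk_mul,
      ← QuotientGroup.mk_mul]
    congr 1
    have h1 := inl_aut (φ := zpowersHom (MulAut A) φ) (Multiplicative.ofAdd (1 : ℤ)) x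
    rw [map_inv] at h1
    rw [← h1, zpowersHom_apply, toAdd_ofAdd, zpow_one]
  · rw [MonoidHom.comp_apply, QuotientGroup.mk'_apply, ← QuotientGroup.mk_pow, ← map_pow]
    symm
    rw [QuotientGroup.eq]
    have h1 : (inl w : SS φ)⁻¹ * inr (Multiplicative.ofAdd (1 : ℤ) ^ n) = zet φ n w := by
      rw [← map_inv]
      apply SemidirectProduct.ext
      · rw [mul_left, left_inl, right_inl, map_one, left_inr]
        simp [zet]
      · rw [mul_right, right_inl, right_inr, one_mul, ← ofAdd_nsmul]
        simp [zet]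
    rw [h1]
    exact Subgroup.mem_zpowers _

end model

end Cfsg.Agent.Lib.Helper7.Beyl
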