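import Mathlib
import Cfsg.Agent.Lib.Helper7.Beyl1

set_option autoImplicit false

/-! The metacyclic presentation `⟨a, b | a^M, b^n = a^T, b a b⁻¹ = a^R⟩`: universal property,
normal form, finiteness. -/

namespace Cfsg.Agent.Lib.Helper7.Beyl

/-- the relators of the metacyclic presentation -/
abbrev rels (M n R T : ℕ) : Set (FreeGroup Bool) :=
  {FreeGroup.of true ^ M, (FreeGroup.of false) ^ n * (FreeGroup.of true ^ T)⁻¹,
    FreeGroup.of false * FreeGroup.of true * (FreeGroup.of false)⁻¹ * (FreeGroup.of true ^ R)⁻¹}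

/-- the metacyclic group as a presented group -/
abbrev MG (M n R T : ℕ) : Type := PresentedGroup (rels M n R T)

section basics

variable (M n R T : ℕ)

/-- the generator `a` -/
def ga : MG M n R T := PresentedGroup.of true

/-- the generator `b` -/
def gb : MG M n R T := PresentedGroup.of false

theorem ga_pow : ga M n R T ^ M = 1 := by
  have h : (FreeGroup.of true ^ M : FreeGroup Bool) ∈ rels M n R T := by
    simp
  have := PresentedGroup.one_of_mem h
  rw [map_pow] at this
  exact this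

theorem gb_pow : gb M n R T ^ n = ga M n R T ^ T := by
  have h : ((FreeGroup.of false) ^ n * (FreeGroup.of true ^ T)⁻¹ : FreeGroup Bool) ∈
      rels M n R T := by
    simp
  have := PresentedGroup.one_of_mem h
  rw [map_mul, map_inv, map_pow, map_pow, mul_inv_eq_one] at this
  exact this

theorem gb_conj : gb M n R T * ga M n R T * (gb M n R T)⁻¹ = ga M n R T ^ R := by
  have h : (FreeGroup.of false * FreeGroup.of true * (FreeGroup.of false)⁻¹ *
      (FreeGroup.of true ^ R)⁻¹ : FreeGroup Bool) ∈ rels M n R T := by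
    simp
  have := PresentedGroup.one_of_mem h
  rw [map_mul, map_inv, map_pow, mul_inv_eq_one, map_mul, map_mul, map_inv] at this
  exact this

theorem closure_gens : Subgroup.closure {ga M n R T, gb M n R T} = ⊤ := by
  have h := PresentedGroup.closure_range_of (rels M n R T)
  rw [← h]
  congr 1
  ext x
  constructor
  · rintro (rfl | rfl)
    · exact ⟨true, rfl⟩
    · exact ⟨false, rfl⟩
  · rintro ⟨b, rfl⟩
    cases b
    · right; rfl
    · left; rfl

/-- universal property -/
theorem exists_hom {H : Type*} [Group H] (x y : H) (h1 : x ^ M = 1) (h2 : y ^ n = x ^ T)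
    (h3 : y * x * y⁻¹ = x ^ R) :
    ∃ f : MG M n R T →* H, f (ga M n R T) = x ∧ f (gb M n R T) = y := by
  let f0 : Bool → H := fun b => if b then x else y
  have hrel : ∀ r ∈ rels M n R T, FreeGroup.lift f0 r = 1 := by
    intro r hr
    rcases hr with rfl | rfl | rfl
    · rw [map_pow, FreeGroup.lift_apply_of]
      exact h1
    · rw [map_mul, map_inv, map_pow, map_pow, FreeGroup.lift_apply_of, FreeGroup.lift_apply_of,
        mul_inv_eq_one]
      exact h2
    · rw [map_mul, map_inv, map_pow, map_mul, map_mul, map_inv, FreeGroup.lift_apply_of,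
        FreeGroup.lift_apply_of, mul_inv_eq_one]
      exact h3
  refine ⟨PresentedGroup.toGroup hrel, ?_, ?_⟩
  · exact PresentedGroup.toGroup.of hrel
  · exact PresentedGroup.toGroup.of hrel

end basics

section normalform

variable {Γ : Type*} [Group Γ] (a b : Γ) (M n R T : ℕ)

theorem conj_pow_gen (h3 : b * a * b⁻¹ = a ^ R) (i : ℕ) : b * a ^ i = a ^ (R * i) * b := by
  have h : b * a ^ i * b⁻¹ = a ^ (R * i) := by
    rw [← conj_pow, h3, ← pow_mul]
  rw [← h]
  group

theorem conj_pow_pow_gen (h3 : b * a * b⁻¹ = a ^ R) (j i : ℕ) :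
    b ^ j * a ^ i = a ^ (R ^ j * i) * b ^ j := by
  induction j generalizing i with
  | zero => simp
  | succ j ih =>
    rw [pow_succ', mul_assoc, ih, ← mul_assoc, conj_pow_gen a b R h3, mul_assoc, pow_succ' R,
      mul_assoc]

theorem pow_mod_of_pow_eq_one (h1 : a ^ M = 1) (k : ℕ) : a ^ k = a ^ (k % M) := by
  conv_lhs => rw [← Nat.div_add_mod k M, pow_add, pow_mul, h1, one_pow, one_mul]

/-- every element of a group generated by `a`, `b` subject to the metacyclic relations is of
the form `a^i b^j` -/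
theorem normal_form (hM : 0 < M) (hn : 0 < n) (hgen : Subgroup.closure {a, b} = ⊤)
    (h1 : a ^ M = 1) (h2 : b ^ n = a ^ T) (h3 : b * a * b⁻¹ = a ^ R) (g : Γ) :
    ∃ i j : ℕ, g = a ^ i * b ^ j := by
  have ha : ∀ (k : ℕ) (g : Γ), (∃ i j : ℕ, g = a ^ i * b ^ j) →
      ∃ i j : ℕ, a ^ k * g = a ^ i * b ^ j := by
    rintro k g ⟨i, j, rfl⟩
    exact ⟨k + i, j, by rw [← mul_assoc, ← pow_add]⟩
  have hb : ∀ (k : ℕ) (g : Γ), (∃ i j : ℕ, g = a ^ i * b ^ j) →
      ∃ i j : ℕ, b ^ k * g = a ^ i * b ^ j := by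
    rintro k g ⟨i, j, rfl⟩
    exact ⟨R ^ k * i, k + j, by
      rw [← mul_assoc, conj_pow_pow_gen a b R h3, mul_assoc, ← pow_add]⟩
  have hainv : a⁻¹ = a ^ (M - 1) := by
    rw [inv_eq_iff_mul_eq_one, ← pow_succ', Nat.sub_add_cancel hM, h1]
  have hbinv : b⁻¹ = b ^ (n - 1) * a ^ (T * (M - 1)) := by
    rw [inv_eq_iff_mul_eq_one, ← mul_assoc, ← pow_succ', Nat.sub_add_cancel hn, h2, ← pow_add]
    have : T + T * (M - 1) = M * T := by
      obtain ⟨M', rfl⟩ : ∃ M', M = M' + 1 := ⟨M - 1, by omega⟩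
      simp only [Nat.add_sub_cancel]
      ring
    rw [this, pow_mul, h1, one_pow]
  have hg : g ∈ Subgroup.closure {a, b} := by rw [hgen]; exact Subgroup.mem_top g
  induction hg using Subgroup.closure_induction_left with
  | one => exact ⟨0, 0, by simp⟩
  | mul_left x hx y _ ih =>
    rcases hx with rfl | hx
    · have := ha 1 y ih
      rwa [pow_one] at this
    · rw [Set.mem_singleton_iff] at hx
      subst hx
      have := hb 1 y ih
      rwa [pow_one] at this
  | inv_mul_cancel x hx y _ ih =>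
    rcases hx with rfl | hx
    · rw [hainv]
      exact ha _ y ih
    · rw [Set.mem_singleton_iff] at hx
      subst hx
      rw [hbinv, mul_assoc]
      exact hb _ _ (ha _ y ih)

theorem finite_of_rels (hM : 0 < M) (hn : 0 < n) (hgen : Subgroup.closure {a, b} = ⊤)
    (h1 : a ^ M = 1) (h2 : b ^ n = a ^ T) (h3 : b * a * b⁻¹ = a ^ R) : Finite Γ := by
  haveI : NeZero M := ⟨hM.ne'⟩
  haveI : NeZero n := ⟨hn.ne'⟩
  let f : Fin M × Fin n → Γ := fun p => a ^ (p.1 : ℕ) * b ^ (p.2 : ℕ)
  apply Finite.of_surjective f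
  intro g
  obtain ⟨i, j, rfl⟩ := normal_form a b M n R T hM hn hgen h1 h2 h3 g
  have hj : b ^ j = a ^ (T * (j / n)) * b ^ (j % n) := by
    conv_lhs => rw [← Nat.div_add_mod j n, pow_add, pow_mul, h2, ← pow_mul]
  refine ⟨(⟨(i + T * (j / n)) % M, Nat.mod_lt _ hM⟩, ⟨j % n, Nat.mod_lt _ hn⟩), ?_⟩
  show a ^ ((i + T * (j / n)) % M) * b ^ (j % n) = a ^ i * b ^ j
  rw [← pow_mod_of_pow_eq_one a M h1, hj, ← mul_assoc, ← pow_add]

end normalform

instance MG_finite (M n R T : ℕ) [hM : NeZero M] [hn : NeZero n] : Finite (MG M n R T) :=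
  finite_of_rels (ga M n R T) (gb M n R T) M n R T (Nat.pos_of_ne_zero hM.out)
    (Nat.pos_of_ne_zero hn.out) (closure_gens M n R T) (ga_pow M n R T) (gb_pow M n R T)
    (gb_conj M n R T)

end Cfsg.Agent.Lib.Helper7.Beyl
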