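import Mathlib
import Cfsg.Agent.Lib.Helper7.Beyl2

set_option autoImplicit false

/-! The metacyclic presentation: the order of the generator `a`, and the quotient by `⟨a⟩`. -/

namespace Cfsg.Agent.Lib.Helper7.Beyl

section order

variable (M n R T : ℕ)

/-- multiplication by a unit as an automorphism of the multiplicative copy of `ZMod M` -/
def unitAut (u : (ZMod M)ˣ) : MulAut (Multiplicative (ZMod M)) where
  toFun x := Multiplicative.ofAdd ((u : ZMod M) * Multiplicative.toAdd x)
  invFun x := Multiplicative.ofAdd (((u⁻¹ : (ZMod M)ˣ) : ZMod M) * Multiplicative.toAdd x)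
  left_inv x := by
    show Multiplicative.ofAdd (((u⁻¹ : (ZMod M)ˣ) : ZMod M) *
      ((u : ZMod M) * Multiplicative.toAdd x)) = x
    rw [Units.inv_mul_cancel_left]
    rfl
  right_inv x := by
    show Multiplicative.ofAdd ((u : ZMod M) *
      (((u⁻¹ : (ZMod M)ˣ) : ZMod M) * Multiplicative.toAdd x)) = x
    rw [Units.mul_inv_cancel_left]
    rfl
  map_mul' x y := by
    show Multiplicative.ofAdd ((u : ZMod M) * (Multiplicative.toAdd x + Multiplicative.toAdd y)) =
      Multiplicative.ofAdd ((u : ZMod M) * Multiplicative.toAdd x) *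
        Multiplicative.ofAdd ((u : ZMod M) * Multiplicative.toAdd y)
    rw [mul_add]
    rfl

theorem unitAut_apply (u : (ZMod M)ˣ) (x : Multiplicative (ZMod M)) :
    unitAut M u x = Multiplicative.ofAdd ((u : ZMod M) * Multiplicative.toAdd x) := rfl

theorem unitAut_pow (u : (ZMod M)ˣ) (k : ℕ) : (unitAut M u) ^ k = unitAut M (u ^ k) := by
  induction k with
  | zero =>
    ext x
    rw [pow_zero, pow_zero, MulAut.one_apply, unitAut_apply, Units.val_one, one_mul]
    rfl
  | succ k ih =>
    ext x
    rw [pow_succ, ih, MulAut.mul_apply, unitAut_apply, unitAut_apply, unitAut_apply, pow_succ,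
      Units.val_mul, mul_assoc]
    rfl

theorem unitAut_one : unitAut M 1 = 1 := by
  ext x
  rw [MulAut.one_apply, unitAut_apply, Units.val_one, one_mul]
  rfl

/-- in the metacyclic group with consistent parameters the generator `a` has order exactly `M` -/
theorem ga_pow_eq_one_iff (hn : 0 < n) (hR : R ^ n ≡ 1 [MOD M]) (hT : T * R ≡ T [MOD M])
    (i : ℕ) : ga M n R T ^ i = 1 ↔ M ∣ i := by
  constructor
  · intro hi
    have hRu : ((R : ZMod M)) ^ n = 1 := by
      have := (ZMod.natCast_eq_natCast_iff _ _ _).mpr hR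
      push_cast at this
      exact this
    have hunit : IsUnit (R : ZMod M) := IsUnit.of_pow_eq_one hRu hn.ne'
    obtain ⟨u, hu⟩ := hunit
    have hun : u ^ n = 1 := by
      apply Units.ext
      rw [Units.val_pow_eq_pow_val, hu, hRu]
      rfl
    obtain ⟨E, hE, ι, b, hι, hconj, hpow⟩ := exists_cyclic_extension (unitAut M u) n
      (Multiplicative.ofAdd (T : ZMod M)) hn (by rw [unitAut_pow, hun, unitAut_one]) (by
        rw [unitAut_apply, toAdd_ofAdd, hu]
        congr 1
        have := (ZMod.natCast_eq_natCast_iff _ _ _).mpr hT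
        push_cast at this
        rw [mul_comm]
        exact this)
    have hpowx : ∀ k : ℕ, ι (Multiplicative.ofAdd (1 : ZMod M)) ^ k =
        ι (Multiplicative.ofAdd (k : ZMod M)) := by
      intro k
      rw [← map_pow, ← ofAdd_nsmul, nsmul_eq_mul, mul_one]
    obtain ⟨f, hfa, hfb⟩ := exists_hom M n R T (ι (Multiplicative.ofAdd (1 : ZMod M))) b
      (by
        rw [hpowx, ZMod.natCast_self]
        exact map_one ι)
      (by rw [hpow, hpowx])
      (by
        rw [hconj, hpowx, unitAut_apply, toAdd_ofAdd, hu, mul_one])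
    have h1 := congrArg f hi
    rw [map_pow, hfa, map_one f, hpowx] at h1
    have h2 : Multiplicative.ofAdd (i : ZMod M) = 1 := hι (h1.trans (map_one ι).symm)
    have h3 : (i : ZMod M) = 0 := h2
    exact (ZMod.natCast_eq_zero_iff _ _).mp h3
  · rintro ⟨k, rfl⟩
    rw [pow_mul, ga_pow, one_pow]

theorem orderOf_ga (hn : 0 < n) (hR : R ^ n ≡ 1 [MOD M])
    (hT : T * R ≡ T [MOD M]) : orderOf (ga M n R T) = M := by
  apply Nat.dvd_antisymm
  · exact orderOf_dvd_of_pow_eq_one (ga_pow M n R T)
  · exact (ga_pow_eq_one_iff M n R T hn hR hT _).mp (pow_orderOf_eq_one _)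

/-- the exponent of `b` is determined modulo `n` -/
theorem dvd_of_pow_mul_pow_eq_one (i j : ℕ) (h : ga M n R T ^ i * gb M n R T ^ j = 1) :
    n ∣ j := by
  obtain ⟨f, hfa, hfb⟩ := exists_hom M n R T (1 : Multiplicative (ZMod n))
    (Multiplicative.ofAdd (1 : ZMod n)) (one_pow _)
    (by
      rw [one_pow, ← ofAdd_nsmul, nsmul_eq_mul, mul_one, ZMod.natCast_self]
      rfl)
    (by rw [one_pow, mul_one, mul_inv_cancel])
  have h1 := congrArg f h
  rw [map_mul, map_pow, map_pow, hfa, hfb, one_pow, one_mul, map_one f, ← ofAdd_nsmul,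
    nsmul_eq_mul, mul_one] at h1
  have h3 : (j : ZMod n) = 0 := h1
  exact (ZMod.natCast_eq_zero_iff _ _).mp h3

end order

end Cfsg.Agent.Lib.Helper7.Beyl
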