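import Mathlib
import Cfsg.Agent.Lib.Helper7.StemCore
import Cfsg.Prelude.Def_KGroupFacts

set_option autoImplicit false

/-! Stem extensions of a group generated by `a, b` with `a^m = 1`, `b^n = a^t`, `b a b⁻¹ = a^r`:
the kernel lies in the cyclic group generated by a commutator `c` with `c^m = c^t = c^N = 1`. -/

namespace Cfsg.Agent.Lib.Helper7.Beyl

open scoped commutatorElement

/-- In a finite group, a subgroup stable under conjugation by a generating set is normal. -/
theorem normal_of_conj_gens {Γ : Type*} [Group Γ] [Finite Γ] (H : Subgroup Γ) (S : Set Γ)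
    (hS : Subgroup.closure S = ⊤) (h : ∀ s ∈ S, ∀ x ∈ H, s * x * s⁻¹ ∈ H) : H.Normal := by
  let N' : Subgroup Γ :=
    { carrier := {g | ∀ x ∈ H, g * x * g⁻¹ ∈ H}
      mul_mem' := by
        intro a b ha hb x hx
        have h1 := ha _ (hb x hx)
        have h2 : a * b * x * (a * b)⁻¹ = a * (b * x * b⁻¹) * a⁻¹ := by group
        rw [h2]
        exact h1
      one_mem' := by
        intro x hx
        simpa using hx
      inv_mem' := by
        intro a ha
        have hpow : ∀ k : ℕ, ∀ x ∈ H, a ^ k * x * (a ^ k)⁻¹ ∈ H := by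
          intro k
          induction k with
          | zero =>
            intro x hx
            simpa using hx
          | succ k ih =>
            intro x hx
            have h1 := ha _ (ih x hx)
            have h2 : a ^ (k + 1) * x * (a ^ (k + 1))⁻¹ = a * (a ^ k * x * (a ^ k)⁻¹) * a⁻¹ := by
              rw [pow_succ']
              group
            rw [h2]
            exact h1
        have hinv : a⁻¹ = a ^ (orderOf a - 1) := by
          rw [inv_eq_iff_mul_eq_one, ← pow_succ', Nat.sub_add_cancel (orderOf_pos a),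
            pow_orderOf_eq_one]
        intro x hx
        show a⁻¹ * x * (a⁻¹)⁻¹ ∈ H
        rw [hinv]
        exact hpow _ x hx }
  have hle : Subgroup.closure S ≤ N' := by
    rw [Subgroup.closure_le]
    intro s hs
    exact h s hs
  refine ⟨fun x hx g => ?_⟩
  have hg : g ∈ N' := hle (by rw [hS]; exact Subgroup.mem_top g)
  exact hg x hx

section analysis

variable {Γ : Type*} {G : Type*} [Group Γ] [Finite Γ] [Group G]

theorem stem_analysis (σ : Γ →* G) (hσ : Cfsg.IsStemExtension σ) (a b : G) (m n r t : ℕ)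
    (hr : 0 < r) (hgen : Subgroup.closure {a, b} = ⊤) (h1 : a ^ m = 1) (h2 : b ^ n = a ^ t)
    (h3 : b * a * b⁻¹ = a ^ r) :
    ∃ c : Γ, σ c = a ^ (r - 1) ∧ c ^ m = 1 ∧ c ^ t = 1 ∧
      c ^ (∑ i ∈ Finset.range n, r ^ i) = 1 ∧ ∀ z ∈ σ.ker, ∃ i : ℕ, z = c ^ i := by
  obtain ⟨hsurj, hcen, hcomm⟩ := hσ
  obtain ⟨x, hx⟩ := hsurj a
  obtain ⟨y, hy⟩ := hsurj b
  obtain ⟨r', rfl⟩ : ∃ r', r = r' + 1 := ⟨r - 1, by omega⟩
  have hkc : ∀ k ∈ σ.ker, ∀ g : Γ, Commute g k := fun k hk g =>
    Subgroup.mem_center_iff.mp (hcen hk) g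
  -- the commutator
  obtain ⟨c, hc⟩ : ∃ c : Γ, c = y * x * y⁻¹ * x⁻¹ := ⟨_, rfl⟩
  obtain ⟨z₁, hz₁⟩ : ∃ z₁ : Γ, z₁ = y * x * y⁻¹ * (x ^ (r' + 1))⁻¹ := ⟨_, rfl⟩
  have hz₁k : z₁ ∈ σ.ker := by
    rw [MonoidHom.mem_ker, hz₁]
    simp only [map_mul, map_inv, map_pow, hx, hy, h3]
    group
  have hσc : σ c = a ^ r' := by
    rw [hc]
    simp only [map_mul, map_inv, hx, hy, h3]
    rw [pow_succ]
    group
  have hcz : c = z₁ * x ^ r' := by
    have hz' : y * x * y⁻¹ = z₁ * x ^ (r' + 1) := by rw [hz₁]; group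
    rw [hc, hz', pow_succ]
    group
  have hcx : Commute x c := by
    rw [hcz]
    exact (hkc z₁ hz₁k x).mul_right (Commute.pow_right (Commute.refl x) r')
  have hyx : y * x * y⁻¹ = c * x := by rw [hc]; group
  -- conjugation of powers of `x`
  have hG1 : ∀ i : ℕ, y * x ^ i * y⁻¹ = x ^ i * c ^ i := by
    intro i
    rw [← conj_pow, hyx, hcx.symm.mul_pow, ((hcx.pow_left i).pow_right i).eq]
  have hyz : y * z₁ * y⁻¹ = z₁ := by
    rw [(hkc z₁ hz₁k y).eq]
    group
  have hF2 : y * c * y⁻¹ = c ^ (r' + 1) := by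
    have e1 : y * c * y⁻¹ = (y * z₁ * y⁻¹) * (y * x ^ r' * y⁻¹) := by rw [hcz]; group
    rw [e1, hyz, hG1, ← mul_assoc, ← hcz, pow_succ']
  have hF3 : ∀ i : ℕ, Commute y (x ^ i) → c ^ i = 1 := by
    intro i hi
    have e1 := hG1 i
    have e2 : y * x ^ i * y⁻¹ = x ^ i := by rw [hi.eq]; group
    rw [e2] at e1
    exact (left_eq_mul.mp e1)
  have hm : c ^ m = 1 := by
    apply hF3
    apply hkc
    rw [MonoidHom.mem_ker, map_pow, hx, h1]
  have hz₃k : y ^ n * (x ^ t)⁻¹ ∈ σ.ker := by
    rw [MonoidHom.mem_ker, map_mul, map_inv, map_pow, map_pow, hx, hy, h2, mul_inv_cancel]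
  have hxt : x ^ t = (y ^ n * (x ^ t)⁻¹)⁻¹ * y ^ n := by group
  have ht : c ^ t = 1 := by
    apply hF3
    rw [hxt]
    exact ((hkc _ hz₃k y).inv_right).mul_right (Commute.pow_right (Commute.refl y) n)
  have hyc : ∀ k : ℕ, y * c ^ k * y⁻¹ = c ^ ((r' + 1) * k) := by
    intro k
    rw [← conj_pow, hF2, ← pow_mul]
  have hconj : ∀ j : ℕ, y ^ j * x * (y ^ j)⁻¹ = x * c ^ (∑ i ∈ Finset.range j, (r' + 1) ^ i) := by
    intro j
    induction j with
    | zero => simp
    | succ j ih =>
      have e1 : y ^ (j + 1) * x * (y ^ (j + 1))⁻¹ = y * (y ^ j * x * (y ^ j)⁻¹) * y⁻¹ := by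
        rw [pow_succ']
        group
      have e2 : y * (x * c ^ (∑ i ∈ Finset.range j, (r' + 1) ^ i)) * y⁻¹ =
          (y * x * y⁻¹) * (y * c ^ (∑ i ∈ Finset.range j, (r' + 1) ^ i) * y⁻¹) := by group
      rw [e1, ih, e2, hyx, hyc, hcx.symm.eq, mul_assoc, ← pow_succ', geom_sum_succ]
  have hN : c ^ (∑ i ∈ Finset.range n, (r' + 1) ^ i) = 1 := by
    have e1 := hconj n
    have hyn : y ^ n = (y ^ n * (x ^ t)⁻¹) * x ^ t := by group
    have e2 : Commute (y ^ n) x := by
      rw [hyn]
      exact ((hkc _ hz₃k x).symm).mul_left (Commute.pow_left (Commute.refl x) t)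
    have e3 : y ^ n * x * (y ^ n)⁻¹ = x := by rw [e2.eq]; group
    rw [e3] at e1
    exact (left_eq_mul.mp e1)
  -- the commutator subgroup
  have hgenΓ : Subgroup.closure {x, y} ⊔ σ.ker = ⊤ := by
    rw [eq_top_iff]
    intro g _
    have h1 : σ g ∈ (Subgroup.closure {x, y}).map σ := by
      rw [MonoidHom.map_closure, Set.image_pair, hx, hy, hgen]; exact Subgroup.mem_top _
    obtain ⟨w, hw, hwg⟩ := h1
    have h2 : w⁻¹ * g ∈ σ.ker := by
      rw [MonoidHom.mem_ker, map_mul, map_inv, hwg]; group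
    have : g = w * (w⁻¹ * g) := by group
    rw [this]
    exact Subgroup.mul_mem _ (Subgroup.mem_sup_left hw) (Subgroup.mem_sup_right h2)
  have hS : Subgroup.closure (({x, y} : Set Γ) ∪ (σ.ker : Set Γ)) = ⊤ := by
    rw [Subgroup.closure_union, Subgroup.closure_eq, hgenΓ]
  have hconjc : ∀ s ∈ (({x, y} : Set Γ) ∪ (σ.ker : Set Γ)), s * c * s⁻¹ ∈ Subgroup.zpowers c := by
    intro s hs
    rcases hs with (rfl | hs) | hs
    · rw [hcx.eq]
      have : c * s * s⁻¹ = c := by group
      rw [this]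
      exact Subgroup.mem_zpowers c
    · rw [Set.mem_singleton_iff] at hs
      subst hs
      rw [hF2]
      exact Subgroup.npow_mem_zpowers c _
    · rw [(hkc s hs c).symm.eq]
      have : c * s * s⁻¹ = c := by group
      rw [this]
      exact Subgroup.mem_zpowers c
  haveI hnorm : (Subgroup.zpowers c).Normal := by
    apply normal_of_conj_gens _ _ hS
    intro s hs w hw
    obtain ⟨k, rfl⟩ := Subgroup.mem_zpowers_iff.mp hw
    rw [← conj_zpow]
    exact Subgroup.zpow_mem _ (hconjc s hs) k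
  have hyxc : ⁅y, x⁆ = c := by rw [commutatorElement_def, hc]
  have hle : commutator Γ ≤ Subgroup.zpowers c := by
    apply commutator_le_of_generators (Subgroup.zpowers c) _ hS
    intro s hs u hu
    rcases hs with hs | hs
    · rcases hu with hu | hu
      · rcases hs with rfl | hs
        · rcases hu with rfl | hu
          · rw [commutatorElement_self]; exact Subgroup.one_mem _
          · rw [Set.mem_singleton_iff] at hu; subst hu
            rw [← commutatorElement_inv, hyxc]
            exact Subgroup.inv_mem _ (Subgroup.mem_zpowers c)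
        · rw [Set.mem_singleton_iff] at hs; subst hs
          rcases hu with rfl | hu
          · rw [hyxc]; exact Subgroup.mem_zpowers c
          · rw [Set.mem_singleton_iff] at hu; subst hu
            rw [commutatorElement_self]; exact Subgroup.one_mem _
      · have : ⁅s, u⁆ = 1 := by
          rw [commutatorElement_eq_one_iff_mul_comm]
          exact (hkc u hu s).eq
        rw [this]; exact Subgroup.one_mem _
    · have : ⁅s, u⁆ = 1 := by
        rw [commutatorElement_eq_one_iff_mul_comm]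
        exact (hkc s hs u).eq.symm
      rw [this]; exact Subgroup.one_mem _
  refine ⟨c, ?_, hm, ht, hN, ?_⟩
  · rw [hσc, Nat.add_sub_cancel]
  · intro z hz
    have hz' : z ∈ Subgroup.zpowers c := hle (hcomm hz)
    rw [← mem_powers_iff_mem_zpowers] at hz'
    obtain ⟨i, hi⟩ := hz'
    exact ⟨i, hi.symm⟩

end analysis

end Cfsg.Agent.Lib.Helper7.Beyl
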