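import Mathlib

set_option autoImplicit false

/-! Arithmetic of the parameters in Beyl's theorem on the multiplier of a metacyclic group. -/

namespace Cfsg.Agent.Lib.Helper7.Beyl

open Finset

/-- the basic arithmetic facts -/
theorem arith (m n r l : ℕ) (hm : 0 < m) (hr : 0 < r) (hrn : r ^ n ≡ 1 [MOD m]) :
    ∃ d e h r' : ℕ, d = Nat.gcd m (r - 1) ∧
      h = d * Nat.gcd m (∑ i ∈ range n, r ^ i) / m ∧ m = d * e ∧ r = d * r' + 1 ∧
      Nat.Coprime e r' ∧ m * l / d = e * l ∧ e * h = Nat.gcd m (∑ i ∈ range n, r ^ i) ∧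
      h ∣ d ∧ 0 < d ∧ 0 < e ∧ 0 < h := by
  obtain ⟨r₀, rfl⟩ : ∃ r₀, r = r₀ + 1 := ⟨r - 1, by omega⟩
  rw [Nat.add_sub_cancel]
  obtain ⟨N, hN⟩ : ∃ N, N = ∑ i ∈ range n, (r₀ + 1) ^ i := ⟨_, rfl⟩
  rw [← hN]
  have hgeom : N * r₀ + 1 = (r₀ + 1) ^ n := by rw [hN]; exact geom_sum_mul_add r₀ n
  have hdvd : m ∣ N * r₀ := by
    have h1 : 1 ≡ (r₀ + 1) ^ n [MOD m] := hrn.symm
    have h2 := (Nat.modEq_iff_dvd' (Nat.one_le_pow _ _ (Nat.succ_pos r₀))).mp h1
    rw [← hgeom, Nat.add_sub_cancel] at h2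
    exact h2
  obtain ⟨d, hd⟩ : ∃ d, d = Nat.gcd m r₀ := ⟨_, rfl⟩
  have hd0 : 0 < d := by rw [hd]; exact Nat.gcd_pos_of_pos_left _ hm
  obtain ⟨e, he⟩ : d ∣ m := by rw [hd]; exact Nat.gcd_dvd_left _ _
  obtain ⟨r', hr'⟩ : d ∣ r₀ := by rw [hd]; exact Nat.gcd_dvd_right _ _
  have hcop : Nat.Coprime e r' := by
    have h1 := Nat.coprime_div_gcd_div_gcd (m := m) (n := r₀) (by rw [← hd]; exact hd0)
    rw [← hd] at h1
    have h2 : m / d = e := by
      rw [he]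
      exact Nat.mul_div_cancel_left _ hd0
    have h3 : r₀ / d = r' := by
      rw [hr']
      exact Nat.mul_div_cancel_left _ hd0
    rw [h2, h3] at h1
    exact h1
  have he0 : 0 < e := by
    rcases Nat.eq_zero_or_pos e with h | h
    · rw [h, mul_zero] at he; omega
    · exact h
  -- `e ∣ N`
  have heN : e ∣ N := by
    have h1 : d * e ∣ d * (N * r') := by
      have : d * (N * r') = N * r₀ := by
        rw [hr']
        ring
      rw [this, ← he]
      exact hdvd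
    have h2 : e ∣ N * r' := (Nat.mul_dvd_mul_iff_left hd0).mp h1
    exact hcop.dvd_of_dvd_mul_right h2
  have heG : e ∣ Nat.gcd m N := Nat.dvd_gcd ⟨d, by rw [mul_comm]; exact he⟩ heN
  obtain ⟨h, hh⟩ := heG
  have hG0 : 0 < Nat.gcd m N := Nat.gcd_pos_of_pos_left _ hm
  have hh0 : 0 < h := by
    rcases Nat.eq_zero_or_pos h with h' | h'
    · rw [h', mul_zero] at hh; omega
    · exact h'
  have hdiv : d * Nat.gcd m N / m = h := by
    rw [hh]
    have : d * (e * h) = m * h := by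
      rw [he]
      ring
    rw [this]
    exact Nat.mul_div_cancel_left _ hm
  have hhd : h ∣ d := by
    obtain ⟨q, hq⟩ : Nat.gcd m N ∣ m := Nat.gcd_dvd_left _ _
    refine ⟨q, ?_⟩
    have h1 : e * d = e * (h * q) := by
      have : e * (h * q) = (e * h) * q := by ring
      rw [this, ← hh, ← hq, mul_comm]
      exact he.symm
    exact Nat.eq_of_mul_eq_mul_left he0 h1
  refine ⟨d, e, h, r', hd, hdiv.symm, he, ?_, hcop, ?_, hh.symm, hhd, hd0, he0, hh0⟩
  · rw [← hr']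
  · rw [he, mul_assoc]
    exact Nat.mul_div_cancel_left _ hd0

/-- a lift of a residue coprime to `e` to one coprime to `e * g` -/
theorem exists_lift_coprime (e g r' : ℕ) (he : 0 < e) (hg : 0 < g) (hcop : Nat.Coprime e r') :
    ∃ ρ : ℕ, ρ ≡ r' [MOD e] ∧ Nat.Coprime ρ (e * g) := by
  haveI : NeZero (e * g) := ⟨(Nat.mul_pos he hg).ne'⟩
  obtain ⟨u, hu⟩ := ZMod.unitsMap_surjective (Dvd.intro g rfl : e ∣ e * g)
    (ZMod.unitOfCoprime r' hcop.symm)
  refine ⟨(u : ZMod (e * g)).val, ?_, ZMod.val_coe_unit_coprime u⟩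
  have h1 := congrArg (fun v : (ZMod e)ˣ => (v : ZMod e)) hu
  simp only [ZMod.unitsMap_val, ZMod.coe_unitOfCoprime] at h1
  rw [← ZMod.natCast_eq_natCast_iff, ← h1, ZMod.natCast_val]

/-- arithmetic for the covering group -/
theorem cover_arith (m n r l d e h r' g : ℕ) (hm : m = d * e) (hr : r = d * r' + 1)
    (hcop : Nat.Coprime e r') (heh : e * h = Nat.gcd m (∑ i ∈ range n, r ^ i)) (hhd : h ∣ d)
    (he0 : 0 < e) (hg0 : 0 < g) (hgl : g ∣ l) (hgh : g ∣ h) :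
    ∃ R ρ : ℕ, R = ρ * d + 1 ∧ R ≡ r [MOD m] ∧ R ^ n ≡ 1 [MOD m * g] ∧
      (e * l) * R ≡ e * l [MOD m * g] ∧ (∃ k : ℕ, ρ * d * k ≡ d [MOD m * g]) ∧
      m * g ∣ m * (ρ * d) := by
  obtain ⟨ρ, hρ1, hρ2⟩ := exists_lift_coprime e g r' he0 hg0 hcop
  have hmg : m * g = (e * g) * d := by rw [hm]; ring
  have hegG : e * g ∣ Nat.gcd m (∑ i ∈ range n, r ^ i) := by
    rw [← heh]
    exact Nat.mul_dvd_mul_left e hgh
  have hegm : e * g ∣ m := hegG.trans (Nat.gcd_dvd_left _ _)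
  have hegN : e * g ∣ ∑ i ∈ range n, r ^ i := hegG.trans (Nat.gcd_dvd_right _ _)
  have hRr : ρ * d + 1 ≡ r [MOD m] := by
    rw [hr]
    apply Nat.ModEq.add_right
    have := Nat.ModEq.mul_right' d hρ1
    rw [hm, mul_comm d e, mul_comm d r']
    exact this
  refine ⟨ρ * d + 1, ρ, rfl, hRr, ?_, ?_, ?_, ?_⟩
  · -- `R ^ n ≡ 1`
    have hgeom := geom_sum_mul_add (ρ * d) n
    rw [← hgeom]
    have h1 : e * g ∣ ∑ i ∈ range n, (ρ * d + 1) ^ i := by
      haveI : NeZero (e * g) := ⟨(Nat.mul_pos he0 hg0).ne'⟩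
      rw [← ZMod.natCast_eq_zero_iff]
      have h2 : ((ρ * d + 1 : ℕ) : ZMod (e * g)) = ((r : ℕ) : ZMod (e * g)) := by
        rw [ZMod.natCast_eq_natCast_iff]
        exact hRr.of_dvd hegm
      have h3 : ((∑ i ∈ range n, r ^ i : ℕ) : ZMod (e * g)) = 0 :=
        (ZMod.natCast_eq_zero_iff _ _).mpr hegN
      rw [Nat.cast_sum] at h3 ⊢
      rw [← h3]
      apply Finset.sum_congr rfl
      intro i _
      rw [Nat.cast_pow, Nat.cast_pow, h2]
    have h4 : m * g ∣ (∑ i ∈ range n, (ρ * d + 1) ^ i) * (ρ * d) := by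
      rw [hmg]
      obtain ⟨q, hq⟩ := h1
      rw [hq]
      exact ⟨q * ρ, by ring⟩
    have h5 : (∑ i ∈ range n, (ρ * d + 1) ^ i) * (ρ * d) ≡ 0 [MOD m * g] :=
      (Nat.modEq_zero_iff_dvd).mpr h4
    have h6 := Nat.ModEq.add_right 1 h5
    rw [zero_add] at h6
    exact h6
  · -- `t R ≡ t`
    have h1 : e * l * (ρ * d + 1) = e * l + (m * g) * ((l / g) * ρ) := by
      obtain ⟨q, hq⟩ := hgl
      rw [hq, Nat.mul_div_cancel_left _ hg0, hm]
      ring
    rw [h1]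
    have : e * l + m * g * (l / g * ρ) ≡ e * l + 0 [MOD m * g] := by
      apply Nat.ModEq.add_left
      exact (Nat.modEq_zero_iff_dvd).mpr ⟨_, rfl⟩
    rw [add_zero] at this
    exact this
  · -- Bezout
    rcases Nat.lt_or_ge 1 (e * g) with hlt | hge
    · obtain ⟨k, _, hk⟩ := Nat.exists_mul_mod_eq_one_of_coprime hρ2 hlt
      refine ⟨k, ?_⟩
      have h1 : ρ * k ≡ 1 [MOD e * g] := by
        unfold Nat.ModEq
        rw [hk, Nat.mod_eq_of_lt hlt]
      have h2 := Nat.ModEq.mul_right' d h1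
      rw [one_mul, ← hmg] at h2
      have : ρ * d * k = ρ * k * d := by ring
      rw [this]
      exact h2
    · have h1 : e * g = 1 := by
        have := Nat.mul_pos he0 hg0
        omega
      refine ⟨0, ?_⟩
      rw [hmg, h1, one_mul, mul_zero]
      exact ((Nat.modEq_zero_iff_dvd).mpr (dvd_refl d)).symm
  · -- centrality
    obtain ⟨q, hq⟩ := hgh.trans hhd
    rw [hq]
    exact ⟨ρ * q, by ring⟩

end Cfsg.Agent.Lib.Helper7.Beyl
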