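import Mathlib
import Cfsg.Agent.Lib.Helper7.Beyl3
import Cfsg.Prelude.Def_KGroupFacts

set_option autoImplicit false

/-! The covering group of a metacyclic group, as another metacyclic group. -/

namespace Cfsg.Agent.Lib.Helper7.Beyl

open scoped commutatorElement

theorem nonempty_mulEquiv_zmod {K : Type*} [Group K] (k : K)
    (hk : ∀ x : K, x ∈ Subgroup.zpowers k) (g : ℕ) (hg : orderOf k = g) :
    Nonempty (K ≃* Multiplicative (ZMod g)) := by
  subst hg
  have hc : IsCyclic K := by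
    rw [isCyclic_iff_exists_zpowers_eq_top]
    exact ⟨k, by rw [eq_top_iff]; intro x _; exact hk x⟩
  have hcard := orderOf_eq_card_of_forall_mem_zpowers hk
  rw [hcard]
  exact ⟨(zmodCyclicMulEquiv hc).symm⟩

theorem pow_eq_pow_of_modEq {Γ : Type*} [Group Γ] (a : Γ) (M : ℕ) (h1 : a ^ M = 1) {i j : ℕ}
    (h : i ≡ j [MOD M]) : a ^ i = a ^ j := by
  rw [pow_mod_of_pow_eq_one a M h1 i, pow_mod_of_pow_eq_one a M h1 j]
  congr 1

theorem cover_isStem (m n r t g R ρ d e : ℕ) (hm : 0 < m) (hn : 0 < n) (hg : 0 < g)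
    (hrn : r ^ n ≡ 1 [MOD m]) (htr : t * r ≡ t [MOD m])
    (hR : R = ρ * d + 1) (hRr : R ≡ r [MOD m]) (hRn : R ^ n ≡ 1 [MOD m * g])
    (htR : t * R ≡ t [MOD m * g]) (hbez : ∃ k : ℕ, ρ * d * k ≡ d [MOD m * g])
    (hcen : m * g ∣ m * (ρ * d)) (hde : m = d * e) :
    ∃ σ : MG (m * g) n R t →* MG m n r t, Cfsg.IsStemExtension σ ∧
      Nonempty (σ.ker ≃* Multiplicative (ZMod g)) := by
  have hMg : 0 < m * g := Nat.mul_pos hm hg
  obtain ⟨α, hα⟩ : ∃ α, α = ga (m * g) n R t := ⟨_, rfl⟩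
  obtain ⟨β, hβ⟩ : ∃ β, β = gb (m * g) n R t := ⟨_, rfl⟩
  obtain ⟨a, ha⟩ : ∃ a, a = ga m n r t := ⟨_, rfl⟩
  obtain ⟨b, hb⟩ : ∃ b, b = gb m n r t := ⟨_, rfl⟩
  have hα1 : α ^ (m * g) = 1 := by rw [hα]; exact ga_pow _ _ _ _
  have hα2 : β ^ n = α ^ t := by rw [hα, hβ]; exact gb_pow _ _ _ _
  have hα3 : β * α * β⁻¹ = α ^ R := by rw [hα, hβ]; exact gb_conj _ _ _ _
  have hαgen : Subgroup.closure {α, β} = ⊤ := by rw [hα, hβ]; exact closure_gens _ _ _ _
  have ha1 : a ^ m = 1 := by rw [ha]; exact ga_pow _ _ _ _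
  have ha2 : b ^ n = a ^ t := by rw [ha, hb]; exact gb_pow _ _ _ _
  have ha3 : b * a * b⁻¹ = a ^ r := by rw [ha, hb]; exact gb_conj _ _ _ _
  have hagen : Subgroup.closure {a, b} = ⊤ := by rw [ha, hb]; exact closure_gens _ _ _ _
  obtain ⟨σ, hσa, hσb⟩ := exists_hom (m * g) n R t a b (by rw [pow_mul, ha1, one_pow]) ha2
    (by rw [ha3]; exact (pow_eq_pow_of_modEq a m ha1 hRr).symm)
  rw [← hα] at hσa
  rw [← hβ] at hσb
  -- the kernel
  have hαm_ker : α ^ m ∈ σ.ker := by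
    rw [MonoidHom.mem_ker, map_pow, hσa, ha1]
  have hker : ∀ x ∈ σ.ker, ∃ k : ℕ, x = (α ^ m) ^ k := by
    intro x hx
    obtain ⟨i, j, rfl⟩ := normal_form α β (m * g) n R t hMg hn hαgen hα1 hα2 hα3 x
    rw [MonoidHom.mem_ker, map_mul, map_pow, map_pow, hσa, hσb] at hx
    have hnj : n ∣ j := by
      rw [ha, hb] at hx
      exact dvd_of_pow_mul_pow_eq_one m n r t i j hx
    obtain ⟨q, rfl⟩ := hnj
    rw [pow_mul, ha2, ← pow_mul, ← pow_add] at hx
    rw [ha] at hx
    obtain ⟨k, hk⟩ := (ga_pow_eq_one_iff m n r t hn hrn htr _).mp hx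
    refine ⟨k, ?_⟩
    rw [pow_mul β, hα2, ← pow_mul, ← pow_add, hk, pow_mul]
  -- centrality
  have hαm_cen : α ^ m ∈ Subgroup.center (MG (m * g) n R t) := by
    have hle : Subgroup.closure {α, β} ≤ Subgroup.centralizer {α ^ m} := by
      rw [Subgroup.closure_le]
      intro s hs
      rw [SetLike.mem_coe, Subgroup.mem_centralizer_iff]
      intro h hh
      rw [Set.mem_singleton_iff] at hh
      subst hh
      rcases hs with hs | hs
      · rw [hs, ← pow_succ, ← pow_succ']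
      · rw [Set.mem_singleton_iff] at hs
        rw [hs, conj_pow_gen α β R hα3]
        congr 1
        apply pow_eq_pow_of_modEq α (m * g) hα1
        have h1 : R * m = m + m * (ρ * d) := by rw [hR]; ring
        rw [h1]
        have h2 : m + m * (ρ * d) ≡ m + 0 [MOD m * g] :=
          Nat.ModEq.add_left _ ((Nat.modEq_zero_iff_dvd).mpr hcen)
        rw [add_zero] at h2
        exact h2.symm
    rw [Subgroup.mem_center_iff]
    intro x
    have hx : x ∈ Subgroup.centralizer {α ^ m} := hle (by rw [hαgen]; exact Subgroup.mem_top x)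
    rw [Subgroup.mem_centralizer_iff] at hx
    exact (hx _ rfl).symm
  -- commutator
  have hαm_comm : α ^ m ∈ commutator (MG (m * g) n R t) := by
    have h1 : ⁅β, α⁆ = α ^ (ρ * d) := by
      have h0 : α ^ R = α ^ (ρ * d) * α := by
        rw [← pow_succ]
        exact congrArg (fun k => α ^ k) hR
      rw [commutatorElement_def, hα3, h0]
      group
    have h2 : α ^ (ρ * d) ∈ commutator (MG (m * g) n R t) := by
      rw [← h1]
      exact Subgroup.commutator_mem_commutator (Subgroup.mem_top _) (Subgroup.mem_top _)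
    obtain ⟨k, hk⟩ := hbez
    have h3 : α ^ d ∈ commutator (MG (m * g) n R t) := by
      rw [← pow_eq_pow_of_modEq α (m * g) hα1 hk, pow_mul]
      exact Subgroup.pow_mem _ h2 k
    have h4 : α ^ m = (α ^ d) ^ e := by
      rw [← pow_mul]
      exact congrArg (fun k => α ^ k) hde
    rw [h4]
    exact Subgroup.pow_mem _ h3 e
  have horder : orderOf (α ^ m) = g := by
    have h1 : orderOf α = m * g := by rw [hα]; exact orderOf_ga (m * g) n R t hn hRn htR
    rw [orderOf_pow_of_dvd hm.ne' (by rw [h1]; exact Dvd.intro g rfl), h1,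
      Nat.mul_div_cancel_left _ hm]
  refine ⟨σ, ⟨?_, ?_, ?_⟩, ?_⟩
  · rw [← MonoidHom.range_eq_top, eq_top_iff, ← hagen, Subgroup.closure_le]
    intro s hs
    rcases hs with rfl | hs
    · exact ⟨α, hσa⟩
    · rw [Set.mem_singleton_iff] at hs
      subst hs
      exact ⟨β, hσb⟩
  · intro x hx
    obtain ⟨k, rfl⟩ := hker x hx
    exact Subgroup.pow_mem _ hαm_cen k
  · intro x hx
    obtain ⟨k, rfl⟩ := hker x hx
    exact Subgroup.pow_mem _ hαm_comm k
  · apply nonempty_mulEquiv_zmod (⟨α ^ m, hαm_ker⟩ : σ.ker)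
    · intro x
      obtain ⟨k, hk⟩ := hker x.1 x.2
      rw [Subgroup.mem_zpowers_iff]
      refine ⟨(k : ℤ), ?_⟩
      apply Subtype.ext
      rw [zpow_natCast, Subgroup.coe_pow, hk]
    · rw [Subgroup.orderOf_mk]
      exact horder

end Cfsg.Agent.Lib.Helper7.Beyl
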