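import Mathlib
import Cfsg.Agent.Lib.Helper1.MatCode1

/-!
# Coded `48 × 48` matrices over `ZMod 2` (bit matrices)

A natural number codes the matrix whose entry `(i, j)` is bit `48 * i + j`.  The product is computed
row by row with `xor`; the sum is `xor`.
-/

set_option autoImplicit false

namespace Cfsg.Agent.Lib.Helper7.Bit48

open Cfsg.Agent.Lib.Helper1.MatCode

/-- `2 ^ 48` -/
def B48 : ℕ := 281474976710656

theorem B48_eq : B48 = 2 ^ 48 := by decide

theorem one_lt_B48 : 1 < B48 := by decide

/-- row `i` of the coded matrix, a number below `2 ^ 48` -/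
def row (a i : ℕ) : ℕ := a / B48 ^ i % B48

/-- `xor` of the rows `j < n` of `b` for which bit `j` of `r` is set -/
def mulRow (b r : ℕ) : ℕ → ℕ
  | 0 => 0
  | j + 1 => bif r.testBit j then mulRow b r j ^^^ row b j else mulRow b r j

/-- coded product -/
def mu (a b : ℕ) : ℕ := sumTo 48 (fun i => mulRow b (row a i) 48 * B48 ^ i)

/-- coded sum -/
def add (a b : ℕ) : ℕ := a ^^^ b

/-- the matrix coded by a number -/
def dec (a : ℕ) : Matrix (Fin 48) (Fin 48) (ZMod 2) :=
  fun i j => bif a.testBit (48 * (i : ℕ) + (j : ℕ)) then 1 else 0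

/-- canonical codes -/
def Canon (a : ℕ) : Prop := a < B48 ^ 48

theorem row_lt (a i : ℕ) : row a i < B48 := Nat.mod_lt _ (by decide)

theorem testBit_row (a i k : ℕ) (hk : k < 48) : (row a i).testBit k = a.testBit (48 * i + k) := by
  unfold row
  rw [B48_eq, ← pow_mul, Nat.testBit_mod_two_pow, Nat.testBit_div_two_pow]
  simp [hk, Nat.add_comm]

theorem mulRow_lt (b r : ℕ) (n : ℕ) : mulRow b r n < 2 ^ 48 := by
  induction n with
  | zero => simp [mulRow]
  | succ n ih =>
    unfold mulRow
    cases r.testBit n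
    · simpa using ih
    · simp only [cond_true]
      exact Nat.xor_lt_two_pow ih (by rw [← B48_eq]; exact row_lt b n)

/-- a bit as an element of `ZMod 2` -/
def b2z (x : Bool) : ZMod 2 := bif x then 1 else 0

theorem b2z_xor (x y : Bool) : b2z (x ^^ y) = b2z x + b2z y := by
  cases x <;> cases y <;> decide

theorem b2z_and (x y : Bool) : b2z (x && y) = b2z x * b2z y := by
  cases x <;> cases y <;> decide

theorem dec_apply (a : ℕ) (i j : Fin 48) : dec a i j = b2z (a.testBit (48 * (i : ℕ) + (j : ℕ))) := rfl

theorem b2z_testBit_mulRow (b r : ℕ) (n k : ℕ) (hk : k < 48) :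
    b2z ((mulRow b r n).testBit k) =
      ∑ j ∈ Finset.range n, b2z (r.testBit j) * b2z (b.testBit (48 * j + k)) := by
  induction n with
  | zero => simp [mulRow, b2z]
  | succ n ih =>
    rw [Finset.sum_range_succ, ← ih]
    show b2z ((bif r.testBit n then mulRow b r n ^^^ row b n else mulRow b r n).testBit k) = _
    cases h : r.testBit n
    · simp [b2z]
    · simp only [cond_true, Nat.testBit_xor, b2z_xor, testBit_row b n k hk]
      simp [b2z]

theorem testBit_mu (a b i k : ℕ) (hi : i < 48) (hk : k < 48) :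
    (mu a b).testBit (48 * i + k) = (mulRow b (row a i) 48).testBit k := by
  have h1 : row (mu a b) i = mulRow b (row a i) 48 := by
    unfold row mu
    rw [sumTo_eq]
    have := dig_sum B48 one_lt_B48 (fun i => mulRow b (row a i) 48)
      (fun m => by rw [B48_eq]; exact mulRow_lt _ _ _) 48 i hi
    unfold dig at this
    exact this
  rw [← testBit_row _ _ _ hk, h1]

theorem dec_mu (a b : ℕ) : dec (mu a b) = dec a * dec b := by
  ext i k
  rw [Matrix.mul_apply, dec_apply, testBit_mu a b i k i.2 k.2, b2z_testBit_mulRow _ _ _ _ k.2,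
    Finset.sum_range]
  refine Finset.sum_congr rfl (fun j _ => ?_)
  rw [dec_apply, dec_apply, testBit_row a i j j.2]

theorem canon_mu (a b : ℕ) : Canon (mu a b) := by
  unfold Canon mu
  rw [sumTo_eq]
  exact sum_lt_pow B48 one_lt_B48 _ (fun m => by rw [B48_eq]; exact mulRow_lt _ _ _) 48

theorem dec_add (a b : ℕ) : dec (add a b) = dec a + dec b := by
  ext i k
  simp only [Matrix.add_apply, dec_apply, add, Nat.testBit_xor, b2z_xor]

theorem canon_add {a b : ℕ} (ha : Canon a) (hb : Canon b) : Canon (add a b) := by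
  unfold Canon at *
  unfold add
  rw [B48_eq, ← pow_mul] at *
  generalize 48 * 48 = n at *
  exact Nat.xor_lt_two_pow ha hb

theorem dec_zero : dec 0 = 0 := by
  ext i k
  simp [dec]

theorem b2z_injective : Function.Injective b2z := by
  intro x y h
  cases x <;> cases y <;> first | rfl | (exact absurd h (by decide))

theorem eq_of_dec_eq {a b : ℕ} (ha : Canon a) (hb : Canon b) (h : dec a = dec b) : a = b := by
  unfold Canon at ha hb
  rw [B48_eq, ← pow_mul] at ha hb
  apply Nat.eq_of_testBit_eq
  intro m
  by_cases hm : m < 48 * 48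
  · have h1 := congrFun (congrFun h ⟨m / 48, by omega⟩) ⟨m % 48, Nat.mod_lt _ (by norm_num)⟩
    rw [dec_apply, dec_apply] at h1
    have h2 : 48 * (m / 48) + m % 48 = m := Nat.div_add_mod m 48
    simp only [h2] at h1
    exact b2z_injective h1
  · have hm' : 48 * 48 ≤ m := by omega
    generalize 48 * 48 = n at ha hb hm'
    rw [Nat.testBit_lt_two_pow (lt_of_lt_of_le ha (Nat.pow_le_pow_right (by decide) hm')),
      Nat.testBit_lt_two_pow (lt_of_lt_of_le hb (Nat.pow_le_pow_right (by decide) hm'))]

theorem dec_ne_of_ne {a b : ℕ} (ha : Canon a) (hb : Canon b) (h : a ≠ b) : dec a ≠ dec b :=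
  fun e => h (eq_of_dec_eq ha hb e)

/-- boolean test for being a canonical code -/
def canonB (a : ℕ) : Bool := decide (a < B48 ^ 48)

theorem canon_of_canonB {a : ℕ} (h : canonB a = true) : Canon a := by
  simpa [canonB, Canon] using h

theorem canon_of_all {L : List ℕ} (h : L.all canonB = true) : ∀ c ∈ L, Canon c := by
  intro c hc
  rw [List.all_eq_true] at h
  exact canon_of_canonB (h c hc)

theorem hmu (a b : ℕ) (_ : Canon b) : dec (mu a b) = dec a * dec b := dec_mu a b

end Cfsg.Agent.Lib.Helper7.Bit48
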