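import Cfsg.Agent.Lib.Helper7.Bit48

/-!
# A kernel-friendly product of coded `48 × 48` bit matrices

The product `muU` is written out with the raw operations on natural numbers (which the kernel
evaluates on literals directly) and without recursion; it agrees with `mu`.
-/

set_option autoImplicit false

namespace Cfsg.Agent.Lib.Helper7.Bit48

open Cfsg.Agent.Lib.Helper1.MatCode

/-- row `i` of the coded matrix, with raw operations -/
def rowR (a i : ℕ) : ℕ := Nat.land (Nat.shiftRight a (Nat.mul 48 i)) 281474976710655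

theorem rowR_eq (a i : ℕ) : rowR a i = row a i := by
  unfold rowR row
  show (a >>> (48 * i)) &&& 281474976710655 = a / B48 ^ i % B48
  have h : (281474976710655 : ℕ) = 2 ^ 48 - 1 := by norm_num
  rw [h, Nat.and_two_pow_sub_one_eq_mod, Nat.shiftRight_eq_div_pow, B48_eq, ← pow_mul]

/-- recursive form of the fast row product -/
def mulRowM (b r : ℕ) : ℕ → ℕ
  | 0 => 0
  | j + 1 => Nat.xor (mulRowM b r j) (Nat.mul (Nat.land (Nat.shiftRight r j) 1) (rowR b j))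

theorem bit_mul (r j x : ℕ) :
    Nat.mul (Nat.land (Nat.shiftRight r j) 1) x = bif r.testBit j then x else 0 := by
  show ((r >>> j) &&& 1) * x = _
  rw [Nat.and_one_is_mod, Nat.shiftRight_eq_div_pow, Nat.testBit_eq_decide_div_mod_eq]
  rcases Nat.mod_two_eq_zero_or_one (r / 2 ^ j) with h | h
  · simp [h]
  · simp [h]

theorem mulRowM_eq (b r n : ℕ) : mulRowM b r n = mulRow b r n := by
  induction n with
  | zero => rfl
  | succ n ih =>
    show Nat.xor (mulRowM b r n) (Nat.mul (Nat.land (Nat.shiftRight r n) 1) (rowR b n)) =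
      bif r.testBit n then mulRow b r n ^^^ row b n else mulRow b r n
    rw [bit_mul, ih, rowR_eq]
    cases r.testBit n
    · show mulRow b r n ^^^ 0 = _
      simp
    · rfl

/-- the fast row product, written out -/
def mulRowU (b r : ℕ) : ℕ :=
  (Nat.xor (Nat.xor (Nat.xor (Nat.xor (Nat.xor (Nat.xor (Nat.xor (Nat.xor (Nat.xor (Nat.xor
    (Nat.xor (Nat.xor (Nat.xor (Nat.xor (Nat.xor (Nat.xor (Nat.xor (Nat.xor (Nat.xor (Nat.xor
    (Nat.xor (Nat.xor (Nat.xor (Nat.xor (Nat.xor (Nat.xor (Nat.xor (Nat.xor (Nat.xor (Nat.xor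
    (Nat.xor (Nat.xor (Nat.xor (Nat.xor (Nat.xor (Nat.xor (Nat.xor (Nat.xor (Nat.xor (Nat.xor
    (Nat.xor (Nat.xor (Nat.xor (Nat.xor (Nat.xor (Nat.xor (Nat.xor (Nat.xor 0 (Nat.mul (Nat.land
    (Nat.shiftRight r 0) 1) (rowR b 0))) (Nat.mul (Nat.land (Nat.shiftRight r 1) 1) (rowR b 1)))
    (Nat.mul (Nat.land (Nat.shiftRight r 2) 1) (rowR b 2))) (Nat.mul (Nat.land (Nat.shiftRight r 3)
    1) (rowR b 3))) (Nat.mul (Nat.land (Nat.shiftRight r 4) 1) (rowR b 4))) (Nat.mul (Nat.land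
    (Nat.shiftRight r 5) 1) (rowR b 5))) (Nat.mul (Nat.land (Nat.shiftRight r 6) 1) (rowR b 6)))
    (Nat.mul (Nat.land (Nat.shiftRight r 7) 1) (rowR b 7))) (Nat.mul (Nat.land (Nat.shiftRight r 8)
    1) (rowR b 8))) (Nat.mul (Nat.land (Nat.shiftRight r 9) 1) (rowR b 9))) (Nat.mul (Nat.land
    (Nat.shiftRight r 10) 1) (rowR b 10))) (Nat.mul (Nat.land (Nat.shiftRight r 11) 1) (rowR b
    11))) (Nat.mul (Nat.land (Nat.shiftRight r 12) 1) (rowR b 12))) (Nat.mul (Nat.land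
    (Nat.shiftRight r 13) 1) (rowR b 13))) (Nat.mul (Nat.land (Nat.shiftRight r 14) 1) (rowR b
    14))) (Nat.mul (Nat.land (Nat.shiftRight r 15) 1) (rowR b 15))) (Nat.mul (Nat.land
    (Nat.shiftRight r 16) 1) (rowR b 16))) (Nat.mul (Nat.land (Nat.shiftRight r 17) 1) (rowR b
    17))) (Nat.mul (Nat.land (Nat.shiftRight r 18) 1) (rowR b 18))) (Nat.mul (Nat.land
    (Nat.shiftRight r 19) 1) (rowR b 19))) (Nat.mul (Nat.land (Nat.shiftRight r 20) 1) (rowR b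
    20))) (Nat.mul (Nat.land (Nat.shiftRight r 21) 1) (rowR b 21))) (Nat.mul (Nat.land
    (Nat.shiftRight r 22) 1) (rowR b 22))) (Nat.mul (Nat.land (Nat.shiftRight r 23) 1) (rowR b
    23))) (Nat.mul (Nat.land (Nat.shiftRight r 24) 1) (rowR b 24))) (Nat.mul (Nat.land
    (Nat.shiftRight r 25) 1) (rowR b 25))) (Nat.mul (Nat.land (Nat.shiftRight r 26) 1) (rowR b
    26))) (Nat.mul (Nat.land (Nat.shiftRight r 27) 1) (rowR b 27))) (Nat.mul (Nat.land
    (Nat.shiftRight r 28) 1) (rowR b 28))) (Nat.mul (Nat.land (Nat.shiftRight r 29) 1) (rowR b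
    29))) (Nat.mul (Nat.land (Nat.shiftRight r 30) 1) (rowR b 30))) (Nat.mul (Nat.land
    (Nat.shiftRight r 31) 1) (rowR b 31))) (Nat.mul (Nat.land (Nat.shiftRight r 32) 1) (rowR b
    32))) (Nat.mul (Nat.land (Nat.shiftRight r 33) 1) (rowR b 33))) (Nat.mul (Nat.land
    (Nat.shiftRight r 34) 1) (rowR b 34))) (Nat.mul (Nat.land (Nat.shiftRight r 35) 1) (rowR b
    35))) (Nat.mul (Nat.land (Nat.shiftRight r 36) 1) (rowR b 36))) (Nat.mul (Nat.land
    (Nat.shiftRight r 37) 1) (rowR b 37))) (Nat.mul (Nat.land (Nat.shiftRight r 38) 1) (rowR b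
    38))) (Nat.mul (Nat.land (Nat.shiftRight r 39) 1) (rowR b 39))) (Nat.mul (Nat.land
    (Nat.shiftRight r 40) 1) (rowR b 40))) (Nat.mul (Nat.land (Nat.shiftRight r 41) 1) (rowR b
    41))) (Nat.mul (Nat.land (Nat.shiftRight r 42) 1) (rowR b 42))) (Nat.mul (Nat.land
    (Nat.shiftRight r 43) 1) (rowR b 43))) (Nat.mul (Nat.land (Nat.shiftRight r 44) 1) (rowR b
    44))) (Nat.mul (Nat.land (Nat.shiftRight r 45) 1) (rowR b 45))) (Nat.mul (Nat.land
    (Nat.shiftRight r 46) 1) (rowR b 46))) (Nat.mul (Nat.land (Nat.shiftRight r 47) 1) (rowR b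
    47)))

theorem mulRowU_eq (b r : ℕ) : mulRowU b r = mulRow b r 48 := by
  rw [← mulRowM_eq]
  rfl

/-- recursive form of the fast product -/
def muM (a b : ℕ) : ℕ → ℕ
  | 0 => 0
  | i + 1 => Nat.add (muM a b i) (Nat.shiftLeft (mulRowU b (rowR a i)) (Nat.mul 48 i))

theorem muM_eq (a b n : ℕ) :
    muM a b n = sumTo n (fun i => mulRow b (row a i) 48 * B48 ^ i) := by
  induction n with
  | zero => rfl
  | succ n ih =>
    show muM a b n + (mulRowU b (rowR a n)) <<< (48 * n) = _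
    rw [sumTo, ih, mulRowU_eq, rowR_eq, Nat.shiftLeft_eq, B48_eq, ← pow_mul]

/-- the fast product, written out -/
def muU (a b : ℕ) : ℕ :=
  (Nat.add (Nat.add (Nat.add (Nat.add (Nat.add (Nat.add (Nat.add (Nat.add (Nat.add (Nat.add
    (Nat.add (Nat.add (Nat.add (Nat.add (Nat.add (Nat.add (Nat.add (Nat.add (Nat.add (Nat.add
    (Nat.add (Nat.add (Nat.add (Nat.add (Nat.add (Nat.add (Nat.add (Nat.add (Nat.add (Nat.add
    (Nat.add (Nat.add (Nat.add (Nat.add (Nat.add (Nat.add (Nat.add (Nat.add (Nat.add (Nat.add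
    (Nat.add (Nat.add (Nat.add (Nat.add (Nat.add (Nat.add (Nat.add (Nat.add 0 (Nat.shiftLeft
    (mulRowU b (rowR a 0)) (Nat.mul 48 0))) (Nat.shiftLeft (mulRowU b (rowR a 1)) (Nat.mul 48 1)))
    (Nat.shiftLeft (mulRowU b (rowR a 2)) (Nat.mul 48 2))) (Nat.shiftLeft (mulRowU b (rowR a 3))
    (Nat.mul 48 3))) (Nat.shiftLeft (mulRowU b (rowR a 4)) (Nat.mul 48 4))) (Nat.shiftLeft (mulRowU
    b (rowR a 5)) (Nat.mul 48 5))) (Nat.shiftLeft (mulRowU b (rowR a 6)) (Nat.mul 48 6)))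
    (Nat.shiftLeft (mulRowU b (rowR a 7)) (Nat.mul 48 7))) (Nat.shiftLeft (mulRowU b (rowR a 8))
    (Nat.mul 48 8))) (Nat.shiftLeft (mulRowU b (rowR a 9)) (Nat.mul 48 9))) (Nat.shiftLeft (mulRowU
    b (rowR a 10)) (Nat.mul 48 10))) (Nat.shiftLeft (mulRowU b (rowR a 11)) (Nat.mul 48 11)))
    (Nat.shiftLeft (mulRowU b (rowR a 12)) (Nat.mul 48 12))) (Nat.shiftLeft (mulRowU b (rowR a 13))
    (Nat.mul 48 13))) (Nat.shiftLeft (mulRowU b (rowR a 14)) (Nat.mul 48 14))) (Nat.shiftLeft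
    (mulRowU b (rowR a 15)) (Nat.mul 48 15))) (Nat.shiftLeft (mulRowU b (rowR a 16)) (Nat.mul 48
    16))) (Nat.shiftLeft (mulRowU b (rowR a 17)) (Nat.mul 48 17))) (Nat.shiftLeft (mulRowU b (rowR
    a 18)) (Nat.mul 48 18))) (Nat.shiftLeft (mulRowU b (rowR a 19)) (Nat.mul 48 19)))
    (Nat.shiftLeft (mulRowU b (rowR a 20)) (Nat.mul 48 20))) (Nat.shiftLeft (mulRowU b (rowR a 21))
    (Nat.mul 48 21))) (Nat.shiftLeft (mulRowU b (rowR a 22)) (Nat.mul 48 22))) (Nat.shiftLeft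
    (mulRowU b (rowR a 23)) (Nat.mul 48 23))) (Nat.shiftLeft (mulRowU b (rowR a 24)) (Nat.mul 48
    24))) (Nat.shiftLeft (mulRowU b (rowR a 25)) (Nat.mul 48 25))) (Nat.shiftLeft (mulRowU b (rowR
    a 26)) (Nat.mul 48 26))) (Nat.shiftLeft (mulRowU b (rowR a 27)) (Nat.mul 48 27)))
    (Nat.shiftLeft (mulRowU b (rowR a 28)) (Nat.mul 48 28))) (Nat.shiftLeft (mulRowU b (rowR a 29))
    (Nat.mul 48 29))) (Nat.shiftLeft (mulRowU b (rowR a 30)) (Nat.mul 48 30))) (Nat.shiftLeft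
    (mulRowU b (rowR a 31)) (Nat.mul 48 31))) (Nat.shiftLeft (mulRowU b (rowR a 32)) (Nat.mul 48
    32))) (Nat.shiftLeft (mulRowU b (rowR a 33)) (Nat.mul 48 33))) (Nat.shiftLeft (mulRowU b (rowR
    a 34)) (Nat.mul 48 34))) (Nat.shiftLeft (mulRowU b (rowR a 35)) (Nat.mul 48 35)))
    (Nat.shiftLeft (mulRowU b (rowR a 36)) (Nat.mul 48 36))) (Nat.shiftLeft (mulRowU b (rowR a 37))
    (Nat.mul 48 37))) (Nat.shiftLeft (mulRowU b (rowR a 38)) (Nat.mul 48 38))) (Nat.shiftLeft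
    (mulRowU b (rowR a 39)) (Nat.mul 48 39))) (Nat.shiftLeft (mulRowU b (rowR a 40)) (Nat.mul 48
    40))) (Nat.shiftLeft (mulRowU b (rowR a 41)) (Nat.mul 48 41))) (Nat.shiftLeft (mulRowU b (rowR
    a 42)) (Nat.mul 48 42))) (Nat.shiftLeft (mulRowU b (rowR a 43)) (Nat.mul 48 43)))
    (Nat.shiftLeft (mulRowU b (rowR a 44)) (Nat.mul 48 44))) (Nat.shiftLeft (mulRowU b (rowR a 45))
    (Nat.mul 48 45))) (Nat.shiftLeft (mulRowU b (rowR a 46)) (Nat.mul 48 46))) (Nat.shiftLeft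
    (mulRowU b (rowR a 47)) (Nat.mul 48 47)))

theorem muU_eq_mu (a b : ℕ) : muU a b = mu a b := by
  unfold mu
  rw [← muM_eq]
  rfl

theorem dec_muU (a b : ℕ) : dec (muU a b) = dec a * dec b := by
  rw [muU_eq_mu, dec_mu]

theorem canon_muU (a b : ℕ) : Canon (muU a b) := by
  rw [muU_eq_mu]
  exact canon_mu a b

theorem hmuU (a b : ℕ) (_ : Canon b) : dec (muU a b) = dec a * dec b := dec_muU a b

end Cfsg.Agent.Lib.Helper7.Bit48
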