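import Mathlib
import Cfsg.Agent.Lib.Helper4.OQ1

set_option autoImplicit false

/-! Blackburn's theorem on odd `p`-groups of rank at most two, part 1: in a `p`-group all of whose
elements of order `p` are central (`p` odd), the `p`-th power map is injective modulo the elements
of order dividing `p`; counting consequences. -/

namespace Cfsg.Agent.Lib.Helper7.Blk

open scoped commutatorElement

universe u

section pc

variable {p : ℕ} [hp : Fact p.Prime]

theorem pc_aux (hp2 : p ≠ 2) (n : ℕ) :
    ∀ (H : Type u) [Group H] [Finite H], Nat.card H = n → IsPGroup p H →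
      (∀ t : H, t ^ p = 1 → t ∈ Subgroup.center H) →
      ∀ x y : H, x ^ p = y ^ p → (x⁻¹ * y) ^ p = 1 := by
  induction n using Nat.strong_induction_on with
  | _ n ih =>
  intro H _ _ hn hH hc x y hxy
  haveI : Group.IsNilpotent H := hH.isNilpotent
  rcases eq_top_or_exists_le_coatom (Subgroup.zpowers y) with htop | ⟨M, hM, hyM⟩
  · have hx : x ∈ Subgroup.zpowers y := by rw [htop]; trivial
    obtain ⟨k, rfl⟩ := Subgroup.mem_zpowers_iff.mp hx
    have hcomm : Commute (y ^ k)⁻¹ y := ((Commute.refl y).zpow_left k).inv_left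
    rw [hcomm.mul_pow, inv_pow, hxy, inv_mul_cancel]
  · haveI hMn : M.Normal :=
      Subgroup.NormalizerCondition.normal_of_coatom M Group.normalizerCondition_of_isNilpotent hM
    have hyM' : y ∈ M := hyM (Subgroup.mem_zpowers y)
    have hy2 : x⁻¹ * y * x ∈ M := by
      have := hMn.conj_mem y hyM' x⁻¹
      simpa using this
    have hlt : Nat.card ↥M < n := by
      rw [← hn]
      apply lt_of_le_of_ne (Subgroup.card_le_card_group M)
      intro h
      exact hM.1 ((Subgroup.card_eq_iff_eq_top M).mp h)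
    have hcM : ∀ t : ↥M, t ^ p = 1 → t ∈ Subgroup.center ↥M := by
      intro t ht
      rw [Subgroup.mem_center_iff]
      intro g
      have h1 : (t : H) ^ p = 1 := by
        have := congrArg Subtype.val ht
        simpa using this
      have h2 := Subgroup.mem_center_iff.mp (hc (t : H) h1) (g : H)
      exact Subtype.ext (by simpa using h2)
    have hpow : (x⁻¹ * y * x) ^ p = y ^ p := by
      have e : x⁻¹ * y * x = x⁻¹ * y * (x⁻¹)⁻¹ := by rw [inv_inv]
      rw [e, conj_pow, ← hxy, inv_inv]
      have : Commute x⁻¹ (x ^ p) := ((Commute.refl x).pow_right p).inv_left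
      rw [this.eq, mul_assoc, inv_mul_cancel, mul_one]
    have h1 := ih _ hlt ↥M rfl (hH.to_subgroup M) hcM ⟨x⁻¹ * y * x, hy2⟩ ⟨y, hyM'⟩
      (Subtype.ext (by simpa using hpow))
    have h2 : ((x⁻¹ * y * x)⁻¹ * y) ^ p = 1 := by
      have := congrArg Subtype.val h1
      simpa using this
    set c := ⁅y, x⁻¹⁆ with hcdef
    have e1 : c = y * ((x⁻¹ * y * x)⁻¹ * y) * y⁻¹ := by
      rw [hcdef, commutatorElement_def]; group
    have hcp : c ^ p = 1 := by
      rw [e1, conj_pow, h2]; group
    have hcc := hc c hcp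
    rw [Cfsg.Agent.Lib.Helper4.OQ.mul_pow_prime_of_comm_central hp2 x⁻¹ y
      (fun g => (Subgroup.mem_center_iff.mp hcc g)) hcp]
    rw [inv_pow, hxy, inv_mul_cancel]

/-- **The `p`-th power map of a `p`-central `p`-group is injective modulo `Ω₁`** (`p` odd). -/
theorem pow_eq_pow (hp2 : p ≠ 2) {H : Type u} [Group H] [Finite H] (hH : IsPGroup p H)
    (hc : ∀ t : H, t ^ p = 1 → t ∈ Subgroup.center H) {x y : H} (hxy : x ^ p = y ^ p) :
    (x⁻¹ * y) ^ p = 1 :=
  pc_aux hp2 (Nat.card H) H rfl hH hc x y hxy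

/-- the number of elements is at most the number of solutions of `t ^ p = 1` times the size of any
set containing all `p`-th powers. -/
theorem card_le_mul_ncard (hp2 : p ≠ 2) {H : Type u} [Group H] [Finite H] (hH : IsPGroup p H)
    (hc : ∀ t : H, t ^ p = 1 → t ∈ Subgroup.center H) (S : Set H) (hS : ∀ u : H, u ^ p ∈ S) :
    Nat.card H ≤ Nat.card {t : H // t ^ p = 1} * S.ncard := by
  classical
  haveI : Fintype H := Fintype.ofFinite H
  have h1 := Finset.card_le_mul_card_image (f := fun u : H => u ^ p) Finset.univ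
    (Nat.card {t : H // t ^ p = 1}) (by
      intro b hb
      obtain ⟨u₀, -, rfl⟩ := Finset.mem_image.mp hb
      rw [Nat.card_eq_fintype_card, Fintype.card_subtype]
      apply Finset.card_le_card_of_injOn (fun u => u₀⁻¹ * u)
      · intro u hu
        have hu' := (Finset.mem_filter.mp hu).2
        simp only [Finset.coe_filter, Finset.mem_univ, true_and, Set.mem_setOf_eq]
        exact pow_eq_pow hp2 hH hc hu'.symm
      · intro a _ b _ hab
        exact mul_left_cancel hab)
  rw [Finset.card_univ, ← Nat.card_eq_fintype_card] at h1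
  refine h1.trans (Nat.mul_le_mul_left _ ?_)
  rw [Set.ncard_eq_toFinset_card']
  apply Finset.card_le_card
  intro b hb
  obtain ⟨u, -, rfl⟩ := Finset.mem_image.mp hb
  exact Set.mem_toFinset.mpr (hS u)

/-- in the extremal case every element of the set is a `p`-th power. -/
theorem exists_pow_eq_of_card (hp2 : p ≠ 2) {H : Type u} [Group H] [Finite H] (hH : IsPGroup p H)
    (hc : ∀ t : H, t ^ p = 1 → t ∈ Subgroup.center H) (S : Set H) (hS : ∀ u : H, u ^ p ∈ S)
    (hcard : Nat.card {t : H // t ^ p = 1} * S.ncard ≤ Nat.card H) :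
    ∀ s ∈ S, ∃ u : H, u ^ p = s := by
  classical
  intro s hs
  by_contra hcon
  push Not at hcon
  have h1 := card_le_mul_ncard hp2 hH hc (S \ {s}) (by
    intro u
    exact ⟨hS u, fun h => hcon u h⟩)
  have h2 : (S \ {s}).ncard < S.ncard := by
    apply Set.ncard_lt_ncard _ (Set.toFinite S)
    exact Set.diff_singleton_ssubset.mpr hs
  have h3 : 0 < Nat.card {t : H // t ^ p = 1} := by
    haveI : Nonempty {t : H // t ^ p = 1} := ⟨⟨1, one_pow p⟩⟩
    exact Nat.card_pos
  have h4 : Nat.card {t : H // t ^ p = 1} * (S \ {s}).ncard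
      < Nat.card {t : H // t ^ p = 1} * S.ncard := Nat.mul_lt_mul_of_pos_left h2 h3
  omega

end pc

end Cfsg.Agent.Lib.Helper7.Blk
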