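import Mathlib
import Cfsg.Agent.Lib.Helper4.HU8
import Cfsg.Agent.Lib.Helper7.Blk1

set_option autoImplicit false
set_option linter.style.haveILetI false

/-! Blackburn's theorem, part 2: Huppert's criterion in the form "the `p`-th powers generate a
subgroup of index at most `p ^ 2`" (all odd `p`), and `p`-central groups with at most `p ^ 2`
solutions of `t ^ p = 1` are metacyclic. -/

namespace Cfsg.Agent.Lib.Helper7.Blk

open scoped commutatorElement
open Cfsg.Agent.Lib.Helper4.OQ Cfsg.Agent.Lib.Helper4.HU Cfsg.Agent.Lib.Lead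

universe u

section hup

variable {p : ℕ} [hp : Fact p.Prime]

/-- the class two endgame under the hypothesis on `p`-th powers. -/
theorem endgame_pow {R : Type u} [Group R] [Finite R] (hp2 : p ≠ 2) (hR : IsPGroup p R)
    (hA : ∀ B : Subgroup R, (∀ x : R, x ^ p ∈ B) → B.index ≤ p ^ 2)
    (z : R) (hzc : z ∈ Subgroup.center R) (hzp : z ^ p = 1)
    (hcomm : commutator R ≤ Subgroup.zpowers z) : Cfsg.IsMetacyclic R := by
  classical
  set φ := powHom hp2 z hzc hzp hcomm with hφ
  have hidx : φ.range.index ≤ p ^ 2 := hA φ.range (fun x => ⟨x, rfl⟩)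
  have hker : Om p R ≤ φ.ker := by
    unfold Om
    rw [Subgroup.closure_le]
    intro g hg
    rw [SetLike.mem_coe, MonoidHom.mem_ker, hφ, powHom_apply]
    exact hg
  have hidx2 : φ.range.index = Nat.card φ.ker := by
    have h1 : Nat.card R = Nat.card φ.ker * Nat.card φ.range := by
      rw [Subgroup.card_eq_card_quotient_mul_card_subgroup φ.ker,
        Nat.card_congr (QuotientGroup.quotientKerEquivRange φ).toEquiv, mul_comm]
    have h2 := φ.range.card_mul_index
    rw [h1] at h2
    have h3 : 0 < Nat.card φ.range := Nat.card_pos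
    have h4 : Nat.card φ.range * φ.range.index = Nat.card φ.range * Nat.card φ.ker := by
      rw [h2, mul_comm]
    exact Nat.eq_of_mul_eq_mul_left h3 h4
  have hW : Nat.card (Om p R) ≤ p ^ 2 :=
    (Subgroup.card_le_of_le hker).trans (hidx2 ▸ hidx)
  exact endgame hp2 hR hW z hzc hzp hcomm

theorem huppert_pow_aux (hp2 : p ≠ 2) (n : ℕ) :
    ∀ (R : Type u) [Group R] [Finite R], Nat.card R = n → IsPGroup p R →
      (∀ B : Subgroup R, (∀ x : R, x ^ p ∈ B) → B.index ≤ p ^ 2) → Cfsg.IsMetacyclic R := by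
  induction n using Nat.strong_induction_on with
  | _ n ih =>
  intro R _ _ hn hR hA
  haveI : Group.IsNilpotent R := hR.isNilpotent
  by_cases hab : commutator R = ⊥
  · exact endgame_pow hp2 hR hA 1 (Subgroup.one_mem _) (one_pow _) (by rw [hab]; exact bot_le)
  · have h1 := inf_center_ne_bot (commutator R) hab
    have h2 : p ∣ Nat.card ↥(commutator R ⊓ Subgroup.center R) := by
      obtain ⟨k, hk⟩ := (IsPGroup.iff_card).mp (hR.to_subgroup (commutator R ⊓ Subgroup.center R))
      rw [hk]
      apply dvd_pow_self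
      intro h0
      rw [h0, pow_zero] at hk
      exact h1 (Subgroup.card_eq_one.mp hk)
    obtain ⟨z, hz⟩ := exists_prime_orderOf_dvd_card' p h2
    set z₀ : R := (z : R) with hz₀
    have hzo : orderOf z₀ = p := by rw [hz₀, Subgroup.orderOf_coe]; exact hz
    have hzc : z₀ ∈ Subgroup.center R := (Subgroup.mem_inf.mp z.2).2
    have hzR : z₀ ∈ commutator R := (Subgroup.mem_inf.mp z.2).1
    have hzp : z₀ ^ p = 1 := by rw [← hzo]; exact pow_orderOf_eq_one z₀
    set N := Subgroup.zpowers z₀ with hN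
    have hNZ : N ≤ Subgroup.center R := by rw [hN, Subgroup.zpowers_le]; exact hzc
    haveI hNn : N.Normal := normal_of_le_center N hNZ
    have hNp : Nat.card N = p := by rw [hN, Nat.card_zpowers, hzo]
    have hQ : ∀ B : Subgroup (R ⧸ N), (∀ x : R ⧸ N, x ^ p ∈ B) → B.index ≤ p ^ 2 := by
      intro B hB
      have h3 := hA (B.comap (QuotientGroup.mk' N)) (by
        intro x
        rw [Subgroup.mem_comap, map_pow]
        exact hB _)
      rwa [Subgroup.index_comap_of_surjective B (QuotientGroup.mk'_surjective N)] at h3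
    have hlt : Nat.card (R ⧸ N) < n := by
      have h4 := card_quotient_mul N
      rw [hNp, hn] at h4
      have h5 : 0 < Nat.card (R ⧸ N) := Nat.card_pos
      have h6 : 1 < p := hp.out.one_lt
      nlinarith
    obtain ⟨Kb, hKbn, hKbc, hKbq⟩ := ih _ hlt (R ⧸ N) rfl (hR.to_quotient N) hQ
    set K : Subgroup R := Kb.comap (QuotientGroup.mk' N) with hK
    haveI hKn : K.Normal := hKbn.comap _
    have hzK : z₀ ∈ K := by
      rw [hK, Subgroup.mem_comap]
      have : (QuotientGroup.mk' N) z₀ = 1 := by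
        rw [QuotientGroup.mk'_apply, QuotientGroup.eq_one_iff]
        exact Subgroup.mem_zpowers z₀
      rw [this]; exact Subgroup.one_mem _
    obtain ⟨⟨kb, hkb⟩, hgen⟩ := hKbc.exists_generator
    obtain ⟨k, rfl⟩ := QuotientGroup.mk'_surjective N kb
    have hk : k ∈ K := hkb
    have hKgen : ∀ x ∈ K, ∃ i j : ℤ, x = k ^ i * z₀ ^ j := by
      intro x hx
      have hx' : (QuotientGroup.mk' N) x ∈ Kb := hx
      obtain ⟨i, hi⟩ := Subgroup.mem_zpowers_iff.mp (hgen ⟨_, hx'⟩)
      have hi' := congrArg Subtype.val hi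
      rw [Subgroup.coe_zpow] at hi'
      simp only at hi'
      have h3 : (k ^ i)⁻¹ * x ∈ N := by
        rw [← QuotientGroup.eq_one_iff, QuotientGroup.mk_mul, QuotientGroup.mk_inv,
          QuotientGroup.mk_zpow]
        rw [QuotientGroup.mk'_apply, QuotientGroup.mk'_apply] at hi'
        rw [hi', inv_mul_cancel]
      obtain ⟨j, hj⟩ := Subgroup.mem_zpowers_iff.mp h3
      refine ⟨i, j, ?_⟩
      rw [hj]; group
    obtain ⟨q, hq⟩ := hKbq.exists_generator
    obtain ⟨q', rfl⟩ := QuotientGroup.mk'_surjective Kb q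
    obtain ⟨r, rfl⟩ := QuotientGroup.mk'_surjective N q'
    have hr : ∀ g : R, ∃ i : ℤ, ∃ x ∈ K, g = r ^ i * x := by
      intro g
      obtain ⟨i, hi⟩ := Subgroup.mem_zpowers_iff.mp
        (hq ((QuotientGroup.mk' Kb) ((QuotientGroup.mk' N) g)))
      refine ⟨i, (r ^ i)⁻¹ * g, ?_, by group⟩
      rw [hK, Subgroup.mem_comap, map_mul, map_inv, map_zpow]
      rw [← QuotientGroup.eq_one_iff, ← QuotientGroup.mk'_apply, map_mul, map_inv, map_zpow, hi,
        inv_mul_cancel]
    rcases cyclic_or_derived_le hR z₀ hzc hzR K hzK k hk hKgen r hr with hcyc | hle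
    · refine ⟨K, hKn, hcyc, ⟨⟨(QuotientGroup.mk' K) r, ?_⟩⟩⟩
      intro y
      obtain ⟨g, rfl⟩ := QuotientGroup.mk'_surjective K y
      obtain ⟨i, x, hx, rfl⟩ := hr g
      refine ⟨i, ?_⟩
      show (QuotientGroup.mk' K) r ^ i = _
      rw [map_mul, map_zpow]
      have : (QuotientGroup.mk' K) x = 1 := by
        rw [QuotientGroup.mk'_apply, QuotientGroup.eq_one_iff]; exact hx
      rw [this, mul_one]
    · exact endgame_pow hp2 hR hA z₀ hzc hzp hle

/-- **Huppert's criterion** (all odd `p`): if every subgroup containing all `p`-th powers has index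
at most `p ^ 2`, the `p`-group is metacyclic. -/
theorem huppert_pow (hp2 : p ≠ 2) {R : Type u} [Group R] [Finite R] (hR : IsPGroup p R)
    (hA : ∀ B : Subgroup R, (∀ x : R, x ^ p ∈ B) → B.index ≤ p ^ 2) : Cfsg.IsMetacyclic R :=
  huppert_pow_aux hp2 (Nat.card R) R rfl hR hA

/-- a `p`-central `p`-group (`p` odd) with at most `p ^ 2` solutions of `t ^ p = 1` is
metacyclic. -/
theorem isMetacyclic_of_pcentral (hp2 : p ≠ 2) {R : Type u} [Group R] [Finite R]
    (hR : IsPGroup p R) (hc : ∀ t : R, t ^ p = 1 → t ∈ Subgroup.center R)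
    (hcard : Nat.card {t : R // t ^ p = 1} ≤ p ^ 2) : Cfsg.IsMetacyclic R := by
  apply huppert_pow hp2 hR
  intro B hB
  have h1 := card_le_mul_ncard hp2 hR hc (B : Set R) hB
  have h2 : (B : Set R).ncard = Nat.card B := by
    rw [← Nat.card_coe_set_eq]; rfl
  rw [h2] at h1
  have h3 := B.card_mul_index
  have h4 : 0 < Nat.card B := Nat.card_pos
  have h5 : Nat.card B * B.index ≤ Nat.card B * p ^ 2 := by
    rw [h3]
    calc Nat.card R ≤ Nat.card {t : R // t ^ p = 1} * Nat.card B := h1
      _ ≤ p ^ 2 * Nat.card B := Nat.mul_le_mul_right _ hcard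
      _ = Nat.card B * p ^ 2 := mul_comm _ _
  exact Nat.le_of_mul_le_mul_left h5 h4

end hup

end Cfsg.Agent.Lib.Helper7.Blk
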