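import Mathlib
import Cfsg.Prelude.Def_CaseTheorems
import Cfsg.Agent.Lib.Helper7.Blk2
import Cfsg.Agent.Lib.Lead.RankThree1
import Cfsg.Agent.Lib.Lead.CentralizerBound
import Cfsg.Agent.Lib.Lead.Nilpotent
import Cfsg.Agent.Lib.Lead.NormalRankTwo
import Cfsg.Agent.Lib.Helper2.Basic

set_option autoImplicit false
set_option linter.style.haveILetI false
set_option linter.unusedSectionVars false

/-! Blackburn's theorem, part 3: the configuration `Z < Y < E` with `E` normal of order `p ^ 3` and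
exponent `p` in a `p`-group of rank at most two (`p` odd); `M = C_G(Y)`; basic facts. -/

namespace Cfsg.Agent.Lib.Helper7.Blk

open scoped commutatorElement
open Cfsg

universe u

variable {G : Type u} [Group G] {p : ℕ} [hp : Fact p.Prime]

/-- the "twisted commutator" `m⁻¹ x⁻¹ m x`. -/
def dl (x m : G) : G := m⁻¹ * x⁻¹ * m * x

theorem conj_eq_mul_dl (x m : G) : x⁻¹ * m * x = m * dl x m := by
  unfold dl; group

/-- the configuration. -/
structure Cfg (p : ℕ) (G : Type u) [Group G] (E Y Z : Subgroup G) (x : G) : Prop where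
  pG : IsPGroup p G
  rk : PRankLE p 2 G
  En : E.Normal
  Yn : Y.Normal
  Zc : Z ≤ Subgroup.center G
  ZY : Z ≤ Y
  YE : Y ≤ E
  cE : Nat.card E = p ^ 3
  cY : Nat.card Y = p ^ 2
  cZ : Nat.card Z = p
  eE : ∀ e ∈ E, e ^ p = 1
  YZ : ∀ y ∈ Y, ∀ g : G, y⁻¹ * g⁻¹ * y * g ∈ Z
  xE : x ∈ E
  xY : x ∉ Y

section exist

variable [Finite G]

theorem exists_cfg (hG : IsPGroup p G) (hrk : PRankLE p 2 G) (E : Subgroup G) [hEn : E.Normal]
    (hE : Nat.card E = p ^ 3) (hEe : ∀ e ∈ E, e ^ p = 1) :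
    ∃ (Y Z : Subgroup G) (x : G), Cfg p G E Y Z x := by
  classical
  have hp1 := hp.out.one_lt
  haveI : Group.IsNilpotent G := hG.isNilpotent
  have hEbot : (⊥ : Subgroup G) < E := by
    rw [bot_lt_iff_ne_bot]
    intro h
    rw [h, Subgroup.card_bot] at hE
    have : 1 < p ^ 3 := Nat.one_lt_pow (by norm_num) hp1
    omega
  obtain ⟨Z, -, hZn, -, hZE, hZidx, -, -, -⟩ :=
    Cfsg.Agent.Lib.Lead.exists_normal_relIndex_p_le hG ⊥ E hEbot
  haveI := hZn
  have hZcard : Nat.card Z = p := by rw [← Subgroup.relIndex_bot_left]; exact hZidx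
  have hZne : Z ≠ ⊥ := by
    intro h
    rw [h, Subgroup.card_bot] at hZcard
    omega
  have hZcen : Z ≤ Subgroup.center G := by
    have h1 := Cfsg.Agent.Lib.Lead.inf_center_ne_bot Z hZne
    have h2 : Z ⊓ Subgroup.center G = Z := by
      apply Subgroup.eq_of_le_of_card_ge inf_le_left
      have h3 : Nat.card ↥(Z ⊓ Subgroup.center G) ∣ p := by
        rw [← hZcard]; exact Subgroup.card_dvd_of_le inf_le_left
      rcases (Nat.dvd_prime hp.out).mp h3 with h4 | h4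
      · exact absurd (Subgroup.card_eq_one.mp h4) h1
      · rw [hZcard, h4]
    rw [← h2]; exact inf_le_right
  have hZltE : Z < E := by
    refine lt_of_le_of_ne hZE ?_
    intro h
    rw [h, hE] at hZcard
    have : p ^ 3 = p ^ 1 := by rw [pow_one]; exact hZcard
    have := Nat.pow_right_injective hp.out.two_le this
    omega
  obtain ⟨Y, e', hYn, hZY, hYE, hYidx, he'Y, he'Z, he'⟩ :=
    Cfsg.Agent.Lib.Lead.exists_normal_relIndex_p_le hG Z E hZltE
  haveI := hYn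
  have hYcard : Nat.card Y = p ^ 2 := by
    have h1 := Subgroup.relIndex_mul_relIndex ⊥ Z Y bot_le hZY
    rw [Subgroup.relIndex_bot_left, Subgroup.relIndex_bot_left, hZcard, hYidx] at h1
    rw [← h1, sq]
  -- `[Y, G] ≤ Z`
  have hZmem : ∀ z ∈ Z, ∀ g : G, g * z = z * g := fun z hz g =>
    Subgroup.mem_center_iff.mp (hZcen hz) g
  let Y' : Subgroup G :=
    { carrier := {y | y ∈ Y ∧ ∀ g : G, y⁻¹ * g⁻¹ * y * g ∈ Z}
      one_mem' := ⟨Y.one_mem, fun g => by simp [Z.one_mem]⟩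
      mul_mem' := by
        rintro a b ⟨ha, ha'⟩ ⟨hb, hb'⟩
        refine ⟨Y.mul_mem ha hb, fun g => ?_⟩
        have e1 : (a * b)⁻¹ * g⁻¹ * (a * b) * g =
            b⁻¹ * (a⁻¹ * g⁻¹ * a * g) * b * (b⁻¹ * g⁻¹ * b * g) := by group
        rw [e1]
        have h1 : b⁻¹ * (a⁻¹ * g⁻¹ * a * g) * b = a⁻¹ * g⁻¹ * a * g := by
          rw [mul_assoc, ← hZmem _ (ha' g) b, ← mul_assoc, inv_mul_cancel, one_mul]
        rw [h1]
        exact Z.mul_mem (ha' g) (hb' g)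
      inv_mem' := by
        rintro a ⟨ha, ha'⟩
        refine ⟨Y.inv_mem ha, fun g => ?_⟩
        have e1 : a⁻¹⁻¹ * g⁻¹ * a⁻¹ * g = a * (a⁻¹ * g⁻¹ * a * g)⁻¹ * a⁻¹ := by group
        rw [e1]
        have h1 : a * (a⁻¹ * g⁻¹ * a * g)⁻¹ * a⁻¹ = (a⁻¹ * g⁻¹ * a * g)⁻¹ := by
          rw [hZmem _ (Z.inv_mem (ha' g)) a, mul_assoc, mul_inv_cancel, mul_one]
        rw [h1]
        exact Z.inv_mem (ha' g) }
  have hY'Y : Y' ≤ Y := fun y hy => hy.1
  have hZY' : Z ≤ Y' := by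
    intro z hz
    refine ⟨hZY hz, fun g => ?_⟩
    have : z⁻¹ * g⁻¹ * z * g = 1 := by
      have h0 := hZmem z hz g⁻¹
      calc z⁻¹ * g⁻¹ * z * g = z⁻¹ * (g⁻¹ * z) * g := by group
        _ = z⁻¹ * (z * g⁻¹) * g := by rw [h0]
        _ = 1 := by group
    rw [this]; exact Z.one_mem
  have he'Y' : e' ∈ Y' := by
    refine ⟨he'Y, fun g => ?_⟩
    have h1 := he' g⁻¹
    have e1 : e'⁻¹ * g⁻¹ * e' * g = e'⁻¹ * ⁅e', g⁻¹⁆⁻¹ * e' := by
      rw [commutatorElement_def]; group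
    rw [e1]
    have h2 : e'⁻¹ * ⁅e', g⁻¹⁆⁻¹ * e' = ⁅e', g⁻¹⁆⁻¹ := by
      rw [mul_assoc, ← hZmem _ (Z.inv_mem h1) e', ← mul_assoc, inv_mul_cancel, one_mul]
    rw [h2]
    exact Z.inv_mem h1
  have hY'eq : Y' = Y := by
    apply Subgroup.eq_of_le_of_card_ge hY'Y
    have hlt : Z < Y' := lt_of_le_of_ne hZY' (fun h => he'Z (h ▸ he'Y'))
    have h1 : Nat.card Z < Nat.card Y' := by
      apply lt_of_le_of_ne (Subgroup.card_le_of_le hZY')
      intro h
      exact hlt.ne (Subgroup.eq_of_le_of_card_ge hZY' h.ge)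
    obtain ⟨k, hk⟩ := IsPGroup.iff_card.mp (hG.to_subgroup Y')
    rw [hZcard, hk] at h1
    rw [hYcard, hk]
    have : 1 < k := by
      by_contra hcon
      push Not at hcon
      have : p ^ k ≤ p ^ 1 := Nat.pow_le_pow_right hp.out.pos hcon
      rw [pow_one] at this
      omega
    exact Nat.pow_le_pow_right hp.out.pos this
  have hYZ : ∀ y ∈ Y, ∀ g : G, y⁻¹ * g⁻¹ * y * g ∈ Z := by
    intro y hy g
    have : y ∈ Y' := by rw [hY'eq]; exact hy
    exact this.2 g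
  -- `x`
  obtain ⟨x, hxE, hxY⟩ : ∃ x, x ∈ E ∧ x ∉ Y := by
    by_contra hcon
    push Not at hcon
    have h1 : E ≤ Y := fun e he => hcon e he
    have h2 := Subgroup.card_le_of_le h1
    rw [hE, hYcard] at h2
    have : p ^ 2 < p ^ 3 := Nat.pow_lt_pow_right hp1 (by norm_num)
    omega
  exact ⟨Y, Z, x, ⟨hG, hrk, hEn, hYn, hZcen, hZY, hYE, hE, hYcard, hZcard, hEe, hYZ, hxE, hxY⟩⟩

end exist

end Cfsg.Agent.Lib.Helper7.Blk
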