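import Mathlib
import Cfsg.Prelude.Def_CaseTheorems
import Cfsg.Agent.Lib.Helper7.Blk3
import Cfsg.Agent.Lib.Helper3.NormalSq2

set_option autoImplicit false
set_option linter.style.haveILetI false
set_option linter.unusedSectionVars false

/-! Blackburn's theorem, part 4: a normal elementary abelian subgroup `Y` of order `p ^ 2` in a
`p`-group of rank at most two (`p` odd) and its centralizer: elements of order `p` of `C(Y)` lie in
`Y`, the index of `C(Y)` is at most `p`, and the `p`-th power map of `C(Y)` is injective modulo `Y`,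
with the counting consequences. -/

namespace Cfsg.Agent.Lib.Helper7.Blk

open scoped commutatorElement
open Cfsg

universe u

section common

variable {G : Type u} [Group G] [Finite G] {p : ℕ} [hp : Fact p.Prime]

theorem mem_of_pow_eq_one (hrk : PRankLE p 2 G) {Y : Subgroup G} (hYc : Nat.card Y = p ^ 2)
    (hYe : ∀ y ∈ Y, y ^ p = 1) {t : G} (htM : t ∈ Subgroup.centralizer (Y : Set G))
    (ht : t ^ p = 1) : t ∈ Y := by
  have hYab : IsMulCommutative Y := IsPGroup.isMulCommutative_of_card_eq_prime_sq hYc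
  have hT : Cfsg.IsElementaryAbelian p (Subgroup.zpowers t) := by
    refine ⟨inferInstance, ?_⟩
    intro a ha
    obtain ⟨k, rfl⟩ := Subgroup.mem_zpowers_iff.mp ha
    rw [← zpow_natCast, ← zpow_mul, mul_comm, zpow_mul, zpow_natCast, ht, one_zpow]
  have hsup := Cfsg.Agent.Lib.Helper3.NormalSq.isElementaryAbelian_sup
    (A := Y) (B := Subgroup.zpowers t) ⟨hYab, hYe⟩ hT (by
      intro a ha b hb
      obtain ⟨k, rfl⟩ := Subgroup.mem_zpowers_iff.mp hb
      have h1 : Commute a t := (Subgroup.mem_centralizer_iff.mp htM a ha)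
      exact (h1.zpow_right k).eq)
  have hle := hrk _ hsup.1 hsup.2
  have h2 : Y = Y ⊔ Subgroup.zpowers t :=
    Subgroup.eq_of_le_of_card_ge le_sup_left (by rw [hYc]; exact hle)
  rw [h2]
  exact (le_sup_right : Subgroup.zpowers t ≤ _) (Subgroup.mem_zpowers t)

theorem index_cent_le (hG : IsPGroup p G) (Y : Subgroup G) [Y.Normal] (hYc : Nat.card Y = p ^ 2) :
    (Subgroup.centralizer (Y : Set G)).index ≤ p := by
  have := Cfsg.Agent.Lib.Lead.index_centralizer_le hG 2 Y hYc
  simpa using this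

/-- the hypothesis of the power lemma for `C(Y)`. -/
theorem cent_pcentral (hrk : PRankLE p 2 G) {Y : Subgroup G} (hYc : Nat.card Y = p ^ 2)
    (hYe : ∀ y ∈ Y, y ^ p = 1) :
    ∀ t : ↥(Subgroup.centralizer (Y : Set G)), t ^ p = 1 →
      t ∈ Subgroup.center ↥(Subgroup.centralizer (Y : Set G)) := by
  intro t ht
  have h1 : (t : G) ^ p = 1 := by
    have := congrArg Subtype.val ht
    simpa using this
  have h2 := mem_of_pow_eq_one hrk hYc hYe t.2 h1
  rw [Subgroup.mem_center_iff]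
  intro g
  have h3 := Subgroup.mem_centralizer_iff.mp g.2 (t : G) h2
  exact Subtype.ext (by simpa using h3.symm)

theorem rel_pow_eq_pow (hp2 : p ≠ 2) (hG : IsPGroup p G) (hrk : PRankLE p 2 G) {Y : Subgroup G}
    (hYc : Nat.card Y = p ^ 2) (hYe : ∀ y ∈ Y, y ^ p = 1) {a b : G}
    (ha : a ∈ Subgroup.centralizer (Y : Set G)) (hb : b ∈ Subgroup.centralizer (Y : Set G))
    (hab : a ^ p = b ^ p) : a⁻¹ * b ∈ Y := by
  have h1 := pow_eq_pow hp2 (hG.to_subgroup (Subgroup.centralizer (Y : Set G)))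
    (cent_pcentral hrk hYc hYe)
    (x := ⟨a, ha⟩) (y := ⟨b, hb⟩) (Subtype.ext (by simpa using hab))
  have h2 : (a⁻¹ * b) ^ p = 1 := by
    have := congrArg Subtype.val h1
    simpa using this
  exact mem_of_pow_eq_one hrk hYc hYe (Subgroup.mul_mem _ (Subgroup.inv_mem _ ha) hb) h2

theorem card_pow_le (hrk : PRankLE p 2 G) {Y : Subgroup G} (hYc : Nat.card Y = p ^ 2)
    (hYe : ∀ y ∈ Y, y ^ p = 1) :
    Nat.card {t : ↥(Subgroup.centralizer (Y : Set G)) // t ^ p = 1} ≤ p ^ 2 := by
  rw [← hYc]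
  apply Nat.card_le_card_of_injective
    (fun t : {t : ↥(Subgroup.centralizer (Y : Set G)) // t ^ p = 1} =>
      (⟨(t.1 : G), mem_of_pow_eq_one hrk hYc hYe t.1.2 (by
        have := congrArg Subtype.val t.2
        simpa using this)⟩ : ↥Y))
  intro a b hab
  have : (a.1 : G) = (b.1 : G) := by
    have := congrArg Subtype.val hab
    simpa using this
  exact Subtype.ext (Subtype.ext this)

theorem ncard_le_card (M S : Subgroup G) :
    ({m : ↥M | (m : G) ∈ S} : Set ↥M).ncard ≤ Nat.card S := by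
  rw [← Nat.card_coe_set_eq]
  apply Nat.card_le_card_of_injective
    (fun m : ({m : ↥M | (m : G) ∈ S} : Set ↥M) => (⟨(m.1 : G), m.2⟩ : ↥S))
  intro a b hab
  have : (a.1 : G) = (b.1 : G) := by
    have := congrArg Subtype.val hab
    simpa using this
  exact Subtype.ext (Subtype.ext this)

theorem rel_card_le (hp2 : p ≠ 2) (hG : IsPGroup p G) (hrk : PRankLE p 2 G) {Y : Subgroup G}
    (hYc : Nat.card Y = p ^ 2) (hYe : ∀ y ∈ Y, y ^ p = 1) (S : Subgroup G)
    (hS : ∀ m ∈ Subgroup.centralizer (Y : Set G), m ^ p ∈ S) :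
    Nat.card ↥(Subgroup.centralizer (Y : Set G)) ≤ p ^ 2 * Nat.card S := by
  have h1 := card_le_mul_ncard hp2 (hG.to_subgroup (Subgroup.centralizer (Y : Set G)))
    (cent_pcentral hrk hYc hYe) {m : ↥(Subgroup.centralizer (Y : Set G)) | (m : G) ∈ S}
    (fun u => by
      show ((u ^ p : ↥(Subgroup.centralizer (Y : Set G))) : G) ∈ S
      simpa using hS u u.2)
  exact h1.trans (Nat.mul_le_mul (card_pow_le hrk hYc hYe) (ncard_le_card _ S))

theorem rel_exists_pow (hp2 : p ≠ 2) (hG : IsPGroup p G) (hrk : PRankLE p 2 G) {Y : Subgroup G}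
    (hYc : Nat.card Y = p ^ 2) (hYe : ∀ y ∈ Y, y ^ p = 1) (S : Subgroup G)
    (hS : ∀ m ∈ Subgroup.centralizer (Y : Set G), m ^ p ∈ S)
    (hcard : p ^ 2 * Nat.card S ≤ Nat.card ↥(Subgroup.centralizer (Y : Set G))) :
    ∀ s ∈ S, s ∈ Subgroup.centralizer (Y : Set G) →
      ∃ m ∈ Subgroup.centralizer (Y : Set G), m ^ p = s := by
  intro s hs hsM
  have h1 := exists_pow_eq_of_card hp2 (hG.to_subgroup (Subgroup.centralizer (Y : Set G)))
    (cent_pcentral hrk hYc hYe) {m : ↥(Subgroup.centralizer (Y : Set G)) | (m : G) ∈ S}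
    (fun u => by
      show ((u ^ p : ↥(Subgroup.centralizer (Y : Set G))) : G) ∈ S
      simpa using hS u u.2)
    ((Nat.mul_le_mul (card_pow_le hrk hYc hYe) (ncard_le_card _ S)).trans hcard)
    ⟨s, hsM⟩ hs
  obtain ⟨u, hu⟩ := h1
  refine ⟨u, u.2, ?_⟩
  have := congrArg Subtype.val hu
  simpa using this

end common

end Cfsg.Agent.Lib.Helper7.Blk
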