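import Mathlib
import Cfsg.Prelude.Def_CaseTheorems
import Cfsg.Agent.Lib.Helper7.Blk4

set_option autoImplicit false
set_option linter.style.haveILetI false
set_option linter.unusedSectionVars false

/-! Blackburn's theorem, part 5: the configuration `Z < Y < E`, derived facts about
`M = C_G(Y)` and `C_M(x)`. -/

namespace Cfsg.Agent.Lib.Helper7.Blk

open scoped commutatorElement
open Cfsg

universe u

/-- `C_M(x)` for `M = C_G(Y)`. -/
def CX {G : Type u} [Group G] (Y : Subgroup G) (x : G) : Subgroup G :=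
  Subgroup.centralizer (Y : Set G) ⊓ Subgroup.centralizer {x}

theorem mem_CX {G : Type u} [Group G] {Y : Subgroup G} {x c : G} :
    c ∈ CX Y x ↔ c ∈ Subgroup.centralizer (Y : Set G) ∧ c * x = x * c := by
  unfold CX
  rw [Subgroup.mem_inf, Subgroup.mem_centralizer_singleton_iff]

namespace Cfg

variable {G : Type u} [Group G] [Finite G] {p : ℕ} [hp : Fact p.Prime] {E Y Z : Subgroup G} {x : G}

theorem Ye (h : Cfg p G E Y Z x) : ∀ y ∈ Y, y ^ p = 1 := fun y hy => h.eE y (h.YE hy)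

theorem x_not_mem (h : Cfg p G E Y Z x) : x ∉ Subgroup.centralizer (Y : Set G) := fun hx =>
  h.xY (mem_of_pow_eq_one h.rk h.cY h.Ye hx (h.eE x h.xE))

theorem Zmem (h : Cfg p G E Y Z x) {z : G} (hz : z ∈ Z) (g : G) : g * z = z * g :=
  Subgroup.mem_center_iff.mp (h.Zc hz) g

theorem Y_le_M (h : Cfg p G E Y Z x) : Y ≤ Subgroup.centralizer (Y : Set G) := by
  have hYab : IsMulCommutative Y := IsPGroup.isMulCommutative_of_card_eq_prime_sq h.cY
  exact Subgroup.le_centralizer Y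

theorem Ycomm (h : Cfg p G E Y Z x) {a b : G} (ha : a ∈ Y) (hb : b ∈ Y) : a * b = b * a :=
  (Subgroup.mem_centralizer_iff.mp (h.Y_le_M hb) a ha)

theorem index_eq (h : Cfg p G E Y Z x) : (Subgroup.centralizer (Y : Set G)).index = p := by
  haveI := h.Yn
  have hle := index_cent_le h.pG Y h.cY
  obtain ⟨k, hk⟩ := h.pG.index (Subgroup.centralizer (Y : Set G))
  rcases k with _ | _ | k
  · rw [pow_zero, Subgroup.index_eq_one] at hk
    exact absurd (hk ▸ Subgroup.mem_top x) h.x_not_mem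
  · simpa using hk
  · exfalso
    rw [hk] at hle
    have h1 : p ^ 2 ≤ p ^ (k + 1 + 1) := Nat.pow_le_pow_right hp.out.pos (by omega)
    have h2 : p < p ^ 2 := by
      have := hp.out.one_lt
      nlinarith
    omega

theorem eq_top_of_le (h : Cfg p G E Y Z x) {K : Subgroup G}
    (hMK : Subgroup.centralizer (Y : Set G) ≤ K) (hx : x ∈ K) : K = ⊤ := by
  have h1 := Subgroup.relIndex_mul_index hMK
  rw [h.index_eq] at h1
  have h2 : K.index ∣ p := Dvd.intro_left _ h1
  rcases (Nat.dvd_prime hp.out).mp h2 with h3 | h3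
  · exact Subgroup.index_eq_one.mp h3
  · exfalso
    rw [h3] at h1
    have h4 : (Subgroup.centralizer (Y : Set G)).relIndex K = 1 := by
      have := hp.out.pos
      nlinarith
    exact h.x_not_mem (Subgroup.relIndex_eq_one.mp h4 hx)

theorem exists_decomp (h : Cfg p G E Y Z x) (g : G) :
    ∃ i : ℕ, ∃ m ∈ Subgroup.centralizer (Y : Set G), g = x ^ i * m := by
  haveI := h.Yn
  haveI : (Subgroup.centralizer (Y : Set G)).Normal := Subgroup.normal_centralizer
  have hc : Nat.card (G ⧸ Subgroup.centralizer (Y : Set G)) = p := by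
    rw [← Subgroup.index_eq_card]; exact h.index_eq
  have hx1 : ((x : G) : G ⧸ Subgroup.centralizer (Y : Set G)) ≠ 1 := by
    intro h1
    exact h.x_not_mem ((QuotientGroup.eq_one_iff x).mp h1)
  obtain ⟨i, hi⟩ := mem_powers_of_prime_card hc hx1
    (g' := ((g : G) : G ⧸ Subgroup.centralizer (Y : Set G)))
  refine ⟨i, (x ^ i)⁻¹ * g, ?_, by group⟩
  have h2 : (((x ^ i : G)) : G ⧸ Subgroup.centralizer (Y : Set G)) = (g : G ⧸ _) := by
    rw [← hi]; rfl
  exact QuotientGroup.eq.mp h2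

theorem dl_mem (h : Cfg p G E Y Z x) {m : G} (hm : m ∈ Subgroup.centralizer (Y : Set G)) :
    dl x m ∈ Y := by
  haveI := h.Yn
  haveI : (Subgroup.centralizer (Y : Set G)).Normal := Subgroup.normal_centralizer
  have h1 : dl x m ∈ E := by
    have e1 : dl x m = (m⁻¹ * x⁻¹ * m⁻¹⁻¹) * x := by unfold dl; group
    rw [e1]
    exact E.mul_mem (h.En.conj_mem x⁻¹ (E.inv_mem h.xE) m⁻¹) h.xE
  have h2 : dl x m ∈ Subgroup.centralizer (Y : Set G) := by
    have e1 : dl x m = m⁻¹ * (x⁻¹ * m * x⁻¹⁻¹) := by unfold dl; group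
    rw [e1]
    exact Subgroup.mul_mem _ (Subgroup.inv_mem _ hm)
      (‹(Subgroup.centralizer (Y : Set G)).Normal›.conj_mem m hm x⁻¹)
  exact mem_of_pow_eq_one h.rk h.cY h.Ye h2 (h.eE _ h1)

theorem conj_pow (h : Cfg p G E Y Z x) {m : G} (hm : m ∈ Subgroup.centralizer (Y : Set G)) :
    x⁻¹ * m ^ p * x = m ^ p := by
  have h1 : x⁻¹ * m ^ p * x = (x⁻¹ * m * x) ^ p := by
    have e : x⁻¹ * m * x = x⁻¹ * m * x⁻¹⁻¹ := by rw [inv_inv]
    rw [e, _root_.conj_pow, inv_inv]
  rw [h1, conj_eq_mul_dl]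
  have hd := h.dl_mem hm
  have hc : Commute m (dl x m) := (Subgroup.mem_centralizer_iff.mp hm _ hd).symm
  rw [hc.mul_pow, h.Ye _ hd, mul_one]

theorem inf_eq (h : Cfg p G E Y Z x) {y : G} (hy : y ∈ Y) (hxy : y * x = x * y) : y ∈ Z := by
  set K : Subgroup G := Y ⊓ Subgroup.centralizer {x} with hK
  have hZK : Z ≤ K := by
    intro z hz
    rw [hK, Subgroup.mem_inf, Subgroup.mem_centralizer_singleton_iff]
    exact ⟨h.ZY hz, (h.Zmem hz x).symm⟩
  have hKY : K ≤ Y := inf_le_left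
  have hyK : y ∈ K := by
    rw [hK, Subgroup.mem_inf, Subgroup.mem_centralizer_singleton_iff]
    exact ⟨hy, hxy⟩
  have h1 : Nat.card K ∣ p ^ 2 := by rw [← h.cY]; exact Subgroup.card_dvd_of_le hKY
  have h2 : p ∣ Nat.card K := by rw [← h.cZ]; exact Subgroup.card_dvd_of_le hZK
  obtain ⟨j, hj, hjc⟩ := (Nat.dvd_prime_pow hp.out).mp h1
  have hj2 : j = 1 ∨ j = 2 := by
    rcases j with _ | _ | _ | j
    · rw [hjc, pow_zero] at h2
      exact absurd (Nat.le_of_dvd one_pos h2) (by have := hp.out.one_lt; omega)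
    · left; rfl
    · right; rfl
    · omega
  rcases hj2 with rfl | rfl
  · have : Z = K := Subgroup.eq_of_le_of_card_ge hZK (by rw [hjc, h.cZ, pow_one])
    rw [this]; exact hyK
  · exfalso
    have : K = Y := Subgroup.eq_of_le_of_card_ge hKY (by rw [hjc, h.cY])
    apply h.x_not_mem
    rw [Subgroup.mem_centralizer_iff]
    intro v hv
    have hv' : v ∈ K := by rw [this]; exact hv
    rw [hK, Subgroup.mem_inf, Subgroup.mem_centralizer_singleton_iff] at hv'
    exact hv'.2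

theorem CX_pow (h : Cfg p G E Y Z x) {c : G} (hc : c ∈ CX Y x) (hcp : c ^ p = 1) : c ∈ Z := by
  rw [mem_CX] at hc
  exact h.inf_eq (mem_of_pow_eq_one h.rk h.cY h.Ye hc.1 hcp) hc.2

theorem Z_le_CX (h : Cfg p G E Y Z x) : Z ≤ CX Y x := by
  intro z hz
  rw [mem_CX]
  exact ⟨h.Y_le_M (h.ZY hz), (h.Zmem hz x).symm⟩

theorem CX_inf_Y (h : Cfg p G E Y Z x) : CX Y x ⊓ Y = Z := by
  apply le_antisymm
  · intro c hc
    rw [Subgroup.mem_inf] at hc
    exact h.CX_pow hc.1 (h.Ye c hc.2)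
  · exact le_inf h.Z_le_CX h.ZY

theorem CX_cyclic (hp2 : p ≠ 2) (h : Cfg p G E Y Z x) : IsCyclic ↥(CX Y x) := by
  by_contra hnc
  obtain ⟨W, -, -, hWe, hWc⟩ :=
    Cfsg.Agent.Lib.Lead.exists_normal_elementary_sq hp2 (h.pG.to_subgroup (CX Y x)) hnc
  have h1 : Nat.card W ≤ Nat.card Z := by
    apply Nat.card_le_card_of_injective
      (fun w : ↥W => (⟨((w : ↥(CX Y x)) : G), h.CX_pow (w : ↥(CX Y x)).2 (by
        have := congrArg Subtype.val (hWe w.1 w.2)
        simpa using this)⟩ : ↥Z))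
    intro a b hab
    have : ((a : ↥(CX Y x)) : G) = ((b : ↥(CX Y x)) : G) := by
      have := congrArg Subtype.val hab
      simpa using this
    exact Subtype.ext (Subtype.ext this)
  rw [hWc, h.cZ] at h1
  have := hp.out.one_lt
  nlinarith

theorem pow_mem_CX (h : Cfg p G E Y Z x) {m : G} (hm : m ∈ Subgroup.centralizer (Y : Set G)) :
    m ^ p ∈ CX Y x := by
  rw [mem_CX]
  refine ⟨Subgroup.pow_mem _ hm p, ?_⟩
  have := h.conj_pow hm
  calc m ^ p * x = x * (x⁻¹ * m ^ p * x) := by group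
    _ = x * m ^ p := by rw [this]

theorem card_M_le (hp2 : p ≠ 2) (h : Cfg p G E Y Z x) :
    Nat.card ↥(Subgroup.centralizer (Y : Set G)) ≤ p ^ 2 * Nat.card ↥(CX Y x) :=
  rel_card_le hp2 h.pG h.rk h.cY h.Ye (CX Y x) (fun _ hm => h.pow_mem_CX hm)

theorem card_sup (h : Cfg p G E Y Z x) : Nat.card ↥(CX Y x ⊔ Y) = Nat.card ↥(CX Y x) * p := by
  haveI := h.Yn
  have h1 := Cfsg.Agent.Lib.Helper2.card_sup_mul_card_inf (CX Y x) Y (by
    rw [Subgroup.normalizer_eq_top]; exact le_top)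
  rw [h.CX_inf_Y, h.cZ, h.cY, sq, ← mul_assoc] at h1
  exact Nat.eq_of_mul_eq_mul_right hp.out.pos h1

theorem sup_le_M (h : Cfg p G E Y Z x) : CX Y x ⊔ Y ≤ Subgroup.centralizer (Y : Set G) :=
  sup_le (by unfold CX; exact inf_le_left) h.Y_le_M

theorem card_M_ge (h : Cfg p G E Y Z x) :
    Nat.card ↥(CX Y x) * p ≤ Nat.card ↥(Subgroup.centralizer (Y : Set G)) := by
  rw [← h.card_sup]
  exact Subgroup.card_le_of_le h.sup_le_M

theorem card_G (h : Cfg p G E Y Z x) :
    Nat.card G = Nat.card ↥(Subgroup.centralizer (Y : Set G)) * p := by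
  rw [← h.index_eq]
  exact (Subgroup.card_mul_index _).symm

end Cfg

end Cfsg.Agent.Lib.Helper7.Blk
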