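import Mathlib
import Cfsg.Prelude.Def_CaseTheorems
import Cfsg.Agent.Lib.Helper7.Blk5

set_option autoImplicit false
set_option linter.style.haveILetI false
set_option linter.unusedSectionVars false

/-! Blackburn's theorem, part 6: the configuration `Z < Y < E`: the dichotomy for `|C_M(x)|` and
the case `|C_M(x)| = p ^ (n - 2)` (central product of `p ^ (1 + 2)` with a cyclic group). -/

namespace Cfsg.Agent.Lib.Helper7.Blk

open scoped commutatorElement
open Cfsg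

universe u

namespace Cfg

variable {G : Type u} [Group G] [Finite G] {p : ℕ} [hp : Fact p.Prime] {E Y Z : Subgroup G} {x : G}

theorem Z_or_Y (h : Cfg p G E Y Z x) {K : Subgroup G} (hZK : Z ≤ K) (hKY : K ≤ Y) :
    K = Z ∨ K = Y := by
  have h1 : Nat.card K ∣ p ^ 2 := by rw [← h.cY]; exact Subgroup.card_dvd_of_le hKY
  have h2 : p ∣ Nat.card K := by rw [← h.cZ]; exact Subgroup.card_dvd_of_le hZK
  obtain ⟨j, hj, hjc⟩ := (Nat.dvd_prime_pow hp.out).mp h1
  have hj2 : j = 1 ∨ j = 2 := by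
    rcases j with _ | _ | _ | j
    · rw [hjc, pow_zero] at h2
      exact absurd (Nat.le_of_dvd one_pos h2) (by have := hp.out.one_lt; omega)
    · left; rfl
    · right; rfl
    · omega
  rcases hj2 with rfl | rfl
  · left
    exact (Subgroup.eq_of_le_of_card_ge hZK (by rw [hjc, h.cZ, pow_one])).symm
  · right
    exact Subgroup.eq_of_le_of_card_ge hKY (by rw [hjc, h.cY])

theorem Y_le_of_mem (h : Cfg p G E Y Z x) {K : Subgroup G} (hZK : Z ≤ K) {y : G} (hyK : y ∈ K)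
    (hyY : y ∈ Y) (hyZ : y ∉ Z) : Y ≤ K := by
  rcases h.Z_or_Y (K := K ⊓ Y) (le_inf hZK h.ZY) inf_le_right with h1 | h1
  · exact absurd (h1 ▸ (Subgroup.mem_inf.mpr ⟨hyK, hyY⟩)) hyZ
  · rw [← h1]; exact inf_le_left

theorem exists_not_mem (h : Cfg p G E Y Z x) : ∃ y ∈ Y, y ∉ Z := by
  by_contra hcon
  push Not at hcon
  have h1 : Y ≤ Z := fun y hy => hcon y hy
  have h2 := Subgroup.card_le_of_le h1
  rw [h.cY, h.cZ] at h2
  have := hp.out.one_lt
  nlinarith

theorem dl_mem_Z (h : Cfg p G E Y Z x) {y : G} (hy : y ∈ Y) (g : G) : dl g y ∈ Z :=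
  h.YZ y hy g

theorem dl_ne_one (h : Cfg p G E Y Z x) {y : G} (hy : y ∈ Y) (hyZ : y ∉ Z) : dl x y ≠ 1 := by
  intro h1
  apply hyZ
  apply h.inf_eq hy
  have h2 := conj_eq_mul_dl x y
  rw [h1, mul_one] at h2
  calc y * x = x * (x⁻¹ * y * x) := by group
    _ = x * y := by rw [h2]

theorem dl_of_mem_Z (h : Cfg p G E Y Z x) {a : G} (ha : a ∈ Z) (g : G) : dl g a = 1 := by
  unfold dl
  have := h.Zmem ha g⁻¹
  calc a⁻¹ * g⁻¹ * a * g = a⁻¹ * (g⁻¹ * a) * g := by group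
    _ = a⁻¹ * (a * g⁻¹) * g := by rw [this]
    _ = 1 := by group

/-- `dl g` is multiplicative on `Y`. -/
theorem dl_mul (h : Cfg p G E Y Z x) {u v : G} (hu : u ∈ Y) (g : G) :
    dl g (u * v) = dl g u * dl g v := by
  have h1 := h.Zmem (h.dl_mem_Z hu g) v⁻¹
  calc dl g (u * v) = v⁻¹ * dl g u * (g⁻¹ * v * g) := by unfold dl; group
    _ = dl g u * v⁻¹ * (g⁻¹ * v * g) := by rw [h1]
    _ = dl g u * dl g v := by unfold dl; group

theorem dl_pow (h : Cfg p G E Y Z x) {u : G} (hu : u ∈ Y) (g : G) (k : ℕ) :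
    dl g (u ^ k) = dl g u ^ k := by
  induction k with
  | zero => simp [dl]
  | succ k ih => rw [pow_succ', h.dl_mul hu, ih, pow_succ']

/-- the generator facts of the cyclic group `C_M(x)`. -/
theorem exists_gen (hp2 : p ≠ 2) (h : Cfg p G E Y Z x) :
    ∃ c : G, Subgroup.zpowers c = CX Y x := by
  haveI := h.CX_cyclic hp2
  obtain ⟨g, hg⟩ := IsCyclic.exists_generator (α := ↥(CX Y x))
  refine ⟨(g : G), le_antisymm ?_ ?_⟩
  · rw [Subgroup.zpowers_le]; exact g.2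
  · intro d hd
    obtain ⟨k, hk⟩ := Subgroup.mem_zpowers_iff.mp (hg ⟨d, hd⟩)
    rw [Subgroup.mem_zpowers_iff]
    refine ⟨k, ?_⟩
    have := congrArg Subtype.val hk
    simpa using this

theorem exists_card_CX (h : Cfg p G E Y Z x) : ∃ a : ℕ, Nat.card ↥(CX Y x) = p ^ (a + 1) := by
  obtain ⟨a, ha⟩ := IsPGroup.iff_card.mp (h.pG.to_subgroup (CX Y x))
  rcases a with _ | a
  · exfalso
    have h1 := Subgroup.card_le_of_le h.Z_le_CX
    rw [ha, h.cZ, pow_zero] at h1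
    have := hp.out.one_lt
    omega
  · exact ⟨a, ha⟩

theorem Z_eq_zpowers (h : Cfg p G E Y Z x) {c : G} (hc : Subgroup.zpowers c = CX Y x) {a : ℕ}
    (ha : Nat.card ↥(CX Y x) = p ^ (a + 1)) : Z = Subgroup.zpowers (c ^ p ^ a) := by
  have hord : orderOf c = p ^ (a + 1) := by rw [← Nat.card_zpowers, hc, ha]
  have hcC : c ∈ CX Y x := by rw [← hc]; exact Subgroup.mem_zpowers c
  have h1 : c ^ p ^ a ∈ Z := by
    apply h.CX_pow (Subgroup.pow_mem _ hcC _)
    rw [← pow_mul, ← pow_succ, ← hord, pow_orderOf_eq_one]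
  symm
  apply Subgroup.eq_of_le_of_card_ge
  · rw [Subgroup.zpowers_le]; exact h1
  · rw [Nat.card_zpowers, h.cZ, orderOf_pow_of_dvd (pow_ne_zero _ hp.out.ne_zero)
      (by rw [hord]; exact pow_dvd_pow p (Nat.le_succ a)), hord, pow_succ,
      Nat.mul_div_cancel_left _ (pow_pos hp.out.pos a)]

theorem dichotomy (hp2 : p ≠ 2) (h : Cfg p G E Y Z x) :
    Nat.card ↥(Subgroup.centralizer (Y : Set G)) = Nat.card ↥(CX Y x) * p ∨
    Nat.card ↥(Subgroup.centralizer (Y : Set G)) = p ^ 2 * Nat.card ↥(CX Y x) := by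
  obtain ⟨a, ha⟩ := IsPGroup.iff_card.mp (h.pG.to_subgroup (CX Y x))
  obtain ⟨b, hb⟩ := IsPGroup.iff_card.mp (h.pG.to_subgroup (Subgroup.centralizer (Y : Set G)))
  have h1 := h.card_M_le hp2
  have h2 := h.card_M_ge
  rw [ha, hb] at h1 h2 ⊢
  rw [← pow_add] at h1
  rw [← pow_succ] at h2
  have h3 := (Nat.pow_le_pow_iff_right hp.out.one_lt).mp h1
  have h4 := (Nat.pow_le_pow_iff_right hp.out.one_lt).mp h2
  have : b = a + 1 ∨ b = 2 + a := by omega
  rcases this with rfl | rfl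
  · left; rw [pow_succ]
  · right; rw [pow_add]

/-- **Case (b)**: `|C_M(x)| = p ^ (n - 2)`. -/
theorem case_b (hp2 : p ≠ 2) (h : Cfg p G E Y Z x) (n : ℕ) (hn : Nat.card G = p ^ n)
    (hC : Nat.card ↥(Subgroup.centralizer (Y : Set G)) = Nat.card ↥(CX Y x) * p) :
    3 ≤ n ∧ ∃ x y z : G, Subgroup.closure ({x, y, z} : Set G) = ⊤ ∧ x ^ p = 1 ∧ y ^ p = 1 ∧
      z ^ p ^ (n - 2) = 1 ∧ x * z = z * x ∧ y * z = z * y ∧
      x⁻¹ * y * x = y * z ^ p ^ (n - 3) := by
  obtain ⟨a, ha⟩ := h.exists_card_CX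
  obtain ⟨c, hc⟩ := h.exists_gen hp2
  have hG := h.card_G
  rw [hC, ha, hn, ← pow_succ, ← pow_succ] at hG
  have hna : n = a + 1 + 1 + 1 := Nat.pow_right_injective hp.out.two_le hG
  subst hna
  refine ⟨by omega, ?_⟩
  obtain ⟨y, hyY, hyZ⟩ := h.exists_not_mem
  have hwZ : dl x y ∈ Z := h.dl_mem_Z hyY x
  have hw1 : dl x y ≠ 1 := h.dl_ne_one hyY hyZ
  have hZeq := h.Z_eq_zpowers hc ha
  rw [hZeq] at hwZ
  obtain ⟨k, hk⟩ := Subgroup.mem_zpowers_iff.mp hwZ
  have hcC : c ∈ CX Y x := by rw [← hc]; exact Subgroup.mem_zpowers c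
  set z := c ^ k with hz
  have hzC : z ∈ CX Y x := Subgroup.zpow_mem _ hcC k
  have hzw : z ^ p ^ a = dl x y := by
    rw [← hk, hz, ← zpow_natCast, ← zpow_natCast, ← zpow_mul, ← zpow_mul, mul_comm]
  have hord : orderOf c = p ^ (a + 1) := by rw [← Nat.card_zpowers, hc, ha]
  have hzp : z ^ p ^ (a + 1) = 1 := by
    rw [hz, ← zpow_natCast, ← zpow_mul, mul_comm, zpow_mul, zpow_natCast, ← hord,
      pow_orderOf_eq_one, one_zpow]
  have hzord : orderOf z = p ^ (a + 1) :=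
    orderOf_eq_prime_pow (by rw [hzw]; exact hw1) hzp
  have hzgen : Subgroup.zpowers z = CX Y x := by
    apply Subgroup.eq_of_le_of_card_ge
    · rw [Subgroup.zpowers_le]; exact hzC
    · rw [Nat.card_zpowers, hzord, ha]
  have hzC' := mem_CX.mp hzC
  refine ⟨x, y, z, ?_, h.eE x h.xE, h.Ye y hyY, ?_, hzC'.2.symm, ?_, ?_⟩
  · apply h.eq_top_of_le
    · have hsup : CX Y x ⊔ Y = Subgroup.centralizer (Y : Set G) := by
        apply Subgroup.eq_of_le_of_card_ge h.sup_le_M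
        rw [h.card_sup, hC]
      rw [← hsup]
      have hzcl : CX Y x ≤ Subgroup.closure ({x, y, z} : Set G) := by
        rw [← hzgen, Subgroup.zpowers_le]
        exact Subgroup.subset_closure (by simp)
      refine sup_le hzcl ?_
      exact h.Y_le_of_mem (h.Z_le_CX.trans hzcl) (Subgroup.subset_closure (by simp)) hyY hyZ
    · exact Subgroup.subset_closure (by simp)
  · have : a + 1 + 1 + 1 - 2 = a + 1 := by omega
    rw [this]; exact hzp
  · exact Subgroup.mem_centralizer_iff.mp hzC'.1 y hyY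
  · have : a + 1 + 1 + 1 - 3 = a := by omega
    rw [this, hzw]
    exact conj_eq_mul_dl x y

end Cfg

end Cfsg.Agent.Lib.Helper7.Blk
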