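import Mathlib
import Cfsg.Prelude.Def_CaseTheorems
import Cfsg.Agent.Lib.Helper7.Blk6

set_option autoImplicit false
set_option linter.style.haveILetI false
set_option linter.unusedSectionVars false

/-! Blackburn's theorem, part 7: the configuration `Z < Y < E`: the case
`|C_M(x)| = p ^ (n - 3)`. -/

namespace Cfsg.Agent.Lib.Helper7.Blk

open scoped commutatorElement
open Cfsg

universe u

/-- the data of case (c): `z ∈ M = C(Y)` with `z ^ p` generating `C_M(x)` of order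
`p ^ (a + 1)`. -/
structure CD (p : ℕ) (G : Type u) [Group G] (E Y Z : Subgroup G) (x z : G) (a : ℕ) : Prop where
  cfg : Cfg p G E Y Z x
  zM : z ∈ Subgroup.centralizer (Y : Set G)
  gen : Subgroup.zpowers (z ^ p) = CX Y x
  cC : Nat.card ↥(CX Y x) = p ^ (a + 1)

namespace Cfg

variable {G : Type u} [Group G] [Finite G] {p : ℕ} [hp : Fact p.Prime] {E Y Z : Subgroup G} {x : G}

/-- `dl g` is multiplicative as soon as the first value is in `Z`. -/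
theorem dl_mul' (h : Cfg p G E Y Z x) {u : G} (g : G) (hu : dl g u ∈ Z) (v : G) :
    dl g (u * v) = dl g u * dl g v := by
  have h1 := h.Zmem hu v⁻¹
  calc dl g (u * v) = v⁻¹ * dl g u * (g⁻¹ * v * g) := by unfold dl; group
    _ = dl g u * v⁻¹ * (g⁻¹ * v * g) := by rw [h1]
    _ = dl g u * dl g v := by unfold dl; group

theorem zpowers_eq_Z (h : Cfg p G E Y Z x) {w : G} (hw : w ∈ Z) (hw1 : w ≠ 1) :
    Subgroup.zpowers w = Z := by
  apply Subgroup.eq_of_le_of_card_ge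
  · rw [Subgroup.zpowers_le]; exact hw
  · rw [Nat.card_zpowers, h.cZ]
    have h1 : w ^ p = 1 := h.Ye w (h.ZY hw)
    rw [orderOf_eq_prime h1 hw1]

/-- Claim 1: the action of `x ^ k` on `Y`. -/
theorem conj_pow_Y (h : Cfg p G E Y Z x) {v : G} (hv : v ∈ Y) (k : ℕ) :
    (x ^ k)⁻¹ * v * x ^ k = v * dl x v ^ k := by
  induction k with
  | zero => simp
  | succ k ih =>
    have hd : dl x v ∈ Z := h.dl_mem_Z hv x
    have hdk : dl x v ^ k ∈ Z := Z.pow_mem hd k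
    have h1 : x⁻¹ * dl x v ^ k * x = dl x v ^ k := by
      rw [mul_assoc, ← h.Zmem hdk x, ← mul_assoc, inv_mul_cancel, one_mul]
    calc (x ^ (k + 1))⁻¹ * v * x ^ (k + 1) = x⁻¹ * ((x ^ k)⁻¹ * v * x ^ k) * x := by
          rw [pow_succ]; group
      _ = x⁻¹ * (v * dl x v ^ k) * x := by rw [ih]
      _ = (x⁻¹ * v * x) * (x⁻¹ * dl x v ^ k * x) := by group
      _ = v * dl x v * dl x v ^ k := by rw [h1, conj_eq_mul_dl]
      _ = v * dl x v ^ (k + 1) := by rw [pow_succ', mul_assoc]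

theorem pow_not_mem (h : Cfg p G E Y Z x) {k : ℕ} (hk : ¬ p ∣ k) :
    ∃ j : ℕ, (x ^ k) ^ j = x := by
  have hcop : Nat.Coprime k p := ((Nat.Prime.coprime_iff_not_dvd hp.out).mpr hk).symm
  obtain ⟨j, -, hj⟩ := Nat.exists_mul_mod_eq_one_of_coprime hcop hp.out.one_lt
  refine ⟨j, ?_⟩
  rw [← pow_mul, pow_eq_pow_mod (k * j) (h.eE x h.xE), hj, pow_one]

theorem cfg_pow (h : Cfg p G E Y Z x) {k : ℕ} (hk : ¬ p ∣ k) : Cfg p G E Y Z (x ^ k) := by
  refine ⟨h.pG, h.rk, h.En, h.Yn, h.Zc, h.ZY, h.YE, h.cE, h.cY, h.cZ, h.eE, h.YZ,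
    E.pow_mem h.xE k, ?_⟩
  intro hx
  obtain ⟨j, hj⟩ := h.pow_not_mem hk
  exact h.xY (hj ▸ Y.pow_mem hx j)

theorem CX_pow_eq (h : Cfg p G E Y Z x) {k : ℕ} (hk : ¬ p ∣ k) : CX Y (x ^ k) = CX Y x := by
  obtain ⟨j, hj⟩ := h.pow_not_mem hk
  ext c
  rw [mem_CX, mem_CX]
  constructor
  · rintro ⟨h1, h2⟩
    refine ⟨h1, ?_⟩
    have : Commute c ((x ^ k) ^ j) := (show Commute c (x ^ k) from h2).pow_right j
    rw [hj] at this
    exact this.eq
  · rintro ⟨h1, h2⟩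
    exact ⟨h1, ((show Commute c x from h2).pow_right k).eq⟩

end Cfg

namespace CD

variable {G : Type u} [Group G] [Finite G] {p : ℕ} [hp : Fact p.Prime] {E Y Z : Subgroup G}
  {x z : G} {a : ℕ}

theorem ord_c (h : CD p G E Y Z x z a) : orderOf (z ^ p) = p ^ (a + 1) := by
  rw [← Nat.card_zpowers, h.gen, h.cC]

theorem z_pow (h : CD p G E Y Z x z a) : z ^ p ^ (a + 2) = 1 := by
  have : p ^ (a + 2) = p * p ^ (a + 1) := by rw [pow_succ']
  rw [this, pow_mul, ← h.ord_c, pow_orderOf_eq_one]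

theorem Z_eq (h : CD p G E Y Z x z a) : Z = Subgroup.zpowers (z ^ p ^ (a + 1)) := by
  have h1 := h.cfg.Z_eq_zpowers h.gen h.cC
  have : (z ^ p) ^ p ^ a = z ^ p ^ (a + 1) := by rw [← pow_mul, ← pow_succ']
  rw [this] at h1
  exact h1

theorem y_mem (h : CD p G E Y Z x z a) : dl x z ∈ Y := h.cfg.dl_mem h.zM

theorem y_not_mem (h : CD p G E Y Z x z a) : dl x z ∉ Z := by
  intro hyZ
  obtain ⟨y₀, hy₀Y, hy₀Z⟩ := h.cfg.exists_not_mem
  have hw₀ : dl x y₀ ∈ Z := h.cfg.dl_mem_Z hy₀Y x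
  have hw₀1 : dl x y₀ ≠ 1 := h.cfg.dl_ne_one hy₀Y hy₀Z
  have h1 : (dl x z)⁻¹ ∈ Subgroup.zpowers (dl x y₀) := by
    rw [h.cfg.zpowers_eq_Z hw₀ hw₀1]; exact Z.inv_mem hyZ
  rw [← mem_powers_iff_mem_zpowers] at h1
  obtain ⟨k, hk⟩ := (Submonoid.mem_powers_iff _ _).mp h1
  set y' := y₀ ^ k with hy'
  have hy'Y : y' ∈ Y := Y.pow_mem hy₀Y k
  have h2 : dl x y' = (dl x z)⁻¹ := by rw [hy', h.cfg.dl_pow hy₀Y, hk]
  have h3 : dl x (z * y') = 1 := by
    rw [h.cfg.dl_mul' x hyZ, h2, mul_inv_cancel]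
  have h4 : z * y' ∈ CX Y x := by
    rw [mem_CX]
    refine ⟨Subgroup.mul_mem _ h.zM (h.cfg.Y_le_M hy'Y), ?_⟩
    have h5 := conj_eq_mul_dl x (z * y')
    rw [h3, mul_one] at h5
    calc z * y' * x = x * (x⁻¹ * (z * y') * x) := by group
      _ = x * (z * y') := by rw [h5]
  rw [← h.gen] at h4
  obtain ⟨i, hi⟩ := Subgroup.mem_zpowers_iff.mp h4
  have hcomm : Commute z y' := (Subgroup.mem_centralizer_iff.mp h.zM y' hy'Y).symm
  have h6 : (z * y') ^ p = z ^ p := by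
    rw [hcomm.mul_pow, h.cfg.Ye y' hy'Y, mul_one]
  have h7 : (z ^ p) ^ (i * (p : ℤ) - 1) = 1 := by
    rw [zpow_sub_one, zpow_mul, hi, zpow_natCast, h6, mul_inv_cancel]
  have h8 := (orderOf_dvd_iff_zpow_eq_one).mpr h7
  rw [h.ord_c] at h8
  have h9 : (p : ℤ) ∣ i * (p : ℤ) - 1 := by
    refine dvd_trans ?_ h8
    push_cast
    exact Dvd.intro_left _ (pow_succ (p : ℤ) a).symm
  have h10 : (p : ℤ) ∣ 1 := by
    have := dvd_sub (Dvd.intro_left i rfl : (p : ℤ) ∣ i * (p : ℤ)) h9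
    simpa using this
  have h11 : p ∣ 1 := by exact_mod_cast h10
  have := hp.out.one_lt
  have := Nat.le_of_dvd one_pos h11
  omega

theorem M_le (hp2 : p ≠ 2) (h : CD p G E Y Z x z a) :
    Subgroup.centralizer (Y : Set G) ≤ Subgroup.zpowers z ⊔ Y := by
  intro m hm
  have h1 := h.cfg.pow_mem_CX hm
  rw [← h.gen] at h1
  obtain ⟨k, hk⟩ := Subgroup.mem_zpowers_iff.mp h1
  have h2 : (z ^ k) ^ p = m ^ p := by
    rw [← hk, ← zpow_natCast, ← zpow_natCast, ← zpow_mul, ← zpow_mul, mul_comm]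
  have h3 := rel_pow_eq_pow hp2 h.cfg.pG h.cfg.rk h.cfg.cY h.cfg.Ye
    (Subgroup.zpow_mem _ h.zM k) hm h2
  have h4 : m = z ^ k * ((z ^ k)⁻¹ * m) := by group
  rw [h4]
  exact Subgroup.mul_mem_sup (Subgroup.zpow_mem_zpowers z k) h3

theorem gen_top (hp2 : p ≠ 2) (h : CD p G E Y Z x z a) :
    Subgroup.closure ({x, dl x z, z} : Set G) = ⊤ := by
  apply h.cfg.eq_top_of_le
  · refine (h.M_le hp2).trans ?_
    have hz : Subgroup.zpowers z ≤ Subgroup.closure ({x, dl x z, z} : Set G) := by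
      rw [Subgroup.zpowers_le]
      exact Subgroup.subset_closure (by simp)
    refine sup_le hz ?_
    apply h.cfg.Y_le_of_mem _ (Subgroup.subset_closure (by simp)) h.y_mem h.y_not_mem
    rw [h.Z_eq]
    refine le_trans ?_ hz
    rw [Subgroup.zpowers_le]
    exact Subgroup.pow_mem _ (Subgroup.mem_zpowers z) _
  · exact Subgroup.subset_closure (by simp)

theorem w_mem (h : CD p G E Y Z x z a) : dl x (dl x z) ∈ Z := h.cfg.dl_mem_Z h.y_mem x

theorem w_ne_one (h : CD p G E Y Z x z a) : dl x (dl x z) ≠ 1 :=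
  h.cfg.dl_ne_one h.y_mem h.y_not_mem

theorem exists_s (h : CD p G E Y Z x z a) : ∃ s : ℕ, dl x (dl x z) = z ^ (s * p ^ (a + 1)) := by
  have h1 := h.w_mem
  rw [h.Z_eq, ← mem_powers_iff_mem_zpowers] at h1
  obtain ⟨s, hs⟩ := (Submonoid.mem_powers_iff _ _).mp h1
  exact ⟨s, by rw [← hs, ← pow_mul, mul_comm]⟩

theorem result_s (hp2 : p ≠ 2) (h : CD p G E Y Z x z a) {s : ℕ}
    (hs : dl x (dl x z) = z ^ (s * p ^ (a + 1))) :
    Subgroup.closure ({x, dl x z, z} : Set G) = ⊤ ∧ x ^ p = 1 ∧ dl x z ^ p = 1 ∧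
      z ^ p ^ (a + 2) = 1 ∧ dl x z * z = z * dl x z ∧
      x⁻¹ * dl x z * x = dl x z * z ^ (s * p ^ (a + 1)) ∧ x⁻¹ * z * x = dl x z * z := by
  have hyz : dl x z * z = z * dl x z := Subgroup.mem_centralizer_iff.mp h.zM _ h.y_mem
  refine ⟨h.gen_top hp2, h.cfg.eE x h.cfg.xE, h.cfg.Ye _ h.y_mem, h.z_pow, hyz, ?_, ?_⟩
  · rw [← hs]; exact conj_eq_mul_dl x (dl x z)
  · rw [hyz]; exact conj_eq_mul_dl x z

theorem cd_pow (h : CD p G E Y Z x z a) {k : ℕ} (hk : ¬ p ∣ k) : CD p G E Y Z (x ^ k) z a :=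
  ⟨h.cfg.cfg_pow hk, h.zM, by rw [h.cfg.CX_pow_eq hk]; exact h.gen,
    by rw [h.cfg.CX_pow_eq hk]; exact h.cC⟩

/-- Claim 2: the action of `x ^ k` on `z`. -/
theorem conj_pow_z (h : CD p G E Y Z x z a) (k : ℕ) :
    ∃ b ∈ Z, (x ^ k)⁻¹ * z * x ^ k = z * dl x z ^ k * b := by
  induction k with
  | zero => exact ⟨1, Z.one_mem, by simp⟩
  | succ k ih =>
    obtain ⟨b, hb, hk⟩ := ih
    refine ⟨dl x (dl x z) ^ k * b, Z.mul_mem (Z.pow_mem h.w_mem k) hb, ?_⟩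
    have h1 : x⁻¹ * b * x = b := by
      rw [mul_assoc, ← h.cfg.Zmem hb x, ← mul_assoc, inv_mul_cancel, one_mul]
    have h2 : x⁻¹ * dl x z ^ k * x = dl x z ^ k * dl x (dl x z) ^ k := by
      rw [conj_eq_mul_dl, h.cfg.dl_pow h.y_mem]
    calc (x ^ (k + 1))⁻¹ * z * x ^ (k + 1) = x⁻¹ * ((x ^ k)⁻¹ * z * x ^ k) * x := by
          rw [pow_succ]; group
      _ = x⁻¹ * (z * dl x z ^ k * b) * x := by rw [hk]
      _ = (x⁻¹ * z * x) * (x⁻¹ * dl x z ^ k * x) * (x⁻¹ * b * x) := by group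
      _ = (z * dl x z) * (dl x z ^ k * dl x (dl x z) ^ k) * b := by
          rw [h1, h2, conj_eq_mul_dl]
      _ = z * dl x z ^ (k + 1) * (dl x (dl x z) ^ k * b) := by
          rw [pow_succ']; simp only [mul_assoc]

theorem w_pow (h : CD p G E Y Z x z a) (k : ℕ) :
    dl (x ^ k) (dl (x ^ k) z) = dl x (dl x z) ^ (k * k) := by
  obtain ⟨b, hb, hk⟩ := h.conj_pow_z k
  have h1 : dl (x ^ k) z = dl x z ^ k * b := by
    calc dl (x ^ k) z = z⁻¹ * ((x ^ k)⁻¹ * z * x ^ k) := by unfold dl; group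
      _ = dl x z ^ k * b := by rw [hk]; group
  have hyk : dl x z ^ k ∈ Y := Y.pow_mem h.y_mem k
  have h2 : dl x z ^ k * b ∈ Y := Y.mul_mem hyk (h.cfg.ZY hb)
  have h3 : dl x (dl x z ^ k * b) = dl x (dl x z) ^ k := by
    rw [h.cfg.dl_mul hyk, h.cfg.dl_pow h.y_mem, h.cfg.dl_of_mem_Z hb, mul_one]
  rw [h1]
  calc dl (x ^ k) (dl x z ^ k * b)
      = (dl x z ^ k * b)⁻¹ * ((x ^ k)⁻¹ * (dl x z ^ k * b) * x ^ k) := by unfold dl; group
    _ = dl x (dl x z ^ k * b) ^ k := by rw [h.cfg.conj_pow_Y h2]; group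
    _ = dl x (dl x z) ^ (k * k) := by rw [h3, ← pow_mul]

end CD

end Cfsg.Agent.Lib.Helper7.Blk
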