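import Mathlib
import Cfsg.Prelude.Def_CaseTheorems
import Cfsg.Agent.Lib.Helper7.Blk7

set_option autoImplicit false
set_option linter.style.haveILetI false
set_option linter.unusedSectionVars false

/-! Blackburn's theorem, part 8: a normal subgroup of order `p ^ 3` and exponent `p` forces the
structure (b) or (c). -/

namespace Cfsg.Agent.Lib.Helper7.Blk

open scoped commutatorElement
open Cfsg

universe u

namespace Cfg

variable {G : Type u} [Group G] [Finite G] {p : ℕ} [hp : Fact p.Prime] {E Y Z : Subgroup G} {x : G}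

/-- **Case (c)**: `|C_M(x)| = p ^ (n - 3)`. -/
theorem case_c (hp2 : p ≠ 2) (h : Cfg p G E Y Z x) (n : ℕ) (hn : Nat.card G = p ^ n)
    (hC : Nat.card ↥(Subgroup.centralizer (Y : Set G)) = p ^ 2 * Nat.card ↥(CX Y x)) :
    4 ≤ n ∧ ∃ (s : ℕ) (x y z : G), (s = 1 ∨ ¬ IsSquare (s : ZMod p)) ∧
      Subgroup.closure ({x, y, z} : Set G) = ⊤ ∧ x ^ p = 1 ∧ y ^ p = 1 ∧ z ^ p ^ (n - 2) = 1 ∧
      y * z = z * y ∧ x⁻¹ * y * x = y * z ^ (s * p ^ (n - 3)) ∧ x⁻¹ * z * x = y * z := by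
  obtain ⟨a, ha⟩ := h.exists_card_CX
  obtain ⟨c, hc⟩ := h.exists_gen hp2
  have hG := h.card_G
  rw [hC, ha, hn, ← pow_add, ← pow_succ] at hG
  have hna : n = 2 + (a + 1) + 1 := Nat.pow_right_injective hp.out.two_le hG
  subst hna
  refine ⟨by omega, ?_⟩
  have e2 : 2 + (a + 1) + 1 - 2 = a + 2 := by omega
  have e3 : 2 + (a + 1) + 1 - 3 = a + 1 := by omega
  rw [e2, e3]
  have hcC : c ∈ CX Y x := by rw [← hc]; exact Subgroup.mem_zpowers c
  obtain ⟨z, hzM, hzc⟩ := rel_exists_pow hp2 h.pG h.rk h.cY h.Ye (CX Y x)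
    (fun _ hm => h.pow_mem_CX hm) hC.ge c hcC (mem_CX.mp hcC).1
  have hcd : CD p G E Y Z x z a := ⟨h, hzM, by rw [hzc]; exact hc, ha⟩
  obtain ⟨s, hs⟩ := hcd.exists_s
  by_cases hsq : s = 1 ∨ ¬ IsSquare (s : ZMod p)
  · obtain ⟨r1, r2, r3, r4, r5, r6, r7⟩ := hcd.result_s hp2 hs
    exact ⟨s, x, dl x z, z, hsq, r1, r2, r3, r4, r5, r6, r7⟩
  · push Not at hsq
    obtain ⟨r, hr⟩ := hsq.2
    have hs0 : (s : ZMod p) ≠ 0 := by
      intro h0
      rw [ZMod.natCast_eq_zero_iff] at h0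
      obtain ⟨t, rfl⟩ := h0
      apply hcd.w_ne_one
      have e : p * t * p ^ (a + 1) = p ^ (a + 2) * t := by ring
      rw [hs, e, pow_mul, hcd.z_pow, one_pow]
    have hr0 : r ≠ 0 := by
      rintro rfl
      rw [mul_zero] at hr
      exact hs0 hr
    set k : ℕ := (r⁻¹).val with hk
    have hkr : (k : ZMod p) = r⁻¹ := by rw [hk, ZMod.natCast_zmod_val]
    have hkp : ¬ p ∣ k := by
      intro hd
      rw [← ZMod.natCast_eq_zero_iff, hkr] at hd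
      exact hr0 (inv_eq_zero.mp hd)
    have hcd' := hcd.cd_pow hkp
    have hw' : dl (x ^ k) (dl (x ^ k) z) = z ^ (1 * p ^ (a + 1)) := by
      rw [hcd.w_pow, hs, ← pow_mul]
      have h1 : ((s * (k * k) : ℕ) : ZMod p) = ((1 : ℕ) : ZMod p) := by
        push_cast
        rw [hkr, hr]
        field_simp
      rw [ZMod.natCast_eq_natCast_iff'] at h1
      have h2 : 1 % p = 1 := Nat.mod_eq_of_lt hp.out.one_lt
      rw [h2] at h1
      have h3 := Nat.div_add_mod (s * (k * k)) p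
      rw [h1] at h3
      have h4 : s * p ^ (a + 1) * (k * k) = p ^ (a + 2) * (s * (k * k) / p) + 1 * p ^ (a + 1) := by
        have : s * p ^ (a + 1) * (k * k) = (s * (k * k)) * p ^ (a + 1) := by ring
        rw [this]
        conv_lhs => rw [← h3]
        ring
      rw [h4, pow_add, pow_mul, hcd.z_pow, one_pow, one_mul]
    obtain ⟨r1, r2, r3, r4, r5, r6, r7⟩ := hcd'.result_s hp2 hw'
    exact ⟨1, x ^ k, dl (x ^ k) z, z, Or.inl rfl, r1, r2, r3, r4, r5, r6, r7⟩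

/-- **The structure theorem**: a configuration forces (b) or (c). -/
theorem result_bc (hp2 : p ≠ 2) (h : Cfg p G E Y Z x) (n : ℕ) (hn : Nat.card G = p ^ n) :
    (3 ≤ n ∧ ∃ x y z : G, Subgroup.closure ({x, y, z} : Set G) = ⊤ ∧ x ^ p = 1 ∧ y ^ p = 1 ∧
      z ^ p ^ (n - 2) = 1 ∧ x * z = z * x ∧ y * z = z * y ∧
      x⁻¹ * y * x = y * z ^ p ^ (n - 3)) ∨
    (4 ≤ n ∧ ∃ (s : ℕ) (x y z : G), (s = 1 ∨ ¬ IsSquare (s : ZMod p)) ∧
      Subgroup.closure ({x, y, z} : Set G) = ⊤ ∧ x ^ p = 1 ∧ y ^ p = 1 ∧ z ^ p ^ (n - 2) = 1 ∧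
      y * z = z * y ∧ x⁻¹ * y * x = y * z ^ (s * p ^ (n - 3)) ∧ x⁻¹ * z * x = y * z) := by
  rcases h.dichotomy hp2 with hC | hC
  · exact Or.inl (h.case_b hp2 n hn hC)
  · exact Or.inr (h.case_c hp2 n hn hC)

end Cfg

/-- the structure theorem from a normal subgroup of order `p ^ 3` and exponent `p`. -/
theorem result_of_normal {G : Type u} [Group G] [Finite G] {p : ℕ} [hp : Fact p.Prime]
    (hp2 : p ≠ 2) (hG : IsPGroup p G) (hrk : PRankLE p 2 G) (E : Subgroup G) [hEn : E.Normal]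
    (hE : Nat.card E = p ^ 3) (hEe : ∀ e ∈ E, e ^ p = 1) (n : ℕ) (hn : Nat.card G = p ^ n) :
    (3 ≤ n ∧ ∃ x y z : G, Subgroup.closure ({x, y, z} : Set G) = ⊤ ∧ x ^ p = 1 ∧ y ^ p = 1 ∧
      z ^ p ^ (n - 2) = 1 ∧ x * z = z * x ∧ y * z = z * y ∧
      x⁻¹ * y * x = y * z ^ p ^ (n - 3)) ∨
    (4 ≤ n ∧ ∃ (s : ℕ) (x y z : G), (s = 1 ∨ ¬ IsSquare (s : ZMod p)) ∧
      Subgroup.closure ({x, y, z} : Set G) = ⊤ ∧ x ^ p = 1 ∧ y ^ p = 1 ∧ z ^ p ^ (n - 2) = 1 ∧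
      y * z = z * y ∧ x⁻¹ * y * x = y * z ^ (s * p ^ (n - 3)) ∧ x⁻¹ * z * x = y * z) := by
  obtain ⟨Y, Z, x, h⟩ := exists_cfg hG hrk E hE hEe
  exact h.result_bc hp2 n hn

end Cfsg.Agent.Lib.Helper7.Blk
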