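import Mathlib
import Cfsg.Prelude.Def_CaseTheorems
import Cfsg.Agent.Lib.Helper7.Blk8

set_option autoImplicit false
set_option linter.style.haveILetI false
set_option linter.unusedSectionVars false

/-! Blackburn's theorem, part 9 (`p = 3`): if `E` of order `27` and exponent `3` is not
self-centralizing, then `E` contains all elements of order `3` of its normalizer, hence is
normal. -/

namespace Cfsg.Agent.Lib.Helper7.Blk

open scoped commutatorElement
open Cfsg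

universe u

theorem comm_aux {G : Type u} [Group G] {m d e : G} (h1 : d * m = m * d) (h2 : e * m = m * e)
    (h3 : e * d = d * e) (hd : d ^ 3 = 1) : (m * d) * (d * e) * (m * d) * m = m ^ 3 * e := by
  have h1' : ∀ t, d * (m * t) = m * (d * t) := fun t => by rw [← mul_assoc, h1, mul_assoc]
  have h2' : ∀ t, e * (m * t) = m * (e * t) := fun t => by rw [← mul_assoc, h2, mul_assoc]
  have h3' : ∀ t, e * (d * t) = d * (e * t) := fun t => by rw [← mul_assoc, h3, mul_assoc]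
  have e1 : (m * d) * (d * e) * (m * d) * m = m ^ 3 * (d ^ 3 * e) := by
    simp only [pow_succ, pow_zero, one_mul, mul_assoc, h1, h2, h3, h1', h2', h3']
  rw [e1, hd, one_mul]

theorem prankLE_subtype {G : Type u} [Group G] {p k : ℕ} (hr : PRankLE p k G) (N : Subgroup G) :
    PRankLE p k ↥N := by
  intro B hB hBe
  rw [← Subgroup.card_map_of_injective N.subtype_injective]
  apply hr
  · refine ⟨⟨?_⟩⟩
    rintro ⟨_, a, ha, rfl⟩ ⟨_, b, hb, rfl⟩
    apply Subtype.ext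
    have := hB.is_comm.comm ⟨a, ha⟩ ⟨b, hb⟩
    have h2 := congrArg (fun z : ↥B => N.subtype (z : ↥N)) this
    simpa using h2
  · rintro _ ⟨a, ha, rfl⟩
    rw [← map_pow, hBe a ha, map_one]

namespace Cfg

variable {G : Type u} [Group G] [Finite G] {E Y Z : Subgroup G} {x : G}

theorem cube_formula (h : Cfg 3 G E Y Z x) {m : G} (hm : m ∈ Subgroup.centralizer (Y : Set G)) :
    (x * m) ^ 3 = m ^ 3 * dl x (dl x m) := by
  haveI : Fact (Nat.Prime 3) := ⟨Nat.prime_three⟩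
  have hd : dl x m ∈ Y := h.dl_mem hm
  have he : dl x (dl x m) ∈ Z := h.dl_mem_Z hd x
  have hx3 : x ^ 3 = 1 := h.eE x h.xE
  have e1 : (x * m) ^ 3 = x ^ 3 * (x⁻¹ * (x⁻¹ * m * x) * x) * (x⁻¹ * m * x) * m := by
    simp only [pow_succ, pow_zero, one_mul]
    group
  have e2 : x⁻¹ * (m * dl x m) * x = (x⁻¹ * m * x) * (x⁻¹ * dl x m * x) := by group
  rw [e1, hx3, one_mul, conj_eq_mul_dl x m, e2, conj_eq_mul_dl x m, conj_eq_mul_dl x (dl x m)]
  apply comm_aux
  · exact Subgroup.mem_centralizer_iff.mp hm _ hd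
  · exact (h.Zmem he m).symm
  · exact h.Ycomm (h.ZY he) hd
  · exact h.Ye _ hd

theorem omega_aux (h : Cfg 3 G E Y Z x) {c₁ : G} (hc₁ : c₁ ∈ CX Y x)
    (hgen : Z ≤ Subgroup.zpowers (c₁ ^ 3)) {m : G}
    (hm : m ∈ Subgroup.centralizer (Y : Set G)) (ht : (x * m) ^ 3 = 1) : x * m ∈ E := by
  haveI : Fact (Nat.Prime 3) := ⟨Nat.prime_three⟩
  have hd : dl x m ∈ Y := h.dl_mem hm
  have he : dl x (dl x m) ∈ Z := h.dl_mem_Z hd x
  rw [h.cube_formula hm] at ht
  have h1 : (dl x (dl x m))⁻¹ ∈ Subgroup.zpowers (c₁ ^ 3) := hgen (Z.inv_mem he)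
  obtain ⟨j, hj⟩ := Subgroup.mem_zpowers_iff.mp h1
  have hc₁' := mem_CX.mp hc₁
  have h2 : (c₁ ^ j) ^ 3 = m ^ 3 := by
    have : m ^ 3 = (dl x (dl x m))⁻¹ := eq_inv_of_mul_eq_one_left ht
    rw [this, ← hj, ← zpow_natCast, ← zpow_natCast, ← zpow_mul, ← zpow_mul, mul_comm]
  have h3 := rel_pow_eq_pow (by norm_num) h.pG h.rk h.cY h.Ye
    (Subgroup.zpow_mem _ hc₁'.1 j) hm h2
  -- `m = c₁ ^ j * y'`
  set y' := (c₁ ^ j)⁻¹ * m with hy'
  have hm' : m = c₁ ^ j * y' := by rw [hy']; group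
  have hcj : dl x (c₁ ^ j) = 1 := by
    have : Commute (c₁ ^ j) x := (show Commute c₁ x from hc₁'.2).zpow_left j
    unfold dl
    rw [mul_assoc, mul_assoc, this.eq, ← mul_assoc x⁻¹, inv_mul_cancel, one_mul, inv_mul_cancel]
  have h4 : dl x m ∈ Z := by
    rw [hm', h.dl_mul' x (by rw [hcj]; exact Z.one_mem), hcj, one_mul]
    exact h.dl_mem_Z h3 x
  rw [h.dl_of_mem_Z h4, mul_one] at ht
  have h5 : m ∈ Y := mem_of_pow_eq_one h.rk h.cY h.Ye hm ht
  exact E.mul_mem h.xE (h.YE h5)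

/-- **Lemma Ω**: all elements of order `3` lie in `E` when `E` is not self-centralizing. -/
theorem omega (h : Cfg 3 G E Y Z x) {c : G} (hc : c ∈ Subgroup.centralizer (E : Set G))
    (hcE : c ∉ E) (t : G) (ht : t ^ 3 = 1) : t ∈ E := by
  haveI : Fact (Nat.Prime 3) := ⟨Nat.prime_three⟩
  have hp2 : (3 : ℕ) ≠ 2 := by norm_num
  have hcC : c ∈ CX Y x := by
    rw [mem_CX]
    refine ⟨?_, (Subgroup.mem_centralizer_iff.mp hc x h.xE).symm⟩
    rw [Subgroup.mem_centralizer_iff]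
    intro y hy
    exact Subgroup.mem_centralizer_iff.mp hc y (h.YE hy)
  obtain ⟨a, ha⟩ := h.exists_card_CX
  obtain ⟨c₀, hc₀⟩ := h.exists_gen hp2
  have ha0 : a ≠ 0 := by
    rintro rfl
    have : Z = CX Y x := Subgroup.eq_of_le_of_card_ge h.Z_le_CX (by rw [ha, h.cZ]; simp)
    exact hcE (h.YE (h.ZY (this ▸ hcC)))
  obtain ⟨b, rfl⟩ := Nat.exists_eq_succ_of_ne_zero ha0
  have hZ := h.Z_eq_zpowers hc₀ ha
  have hc₀C : c₀ ∈ CX Y x := by rw [← hc₀]; exact Subgroup.mem_zpowers c₀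
  have hc₁ : c₀ ^ 3 ^ b ∈ CX Y x := Subgroup.pow_mem _ hc₀C _
  have hgen : Z ≤ Subgroup.zpowers ((c₀ ^ 3 ^ b) ^ 3) := by
    rw [hZ, ← pow_mul, ← pow_succ]
  have hx3 : x ^ 3 = 1 := h.eE x h.xE
  obtain ⟨i, m, hm, rfl⟩ := h.exists_decomp t
  rw [pow_eq_pow_mod i hx3]
  rw [pow_eq_pow_mod i hx3] at ht
  have hi : i % 3 = 0 ∨ i % 3 = 1 ∨ i % 3 = 2 := by omega
  rcases hi with hi | hi | hi
  · rw [hi, pow_zero, one_mul] at ht ⊢
    exact h.YE (mem_of_pow_eq_one h.rk h.cY h.Ye hm ht)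
  · rw [hi, pow_one] at ht ⊢
    exact h.omega_aux hc₁ hgen hm ht
  · rw [hi] at ht ⊢
    haveI := h.Yn
    haveI : (Subgroup.centralizer (Y : Set G)).Normal := Subgroup.normal_centralizer
    have hx2 : x ^ 2 = x⁻¹ := by
      have : x ^ 2 * x = 1 := by rw [← pow_succ]; exact hx3
      exact eq_inv_of_mul_eq_one_left this
    have e1 : (x ^ 2 * m)⁻¹ = x * (x⁻¹ * m⁻¹ * x⁻¹⁻¹) := by rw [hx2]; group
    have hm' : x⁻¹ * m⁻¹ * x⁻¹⁻¹ ∈ Subgroup.centralizer (Y : Set G) :=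
      ‹(Subgroup.centralizer (Y : Set G)).Normal›.conj_mem _ (Subgroup.inv_mem _ hm) x⁻¹
    have h1 : (x * (x⁻¹ * m⁻¹ * x⁻¹⁻¹)) ^ 3 = 1 := by
      rw [← e1, inv_pow, ht, inv_one]
    have h2 := h.omega_aux hc₁ hgen hm' h1
    rw [← e1] at h2
    exact (E.inv_mem_iff).mp h2

end Cfg

/-- **Lemma E**: a subgroup of order `27` and exponent `3` which is not self-centralizing is
normal (in a `3`-group of rank at most two). -/
theorem normal_of_cent_not_le {G : Type u} [Group G] [Finite G] (hG : IsPGroup 3 G)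
    (hrk : PRankLE 3 2 G) (E : Subgroup G) (hE : Nat.card E = 3 ^ 3) (hEe : ∀ e ∈ E, e ^ 3 = 1)
    (hC : ¬ Subgroup.centralizer (E : Set G) ≤ E) : E.Normal := by
  haveI : Fact (Nat.Prime 3) := ⟨Nat.prime_three⟩
  haveI : Group.IsNilpotent G := hG.isNilpotent
  obtain ⟨c, hcC, hcE⟩ := SetLike.not_le_iff_exists.mp hC
  set N := Subgroup.normalizer (E : Set G) with hN
  have hEN : E ≤ N := Subgroup.le_normalizer
  have hcN : c ∈ N := Subgroup.centralizer_le_normalizer _ hcC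
  haveI : (E.subgroupOf N).Normal := Subgroup.normal_in_normalizer
  have hE' : Nat.card ↥(E.subgroupOf N) = 3 ^ 3 := by
    rw [Nat.card_congr (Subgroup.subgroupOfEquivOfLe hEN).toEquiv, hE]
  have hEe' : ∀ e ∈ E.subgroupOf N, e ^ 3 = 1 := by
    intro e he
    rw [Subgroup.mem_subgroupOf] at he
    apply Subtype.ext
    simpa using hEe _ he
  obtain ⟨Y, Z, x, h⟩ := exists_cfg (hG.to_subgroup N) (prankLE_subtype hrk N)
    (E.subgroupOf N) hE' hEe'
  have hom := h.omega (c := ⟨c, hcN⟩) (by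
    rw [Subgroup.mem_centralizer_iff]
    intro e he
    rw [SetLike.mem_coe, Subgroup.mem_subgroupOf] at he
    apply Subtype.ext
    simpa using Subgroup.mem_centralizer_iff.mp hcC _ he) (by
    rw [Subgroup.mem_subgroupOf]; exact hcE)
  -- the normalizer of `N` normalizes `E`
  have hconj : ∀ g ∈ Subgroup.normalizer (N : Set G), ∀ e ∈ E, g * e * g⁻¹ ∈ E := by
    intro g hg e he
    have h1 : g * e * g⁻¹ ∈ N := (Subgroup.mem_normalizer_iff.mp hg e).mp (hEN he)
    have h2 := hom ⟨g * e * g⁻¹, h1⟩ (by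
      apply Subtype.ext
      simp only [Subgroup.coe_pow, Subgroup.coe_one]
      rw [conj_pow, hEe e he]; group)
    rw [Subgroup.mem_subgroupOf] at h2
    exact h2
  have hNN : Subgroup.normalizer (N : Set G) = N := by
    apply le_antisymm _ Subgroup.le_normalizer
    intro g hg
    rw [hN, Subgroup.mem_normalizer_iff]
    intro e
    constructor
    · exact hconj g hg e
    · intro he
      have h1 := hconj g⁻¹ (Subgroup.inv_mem _ hg) _ he
      have e1 : g⁻¹ * (g * e * g⁻¹) * g⁻¹⁻¹ = e := by group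
      rw [e1] at h1
      exact h1
  have hNtop : N = ⊤ :=
    (normalizerCondition_iff_only_full_group_self_normalizing.mp
      Group.normalizerCondition_of_isNilpotent) N hNN
  exact Subgroup.normalizer_eq_top_iff.mp hNtop

end Cfsg.Agent.Lib.Helper7.Blk
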