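import Mathlib
import Cfsg.Prelude.Def_CaseTheorems
import Cfsg.Agent.Lib.Helper7.Blk9
import Cfsg.Agent.Lib.Lead.MaxClass2

set_option autoImplicit false
set_option linter.style.haveILetI false
set_option linter.unusedSectionVars false

/-! Blackburn's theorem, part 10 (`p = 3`): if all elements of order `3` centralize a normal
elementary abelian subgroup `E₀` of order `9` which is not central, the group is metacyclic or of
maximal class. -/

namespace Cfsg.Agent.Lib.Helper7.Blk

open scoped commutatorElement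
open Cfsg

universe u

section lemmaF

variable {G : Type u} [Group G] [Finite G]

/-- the cube of `g * v` when `dl g v` and `dl g (dl g v)` commute with `v` and each other. -/
theorem cube_formula' {g v : G} (h1 : dl g v * v = v * dl g v)
    (h2 : dl g (dl g v) * v = v * dl g (dl g v))
    (h3 : dl g (dl g v) * dl g v = dl g v * dl g (dl g v)) (hd : dl g v ^ 3 = 1) :
    (g * v) ^ 3 = g ^ 3 * (v ^ 3 * dl g (dl g v)) := by
  have e1 : (g * v) ^ 3 = g ^ 3 * ((g⁻¹ * (g⁻¹ * v * g) * g) * (g⁻¹ * v * g) * v) := by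
    simp only [pow_succ, pow_zero, one_mul]
    group
  have e2 : g⁻¹ * (v * dl g v) * g = (g⁻¹ * v * g) * (g⁻¹ * dl g v * g) := by group
  rw [e1, conj_eq_mul_dl g v, e2, conj_eq_mul_dl g v, conj_eq_mul_dl g (dl g v),
    comm_aux h1 h2 h3 hd]

theorem lemmaF (hG : IsPGroup 3 G) (hrk : PRankLE 3 2 G) (n : ℕ) (hn : Nat.card G = 3 ^ n)
    (E₀ : Subgroup G) [hE₀n : E₀.Normal] (hE₀c : Nat.card E₀ = 3 ^ 2)
    (hE₀e : ∀ e ∈ E₀, e ^ 3 = 1)
    (hC₀ : Subgroup.centralizer (E₀ : Set G) ≠ ⊤)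
    (hΩ : ∀ t : G, t ^ 3 = 1 → t ∈ Subgroup.centralizer (E₀ : Set G)) :
    Cfsg.IsMetacyclic G ∨ Group.nilpotencyClass G = n - 1 := by
  haveI : Fact (Nat.Prime 3) := ⟨Nat.prime_three⟩
  have hp2 : (3 : ℕ) ≠ 2 := by norm_num
  haveI hC₀n : (Subgroup.centralizer (E₀ : Set G)).Normal := Subgroup.normal_centralizer
  have hE₀ab : IsMulCommutative E₀ := IsPGroup.isMulCommutative_of_card_eq_prime_sq hE₀c
  have hE₀comm : ∀ a ∈ E₀, ∀ b ∈ E₀, a * b = b * a := fun a ha b hb =>
    Subgroup.mem_centralizer_iff.mp (Subgroup.le_centralizer E₀ hb) a ha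
  by_cases hA : ∀ B : Subgroup G, (∀ x : G, x ^ 3 ∈ B) → B.index ≤ 3 ^ 2
  · exact Or.inl (huppert_pow hp2 hG hA)
  right
  push Not at hA
  obtain ⟨B, hB, hBidx⟩ := hA
  have hidx : (Subgroup.centralizer (E₀ : Set G)).index = 3 := by
    have hle := index_cent_le hG E₀ hE₀c
    obtain ⟨k, hk⟩ := hG.index (Subgroup.centralizer (E₀ : Set G))
    rcases k with _ | _ | k
    · rw [pow_zero, Subgroup.index_eq_one] at hk
      exact absurd hk hC₀
    · simpa using hk
    · exfalso
      rw [hk] at hle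
      have : 3 ^ 2 ≤ 3 ^ (k + 1 + 1) := Nat.pow_le_pow_right (by norm_num) (by omega)
      omega
  have hBidx' : 27 ≤ B.index := by
    obtain ⟨k, hk⟩ := hG.index B
    rw [hk] at hBidx ⊢
    have h2 : 2 < k := by
      by_contra hcon
      push Not at hcon
      have : 3 ^ k ≤ 3 ^ 2 := Nat.pow_le_pow_right (by norm_num) hcon
      omega
    calc 27 = 3 ^ 3 := by norm_num
      _ ≤ 3 ^ k := Nat.pow_le_pow_right (by norm_num) h2
  have hcardB : 3 ^ 2 * Nat.card B ≤ Nat.card ↥(Subgroup.centralizer (E₀ : Set G)) := by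
    have h1 := B.card_mul_index
    have h2 := (Subgroup.centralizer (E₀ : Set G)).card_mul_index
    rw [hidx] at h2
    have : Nat.card B * 27 ≤ Nat.card ↥(Subgroup.centralizer (E₀ : Set G)) * 3 := by
      rw [h2, ← h1]; exact Nat.mul_le_mul_left _ hBidx'
    omega
  have hpow := rel_exists_pow hp2 hG hrk hE₀c hE₀e B (fun m _ => hB m) hcardB
  obtain ⟨g, hg⟩ : ∃ g, g ∉ Subgroup.centralizer (E₀ : Set G) := by
    by_contra hcon
    push Not at hcon
    exact hC₀ ((Subgroup.eq_top_iff' _).mpr hcon)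
  have hg3 : g ^ 3 ∈ Subgroup.centralizer (E₀ : Set G) := by
    have := (Subgroup.centralizer (E₀ : Set G)).pow_index_mem g
    rwa [hidx] at this
  obtain ⟨u, huC, hu⟩ := hpow (g ^ 3) (hB g) hg3
  set v := u⁻¹ with hv
  have hvC : v ∈ Subgroup.centralizer (E₀ : Set G) := Subgroup.inv_mem _ huC
  have hv3 : v ^ 3 = (g ^ 3)⁻¹ := by rw [hv, inv_pow, hu]
  -- `f = dl g v ∈ E₀`
  have hconjC : g⁻¹ * v * g ∈ Subgroup.centralizer (E₀ : Set G) := by
    have := hC₀n.conj_mem v hvC g⁻¹
    simpa using this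
  have hconj3 : v ^ 3 = (g⁻¹ * v * g) ^ 3 := by
    have e : g⁻¹ * v * g = g⁻¹ * v * g⁻¹⁻¹ := by rw [inv_inv]
    rw [e, conj_pow, hv3, inv_inv]
    have : Commute g⁻¹ (g ^ 3)⁻¹ := ((Commute.refl g).pow_right 3).inv_left.inv_right
    rw [this.eq, mul_assoc, inv_mul_cancel, mul_one]
  have hf : dl g v ∈ E₀ := by
    have := rel_pow_eq_pow hp2 hG hrk hE₀c hE₀e hvC hconjC hconj3
    have e : dl g v = v⁻¹ * (g⁻¹ * v * g) := by unfold dl; group
    rw [e]; exact this
  have hf' : dl g (dl g v) ∈ E₀ := by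
    have e : dl g (dl g v) = (dl g v)⁻¹ * (g⁻¹ * dl g v * g⁻¹⁻¹) := by unfold dl; group
    rw [e]
    exact E₀.mul_mem (E₀.inv_mem hf) (hE₀n.conj_mem _ hf g⁻¹)
  have hcube : (g * v) ^ 3 = dl g (dl g v) := by
    rw [cube_formula' (Subgroup.mem_centralizer_iff.mp hvC _ hf)
      (Subgroup.mem_centralizer_iff.mp hvC _ hf') (hE₀comm _ hf' _ hf) (hE₀e _ hf), hv3,
      ← mul_assoc, mul_inv_cancel, one_mul]
  set h := g * v with hh
  have hhC : h ∉ Subgroup.centralizer (E₀ : Set G) := by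
    intro hcon
    apply hg
    have : g = h * v⁻¹ := by rw [hh]; group
    rw [this]
    exact Subgroup.mul_mem _ hcon (Subgroup.inv_mem _ hvC)
  have hh3E : h ^ 3 ∈ E₀ := by rw [hcube]; exact hf'
  have hh3 : h ^ 3 ≠ 1 := fun hcon => hhC (hΩ h hcon)
  have hh9 : h ^ 3 ^ 2 = 1 := by
    have : (3 : ℕ) ^ 2 = 3 * 3 := by norm_num
    rw [this, pow_mul, hE₀e _ hh3E]
  have hhord : orderOf h = 3 ^ 2 := by
    apply orderOf_eq_prime_pow (n := 1)
    · rw [pow_one]; exact hh3
    · exact hh9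
  -- `K = E₀ ∩ C(h)` has order at most three
  set K : Subgroup G := E₀ ⊓ Subgroup.centralizer {h} with hK
  have hKcard : Nat.card K ≤ 3 := by
    have h1 : Nat.card K ∣ 3 ^ 2 := by rw [← hE₀c]; exact Subgroup.card_dvd_of_le inf_le_left
    obtain ⟨j, hj, hjc⟩ := (Nat.dvd_prime_pow Nat.prime_three).mp h1
    have hj2 : j ≠ 2 := by
      rintro rfl
      have hKE : K = E₀ := Subgroup.eq_of_le_of_card_ge inf_le_left (by rw [hjc, hE₀c])
      apply hhC
      rw [Subgroup.mem_centralizer_iff]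
      intro e he
      have : e ∈ K := by rw [hKE]; exact he
      rw [hK, Subgroup.mem_inf, Subgroup.mem_centralizer_singleton_iff] at this
      exact this.2
    rw [hjc]
    have : j ≤ 1 := by omega
    calc 3 ^ j ≤ 3 ^ 1 := Nat.pow_le_pow_right (by norm_num) this
      _ = 3 := by norm_num
  have hh3K : h ^ 3 ∈ K := by
    rw [hK, Subgroup.mem_inf, Subgroup.mem_centralizer_singleton_iff]
    exact ⟨hh3E, ((Commute.refl h).pow_left 3).eq⟩
  have hKeq : K = Subgroup.zpowers (h ^ 3) := by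
    symm
    apply Subgroup.eq_of_le_of_card_ge
    · rw [Subgroup.zpowers_le]; exact hh3K
    · rw [Nat.card_zpowers, orderOf_eq_prime (hE₀e _ hh3E) hh3]; exact hKcard
  -- elements of `C₀` commuting with `h` have order dividing three
  have hkey : ∀ d ∈ Subgroup.centralizer (E₀ : Set G), d * h = h * d → d ^ 3 = 1 := by
    intro d hdC hdh
    by_contra hd3
    obtain ⟨k, hk⟩ := IsPGroup.iff_orderOf.mp hG d
    have hk2 : 2 ≤ k := by
      by_contra hcon
      push Not at hcon
      apply hd3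
      have : orderOf d ∣ 3 := by
        rw [hk]
        calc 3 ^ k ∣ 3 ^ 1 := pow_dvd_pow 3 (by omega)
          _ = 3 := by norm_num
      exact orderOf_dvd_iff_pow_eq_one.mp this
    obtain ⟨k', rfl⟩ : ∃ k', k = k' + 2 := ⟨k - 2, by omega⟩
    set d' := d ^ 3 ^ k' with hd'
    have hd'C : d' ∈ Subgroup.centralizer (E₀ : Set G) := Subgroup.pow_mem _ hdC _
    have hd'h : Commute d' h := (show Commute d h from hdh).pow_left _
    have hd'9 : (d' ^ 3) ^ 3 = 1 := by
      have e : (d' ^ 3) ^ 3 = d ^ (3 ^ (k' + 2)) := by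
        rw [hd', ← pow_mul, ← pow_mul]
        congr 1
        ring
      rw [e, ← hk, pow_orderOf_eq_one]
    have hd'3 : d' ^ 3 ≠ 1 := by
      intro hcon
      rw [hd', ← pow_mul, ← pow_succ] at hcon
      have h1 := orderOf_dvd_of_pow_eq_one hcon
      rw [hk] at h1
      have h2 := Nat.pow_dvd_pow_iff_le_right (by norm_num : 1 < 3) |>.mp h1
      omega
    have hd'K : d' ^ 3 ∈ K := by
      rw [hK, Subgroup.mem_inf, Subgroup.mem_centralizer_singleton_iff]
      exact ⟨mem_of_pow_eq_one hrk hE₀c hE₀e (Subgroup.pow_mem _ hd'C 3) hd'9,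
        (hd'h.pow_left 3).eq⟩
    rw [hKeq, ← mem_powers_iff_mem_zpowers] at hd'K
    obtain ⟨j, hj⟩ := (Submonoid.mem_powers_iff _ _).mp hd'K
    rw [pow_eq_pow_mod j (hE₀e _ hh3E)] at hj
    have hj3 : j % 3 = 0 ∨ j % 3 = 1 ∨ j % 3 = 2 := by omega
    rcases hj3 with hj3 | hj3 | hj3
    · rw [hj3, pow_zero] at hj
      exact hd'3 hj.symm
    · rw [hj3, pow_one] at hj
      have h1 : (h * d'⁻¹) ^ 3 = 1 := by
        rw [(hd'h.symm.inv_right).mul_pow, inv_pow, ← hj, mul_inv_cancel]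
      have h2 := hΩ _ h1
      apply hhC
      have : h = (h * d'⁻¹) * d' := by group
      rw [this]
      exact Subgroup.mul_mem _ h2 hd'C
    · rw [hj3] at hj
      have h1 : (h * d') ^ 3 = 1 := by
        rw [hd'h.symm.mul_pow, ← hj, ← pow_mul, ← pow_add]
        have : 3 + 3 * 2 = 3 * 3 := by norm_num
        rw [this, pow_mul, hE₀e _ hh3E]
      have h2 := hΩ _ h1
      apply hhC
      have : h = (h * d') * d'⁻¹ := by group
      rw [this]
      exact Subgroup.mul_mem _ h2 (Subgroup.inv_mem _ hd'C)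
  -- the centralizer of `h` has order at most nine
  have hD : Nat.card ↥(Subgroup.centralizer {h} ⊓ Subgroup.centralizer (E₀ : Set G)) ≤ 3 := by
    refine le_trans (Subgroup.card_le_of_le ?_) hKcard
    intro d hd
    rw [Subgroup.mem_inf, Subgroup.mem_centralizer_singleton_iff] at hd
    rw [hK, Subgroup.mem_inf, Subgroup.mem_centralizer_singleton_iff]
    exact ⟨mem_of_pow_eq_one hrk hE₀c hE₀e hd.2 (hkey d hd.2 hd.1), hd.1⟩
  have hCh : Nat.card ↥(Subgroup.centralizer ({h} : Set G)) ≤ 9 := by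
    have h1 := Subgroup.relIndex_mul_relIndex ⊥
      (Subgroup.centralizer {h} ⊓ Subgroup.centralizer (E₀ : Set G))
      (Subgroup.centralizer ({h} : Set G)) bot_le inf_le_left
    rw [Subgroup.relIndex_bot_left, Subgroup.relIndex_bot_left, Subgroup.inf_relIndex_left] at h1
    have h2 : (Subgroup.centralizer (E₀ : Set G)).relIndex (Subgroup.centralizer ({h} : Set G)) ≤ 3 := by
      have := Subgroup.relIndex_dvd_index_of_normal (Subgroup.centralizer (E₀ : Set G))
        (Subgroup.centralizer ({h} : Set G))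
      rw [hidx] at this
      exact Nat.le_of_dvd (by norm_num) this
    rw [← h1]
    calc _ ≤ 3 * 3 := Nat.mul_le_mul hD h2
      _ = 9 := by norm_num
  have hAeq : Subgroup.zpowers h = Subgroup.centralizer ({h} : Set G) := by
    apply Subgroup.eq_of_le_of_card_ge
    · rw [Subgroup.zpowers_le, Subgroup.mem_centralizer_singleton_iff]
    · rw [Nat.card_zpowers, hhord]; exact hCh
  apply Cfsg.Agent.Lib.Lead.nilpotencyClass_of_self_centralizing_sq n G hn (Subgroup.zpowers h)
    (by rw [Nat.card_zpowers, hhord])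
  apply le_antisymm
  · intro c hc
    rw [hAeq, Subgroup.mem_centralizer_singleton_iff]
    exact (Subgroup.mem_centralizer_iff.mp hc h (Subgroup.mem_zpowers h)).symm
  · exact Subgroup.le_centralizer _

end lemmaF

end Cfsg.Agent.Lib.Helper7.Blk
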