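import Mathlib
import Cfsg.Prelude.Def_CaseTheorems
import Cfsg.Agent.Lib.Helper7.Blk10

set_option autoImplicit false
set_option linter.style.haveILetI false
set_option linter.unusedSectionVars false

/-! Blackburn's theorem, part 11: a normal subgroup of order `p ^ 2` is central modulo a central
subgroup of order `p`; subgroups of exponent `p` have order at most `p ^ 3`; the subgroup
`E₀ ⟨x⟩` for `p = 3`. -/

namespace Cfsg.Agent.Lib.Helper7.Blk

open scoped commutatorElement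
open Cfsg

universe u

section sq

variable {G : Type u} [Group G] [Finite G] {p : ℕ} [hp : Fact p.Prime]

theorem exists_central_sq (hG : IsPGroup p G) (Y : Subgroup G) [hYn : Y.Normal]
    (hYcard : Nat.card Y = p ^ 2) :
    ∃ Z : Subgroup G, Z ≤ Subgroup.center G ∧ Z ≤ Y ∧ Nat.card Z = p ∧
      ∀ y ∈ Y, ∀ g : G, y⁻¹ * g⁻¹ * y * g ∈ Z := by
  classical
  have hp1 := hp.out.one_lt
  haveI : Group.IsNilpotent G := hG.isNilpotent
  have hYbot : (⊥ : Subgroup G) < Y := by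
    rw [bot_lt_iff_ne_bot]
    intro h
    rw [h, Subgroup.card_bot] at hYcard
    have : 1 < p ^ 2 := Nat.one_lt_pow (by norm_num) hp1
    omega
  obtain ⟨Z, -, hZn, -, hZY, hZidx, -, -, -⟩ :=
    Cfsg.Agent.Lib.Lead.exists_normal_relIndex_p_le hG ⊥ Y hYbot
  haveI := hZn
  have hZcard : Nat.card Z = p := by rw [← Subgroup.relIndex_bot_left]; exact hZidx
  have hZne : Z ≠ ⊥ := by
    intro h
    rw [h, Subgroup.card_bot] at hZcard
    omega
  have hZcen : Z ≤ Subgroup.center G := by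
    have h1 := Cfsg.Agent.Lib.Lead.inf_center_ne_bot Z hZne
    have h2 : Z ⊓ Subgroup.center G = Z := by
      apply Subgroup.eq_of_le_of_card_ge inf_le_left
      have h3 : Nat.card ↥(Z ⊓ Subgroup.center G) ∣ p := by
        rw [← hZcard]; exact Subgroup.card_dvd_of_le inf_le_left
      rcases (Nat.dvd_prime hp.out).mp h3 with h4 | h4
      · exact absurd (Subgroup.card_eq_one.mp h4) h1
      · rw [hZcard, h4]
    rw [← h2]; exact inf_le_right
  have hZltY : Z < Y := by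
    refine lt_of_le_of_ne hZY ?_
    intro h
    rw [h, hYcard] at hZcard
    have : p ^ 2 = p ^ 1 := by rw [pow_one]; exact hZcard
    have := Nat.pow_right_injective hp.out.two_le this
    omega
  obtain ⟨Y₂, e', -, -, hY₂Y, -, he'Y, he'Z, he'⟩ :=
    Cfsg.Agent.Lib.Lead.exists_normal_relIndex_p_le hG Z Y hZltY
  have hZmem : ∀ z ∈ Z, ∀ g : G, g * z = z * g := fun z hz g =>
    Subgroup.mem_center_iff.mp (hZcen hz) g
  let Y' : Subgroup G :=
    { carrier := {y | y ∈ Y ∧ ∀ g : G, y⁻¹ * g⁻¹ * y * g ∈ Z}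
      one_mem' := ⟨Y.one_mem, fun g => by simp [Z.one_mem]⟩
      mul_mem' := by
        rintro a b ⟨ha, ha'⟩ ⟨hb, hb'⟩
        refine ⟨Y.mul_mem ha hb, fun g => ?_⟩
        have e1 : (a * b)⁻¹ * g⁻¹ * (a * b) * g =
            b⁻¹ * (a⁻¹ * g⁻¹ * a * g) * b * (b⁻¹ * g⁻¹ * b * g) := by group
        rw [e1]
        have h1 : b⁻¹ * (a⁻¹ * g⁻¹ * a * g) * b = a⁻¹ * g⁻¹ * a * g := by
          rw [mul_assoc, ← hZmem _ (ha' g) b, ← mul_assoc, inv_mul_cancel, one_mul]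
        rw [h1]
        exact Z.mul_mem (ha' g) (hb' g)
      inv_mem' := by
        rintro a ⟨ha, ha'⟩
        refine ⟨Y.inv_mem ha, fun g => ?_⟩
        have e1 : a⁻¹⁻¹ * g⁻¹ * a⁻¹ * g = a * (a⁻¹ * g⁻¹ * a * g)⁻¹ * a⁻¹ := by group
        rw [e1]
        have h1 : a * (a⁻¹ * g⁻¹ * a * g)⁻¹ * a⁻¹ = (a⁻¹ * g⁻¹ * a * g)⁻¹ := by
          rw [hZmem _ (Z.inv_mem (ha' g)) a, mul_assoc, mul_inv_cancel, mul_one]
        rw [h1]
        exact Z.inv_mem (ha' g) }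
  have hY'Y : Y' ≤ Y := fun y hy => hy.1
  have hZY' : Z ≤ Y' := by
    intro z hz
    refine ⟨hZY hz, fun g => ?_⟩
    have : z⁻¹ * g⁻¹ * z * g = 1 := by
      have h0 := hZmem z hz g⁻¹
      calc z⁻¹ * g⁻¹ * z * g = z⁻¹ * (g⁻¹ * z) * g := by group
        _ = z⁻¹ * (z * g⁻¹) * g := by rw [h0]
        _ = 1 := by group
    rw [this]; exact Z.one_mem
  have he'Y' : e' ∈ Y' := by
    refine ⟨hY₂Y he'Y, fun g => ?_⟩
    have h1 := he' g⁻¹
    have e1 : e'⁻¹ * g⁻¹ * e' * g = e'⁻¹ * ⁅e', g⁻¹⁆⁻¹ * e' := by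
      rw [commutatorElement_def]; group
    rw [e1]
    have h2 : e'⁻¹ * ⁅e', g⁻¹⁆⁻¹ * e' = ⁅e', g⁻¹⁆⁻¹ := by
      rw [mul_assoc, ← hZmem _ (Z.inv_mem h1) e', ← mul_assoc, inv_mul_cancel, one_mul]
    rw [h2]
    exact Z.inv_mem h1
  have hY'eq : Y' = Y := by
    apply Subgroup.eq_of_le_of_card_ge hY'Y
    have hlt : Z < Y' := lt_of_le_of_ne hZY' (fun h => he'Z (h ▸ he'Y'))
    have h1 : Nat.card Z < Nat.card Y' := by
      apply lt_of_le_of_ne (Subgroup.card_le_of_le hZY')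
      intro h
      exact hlt.ne (Subgroup.eq_of_le_of_card_ge hZY' h.ge)
    obtain ⟨k, hk⟩ := IsPGroup.iff_card.mp (hG.to_subgroup Y')
    rw [hZcard, hk] at h1
    rw [hYcard, hk]
    have : 1 < k := by
      by_contra hcon
      push Not at hcon
      have : p ^ k ≤ p ^ 1 := Nat.pow_le_pow_right hp.out.pos hcon
      rw [pow_one] at this
      omega
    exact Nat.pow_le_pow_right hp.out.pos this
  refine ⟨Z, hZcen, hZY, hZcard, ?_⟩
  intro y hy g
  have : y ∈ Y' := by rw [hY'eq]; exact hy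
  exact this.2 g

/-- subgroups of exponent `p` have order at most `p ^ 3`. -/
theorem card_le_cube (hG : IsPGroup p G) (hrk : PRankLE p 2 G) (E₀ : Subgroup G) [E₀.Normal]
    (hE₀c : Nat.card E₀ = p ^ 2) (hE₀e : ∀ e ∈ E₀, e ^ p = 1) (W : Subgroup G)
    (hWe : ∀ w ∈ W, w ^ p = 1) : Nat.card W ≤ p ^ 3 := by
  haveI : (Subgroup.centralizer (E₀ : Set G)).Normal := Subgroup.normal_centralizer
  have h1 := Subgroup.relIndex_mul_relIndex ⊥ (W ⊓ Subgroup.centralizer (E₀ : Set G)) W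
    bot_le inf_le_left
  rw [Subgroup.relIndex_bot_left, Subgroup.relIndex_bot_left, Subgroup.inf_relIndex_left] at h1
  have h2 : (Subgroup.centralizer (E₀ : Set G)).relIndex W ≤ p := by
    have h3 := Subgroup.relIndex_dvd_index_of_normal (Subgroup.centralizer (E₀ : Set G)) W
    have h4 := index_cent_le hG E₀ hE₀c
    have h5 : (Subgroup.centralizer (E₀ : Set G)).index ≠ 0 := Subgroup.index_ne_zero_of_finite
    exact (Nat.le_of_dvd (Nat.pos_of_ne_zero h5) h3).trans h4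
  have h6 : Nat.card ↥(W ⊓ Subgroup.centralizer (E₀ : Set G)) ≤ p ^ 2 := by
    rw [← hE₀c]
    apply Subgroup.card_le_of_le
    intro t ht
    rw [Subgroup.mem_inf] at ht
    exact mem_of_pow_eq_one hrk hE₀c hE₀e ht.2 (hWe t ht.1)
  rw [← h1, pow_succ]
  exact Nat.mul_le_mul h6 h2

end sq

section three

variable {G : Type u} [Group G] [Finite G]

/-- for `p = 3`: the subgroup `E₀ ⟨x⟩`. -/
theorem sup_zpowers (hG : IsPGroup 3 G) (hrk : PRankLE 3 2 G) (E₀ : Subgroup G) [hE₀n : E₀.Normal]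
    (hE₀c : Nat.card E₀ = 3 ^ 2) (hE₀e : ∀ e ∈ E₀, e ^ 3 = 1) {x : G} (hx3 : x ^ 3 = 1)
    (hxC : x ∉ Subgroup.centralizer (E₀ : Set G)) :
    Nat.card ↥(E₀ ⊔ Subgroup.zpowers x) = 3 ^ 3 ∧ (∀ e ∈ E₀ ⊔ Subgroup.zpowers x, e ^ 3 = 1) ∧
      ¬ IsMulCommutative ↥(E₀ ⊔ Subgroup.zpowers x) := by
  haveI : Fact (Nat.Prime 3) := ⟨Nat.prime_three⟩
  have hE₀ab : IsMulCommutative E₀ := IsPGroup.isMulCommutative_of_card_eq_prime_sq hE₀c
  have hE₀comm : ∀ a ∈ E₀, ∀ b ∈ E₀, a * b = b * a := fun a ha b hb =>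
    Subgroup.mem_centralizer_iff.mp (Subgroup.le_centralizer E₀ hb) a ha
  obtain ⟨Z, hZc, hZE, -, hYZ⟩ := exists_central_sq hG E₀ hE₀c
  have hZmem : ∀ z ∈ Z, ∀ g : G, g * z = z * g := fun z hz g =>
    Subgroup.mem_center_iff.mp (hZc hz) g
  have hexp : ∀ e ∈ E₀ ⊔ Subgroup.zpowers x, e ^ 3 = 1 := by
    intro t ht
    have h1 : t ∈ ((E₀ ⊔ Subgroup.zpowers x : Subgroup G) : Set G) := ht
    rw [Subgroup.normal_mul] at h1
    obtain ⟨e, he, x', hx', rfl⟩ := Set.mem_mul.mp h1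
    have hx'3 : x' ^ 3 = 1 := by
      obtain ⟨k, rfl⟩ := Subgroup.mem_zpowers_iff.mp hx'
      rw [← zpow_natCast, ← zpow_mul, mul_comm, zpow_mul, zpow_natCast, hx3, one_zpow]
    -- `e * x' = x' * e'`
    have he' : x'⁻¹ * e * x'⁻¹⁻¹ ∈ E₀ := hE₀n.conj_mem e he x'⁻¹
    have e1 : e * x' = x' * (x'⁻¹ * e * x'⁻¹⁻¹) := by group
    rw [e1]
    set e' := x'⁻¹ * e * x'⁻¹⁻¹ with he'def
    have hd : dl x' e' ∈ Z := hYZ e' he' x'
    have hdd : dl x' (dl x' e') = 1 := by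
      unfold dl
      have := hZmem _ hd x'⁻¹
      unfold dl at this
      calc (e'⁻¹ * x'⁻¹ * e' * x')⁻¹ * x'⁻¹ * (e'⁻¹ * x'⁻¹ * e' * x') * x'
          = (e'⁻¹ * x'⁻¹ * e' * x')⁻¹ * (x'⁻¹ * (e'⁻¹ * x'⁻¹ * e' * x')) * x' := by group
        _ = (e'⁻¹ * x'⁻¹ * e' * x')⁻¹ * ((e'⁻¹ * x'⁻¹ * e' * x') * x'⁻¹) * x' := by rw [this]
        _ = 1 := by group
    have hdE : dl x' e' ∈ E₀ := hZE hd
    rw [cube_formula' (hE₀comm _ hdE _ he') (by rw [hdd, one_mul, mul_one])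
      (by rw [hdd, one_mul, mul_one]) (hE₀e _ hdE), hx'3, hE₀e _ he', hdd]
    group
  have hxE : x ∈ E₀ ⊔ Subgroup.zpowers x :=
    (le_sup_right : Subgroup.zpowers x ≤ _) (Subgroup.mem_zpowers x)
  have hle := card_le_cube hG hrk E₀ hE₀c hE₀e (E₀ ⊔ Subgroup.zpowers x) hexp
  have hlt : Nat.card E₀ < Nat.card ↥(E₀ ⊔ Subgroup.zpowers x) := by
    apply lt_of_le_of_ne (Subgroup.card_le_of_le le_sup_left)
    intro h
    have h2 : E₀ = E₀ ⊔ Subgroup.zpowers x := Subgroup.eq_of_le_of_card_ge le_sup_left h.ge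
    apply hxC
    have : x ∈ E₀ := by rw [h2]; exact hxE
    exact Subgroup.le_centralizer E₀ this
  refine ⟨?_, hexp, ?_⟩
  · obtain ⟨k, hk⟩ := IsPGroup.iff_card.mp (hG.to_subgroup (E₀ ⊔ Subgroup.zpowers x))
    rw [hk] at hle hlt ⊢
    rw [hE₀c] at hlt
    have h1 := (Nat.pow_le_pow_iff_right (by norm_num : 1 < 3)).mp hle
    have h2 := (Nat.pow_lt_pow_iff_right (by norm_num : 1 < 3)).mp hlt
    have : k = 3 := by omega
    rw [this]
  · intro hcomm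
    apply hxC
    rw [Subgroup.mem_centralizer_iff]
    intro e he
    have := hcomm.is_comm.comm ⟨e, (le_sup_left : E₀ ≤ _) he⟩ ⟨x, hxE⟩
    exact congrArg Subtype.val this

end three

end Cfsg.Agent.Lib.Helper7.Blk
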