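import Mathlib
import Cfsg.Prelude.Def_Blocks
import Cfsg.Agent.Lib.Helper8.BlockLocal
import Cfsg.Agent.Lib.Lead.BrandtDefs

/-!
# S4607 (Brandt) swarm, package B2 (helper7): residues vs. complex ranks
`linearIndependent_of_res` and `finrank_corner_eq`, exact stub signatures
(`notes/S4607_stub.lean.txt`).
-/

set_option autoImplicit false

open Cfsg Cfsg.Agent.Lib.Helper8

namespace Cfsg.Agent.Lib.Helper7.BrandtB2

open Cfsg.Agent.Lib.Lead.Brandt

section B2
variable {M : Ideal AlgInt} (hMp : M.IsPrime) {k : Type*} [Field k]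
  (res : ↥(localRing M hMp) →+* k)
  {G : Type*} [Group G] [Fintype G]

/-- B2 (RI): independent residues ⇒ independent over `ℂ` -/
theorem linearIndependent_of_res' (hres : Function.Surjective res) {σ : Type*} [Fintype σ]
    {m : ℕ} (v : Fin m → σ → ↥(localRing M hMp))
    (h : LinearIndependent k (fun i => (fun s => res (v i s)))) :
    LinearIndependent ℂ (fun i => (fun s => ((v i s : ↥(localRing M hMp)) : ℂ))) := by
  classical
  set r : Fin m → σ → k := fun i s => res (v i s) with hr
  have hinj : Function.Injective (Fintype.linearCombination k r) :=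
    h.fintypeLinearCombination_injective
  obtain ⟨g, hg⟩ := LinearMap.exists_leftInverse_of_injective (Fintype.linearCombination k r)
    (LinearMap.ker_eq_bot.2 hinj)
  -- lift the matrix of `g`
  choose B hB using fun (s : σ) (j : Fin m) => hres (g (Pi.single s 1) j)
  let A : Matrix (Fin m) (Fin m) ↥(localRing M hMp) := fun i j => ∑ s, v i s * B s j
  have hgr : ∀ i, g (r i) = Pi.single i 1 := by
    intro i
    have h1 : Fintype.linearCombination k r (Pi.single i 1) = r i := by
      rw [Fintype.linearCombination_apply]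
      simp [Pi.single_apply]
    rw [← h1]
    exact LinearMap.congr_fun hg (Pi.single i 1)
  have hA : ∀ i j, res (A i j) = (1 : Matrix (Fin m) (Fin m) k) i j := by
    intro i j
    have h1 : res (A i j) = ∑ s, r i s * g (Pi.single s 1) j := by
      simp only [A, map_sum, map_mul, hB, hr]
    have h2 : r i = ∑ s, r i s • (Pi.single s 1 : σ → k) := by
      ext s'
      simp [Pi.single_apply]
    have h3 : g (r i) j = ∑ s, r i s * g (Pi.single s 1) j := by
      conv_lhs => rw [h2]
      simp [map_sum]
    rw [h1, ← h3, hgr i, Matrix.one_apply, Pi.single_apply]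
    by_cases hij : i = j
    · simp [hij]
    · simp [hij, Ne.symm hij]
  have hdet : A.det ≠ 0 := by
    intro h0
    have h1 : (res.mapMatrix A).det = 0 := by
      rw [← RingHom.map_det, h0, map_zero]
    have h2 : res.mapMatrix A = 1 := by
      ext i j
      simp [hA i j]
    rw [h2, Matrix.det_one] at h1
    exact one_ne_zero h1
  -- over `ℂ`
  let ι : ↥(localRing M hMp) →+* ℂ := (localRing M hMp).subtype
  have hdetC : (ι.mapMatrix A).det ≠ 0 := by
    rw [← RingHom.map_det]
    intro h0
    exact hdet (Subtype.ext h0)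
  rw [Fintype.linearIndependent_iff]
  intro c hc
  have hvm : Matrix.vecMul c (ι.mapMatrix A) = 0 := by
    ext j
    have h1 : ∀ s, ∑ i, c i * ((v i s : ↥(localRing M hMp)) : ℂ) = 0 := by
      intro s
      have h2 := congrFun hc s
      simpa [Finset.sum_apply] using h2
    have hAC : ∀ i j, ι.mapMatrix A i j = ∑ s, ι (v i s) * ι (B s j) := by
      intro i j
      show ι (A i j) = _
      simp only [A, map_sum, map_mul]
    simp only [Matrix.vecMul, dotProduct, hAC, Pi.zero_apply]
    calc ∑ i, c i * ∑ s, ι (v i s) * ι (B s j)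
        = ∑ s, (∑ i, c i * ι (v i s)) * ι (B s j) := by
          simp only [Finset.mul_sum, Finset.sum_mul]
          rw [Finset.sum_comm]
          refine Finset.sum_congr rfl fun s _ => Finset.sum_congr rfl fun i _ => ?_
          ring
      _ = 0 := by
          refine Finset.sum_eq_zero fun s _ => ?_
          have h2 := h1 s
          have h3 : ∑ i, c i * ι (v i s) = 0 := h2
          rw [h3, zero_mul]
  have hc0 := Matrix.eq_zero_of_vecMul_eq_zero hdetC hvm
  intro i
  exact congrFun hc0 i

/-- coefficient functions, as a linear equivalence -/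
noncomputable def coeffFun (F : Type*) [Field F] (G : Type*) [Group G] [Fintype G] :
    MonoidAlgebra F G ≃ₗ[F] (G → F) :=
  (MonoidAlgebra.coeffLinearEquiv F).trans (Finsupp.linearEquivFunOnFinite F F G)

theorem coeffFun_apply (F : Type*) [Field F] (x : MonoidAlgebra F G) (g : G) :
    coeffFun F G x g = x.coeff g := rfl

/-- RI for elements of the group algebra -/
theorem linearIndependent_map_of_res (hres : Function.Surjective res) {m : ℕ}
    (V : Fin m → MonoidAlgebra ↥(localRing M hMp) G)
    (h : LinearIndependent k (fun i => MonoidAlgebra.mapRingHom G res (V i))) :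
    LinearIndependent ℂ
      (fun i => MonoidAlgebra.mapRingHom G (localRing M hMp).subtype (V i)) := by
  have h1 : LinearIndependent k (fun i => (fun g => res ((V i).coeff g))) := by
    have h2 := h.map' (coeffFun k G).toLinearMap (LinearEquiv.ker _)
    have h3 : (fun i => (fun g => res ((V i).coeff g))) =
        (coeffFun k G).toLinearMap ∘ (fun i => MonoidAlgebra.mapRingHom G res (V i)) := by
      funext i g
      simp [coeffFun_apply]
    rw [h3]
    exact h2
  have h3 := linearIndependent_of_res' hMp res hres (fun i g => (V i).coeff g) h1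
  apply LinearIndependent.of_comp (coeffFun ℂ G).toLinearMap
  have h4 : (coeffFun ℂ G).toLinearMap ∘
      (fun i => MonoidAlgebra.mapRingHom G (localRing M hMp).subtype (V i)) =
      (fun i => (fun g => (((V i).coeff g : ↥(localRing M hMp)) : ℂ))) := by
    funext i g
    simp [coeffFun_apply]
  rw [h4]
  exact h3

/-- residue spans are not bigger than complex spans -/
theorem finrank_span_map_le (hres : Function.Surjective res)
    (S : Set (MonoidAlgebra ↥(localRing M hMp) G)) :
    Module.finrank k (Submodule.span k (MonoidAlgebra.mapRingHom G res '' S)) ≤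
      Module.finrank ℂ (Submodule.span ℂ
        (MonoidAlgebra.mapRingHom G (localRing M hMp).subtype '' S)) := by
  obtain ⟨f, hfS, -, hLI⟩ :=
    Submodule.exists_fun_fin_finrank_span_eq k (MonoidAlgebra.mapRingHom G res '' S)
  choose V hVS hVf using hfS
  have h1 : LinearIndependent k (fun i => MonoidAlgebra.mapRingHom G res (V i)) := by
    have h2 : (fun i => MonoidAlgebra.mapRingHom G res (V i)) = f := funext hVf
    rw [h2]
    exact hLI
  have h2 := linearIndependent_map_of_res hMp res hres V h1
  set W := Submodule.span ℂ (MonoidAlgebra.mapRingHom G (localRing M hMp).subtype '' S) with hW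
  have hmem : ∀ i, MonoidAlgebra.mapRingHom G (localRing M hMp).subtype (V i) ∈ W :=
    fun i => Submodule.subset_span ⟨V i, hVS i, rfl⟩
  have h3 : LinearIndependent ℂ (fun i => (⟨_, hmem i⟩ : W)) :=
    LinearIndependent.of_comp W.subtype h2
  have h4 := h3.fintype_card_le_finrank
  simpa using h4

section idem
variable {F : Type*} [Field F] (e : MonoidAlgebra F G)

/-- `x ↦ e x e` -/
noncomputable def piE : MonoidAlgebra F G →ₗ[F] MonoidAlgebra F G :=
  (LinearMap.mulLeft F e).comp (LinearMap.mulRight F e)

omit [Fintype G] in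
theorem piE_apply (x : MonoidAlgebra F G) : piE e x = e * (x * e) := rfl

omit [Fintype G] in
theorem corner_eq_range : corner F e = LinearMap.range (piE e) := rfl

omit [Group G] [Fintype G] in
theorem range_le_span (f : MonoidAlgebra F G →ₗ[F] MonoidAlgebra F G)
    (T : Set (MonoidAlgebra F G)) (hT : ∀ g : G, f (MonoidAlgebra.single g 1) ∈ T) :
    LinearMap.range f ≤ Submodule.span F T := by
  have h1 : LinearMap.range f = Submodule.span F (f '' Set.range (MonoidAlgebra.basis G F)) := by
    rw [← Submodule.map_span, (MonoidAlgebra.basis G F).span_eq, Submodule.map_top]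
  rw [h1]
  apply Submodule.span_mono
  rintro _ ⟨_, ⟨g, rfl⟩, rfl⟩
  rw [MonoidAlgebra.basis_apply]
  exact hT g

omit [Group G] in
theorem finrank_eq_card' : Module.finrank F (MonoidAlgebra F G) = Fintype.card G :=
  Module.finrank_eq_card_basis (MonoidAlgebra.basis G F)

end idem

/-- B2 (corner ranks agree) -/
theorem finrank_corner_eq' (hres : Function.Surjective res)
    (ê : MonoidAlgebra ↥(localRing M hMp) G) (hê : IsIdempotentElem ê) :
    Module.finrank ℂ ↥(corner ℂ (MonoidAlgebra.mapRingHom G (localRing M hMp).subtype ê)) =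
      Module.finrank k ↥(corner k (MonoidAlgebra.mapRingHom G res ê)) := by
  classical
  set ΦC := MonoidAlgebra.mapRingHom G (localRing M hMp).subtype with hΦC
  set Φk := MonoidAlgebra.mapRingHom G res with hΦk
  set eC := ΦC ê with heC
  set ek := Φk ê with hek
  have heCi : eC * eC = eC := by rw [heC, ← map_mul, hê.eq]
  have heki : ek * ek = ek := by rw [hek, ← map_mul, hê.eq]
  -- the two families
  set S₁ : Set (MonoidAlgebra ↥(localRing M hMp) G) := Set.range (fun x => ê * (x * ê)) with hS₁
  set S₂ : Set (MonoidAlgebra ↥(localRing M hMp) G) :=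
    Set.range (fun x => x - ê * (x * ê)) with hS₂
  -- (i) corner over k is inside the span
  have hi : corner k ek ≤ Submodule.span k (Φk '' S₁) := by
    rw [corner_eq_range]
    refine range_le_span (piE ek) _ (fun g => ?_)
    refine ⟨ê * (MonoidAlgebra.single g 1 * ê), ⟨_, rfl⟩, ?_⟩
    rw [piE_apply, map_mul, map_mul, hΦk, MonoidAlgebra.mapRingHom_single, map_one]
  -- (ii) the kernel over k is inside the span
  have hii : LinearMap.ker (piE ek) ≤ Submodule.span k (Φk '' S₂) := by
    intro y hy
    have h1 : y = ((LinearMap.id : MonoidAlgebra k G →ₗ[k] MonoidAlgebra k G) - piE ek) y := by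
      rw [LinearMap.sub_apply, LinearMap.id_apply, LinearMap.mem_ker.1 hy, sub_zero]
    have h2 : LinearMap.range ((LinearMap.id : MonoidAlgebra k G →ₗ[k] MonoidAlgebra k G) - piE ek) ≤
        Submodule.span k (Φk '' S₂) := by
      refine range_le_span _ _ (fun g => ?_)
      refine ⟨MonoidAlgebra.single g 1 - ê * (MonoidAlgebra.single g 1 * ê), ⟨_, rfl⟩, ?_⟩
      rw [LinearMap.sub_apply, LinearMap.id_apply, piE_apply, map_sub, map_mul, map_mul, hΦk,
        MonoidAlgebra.mapRingHom_single, map_one]
    rw [h1]
    exact h2 ⟨y, rfl⟩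
  -- (iii), (iv) over ℂ
  have hiii : Submodule.span ℂ (ΦC '' S₁) ≤ corner ℂ eC := by
    rw [Submodule.span_le]
    rintro _ ⟨_, ⟨x, rfl⟩, rfl⟩
    rw [SetLike.mem_coe, mem_corner]
    exact ⟨ΦC x, by rw [map_mul, map_mul, mul_assoc]⟩
  have hiv : Submodule.span ℂ (ΦC '' S₂) ≤ LinearMap.ker (piE eC) := by
    rw [Submodule.span_le]
    rintro _ ⟨_, ⟨x, rfl⟩, rfl⟩
    rw [SetLike.mem_coe, LinearMap.mem_ker, piE_apply, map_sub, map_mul, map_mul]
    show eC * ((ΦC x - eC * (ΦC x * eC)) * eC) = 0
    have h1 : eC * ((ΦC x - eC * (ΦC x * eC)) * eC) =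
        eC * (ΦC x * eC) - (eC * eC) * (ΦC x * (eC * eC)) := by
      noncomm_ring
    rw [h1, heCi, sub_self]
  -- dimension count
  have hk := LinearMap.finrank_range_add_finrank_ker (piE ek)
  have hC := LinearMap.finrank_range_add_finrank_ker (piE eC)
  rw [finrank_eq_card'] at hk hC
  have h1 := Submodule.finrank_mono hi
  have h2 := Submodule.finrank_mono hii
  have h3 := Submodule.finrank_mono hiii
  have h4 := Submodule.finrank_mono hiv
  have h5 : Module.finrank k (Submodule.span k (Φk '' S₁)) ≤
      Module.finrank ℂ (Submodule.span ℂ (ΦC '' S₁)) := finrank_span_map_le hMp res hres S₁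
  have h6 : Module.finrank k (Submodule.span k (Φk '' S₂)) ≤
      Module.finrank ℂ (Submodule.span ℂ (ΦC '' S₂)) := finrank_span_map_le hMp res hres S₂
  rw [corner_eq_range] at h1 h3 ⊢
  rw [corner_eq_range]
  omega

end B2

end Cfsg.Agent.Lib.Helper7.BrandtB2

namespace Cfsg.Agent.Lib.Lead.Brandt

section B
variable {M : Ideal AlgInt} (hMp : M.IsPrime) {k : Type*} [Field k]
  (res : ↥(localRing M hMp) →+* k)
  {G : Type*} [Group G] [Fintype G]

/-- B2 (RI): independent residues ⇒ independent over `ℂ` -/
theorem linearIndependent_of_res (hres : Function.Surjective res) {σ : Type*} [Fintype σ]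
    {m : ℕ} (v : Fin m → σ → ↥(localRing M hMp))
    (h : LinearIndependent k (fun i => (fun s => res (v i s)))) :
    LinearIndependent ℂ (fun i => (fun s => ((v i s : ↥(localRing M hMp)) : ℂ))) :=
  Cfsg.Agent.Lib.Helper7.BrandtB2.linearIndependent_of_res' hMp res hres v h

/-- B2 (corner ranks agree) -/
theorem finrank_corner_eq (hres : Function.Surjective res)
    (ê : MonoidAlgebra ↥(localRing M hMp) G) (hê : IsIdempotentElem ê) :
    Module.finrank ℂ ↥(corner ℂ (MonoidAlgebra.mapRingHom G (localRing M hMp).subtype ê)) =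
      Module.finrank k ↥(corner k (MonoidAlgebra.mapRingHom G res ê)) :=
  Cfsg.Agent.Lib.Helper7.BrandtB2.finrank_corner_eq' hMp res hres ê hê

end B

end Cfsg.Agent.Lib.Lead.Brandt
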