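import Mathlib

set_option autoImplicit false
set_option linter.unusedSectionVars false
set_option linter.unusedVariables false

/-!
# Brauer's theorem on groups with a self-centralizing subgroup of prime order and few Sylow
subgroups, part 1: the normalizer of the subgroup
-/

namespace Cfsg.Agent.H7Brauer

open Subgroup

variable {G : Type*} [Group G] {p : ℕ} [hp : Fact p.Prime] {x : G}

/-- a nontrivial element of `⟨x⟩` generates it (`x` of prime order). -/
theorem zpowers_eq_of_mem (hx : orderOf x = p) {u : G} (hu : u ∈ zpowers x) (hu1 : u ≠ 1) :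
    zpowers u = zpowers x := by
  have hcard : Nat.card (zpowers x) = p := by rw [Nat.card_zpowers, hx]
  have h1 : (⟨u, hu⟩ : zpowers x) ≠ 1 := fun h => hu1 (congrArg Subtype.val h)
  have h2 := zpowers_eq_top_of_prime_card hcard h1
  have h3 := congrArg (Subgroup.map (zpowers x).subtype) h2
  rw [MonoidHom.map_zpowers, ← MonoidHom.range_eq_map, Subgroup.range_subtype] at h3
  exact h3

/-- an element commuting with a nontrivial element of `⟨x⟩` commutes with `x`. -/
theorem commute_gen_of_commute (hx : orderOf x = p) {u : G} (hu : u ∈ zpowers x) (hu1 : u ≠ 1)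
    {g : G} (hg : g * u = u * g) : g * x = x * g := by
  have h1 : x ∈ zpowers u := by rw [zpowers_eq_of_mem hx hu hu1]; exact mem_zpowers x
  obtain ⟨k, hk⟩ := mem_zpowers_iff.1 h1
  rw [← hk]
  exact ((Commute.zpow_right (show Commute g u from hg) k)).eq

variable (hx : orderOf x = p) (hself : ∀ g : G, g * x = x * g → g ∈ zpowers x)

include hx hself in
/-- `⟨x⟩` is a Sylow subgroup. -/
theorem card_sylow_eq [Finite G] (Q : Sylow p G) (hQ : zpowers x ≤ (Q : Subgroup G)) :
    (Q : Subgroup G) = zpowers x := by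
  have hxQ : x ∈ (Q : Subgroup G) := hQ (mem_zpowers x)
  haveI : Nontrivial (Q : Subgroup G) := by
    refine ⟨⟨⟨x, hxQ⟩, 1, ?_⟩⟩
    intro h
    have h1 : x = 1 := congrArg Subtype.val h
    rw [h1, orderOf_one] at hx
    exact hp.out.one_lt.ne hx
  obtain ⟨⟨c, hc⟩, c', hcc'⟩ := (Q.isPGroup'.center_nontrivial : Nontrivial (center (Q : Subgroup G)))
  -- a nontrivial central element
  obtain ⟨c, hc, hc1⟩ : ∃ c : (Q : Subgroup G), c ∈ center (Q : Subgroup G) ∧ c ≠ 1 := by
    by_cases h : (⟨c, hc⟩ : center (Q : Subgroup G)) = 1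
    · refine ⟨c', c'.2, ?_⟩
      intro h'
      apply hcc'
      rw [h]
      exact (Subtype.ext h').symm
    · exact ⟨c, hc, fun h' => h (Subtype.ext h')⟩
  have hcx : (c : G) * x = x * c := by
    have := (mem_center_iff.1 hc) ⟨x, hxQ⟩
    exact (congrArg Subtype.val this).symm
  have hcP : (c : G) ∈ zpowers x := hself _ hcx
  have hc1' : (c : G) ≠ 1 := fun h => hc1 (Subtype.ext h)
  apply le_antisymm _ hQ
  intro g hg
  apply hself
  -- `g` commutes with `c`, hence with `x`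
  have h1 : g * (c : G) = (c : G) * g := by
    have := (mem_center_iff.1 hc) ⟨g, hg⟩
    exact congrArg Subtype.val this
  exact commute_gen_of_commute hx hcP hc1' h1

include hx hself in
theorem not_sq_dvd [Finite G] : ¬ p ^ 2 ∣ Nat.card G := by
  have hPg : IsPGroup p (zpowers x) := IsPGroup.of_card (n := 1) (by rw [Nat.card_zpowers, hx, pow_one])
  obtain ⟨Q, hQ⟩ := hPg.exists_le_sylow
  have h1 := card_sylow_eq hx hself Q hQ
  have h2 : Nat.card (Q : Subgroup G) = p := by rw [h1, Nat.card_zpowers, hx]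
  intro hdvd
  have h3 := (Q : Subgroup G).card_mul_index
  rw [h2] at h3
  have h4 : ¬ p ∣ (Q : Subgroup G).index := Q.not_dvd_index
  apply h4
  rw [← h3, pow_two] at hdvd
  exact (Nat.mul_dvd_mul_iff_left hp.out.pos).1 hdvd

/-- the normalizer of `⟨x⟩`. -/
abbrev nrm (x : G) : Subgroup G := normalizer ((zpowers x : Subgroup G) : Set G)

theorem comm_of_mem_zpowers {a b : G} (ha : a ∈ zpowers x) (hb : b ∈ zpowers x) :
    a * b = b * a := by
  obtain ⟨i, rfl⟩ := mem_zpowers_iff.1 ha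
  obtain ⟨j, rfl⟩ := mem_zpowers_iff.1 hb
  exact ((Commute.refl x).zpow_zpow i j).eq

theorem zpowers_le_nrm : zpowers x ≤ nrm x := le_normalizer

theorem conj_mem_of_mem_nrm {g u : G} (hg : g ∈ nrm x) (hu : u ∈ zpowers x) :
    g * u * g⁻¹ ∈ zpowers x :=
  (mem_normalizer_iff.1 hg u).1 hu

theorem conj_mem_of_mem_nrm' {g u : G} (hg : g ∈ nrm x) (hu : u ∈ zpowers x) :
    g⁻¹ * u * g ∈ zpowers x := by
  have := conj_mem_of_mem_nrm (inv_mem hg) hu
  rwa [inv_inv] at this

include hx hself in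
/-- an element outside `⟨x⟩` commutes with no nontrivial element of `⟨x⟩`. -/
theorem eq_one_of_commute {g u : G} (hgP : g ∉ zpowers x) (hu : u ∈ zpowers x)
    (h : g * u = u * g) : u = 1 := by
  by_contra hu1
  exact hgP (hself g (commute_gen_of_commute hx hu hu1 h))

include hx hself in
/-- the `⟨x⟩`-conjugates of an element `g` of the normalizer outside `⟨x⟩` fill the coset
`g ⟨x⟩`. -/
theorem exists_conj_eq_mul [Finite G] {g : G} (hg : g ∈ nrm x) (hgP : g ∉ zpowers x) {u' : G}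
    (hu' : u' ∈ zpowers x) : ∃ u ∈ zpowers x, u * g * u⁻¹ = g * u' := by
  let φ : zpowers x → zpowers x := fun u =>
    ⟨g⁻¹ * (u : G) * g * (u : G)⁻¹, mul_mem (conj_mem_of_mem_nrm' hg u.2) (inv_mem u.2)⟩
  have hinj : Function.Injective φ := by
    intro u₁ u₂ h
    have h1 : g⁻¹ * (u₁ : G) * g * (u₁ : G)⁻¹ = g⁻¹ * (u₂ : G) * g * (u₂ : G)⁻¹ :=
      congrArg Subtype.val h
    -- `w = u₂⁻¹ u₁` commutes with `g`
    have hw : ((u₂ : G)⁻¹ * (u₁ : G)) ∈ zpowers x := mul_mem (inv_mem u₂.2) u₁.2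
    have ha : g⁻¹ * (u₁ : G) * g ∈ zpowers x := conj_mem_of_mem_nrm' hg u₁.2
    have hb : g⁻¹ * (u₂ : G) * g ∈ zpowers x := conj_mem_of_mem_nrm' hg u₂.2
    have h2 : (g⁻¹ * (u₂ : G) * g)⁻¹ * (g⁻¹ * (u₁ : G) * g) = (u₂ : G)⁻¹ * (u₁ : G) := by
      have h3 : g⁻¹ * (u₁ : G) * g = g⁻¹ * (u₂ : G) * g * (u₂ : G)⁻¹ * (u₁ : G) := by
        rw [← h1]; group
      rw [h3]; group
    have h4 : g * ((u₂ : G)⁻¹ * (u₁ : G)) = ((u₂ : G)⁻¹ * (u₁ : G)) * g := by
      have h5 : (g⁻¹ * (u₂ : G) * g)⁻¹ * (g⁻¹ * (u₁ : G) * g) = g⁻¹ * ((u₂ : G)⁻¹ * (u₁ : G)) * g := by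
        group
      rw [h5] at h2
      have : g * (g⁻¹ * ((u₂ : G)⁻¹ * (u₁ : G)) * g) = g * ((u₂ : G)⁻¹ * (u₁ : G)) := by rw [h2]
      rw [← this]; group
    have h6 := eq_one_of_commute hx hself hgP hw h4
    apply Subtype.ext
    have : (u₁ : G) = (u₂ : G) * ((u₂ : G)⁻¹ * (u₁ : G)) := by group
    rw [this, h6, mul_one]
  have hsurj := Finite.injective_iff_surjective.1 hinj
  obtain ⟨u, hu⟩ := hsurj ⟨u', hu'⟩
  refine ⟨u, u.2, ?_⟩
  have h1 : g⁻¹ * (u : G) * g * (u : G)⁻¹ = u' := congrArg Subtype.val hu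
  rw [← h1]; group

include hx hself in
/-- an involution of the normalizer outside `⟨x⟩` inverts `⟨x⟩`. -/
theorem conj_eq_inv_of_sq {y u : G} (hy : y ∈ nrm x) (hyP : y ∉ zpowers x) (hy2 : y * y = 1)
    (hu : u ∈ zpowers x) : y * u * y⁻¹ = u⁻¹ := by
  have hyi : y⁻¹ = y := inv_eq_of_mul_eq_one_left hy2
  have hc : y * u * y⁻¹ ∈ zpowers x := conj_mem_of_mem_nrm hy hu
  have hw : u * (y * u * y⁻¹) ∈ zpowers x := mul_mem hu hc
  have h1 : y * (u * (y * u * y⁻¹)) = (u * (y * u * y⁻¹)) * y := by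
    have h2 : y * (u * (y * u * y⁻¹)) = (y * u * y⁻¹) * u * y := by
      rw [hyi]
      calc y * (u * (y * u * y)) = y * u * y * u * y := by group
        _ = y * u * y * u * y := rfl
    rw [h2, comm_of_mem_zpowers hc hu]
  have h3 := eq_one_of_commute hx hself hyP hw h1
  exact (eq_inv_of_mul_eq_one_right h3)

/-! ### involutions of the normalizer -/

include hx in
/-- an involution does not lie in `⟨x⟩` (`p` odd). -/
theorem involution_notMem (hp2 : p ≠ 2) {w : G} (hw2 : w * w = 1) (hw1 : w ≠ 1) :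
    w ∉ zpowers x := by
  intro hw
  have h1 : orderOf w ∣ 2 := orderOf_dvd_of_pow_eq_one (by rw [pow_two, hw2])
  have h2 : orderOf w ∣ p := by
    have := orderOf_dvd_natCard (⟨w, hw⟩ : zpowers x)
    rw [Nat.card_zpowers, hx] at this
    rwa [Subgroup.orderOf_mk] at this
  have h3 : orderOf w ∣ Nat.gcd 2 p := Nat.dvd_gcd h1 h2
  have h4 : Nat.gcd 2 p = 1 := by
    rw [Nat.coprime_primes Nat.prime_two hp.out |>.2 (Ne.symm hp2)]
  rw [h4, Nat.dvd_one, orderOf_eq_one_iff] at h3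
  exact hw1 h3

include hx hself in
/-- the product of an involution of the normalizer with an element of `⟨x⟩` is an involution. -/
theorem involution_mul {y u : G} (hy : y ∈ nrm x) (hyP : y ∉ zpowers x) (hy2 : y * y = 1)
    (hu : u ∈ zpowers x) : (y * u) * (y * u) = 1 := by
  have hyi : y⁻¹ = y := inv_eq_of_mul_eq_one_left hy2
  have h1 := conj_eq_inv_of_sq hx hself hy hyP hy2 hu
  rw [hyi] at h1
  calc (y * u) * (y * u) = (y * u * y) * u := by group
    _ = u⁻¹ * u := by rw [h1]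
    _ = 1 := by group

include hx hself in
/-- the involutions of the normalizer form the coset `y ⟨x⟩`. -/
theorem involution_mem_coset (hp2 : p ≠ 2) {y w : G} (hy : y ∈ nrm x) (hyP : y ∉ zpowers x)
    (hy2 : y * y = 1) (hw : w ∈ nrm x) (hw2 : w * w = 1) (hw1 : w ≠ 1) :
    ∃ u ∈ zpowers x, w = y * u := by
  have hwP : w ∉ zpowers x := involution_notMem hx hp2 hw2 hw1
  have hyi : y⁻¹ = y := inv_eq_of_mul_eq_one_left hy2
  have hwi : w⁻¹ = w := inv_eq_of_mul_eq_one_left hw2
  refine ⟨y⁻¹ * w, ?_, by group⟩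
  apply hself
  have h1 := conj_eq_inv_of_sq hx hself hy hyP hy2 (mem_zpowers x)
  have h2 := conj_eq_inv_of_sq hx hself hw hwP hw2 (mem_zpowers x)
  rw [hyi] at h1 ⊢
  rw [hwi] at h2
  -- `w x w = x⁻¹`, `y x⁻¹ y = x`
  have h3 : y * x⁻¹ * y = x := by
    have : y * x⁻¹ * y = (y * x * y)⁻¹ := by
      have hh : (y * x * y)⁻¹ = y⁻¹ * x⁻¹ * y⁻¹ := by group
      rw [hh, hyi]
    rw [this, h1, inv_inv]
  have h4 : w * x = x⁻¹ * w := by
    have : w * x = (w * x * w) * w := by
      calc w * x = w * x * (w * w) := by rw [hw2, mul_one]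
        _ = (w * x * w) * w := by group
    rw [this, h2]
  calc y * w * x = y * (w * x) := by group
    _ = y * (x⁻¹ * w) := by rw [h4]
    _ = (y * x⁻¹ * y) * (y * w) := by
        have : (y * x⁻¹ * y) * (y * w) = y * x⁻¹ * (y * y) * w := by group
        rw [this, hy2]; group
    _ = x * (y * w) := by rw [h3]

include hx hself in
/-- all involutions of the normalizer are conjugate. -/
theorem isConj_involution [Finite G] {y u : G} (hy : y ∈ nrm x) (hyP : y ∉ zpowers x)
    (hu : u ∈ zpowers x) : IsConj y (y * u) := by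
  obtain ⟨u₀, _, h⟩ := exists_conj_eq_mul hx hself hy hyP hu
  exact isConj_iff.2 ⟨u₀, h⟩

/-! ### elements of order `p` -/

include hx hself in
/-- a conjugate of a nontrivial element of `⟨x⟩` lying in the normalizer lies in `⟨x⟩`, and the
conjugating element normalizes `⟨x⟩`. -/
theorem mem_nrm_of_conj_mem [Finite G] {u g : G} (hu : u ∈ zpowers x) (hu1 : u ≠ 1)
    (h : g⁻¹ * u * g ∈ nrm x) : g ∈ nrm x := by
  -- `⟨x⟩` as a Sylow subgroup
  have hcardP : Nat.card (zpowers x) = p := by rw [Nat.card_zpowers, hx]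
  have hsq := not_sq_dvd hx hself
  have hdvd : p ∣ Nat.card G := by
    rw [← hcardP]; exact card_subgroup_dvd_card _
  have hfac : (Nat.card G).factorization p = 1 := by
    have h1 : 1 ≤ (Nat.card G).factorization p :=
      (hp.out.dvd_iff_one_le_factorization Nat.card_pos.ne').1 hdvd
    have h2 : ¬ 2 ≤ (Nat.card G).factorization p := by
      intro h2
      apply hsq
      exact (hp.out.pow_dvd_iff_le_factorization Nat.card_pos.ne').2 h2
    omega
  let Q : Sylow p G := Sylow.ofCard (zpowers x) (by rw [hcardP, hfac, pow_one])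
  -- the conjugate `v`
  set v := g⁻¹ * u * g with hv
  have hvord : orderOf v = p := by
    have h1 : orderOf u = p := by
      have := zpowers_eq_of_mem hx hu hu1
      rw [← Nat.card_zpowers, this, Nat.card_zpowers, hx]
    have h2 : v = g⁻¹ * u * g⁻¹⁻¹ := by rw [inv_inv]
    have hsc : SemiconjBy g⁻¹ u v := by
      show g⁻¹ * u = v * g⁻¹
      rw [hv]; group
    rw [← hsc.orderOf_eq, h1]
  have hPg : IsPGroup p (zpowers v) :=
    IsPGroup.of_card (n := 1) (by rw [Nat.card_zpowers, hvord, pow_one])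
  have h1 := hPg.inf_normalizer_sylow Q
  have hvQ : v ∈ (Q : Subgroup G) := by
    have h2 : v ∈ zpowers v ⊓ (Q : Subgroup G) := by
      rw [← h1]
      exact ⟨mem_zpowers v, h⟩
    exact h2.2
  have hvP : v ∈ zpowers x := hvQ
  have hv1 : v ≠ 1 := by
    intro h
    rw [h, orderOf_one] at hvord
    exact hp.out.one_lt.ne hvord
  -- `⟨v⟩ = ⟨x⟩ = g⁻¹ ⟨u⟩ g`
  have hzv : zpowers v = zpowers x := zpowers_eq_of_mem hx hvP hv1
  have hzu : zpowers u = zpowers x := zpowers_eq_of_mem hx hu hu1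
  rw [mem_normalizer_iff]
  intro a
  -- conjugation by `g⁻¹` maps `⟨u⟩` onto `⟨v⟩`
  have key : ∀ b : G, b ∈ zpowers u → g⁻¹ * b * g ∈ zpowers v := by
    intro b hb
    obtain ⟨k, rfl⟩ := mem_zpowers_iff.1 hb
    refine mem_zpowers_iff.2 ⟨k, ?_⟩
    rw [hv]
    have : g⁻¹ * u * g = g⁻¹ * u * g⁻¹⁻¹ := by rw [inv_inv]
    rw [this, conj_zpow, inv_inv]
  have key' : ∀ b : G, b ∈ zpowers v → g * b * g⁻¹ ∈ zpowers u := by
    intro b hb
    obtain ⟨k, rfl⟩ := mem_zpowers_iff.1 hb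
    refine mem_zpowers_iff.2 ⟨k, ?_⟩
    have : g * (g⁻¹ * u * g) ^ k * g⁻¹ = (g * (g⁻¹ * u * g) * g⁻¹) ^ k := by rw [conj_zpow]
    rw [hv, this]
    congr 1
    group
  constructor
  · intro ha
    rw [← hzu]
    apply key'
    rw [hzv]; exact ha
  · intro ha
    rw [← hzu] at ha
    have := key _ ha
    rw [hzv] at this
    have h2 : g⁻¹ * (g * a * g⁻¹) * g = a := by group
    rwa [h2] at this

end Cfsg.Agent.H7Brauer
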