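import Mathlib
import Cfsg.Agent.Lib.Helper7.Brn1

/-!
# Brauer: the normalizer of the subgroup of prime order, part 2 (cyclic quotient)
-/


set_option autoImplicit false
set_option linter.unusedSectionVars false
set_option linter.unusedVariables false
set_option linter.style.haveILetI false

namespace Cfsg.Agent.H7Brauer

open Subgroup

variable {G : Type*} [Group G] {p : ℕ} [hp : Fact p.Prime] {x : G}

/-- the subgroup `⟨x⟩` inside its normalizer -/
abbrev nrmP (x : G) : Subgroup (nrm x) := (zpowers x).subgroupOf (nrm x)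

variable (hx : orderOf x = p) (hself : ∀ g : G, g * x = x * g → g ∈ zpowers x)

include hself in
theorem centralizer_zpowers_eq :
    centralizer ((zpowers x : Subgroup G) : Set G) = zpowers x := by
  apply le_antisymm
  · intro g hg
    apply hself
    exact (hg x (mem_zpowers x)).symm
  · intro g hg
    rw [mem_centralizer_iff]
    intro h hh
    exact comm_of_mem_zpowers hh hg

include hx in
theorem card_nrmP : Nat.card (nrmP x) = p := by
  rw [Nat.card_congr (subgroupOfEquivOfLe (zpowers_le_nrm (x := x))).toEquiv, Nat.card_zpowers, hx]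

include hx hself in
theorem nrm_quot_cyclic [Finite G] : IsCyclic (nrm x ⧸ nrmP x) := by
  have hker : (zpowers x).normalizerMonoidHom.ker = nrmP x := by
    rw [normalizerMonoidHom_ker, centralizer_zpowers_eq hself]
  haveI : Fact (Nat.card (zpowers x)).Prime := ⟨by rw [Nat.card_zpowers, hx]; exact hp.out⟩
  haveI h1 : IsCyclic (ZMod (Nat.card (zpowers x)))ˣ := ZMod.isCyclic_units_prime Fact.out
  haveI h2 : IsCyclic (MulAut (zpowers x)) :=
    isCyclic_of_surjective (IsCyclic.mulAutMulEquiv (zpowers x)).symm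
      (IsCyclic.mulAutMulEquiv (zpowers x)).symm.surjective
  haveI h3 : IsCyclic (zpowers x).normalizerMonoidHom.range := inferInstance
  haveI h4 : IsCyclic (nrm x ⧸ (zpowers x).normalizerMonoidHom.ker) :=
    isCyclic_of_surjective (QuotientGroup.quotientKerEquivRange _).symm
      (QuotientGroup.quotientKerEquivRange _).symm.surjective
  exact isCyclic_of_surjective (QuotientGroup.quotientMulEquivOfEq hker)
    (QuotientGroup.quotientMulEquivOfEq hker).surjective

include hx hself in
theorem nrm_quot_comm [Finite G] (a b : nrm x ⧸ nrmP x) : a * b = b * a := by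
  haveI := nrm_quot_cyclic hx hself
  letI := IsCyclic.commGroup (α := nrm x ⧸ nrmP x)
  exact mul_comm a b

include hx hself in
theorem card_nrm_quot [Finite G] {e : ℕ} (hcard : Nat.card (nrm x) = p * e) :
    Nat.card (nrm x ⧸ nrmP x) = e := by
  have h1 := Subgroup.card_eq_card_quotient_mul_card_subgroup (nrmP x)
  rw [card_nrmP hx, hcard, mul_comm] at h1
  exact (Nat.eq_of_mul_eq_mul_right hp.out.pos h1).symm

include hx hself in
/-- a generator of a complement of `⟨x⟩` in its normalizer -/
theorem exists_gen [Finite G] {e : ℕ} (hcard : Nat.card (nrm x) = p * e) (he : 2 ≤ e) :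
    ∃ σ ∈ nrm x, σ ∉ zpowers x ∧ orderOf σ = e ∧
      ∀ g ∈ nrm x, ∃ k : ℕ, ∃ u ∈ zpowers x, g = σ ^ k * u := by
  haveI := nrm_quot_cyclic hx hself
  obtain ⟨a, ha⟩ := IsCyclic.exists_generator (α := nrm x ⧸ nrmP x)
  obtain ⟨τ, rfl⟩ := QuotientGroup.mk_surjective a
  have hcq := card_nrm_quot hx hself hcard
  have hoa : orderOf (QuotientGroup.mk τ : nrm x ⧸ nrmP x) = e := by
    rw [orderOf_eq_card_of_forall_mem_zpowers ha, hcq]
  have hτP : (τ : G) ∉ zpowers x := by
    intro h
    have h1 : (QuotientGroup.mk τ : nrm x ⧸ nrmP x) = 1 := by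
      rw [QuotientGroup.eq_one_iff]
      exact mem_subgroupOf.2 h
    rw [h1, orderOf_one] at hoa
    omega
  have hpow : (τ : G) ^ e = 1 := by
    have h1 : (QuotientGroup.mk τ : nrm x ⧸ nrmP x) ^ e = 1 := by
      rw [← hoa]; exact pow_orderOf_eq_one _
    rw [← QuotientGroup.mk_pow, QuotientGroup.eq_one_iff] at h1
    have h2 : (τ : G) ^ e ∈ zpowers x := by
      have := mem_subgroupOf.1 h1
      simpa using this
    apply eq_one_of_commute hx hself hτP h2
    rw [← pow_succ', ← pow_succ]
  refine ⟨τ, τ.2, hτP, ?_, ?_⟩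
  · apply Nat.dvd_antisymm (orderOf_dvd_of_pow_eq_one hpow)
    rw [← hoa]
    apply orderOf_dvd_of_pow_eq_one
    rw [← QuotientGroup.mk_pow]
    have : τ ^ orderOf (τ : G) = 1 := by
      apply Subtype.ext
      rw [Subgroup.coe_pow, pow_orderOf_eq_one]
      rfl
    rw [this]
    rfl
  · intro g hg
    have h1 : (QuotientGroup.mk ⟨g, hg⟩ : nrm x ⧸ nrmP x) ∈ zpowers (QuotientGroup.mk τ) := ha _
    rw [← mem_powers_iff_mem_zpowers] at h1
    obtain ⟨k, hk⟩ := h1
    have hk : (QuotientGroup.mk τ : nrm x ⧸ nrmP x) ^ k = QuotientGroup.mk ⟨g, hg⟩ := hk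
    rw [← QuotientGroup.mk_pow] at hk
    have h2 := QuotientGroup.eq.1 hk
    have h3 : ((τ ^ k)⁻¹ * ⟨g, hg⟩ : nrm x) ∈ nrmP x := h2
    have h4 : ((τ : G) ^ k)⁻¹ * g ∈ zpowers x := by
      have := mem_subgroupOf.1 h3
      simpa using this
    exact ⟨k, _, h4, by group⟩

end Cfsg.Agent.H7Brauer
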