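import Mathlib
import Cfsg.Agent.Lib.Helper7.Brn2

/-!
# Brauer: perfect groups, cyclic Sylow 2-subgroups, the Sylow count
-/


set_option autoImplicit false
set_option linter.unusedSectionVars false
set_option linter.unusedVariables false
set_option linter.style.haveILetI false

namespace Cfsg.Agent.H7Brauer

open Subgroup

/-- a homomorphism from a perfect group to a commutative group is trivial -/
theorem hom_trivial_of_perfect {G A : Type*} [Group G] [Group A] (hA : ∀ a b : A, a * b = b * a)
    (hG : commutator G = ⊤) (f : G →* A) (g : G) : f g = 1 := by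
  let _ : CommGroup A := { ‹Group A› with mul_comm := hA }
  exact Abelianization.commutator_subset_ker f (hG ▸ Subgroup.mem_top g)

/-- a perfect group of even order has no cyclic Sylow `2`-subgroup -/
theorem false_of_cyclic_sylow_two {G : Type*} [Group G] [Finite G] (hperf : commutator G = ⊤)
    (S : Sylow 2 G) (h2 : 2 ∣ Nat.card G) (hcyc : IsCyclic (S : Subgroup G)) : False := by
  haveI : Fact (Nat.Prime 2) := ⟨Nat.prime_two⟩
  have hmin : (Nat.card G).minFac = 2 := (Nat.minFac_eq_two_iff _).mpr h2
  have hcomp := IsCyclic.isComplement' hmin hcyc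
  have hcomm : ∀ a b : (S : Subgroup G), a * b = b * a := by
    intro a b
    letI := IsCyclic.commGroup (α := (S : Subgroup G))
    exact mul_comm a b
  have hker : (MonoidHom.transferSylow S (hcyc.normalizer_le_centralizer hmin)).ker = ⊤ := by
    rw [eq_top_iff]
    intro g _
    exact hom_trivial_of_perfect hcomm hperf _ g
  rw [hker, isComplement'_top_left] at hcomp
  exact S.ne_bot_of_dvd_card h2 hcomp

/-- a perfect group does not contain a cyclic subgroup of even order and odd index -/
theorem false_of_odd_index {G : Type*} [Group G] [Finite G] (hperf : commutator G = ⊤) {σ : G}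
    {e r : ℕ} (hσ : orderOf σ = e) (he : Even e) (hG : Nat.card G = e * r) (hr : Odd r) :
    False := by
  haveI : Fact (Nat.Prime 2) := ⟨Nat.prime_two⟩
  have he0 : e ≠ 0 := by
    intro h
    rw [h, zero_mul] at hG
    exact Nat.card_pos.ne' hG
  have hr0 : r ≠ 0 := by
    intro h
    rw [h, mul_zero] at hG
    exact Nat.card_pos.ne' hG
  set k := e.factorization 2 with hk
  set e' := e / 2 ^ k with he'
  have hee : 2 ^ k * e' = e := Nat.ordProj_mul_ordCompl_eq_self e 2
  have he'0 : e' ≠ 0 := by
    intro h
    rw [h, mul_zero] at hee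
    exact he0 hee.symm
  have hord : orderOf (σ ^ e') = 2 ^ k := by
    rw [orderOf_pow_of_dvd he'0 (by rw [hσ]; exact Dvd.intro_left _ hee), hσ]
    exact Nat.div_eq_of_eq_mul_left (Nat.pos_of_ne_zero he'0) hee.symm
  have hfac : (Nat.card G).factorization 2 = k := by
    rw [hG, Nat.factorization_mul he0 hr0]
    have : r.factorization 2 = 0 := by
      apply Nat.factorization_eq_zero_of_not_dvd
      intro h
      exact (Nat.not_even_iff_odd.2 hr) (even_iff_two_dvd.2 h)
    simp [this, hk]
  have hk1 : 1 ≤ k := by
    rw [hk]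
    exact (Nat.prime_two.dvd_iff_one_le_factorization he0).1 (even_iff_two_dvd.1 he)
  let S : Sylow 2 G := Sylow.ofCard (zpowers (σ ^ e')) (by rw [Nat.card_zpowers, hord, hfac])
  have h2 : 2 ∣ Nat.card G := by
    rw [hG]
    exact Dvd.dvd.mul_right (even_iff_two_dvd.1 he) r
  have hcyc : IsCyclic (S : Subgroup G) := by
    show IsCyclic (zpowers (σ ^ e'))
    infer_instance
  exact false_of_cyclic_sylow_two hperf S h2 hcyc

variable {G : Type*} [Group G] {p : ℕ} [hp : Fact p.Prime] {x : G}
variable (hx : orderOf x = p) (hself : ∀ g : G, g * x = x * g → g ∈ zpowers x)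

include hx hself in
/-- `⟨x⟩` is a Sylow subgroup -/
theorem exists_sylow_eq [Finite G] : ∃ Q : Sylow p G, (Q : Subgroup G) = zpowers x := by
  have hPg : IsPGroup p (zpowers x) :=
    IsPGroup.of_card (n := 1) (by rw [Nat.card_zpowers, hx, pow_one])
  obtain ⟨Q, hQ⟩ := hPg.exists_le_sylow
  exact ⟨Q, card_sylow_eq hx hself Q hQ⟩

include hx hself in
/-- a `p`-subgroup containing `⟨x⟩` is `⟨x⟩` -/
theorem eq_of_isPGroup_of_le [Finite G] {R : Subgroup G} (hR : IsPGroup p R)
    (hle : zpowers x ≤ R) : R = zpowers x := by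
  obtain ⟨Q, hQ⟩ := hR.exists_le_sylow
  have h1 := card_sylow_eq hx hself Q (hle.trans hQ)
  exact le_antisymm (h1 ▸ hQ) hle

include hx hself in
/-- the number of Sylow subgroups times the order of the normalizer is the group order -/
theorem card_sylow_mul_card_nrm [Finite G] :
    Nat.card (Sylow p G) * Nat.card (nrm x) = Nat.card G := by
  obtain ⟨Q, hQ⟩ := exists_sylow_eq hx hself
  rw [Sylow.card_eq_index_normalizer Q]
  have h0 : (normalizer (Q : Set G)).index = (nrm x).index := by
    show (normalizer ((Q : Subgroup G) : Set G)).index = _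
    rw [hQ]
  rw [h0]
  exact (nrm x).index_mul_card

include hx hself in
/-- in a perfect group, `⟨x⟩` is a proper subgroup of its normalizer -/
theorem two_le_of_perfect [Finite G] (hperf : commutator G = ⊤) {e : ℕ}
    (hcard : Nat.card (nrm x) = p * e) : 2 ≤ e := by
  have he0 : e ≠ 0 := by
    intro h
    rw [h, mul_zero] at hcard
    exact Nat.card_pos.ne' hcard
  by_contra hlt
  have he1 : e = 1 := by omega
  rw [he1, mul_one] at hcard
  obtain ⟨Q, hQ⟩ := exists_sylow_eq hx hself
  have hNP : nrm x = zpowers x := by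
    symm
    apply Subgroup.eq_of_le_of_card_ge zpowers_le_nrm
    rw [hcard, Nat.card_zpowers, hx]
  have hNC : normalizer ((Q : Subgroup G) : Set G) ≤ centralizer ((Q : Subgroup G) : Set G) := by
    rw [hQ, centralizer_zpowers_eq hself]
    exact hNP.le
  have hcomp := MonoidHom.ker_transferSylow_isComplement' Q hNC
  have hcomm : ∀ a b : (Q : Subgroup G), a * b = b * a := by
    intro a b
    apply Subtype.ext
    have ha : (a : G) ∈ zpowers x := hQ ▸ a.2
    have hb : (b : G) ∈ zpowers x := hQ ▸ b.2
    exact comm_of_mem_zpowers ha hb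
  have hker : (MonoidHom.transferSylow Q hNC).ker = ⊤ := by
    rw [eq_top_iff]
    intro g _
    exact hom_trivial_of_perfect hcomm hperf _ g
  rw [hker, isComplement'_top_left, hQ] at hcomp
  have hx1 : x = 1 := by
    have : x ∈ (⊥ : Subgroup G) := hcomp ▸ mem_zpowers x
    exact Subgroup.mem_bot.1 this
  rw [hx1, orderOf_one] at hx
  exact hp.out.one_lt.ne hx

end Cfsg.Agent.H7Brauer
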