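import Mathlib
import Cfsg.Agent.Lib.Helper7.Brn3

/-!
# Brauer: simplicity of the group
-/


set_option autoImplicit false
set_option linter.unusedSectionVars false
set_option linter.unusedVariables false
set_option linter.style.haveILetI false

namespace Cfsg.Agent.H7Brauer

open Subgroup

variable {G : Type*} [Group G] {p : ℕ} [hp : Fact p.Prime] {x : G}
variable (hx : orderOf x = p) (hself : ∀ g : G, g * x = x * g → g ∈ zpowers x)

include hx hself in
/-- a normal subgroup of a perfect group containing `⟨x⟩` is the whole group -/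
theorem eq_top_of_zpowers_le [Finite G] (hperf : commutator G = ⊤) (K : Subgroup G) [K.Normal]
    (hle : zpowers x ≤ K) : K = ⊤ := by
  obtain ⟨Q, hQ⟩ := exists_sylow_eq hx hself
  have hfr : nrm x ⊔ K = ⊤ := by
    have h1 := Sylow.normalizer_sup_eq_top' Q (N := K) (by
      show (Q : Subgroup G) ≤ K
      rw [hQ]; exact hle)
    have h0 : normalizer (Q : Set G) = nrm x := by
      show normalizer ((Q : Subgroup G) : Set G) = _
      rw [hQ]
    rw [h0] at h1
    exact h1
  have hdec : ∀ g : G, ∃ n ∈ nrm x, (QuotientGroup.mk g : G ⧸ K) = QuotientGroup.mk n := by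
    intro g
    have hg : g ∈ ((nrm x ⊔ K : Subgroup G) : Set G) := by
      rw [hfr]; exact Set.mem_univ g
    rw [Subgroup.mul_normal] at hg
    obtain ⟨n, hn, k, hk, rfl⟩ := Set.mem_mul.1 hg
    refine ⟨n, hn, ?_⟩
    rw [QuotientGroup.mk_mul, (QuotientGroup.eq_one_iff k).2 hk, mul_one]
  have hcomm : ∀ a b : G ⧸ K, a * b = b * a := by
    intro a b
    obtain ⟨g, rfl⟩ := QuotientGroup.mk_surjective a
    obtain ⟨h, rfl⟩ := QuotientGroup.mk_surjective b
    obtain ⟨n₁, hn₁, e₁⟩ := hdec g
    obtain ⟨n₂, hn₂, e₂⟩ := hdec h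
    rw [e₁, e₂, ← QuotientGroup.mk_mul, ← QuotientGroup.mk_mul, QuotientGroup.eq]
    apply hle
    have h1 := nrm_quot_comm hx hself (QuotientGroup.mk ⟨n₁, hn₁⟩) (QuotientGroup.mk ⟨n₂, hn₂⟩)
    rw [← QuotientGroup.mk_mul, ← QuotientGroup.mk_mul, QuotientGroup.eq] at h1
    have h2 := mem_subgroupOf.1 h1
    simpa using h2
  rw [eq_top_iff]
  intro g _
  have := hom_trivial_of_perfect hcomm hperf (QuotientGroup.mk' K) g
  exact (QuotientGroup.eq_one_iff g).1 this

include hx hself in
/-- the fixed point congruence for the conjugation action of `⟨x⟩` on a normal subgroup -/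
theorem card_modEq_fixed [Finite G] (K : Subgroup G) [K.Normal] :
    Nat.card K ≡ Nat.card {k : K // (k : G) * x = x * (k : G)} [MOD p] := by
  have hPg : IsPGroup p (zpowers x) :=
    IsPGroup.of_card (n := 1) (by rw [Nat.card_zpowers, hx, pow_one])
  letI : MulAction (zpowers x) K :=
    MulAction.compHom K ((MulAut.conjNormal (H := K)).comp (zpowers x).subtype)
  have h := hPg.card_modEq_card_fixedPoints K
  have hsm : ∀ (u : zpowers x) (k : K), ((u • k : K) : G) = (u : G) * (k : G) * (u : G)⁻¹ := by
    intro u k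
    rfl
  have heq : (MulAction.fixedPoints (zpowers x) K) = {k : K | (k : G) * x = x * (k : G)} := by
    ext k
    simp only [MulAction.mem_fixedPoints, Set.mem_ofPred_eq]
    constructor
    · intro hk
      have h1 := congrArg Subtype.val (hk ⟨x, mem_zpowers x⟩)
      rw [hsm] at h1
      have h2 : x * (k : G) * x⁻¹ = (k : G) := h1
      calc (k : G) * x = (x * (k : G) * x⁻¹) * x := by rw [h2]
        _ = x * (k : G) := by group
    · intro hk u
      apply Subtype.ext
      rw [hsm]
      obtain ⟨i, hi⟩ := mem_zpowers_iff.1 u.2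
      have hc : Commute (k : G) x := hk
      have h2 : Commute (k : G) (u : G) := by
        rw [← hi]; exact hc.zpow_right i
      rw [← h2.eq]
      group
  rw [heq] at h
  exact h

include hx hself in
/-- a normal subgroup of a perfect group of order divisible by `p` is the whole group -/
theorem eq_top_of_dvd [Finite G] (hperf : commutator G = ⊤) (K : Subgroup G) [K.Normal]
    (hK : p ∣ Nat.card K) : K = ⊤ := by
  apply eq_top_of_zpowers_le hx hself hperf
  have h := card_modEq_fixed hx hself K
  have h1 : p ∣ Nat.card {k : K // (k : G) * x = x * (k : G)} := by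
    have := (Nat.modEq_zero_iff_dvd.2 hK).symm.trans h
    exact Nat.modEq_zero_iff_dvd.1 this.symm
  have h2 : 1 < Nat.card {k : K // (k : G) * x = x * (k : G)} := by
    have hpos : 0 < Nat.card {k : K // (k : G) * x = x * (k : G)} := by
      haveI : Nonempty {k : K // (k : G) * x = x * (k : G)} := ⟨⟨1, by simp⟩⟩
      exact Nat.card_pos
    have := Nat.le_of_dvd hpos h1
    have := hp.out.two_le
    omega
  haveI : Nontrivial {k : K // (k : G) * x = x * (k : G)} :=
    Finite.one_lt_card_iff_nontrivial.1 h2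
  obtain ⟨⟨k, hk⟩, hk1⟩ := exists_ne (⟨1, by simp⟩ : {k : K // (k : G) * x = x * (k : G)})
  have hkP : (k : G) ∈ zpowers x := hself _ hk
  have hk1' : (k : G) ≠ 1 := by
    intro h
    apply hk1
    apply Subtype.ext
    apply Subtype.ext
    exact h
  rw [← zpowers_eq_of_mem hx hkP hk1', zpowers_le]
  exact k.2

include hx hself in
/-- a normal subgroup of order prime to `p` meets the normalizer trivially -/
theorem eq_one_of_mem_of_not_dvd [Finite G] (K : Subgroup G) [hKn : K.Normal]
    (hK : ¬ p ∣ Nat.card K) {k : G} (hk : k ∈ K) (hkN : k ∈ nrm x) : k = 1 := by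
  have hA : ∀ u : G, u ∈ K → u ∈ zpowers x → u = 1 := by
    intro u huK hu
    by_contra hu1
    apply hK
    have h1 : orderOf u = p := by
      rw [← Nat.card_zpowers, zpowers_eq_of_mem hx hu hu1, Nat.card_zpowers, hx]
    rw [← h1]
    exact Subgroup.orderOf_dvd_natCard K huK
  have hc : k * x * k⁻¹ * x⁻¹ = 1 := by
    apply hA
    · have h1 : x * k⁻¹ * x⁻¹ ∈ K := hKn.conj_mem _ (inv_mem hk) x
      have h2 : k * x * k⁻¹ * x⁻¹ = k * (x * k⁻¹ * x⁻¹) := by group
      rw [h2]
      exact mul_mem hk h1
    · exact mul_mem (conj_mem_of_mem_nrm hkN (mem_zpowers x)) (inv_mem (mem_zpowers x))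
  have hkx : k * x = x * k := by
    calc k * x = (k * x * k⁻¹ * x⁻¹) * (x * k) := by group
      _ = x * k := by rw [hc, one_mul]
  exact hA k hk (hself k hkx)

include hx hself in
theorem card_modEq_one_of_not_dvd [Finite G] (K : Subgroup G) [K.Normal]
    (hK : ¬ p ∣ Nat.card K) : Nat.card K ≡ 1 [MOD p] := by
  have h := card_modEq_fixed hx hself K
  have h1 : Nat.card {k : K // (k : G) * x = x * (k : G)} = 1 := by
    rw [Nat.card_eq_one_iff_unique]
    refine ⟨⟨?_⟩, ⟨⟨1, by simp⟩⟩⟩
    rintro ⟨a, ha⟩ ⟨b, hb⟩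
    have ha1 : (a : G) = 1 :=
      eq_one_of_mem_of_not_dvd hx hself K hK a.2 (zpowers_le_nrm (hself _ ha))
    have hb1 : (b : G) = 1 :=
      eq_one_of_mem_of_not_dvd hx hself K hK b.2 (zpowers_le_nrm (hself _ hb))
    apply Subtype.ext
    apply Subtype.ext
    rw [ha1, hb1]
  rw [h1] at h
  exact h

include hx hself in
theorem quot_comp_injective [Finite G] (K : Subgroup G) [K.Normal]
    (hK : ¬ p ∣ Nat.card K) :
    Function.Injective ((QuotientGroup.mk' K).comp (nrm x).subtype) := by
  rw [injective_iff_map_eq_one]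
  intro n hn
  have h1 : (n : G) ∈ K := (QuotientGroup.eq_one_iff (n : G)).1 hn
  apply Subtype.ext
  exact eq_one_of_mem_of_not_dvd hx hself K hK h1 n.2

include hx hself in
theorem card_mul_card_nrm_dvd [Finite G] (K : Subgroup G) [K.Normal]
    (hK : ¬ p ∣ Nat.card K) : Nat.card K * Nat.card (nrm x) ∣ Nat.card G := by
  have h1 := Subgroup.card_dvd_of_injective _ (quot_comp_injective hx hself K hK)
  have h2 := Subgroup.card_eq_card_quotient_mul_card_subgroup K
  rw [h2, mul_comm]
  exact Nat.mul_dvd_mul_right h1 _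

omit hp in
/-- arithmetic: a divisor `≡ 1` of `1 + n p` with `2 n ≤ p + 1` -/
theorem div_arith {p n c d : ℕ} (hp2 : 2 ≤ p) (hn : 2 * n ≤ p + 1) (hc : c % p = 1)
    (h : c * d = 1 + n * p) : c = 1 ∨ d = 1 := by
  have hd : d % p = 1 := by
    have h1 : (c * d) % p = (1 + n * p) % p := by rw [h]
    rw [Nat.mul_mod, hc, one_mul, Nat.mod_mod, Nat.add_mul_mod_self_right,
      Nat.mod_eq_of_lt (by omega : 1 < p)] at h1
    exact h1
  have hc' := Nat.div_add_mod c p
  have hd' := Nat.div_add_mod d p
  rw [hc] at hc'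
  rw [hd] at hd'
  rcases Nat.eq_zero_or_pos (c / p) with h0 | h0
  · left
    rw [h0] at hc'
    omega
  rcases Nat.eq_zero_or_pos (d / p) with h1 | h1
  · right
    rw [h1] at hd'
    omega
  exfalso
  have h2 : p + 1 ≤ c := by nlinarith
  have h3 : p + 1 ≤ d := by nlinarith
  have h4 : (p + 1) * (p + 1) ≤ c * d := Nat.mul_le_mul h2 h3
  nlinarith

include hx hself in
/-- **Simplicity.** -/
theorem isSimple_of_perfect [Finite G] (hperf : commutator G = ⊤) {e n : ℕ}
    (hcard : Nat.card (nrm x) = p * e) (hm : Nat.card (Sylow p G) = 1 + n * p)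
    (hn : 2 * n ≤ p + 1) (K : Subgroup G) [K.Normal] : K = ⊥ ∨ K = ⊤ := by
  by_cases hK : p ∣ Nat.card K
  · right
    exact eq_top_of_dvd hx hself hperf K hK
  · left
    have h1 := card_modEq_one_of_not_dvd hx hself K hK
    have h2 := card_mul_card_nrm_dvd hx hself K hK
    have h3 := card_sylow_mul_card_nrm hx hself
    have h4 : Nat.card K ∣ 1 + n * p := by
      rw [← h3, hm] at h2
      exact Nat.dvd_of_mul_dvd_mul_right Nat.card_pos h2
    obtain ⟨d, hd⟩ := h4
    have hc : Nat.card K % p = 1 := by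
      have h5 : Nat.card K % p = 1 % p := h1
      rw [h5]
      exact Nat.mod_eq_of_lt hp.out.one_lt
    rcases div_arith hp.out.two_le hn hc hd.symm with h | h
    · exact Subgroup.eq_bot_of_card_eq K h
    · exfalso
      rw [h, mul_one] at hd
      have he2 := two_le_of_perfect hx hself hperf hcard
      have hinj := quot_comp_injective hx hself K hK
      have hcq : Nat.card (G ⧸ K) = Nat.card (nrm x) := by
        have h5 := Subgroup.card_eq_card_quotient_mul_card_subgroup K
        rw [← h3, hm, hd, mul_comm] at h5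
        exact (Nat.eq_of_mul_eq_mul_right Nat.card_pos h5).symm
      have hbij := Function.Injective.bijective_of_nat_card_le hinj hcq.le
      let φ : nrm x ≃* G ⧸ K := MulEquiv.ofBijective _ hbij
      let ψ : G →* nrm x ⧸ nrmP x :=
        (QuotientGroup.mk' (nrmP x)).comp (φ.symm.toMonoidHom.comp (QuotientGroup.mk' K))
      have htriv : ∀ a : nrm x ⧸ nrmP x, a = 1 := by
        intro a
        obtain ⟨n', rfl⟩ := QuotientGroup.mk_surjective a
        have h5 := hom_trivial_of_perfect (nrm_quot_comm hx hself) hperf ψ (n' : G)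
        have h6 : ψ (n' : G) = QuotientGroup.mk n' := by
          show QuotientGroup.mk (φ.symm (QuotientGroup.mk (n' : G))) = _
          have : (QuotientGroup.mk (n' : G) : G ⧸ K) = φ n' := rfl
          rw [this, MulEquiv.symm_apply_apply]
        rw [← h6, h5]
      have h7 : Nat.card (nrm x ⧸ nrmP x) = 1 := by
        rw [Nat.card_eq_one_iff_unique]
        exact ⟨⟨fun a b => (htriv a).trans (htriv b).symm⟩, ⟨1⟩⟩
      rw [card_nrm_quot hx hself hcard] at h7
      omega

end Cfsg.Agent.H7Brauer
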