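import Mathlib
import Cfsg.Agent.Lib.Helper7.Brn4

/-!
# Brauer: the counting lemma for elements conjugate into the normalizer
-/


set_option autoImplicit false
set_option linter.unusedSectionVars false
set_option linter.unusedVariables false
set_option linter.style.haveILetI false

namespace Cfsg.Agent.H7Brauer

open Subgroup

variable {G : Type*} [Group G] {p : ℕ} [hp : Fact p.Prime] {x : G}

/-- an element conjugating `g` into `⟨g⟩` normalizes `⟨g⟩` -/
theorem mem_normalizer_zpowers_of_conj_mem [Finite G] {g k : G} (h : k * g * k⁻¹ ∈ zpowers g) :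
    k ∈ normalizer ((zpowers g : Subgroup G) : Set G) := by
  apply mem_normalizer_fintype
  intro n hn
  obtain ⟨i, rfl⟩ := mem_zpowers_iff.1 hn
  have : k * g ^ i * k⁻¹ = (k * g * k⁻¹) ^ i := by rw [conj_zpow]
  rw [SetLike.mem_coe, this]
  exact zpow_mem h i

variable (hx : orderOf x = p) (hself : ∀ g : G, g * x = x * g → g ∈ zpowers x)

include hx hself in
/-- the normalizer of `⟨g⟩` meets `⟨x⟩` trivially, for `g` in the normalizer of `⟨x⟩` outside
`⟨x⟩` -/
theorem eq_one_of_mem_normalizer_zpowers {g w : G} (hg : g ∈ nrm x) (hgP : g ∉ zpowers x)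
    (hw : w ∈ zpowers x) (hwn : w ∈ normalizer ((zpowers g : Subgroup G) : Set G)) : w = 1 := by
  have h1 : w * g * w⁻¹ ∈ zpowers g := (mem_normalizer_iff.1 hwn g).1 (mem_zpowers g)
  obtain ⟨j, hj⟩ := mem_zpowers_iff.1 h1
  -- `g ^ (j - 1) ∈ ⟨x⟩`
  have h2 : w * g * w⁻¹ * g⁻¹ ∈ zpowers x := by
    have h3 : g * w⁻¹ * g⁻¹ ∈ zpowers x := conj_mem_of_mem_nrm hg (inv_mem hw)
    have h4 : w * g * w⁻¹ * g⁻¹ = w * (g * w⁻¹ * g⁻¹) := by group
    rw [h4]
    exact mul_mem hw h3
  have h5 : g ^ (j - 1) ∈ zpowers x := by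
    have : g ^ (j - 1) = w * g * w⁻¹ * g⁻¹ := by
      rw [← hj, zpow_sub, zpow_one]
    rw [this]; exact h2
  have h6 : g ^ (j - 1) = 1 := by
    apply eq_one_of_commute hx hself hgP h5
    exact ((Commute.refl g).zpow_right (j - 1)).eq
  have h7 : w * g * w⁻¹ = g := by
    have : w * g * w⁻¹ = (w * g * w⁻¹ * g⁻¹) * g := by group
    rw [this, ← hj, ← zpow_sub_one, h6, one_mul]
  apply eq_one_of_commute hx hself hgP hw
  calc g * w = (w * g * w⁻¹)⁻¹⁻¹ * w := by rw [inv_inv, h7]
    _ = w * g := by group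

include hx hself in
/-- **Counting lemma.** -/
theorem card_conj_mem_nrm [Finite G] {g : G} (hg : g ∈ nrm x) (hgP : g ∉ zpowers x)
    (hstar : ∀ τ ∈ nrm x, IsConj g τ → ∃ u ∈ zpowers x, u⁻¹ * τ * u ∈ zpowers g) :
    Nat.card {h : G // h⁻¹ * g * h ∈ nrm x} =
      Nat.card (normalizer ((zpowers g : Subgroup G) : Set G)) * p := by
  have hcardP : Nat.card (zpowers x) = p := by rw [Nat.card_zpowers, hx]
  rw [← hcardP, ← Nat.card_prod]
  symm
  have hgle : zpowers g ≤ nrm x := (zpowers_le).2 hg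
  have hwd : ∀ (k : normalizer ((zpowers g : Subgroup G) : Set G)) (u : zpowers x),
      ((k : G) * (u : G))⁻¹ * g * ((k : G) * (u : G)) ∈ nrm x := by
    intro k u
    have h1 : (k : G)⁻¹ * g * (k : G) ∈ zpowers g := by
      have := (mem_normalizer_iff.1 (inv_mem k.2) g).1 (mem_zpowers g)
      rwa [inv_inv] at this
    have h2 : ((k : G) * (u : G))⁻¹ * g * ((k : G) * (u : G)) =
        (u : G)⁻¹ * ((k : G)⁻¹ * g * (k : G)) * (u : G) := by group
    rw [h2]
    exact mul_mem (mul_mem (inv_mem (zpowers_le_nrm u.2)) (hgle h1)) (zpowers_le_nrm u.2)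
  refine Nat.card_congr (Equiv.ofBijective
    (fun ku : normalizer ((zpowers g : Subgroup G) : Set G) × zpowers x =>
      (⟨(ku.1 : G) * (ku.2 : G), hwd ku.1 ku.2⟩ : {h : G // h⁻¹ * g * h ∈ nrm x})) ⟨?_, ?_⟩)
  · rintro ⟨k, u⟩ ⟨k', u'⟩ h
    have h1 : (k : G) * (u : G) = (k' : G) * (u' : G) := congrArg Subtype.val h
    have h2 : (k' : G)⁻¹ * (k : G) = (u' : G) * (u : G)⁻¹ := by
      calc (k' : G)⁻¹ * (k : G) = (k' : G)⁻¹ * ((k : G) * (u : G)) * (u : G)⁻¹ := by group
        _ = (u' : G) * (u : G)⁻¹ := by rw [h1]; group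
    have h3 : (u' : G) * (u : G)⁻¹ = 1 := by
      apply eq_one_of_mem_normalizer_zpowers hx hself hg hgP (mul_mem u'.2 (inv_mem u.2))
      rw [← h2]
      exact mul_mem (inv_mem k'.2) k.2
    have h4 : (u' : G) = (u : G) := by
      have := mul_eq_one_iff_eq_inv.1 h3
      rw [inv_inv] at this
      exact this
    have h5 : (k : G) = (k' : G) := by
      rw [h4] at h1
      exact mul_right_cancel h1
    exact Prod.ext (Subtype.ext h5) (Subtype.ext h4.symm)
  · rintro ⟨h, hh⟩
    obtain ⟨u, hu, hu2⟩ := hstar _ hh (isConj_iff.2 ⟨h⁻¹, by rw [inv_inv]⟩)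
    have hk : h * u ∈ normalizer ((zpowers g : Subgroup G) : Set G) := by
      have h1 : (h * u)⁻¹ ∈ normalizer ((zpowers g : Subgroup G) : Set G) := by
        apply mem_normalizer_zpowers_of_conj_mem
        have : (h * u)⁻¹ * g * (h * u)⁻¹⁻¹ = u⁻¹ * (h⁻¹ * g * h) * u := by group
        rw [this]
        exact hu2
      have := inv_mem h1
      rwa [inv_inv] at this
    refine ⟨(⟨h * u, hk⟩, ⟨u⁻¹, inv_mem hu⟩), ?_⟩
    apply Subtype.ext
    show h * u * u⁻¹ = h
    group

include hx hself in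
/-- the centralizer of an involution of the normalizer -/
theorem card_conj_mem_nrm_involution [Finite G] (hp2 : p ≠ 2) {y : G} (hy : y ∈ nrm x)
    (hyP : y ∉ zpowers x) (hy2 : y * y = 1) :
    Nat.card {h : G // h⁻¹ * y * h ∈ nrm x} = Nat.card (centralizer ({y} : Set G)) * p := by
  have hy1 : y ≠ 1 := fun h => hyP (h ▸ one_mem _)
  have hyi : y⁻¹ = y := inv_eq_of_mul_eq_one_left hy2
  rw [card_conj_mem_nrm hx hself hy hyP]
  · congr 1
    have : normalizer ((zpowers y : Subgroup G) : Set G) = centralizer ({y} : Set G) := by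
      apply le_antisymm
      · intro k hk
        rw [mem_centralizer_iff]
        intro z hz
        rw [Set.mem_singleton_iff] at hz
        subst hz
        have h1 : k * z * k⁻¹ ∈ zpowers z := (mem_normalizer_iff.1 hk z).1 (mem_zpowers z)
        obtain ⟨i, hi⟩ := mem_zpowers_iff.1 h1
        -- `z ^ i` is `1` or `z`
        have hzz : ∀ j : ℤ, z ^ j * z ^ j = 1 := by
          intro j
          rw [← (Commute.refl z).mul_zpow, hy2, one_zpow]
        have h2 : z ^ i = 1 ∨ z ^ i = z := by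
          rcases Int.even_or_odd i with ⟨j, hj⟩ | ⟨j, hj⟩
          · left
            rw [hj, zpow_add, hzz]
          · right
            rw [hj, zpow_add, zpow_one, two_mul, zpow_add, hzz, one_mul]
        rcases h2 with h2 | h2
        · exfalso
          rw [h2] at hi
          apply hy1
          have : z = k⁻¹ * (k * z * k⁻¹) * k := by group
          rw [this, ← hi]; group
        · rw [h2] at hi
          calc z * k = (k * z * k⁻¹) * k := by rw [← hi]
            _ = k * z := by group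
      · intro k hk
        rw [mem_centralizer_iff] at hk
        apply mem_normalizer_zpowers_of_conj_mem
        have h1 := hk y (Set.mem_singleton y)
        have : k * y * k⁻¹ = y := by
          calc k * y * k⁻¹ = (y * k) * k⁻¹ := by rw [h1]
            _ = y := by group
        rw [this]
        exact mem_zpowers y
    rw [this]
  · intro τ hτ hconj
    obtain ⟨c, hc⟩ := isConj_iff.1 hconj
    have hτ2 : τ * τ = 1 := by
      rw [← hc]
      calc c * y * c⁻¹ * (c * y * c⁻¹) = c * (y * y) * c⁻¹ := by group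
        _ = 1 := by rw [hy2]; group
    have hτ1 : τ ≠ 1 := by
      intro h
      apply hy1
      rw [h] at hc
      have : y = c⁻¹ * (c * y * c⁻¹) * c := by group
      rw [this, hc]; group
    obtain ⟨u', hu', hτu⟩ := involution_mem_coset hx hself hp2 hy hyP hy2 hτ hτ2 hτ1
    obtain ⟨u, hu, huy⟩ := exists_conj_eq_mul hx hself hy hyP hu'
    refine ⟨u, hu, ?_⟩
    rw [hτu, ← huy]
    have : u⁻¹ * (u * y * u⁻¹) * u = y := by group
    rw [this]
    exact mem_zpowers y

include hx hself in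
/-- the normalizer of a complement -/
theorem card_conj_mem_nrm_gen [Finite G] {σ : G} (hσ : σ ∈ nrm x) (hσP : σ ∉ zpowers x)
    (hgen : ∀ g ∈ nrm x, ∃ k : ℕ, ∃ u ∈ zpowers x, g = σ ^ k * u) :
    Nat.card {h : G // h⁻¹ * σ * h ∈ nrm x} =
      Nat.card (normalizer ((zpowers σ : Subgroup G) : Set G)) * p := by
  apply card_conj_mem_nrm hx hself hσ hσP
  intro τ hτ hconj
  obtain ⟨c, hc⟩ := isConj_iff.1 hconj
  obtain ⟨k, u', hu', hτk⟩ := hgen τ hτ
  have hkP : σ ^ k ∉ zpowers x := by
    intro hk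
    have hτP : τ ∈ zpowers x := by rw [hτk]; exact mul_mem hk hu'
    have hτ1 : τ ≠ 1 := by
      intro h
      apply hσP
      rw [h] at hc
      have : σ = c⁻¹ * (c * σ * c⁻¹) * c := by group
      rw [this, hc]
      simp
    -- `σ = c⁻¹ τ c ∈ N` forces `c ∈ N` and then `σ ∈ ⟨x⟩`
    have h1 : c⁻¹ * τ * c ∈ nrm x := by
      have : c⁻¹ * τ * c = σ := by rw [← hc]; group
      rw [this]; exact hσ
    have hcN := mem_nrm_of_conj_mem hx hself hτP hτ1 h1
    apply hσP
    have : σ = c⁻¹ * τ * c := by rw [← hc]; group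
    rw [this]
    exact conj_mem_of_mem_nrm' hcN hτP
  have hkN : σ ^ k ∈ nrm x := pow_mem hσ k
  obtain ⟨u, hu, huy⟩ := exists_conj_eq_mul hx hself hkN hkP hu'
  refine ⟨u, hu, ?_⟩
  rw [hτk, ← huy]
  have : u⁻¹ * (u * σ ^ k * u⁻¹) * u = σ ^ k := by group
  rw [this]
  exact pow_mem (mem_zpowers σ) k

end Cfsg.Agent.H7Brauer
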