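import Mathlib
import Cfsg.Agent.Lib.Helper7.Brn5

/-!
# Brauer: pairs of conjugate involutions
-/


set_option autoImplicit false
set_option linter.unusedSectionVars false
set_option linter.unusedVariables false
set_option linter.style.haveILetI false

namespace Cfsg.Agent.H7Brauer

open Subgroup

/-- the number of ordered pairs of distinct elements -/
theorem card_offDiag_subtype (α : Type*) [Finite α] :
    Nat.card {ab : α × α // ab.1 ≠ ab.2} = Nat.card α * (Nat.card α - 1) := by
  classical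
  haveI := Fintype.ofFinite α
  rw [Nat.card_eq_fintype_card, Nat.card_eq_fintype_card, Fintype.card_subtype]
  have : (Finset.univ.filter (fun ab : α × α => ab.1 ≠ ab.2)) = (Finset.univ : Finset α).offDiag := by
    ext ab
    simp [Finset.mem_offDiag]
  rw [this, Finset.offDiag_card, Finset.card_univ, Nat.mul_sub_one]

variable {G : Type*} [Group G] {p : ℕ} [hp : Fact p.Prime] {x : G}

/-- a conjugate of an involution is an involution -/
theorem sq_eq_one_of_isConj {y z : G} (hy2 : y * y = 1) (h : IsConj y z) : z * z = 1 := by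
  obtain ⟨c, hc⟩ := isConj_iff.1 h
  rw [← hc]
  calc c * y * c⁻¹ * (c * y * c⁻¹) = c * (y * y) * c⁻¹ := by group
    _ = 1 := by rw [hy2]; group

theorem ne_one_of_isConj {y z : G} (hy1 : y ≠ 1) (h : IsConj y z) : z ≠ 1 := by
  obtain ⟨c, hc⟩ := isConj_iff.1 h
  intro hz
  apply hy1
  rw [hz] at hc
  have : y = c⁻¹ * (c * y * c⁻¹) * c := by group
  rw [this, hc]; group

variable (hx : orderOf x = p) (hself : ∀ g : G, g * x = x * g → g ∈ zpowers x)

include hx hself in
/-- the pairs of conjugates of an involution of the normalizer with quotient in `⟨x⟩` -/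
theorem card_pairs_involution [Finite G] (hp2 : p ≠ 2) {y : G} (hy : y ∈ nrm x)
    (hyP : y ∉ zpowers x) (hy2 : y * y = 1) :
    Nat.card {yz : G × G // IsConj y yz.1 ∧ IsConj y yz.2 ∧ yz.2 * yz.1⁻¹ ∈ zpowers x} =
      Nat.card {z : G // IsConj y z} + p * (p - 1) := by
  have hy1 : y ≠ 1 := fun h => hyP (h ▸ one_mem _)
  have hcardP : Nat.card (zpowers x) = p := by rw [Nat.card_zpowers, hx]
  have e1 := card_offDiag_subtype (zpowers x)
  rw [hcardP] at e1
  rw [← e1, ← Nat.card_sum]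
  symm
  have hwd : ∀ ab : zpowers x × zpowers x, IsConj y (y * (ab.1 : G)) ∧ IsConj y (y * (ab.2 : G)) ∧
      (y * (ab.2 : G)) * (y * (ab.1 : G))⁻¹ ∈ zpowers x := by
    intro ab
    refine ⟨isConj_involution hx hself hy hyP ab.1.2, isConj_involution hx hself hy hyP ab.2.2, ?_⟩
    have : (y * (ab.2 : G)) * (y * (ab.1 : G))⁻¹ = y * ((ab.2 : G) * (ab.1 : G)⁻¹) * y⁻¹ := by group
    rw [this]
    exact conj_mem_of_mem_nrm hy (mul_mem ab.2.2 (inv_mem ab.1.2))
  refine Nat.card_congr (Equiv.ofBijective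
    (fun s : {z : G // IsConj y z} ⊕ {ab : zpowers x × zpowers x // ab.1 ≠ ab.2} =>
      (Sum.elim (fun z : {z : G // IsConj y z} => ⟨((z : G), (z : G)), z.2, z.2, by simp⟩)
        (fun ab : {ab : zpowers x × zpowers x // ab.1 ≠ ab.2} =>
          ⟨(y * ((ab : zpowers x × zpowers x).1 : G),
          y * ((ab : zpowers x × zpowers x).2 : G)), hwd ab.1⟩) s :
        {yz : G × G // IsConj y yz.1 ∧ IsConj y yz.2 ∧ yz.2 * yz.1⁻¹ ∈ zpowers x})) ⟨?_, ?_⟩)
  · rintro (z | ab) (z' | ab') h <;>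
      simp only [Sum.elim_inl, Sum.elim_inr, Subtype.mk.injEq, Prod.mk.injEq] at h
    · exact congrArg Sum.inl (Subtype.ext h.1)
    · exfalso
      apply ab'.2
      have h3 : y * ((ab' : zpowers x × zpowers x).1 : G) =
          y * ((ab' : zpowers x × zpowers x).2 : G) := by
        rw [← h.1, ← h.2]
      exact Subtype.ext (mul_left_cancel h3)
    · exfalso
      apply ab.2
      have h3 : y * ((ab : zpowers x × zpowers x).1 : G) =
          y * ((ab : zpowers x × zpowers x).2 : G) := by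
        rw [h.1, h.2]
      exact Subtype.ext (mul_left_cancel h3)
    · apply congrArg Sum.inr
      apply Subtype.ext
      exact Prod.ext (Subtype.ext (mul_left_cancel h.1)) (Subtype.ext (mul_left_cancel h.2))
  · rintro ⟨⟨y₁, y₂⟩, h1, h2, h3⟩
    simp only at h1 h2 h3
    by_cases h12 : y₁ = y₂
    · subst h12
      exact ⟨Sum.inl ⟨y₁, h1⟩, rfl⟩
    · have hy₁2 := sq_eq_one_of_isConj hy2 h1
      have hy₂2 := sq_eq_one_of_isConj hy2 h2
      have hy₁1 := ne_one_of_isConj hy1 h1
      have hy₂1 := ne_one_of_isConj hy1 h2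
      have hy₁i : y₁⁻¹ = y₁ := inv_eq_of_mul_eq_one_left hy₁2
      have hy₂i : y₂⁻¹ = y₂ := inv_eq_of_mul_eq_one_left hy₂2
      set u := y₂ * y₁⁻¹ with hu
      have hu1 : u ≠ 1 := by
        intro h
        apply h12
        have := mul_eq_one_iff_eq_inv.1 h
        rw [inv_inv] at this
        exact this.symm
      have hinv : y₁⁻¹ * u * y₁ = u⁻¹ := by
        rw [hu, hy₁i]
        have : (y₂ * y₁)⁻¹ = y₁⁻¹ * y₂⁻¹ := by group
        rw [this, hy₁i, hy₂i]
        calc y₁ * (y₂ * y₁) * y₁ = y₁ * y₂ * (y₁ * y₁) := by group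
          _ = y₁ * y₂ := by rw [hy₁2, mul_one]
      have hy₁N : y₁ ∈ nrm x := by
        apply mem_nrm_of_conj_mem hx hself h3 hu1
        rw [hinv]
        exact zpowers_le_nrm (inv_mem h3)
      have hy₂N : y₂ ∈ nrm x := by
        have : y₂ = u * y₁ := by rw [hu]; group
        rw [this]
        exact mul_mem (zpowers_le_nrm h3) hy₁N
      obtain ⟨a, ha, hya⟩ := involution_mem_coset hx hself hp2 hy hyP hy2 hy₁N hy₁2 hy₁1
      obtain ⟨b, hb, hyb⟩ := involution_mem_coset hx hself hp2 hy hyP hy2 hy₂N hy₂2 hy₂1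
      have hab : (⟨a, ha⟩ : zpowers x) ≠ ⟨b, hb⟩ := by
        intro h
        apply h12
        rw [hya, hyb, Subtype.mk.inj h]
      refine ⟨Sum.inr ⟨(⟨a, ha⟩, ⟨b, hb⟩), hab⟩, ?_⟩
      apply Subtype.ext
      show (y * a, y * b) = (y₁, y₂)
      rw [hya, hyb]

/-- the number of ways of writing `σ` as a product of two conjugates of an involution `y` is at
most half the order of the normalizer of `⟨σ⟩` -/
theorem two_mul_card_le [Finite G] {σ y : G} (hσ2 : σ * σ ≠ 1) (hy2 : y * y = 1) :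
    2 * Nat.card {z : G // IsConj y z ∧ IsConj y (σ⁻¹ * z)} ≤
      Nat.card (normalizer ((zpowers σ : Subgroup G) : Set G)) := by
  have hinvert : ∀ z : {z : G // IsConj y z ∧ IsConj y (σ⁻¹ * z)},
      (z : G) * σ * (z : G)⁻¹ = σ⁻¹ := by
    rintro ⟨z, hz1, hz2⟩
    have h1 := sq_eq_one_of_isConj hy2 hz1
    have h2 := sq_eq_one_of_isConj hy2 hz2
    have hzi : z⁻¹ = z := inv_eq_of_mul_eq_one_left h1
    show z * σ * z⁻¹ = σ⁻¹
    have h3 : z * σ⁻¹ * z = σ := by
      calc z * σ⁻¹ * z = σ * (σ⁻¹ * z * (σ⁻¹ * z)) := by group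
        _ = σ := by rw [h2, mul_one]
    have h4 : (z * σ⁻¹ * z)⁻¹ = z⁻¹ * σ * z⁻¹ := by group
    rw [h3, hzi] at h4
    rw [hzi, ← h4]
  by_cases hne : Nonempty {z : G // IsConj y z ∧ IsConj y (σ⁻¹ * z)}
  · obtain ⟨z₀⟩ := hne
    have hz₀ := hinvert z₀
    rw [two_mul, ← Nat.card_sum]
    have hmem1 : ∀ z : {z : G // IsConj y z ∧ IsConj y (σ⁻¹ * z)},
        (z : G) ∈ normalizer ((zpowers σ : Subgroup G) : Set G) := by
      intro z
      apply mem_normalizer_zpowers_of_conj_mem
      rw [hinvert z]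
      exact inv_mem (mem_zpowers σ)
    have hcent : ∀ z : {z : G // IsConj y z ∧ IsConj y (σ⁻¹ * z)},
        ((z₀ : G) * (z : G)) * σ * ((z₀ : G) * (z : G))⁻¹ = σ := by
      intro z
      calc ((z₀ : G) * (z : G)) * σ * ((z₀ : G) * (z : G))⁻¹
          = (z₀ : G) * ((z : G) * σ * (z : G)⁻¹) * (z₀ : G)⁻¹ := by group
        _ = ((z₀ : G) * σ * (z₀ : G)⁻¹)⁻¹ := by rw [hinvert z]; group
        _ = σ := by rw [hz₀, inv_inv]
    have hmem2 : ∀ z : {z : G // IsConj y z ∧ IsConj y (σ⁻¹ * z)},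
        (z₀ : G) * (z : G) ∈ normalizer ((zpowers σ : Subgroup G) : Set G) := by
      intro z
      apply mem_normalizer_zpowers_of_conj_mem
      rw [hcent z]
      exact mem_zpowers σ
    apply Nat.card_le_card_of_injective
      (fun s : {z : G // IsConj y z ∧ IsConj y (σ⁻¹ * z)} ⊕
          {z : G // IsConj y z ∧ IsConj y (σ⁻¹ * z)} =>
        (Sum.elim (fun z : {z : G // IsConj y z ∧ IsConj y (σ⁻¹ * z)} => ⟨(z : G), hmem1 z⟩)
          (fun z : {z : G // IsConj y z ∧ IsConj y (σ⁻¹ * z)} =>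
            ⟨(z₀ : G) * (z : G), hmem2 z⟩) s :
          normalizer ((zpowers σ : Subgroup G) : Set G)))
    rintro (z | z) (z' | z') h <;>
      simp only [Sum.elim_inl, Sum.elim_inr, Subtype.mk.injEq] at h
    · exact congrArg Sum.inl (Subtype.ext h)
    · exfalso
      have h2 := hinvert z
      rw [h, hcent z'] at h2
      apply hσ2
      calc σ * σ = σ * σ⁻¹ := by rw [← h2]
        _ = 1 := by group
    · exfalso
      have h2 := hinvert z'
      rw [← h, hcent z] at h2
      apply hσ2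
      calc σ * σ = σ * σ⁻¹ := by rw [← h2]
        _ = 1 := by group
    · exact congrArg Sum.inr (Subtype.ext (mul_left_cancel h))
  · rw [not_nonempty_iff] at hne
    rw [Nat.card_of_isEmpty]
    omega

end Cfsg.Agent.H7Brauer
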