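import Mathlib
import Cfsg.Agent.Lib.Helper4.BLa
import Cfsg.Agent.Lib.Helper1.LinearChar
import Cfsg.Agent.Lib.Helper1.CharFound6
import Cfsg.Agent.S0148
import Cfsg.Agent.Lib.Helper7.Brn6

/-!
# Brauer: Fourier inversion on the quotient of the normalizer; the bound for character values
-/


set_option autoImplicit false
set_option linter.unusedSectionVars false
set_option linter.unusedVariables false
set_option linter.style.haveILetI false

namespace Cfsg.Agent.H7Brauer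

open Subgroup Cfsg Cfsg.Agent.Lib.Helper1 Cfsg.Agent.Lib.Helper4 Cfsg.Agent.Lib.Helper4.BL
open scoped ComplexConjugate

section Fourier

variable {H : Type*} [Group H] [Fintype H] (K : Subgroup H) [K.Normal]

/-- the linear character of `H` attached to a character of `H ⧸ K` -/
noncomputable def lamQ (φ : (H ⧸ K) →* ℂˣ) : H → ℂ :=
  fun h => ((φ (QuotientGroup.mk h) : ℂˣ) : ℂ)

theorem lamQ_irr (φ : (H ⧸ K) →* ℂˣ) : IsIrrCharacter H (lamQ K φ) :=
  isIrrCharacter_of_hom (φ.comp (QuotientGroup.mk' K))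

theorem lamQ_norm (φ : (H ⧸ K) →* ℂˣ) (h : H) : ‖lamQ K φ h‖ = 1 :=
  hom_norm φ _

/-- Fourier inversion on the abelian quotient `H ⧸ K` -/
theorem fourier_quot (hcomm : ∀ a b : H ⧸ K, a * b = b * a) [Fintype ((H ⧸ K) →* ℂˣ)]
    [Fintype K] (ψ : H → ℂ) (g : H) :
    ∑ φ : (H ⧸ K) →* ℂˣ, classInner ψ (lamQ K φ) * lamQ K φ g =
      (Nat.card K : ℂ)⁻¹ * ∑ u : K, ψ (g * (u : H)) := by
  classical
  have hH0 : (Nat.card H : ℂ) ≠ 0 := Nat.cast_ne_zero.2 Nat.card_pos.ne'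
  have hK0 : (Nat.card K : ℂ) ≠ 0 := Nat.cast_ne_zero.2 Nat.card_pos.ne'
  have h1 : ∀ φ : (H ⧸ K) →* ℂˣ, classInner ψ (lamQ K φ) * lamQ K φ g =
      (Nat.card H : ℂ)⁻¹ * ∑ h : H, ψ h * ((φ (QuotientGroup.mk (h⁻¹ * g)) : ℂˣ) : ℂ) := by
    intro φ
    unfold classInner
    rw [mul_assoc, Finset.sum_mul]
    congr 1
    refine Finset.sum_congr rfl fun h _ => ?_
    unfold lamQ
    rw [hom_conj, mul_assoc]
    congr 1
    rw [← Units.val_mul, ← map_mul, ← QuotientGroup.mk_inv, ← QuotientGroup.mk_mul]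
  simp only [h1]
  rw [← Finset.mul_sum, Finset.sum_comm]
  have h2 : ∀ h : H, ∑ φ : (H ⧸ K) →* ℂˣ, ψ h * ((φ (QuotientGroup.mk (h⁻¹ * g)) : ℂˣ) : ℂ) =
      if h⁻¹ * g ∈ K then ψ h * (Nat.card (H ⧸ K) : ℂ) else 0 := by
    intro h
    rw [← Finset.mul_sum, sum_dual hcomm]
    by_cases hm : h⁻¹ * g ∈ K
    · rw [if_pos hm, if_pos ((QuotientGroup.eq_one_iff _).2 hm)]
    · rw [if_neg hm, if_neg (fun h' => hm ((QuotientGroup.eq_one_iff _).1 h')), mul_zero]
  simp only [h2]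
  rw [← Finset.sum_filter]
  have h3 : ∑ h ∈ Finset.univ.filter (fun h : H => h⁻¹ * g ∈ K), ψ h * (Nat.card (H ⧸ K) : ℂ) =
      (Nat.card (H ⧸ K) : ℂ) * ∑ u : K, ψ (g * (u : H)) := by
    rw [Finset.mul_sum]
    symm
    refine Finset.sum_bij (fun (u : K) _ => g * (u : H)) ?_ ?_ ?_ ?_
    · intro u _
      rw [Finset.mem_filter]
      refine ⟨Finset.mem_univ _, ?_⟩
      have : (g * (u : H))⁻¹ * g = (u : H)⁻¹ := by group
      rw [this]
      exact inv_mem u.2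
    · intro u _ u' _ h
      exact Subtype.ext (mul_left_cancel h)
    · intro h hh
      rw [Finset.mem_filter] at hh
      refine ⟨⟨g⁻¹ * h, ?_⟩, Finset.mem_univ _, ?_⟩
      · have : g⁻¹ * h = (h⁻¹ * g)⁻¹ := by group
        rw [this]
        exact inv_mem hh.2
      · show g * (g⁻¹ * h) = h
        group
    · intro u _
      ring
  rw [h3, ← mul_assoc]
  congr 1
  have h4 : (Nat.card H : ℂ) = (Nat.card (H ⧸ K) : ℂ) * (Nat.card K : ℂ) := by
    have := Subgroup.card_eq_card_quotient_mul_card_subgroup K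
    exact_mod_cast this
  rw [h4]
  have hq0 : (Nat.card (H ⧸ K) : ℂ) ≠ 0 := Nat.cast_ne_zero.2 Nat.card_pos.ne'
  field_simp

/-- the averages of a character over the cosets of `K` are bounded by the average over `K` -/
theorem norm_avg_le (hcomm : ∀ a b : H ⧸ K, a * b = b * a) [Fintype K] {ψ : H → ℂ}
    (hψ : IsCharacter H ψ) {m0 : ℕ}
    (hm0 : (m0 : ℂ) = (Nat.card K : ℂ)⁻¹ * ∑ u : K, ψ (u : H)) (g : H) :
    ‖(Nat.card K : ℂ)⁻¹ * ∑ u : K, ψ (g * (u : H))‖ ≤ m0 := by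
  classical
  haveI : Finite ((H ⧸ K) →* ℂˣ) := finite_dual hcomm
  haveI : Fintype ((H ⧸ K) →* ℂˣ) := Fintype.ofFinite _
  have hc : ∀ φ : (H ⧸ K) →* ℂˣ, ∃ c : ℕ, classInner ψ (lamQ K φ) = c :=
    fun φ => classInner_char_irr_nat hψ (lamQ_irr K φ)
  choose c hc using hc
  have e1 := fourier_quot K hcomm ψ 1
  have e2 := fourier_quot K hcomm ψ g
  simp only [hc] at e1 e2
  have h1 : ∀ φ : (H ⧸ K) →* ℂˣ, lamQ K φ 1 = 1 := by
    intro φ
    unfold lamQ
    rw [QuotientGroup.mk_one, map_one, Units.val_one]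
  simp only [h1, mul_one, one_mul] at e1
  rw [← hm0] at e1
  rw [← e2]
  calc ‖∑ φ : (H ⧸ K) →* ℂˣ, (c φ : ℂ) * lamQ K φ g‖
      ≤ ∑ φ : (H ⧸ K) →* ℂˣ, ‖(c φ : ℂ) * lamQ K φ g‖ := norm_sum_le _ _
    _ = ∑ φ : (H ⧸ K) →* ℂˣ, (c φ : ℝ) := by
        refine Finset.sum_congr rfl fun φ _ => ?_
        rw [norm_mul, lamQ_norm, mul_one, Complex.norm_natCast]
    _ = m0 := by
        have : ((∑ φ : (H ⧸ K) →* ℂˣ, c φ : ℕ) : ℂ) = (m0 : ℂ) := by
          push_cast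
          exact e1
        have h2 : (∑ φ : (H ⧸ K) →* ℂˣ, c φ : ℕ) = m0 := by exact_mod_cast this
        rw [← h2]
        push_cast
        rfl

end Fourier

section Apply

variable {G : Type*} [Group G] [Fintype G] {p : ℕ} [hp : Fact p.Prime] {x : G}
variable (hx : orderOf x = p) (hself : ∀ g : G, g * x = x * g → g ∈ zpowers x)

include hx hself in
/-- the values of a character on the normalizer outside `⟨x⟩` are bounded by the multiplicity
of the trivial character of `⟨x⟩` -/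
theorem norm_le_mult {χ : G → ℂ} (hχ : IsCharacter G χ) {m0 : ℕ}
    (hm0 : (m0 : ℂ) = (p : ℂ)⁻¹ * ∑ u : zpowers x, χ (u : G)) {g : G} (hg : g ∈ nrm x)
    (hgP : g ∉ zpowers x) : ‖χ g‖ ≤ m0 := by
  classical
  haveI : Fintype (nrm x) := Fintype.ofFinite _
  haveI : Fintype (nrmP x) := Fintype.ofFinite _
  have hψ := Cfsg.Agent.S0148.isCharacter_restrict (nrm x) hχ
  have hcf := isClassFunction_of_isCharacter hχ
  have hcK : Nat.card (nrmP x) = p := card_nrmP hx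
  have hm0' : (m0 : ℂ) = (Nat.card (nrmP x) : ℂ)⁻¹ *
      ∑ u : nrmP x, (fun h : nrm x => χ (h : G)) (u : nrm x) := by
    rw [hm0, hcK]
    congr 1
    symm
    exact Fintype.sum_equiv (subgroupOfEquivOfLe (zpowers_le_nrm (x := x))).toEquiv _ _
      (fun u => rfl)
  have h1 := norm_avg_le (nrmP x) (nrm_quot_comm hx hself) hψ hm0' ⟨g, hg⟩
  have h2 : ∑ u : nrmP x, (fun h : nrm x => χ (h : G)) ((⟨g, hg⟩ : nrm x) * (u : nrm x)) =
      (Nat.card (nrmP x) : ℂ) * χ g := by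
    rw [Nat.card_eq_fintype_card, ← Finset.card_univ, ← nsmul_eq_mul, ← Finset.sum_const]
    refine Finset.sum_congr rfl fun u _ => ?_
    have hu : ((u : nrm x) : G) ∈ zpowers x := mem_subgroupOf.1 u.2
    obtain ⟨u₀, hu₀, h3⟩ := exists_conj_eq_mul hx hself hg hgP hu
    show χ (g * ((u : nrm x) : G)) = χ g
    rw [← h3]
    exact hcf g u₀
  rw [h2] at h1
  have hK0 : (Nat.card (nrmP x) : ℂ) ≠ 0 := Nat.cast_ne_zero.2 Nat.card_pos.ne'
  rw [inv_mul_cancel_left₀ hK0] at h1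
  exact h1

end Apply

end Cfsg.Agent.H7Brauer
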