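import Mathlib
import Cfsg.Agent.Lib.Helper7.Brn7
import Cfsg.Agent.Lib.Helper1.IndFun
import Cfsg.Agent.Lib.Helper8.CD4
import Cfsg.Agent.Lib.Helper8.TwoClass
import Cfsg.Agent.S0146

/-!
# Brauer: the permutation character on the cosets of the normalizer
-/


set_option autoImplicit false
set_option linter.unusedSectionVars false
set_option linter.unusedVariables false
set_option linter.style.haveILetI false

namespace Cfsg.Agent.H7Brauer

open Subgroup Cfsg Cfsg.Agent.Lib.Helper1 Cfsg.Agent.Lib.Helper4 Cfsg.Agent.Lib.Helper8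
open scoped ComplexConjugate

universe u

variable {G : Type u} [Group G] [Fintype G] {x : G}

/-- the permutation character on the cosets of the normalizer -/
noncomputable def piN (x : G) : G → ℂ := indFun (nrm x) (fun _ => (1 : ℂ))

theorem piN_isCharacter (x : G) : IsCharacter G (piN x) := by
  apply Cfsg.Agent.S0148.result
  have : (fun _ : nrm x => (1 : ℂ)) = (trivIrr (nrm x) : nrm x → ℂ) := by
    funext h
    rw [trivIrr_apply]
  rw [this]
  exact isCharacter_of_irr (trivIrr (nrm x)).2

theorem piN_apply (x g : G) :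
    piN x g = (Nat.card (nrm x) : ℂ)⁻¹ * (Nat.card {h : G // h⁻¹ * g * h ∈ nrm x} : ℂ) := by
  classical
  unfold piN
  rw [indFun_apply]
  congr 1
  have h1 : ∀ h : G, extendByZero (nrm x) (fun _ => (1 : ℂ)) (h⁻¹ * g * h) =
      if h⁻¹ * g * h ∈ nrm x then 1 else 0 := by
    intro h
    by_cases hm : h⁻¹ * g * h ∈ nrm x
    · rw [if_pos hm, extendByZero_of_mem _ _ hm]
    · rw [if_neg hm, extendByZero_of_notMem _ _ hm]
  simp only [h1]
  rw [Finset.sum_boole, Nat.card_eq_fintype_card, Fintype.card_subtype]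

/-- the decomposition of the permutation character -/
theorem piN_expansion [Fintype (IrrCharacter G)] [Fintype (nrm x)] :
    ∃ c : IrrCharacter G → ℕ, piN x = ∑ χ : IrrCharacter G, (c χ : ℂ) • (χ : G → ℂ) ∧
      ∀ χ : IrrCharacter G, (c χ : ℂ) =
        (Nat.card (nrm x) : ℂ)⁻¹ * ∑ h : nrm x, (χ : G → ℂ) (h : G) := by
  obtain ⟨c, hc, hexp⟩ := exists_nat_mult (piN_isCharacter x)
  refine ⟨c, hexp, ?_⟩
  intro χ
  have h := hc χ
  unfold piN at h
  rw [Cfsg.Agent.S0146.result (nrm x) _ _ (isClassFunction_irr χ.2)] at h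
  unfold classInner at h
  have h2 := congrArg conj h
  rw [map_mul, map_inv₀, map_natCast, map_natCast, map_sum] at h2
  rw [← h2]
  congr 1
  refine Finset.sum_congr rfl fun k _ => ?_
  rw [map_mul, map_one, one_mul, Complex.conj_conj]

variable {p : ℕ} [hp : Fact p.Prime]

/-- splitting a sum over the normalizer -/
theorem sum_nrm_split [Fintype (nrm x)] (f : G → ℂ) :
    ∑ h : nrm x, f (h : G) = ∑ u : zpowers x, f (u : G) +
      ∑ h ∈ Finset.univ.filter (fun h : nrm x => (h : G) ∉ zpowers x), f (h : G) := by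
  classical
  rw [← Finset.sum_filter_add_sum_filter_not Finset.univ (fun h : nrm x => (h : G) ∈ zpowers x)]
  congr 1
  symm
  refine Finset.sum_bij (fun (u : zpowers x) _ => (⟨(u : G), zpowers_le_nrm u.2⟩ : nrm x))
    ?_ ?_ ?_ ?_
  · intro u _
    rw [Finset.mem_filter]
    exact ⟨Finset.mem_univ _, u.2⟩
  · intro u _ u' _ h
    exact Subtype.ext (congrArg (fun t : nrm x => (t : G)) h)
  · intro h hh
    rw [Finset.mem_filter] at hh
    exact ⟨⟨(h : G), hh.2⟩, Finset.mem_univ _, rfl⟩
  · intro u _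
    rfl

theorem card_filter_notMem [Fintype (nrm x)] (hx : orderOf x = p) {e : ℕ}
    (hcard : Nat.card (nrm x) = p * e) :
    ((Finset.univ.filter (fun h : nrm x => (h : G) ∉ zpowers x)).card : ℂ) =
      (p : ℂ) * e - p := by
  classical
  have h1 := sum_nrm_split (x := x) (fun _ => (1 : ℂ))
  simp only [Finset.sum_const, Finset.card_univ, nsmul_eq_mul, mul_one] at h1
  rw [← Nat.card_eq_fintype_card, ← Nat.card_eq_fintype_card, hcard, Nat.card_zpowers, hx] at h1
  push_cast at h1
  linear_combination -h1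

end Cfsg.Agent.H7Brauer
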