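import Mathlib

set_option autoImplicit false

/-!
# Brauer: arithmetic lemmas on the degrees of the characters of the principal block
-/

namespace Cfsg.Agent.H7Brauer

theorem aux_upper {u v p e n : ℤ} (hv : 1 ≤ v) (hu : 2 ≤ u) (he : 0 < e) (he2 : 2 * e ≤ p - 1)
    (hn : 2 * n ≤ p + 1) (_hp : 3 ≤ p) (hrel : u * v * p = e * n + u * e + v) :
    2 * u ≤ p - 1 := by
  have hup : (0 : ℤ) ≤ u * p - 1 := by nlinarith
  have h1 : u * p - 1 ≤ e * (n + u) := by
    calc u * p - 1 ≤ v * (u * p - 1) := by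
          nlinarith [mul_nonneg (sub_nonneg.2 hv) hup]
      _ = e * (n + u) := by linear_combination hrel
  have h2 : u * p - u * e ≤ e * n + 1 := by linarith
  by_contra hcon
  have hcon' : p ≤ 2 * u := by omega
  have hue : e + 1 ≤ u := by omega
  have h4 : 2 * (e * n) ≤ e * (p + 1) := by
    have := mul_nonneg he.le (sub_nonneg.2 hn)
    linarith
  have h6 : p + 1 ≤ (u - e) * (p + 1) := by
    have := mul_nonneg (sub_nonneg.2 hue) (by linarith : (0 : ℤ) ≤ p + 1)
    linarith
  have h7 : u * (p + 1) ≤ 2 * (u * p - u * e) := by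
    have := mul_nonneg (by linarith : (0 : ℤ) ≤ u) (sub_nonneg.2 he2)
    linarith
  have h8 : (u - e) * (p + 1) = u * (p + 1) - e * (p + 1) := by ring
  linarith

theorem aux_minus_final {u p n : ℤ} (hu2 : 2 ≤ u) (hupper : 2 * u ≤ p - 1) (hn : 2 * n ≤ p + 1)
    (hge : u * p - 1 ≤ (u - 1) * (n + u)) : False := by
  have h1 := mul_nonneg (by linarith : (0 : ℤ) ≤ u - 1) (sub_nonneg.2 hn)
  have h2 := mul_nonneg (by linarith : (0 : ℤ) ≤ u) (sub_nonneg.2 hupper)
  nlinarith

/-- **Arithmetic lemma, sign `+1`.**  A divisor `u p + 1 > 1` of `e (1 + n p)` with `p = e t + 1`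
and `2 n ≤ p + 1` is `1 + n p`. -/
theorem deg_plus {p e t n u : ℕ} (hp : 3 ≤ p) (hpt : p = e * t + 1)
    (hn : 2 * n ≤ p + 1) (hu : 1 ≤ u) (hdvd : u * p + 1 ∣ e * (1 + n * p)) : u = n := by
  obtain ⟨w, hw⟩ := hdvd
  have he0 : 0 < e := by
    rcases Nat.eq_zero_or_pos e with h | h
    · subst h; omega
    · exact h
  have ht0 : 0 < t := by
    rcases Nat.eq_zero_or_pos t with h | h
    · subst h; omega
    · exact h
  have hep : e < p := by nlinarith
  have hwZ : (e : ℤ) * (1 + n * p) = (u * p + 1) * w := by exact_mod_cast hw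
  have hptZ : (p : ℤ) = e * t + 1 := by exact_mod_cast hpt
  have huZ : (1 : ℤ) ≤ u := by exact_mod_cast hu
  have heZ : (0 : ℤ) < e := by exact_mod_cast he0
  have hepZ : (e : ℤ) < p := by exact_mod_cast hep
  have hnZ : (2 : ℤ) * n ≤ p + 1 := by exact_mod_cast hn
  have hpZ : (3 : ℤ) ≤ p := by exact_mod_cast hp
  have htZ : (0 : ℤ) ≤ t := by positivity
  have hw0 : (0 : ℤ) ≤ w := by positivity
  have hn0 : (0 : ℤ) ≤ n := by positivity
  -- `w = e + p v` with `v = e n - u w`
  set v : ℤ := e * n - u * w with hv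
  have hwv : (w : ℤ) = e + p * v := by rw [hv]; linear_combination (-1) * hwZ
  have hv0 : 0 ≤ v := by
    by_contra hcon
    have : v ≤ -1 := by omega
    nlinarith
  have hrel : (e : ℤ) * n = u * v * p + u * e + v := by
    rw [hv]
    have : (u : ℤ) * w = u * (e + p * v) := by rw [hwv]
    rw [hv] at this
    nlinarith
  rcases eq_or_lt_of_le hv0 with hv00 | hvpos
  · rw [← hv00] at hrel
    have : (e : ℤ) * n = e * u := by linarith
    have := mul_left_cancel₀ heZ.ne' this
    exact_mod_cast this.symm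
  · exfalso
    have hvZ : 1 ≤ v := by omega
    have hk : v * (u + 1) = e * ((n : ℤ) - u - v * u * t) := by
      linear_combination (-1) * hrel - (u * v) * hptZ
    have hk'pos : (0 : ℤ) < (n : ℤ) - u - v * u * t := by
      by_contra hcon
      have hcon' : (n : ℤ) - u - v * u * t ≤ 0 := not_lt.1 hcon
      have : v * (u + 1) ≤ 0 := by
        rw [hk]
        exact mul_nonpos_of_nonneg_of_nonpos heZ.le hcon'
      nlinarith
    have hmain : ((u : ℤ) + 1) * ((n : ℤ) - u) = ((n : ℤ) - u - v * u * t) * (u * p + 1) := by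
      have h2 : (e : ℤ) * ((n : ℤ) - u) = v * (u * p + 1) := by linear_combination hrel
      have h1 : (e : ℤ) * (((u : ℤ) + 1) * ((n : ℤ) - u)) =
          e * (((n : ℤ) - u - v * u * t) * (u * p + 1)) := by
        calc (e : ℤ) * (((u : ℤ) + 1) * ((n : ℤ) - u))
            = ((u : ℤ) + 1) * (e * ((n : ℤ) - u)) := by ring
          _ = ((u : ℤ) + 1) * (v * (u * p + 1)) := by rw [h2]
          _ = (v * (u + 1)) * (u * p + 1) := by ring
          _ = (e * ((n : ℤ) - u - v * u * t)) * (u * p + 1) := by rw [hk]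
          _ = e * (((n : ℤ) - u - v * u * t) * (u * p + 1)) := by ring
      exact mul_left_cancel₀ heZ.ne' h1
    have hge : (u : ℤ) * p + 1 ≤ ((u : ℤ) + 1) * ((n : ℤ) - u) := by
      rw [hmain]
      have h3 : (0 : ℤ) < u * p + 1 := by positivity
      nlinarith
    nlinarith

/-- **Arithmetic lemma, sign `-1`, `t ≥ 2`.** -/
theorem deg_minus {p e t n u : ℕ} (hp : 3 ≤ p) (hpt : p = e * t + 1) (ht2 : 2 ≤ t)
    (hn : 2 * n ≤ p + 1) (hu : 1 ≤ u) {z : ℕ} (hz : z + 1 = u * p)
    (hdvd : z ∣ e * (1 + n * p)) : u = 1 := by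
  obtain ⟨w, hw⟩ := hdvd
  have he0 : 0 < e := by
    rcases Nat.eq_zero_or_pos e with h | h
    · subst h; omega
    · exact h
  by_contra hu1
  have hu2 : 2 ≤ u := by omega
  have hzZ : (z : ℤ) = u * p - 1 := by
    have : ((z + 1 : ℕ) : ℤ) = ((u * p : ℕ) : ℤ) := by rw [hz]
    push_cast at this; linarith
  have hwz : (e : ℤ) * (1 + n * p) = z * w := by exact_mod_cast hw
  have hptZ : (p : ℤ) = e * t + 1 := by exact_mod_cast hpt
  have huZ : (2 : ℤ) ≤ u := by exact_mod_cast hu2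
  have heZ : (0 : ℤ) < e := by exact_mod_cast he0
  have hnZ : (2 : ℤ) * n ≤ p + 1 := by exact_mod_cast hn
  have hn0 : (0 : ℤ) ≤ n := by positivity
  have hpZ : (3 : ℤ) ≤ p := by exact_mod_cast hp
  have htZ : (2 : ℤ) ≤ t := by exact_mod_cast ht2
  have hw0 : (0 : ℤ) ≤ w := by positivity
  have he2Z : (2 : ℤ) * e ≤ p - 1 := by nlinarith
  -- `w + e = p v`, `v = u w - e n`
  set v : ℤ := u * w - e * n with hv
  have hwv : (w : ℤ) = p * v - e := by
    rw [hv, hzZ] at *
    linear_combination hwz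
  have hwpos : (0 : ℤ) < w := by
    rcases eq_or_lt_of_le hw0 with h | h
    · exfalso
      rw [← h, mul_zero] at hwz
      have : (0 : ℤ) < e * (1 + n * p) := by positivity
      linarith
    · exact h
  have hvZ : 1 ≤ v := by
    by_contra hcon
    have : v ≤ 0 := by omega
    nlinarith
  -- basic relation `u v p = e n + u e + v`
  have hrel : (u : ℤ) * v * p = e * n + u * e + v := by
    have : (u : ℤ) * w = u * (p * v - e) := by rw [hwv]
    rw [hv] at this ⊢
    nlinarith
  have hupper : (2 : ℤ) * u ≤ p - 1 := aux_upper hvZ huZ heZ he2Z hnZ hpZ hrel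
  have hk : v * (u - 1) = e * ((n : ℤ) + u - v * u * t) := by
    linear_combination hrel - (u * v) * hptZ
  have hk'pos : (0 : ℤ) < (n : ℤ) + u - v * u * t := by
    by_contra hcon
    have hcon' : (n : ℤ) + u - v * u * t ≤ 0 := not_lt.1 hcon
    have : v * (u - 1) ≤ 0 := by
      rw [hk]
      exact mul_nonpos_of_nonneg_of_nonpos heZ.le hcon'
    nlinarith
  have hmain : ((u : ℤ) - 1) * ((n : ℤ) + u) = ((n : ℤ) + u - v * u * t) * (u * p - 1) := by
    have h2 : (e : ℤ) * ((n : ℤ) + u) = v * (u * p - 1) := by linear_combination (-1) * hrel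
    have h1 : (e : ℤ) * (((u : ℤ) - 1) * ((n : ℤ) + u)) =
        e * (((n : ℤ) + u - v * u * t) * (u * p - 1)) := by
      calc (e : ℤ) * (((u : ℤ) - 1) * ((n : ℤ) + u))
          = ((u : ℤ) - 1) * (e * ((n : ℤ) + u)) := by ring
        _ = ((u : ℤ) - 1) * (v * (u * p - 1)) := by rw [h2]
        _ = (v * (u - 1)) * (u * p - 1) := by ring
        _ = (e * ((n : ℤ) + u - v * u * t)) * (u * p - 1) := by rw [hk]
        _ = e * (((n : ℤ) + u - v * u * t) * (u * p - 1)) := by ring
    exact mul_left_cancel₀ heZ.ne' h1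
  have hge : (u : ℤ) * p - 1 ≤ ((u : ℤ) - 1) * ((n : ℤ) + u) := by
    rw [hmain]
    have h3 : (0 : ℤ) ≤ u * p - 1 := by nlinarith
    nlinarith [mul_nonneg (by linarith : (0 : ℤ) ≤ (n : ℤ) + u - v * u * t - 1) h3]
  exact aux_minus_final huZ hupper hnZ hge

/-- **Arithmetic lemma, sign `-1`, `e = p - 1`**: needs the size of the divisor. -/
theorem deg_minus_full {p e n u : ℕ} (hp : 3 ≤ p) (hpe : p = e + 1) (hn1 : 1 ≤ n)
    (hn : 2 * n ≤ p + 1) (hu : 1 ≤ u) {z : ℕ} (hz : z + 1 = u * p)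
    (hdvd : z ∣ e * (1 + n * p)) (hsize : z * z < p * (e * (1 + n * p))) : u = 1 := by
  obtain ⟨w, hw⟩ := hdvd
  have hzZ : (z : ℤ) = u * p - 1 := by
    have : ((z + 1 : ℕ) : ℤ) = ((u * p : ℕ) : ℤ) := by rw [hz]
    push_cast at this; linarith
  have hwz : (e : ℤ) * (1 + n * p) = z * w := by exact_mod_cast hw
  have hpeZ : (p : ℤ) = e + 1 := by exact_mod_cast hpe
  have huZ : (1 : ℤ) ≤ u := by exact_mod_cast hu
  have hpZ : (3 : ℤ) ≤ p := by exact_mod_cast hp
  have hnZ : (1 : ℤ) ≤ n := by exact_mod_cast hn1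
  have hw0 : (0 : ℤ) ≤ w := by positivity
  -- `w = p v + 1`, `v = u w - 1 - n p + n`
  set v : ℤ := u * w - 1 - n * p + n with hv
  have hwv : (w : ℤ) = p * v + 1 := by
    rw [hv]
    rw [hzZ, hpeZ] at hwz
    rw [hpeZ]
    linear_combination hwz
  have hv0 : 0 ≤ v := by
    by_contra hcon
    have : v ≤ -1 := by omega
    nlinarith
  rcases eq_or_lt_of_le hv0 with hv00 | hvpos
  · -- `w = 1`
    exfalso
    rw [← hv00, mul_zero, zero_add] at hwv
    have hw1 : w = 1 := by exact_mod_cast hwv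
    subst hw1
    rw [mul_one] at hw
    rw [hw] at hsize
    have h1 : z < p := by
      by_contra hcon
      have : p ≤ z := not_lt.1 hcon
      nlinarith
    have h2 : (p : ℤ) ≤ z := by
      have : (z : ℤ) = e * (1 + n * p) := by exact_mod_cast hw.symm
      rw [this, hpeZ]
      nlinarith
    have : p ≤ z := by exact_mod_cast h2
    omega
  · have hvn : ∃ v' : ℕ, (v' : ℤ) = v ∧ 1 ≤ v' := ⟨v.toNat, by omega, by omega⟩
    obtain ⟨v', hv', hv'1⟩ := hvn
    have hwN : w = v' * p + 1 := by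
      have : (w : ℤ) = v' * p + 1 := by rw [hv', hwv]; ring
      exact_mod_cast this
    have h1 : v' * p + 1 ∣ e * (1 + n * p) := ⟨z, by rw [hw, hwN]; ring⟩
    have h2 := deg_plus (t := 1) hp (by omega) hn hv'1 h1
    subst h2
    have h3 : z = e := by
      have h4 : z * (1 + v' * p) = e * (1 + v' * p) := by
        rw [hw, hwN]; ring
      exact Nat.eq_of_mul_eq_mul_right (by positivity) h4
    have h5 : u * p = 1 * p := by omega
    exact Nat.eq_of_mul_eq_mul_right (by omega) h5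

/-- the exceptional degree, sign `+1`: `z = m₀ p + e` forces `z = e`. -/
theorem deg_exc_plus {p e t n s : ℕ} (hp : 3 ≤ p) (hpt : p = e * t + 1) (hn1 : 1 ≤ n)
    (hn : 2 * n ≤ p + 1) {z : ℕ} (hz : z = s * p + e)
    (hdvd : z ∣ e * (1 + n * p)) (hsize : z * z < p * (e * (1 + n * p))) : s = 0 := by
  obtain ⟨w, hw⟩ := hdvd
  have he0 : 0 < e := by
    rcases Nat.eq_zero_or_pos e with h | h
    · subst h; omega
    · exact h
  have hwz : (e : ℤ) * (1 + n * p) = z * w := by exact_mod_cast hw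
  have hzZ : (z : ℤ) = s * p + e := by exact_mod_cast hz
  have hptZ : (p : ℤ) = e * t + 1 := by exact_mod_cast hpt
  have heZ : (0 : ℤ) < e := by exact_mod_cast he0
  have hpZ : (3 : ℤ) ≤ p := by exact_mod_cast hp
  have hnZ : (1 : ℤ) ≤ n := by exact_mod_cast hn1
  have hw0 : (0 : ℤ) ≤ w := by positivity
  have htZ : (0 : ℤ) ≤ t := by positivity
  -- `e (w - 1) = p (e n - s w)`; since `p = e t + 1`, `w - 1 = p (...)`
  -- `w - 1 = p * (e n - s w) - e t (w - 1)`... use: `w - 1 = p (w - 1) - e t (w - 1)`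
  set v : ℤ := (w - 1) - t * (e * n - s * w) with hv
  have hwv : (w : ℤ) = p * v + 1 := by
    have h1 : (e : ℤ) * (w - 1) = p * (e * n - s * w) := by
      rw [hzZ] at hwz
      linear_combination (-1) * hwz
    rw [hv]
    have h2 : (p : ℤ) * (w - 1) = (e * t + 1) * (w - 1) := by rw [← hptZ]
    nlinarith
  have hv0 : 0 ≤ v := by
    by_contra hcon
    have : v ≤ -1 := by omega
    nlinarith
  rcases eq_or_lt_of_le hv0 with hv00 | hvpos
  · exfalso
    rw [← hv00, mul_zero, zero_add] at hwv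
    have hw1 : w = 1 := by exact_mod_cast hwv
    subst hw1
    rw [mul_one] at hw
    rw [hw] at hsize
    have h1 : z < p := by
      by_contra hcon
      have : p ≤ z := not_lt.1 hcon
      nlinarith
    have h2 : (p : ℤ) ≤ z := by
      have : (z : ℤ) = e * (1 + n * p) := by exact_mod_cast hw.symm
      rw [this]
      have h3 : (1 : ℤ) + n * p ≤ e * (1 + n * p) := by
        nlinarith [mul_nonneg (by linarith : (0 : ℤ) ≤ (e : ℤ) - 1)
          (by positivity : (0 : ℤ) ≤ 1 + (n : ℤ) * p)]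
      have h4 : (p : ℤ) ≤ n * p := by nlinarith
      linarith
    have : p ≤ z := by exact_mod_cast h2
    omega
  · obtain ⟨v', hv', hv'1⟩ : ∃ v' : ℕ, (v' : ℤ) = v ∧ 1 ≤ v' := ⟨v.toNat, by omega, by omega⟩
    have hwN : w = v' * p + 1 := by
      have : (w : ℤ) = v' * p + 1 := by rw [hv', hwv]; ring
      exact_mod_cast this
    have h1 : v' * p + 1 ∣ e * (1 + n * p) := ⟨z, by rw [hw, hwN]; ring⟩
    have h2 := deg_plus hp hpt hn hv'1 h1
    subst h2
    have h3 : z = e := by
      have h4 : z * (1 + v' * p) = e * (1 + v' * p) := by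
        rw [hw, hwN]; ring
      exact Nat.eq_of_mul_eq_mul_right (by positivity) h4
    have : s * p = 0 := by omega
    rcases Nat.mul_eq_zero.1 this with h | h
    · exact h
    · omega

/-- the exceptional degree, sign `-1`, `t ≥ 2`: `z + e = s p` forces `z (p - 1) = e (1 + n p)`. -/
theorem deg_exc_minus {p e t n s : ℕ} (hp : 3 ≤ p) (hpt : p = e * t + 1) (ht2 : 2 ≤ t)
    (hn : 2 * n ≤ p + 1) {z : ℕ} (hz : z + e = s * p) (hz0 : 0 < z)
    (hdvd : z ∣ e * (1 + n * p)) : z * (p - 1) = e * (1 + n * p) := by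
  obtain ⟨w, hw⟩ := hdvd
  have he0 : 0 < e := by
    rcases Nat.eq_zero_or_pos e with h | h
    · subst h; omega
    · exact h
  have hwz : (e : ℤ) * (1 + n * p) = z * w := by exact_mod_cast hw
  have hzZ : (z : ℤ) = s * p - e := by
    have : ((z + e : ℕ) : ℤ) = ((s * p : ℕ) : ℤ) := by rw [hz]
    push_cast at this; linarith
  have hptZ : (p : ℤ) = e * t + 1 := by exact_mod_cast hpt
  have heZ : (0 : ℤ) < e := by exact_mod_cast he0
  have hpZ : (3 : ℤ) ≤ p := by exact_mod_cast hp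
  have hw0 : (0 : ℤ) ≤ w := by positivity
  have htZ : (0 : ℤ) ≤ t := by positivity
  have hzpos : (0 : ℤ) < z := by exact_mod_cast hz0
  -- `e (w + 1) = p (s w - e n)`, so `w + 1 = p v`
  set v : ℤ := (w + 1) - t * (s * w - e * n) with hv
  have hwv : (w : ℤ) + 1 = p * v := by
    have h1 : (e : ℤ) * (w + 1) = p * (s * w - e * n) := by
      rw [hzZ] at hwz
      linear_combination hwz
    rw [hv]
    have h2 : (p : ℤ) * (w + 1) = (e * t + 1) * (w + 1) := by rw [← hptZ]
    nlinarith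
  have hv1 : 1 ≤ v := by
    by_contra hcon
    have : v ≤ 0 := by omega
    nlinarith
  obtain ⟨v', hv', hv'1⟩ : ∃ v' : ℕ, (v' : ℤ) = v ∧ 1 ≤ v' := ⟨v.toNat, by omega, by omega⟩
  have hwN : w + 1 = v' * p := by
    have : ((w : ℤ) + 1) = v' * p := by rw [hv', hwv]; ring
    exact_mod_cast this
  have h1 : w ∣ e * (1 + n * p) := ⟨z, by rw [hw]; ring⟩
  have h2 := deg_minus hp hpt ht2 hn hv'1 hwN h1
  subst h2
  have : w = p - 1 := by omega
  rw [← this, hw]

end Cfsg.Agent.H7Brauer
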