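import Mathlib
import Cfsg.Agent.Lib.Helper7.Brn8
import Cfsg.Agent.Lib.Helper7.Brn9
import Cfsg.Agent.Lib.Helper8.Deflation
import Cfsg.Agent.Lib.Helper1.CharFound5

/-!
# Brauer: the hypotheses and the types of characters of the principal block
-/


set_option autoImplicit false
set_option linter.unusedSectionVars false
set_option linter.unusedVariables false
set_option linter.style.haveILetI false

namespace Cfsg.Agent.H7Brauer

open Subgroup Cfsg Cfsg.Agent.Lib.Helper1 Cfsg.Agent.Lib.Helper4 Cfsg.Agent.Lib.Helper8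
open scoped ComplexConjugate

universe u v

/-- the group-theoretic hypotheses -/
structure Setup {G : Type u} [Group G] (x : G) (p e n : ℕ) : Prop where
  hx : orderOf x = p
  hself : ∀ g : G, g * x = x * g → g ∈ zpowers x
  hperf : commutator G = ⊤
  hcardN : Nat.card (nrm x) = p * e
  hm : Nat.card (Sylow p G) = 1 + n * p
  hn : 2 * n ≤ p + 1
  hn1 : 1 ≤ n

/-- the shape of the principal block -/
structure Pat {G : Type u} [Group G] [Fintype G] [Fintype (IrrCharacter G)] (x : G) (p e : ℕ)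
    {Q : Type v} [Fintype Q] (ε : ℤ) (W : IrrCharacter G → ℤ) (a : Q → IrrCharacter G)
    (m0 : IrrCharacter G → ℕ) : Prop where
  hε : ε = 1 ∨ ε = -1
  inj : Function.Injective a
  hWa : ∀ q, W (a q) = 0
  hW3 : ∀ χ, W χ = 0 ∨ W χ = 1 ∨ W χ = -1
  card_W : Nat.card {χ : IrrCharacter G // W χ ≠ 0} = e
  hQe : Fintype.card Q * e = p - 1
  hm0 : ∀ χ : IrrCharacter G, (m0 χ : ℂ) = (p : ℂ)⁻¹ * ∑ u : zpowers x, (χ : G → ℂ) (u : G)
  deg_nonexc : ∀ χ : IrrCharacter G, χ ∉ Set.range a →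
    (charDegree (χ : G → ℂ) : ℤ) = p * m0 χ + ((p : ℤ) - 1) * W χ
  deg_exc : ∀ q, (charDegree (a q : G → ℂ) : ℤ) = p * m0 (a q) + ε * e
  rel : ∀ g : G, ¬ p ∣ orderOf g → ∀ q,
    ∑ χ : IrrCharacter G, (W χ : ℂ) * (χ : G → ℂ) g + (ε : ℂ) * (a q : G → ℂ) g = 0

section SetupFacts

variable {G : Type u} [Group G] [Finite G] {p e n : ℕ} [hp : Fact p.Prime] {x : G}

theorem Setup.card_G (S : Setup x p e n) : Nat.card G = p * e * (1 + n * p) := by
  rw [← card_sylow_mul_card_nrm S.hx S.hself, S.hm, S.hcardN]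
  ring

theorem Setup.two_le_e (S : Setup x p e n) : 2 ≤ e :=
  two_le_of_perfect S.hx S.hself S.hperf S.hcardN

theorem Setup.simple (S : Setup x p e n) (K : Subgroup G) [K.Normal] : K = ⊥ ∨ K = ⊤ :=
  isSimple_of_perfect S.hx S.hself S.hperf S.hcardN S.hm S.hn K

end SetupFacts

section PatFacts

variable {G : Type u} [Group G] [Fintype G] [Fintype (IrrCharacter G)] {p e n : ℕ}
  [hp : Fact p.Prime] {x : G} {Q : Type v} [Fintype Q] {ε : ℤ} {W : IrrCharacter G → ℤ}
  {a : Q → IrrCharacter G} {m0 : IrrCharacter G → ℕ}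

theorem Pat.p_eq (P : Pat x p e ε W a m0) : p = e * Fintype.card Q + 1 := by
  have h := P.hQe
  have h1 := hp.out.one_lt
  rw [mul_comm] at h
  omega

theorem Pat.three_le (P : Pat x p e ε W a m0) (he : 2 ≤ e) : 3 ≤ p := by
  have h1 := P.p_eq
  have h2 : 1 ≤ Fintype.card Q := by
    rcases Nat.eq_zero_or_pos (Fintype.card Q) with h | h
    · rw [h, mul_zero] at h1
      have := hp.out.one_lt
      omega
    · exact h
  nlinarith

theorem Pat.m0_triv (P : Pat x p e ε W a m0) (hx : orderOf x = p) : m0 (trivIrr G) = 1 := by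
  have h1 := P.hm0 (trivIrr G)
  simp only [trivIrr_apply, Finset.sum_const, Finset.card_univ, nsmul_eq_mul, mul_one] at h1
  rw [← Nat.card_eq_fintype_card, Nat.card_zpowers, hx] at h1
  have hp0 : (p : ℂ) ≠ 0 := Nat.cast_ne_zero.2 hp.out.ne_zero
  rw [inv_mul_cancel₀ hp0] at h1
  exact_mod_cast h1

theorem charDegree_trivIrr' : charDegree (trivIrr G : G → ℂ) = 1 := by
  have h1 := (irr_apply_one_eq_charDegree (trivIrr G).2).1
  rw [trivIrr_apply] at h1
  exact_mod_cast h1.symm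

theorem Pat.triv_notMem (P : Pat x p e ε W a m0) (hx : orderOf x = p)
    (ht2 : 2 ≤ Fintype.card Q) : trivIrr G ∉ Set.range a := by
  rintro ⟨q, hq⟩
  have h1 := P.deg_exc q
  rw [hq, charDegree_trivIrr', P.m0_triv hx] at h1
  have h2 := P.p_eq
  have hp2 := hp.out.two_le
  have h3 : (p : ℤ) = e * Fintype.card Q + 1 := by exact_mod_cast h2
  rcases P.hε with h | h
  · rw [h] at h1
    push_cast at h1
    have : (0 : ℤ) ≤ e := by positivity
    have : (2 : ℤ) ≤ p := by exact_mod_cast hp2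
    linarith
  · rw [h] at h1
    push_cast at h1
    have h4 : (e : ℤ) = p - 1 := by linarith
    have h5 : (2 : ℤ) ≤ Fintype.card Q := by exact_mod_cast ht2
    have h6 : (2 : ℤ) ≤ p := by exact_mod_cast hp2
    have h7 : (1 : ℤ) ≤ e := by linarith
    nlinarith

theorem Pat.W_triv (P : Pat x p e ε W a m0) (hx : orderOf x = p)
    (ht2 : 2 ≤ Fintype.card Q) : W (trivIrr G) = -1 := by
  have h1 := P.deg_nonexc _ (P.triv_notMem hx ht2)
  rw [charDegree_trivIrr', P.m0_triv hx] at h1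
  have hp2 : (2 : ℤ) ≤ p := by exact_mod_cast hp.out.two_le
  push_cast at h1
  rcases P.hW3 (trivIrr G) with h | h | h
  · rw [h] at h1
    linarith
  · rw [h] at h1
    linarith
  · exact h

/-- the degree of an irreducible character is prime to `p` if it is `≡ ±1` -/
theorem dvd_of_dvd_card {d k : ℕ} (hd : d ∣ p * k) (hnd : ¬ p ∣ d) : d ∣ k := by
  have hc : Nat.Coprime d p := (Nat.Coprime.symm ((Nat.Prime.coprime_iff_not_dvd hp.out).2 hnd))
  exact hc.dvd_of_dvd_mul_left hd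

theorem Pat.typeA (P : Pat x p e ε W a m0) (S : Setup x p e n) (ht2 : 2 ≤ Fintype.card Q)
    {χ : IrrCharacter G} (hχ : χ ∉ Set.range a) (hW : W χ = 1) :
    m0 χ = 0 ∧ charDegree (χ : G → ℂ) = p - 1 := by
  have h1 := P.deg_nonexc χ hχ
  rw [hW, mul_one] at h1
  have hp1 := hp.out.one_lt
  have h2 : charDegree (χ : G → ℂ) + 1 = (m0 χ + 1) * p := by
    have : ((charDegree (χ : G → ℂ) + 1 : ℕ) : ℤ) = (((m0 χ + 1) * p : ℕ) : ℤ) := by
      push_cast
      linarith
    exact_mod_cast this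
  have hdvd : charDegree (χ : G → ℂ) ∣ e * (1 + n * p) := by
    have h3 := charDegree_dvd_card χ.2
    rw [S.card_G, mul_assoc] at h3
    apply dvd_of_dvd_card h3
    intro h4
    have h5 : p ∣ charDegree (χ : G → ℂ) + 1 := by rw [h2]; exact Dvd.intro_left _ rfl
    have h6 : p ∣ 1 := (Nat.dvd_add_right h4).1 h5
    exact hp.out.one_lt.ne' (Nat.dvd_one.1 h6)
  have h7 := deg_minus (P.three_le S.two_le_e) P.p_eq ht2 S.hn (Nat.le_add_left 1 (m0 χ)) h2 hdvd
  have h8 : m0 χ = 0 := by omega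
  refine ⟨h8, ?_⟩
  rw [h8] at h2
  omega

theorem eq_trivIrr_of_degree_one (hperf : commutator G = ⊤) {χ : IrrCharacter G}
    (h : charDegree (χ : G → ℂ) = 1) : χ = trivIrr G := by
  have h1 : (χ : G → ℂ) 1 = 1 := by
    rw [(irr_apply_one_eq_charDegree χ.2).1, h]
    simp
  obtain ⟨φ, hφ⟩ := exists_hom_of_isIrrCharacter χ.2 h1
  apply Subtype.ext
  rw [hφ]
  funext g
  rw [trivIrr_apply]
  have : φ g = 1 := hom_trivial_of_perfect (fun a b => mul_comm a b) hperf φ g
  rw [this]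
  simp

theorem Pat.typeB (P : Pat x p e ε W a m0) (S : Setup x p e n) (ht2 : 2 ≤ Fintype.card Q)
    {χ : IrrCharacter G} (hχ : χ ∉ Set.range a) (hW : W χ = -1) (hne : χ ≠ trivIrr G) :
    m0 χ = n + 1 ∧ charDegree (χ : G → ℂ) = 1 + n * p := by
  have h1 := P.deg_nonexc χ hχ
  rw [hW] at h1
  have hp1 := hp.out.one_lt
  have hpos := (irr_apply_one_eq_charDegree χ.2).2
  have hne1 : charDegree (χ : G → ℂ) ≠ 1 := fun h => hne (eq_trivIrr_of_degree_one S.hperf h)
  have hm2 : 2 ≤ m0 χ := by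
    by_contra hlt
    have hcases : m0 χ = 0 ∨ m0 χ = 1 := by omega
    have hpZ : (2 : ℤ) ≤ p := by exact_mod_cast hp.out.two_le
    have hposZ : (0 : ℤ) < charDegree (χ : G → ℂ) := by exact_mod_cast hpos
    rcases hcases with h | h
    · rw [h] at h1
      push_cast at h1
      linarith
    · rw [h] at h1
      push_cast at h1
      apply hne1
      have : (charDegree (χ : G → ℂ) : ℤ) = 1 := by linarith
      exact_mod_cast this
  obtain ⟨u, hu⟩ : ∃ u, m0 χ = u + 1 := ⟨m0 χ - 1, by omega⟩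
  have h2 : charDegree (χ : G → ℂ) = u * p + 1 := by
    have : ((charDegree (χ : G → ℂ) : ℕ) : ℤ) = ((u * p + 1 : ℕ) : ℤ) := by
      rw [h1, hu]
      push_cast
      ring
    exact_mod_cast this
  have hdvd : u * p + 1 ∣ e * (1 + n * p) := by
    have h3 := charDegree_dvd_card χ.2
    rw [S.card_G, mul_assoc, h2] at h3
    apply dvd_of_dvd_card h3
    intro h4
    have h5 : p ∣ u * p := Dvd.intro_left _ rfl
    have h6 : p ∣ 1 := (Nat.dvd_add_right h5).1 h4
    exact hp.out.one_lt.ne' (Nat.dvd_one.1 h6)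
  have h7 := deg_plus (P.three_le S.two_le_e) P.p_eq S.hn (by omega : 1 ≤ u) hdvd
  rw [h7] at hu h2
  exact ⟨hu, by rw [h2]; ring⟩

theorem Pat.typeD (P : Pat x p e ε W a m0) {χ : IrrCharacter G} (hχ : χ ∉ Set.range a)
    (hW : W χ = 0) : charDegree (χ : G → ℂ) = p * m0 χ ∧ 1 ≤ m0 χ := by
  have h1 := P.deg_nonexc χ hχ
  rw [hW, mul_zero, add_zero] at h1
  have h2 : charDegree (χ : G → ℂ) = p * m0 χ := by exact_mod_cast h1
  refine ⟨h2, ?_⟩
  have hpos := (irr_apply_one_eq_charDegree χ.2).2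
  rw [h2] at hpos
  rcases Nat.eq_zero_or_pos (m0 χ) with h | h
  · rw [h, mul_zero] at hpos
    exact absurd hpos (lt_irrefl 0)
  · exact h

theorem Pat.ε_ne_zero (P : Pat x p e ε W a m0) : (ε : ℂ) ≠ 0 := by
  rcases P.hε with h | h <;> rw [h] <;> norm_num

theorem Pat.exc_agree (P : Pat x p e ε W a m0) {g : G} (hg : ¬ p ∣ orderOf g) (q q' : Q) :
    (a q : G → ℂ) g = (a q' : G → ℂ) g := by
  have h1 := P.rel g hg q
  have h2 := P.rel g hg q'
  apply mul_left_cancel₀ P.ε_ne_zero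
  linear_combination h1 - h2

theorem Pat.exc_deg_eq (P : Pat x p e ε W a m0) (q q' : Q) :
    charDegree (a q : G → ℂ) = charDegree (a q' : G → ℂ) ∧ m0 (a q) = m0 (a q') := by
  have h1 := P.exc_agree (g := 1) (by
    rw [orderOf_one]
    exact fun h => hp.out.one_lt.ne' (Nat.dvd_one.1 h)) q q'
  rw [(irr_apply_one_eq_charDegree (a q).2).1, (irr_apply_one_eq_charDegree (a q').2).1] at h1
  have h2 : charDegree (a q : G → ℂ) = charDegree (a q' : G → ℂ) := by exact_mod_cast h1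
  refine ⟨h2, ?_⟩
  have h3 := P.deg_exc q
  have h4 := P.deg_exc q'
  rw [h2] at h3
  have hp0 : (p : ℤ) ≠ 0 := by exact_mod_cast hp.out.ne_zero
  have h5 : (p : ℤ) * m0 (a q) = p * m0 (a q') := by linarith
  exact_mod_cast mul_left_cancel₀ hp0 h5

end PatFacts

end Cfsg.Agent.H7Brauer
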