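import Mathlib
import Cfsg.Agent.Lib.Helper7.Brn10

/-!
# Brauer: sums over the irreducible characters by type
-/


set_option autoImplicit false
set_option linter.unusedSectionVars false
set_option linter.unusedVariables false
set_option linter.style.haveILetI false

namespace Cfsg.Agent.H7Brauer

open Subgroup Cfsg Cfsg.Agent.Lib.Helper1 Cfsg.Agent.Lib.Helper4 Cfsg.Agent.Lib.Helper8
open scoped ComplexConjugate

universe u v

section

variable {G : Type u} [Group G] [Fintype G] [Fintype (IrrCharacter G)] {p e n : ℕ}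
  [hp : Fact p.Prime] {x : G} {Q : Type v} [Fintype Q] {ε : ℤ} {W : IrrCharacter G → ℤ}
  {a : Q → IrrCharacter G} {m0 : IrrCharacter G → ℕ}

open Classical in
/-- the characters of degree `p - 1` -/
noncomputable def SA (W : IrrCharacter G → ℤ) : Finset (IrrCharacter G) :=
  Finset.univ.filter (fun χ => W χ = 1)

open Classical in
/-- the characters of degree `1 + n p` -/
noncomputable def SB (W : IrrCharacter G → ℤ) : Finset (IrrCharacter G) :=
  Finset.univ.filter (fun χ => W χ = -1 ∧ χ ≠ trivIrr G)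

open Classical in
/-- the characters outside the principal block -/
noncomputable def SD (W : IrrCharacter G → ℤ) (a : Q → IrrCharacter G) :
    Finset (IrrCharacter G) :=
  Finset.univ.filter (fun χ => W χ = 0 ∧ χ ∉ Set.range a)

theorem mem_SA {χ : IrrCharacter G} : χ ∈ SA W ↔ W χ = 1 := by
  unfold SA
  simp

theorem mem_SB {χ : IrrCharacter G} : χ ∈ SB W ↔ W χ = -1 ∧ χ ≠ trivIrr G := by
  unfold SB
  simp

theorem mem_SD {χ : IrrCharacter G} : χ ∈ SD W a ↔ W χ = 0 ∧ χ ∉ Set.range a := by
  unfold SD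
  simp

open Classical in
/-- splitting a sum over the irreducible characters according to their type -/
theorem Pat.sum_split (P : Pat x p e ε W a m0) (htriv : trivIrr G ∉ Set.range a)
    (hWt : W (trivIrr G) = -1) {M : Type*} [AddCommMonoid M] (F : IrrCharacter G → M) :
    ∑ χ : IrrCharacter G, F χ = F (trivIrr G) + ∑ χ ∈ SA W, F χ + ∑ χ ∈ SB W, F χ +
      ∑ q : Q, F (a q) + ∑ χ ∈ SD W a, F χ := by
  have hpt : ∀ χ : IrrCharacter G, F χ = (if χ = trivIrr G then F χ else 0) +
      (if W χ = 1 then F χ else 0) + (if W χ = -1 ∧ χ ≠ trivIrr G then F χ else 0) +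
      (if χ ∈ Set.range a then F χ else 0) + (if W χ = 0 ∧ χ ∉ Set.range a then F χ else 0) := by
    intro χ
    by_cases hr : χ ∈ Set.range a
    · obtain ⟨q, rfl⟩ := hr
      have h0 := P.hWa q
      have hne : a q ≠ trivIrr G := fun h => htriv ⟨q, h⟩
      rw [if_neg hne, if_neg (by rw [h0]; norm_num), if_neg (by rw [h0]; norm_num),
        if_pos ⟨q, rfl⟩, if_neg (by simp)]
      simp
    · by_cases ht : χ = trivIrr G
      · subst ht
        rw [if_pos rfl, if_neg (by rw [hWt]; norm_num), if_neg (by simp), if_neg hr,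
          if_neg (by rw [hWt]; norm_num)]
        simp
      · rcases P.hW3 χ with h | h | h
        · rw [if_neg ht, if_neg (by rw [h]; norm_num), if_neg (by rw [h]; norm_num), if_neg hr,
            if_pos ⟨h, hr⟩]
          simp
        · rw [if_neg ht, if_pos h, if_neg (by rw [h]; norm_num), if_neg hr,
            if_neg (by rw [h]; norm_num)]
          simp
        · rw [if_neg ht, if_neg (by rw [h]; norm_num), if_pos ⟨h, ht⟩, if_neg hr,
            if_neg (by rw [h]; norm_num)]
          simp
  rw [Finset.sum_congr rfl (fun χ _ => hpt χ)]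
  simp only [Finset.sum_add_distrib]
  rw [Finset.sum_ite_eq' Finset.univ (trivIrr G) F, if_pos (Finset.mem_univ _)]
  unfold SA SB SD
  simp only [Finset.sum_filter]
  congr 2
  -- the exceptional characters
  have himg : Finset.univ.filter (fun χ : IrrCharacter G => χ ∈ Set.range a) =
      Finset.univ.image a := by
    ext χ
    simp
  rw [← Finset.sum_filter, himg, Finset.sum_image]
  intro q _ q' _ h
  exact P.inj h

/-- the number of characters of degree `p - 1` and `1 + n p` -/
theorem Pat.card_SA_add_card_SB (P : Pat x p e ε W a m0) (htriv : trivIrr G ∉ Set.range a)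
    (hWt : W (trivIrr G) = -1) : (SA W).card + (SB W).card + 1 = e := by
  classical
  have h1 := P.sum_split htriv hWt (fun χ => if W χ ≠ 0 then (1 : ℕ) else 0)
  have h2 : ∑ χ : IrrCharacter G, (if W χ ≠ 0 then (1 : ℕ) else 0) = e := by
    rw [Finset.sum_boole, ← P.card_W, Nat.card_eq_fintype_card, Fintype.card_subtype]
    simp
  rw [h2] at h1
  have h3 : ∑ χ ∈ SA W, (if W χ ≠ 0 then (1 : ℕ) else 0) = (SA W).card := by
    rw [Finset.card_eq_sum_ones]
    refine Finset.sum_congr rfl fun χ hχ => ?_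
    rw [mem_SA] at hχ
    rw [if_pos (by rw [hχ]; norm_num)]
  have h4 : ∑ χ ∈ SB W, (if W χ ≠ 0 then (1 : ℕ) else 0) = (SB W).card := by
    rw [Finset.card_eq_sum_ones]
    refine Finset.sum_congr rfl fun χ hχ => ?_
    rw [mem_SB] at hχ
    rw [if_pos (by rw [hχ.1]; norm_num)]
  have h5 : ∑ q : Q, (if W (a q) ≠ 0 then (1 : ℕ) else 0) = 0 := by
    apply Finset.sum_eq_zero
    intro q _
    rw [if_neg (by rw [P.hWa q]; simp)]
  have h6 : ∑ χ ∈ SD W a, (if W χ ≠ 0 then (1 : ℕ) else 0) = 0 := by
    apply Finset.sum_eq_zero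
    intro χ hχ
    rw [mem_SD] at hχ
    rw [if_neg (by rw [hχ.1]; simp)]
  rw [h3, h4, h5, h6, if_pos (by rw [hWt]; norm_num)] at h1
  omega

open Classical in
/-- column orthogonality against the identity -/
theorem col_one (h : G) :
    ∑ χ : IrrCharacter G, (charDegree (χ : G → ℂ) : ℂ) * (χ : G → ℂ) h =
      if h = 1 then (Nat.card G : ℂ) else 0 := by
  have h1 := column_orthogonality (G := G) 1 h
  have h2 : ∀ χ : IrrCharacter G, (χ : G → ℂ) h * conj ((χ : G → ℂ) 1) =
      (charDegree (χ : G → ℂ) : ℂ) * (χ : G → ℂ) h := by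
    intro χ
    rw [(irr_apply_one_eq_charDegree χ.2).1, Complex.conj_natCast, mul_comm]
  rw [Finset.sum_congr rfl (fun χ _ => h2 χ)] at h1
  rw [h1]
  have h3 : Subgroup.centralizer ({(1 : G)} : Set G) = ⊤ := by
    ext t
    simp [Subgroup.mem_centralizer_singleton_iff]
  rw [h3, Subgroup.card_top]
  unfold classIndicator
  by_cases hh : h = 1
  · rw [if_pos hh, hh, if_pos (IsConj.refl 1), mul_one]
  · rw [if_neg hh, if_neg, mul_zero]
    intro hc
    apply hh
    exact (isConj_one_right.1 hc)

/-- the sum of the squares of the degrees -/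
theorem sum_deg_sq : ∑ χ : IrrCharacter G, charDegree (χ : G → ℂ) * charDegree (χ : G → ℂ) =
    Nat.card G := by
  have h1 := col_one (G := G) 1
  rw [if_pos rfl] at h1
  have h2 : ((∑ χ : IrrCharacter G, charDegree (χ : G → ℂ) * charDegree (χ : G → ℂ) : ℕ) : ℂ) =
      (Nat.card G : ℂ) := by
    rw [← h1]
    push_cast
    refine Finset.sum_congr rfl fun χ _ => ?_
    rw [(irr_apply_one_eq_charDegree χ.2).1]
  exact_mod_cast h2

/-- the total multiplicity of the trivial character of `⟨x⟩` in the regular character -/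
theorem Pat.sum_deg_mul_m0 (P : Pat x p e ε W a m0) (S : Setup x p e n) :
    ∑ χ : IrrCharacter G, charDegree (χ : G → ℂ) * m0 χ = e * (1 + n * p) := by
  classical
  have hp0 : (p : ℂ) ≠ 0 := Nat.cast_ne_zero.2 hp.out.ne_zero
  have h1 : ((∑ χ : IrrCharacter G, charDegree (χ : G → ℂ) * m0 χ : ℕ) : ℂ) =
      (p : ℂ)⁻¹ * (Nat.card G : ℂ) := by
    push_cast
    simp only [P.hm0]
    have h2 : ∀ χ : IrrCharacter G, (charDegree (χ : G → ℂ) : ℂ) *
        ((p : ℂ)⁻¹ * ∑ u : zpowers x, (χ : G → ℂ) (u : G)) =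
        (p : ℂ)⁻¹ * ∑ u : zpowers x, (charDegree (χ : G → ℂ) : ℂ) * (χ : G → ℂ) (u : G) := by
      intro χ
      rw [Finset.mul_sum, Finset.mul_sum, Finset.mul_sum]
      refine Finset.sum_congr rfl fun u _ => ?_
      ring
    rw [Finset.sum_congr rfl (fun χ _ => h2 χ), ← Finset.mul_sum, Finset.sum_comm]
    congr 1
    simp only [col_one]
    rw [Finset.sum_eq_single (1 : zpowers x)]
    · rw [if_pos (by rfl : ((1 : zpowers x) : G) = 1)]
    · intro u _ hu
      rw [if_neg]
      intro h
      exact hu (Subtype.ext h)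
    · intro h
      exact absurd (Finset.mem_univ _) h
  rw [S.card_G] at h1
  have h3 : ((∑ χ : IrrCharacter G, charDegree (χ : G → ℂ) * m0 χ : ℕ) : ℂ) =
      ((e * (1 + n * p) : ℕ) : ℂ) := by
    rw [h1]
    push_cast
    field_simp
  exact_mod_cast h3

end

end Cfsg.Agent.H7Brauer
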