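import Mathlib
import Cfsg.Agent.Lib.Helper7.Brn11

/-!
# Brauer: the degree equations and their numeric consequences
-/


set_option autoImplicit false
set_option linter.unusedSectionVars false
set_option linter.unusedVariables false
set_option linter.style.haveILetI false

namespace Cfsg.Agent.H7Brauer

open Subgroup Cfsg Cfsg.Agent.Lib.Helper1 Cfsg.Agent.Lib.Helper4 Cfsg.Agent.Lib.Helper8
open scoped ComplexConjugate

universe u v

/-- arithmetic of the first case -/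
theorem arithI {p e n A B D : ℤ} (hp : p ≠ 0) (hAB : A + B + 1 = e)
    (hR1 : -1 + A * (p - 1) - B * (1 + n * p) + e = 0)
    (hR2 : 1 + B * ((1 + n * p) * (n + 1)) + p * D = e * (1 + n * p)) :
    A = B * n ∧ B * (n + 1) + 1 = e ∧ D = n := by
  have h1 : p * (A - B * n) = 0 := by linear_combination hR1 + hAB
  have h2 : A = B * n := by
    rcases mul_eq_zero.1 h1 with h | h
    · exact absurd h hp
    · linarith
  have h3 : B * (n + 1) + 1 = e := by rw [← hAB, h2]; ring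
  have h4 : p * (D - n) = 0 := by linear_combination hR2 - (1 + n * p) * h3
  refine ⟨h2, h3, ?_⟩
  rcases mul_eq_zero.1 h4 with h | h
  · exact absurd h hp
  · linarith

/-- arithmetic of the second case -/
theorem arithII {p e n A B D t z s : ℤ} (hp : p ≠ 0) (he : e ≠ 0) (hpt : t * e = p - 1)
    (hAB : A + B + 1 = e) (hz1 : z + e = s * p) (hz2 : z * (p - 1) = e * (1 + n * p))
    (hR1 : -1 + A * (p - 1) - B * (1 + n * p) - z = 0)
    (hR2 : 1 + B * ((1 + n * p) * (n + 1)) + t * (z * s) + p * D = e * (1 + n * p)) :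
    t * z = 1 + n * p ∧ t * s = n + 1 ∧ B * (n + 1) + s + 1 = e ∧ D = n := by
  have h1' : e * (t * z - (1 + n * p)) = 0 := by linear_combination hz2 + z * hpt
  have h1 : t * z = 1 + n * p := by
    rcases mul_eq_zero.1 h1' with h | h
    · exact absurd h he
    · linarith
  have h2' : p * (t * s - (n + 1)) = 0 := by linear_combination h1 + hpt - t * hz1
  have h2 : t * s = n + 1 := by
    rcases mul_eq_zero.1 h2' with h | h
    · exact absurd h hp
    · linarith
  have h3' : p * (B * (n + 1) + s + 1 - e) = 0 := by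
    linear_combination -hR1 + (p - 1) * hAB - hz1
  have h3 : B * (n + 1) + s + 1 = e := by
    rcases mul_eq_zero.1 h3' with h | h
    · exact absurd h hp
    · linarith
  have h4' : p * (D - n) = 0 := by linear_combination hR2 - s * h1 - (1 + n * p) * h3
  refine ⟨h1, h2, h3, ?_⟩
  rcases mul_eq_zero.1 h4' with h | h
  · exact absurd h hp
  · linarith

section

variable {G : Type u} [Group G] [Fintype G] [Fintype (IrrCharacter G)] {p e n : ℕ}
  [hp : Fact p.Prime] {x : G} {Q : Type v} [Fintype Q] {ε : ℤ} {W : IrrCharacter G → ℤ}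
  {a : Q → IrrCharacter G} {m0 : IrrCharacter G → ℕ}

theorem Pat.rel_one (P : Pat x p e ε W a m0) (q : Q) :
    ∑ χ : IrrCharacter G, W χ * (charDegree (χ : G → ℂ) : ℤ) +
      ε * (charDegree (a q : G → ℂ) : ℤ) = 0 := by
  have h1 := P.rel 1 (by
    rw [orderOf_one]
    exact fun h => hp.out.one_lt.ne' (Nat.dvd_one.1 h)) q
  have h2 : ((∑ χ : IrrCharacter G, W χ * (charDegree (χ : G → ℂ) : ℤ) +
      ε * (charDegree (a q : G → ℂ) : ℤ) : ℤ) : ℂ) = 0 := by
    rw [← h1]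
    push_cast
    rw [(irr_apply_one_eq_charDegree (a q).2).1]
    congr 1
    refine Finset.sum_congr rfl fun χ _ => ?_
    rw [(irr_apply_one_eq_charDegree χ.2).1]
  exact_mod_cast h2

theorem Pat.R1 (P : Pat x p e ε W a m0) (S : Setup x p e n) (ht2 : 2 ≤ Fintype.card Q) (q : Q) :
    -1 + ((SA W).card : ℤ) * ((p : ℤ) - 1) - ((SB W).card : ℤ) * (1 + n * p) +
      ε * (charDegree (a q : G → ℂ) : ℤ) = 0 := by
  have htriv := P.triv_notMem S.hx ht2
  have hWt := P.W_triv S.hx ht2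
  have h1 := P.rel_one q
  rw [P.sum_split htriv hWt] at h1
  have h3 : ∑ χ ∈ SA W, W χ * (charDegree (χ : G → ℂ) : ℤ) =
      ((SA W).card : ℤ) * ((p : ℤ) - 1) := by
    rw [Finset.card_eq_sum_ones, Nat.cast_sum, Finset.sum_mul]
    refine Finset.sum_congr rfl fun χ hχ => ?_
    rw [mem_SA] at hχ
    have hr : χ ∉ Set.range a := by
      rintro ⟨q', rfl⟩
      rw [P.hWa q'] at hχ
      norm_num at hχ
    rw [hχ, (P.typeA S ht2 hr hχ).2, Nat.cast_sub hp.out.one_lt.le]
    push_cast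
    ring
  have h4 : ∑ χ ∈ SB W, W χ * (charDegree (χ : G → ℂ) : ℤ) =
      -(((SB W).card : ℤ) * (1 + n * p)) := by
    rw [Finset.card_eq_sum_ones, Nat.cast_sum, Finset.sum_mul, ← Finset.sum_neg_distrib]
    refine Finset.sum_congr rfl fun χ hχ => ?_
    rw [mem_SB] at hχ
    have hr : χ ∉ Set.range a := by
      rintro ⟨q', rfl⟩
      have := hχ.1
      rw [P.hWa q'] at this
      norm_num at this
    rw [hχ.1, (P.typeB S ht2 hr hχ.1 hχ.2).2]
    push_cast
    ring
  have h5 : ∑ q' : Q, W (a q') * (charDegree (a q' : G → ℂ) : ℤ) = 0 := by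
    apply Finset.sum_eq_zero
    intro q' _
    rw [P.hWa q', zero_mul]
  have h6 : ∑ χ ∈ SD W a, W χ * (charDegree (χ : G → ℂ) : ℤ) = 0 := by
    apply Finset.sum_eq_zero
    intro χ hχ
    rw [mem_SD] at hχ
    rw [hχ.1, zero_mul]
  rw [h3, h4, h5, h6, hWt, charDegree_trivIrr'] at h1
  push_cast at h1
  linarith

theorem Pat.R2 (P : Pat x p e ε W a m0) (S : Setup x p e n) (ht2 : 2 ≤ Fintype.card Q) (q : Q) :
    1 + (SB W).card * ((1 + n * p) * (n + 1)) +
      Fintype.card Q * (charDegree (a q : G → ℂ) * m0 (a q)) +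
      p * ∑ χ ∈ SD W a, m0 χ * m0 χ = e * (1 + n * p) := by
  have htriv := P.triv_notMem S.hx ht2
  have hWt := P.W_triv S.hx ht2
  have h1 := P.sum_deg_mul_m0 S
  rw [P.sum_split htriv hWt] at h1
  have h3 : ∑ χ ∈ SA W, charDegree (χ : G → ℂ) * m0 χ = 0 := by
    apply Finset.sum_eq_zero
    intro χ hχ
    rw [mem_SA] at hχ
    have hr : χ ∉ Set.range a := by
      rintro ⟨q', rfl⟩
      rw [P.hWa q'] at hχ
      norm_num at hχ
    rw [(P.typeA S ht2 hr hχ).1, mul_zero]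
  have h4 : ∑ χ ∈ SB W, charDegree (χ : G → ℂ) * m0 χ =
      (SB W).card * ((1 + n * p) * (n + 1)) := by
    rw [Finset.card_eq_sum_ones, Finset.sum_mul]
    refine Finset.sum_congr rfl fun χ hχ => ?_
    rw [mem_SB] at hχ
    have hr : χ ∉ Set.range a := by
      rintro ⟨q', rfl⟩
      have := hχ.1
      rw [P.hWa q'] at this
      norm_num at this
    rw [(P.typeB S ht2 hr hχ.1 hχ.2).1, (P.typeB S ht2 hr hχ.1 hχ.2).2, one_mul]
  have h5 : ∑ q' : Q, charDegree (a q' : G → ℂ) * m0 (a q') =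
      Fintype.card Q * (charDegree (a q : G → ℂ) * m0 (a q)) := by
    rw [← Finset.card_univ, Finset.card_eq_sum_ones, Finset.sum_mul]
    refine Finset.sum_congr rfl fun q' _ => ?_
    rw [(P.exc_deg_eq q' q).1, (P.exc_deg_eq q' q).2, one_mul]
  have h6 : ∑ χ ∈ SD W a, charDegree (χ : G → ℂ) * m0 χ = p * ∑ χ ∈ SD W a, m0 χ * m0 χ := by
    rw [Finset.mul_sum]
    refine Finset.sum_congr rfl fun χ hχ => ?_
    rw [mem_SD] at hχ
    rw [(P.typeD hχ.2 hχ.1).1, mul_assoc]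
  rw [h3, h4, h5, h6, charDegree_trivIrr', P.m0_triv S.hx] at h1
  linarith

theorem Pat.e_lt (P : Pat x p e ε W a m0) (ht2 : 2 ≤ Fintype.card Q) (he : 2 ≤ e) : e < p := by
  have := P.p_eq
  nlinarith

theorem Pat.exc_dvd (P : Pat x p e ε W a m0) (S : Setup x p e n) (ht2 : 2 ≤ Fintype.card Q)
    (q : Q) : charDegree (a q : G → ℂ) ∣ e * (1 + n * p) := by
  have h3 := charDegree_dvd_card (a q).2
  rw [S.card_G, mul_assoc] at h3
  apply dvd_of_dvd_card h3
  intro h4
  have h5 := P.deg_exc q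
  have h6 : (p : ℤ) ∣ ε * e := by
    have h7 : (p : ℤ) ∣ (charDegree (a q : G → ℂ) : ℤ) := by exact_mod_cast h4
    have h8 : ε * (e : ℤ) = (charDegree (a q : G → ℂ) : ℤ) - p * m0 (a q) := by linarith
    rw [h8]
    exact dvd_sub h7 (Dvd.intro _ rfl)
  have h9 : (p : ℤ) ∣ e := by
    rcases P.hε with h | h
    · rw [h, one_mul] at h6
      exact h6
    · rw [h, neg_one_mul] at h6
      exact (dvd_neg).1 h6
  have h10 : p ∣ e := by exact_mod_cast h9
  have h11 := Nat.le_of_dvd (by have := S.two_le_e; omega) h10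
  have := P.e_lt ht2 S.two_le_e
  omega

theorem Pat.exc_ne_triv (P : Pat x p e ε W a m0) (S : Setup x p e n)
    (ht2 : 2 ≤ Fintype.card Q) (q : Q) : a q ≠ trivIrr G :=
  fun h => P.triv_notMem S.hx ht2 ⟨q, h⟩

theorem deg_sq_lt (S : Setup x p e n) {χ : IrrCharacter G} (hχ : χ ≠ trivIrr G) :
    charDegree (χ : G → ℂ) * charDegree (χ : G → ℂ) < p * (e * (1 + n * p)) := by
  classical
  have h1 := sum_deg_sq (G := G)
  rw [S.card_G, mul_assoc] at h1
  have hsub : ({χ, trivIrr G} : Finset (IrrCharacter G)) ⊆ Finset.univ := Finset.subset_univ _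
  have h2 := Finset.sum_le_sum_of_subset
    (f := fun χ : IrrCharacter G => charDegree (χ : G → ℂ) * charDegree (χ : G → ℂ)) hsub
  rw [h1, Finset.sum_pair hχ, charDegree_trivIrr'] at h2
  omega

theorem Pat.caseI (P : Pat x p e ε W a m0) (S : Setup x p e n) (ht2 : 2 ≤ Fintype.card Q)
    (hε : ε = 1) (q : Q) : m0 (a q) = 0 ∧ charDegree (a q : G → ℂ) = e := by
  have h1 := P.deg_exc q
  rw [hε, one_mul] at h1
  have h2 : charDegree (a q : G → ℂ) = m0 (a q) * p + e := by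
    have : ((charDegree (a q : G → ℂ) : ℕ) : ℤ) = ((m0 (a q) * p + e : ℕ) : ℤ) := by
      rw [h1]
      push_cast
      ring
    exact_mod_cast this
  have h3 := deg_exc_plus (P.three_le S.two_le_e) P.p_eq S.hn1 S.hn h2 (P.exc_dvd S ht2 q)
    (deg_sq_lt S (P.exc_ne_triv S ht2 q))
  refine ⟨h3, ?_⟩
  rw [h2, h3]
  ring

theorem Pat.caseII (P : Pat x p e ε W a m0) (S : Setup x p e n) (ht2 : 2 ≤ Fintype.card Q)
    (hε : ε = -1) (q : Q) : charDegree (a q : G → ℂ) + e = m0 (a q) * p ∧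
      charDegree (a q : G → ℂ) * (p - 1) = e * (1 + n * p) := by
  have h1 := P.deg_exc q
  rw [hε] at h1
  have h2 : charDegree (a q : G → ℂ) + e = m0 (a q) * p := by
    have : ((charDegree (a q : G → ℂ) + e : ℕ) : ℤ) = ((m0 (a q) * p : ℕ) : ℤ) := by
      push_cast
      rw [h1]
      ring
    exact_mod_cast this
  refine ⟨h2, ?_⟩
  exact deg_exc_minus (P.three_le S.two_le_e) P.p_eq ht2 S.hn h2
    (irr_apply_one_eq_charDegree (a q).2).2 (P.exc_dvd S ht2 q)

theorem Pat.numI (P : Pat x p e ε W a m0) (S : Setup x p e n) (ht2 : 2 ≤ Fintype.card Q)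
    (hε : ε = 1) : (SA W).card = (SB W).card * n ∧ (SB W).card * (n + 1) + 1 = e ∧
      ∑ χ ∈ SD W a, m0 χ * m0 χ = n := by
  have hne : Nonempty Q := by
    rw [← Fintype.card_pos_iff]
    omega
  obtain ⟨q⟩ := hne
  have hAB := P.card_SA_add_card_SB (P.triv_notMem S.hx ht2) (P.W_triv S.hx ht2)
  have hR1 := P.R1 S ht2 q
  have hR2 := P.R2 S ht2 q
  obtain ⟨hs, hz⟩ := P.caseI S ht2 hε q
  rw [hε, hz] at hR1
  rw [hs, mul_zero, mul_zero, add_zero] at hR2
  have hp0 : (p : ℤ) ≠ 0 := by exact_mod_cast hp.out.ne_zero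
  have hABZ : ((SA W).card : ℤ) + ((SB W).card : ℤ) + 1 = e := by exact_mod_cast hAB
  have hR2Z : (1 : ℤ) + ((SB W).card : ℤ) * ((1 + n * p) * (n + 1)) +
      p * ((∑ χ ∈ SD W a, m0 χ * m0 χ : ℕ) : ℤ) = e * (1 + n * p) := by exact_mod_cast hR2
  obtain ⟨h1, h2, h3⟩ := arithI hp0 hABZ (by linarith) hR2Z
  exact ⟨by exact_mod_cast h1, by exact_mod_cast h2, by exact_mod_cast h3⟩

theorem Pat.numII (P : Pat x p e ε W a m0) (S : Setup x p e n) (ht2 : 2 ≤ Fintype.card Q)
    (hε : ε = -1) (q : Q) :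
    Fintype.card Q * charDegree (a q : G → ℂ) = 1 + n * p ∧
      Fintype.card Q * m0 (a q) = n + 1 ∧ (SB W).card * (n + 1) + m0 (a q) + 1 = e ∧
      ∑ χ ∈ SD W a, m0 χ * m0 χ = n := by
  have hAB := P.card_SA_add_card_SB (P.triv_notMem S.hx ht2) (P.W_triv S.hx ht2)
  have hR1 := P.R1 S ht2 q
  have hR2 := P.R2 S ht2 q
  obtain ⟨hz1, hz2⟩ := P.caseII S ht2 hε q
  rw [hε] at hR1
  have hp0 : (p : ℤ) ≠ 0 := by exact_mod_cast hp.out.ne_zero
  have he0 : (e : ℤ) ≠ 0 := by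
    have := S.two_le_e
    have : (2 : ℤ) ≤ e := by exact_mod_cast this
    linarith
  have hABZ : ((SA W).card : ℤ) + ((SB W).card : ℤ) + 1 = e := by exact_mod_cast hAB
  have hptZ : (Fintype.card Q : ℤ) * e = p - 1 := by
    have := P.hQe
    have h1 : ((Fintype.card Q * e : ℕ) : ℤ) = ((p - 1 : ℕ) : ℤ) := by rw [this]
    rw [Nat.cast_sub hp.out.one_lt.le] at h1
    push_cast at h1
    exact h1
  have hz1Z : (charDegree (a q : G → ℂ) : ℤ) + e = m0 (a q) * p := by exact_mod_cast hz1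
  have hz2Z : (charDegree (a q : G → ℂ) : ℤ) * ((p : ℤ) - 1) = e * (1 + n * p) := by
    have h1 : ((charDegree (a q : G → ℂ) * (p - 1) : ℕ) : ℤ) = ((e * (1 + n * p) : ℕ) : ℤ) := by
      rw [hz2]
    rw [Nat.cast_mul, Nat.cast_sub hp.out.one_lt.le] at h1
    push_cast at h1
    exact h1
  have hR2Z : (1 : ℤ) + ((SB W).card : ℤ) * ((1 + n * p) * (n + 1)) +
      (Fintype.card Q : ℤ) * ((charDegree (a q : G → ℂ) : ℤ) * m0 (a q)) +
      p * ((∑ χ ∈ SD W a, m0 χ * m0 χ : ℕ) : ℤ) = e * (1 + n * p) := by exact_mod_cast hR2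
  obtain ⟨h1, h2, h3, h4⟩ := arithII hp0 he0 hptZ hABZ hz1Z hz2Z (by linarith) hR2Z
  exact ⟨by exact_mod_cast h1, by exact_mod_cast h2, by exact_mod_cast h3, by exact_mod_cast h4⟩

end

end Cfsg.Agent.H7Brauer
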