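import Mathlib
import Cfsg.Agent.Lib.Helper7.Brn12

/-!
# Brauer: character values on the normalizer outside the subgroup of order `p`
-/


set_option autoImplicit false
set_option linter.unusedSectionVars false
set_option linter.unusedVariables false
set_option linter.style.haveILetI false

namespace Cfsg.Agent.H7Brauer

open Subgroup Cfsg Cfsg.Agent.Lib.Helper1 Cfsg.Agent.Lib.Helper4 Cfsg.Agent.Lib.Helper8
open scoped ComplexConjugate

universe u v

/-- equality in the triangle-type bound -/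
theorem eq_of_sum_eq {ι : Type*} (s : Finset ι) (m : ι → ℕ) (z : ι → ℂ)
    (hm : ∀ i ∈ s, 1 ≤ m i) (hz : ∀ i ∈ s, ‖z i‖ ≤ m i)
    (hsum : ∑ i ∈ s, (m i : ℂ) * z i = ∑ i ∈ s, (m i : ℂ) * (m i : ℂ)) :
    ∀ i ∈ s, z i = m i := by
  have hre : ∀ i ∈ s, (z i).re ≤ m i := fun i hi => (Complex.re_le_norm (z i)).trans (hz i hi)
  have h1 : ∑ i ∈ s, (m i : ℝ) * ((m i : ℝ) - (z i).re) = 0 := by
    have h2 := congrArg Complex.re hsum
    rw [Complex.re_sum, Complex.re_sum] at h2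
    have h3 : ∀ i ∈ s, ((m i : ℂ) * z i).re = (m i : ℝ) * (z i).re := by
      intro i _
      rw [Complex.mul_re]
      simp
    have h4 : ∀ i ∈ s, ((m i : ℂ) * (m i : ℂ)).re = (m i : ℝ) * (m i : ℝ) := by
      intro i _
      rw [Complex.mul_re]
      simp
    rw [Finset.sum_congr rfl h3, Finset.sum_congr rfl h4] at h2
    simp only [mul_sub, Finset.sum_sub_distrib]
    linarith
  have h5 : ∀ i ∈ s, (m i : ℝ) * ((m i : ℝ) - (z i).re) = 0 := by
    apply (Finset.sum_eq_zero_iff_of_nonneg _).1 h1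
    intro i hi
    apply mul_nonneg (Nat.cast_nonneg _)
    linarith [hre i hi]
  intro i hi
  have h6 : (z i).re = m i := by
    have h7 := h5 i hi
    have h8 : (m i : ℝ) ≠ 0 := by
      have := hm i hi
      positivity
    rcases mul_eq_zero.1 h7 with h | h
    · exact absurd h h8
    · linarith
  have h9 : (z i).im = 0 := by
    have h10 := hz i hi
    have h11 : ‖z i‖ ^ 2 = (z i).re * (z i).re + (z i).im * (z i).im := by
      rw [Complex.sq_norm, Complex.normSq_apply]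
    have h12 : ‖z i‖ ^ 2 ≤ (m i : ℝ) ^ 2 := by
      apply pow_le_pow_left₀ (norm_nonneg _) h10
    rw [h11, h6] at h12
    have h13 : (z i).im * (z i).im ≤ 0 := by nlinarith
    have h14 : 0 ≤ (z i).im * (z i).im := mul_self_nonneg _
    have h15 : (z i).im * (z i).im = 0 := le_antisymm h13 h14
    exact mul_self_eq_zero.1 h15
  apply Complex.ext
  · rw [h6]; simp
  · rw [h9]; simp

section

variable {G : Type u} [Group G] [Fintype G] [Fintype (IrrCharacter G)] {p e n : ℕ}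
  [hp : Fact p.Prime] {x : G} {Q : Type v} [Fintype Q] {ε : ℤ} {W : IrrCharacter G → ℤ}
  {a : Q → IrrCharacter G} {m0 : IrrCharacter G → ℕ}

/-- elements of the normalizer outside `⟨x⟩` have order dividing `e` -/
theorem Setup.pow_eq_one (S : Setup x p e n) {g : G} (hg : g ∈ nrm x) (hgP : g ∉ zpowers x) :
    g ^ e = 1 := by
  have h1 : (QuotientGroup.mk (⟨g, hg⟩ : nrm x) : nrm x ⧸ nrmP x) ^ e = 1 := by
    rw [← card_nrm_quot S.hx S.hself S.hcardN]
    exact pow_card_eq_one'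
  rw [← QuotientGroup.mk_pow, QuotientGroup.eq_one_iff] at h1
  have h2 : g ^ e ∈ zpowers x := by
    have := mem_subgroupOf.1 h1
    simpa using this
  apply eq_one_of_commute S.hx S.hself hgP h2
  rw [← pow_succ', ← pow_succ]

theorem Pat.not_dvd_orderOf (P : Pat x p e ε W a m0) (S : Setup x p e n)
    (ht2 : 2 ≤ Fintype.card Q) {g : G} (hg : g ∈ nrm x) (hgP : g ∉ zpowers x) :
    ¬ p ∣ orderOf g := by
  intro h
  have h1 : orderOf g ∣ e := orderOf_dvd_of_pow_eq_one (S.pow_eq_one hg hgP)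
  have h2 := Nat.le_of_dvd (by have := S.two_le_e; omega) (h.trans h1)
  have := P.e_lt ht2 S.two_le_e
  omega

theorem Pat.norm_le (P : Pat x p e ε W a m0) (S : Setup x p e n) (χ : IrrCharacter G) {g : G}
    (hg : g ∈ nrm x) (hgP : g ∉ zpowers x) : ‖(χ : G → ℂ) g‖ ≤ m0 χ :=
  norm_le_mult S.hx S.hself (isCharacter_of_irr χ.2) (P.hm0 χ) hg hgP

theorem Pat.notMem_range_of_SA (P : Pat x p e ε W a m0) {χ : IrrCharacter G} (hχ : χ ∈ SA W) :
    χ ∉ Set.range a := by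
  rw [mem_SA] at hχ
  rintro ⟨q', rfl⟩
  rw [P.hWa q'] at hχ
  norm_num at hχ

theorem Pat.notMem_range_of_SB (P : Pat x p e ε W a m0) {χ : IrrCharacter G} (hχ : χ ∈ SB W) :
    χ ∉ Set.range a := by
  rw [mem_SB] at hχ
  rintro ⟨q', rfl⟩
  have := hχ.1
  rw [P.hWa q'] at this
  norm_num at this

/-- the characters of degree `p - 1` vanish on the normalizer outside `⟨x⟩` -/
theorem Pat.val_SA (P : Pat x p e ε W a m0) (S : Setup x p e n) (ht2 : 2 ≤ Fintype.card Q)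
    {χ : IrrCharacter G} (hχ : χ ∈ SA W) {g : G} (hg : g ∈ nrm x) (hgP : g ∉ zpowers x) :
    (χ : G → ℂ) g = 0 := by
  have h1 := P.norm_le S χ hg hgP
  rw [(P.typeA S ht2 (P.notMem_range_of_SA hχ) (mem_SA.1 hχ)).1] at h1
  have h2 : ‖(χ : G → ℂ) g‖ = 0 := le_antisymm (by exact_mod_cast h1) (norm_nonneg _)
  exact norm_eq_zero.1 h2

/-- the relation on the normalizer outside `⟨x⟩` -/
theorem Pat.rel_nrm (P : Pat x p e ε W a m0) (S : Setup x p e n) (ht2 : 2 ≤ Fintype.card Q)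
    {g : G} (hg : g ∈ nrm x) (hgP : g ∉ zpowers x) (q : Q) :
    ∑ χ ∈ SB W, (χ : G → ℂ) g = -1 + (ε : ℂ) * (a q : G → ℂ) g := by
  have htriv := P.triv_notMem S.hx ht2
  have hWt := P.W_triv S.hx ht2
  have h1 := P.rel g (P.not_dvd_orderOf S ht2 hg hgP) q
  rw [P.sum_split htriv hWt] at h1
  have h3 : ∑ χ ∈ SA W, (W χ : ℂ) * (χ : G → ℂ) g = 0 := by
    apply Finset.sum_eq_zero
    intro χ hχ
    rw [P.val_SA S ht2 hχ hg hgP, mul_zero]
  have h4 : ∑ χ ∈ SB W, (W χ : ℂ) * (χ : G → ℂ) g = -∑ χ ∈ SB W, (χ : G → ℂ) g := by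
    rw [← Finset.sum_neg_distrib]
    refine Finset.sum_congr rfl fun χ hχ => ?_
    rw [(mem_SB.1 hχ).1]
    push_cast
    ring
  have h5 : ∑ q' : Q, (W (a q') : ℂ) * (a q' : G → ℂ) g = 0 := by
    apply Finset.sum_eq_zero
    intro q' _
    rw [P.hWa q']
    simp
  have h6 : ∑ χ ∈ SD W a, (W χ : ℂ) * (χ : G → ℂ) g = 0 := by
    apply Finset.sum_eq_zero
    intro χ hχ
    rw [(mem_SD.1 hχ).1]
    simp
  rw [h3, h4, h5, h6, hWt, trivIrr_apply] at h1
  push_cast at h1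
  linear_combination -h1

/-- the exceptional characters vanish on the normalizer outside `⟨x⟩` in the first case -/
theorem Pat.val_exc_I (P : Pat x p e ε W a m0) (S : Setup x p e n) (ht2 : 2 ≤ Fintype.card Q)
    (hε : ε = 1) (q : Q) {g : G} (hg : g ∈ nrm x) (hgP : g ∉ zpowers x) :
    (a q : G → ℂ) g = 0 := by
  have h1 := P.norm_le S (a q) hg hgP
  rw [(P.caseI S ht2 hε q).1] at h1
  have h2 : ‖(a q : G → ℂ) g‖ = 0 := le_antisymm (by exact_mod_cast h1) (norm_nonneg _)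
  exact norm_eq_zero.1 h2

theorem Pat.sum_SD_sq (P : Pat x p e ε W a m0) (S : Setup x p e n) (ht2 : 2 ≤ Fintype.card Q) :
    ∑ χ ∈ SD W a, m0 χ * m0 χ = n := by
  have hne : Nonempty Q := by
    rw [← Fintype.card_pos_iff]
    omega
  obtain ⟨q⟩ := hne
  rcases P.hε with h | h
  · exact (P.numI S ht2 h).2.2
  · exact (P.numII S ht2 h q).2.2.2

/-- the weighted sum of the characters outside the principal block -/
theorem Pat.sum_SD_nrm (P : Pat x p e ε W a m0) (S : Setup x p e n) (ht2 : 2 ≤ Fintype.card Q)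
    {g : G} (hg : g ∈ nrm x) (hgP : g ∉ zpowers x) :
    ∑ χ ∈ SD W a, (m0 χ : ℂ) * (χ : G → ℂ) g = n := by
  classical
  have hne : Nonempty Q := by
    rw [← Fintype.card_pos_iff]
    omega
  obtain ⟨q⟩ := hne
  have htriv := P.triv_notMem S.hx ht2
  have hWt := P.W_triv S.hx ht2
  have hg1 : g ≠ 1 := fun h => hgP (h ▸ one_mem _)
  have h1 := col_one (G := G) g
  rw [if_neg hg1, P.sum_split htriv hWt] at h1
  have h3 : ∑ χ ∈ SA W, (charDegree (χ : G → ℂ) : ℂ) * (χ : G → ℂ) g = 0 := by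
    apply Finset.sum_eq_zero
    intro χ hχ
    rw [P.val_SA S ht2 hχ hg hgP, mul_zero]
  have h4 : ∑ χ ∈ SB W, (charDegree (χ : G → ℂ) : ℂ) * (χ : G → ℂ) g =
      ((1 + n * p : ℕ) : ℂ) * (-1 + (ε : ℂ) * (a q : G → ℂ) g) := by
    rw [← P.rel_nrm S ht2 hg hgP q, Finset.mul_sum]
    refine Finset.sum_congr rfl fun χ hχ => ?_
    rw [(P.typeB S ht2 (P.notMem_range_of_SB hχ) (mem_SB.1 hχ).1 (mem_SB.1 hχ).2).2]
  have h5 : ∑ q' : Q, (charDegree (a q' : G → ℂ) : ℂ) * (a q' : G → ℂ) g =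
      (Fintype.card Q : ℂ) * ((charDegree (a q : G → ℂ) : ℂ) * (a q : G → ℂ) g) := by
    rw [← Finset.card_univ, ← nsmul_eq_mul, ← Finset.sum_const]
    refine Finset.sum_congr rfl fun q' _ => ?_
    rw [(P.exc_deg_eq q' q).1, P.exc_agree (P.not_dvd_orderOf S ht2 hg hgP) q' q]
  have h6 : ∑ χ ∈ SD W a, (charDegree (χ : G → ℂ) : ℂ) * (χ : G → ℂ) g =
      (p : ℂ) * ∑ χ ∈ SD W a, (m0 χ : ℂ) * (χ : G → ℂ) g := by
    rw [Finset.mul_sum]
    refine Finset.sum_congr rfl fun χ hχ => ?_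
    rw [(P.typeD (mem_SD.1 hχ).2 (mem_SD.1 hχ).1).1]
    push_cast
    ring
  rw [h3, h4, h5, h6, charDegree_trivIrr', trivIrr_apply] at h1
  have hp0 : (p : ℂ) ≠ 0 := Nat.cast_ne_zero.2 hp.out.ne_zero
  apply mul_left_cancel₀ hp0
  rcases P.hε with h | h
  · rw [P.val_exc_I S ht2 h q hg hgP] at h1
    push_cast at h1
    linear_combination h1
  · have h7 := (P.numII S ht2 h q).1
    have h8 : (Fintype.card Q : ℂ) * (charDegree (a q : G → ℂ) : ℂ) = 1 + n * p := by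
      exact_mod_cast h7
    rw [h] at h1
    push_cast at h1
    linear_combination h1 - (a q : G → ℂ) g * h8

/-- the characters outside the principal block are constant on the normalizer outside `⟨x⟩` -/
theorem Pat.val_SD (P : Pat x p e ε W a m0) (S : Setup x p e n) (ht2 : 2 ≤ Fintype.card Q)
    {χ : IrrCharacter G} (hχ : χ ∈ SD W a) {g : G} (hg : g ∈ nrm x) (hgP : g ∉ zpowers x) :
    (χ : G → ℂ) g = m0 χ := by
  apply eq_of_sum_eq (SD W a) m0 (fun χ => (χ : G → ℂ) g) _ _ _ χ hχ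
  · intro χ' hχ'
    exact (P.typeD (mem_SD.1 hχ').2 (mem_SD.1 hχ').1).2
  · intro χ' _
    exact P.norm_le S χ' hg hgP
  · rw [P.sum_SD_nrm S ht2 hg hgP]
    have := P.sum_SD_sq S ht2
    have h2 : ((∑ χ ∈ SD W a, m0 χ * m0 χ : ℕ) : ℂ) = (n : ℂ) := by rw [this]
    rw [← h2]
    push_cast
    rfl

end

end Cfsg.Agent.H7Brauer
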