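import Mathlib
import Cfsg.Agent.Lib.Helper7.Brn13

/-!
# Brauer: the permutation character on the cosets of the normalizer and its consequences
-/


set_option autoImplicit false
set_option linter.unusedSectionVars false
set_option linter.unusedVariables false
set_option linter.style.haveILetI false

namespace Cfsg.Agent.H7Brauer

open Subgroup Cfsg Cfsg.Agent.Lib.Helper1 Cfsg.Agent.Lib.Helper4 Cfsg.Agent.Lib.Helper8
open scoped ComplexConjugate

universe u v

section

variable {G : Type u} [Group G] [Fintype G] [Fintype (IrrCharacter G)] {p e n : ℕ}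
  [hp : Fact p.Prime] {x : G} {Q : Type v} [Fintype Q] {ε : ℤ} {W : IrrCharacter G → ℤ}
  {a : Q → IrrCharacter G} {m0 : IrrCharacter G → ℕ}

/-- the coefficients of the permutation character -/
theorem Pat.coef_formula (P : Pat x p e ε W a m0) (S : Setup x p e n) [Fintype (nrm x)]
    {c : IrrCharacter G → ℕ}
    (hc : ∀ χ : IrrCharacter G, (c χ : ℂ) =
      (Nat.card (nrm x) : ℂ)⁻¹ * ∑ h : nrm x, (χ : G → ℂ) (h : G)) (χ : IrrCharacter G) :
    (c χ : ℂ) * ((p : ℂ) * e) = p * m0 χ +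
      ∑ h ∈ Finset.univ.filter (fun h : nrm x => (h : G) ∉ zpowers x), (χ : G → ℂ) (h : G) := by
  have hp0 : (p : ℂ) ≠ 0 := Nat.cast_ne_zero.2 hp.out.ne_zero
  have he0 : (e : ℂ) ≠ 0 := by
    have := S.two_le_e
    have : e ≠ 0 := by omega
    exact Nat.cast_ne_zero.2 this
  rw [hc χ, S.hcardN, sum_nrm_split, P.hm0 χ]
  push_cast
  field_simp

/-- **The permutation character on the cosets of the normalizer.** -/
theorem Pat.piN_eq (P : Pat x p e ε W a m0) (S : Setup x p e n) (ht2 : 2 ≤ Fintype.card Q)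
    (g : G) : piN x g = 1 + ∑ χ ∈ SD W a, (m0 χ : ℂ) * (χ : G → ℂ) g := by
  classical
  haveI : Fintype (nrm x) := Fintype.ofFinite _
  have hne : Nonempty Q := by
    rw [← Fintype.card_pos_iff]
    omega
  obtain ⟨q₀⟩ := hne
  have htriv := P.triv_notMem S.hx ht2
  have hWt := P.W_triv S.hx ht2
  have hp0 : (p : ℂ) ≠ 0 := Nat.cast_ne_zero.2 hp.out.ne_zero
  have he0 : (e : ℂ) ≠ 0 := by
    have := S.two_le_e
    have : e ≠ 0 := by omega
    exact Nat.cast_ne_zero.2 this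
  have hpe0 : (p : ℂ) * e ≠ 0 := mul_ne_zero hp0 he0
  obtain ⟨c, hexp, hc⟩ := piN_expansion (G := G) (x := x)
  have hcf := fun χ => P.coef_formula S hc χ
  set Nf := Finset.univ.filter (fun h : nrm x => (h : G) ∉ zpowers x) with hNf
  have hNfcard : (Nf.card : ℂ) = (p : ℂ) * e - p := card_filter_notMem S.hx S.hcardN
  have hmemNf : ∀ h ∈ Nf, (h : G) ∈ nrm x ∧ (h : G) ∉ zpowers x := by
    intro h hh
    rw [hNf, Finset.mem_filter] at hh
    exact ⟨h.2, hh.2⟩
  -- the trivial character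
  have c1 : c (trivIrr G) = 1 := by
    have h1 := hcf (trivIrr G)
    simp only [trivIrr_apply, Finset.sum_const, nsmul_eq_mul, mul_one] at h1
    rw [hNfcard, P.m0_triv S.hx] at h1
    have h2 : (c (trivIrr G) : ℂ) * ((p : ℂ) * e) = 1 * ((p : ℂ) * e) := by
      rw [h1]; push_cast; ring
    exact_mod_cast mul_right_cancel₀ hpe0 h2
  -- the characters of degree `p - 1`
  have cA : ∀ χ ∈ SA W, c χ = 0 := by
    intro χ hχ
    have h1 := hcf χ
    rw [(P.typeA S ht2 (P.notMem_range_of_SA hχ) (mem_SA.1 hχ)).1] at h1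
    have h2 : ∑ h ∈ Nf, (χ : G → ℂ) (h : G) = 0 := by
      apply Finset.sum_eq_zero
      intro h hh
      exact P.val_SA S ht2 hχ (hmemNf h hh).1 (hmemNf h hh).2
    rw [h2] at h1
    push_cast at h1
    have h3 : (c χ : ℂ) * ((p : ℂ) * e) = 0 * ((p : ℂ) * e) := by rw [h1]; ring
    exact_mod_cast mul_right_cancel₀ hpe0 h3
  -- the characters outside the principal block
  have cD : ∀ χ ∈ SD W a, c χ = m0 χ := by
    intro χ hχ
    have h1 := hcf χ
    have h2 : ∑ h ∈ Nf, (χ : G → ℂ) (h : G) = (Nf.card : ℂ) * m0 χ := by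
      rw [← nsmul_eq_mul, ← Finset.sum_const]
      refine Finset.sum_congr rfl fun h hh => ?_
      exact P.val_SD S ht2 hχ (hmemNf h hh).1 (hmemNf h hh).2
    rw [h2, hNfcard] at h1
    have h3 : (c χ : ℂ) * ((p : ℂ) * e) = (m0 χ : ℂ) * ((p : ℂ) * e) := by rw [h1]; ring
    exact_mod_cast mul_right_cancel₀ hpe0 h3
  -- the remaining characters
  have hT : ∀ q : Q, (∑ χ ∈ SB W, (c χ : ℂ)) - (ε : ℂ) * (c (a q) : ℂ) = 0 := by
    intro q
    have h1 : ((∑ χ ∈ SB W, (c χ : ℂ)) - (ε : ℂ) * (c (a q) : ℂ)) * ((p : ℂ) * e) =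
        (p : ℂ) * ((∑ χ ∈ SB W, (m0 χ : ℂ)) - (ε : ℂ) * (m0 (a q) : ℂ)) +
          ∑ h ∈ Nf, ((∑ χ ∈ SB W, (χ : G → ℂ) (h : G)) - (ε : ℂ) * (a q : G → ℂ) (h : G)) := by
      rw [sub_mul, Finset.sum_mul, mul_assoc, hcf (a q)]
      rw [Finset.sum_congr rfl (fun χ _ => hcf χ)]
      rw [Finset.sum_add_distrib, Finset.sum_sub_distrib, Finset.sum_comm, ← Finset.mul_sum,
        ← Finset.mul_sum]
      ring
    have h2 : ∑ h ∈ Nf, ((∑ χ ∈ SB W, (χ : G → ℂ) (h : G)) - (ε : ℂ) * (a q : G → ℂ) (h : G)) =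
        -(Nf.card : ℂ) := by
      rw [← mul_one (Nf.card : ℂ), ← nsmul_eq_mul, ← Finset.sum_const, ← Finset.sum_neg_distrib]
      refine Finset.sum_congr rfl fun h hh => ?_
      rw [P.rel_nrm S ht2 (hmemNf h hh).1 (hmemNf h hh).2 q]
      ring
    have h3 : ∑ χ ∈ SB W, (m0 χ : ℂ) = ((SB W).card : ℂ) * (n + 1) := by
      rw [← nsmul_eq_mul, ← Finset.sum_const]
      refine Finset.sum_congr rfl fun χ hχ => ?_
      rw [(P.typeB S ht2 (P.notMem_range_of_SB hχ) (mem_SB.1 hχ).1 (mem_SB.1 hχ).2).1]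
      push_cast
      rfl
    rw [h2, h3, hNfcard] at h1
    have h4 : ((SB W).card : ℂ) * (n + 1) - (ε : ℂ) * (m0 (a q) : ℂ) - e + 1 = 0 := by
      rcases P.hε with h | h
      · have h5 := (P.numI S ht2 h).2.1
        have h6 : ((SB W).card : ℂ) * (n + 1) + 1 = e := by exact_mod_cast h5
        rw [h, (P.caseI S ht2 h q).1]
        push_cast
        linear_combination h6
      · have h5 := (P.numII S ht2 h q).2.2.1
        have h6 : ((SB W).card : ℂ) * (n + 1) + m0 (a q) + 1 = e := by exact_mod_cast h5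
        rw [h]
        push_cast
        linear_combination h6
    have h7 : ((∑ χ ∈ SB W, (c χ : ℂ)) - (ε : ℂ) * (c (a q) : ℂ)) * ((p : ℂ) * e) = 0 := by
      rw [h1]
      linear_combination (p : ℂ) * h4
    rcases mul_eq_zero.1 h7 with h | h
    · exact h
    · exact absurd h hpe0
  have cE : ∀ q : Q, c (a q) = 0 := by
    intro q
    rcases P.hε with h | h
    · have h1 := hcf (a q)
      rw [(P.caseI S ht2 h q).1] at h1
      have h2 : ∑ h' ∈ Nf, (a q : G → ℂ) (h' : G) = 0 := by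
        apply Finset.sum_eq_zero
        intro h' hh
        exact P.val_exc_I S ht2 h q (hmemNf h' hh).1 (hmemNf h' hh).2
      rw [h2] at h1
      push_cast at h1
      have h3 : (c (a q) : ℂ) * ((p : ℂ) * e) = 0 * ((p : ℂ) * e) := by rw [h1]; ring
      exact_mod_cast mul_right_cancel₀ hpe0 h3
    · have h1 := hT q
      rw [h] at h1
      have h2 : ((∑ χ ∈ SB W, c χ + c (a q) : ℕ) : ℂ) = 0 := by
        push_cast
        push_cast at h1
        linear_combination h1
      have h3 : ∑ χ ∈ SB W, c χ + c (a q) = 0 := by exact_mod_cast h2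
      omega
  have cB : ∀ χ ∈ SB W, c χ = 0 := by
    have h1 := hT q₀
    rw [cE q₀] at h1
    have h2 : ((∑ χ ∈ SB W, c χ : ℕ) : ℂ) = 0 := by
      push_cast
      push_cast at h1
      linear_combination h1
    have h3 : ∑ χ ∈ SB W, c χ = 0 := by exact_mod_cast h2
    exact Finset.sum_eq_zero_iff.1 h3
  -- conclusion
  have h1 := congrFun hexp g
  rw [Finset.sum_apply] at h1
  simp only [Pi.smul_apply, smul_eq_mul] at h1
  rw [h1, P.sum_split htriv hWt]
  have e3 : ∑ χ ∈ SA W, (c χ : ℂ) * (χ : G → ℂ) g = 0 := by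
    apply Finset.sum_eq_zero
    intro χ hχ
    rw [cA χ hχ]
    simp
  have e4 : ∑ χ ∈ SB W, (c χ : ℂ) * (χ : G → ℂ) g = 0 := by
    apply Finset.sum_eq_zero
    intro χ hχ
    rw [cB χ hχ]
    simp
  have e5 : ∑ q : Q, (c (a q) : ℂ) * (a q : G → ℂ) g = 0 := by
    apply Finset.sum_eq_zero
    intro q _
    rw [cE q]
    simp
  have e6 : ∑ χ ∈ SD W a, (c χ : ℂ) * (χ : G → ℂ) g =
      ∑ χ ∈ SD W a, (m0 χ : ℂ) * (χ : G → ℂ) g := by
    refine Finset.sum_congr rfl fun χ hχ => ?_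
    rw [cD χ hχ]
  rw [e3, e4, e5, e6, c1, trivIrr_apply]
  push_cast
  ring

/-- the permutation character on the normalizer outside `⟨x⟩` -/
theorem Pat.piN_nrm (P : Pat x p e ε W a m0) (S : Setup x p e n) (ht2 : 2 ≤ Fintype.card Q)
    {g : G} (hg : g ∈ nrm x) (hgP : g ∉ zpowers x) : piN x g = n + 1 := by
  rw [P.piN_eq S ht2 g, P.sum_SD_nrm S ht2 hg hgP]
  ring

theorem Pat.card_conj_mem (P : Pat x p e ε W a m0) (S : Setup x p e n)
    (ht2 : 2 ≤ Fintype.card Q) {g : G} (hg : g ∈ nrm x) (hgP : g ∉ zpowers x) :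
    Nat.card {h : G // h⁻¹ * g * h ∈ nrm x} = p * e * (n + 1) := by
  have h1 := P.piN_nrm S ht2 hg hgP
  rw [piN_apply, S.hcardN] at h1
  have hpe0 : ((p * e : ℕ) : ℂ) ≠ 0 := by
    have := S.two_le_e
    have h2 : p * e ≠ 0 := Nat.mul_ne_zero hp.out.ne_zero (by omega)
    exact Nat.cast_ne_zero.2 h2
  have h3 : (Nat.card {h : G // h⁻¹ * g * h ∈ nrm x} : ℂ) = ((p * e * (n + 1) : ℕ) : ℂ) := by
    have h4 : (Nat.card {h : G // h⁻¹ * g * h ∈ nrm x} : ℂ) =
        ((p * e : ℕ) : ℂ) * (((p * e : ℕ) : ℂ)⁻¹ *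
          (Nat.card {h : G // h⁻¹ * g * h ∈ nrm x} : ℂ)) := by
      rw [mul_inv_cancel_left₀ hpe0]
    rw [h4, h1]
    push_cast
    ring
  exact_mod_cast h3

/-- the order of the centralizer of an involution of the normalizer -/
theorem Pat.card_centralizer_involution (P : Pat x p e ε W a m0) (S : Setup x p e n)
    (ht2 : 2 ≤ Fintype.card Q) {y : G} (hy : y ∈ nrm x) (hyP : y ∉ zpowers x)
    (hy2 : y * y = 1) : Nat.card (centralizer ({y} : Set G)) = (n + 1) * e := by
  have hp2 : p ≠ 2 := by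
    have := P.three_le S.two_le_e
    omega
  have h1 := card_conj_mem_nrm_involution S.hx S.hself hp2 hy hyP hy2
  rw [P.card_conj_mem S ht2 hy hyP] at h1
  have h2 : p * ((n + 1) * e) = p * Nat.card (centralizer ({y} : Set G)) := by
    rw [mul_comm p (Nat.card _), ← h1]
    ring
  exact (Nat.eq_of_mul_eq_mul_left hp.out.pos h2).symm

/-- the order of the normalizer of a complement -/
theorem Pat.card_normalizer_gen (P : Pat x p e ε W a m0) (S : Setup x p e n)
    (ht2 : 2 ≤ Fintype.card Q) {σ : G} (hσ : σ ∈ nrm x) (hσP : σ ∉ zpowers x)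
    (hgen : ∀ g ∈ nrm x, ∃ k : ℕ, ∃ u ∈ zpowers x, g = σ ^ k * u) :
    Nat.card (normalizer ((zpowers σ : Subgroup G) : Set G)) = (n + 1) * e := by
  have h1 := card_conj_mem_nrm_gen S.hx S.hself hσ hσP hgen
  rw [P.card_conj_mem S ht2 hσ hσP] at h1
  have h2 : p * ((n + 1) * e) =
      p * Nat.card (normalizer ((zpowers σ : Subgroup G) : Set G)) := by
    rw [mul_comm p (Nat.card _), ← h1]
    ring
  exact (Nat.eq_of_mul_eq_mul_left hp.out.pos h2).symm

end

end Cfsg.Agent.H7Brauer
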