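import Mathlib
import Cfsg.Agent.Lib.Helper7.Brn14
import Cfsg.Agent.Lib.Helper7.BR13
import Cfsg.Agent.Lib.Helper8.CharKernel

/-!
# Brauer: the case `ε = 1`
-/


set_option autoImplicit false
set_option linter.unusedSectionVars false
set_option linter.unusedVariables false
set_option linter.style.haveILetI false

namespace Cfsg.Agent.H7Brauer

open Subgroup Cfsg Cfsg.Agent.Lib.Helper1 Cfsg.Agent.Lib.Helper4 Cfsg.Agent.Lib.Helper8
open scoped ComplexConjugate

universe u v

/-- Lagrange's theorem for the normalizer of a complement, first case -/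
theorem lagrangeI {p e n B : ℕ} (hp : p.Prime) (hpe : p = 2 * e + 1) (he2 : 2 ≤ e) (hn1 : 1 ≤ n)
    (hn : 2 * n ≤ p + 1) (hB : B * (n + 1) + 1 = e)
    (hdvd : (n + 1) * e ∣ p * e * (1 + n * p)) : n = 1 := by
  have h1 : n + 1 ∣ p * (1 + n * p) := by
    have : (n + 1) * e ∣ (p * (1 + n * p)) * e := by
      have h0 : p * e * (1 + n * p) = (p * (1 + n * p)) * e := by ring
      rw [← h0]; exact hdvd
    exact Nat.dvd_of_mul_dvd_mul_right (by omega) this
  have hlt : n + 1 < p := by omega
  have hcop : Nat.Coprime (n + 1) p := by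
    apply Nat.Coprime.symm
    rw [Nat.Prime.coprime_iff_not_dvd hp]
    intro h
    have := Nat.le_of_dvd (by omega) h
    omega
  have h2 : n + 1 ∣ 1 + n * p := hcop.dvd_of_dvd_mul_left h1
  have h3 : n + 1 ∣ p - 1 := by
    have h4 : n + 1 ∣ (n + 1) * p := Dvd.intro _ rfl
    have h5 : (n + 1) * p - (1 + n * p) = p - 1 := by
      have : (n + 1) * p = n * p + p := by ring
      omega
    rw [← h5]
    exact Nat.dvd_sub h4 h2
  have h6 : p - 1 = 2 * e := by omega
  rw [h6] at h3
  have hcop2 : Nat.Coprime (n + 1) e := by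
    rw [← hB]
    have : Nat.Coprime (n + 1) (B * (n + 1) + 1) := by
      have h8 : Nat.gcd (n + 1) (B * (n + 1) + 1) ∣ B * (n + 1) :=
        dvd_mul_of_dvd_right (Nat.gcd_dvd_left _ _) B
      have h9 : Nat.gcd (n + 1) (B * (n + 1) + 1) ∣ B * (n + 1) + 1 := Nat.gcd_dvd_right _ _
      exact Nat.dvd_one.1 ((Nat.dvd_add_right h8).1 h9)
    exact this
  have h7 : n + 1 ∣ 2 := hcop2.dvd_of_dvd_mul_right h3
  have h8 := Nat.le_of_dvd (by norm_num) h7
  omega

section

variable {G : Type u} [Group G] [Fintype G] [Fintype (IrrCharacter G)] {p e n : ℕ}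
  [hp : Fact p.Prime] {x : G} {Q : Type v} [Fintype Q] {ε : ℤ} {W : IrrCharacter G → ℤ}
  {a : Q → IrrCharacter G} {m0 : IrrCharacter G → ℕ}

/-- `p` is odd -/
theorem Pat.odd_p (P : Pat x p e ε W a m0) (S : Setup x p e n) : Odd p := by
  have h3 := P.three_le S.two_le_e
  rcases hp.out.eq_two_or_odd' with h | h
  · omega
  · exact h

/-- the exceptional characters are faithful -/
theorem Pat.exc_faithful (P : Pat x p e ε W a m0) (S : Setup x p e n) (ht2 : 2 ≤ Fintype.card Q)
    (q : Q) (hm : m0 (a q) < charDegree (a q : G → ℂ)) (g : G)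
    (hg : (a q : G → ℂ) g = (a q : G → ℂ) 1) : g = 1 := by
  obtain ⟨K, hKn, hK⟩ := exists_normal_ker (isCharacter_of_irr (a q).2)
  haveI := hKn
  rcases S.simple K with h | h
  · have : g ∈ K := (hK g).2 hg
    rw [h] at this
    exact Subgroup.mem_bot.1 this
  · exfalso
    have h1 := P.hm0 (a q)
    have h2 : ∀ u : zpowers x, (a q : G → ℂ) (u : G) = (a q : G → ℂ) 1 := by
      intro u
      apply (hK _).1
      rw [h]
      exact Subgroup.mem_top _
    simp only [h2, Finset.sum_const, Finset.card_univ, nsmul_eq_mul] at h1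
    rw [← Nat.card_eq_fintype_card, Nat.card_zpowers, S.hx,
      (irr_apply_one_eq_charDegree (a q).2).1] at h1
    have hp0 : (p : ℂ) ≠ 0 := Nat.cast_ne_zero.2 hp.out.ne_zero
    rw [inv_mul_cancel_left₀ hp0] at h1
    have h3 : m0 (a q) = charDegree (a q : G → ℂ) := by exact_mod_cast h1
    omega

/-- **The first case**: `ε = 1`. -/
theorem Pat.caseI_main (P : Pat x p e ε W a m0) (S : Setup x p e n) (ht2 : 2 ≤ Fintype.card Q)
    (hε : ε = 1) : Fintype.card Q = 2 ∧ n = 1 := by
  have hne : Nonempty Q := by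
    rw [← Fintype.card_pos_iff]
    omega
  obtain ⟨q⟩ := hne
  obtain ⟨hA, hB, hD⟩ := P.numI S ht2 hε
  obtain ⟨hs, hz⟩ := P.caseI S ht2 hε q
  have he2 := S.two_le_e
  obtain ⟨σ, hσ, hσP, hσo, hgen⟩ := exists_gen S.hx S.hself S.hcardN he2
  -- `e` is odd
  have hodd : Odd e := by
    by_contra hev
    rw [Nat.not_odd_iff_even] at hev
    have h1 : Odd ((SB W).card * (n + 1)) := by
      have h2 : Odd ((SB W).card * (n + 1) + 1 + 1) := by
        rw [hB]
        exact hev.add_one
      rcases Nat.even_or_odd ((SB W).card * (n + 1)) with h3 | h3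
      · exfalso
        have : Even ((SB W).card * (n + 1) + 1 + 1) := by
          rw [add_assoc]
          exact h3.add (by norm_num)
        exact (Nat.not_even_iff_odd.2 h2) this
      · exact h3
    have h4 : Odd (n + 1) := (Nat.odd_mul.1 h1).2
    have h5 : Even n := by
      rcases Nat.even_or_odd n with h | h
      · exact h
      · exfalso
        exact (Nat.not_even_iff_odd.2 h4) h.add_one
    have h6 : Odd (1 + n * p) := by
      rw [add_comm]
      exact (h5.mul_right p).add_one
    have h7 : Odd (p * (1 + n * p)) := Nat.odd_mul.2 ⟨P.odd_p S, h6⟩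
    apply false_of_odd_index S.hperf hσo hev _ h7
    rw [S.card_G]
    ring
  -- `t ≤ 2`
  have ht : Fintype.card Q = 2 := by
    by_contra hne
    have ht3 : 3 ≤ Fintype.card Q := by omega
    have hpe := P.p_eq
    have hdeg : 2 * charDegree (a q : G → ℂ) + 1 < p := by
      rw [hz, hpe]
      nlinarith
    have hnorm := Cfsg.Agent.Lib.Helper7.br_main (Nat.card G) G rfl p x S.hx
      (not_sq_dvd S.hx S.hself) (a q : G → ℂ) (isCharacter_of_irr (a q).2)
      (P.exc_faithful S ht2 q (by rw [hs, hz]; omega)) hdeg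
    -- `⟨x⟩` is normal: contradiction
    have h1 : nrm x = ⊤ := Subgroup.normalizer_eq_top_iff.2 hnorm
    have h2 := card_sylow_mul_card_nrm S.hx S.hself
    rw [h1, Subgroup.card_top, S.hm] at h2
    have h3 : 1 + n * p = 1 := by
      have h4 : (1 + n * p) * Nat.card G = 1 * Nat.card G := by rw [h2, one_mul]
      exact Nat.eq_of_mul_eq_mul_right Nat.card_pos h4
    have := S.hn1
    have := hp.out.pos
    nlinarith
  refine ⟨ht, ?_⟩
  have hN := P.card_normalizer_gen S ht2 hσ hσP hgen
  have hdvd : (n + 1) * e ∣ p * e * (1 + n * p) := by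
    rw [← hN, ← S.card_G]
    exact Subgroup.card_subgroup_dvd_card _
  have hpe : p = 2 * e + 1 := by
    have := P.p_eq
    rw [ht] at this
    omega
  exact lagrangeI hp.out hpe he2 S.hn1 S.hn hB hdvd

end

end Cfsg.Agent.H7Brauer
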