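import Mathlib
import Cfsg.Agent.Lib.Helper7.Brn15
import Cfsg.Agent.Lib.Helper8.RK2
import Cfsg.Agent.Lib.Helper8.ClassAlgebra3

/-!
# Brauer: the case `ε = -1`, parity and arithmetic
-/


set_option autoImplicit false
set_option linter.unusedSectionVars false
set_option linter.unusedVariables false
set_option linter.style.haveILetI false

namespace Cfsg.Agent.H7Brauer

open Subgroup Cfsg Cfsg.Agent.Lib.Helper1 Cfsg.Agent.Lib.Helper4 Cfsg.Agent.Lib.Helper8
open scoped ComplexConjugate

universe u v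

/-- Lagrange's theorem for the normalizer of a complement, second case -/
theorem lagrangeII {p e n B t z s : ℕ} (hp : p.Prime) (he2 : 2 ≤ e) (ht2 : 2 ≤ t)
    (hpt : p = e * t + 1) (hn : 2 * n ≤ p + 1) (hts : t * s = n + 1) (htz : t * z = 1 + n * p)
    (hzs : z + e = s * p) (hB : B * (n + 1) + s + 1 = e) (hodd : Odd e)
    (hdvd : (n + 1) * e ∣ p * e * (1 + n * p)) : False := by
  have hp5 : 5 ≤ p := by nlinarith
  have h1 : n + 1 ∣ p * (1 + n * p) := by
    have : (n + 1) * e ∣ (p * (1 + n * p)) * e := by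
      have h0 : p * e * (1 + n * p) = (p * (1 + n * p)) * e := by ring
      rw [← h0]; exact hdvd
    exact Nat.dvd_of_mul_dvd_mul_right (by omega) this
  have hs0 : 0 < s := by
    rcases Nat.eq_zero_or_pos s with h | h
    · rw [h, mul_zero] at hts
      omega
    · exact h
  have h2 : s ∣ p * z := by
    rw [← hts, ← htz] at h1
    have h3 : t * s ∣ t * (p * z) := by
      have : p * (t * z) = t * (p * z) := by ring
      rw [← this]; exact h1
    exact Nat.dvd_of_mul_dvd_mul_left (by omega) h3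
  have hsle : s ≤ n + 1 := by
    rw [← hts]
    exact Nat.le_mul_of_pos_left s (by omega)
  have hcop : Nat.Coprime s p := by
    apply Nat.Coprime.symm
    rw [Nat.Prime.coprime_iff_not_dvd hp]
    intro h
    have := Nat.le_of_dvd hs0 h
    omega
  have h4 : s ∣ z := hcop.dvd_of_dvd_mul_left h2
  have h5 : s ∣ e := by
    have h6 : s ∣ z + e := by rw [hzs]; exact Dvd.intro _ rfl
    exact (Nat.dvd_add_right h4).1 h6
  have hsodd : Odd s := Odd.of_dvd_nat hodd h5
  have h7 : Odd (B * (n + 1)) := by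
    rcases Nat.even_or_odd (B * (n + 1)) with h | h
    · exfalso
      have h8 : Even (B * (n + 1) + (s + 1)) := h.add hsodd.add_one
      rw [← add_assoc, hB] at h8
      exact (Nat.not_even_iff_odd.2 hodd) h8
    · exact h
  have h9 : Odd (n + 1) := (Nat.odd_mul.1 h7).2
  rw [← hts] at h9
  have h10 : Odd t := (Nat.odd_mul.1 h9).1
  have h11 : Odd (e * t) := Nat.odd_mul.2 ⟨hodd, h10⟩
  have h12 : Even p := by rw [hpt]; exact h11.add_one
  rcases hp.eq_two_or_odd' with h | h
  · omega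
  · exact (Nat.not_even_iff_odd.2 h) h12

/-- the arithmetic of the class multiplication constant -/
theorem cc_arith {p e n t L S2 : ℂ} (hp0 : p ≠ 0) (he0 : e ≠ 0) (hm0 : 1 + n * p ≠ 0)
    (hpt : p = t * e + 1) (hL : L * ((n + 1) * e) = p * e * (1 + n * p))
    (hS2 : S2 = (n + 1) * (e - 1))
    (hE : ((n + 1) * e) * (L + p * (p - 1)) =
      L * p * (1 + ((n + 1) / (1 + n * p)) * S2 + n / p)) :
    n * t * e ^ 2 * (t - (n + 1)) = 0 := by
  have hL' : L * (n + 1) = p * (1 + n * p) := by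
    apply mul_right_cancel₀ he0
    linear_combination hL
  have h1 : L * p * (1 + ((n + 1) / (1 + n * p)) * S2 + n / p) * (1 + n * p) =
      L * (1 + n * p) * (p + n) + L * p * (n + 1) * S2 := by
    have e1 : (n + 1) / (1 + n * p) * (1 + n * p) = n + 1 := div_mul_cancel₀ _ hm0
    have e2 : n / p * p = n := div_mul_cancel₀ _ hp0
    linear_combination (L * p * S2) * e1 + (L * (1 + n * p)) * e2
  have Em : (n + 1) * e * (1 + n * p) * (L + p * (p - 1)) =
      L * (1 + n * p) * (p + n) + L * p * (n + 1) ^ 2 * (e - 1) := by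
    have : (n + 1) * e * (1 + n * p) * (L + p * (p - 1)) =
        ((n + 1) * e) * (L + p * (p - 1)) * (1 + n * p) := by ring
    rw [this, hE, h1, hS2]
    ring
  have hfin : ((n + 1) * e * ((1 + n * p) + (n + 1) * (p - 1)) - (1 + n * p) * (p + n) -
      p * (n + 1) ^ 2 * (e - 1)) * (p * (1 + n * p)) = 0 := by
    linear_combination (n + 1) * Em - ((n + 1) * e * (1 + n * p) - (1 + n * p) * (p + n) -
      p * (n + 1) ^ 2 * (e - 1)) * hL'
  have hX : (n + 1) * e * ((1 + n * p) + (n + 1) * (p - 1)) - (1 + n * p) * (p + n) -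
      p * (n + 1) ^ 2 * (e - 1) = 0 := by
    rcases mul_eq_zero.1 hfin with h | h
    · exact h
    · exact absurd h (mul_ne_zero hp0 hm0)
  subst hpt
  linear_combination -hX

section

variable {G : Type u} [Group G] [Fintype G] [Fintype (IrrCharacter G)] {p e n : ℕ}
  [hp : Fact p.Prime] {x : G} {Q : Type v} [Fintype Q] {ε : ℤ} {W : IrrCharacter G → ℤ}
  {a : Q → IrrCharacter G} {m0 : IrrCharacter G → ℕ}

/-- in the second case `e` is even -/
theorem Pat.caseII_even (P : Pat x p e ε W a m0) (S : Setup x p e n) (ht2 : 2 ≤ Fintype.card Q)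
    (hε : ε = -1) : Even e := by
  by_contra hodd
  rw [Nat.not_even_iff_odd] at hodd
  have hne : Nonempty Q := by
    rw [← Fintype.card_pos_iff]
    omega
  obtain ⟨q⟩ := hne
  obtain ⟨h1, h2, h3, h4⟩ := P.numII S ht2 hε q
  obtain ⟨hz1, hz2⟩ := P.caseII S ht2 hε q
  have he2 := S.two_le_e
  obtain ⟨σ, hσ, hσP, hσo, hgen⟩ := exists_gen S.hx S.hself S.hcardN he2
  have hN := P.card_normalizer_gen S ht2 hσ hσP hgen
  have hdvd : (n + 1) * e ∣ p * e * (1 + n * p) := by
    rw [← hN, ← S.card_G]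
    exact Subgroup.card_subgroup_dvd_card _
  exact lagrangeII hp.out he2 ht2 P.p_eq S.hn h2 h1 hz1 h3 hodd hdvd

/-- an involution of the normalizer -/
theorem Setup.exists_involution (S : Setup x p e n) (hev : Even e) :
    ∃ σ ∈ nrm x, σ ∉ zpowers x ∧ orderOf σ = e ∧
      (∀ g ∈ nrm x, ∃ k : ℕ, ∃ u ∈ zpowers x, g = σ ^ k * u) ∧
      ∃ y ∈ nrm x, y ∉ zpowers x ∧ y * y = 1 ∧ y ∈ zpowers σ := by
  have he2 := S.two_le_e
  obtain ⟨σ, hσ, hσP, hσo, hgen⟩ := exists_gen S.hx S.hself S.hcardN he2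
  refine ⟨σ, hσ, hσP, hσo, hgen, σ ^ (e / 2), pow_mem hσ _, ?_, ?_, ?_⟩
  · intro hy
    have h1 : σ ^ (e / 2) = 1 := by
      apply eq_one_of_commute S.hx S.hself hσP hy
      rw [← pow_succ', ← pow_succ]
    have h2 : e ∣ e / 2 := by
      have := orderOf_dvd_of_pow_eq_one h1
      rwa [hσo] at this
    have h3 := Nat.le_of_dvd (by omega) h2
    omega
  · rw [← pow_add]
    have : e / 2 + e / 2 = e := by
      obtain ⟨k, hk⟩ := hev
      omega
    rw [this, ← hσo, pow_orderOf_eq_one]
  · exact pow_mem (mem_zpowers σ) _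

end

end Cfsg.Agent.H7Brauer
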