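import Mathlib
import Cfsg.Agent.Lib.Helper7.Brn16

/-!
# Brauer: the case `ε = -1`, the class multiplication constant of an involution
-/


set_option autoImplicit false
set_option linter.unusedSectionVars false
set_option linter.unusedVariables false
set_option linter.style.haveILetI false

namespace Cfsg.Agent.H7Brauer

open Subgroup Cfsg Cfsg.Agent.Lib.Helper1 Cfsg.Agent.Lib.Helper4 Cfsg.Agent.Lib.Helper8
open scoped ComplexConjugate

universe u v

section

variable {G : Type u} [Group G] [Fintype G] [Fintype (IrrCharacter G)] {p e n : ℕ}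
  [hp : Fact p.Prime] {x : G} {Q : Type v} [Fintype Q] {ε : ℤ} {W : IrrCharacter G → ℤ}
  {a : Q → IrrCharacter G} {m0 : IrrCharacter G → ℕ}

/-- the second orthogonality relation at an element of the normalizer outside `⟨x⟩` -/
theorem Pat.second_orth (P : Pat x p e ε W a m0) (S : Setup x p e n) (ht2 : 2 ≤ Fintype.card Q)
    {g : G} (hg : g ∈ nrm x) (hgP : g ∉ zpowers x) (q : Q) :
    (Nat.card (centralizer ({g} : Set G)) : ℂ) = 1 + n +
      (∑ χ ∈ SB W, conj ((χ : G → ℂ) g) * (χ : G → ℂ) g +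
        (Fintype.card Q : ℂ) * (conj ((a q : G → ℂ) g) * (a q : G → ℂ) g)) := by
  have htriv := P.triv_notMem S.hx ht2
  have hWt := P.W_triv S.hx ht2
  have h1 := sum_irr_mul_conj_self (G := G) g
  rw [P.sum_split htriv hWt] at h1
  have h3 : ∑ χ ∈ SA W, (χ : G → ℂ) g * conj ((χ : G → ℂ) g) = 0 := by
    apply Finset.sum_eq_zero
    intro χ hχ
    rw [P.val_SA S ht2 hχ hg hgP, zero_mul]
  have h5 : ∑ q' : Q, (a q' : G → ℂ) g * conj ((a q' : G → ℂ) g) =
      (Fintype.card Q : ℂ) * (conj ((a q : G → ℂ) g) * (a q : G → ℂ) g) := by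
    rw [← Finset.card_univ, ← nsmul_eq_mul, ← Finset.sum_const]
    refine Finset.sum_congr rfl fun q' _ => ?_
    rw [P.exc_agree (P.not_dvd_orderOf S ht2 hg hgP) q' q, mul_comm]
  have h6 : ∑ χ ∈ SD W a, (χ : G → ℂ) g * conj ((χ : G → ℂ) g) = n := by
    have := P.sum_SD_sq S ht2
    have h2 : ((∑ χ ∈ SD W a, m0 χ * m0 χ : ℕ) : ℂ) = (n : ℂ) := by rw [this]
    rw [← h2]
    push_cast
    refine Finset.sum_congr rfl fun χ hχ => ?_
    rw [P.val_SD S ht2 hχ hg hgP, Complex.conj_natCast]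
  have h4 : ∑ χ ∈ SB W, (χ : G → ℂ) g * conj ((χ : G → ℂ) g) =
      ∑ χ ∈ SB W, conj ((χ : G → ℂ) g) * (χ : G → ℂ) g :=
    Finset.sum_congr rfl fun χ _ => mul_comm _ _
  rw [h3, h4, h5, h6, trivIrr_apply] at h1
  rw [← h1]
  simp
  ring

/-- the size of a conjugacy class -/
theorem card_isConj_eq_index (g : G) :
    Nat.card {z : G // IsConj g z} = (centralizer ({g} : Set G)).index := by
  have h1 := card_isConj_mul_card_centralizer g
  have h2 := (centralizer ({g} : Set G)).index_mul_card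
  exact Nat.eq_of_mul_eq_mul_right Nat.card_pos (h1.trans h2.symm)

/-- the class multiplication constant of an involution of the normalizer against `⟨x⟩` -/
theorem Pat.cc_formula (P : Pat x p e ε W a m0) (S : Setup x p e n) (ht2 : 2 ≤ Fintype.card Q)
    (hε : ε = -1) {y : G} (hy : y ∈ nrm x) (hyP : y ∉ zpowers x) (hy2 : y * y = 1) (q : Q) :
    (((n : ℂ) + 1) * e) * (((centralizer ({y} : Set G)).index : ℂ) + p * ((p : ℂ) - 1)) =
      ((centralizer ({y} : Set G)).index : ℂ) * p *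
        (1 + (((n : ℂ) + 1) / (1 + n * p)) *
          (∑ χ ∈ SB W, conj ((χ : G → ℂ) y) * (χ : G → ℂ) y +
            (Fintype.card Q : ℂ) * (conj ((a q : G → ℂ) y) * (a q : G → ℂ) y)) + n / p) := by
  classical
  have htriv := P.triv_notMem S.hx ht2
  have hWt := P.W_triv S.hx ht2
  have hp2 : p ≠ 2 := by
    have := P.three_le S.two_le_e
    omega
  have hp0 : (p : ℂ) ≠ 0 := Nat.cast_ne_zero.2 hp.out.ne_zero
  have hm0' : ((1 : ℂ) + n * p) ≠ 0 := by
    have : ((1 + n * p : ℕ) : ℂ) ≠ 0 := Nat.cast_ne_zero.2 (by omega)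
    push_cast at this
    exact this
  have h0 := Cfsg.Agent.Lib.Helper8.RK.card_centralizer_mul_card_pairs (zpowers x) y y
  rw [P.card_centralizer_involution S ht2 hy hyP hy2,
    card_pairs_involution S.hx S.hself hp2 hy hyP hy2, card_isConj_eq_index] at h0
  set L : ℂ := ((centralizer ({y} : Set G)).index : ℂ) with hL
  -- the terms of the sum
  have hterm : ∀ ψ : IrrCharacter G, conj ((ψ : G → ℂ) y) * centralChar (ψ : G → ℂ) y *
      ∑ s : zpowers x, conj ((ψ : G → ℂ) (s : G)) =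
      L * p * (conj ((ψ : G → ℂ) y) * (ψ : G → ℂ) y * (m0 ψ : ℂ) /
        (charDegree (ψ : G → ℂ) : ℂ)) := by
    intro ψ
    have h1 : ∑ s : zpowers x, conj ((ψ : G → ℂ) (s : G)) = (p : ℂ) * m0 ψ := by
      rw [← map_sum]
      have h2 := P.hm0 ψ
      have h3 : ∑ u : zpowers x, (ψ : G → ℂ) (u : G) = (p : ℂ) * m0 ψ := by
        rw [h2, mul_inv_cancel_left₀ hp0]
      rw [h3, map_mul, Complex.conj_natCast, Complex.conj_natCast]
    rw [h1]
    unfold centralChar
    rw [(irr_apply_one_eq_charDegree ψ.2).1, ← hL]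
    ring
  rw [Finset.sum_congr rfl (fun ψ _ => hterm ψ), ← Finset.mul_sum, P.sum_split htriv hWt] at h0
  have h3 : ∑ χ ∈ SA W, conj ((χ : G → ℂ) y) * (χ : G → ℂ) y * (m0 χ : ℂ) /
      (charDegree (χ : G → ℂ) : ℂ) = 0 := by
    apply Finset.sum_eq_zero
    intro χ hχ
    rw [(P.typeA S ht2 (P.notMem_range_of_SA hχ) (mem_SA.1 hχ)).1]
    simp
  have h4 : ∑ χ ∈ SB W, conj ((χ : G → ℂ) y) * (χ : G → ℂ) y * (m0 χ : ℂ) /
      (charDegree (χ : G → ℂ) : ℂ) =
      (((n : ℂ) + 1) / (1 + n * p)) * ∑ χ ∈ SB W, conj ((χ : G → ℂ) y) * (χ : G → ℂ) y := by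
    rw [Finset.mul_sum]
    refine Finset.sum_congr rfl fun χ hχ => ?_
    rw [(P.typeB S ht2 (P.notMem_range_of_SB hχ) (mem_SB.1 hχ).1 (mem_SB.1 hχ).2).1,
      (P.typeB S ht2 (P.notMem_range_of_SB hχ) (mem_SB.1 hχ).1 (mem_SB.1 hχ).2).2]
    push_cast
    ring
  obtain ⟨n1, n2, n3, n4⟩ := P.numII S ht2 hε q
  have hz0 : (charDegree (a q : G → ℂ) : ℂ) ≠ 0 :=
    Nat.cast_ne_zero.2 (irr_apply_one_eq_charDegree (a q).2).2.ne'
  have ht0 : (Fintype.card Q : ℂ) ≠ 0 := Nat.cast_ne_zero.2 (by omega)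
  have hratio : (m0 (a q) : ℂ) / (charDegree (a q : G → ℂ) : ℂ) = ((n : ℂ) + 1) / (1 + n * p) := by
    have e1 : (Fintype.card Q : ℂ) * (charDegree (a q : G → ℂ) : ℂ) = 1 + n * p := by
      exact_mod_cast n1
    have e2 : (Fintype.card Q : ℂ) * (m0 (a q) : ℂ) = n + 1 := by exact_mod_cast n2
    rw [← e1, ← e2, mul_div_mul_left _ _ ht0]
  have h5 : ∑ q' : Q, conj ((a q' : G → ℂ) y) * (a q' : G → ℂ) y * (m0 (a q') : ℂ) /
      (charDegree (a q' : G → ℂ) : ℂ) =
      (((n : ℂ) + 1) / (1 + n * p)) *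
        ((Fintype.card Q : ℂ) * (conj ((a q : G → ℂ) y) * (a q : G → ℂ) y)) := by
    have : ∀ q' : Q, conj ((a q' : G → ℂ) y) * (a q' : G → ℂ) y * (m0 (a q') : ℂ) /
        (charDegree (a q' : G → ℂ) : ℂ) =
        (((n : ℂ) + 1) / (1 + n * p)) * (conj ((a q : G → ℂ) y) * (a q : G → ℂ) y) := by
      intro q'
      rw [P.exc_agree (P.not_dvd_orderOf S ht2 hy hyP) q' q, (P.exc_deg_eq q' q).1,
        (P.exc_deg_eq q' q).2, mul_div_assoc, hratio]
      ring
    rw [Finset.sum_congr rfl (fun q' _ => this q'), Finset.sum_const, Finset.card_univ,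
      nsmul_eq_mul]
    ring
  have h6 : ∑ χ ∈ SD W a, conj ((χ : G → ℂ) y) * (χ : G → ℂ) y * (m0 χ : ℂ) /
      (charDegree (χ : G → ℂ) : ℂ) = n / p := by
    have := P.sum_SD_sq S ht2
    have h2 : ((∑ χ ∈ SD W a, m0 χ * m0 χ : ℕ) : ℂ) = (n : ℂ) := by rw [this]
    rw [← h2, Nat.cast_sum, Finset.sum_div]
    refine Finset.sum_congr rfl fun χ hχ => ?_
    have hm1 := (P.typeD (mem_SD.1 hχ).2 (mem_SD.1 hχ).1).2
    have hm1' : (m0 χ : ℂ) ≠ 0 := Nat.cast_ne_zero.2 (by omega)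
    rw [P.val_SD S ht2 hχ hy hyP, Complex.conj_natCast,
      (P.typeD (mem_SD.1 hχ).2 (mem_SD.1 hχ).1).1]
    push_cast
    field_simp
  rw [h3, h4, h5, h6, trivIrr_apply, charDegree_trivIrr', P.m0_triv S.hx] at h0
  rw [show (((n + 1) * e : ℕ) : ℂ) = ((n : ℂ) + 1) * e by push_cast; ring,
    show ((((centralizer ({y} : Set G)).index + p * (p - 1) : ℕ)) : ℂ) = L + p * ((p : ℂ) - 1) by
      rw [Nat.cast_add, Nat.cast_mul, Nat.cast_sub hp.out.one_lt.le, hL]
      push_cast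
      ring] at h0
  rw [h0]
  simp only [map_one, Nat.cast_one]
  ring

/-- in the second case, `t = n + 1` -/
theorem Pat.caseII_t (P : Pat x p e ε W a m0) (S : Setup x p e n) (ht2 : 2 ≤ Fintype.card Q)
    (hε : ε = -1) : Fintype.card Q = n + 1 := by
  have hne : Nonempty Q := by
    rw [← Fintype.card_pos_iff]
    omega
  obtain ⟨q⟩ := hne
  have hev := P.caseII_even S ht2 hε
  obtain ⟨σ, hσ, hσP, hσo, hgen, y, hy, hyP, hy2, hyσ⟩ := S.exists_involution hev
  have hcc := P.cc_formula S ht2 hε hy hyP hy2 q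
  have h2o := P.second_orth S ht2 hy hyP q
  have hcard := P.card_centralizer_involution S ht2 hy hyP hy2
  rw [hcard] at h2o
  have hp0 : (p : ℂ) ≠ 0 := Nat.cast_ne_zero.2 hp.out.ne_zero
  have he2 := S.two_le_e
  have he0 : (e : ℂ) ≠ 0 := Nat.cast_ne_zero.2 (by omega)
  have hm0' : ((1 : ℂ) + n * p) ≠ 0 := by
    have : ((1 + n * p : ℕ) : ℂ) ≠ 0 := Nat.cast_ne_zero.2 (by omega)
    push_cast at this
    exact this
  have hpt : (p : ℂ) = (Fintype.card Q : ℂ) * e + 1 := by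
    have := P.p_eq
    have h1 : ((p : ℕ) : ℂ) = ((e * Fintype.card Q + 1 : ℕ) : ℂ) := by rw [← this]
    push_cast at h1
    rw [h1]
    ring
  have hL : ((centralizer ({y} : Set G)).index : ℂ) * (((n : ℂ) + 1) * e) =
      p * e * (1 + n * p) := by
    have h1 := (centralizer ({y} : Set G)).index_mul_card
    rw [hcard, S.card_G] at h1
    have h2 : (((centralizer ({y} : Set G)).index * ((n + 1) * e) : ℕ) : ℂ) =
        ((p * e * (1 + n * p) : ℕ) : ℂ) := by rw [h1]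
    push_cast at h2
    exact h2
  have hS2 : (∑ χ ∈ SB W, conj ((χ : G → ℂ) y) * (χ : G → ℂ) y +
      (Fintype.card Q : ℂ) * (conj ((a q : G → ℂ) y) * (a q : G → ℂ) y)) =
      ((n : ℂ) + 1) * ((e : ℂ) - 1) := by
    push_cast at h2o
    linear_combination -h2o
  have h3 := cc_arith hp0 he0 hm0' hpt hL hS2 hcc
  have hn0 : (n : ℂ) ≠ 0 := Nat.cast_ne_zero.2 (by have := S.hn1; omega)
  have ht0 : (Fintype.card Q : ℂ) ≠ 0 := Nat.cast_ne_zero.2 (by omega)
  have h4 : (Fintype.card Q : ℂ) - ((n : ℂ) + 1) = 0 := by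
    rcases mul_eq_zero.1 h3 with h | h
    · exfalso
      rcases mul_eq_zero.1 h with h' | h'
      · rcases mul_eq_zero.1 h' with h'' | h''
        · exact hn0 h''
        · exact ht0 h''
      · exact he0 (pow_eq_zero_iff (by norm_num) |>.1 h')
    · exact h
  have h5 : (Fintype.card Q : ℂ) = ((n + 1 : ℕ) : ℂ) := by
    push_cast
    linear_combination h4
  exact_mod_cast h5

end

end Cfsg.Agent.H7Brauer
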