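import Mathlib
import Cfsg.Agent.Lib.Helper7.Brn17

/-!
# Brauer: the case `ε = -1` with `e > 2`
-/


set_option autoImplicit false
set_option linter.unusedSectionVars false
set_option linter.unusedVariables false
set_option linter.style.haveILetI false

namespace Cfsg.Agent.H7Brauer

open Subgroup Cfsg Cfsg.Agent.Lib.Helper1 Cfsg.Agent.Lib.Helper4 Cfsg.Agent.Lib.Helper8
open scoped ComplexConjugate

universe u v

/-- equality in a sum of bounded terms -/
theorem squeeze {ι : Type*} (s : Finset ι) (r : ι → ℝ) (T v tt : ℝ) (hr : ∀ i ∈ s, r i ≤ T)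
    (hv : v ≤ 1) (htt : 0 < tt) (hsum : ∑ i ∈ s, r i + tt * v = s.card * T + tt) :
    (∀ i ∈ s, r i = T) ∧ v = 1 := by
  have h1 : ∑ i ∈ s, (T - r i) + tt * (1 - v) = 0 := by
    rw [Finset.sum_sub_distrib, Finset.sum_const, nsmul_eq_mul]
    linarith
  have h2 : 0 ≤ ∑ i ∈ s, (T - r i) := Finset.sum_nonneg fun i hi => by linarith [hr i hi]
  have h3 : 0 ≤ tt * (1 - v) := mul_nonneg htt.le (by linarith)
  have h4 : ∑ i ∈ s, (T - r i) = 0 := by linarith
  have h5 : tt * (1 - v) = 0 := by linarith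
  constructor
  · intro i hi
    have := (Finset.sum_eq_zero_iff_of_nonneg fun i hi => by linarith [hr i hi]).1 h4 i hi
    linarith
  · rcases mul_eq_zero.1 h5 with h | h
    · linarith
    · linarith

/-- the arithmetic of the number of factorizations of a generator of the complement -/
theorem pairs_arith {p e t m L N : ℂ} (he0 : e ≠ 0) (ht0 : t ≠ 0) (hp0 : p ≠ 0) (hm0 : m ≠ 0)
    (hp : p = t * e + 1) (hm : m = 1 + (t - 1) * p)
    (hL : L * (t * e) = p * e * m)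
    (hN : N = (p * e * m)⁻¹ * (L * L * (1 - t ^ 2 / m + (t - 1) / p))) :
    N = (t - 1) * e := by
  have h1 : L * t = p * m := mul_right_cancel₀ he0 (by linear_combination hL)
  have hpem : p * e * m ≠ 0 := mul_ne_zero (mul_ne_zero hp0 he0) hm0
  have h2 : N * (p * e * m) = L * L * (1 - t ^ 2 / m + (t - 1) / p) := by
    rw [hN, mul_comm, mul_inv_cancel_left₀ hpem]
  have h3 : (1 - t ^ 2 / m + (t - 1) / p) * (m * p) = m * p - t ^ 2 * p + (t - 1) * m := by
    field_simp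
  have h4 : N * (p * e * m) * (t ^ 2 * (m * p)) =
      (L * t) ^ 2 * (m * p - t ^ 2 * p + (t - 1) * m) := by
    rw [h2]
    linear_combination (L * L * t ^ 2) * h3
  rw [h1] at h4
  have h5 : (N * e * t ^ 2 - (m * p - t ^ 2 * p + (t - 1) * m)) * ((p * m) ^ 2) = 0 := by
    linear_combination h4
  have hpm : (p * m) ^ 2 ≠ 0 := pow_ne_zero 2 (mul_ne_zero hp0 hm0)
  have h6 : N * e * t ^ 2 = m * p - t ^ 2 * p + (t - 1) * m := by
    rcases mul_eq_zero.1 h5 with h | h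
    · linear_combination h
    · exact absurd h hpm
  have hY : m * p - t ^ 2 * p + (t - 1) * m = t ^ 2 * (t - 1) * e ^ 2 := by
    rw [hm, hp]
    ring
  rw [hY] at h6
  have h7 : (N - (t - 1) * e) * (e * t ^ 2) = 0 := by linear_combination h6
  rcases mul_eq_zero.1 h7 with h | h
  · linear_combination h
  · exact absurd h (mul_ne_zero he0 (pow_ne_zero 2 ht0))

section

variable {G : Type u} [Group G] [Fintype G] [Fintype (IrrCharacter G)] {p e n : ℕ}
  [hp : Fact p.Prime] {x : G} {Q : Type v} [Fintype Q] {ε : ℤ} {W : IrrCharacter G → ℤ}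
  {a : Q → IrrCharacter G} {m0 : IrrCharacter G → ℕ}

open Classical in
/-- the number of factorizations as a convolution -/
theorem card_factorizations_eq_conv {y : G} (hy2 : y * y = 1) (σ : G) :
    (Nat.card {z : G // IsConj y z ∧ IsConj y (σ⁻¹ * z)} : ℂ) =
      conv (classIndicator y) (classIndicator y⁻¹) σ := by
  rw [conv_apply]
  have hyi : y⁻¹ = y := inv_eq_of_mul_eq_one_left hy2
  have h1 : ∀ z : G, classIndicator y z * classIndicator y⁻¹ (z⁻¹ * σ) =
      if (IsConj y z ∧ IsConj y (σ⁻¹ * z)) then (1 : ℂ) else 0 := by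
    intro z
    unfold classIndicator
    have hiff : IsConj y⁻¹ (z⁻¹ * σ) ↔ IsConj y (σ⁻¹ * z) := by
      rw [← Cfsg.Agent.Lib.Helper8.RK.isConj_inv_inv (a := y)]
      have : (σ⁻¹ * z)⁻¹ = z⁻¹ * σ := by group
      rw [this]
    by_cases hA : IsConj y z
    · by_cases hB : IsConj y (σ⁻¹ * z)
      · rw [if_pos hA, if_pos (hiff.2 hB), if_pos ⟨hA, hB⟩, one_mul]
      · rw [if_pos hA, if_neg (fun h => hB (hiff.1 h)), if_neg (fun h => hB h.2), mul_zero]
    · rw [if_neg hA, zero_mul, if_neg (fun h => hA h.1)]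
  rw [Finset.sum_congr rfl (fun z _ => h1 z), Finset.sum_boole, Nat.card_eq_fintype_card,
    Fintype.card_subtype]

/-- in the second case with `e > 2`, the values at an involution -/
theorem Pat.caseII_values (P : Pat x p e ε W a m0) (S : Setup x p e n)
    (ht2 : 2 ≤ Fintype.card Q) (hε : ε = -1) {y : G} (hy : y ∈ nrm x) (hyP : y ∉ zpowers x)
    (hy2 : y * y = 1) (q : Q) :
    (∀ χ ∈ SB W, conj ((χ : G → ℂ) y) * (χ : G → ℂ) y = ((n : ℂ) + 1) ^ 2) ∧
      conj ((a q : G → ℂ) y) * (a q : G → ℂ) y = 1 := by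
  have ht := P.caseII_t S ht2 hε
  obtain ⟨n1, n2, n3, n4⟩ := P.numII S ht2 hε q
  have hs1 : m0 (a q) = 1 := by
    rw [ht] at n2
    have : (n + 1) * m0 (a q) = (n + 1) * 1 := by rw [n2, mul_one]
    exact Nat.eq_of_mul_eq_mul_left (by omega) this
  rw [hs1] at n3
  have h2o := P.second_orth S ht2 hy hyP q
  rw [P.card_centralizer_involution S ht2 hy hyP hy2, ht] at h2o
  -- real form
  have hcm : ∀ z : ℂ, conj z * z = ((Complex.normSq z : ℝ) : ℂ) :=
    fun z => (Complex.normSq_eq_conj_mul_self).symm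
  simp only [hcm] at h2o ⊢
  have hreal : ∑ χ ∈ SB W, Complex.normSq ((χ : G → ℂ) y) +
      ((n : ℝ) + 1) * Complex.normSq ((a q : G → ℂ) y) =
      ((SB W).card : ℝ) * ((n : ℝ) + 1) ^ 2 + ((n : ℝ) + 1) := by
    have h3 : (((n + 1) * e : ℕ) : ℂ) = ((((SB W).card * (n + 1) + 1 + 1) * (n + 1) : ℕ) : ℂ) := by
      rw [n3]
      push_cast
      ring
    rw [h3] at h2o
    have h4 : ((∑ χ ∈ SB W, Complex.normSq ((χ : G → ℂ) y) +
        ((n : ℝ) + 1) * Complex.normSq ((a q : G → ℂ) y) : ℝ) : ℂ) =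
        ((((SB W).card : ℝ) * ((n : ℝ) + 1) ^ 2 + ((n : ℝ) + 1) : ℝ) : ℂ) := by
      push_cast
      push_cast at h2o
      linear_combination -h2o
    exact_mod_cast h4
  have hbound : ∀ χ ∈ SB W, Complex.normSq ((χ : G → ℂ) y) ≤ ((n : ℝ) + 1) ^ 2 := by
    intro χ hχ
    have h5 := P.norm_le S χ hy hyP
    rw [(P.typeB S ht2 (P.notMem_range_of_SB hχ) (mem_SB.1 hχ).1 (mem_SB.1 hχ).2).1] at h5
    rw [Complex.normSq_eq_norm_sq]
    have h6 : ‖(χ : G → ℂ) y‖ ≤ (n : ℝ) + 1 := by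
      push_cast at h5
      exact h5
    exact pow_le_pow_left₀ (norm_nonneg _) h6 2
  have hbv : Complex.normSq ((a q : G → ℂ) y) ≤ 1 := by
    have h5 := P.norm_le S (a q) hy hyP
    rw [hs1] at h5
    rw [Complex.normSq_eq_norm_sq]
    have h6 : ‖(a q : G → ℂ) y‖ ≤ 1 := by
      push_cast at h5
      exact h5
    calc ‖(a q : G → ℂ) y‖ ^ 2 ≤ 1 ^ 2 := pow_le_pow_left₀ (norm_nonneg _) h6 2
      _ = 1 := one_pow 2
  obtain ⟨hA, hB⟩ := squeeze (SB W) (fun χ => Complex.normSq ((χ : G → ℂ) y))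
    (((n : ℝ) + 1) ^ 2) (Complex.normSq ((a q : G → ℂ) y)) ((n : ℝ) + 1) hbound hbv
    (by positivity) hreal
  refine ⟨?_, ?_⟩
  · intro χ hχ
    rw [hA χ hχ]
    push_cast
    ring
  · rw [hB]
    simp

/-- in the second case with `e > 2`, `n = 1` -/
theorem Pat.caseII_big (P : Pat x p e ε W a m0) (S : Setup x p e n)
    (ht2 : 2 ≤ Fintype.card Q) (hε : ε = -1) (he : 2 < e) : n = 1 := by
  classical
  have hne : Nonempty Q := by
    rw [← Fintype.card_pos_iff]
    omega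
  obtain ⟨q⟩ := hne
  have htriv := P.triv_notMem S.hx ht2
  have hWt := P.W_triv S.hx ht2
  have hev := P.caseII_even S ht2 hε
  obtain ⟨σ, hσ, hσP, hσo, hgen, y, hy, hyP, hy2, hyσ⟩ := S.exists_involution hev
  have ht := P.caseII_t S ht2 hε
  obtain ⟨n1, n2, n3, n4⟩ := P.numII S ht2 hε q
  obtain ⟨hvB, hvE⟩ := P.caseII_values S ht2 hε hy hyP hy2 q
  have hcard := P.card_centralizer_involution S ht2 hy hyP hy2
  have hp0 : (p : ℂ) ≠ 0 := Nat.cast_ne_zero.2 hp.out.ne_zero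
  have he0 : (e : ℂ) ≠ 0 := Nat.cast_ne_zero.2 (by omega)
  have ht0 : ((n : ℂ) + 1) ≠ 0 := by
    have : ((n + 1 : ℕ) : ℂ) ≠ 0 := Nat.cast_ne_zero.2 (by omega)
    push_cast at this
    exact this
  have hm0' : ((1 : ℂ) + n * p) ≠ 0 := by
    have : ((1 + n * p : ℕ) : ℂ) ≠ 0 := Nat.cast_ne_zero.2 (by omega)
    push_cast at this
    exact this
  set L : ℂ := ((centralizer ({y} : Set G)).index : ℂ) with hL
  -- the number of factorizations of `σ`
  have hN := card_factorizations_eq_conv (G := G) hy2 σ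
  rw [Cfsg.Agent.Lib.Helper8.RK.conv_classIndicator_eq_sum y y σ] at hN
  have hterm : ∀ ψ : IrrCharacter G, centralChar (ψ : G → ℂ) y *
      (((centralizer ({y} : Set G)).index : ℂ) * conj ((ψ : G → ℂ) y)) *
      conj ((ψ : G → ℂ) σ) =
      L * L * (conj ((ψ : G → ℂ) y) * (ψ : G → ℂ) y * conj ((ψ : G → ℂ) σ) /
        (charDegree (ψ : G → ℂ) : ℂ)) := by
    intro ψ
    unfold centralChar
    rw [(irr_apply_one_eq_charDegree ψ.2).1, ← hL]
    ring
  rw [Finset.sum_congr rfl (fun ψ _ => hterm ψ), ← Finset.mul_sum, P.sum_split htriv hWt] at hN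
  have h3 : ∑ χ ∈ SA W, conj ((χ : G → ℂ) y) * (χ : G → ℂ) y * conj ((χ : G → ℂ) σ) /
      (charDegree (χ : G → ℂ) : ℂ) = 0 := by
    apply Finset.sum_eq_zero
    intro χ hχ
    rw [P.val_SA S ht2 hχ hy hyP]
    simp
  have h4 : ∑ χ ∈ SB W, conj ((χ : G → ℂ) y) * (χ : G → ℂ) y * conj ((χ : G → ℂ) σ) /
      (charDegree (χ : G → ℂ) : ℂ) =
      (((n : ℂ) + 1) ^ 2 / (1 + n * p)) * conj (∑ χ ∈ SB W, (χ : G → ℂ) σ) := by
    rw [map_sum, Finset.mul_sum]
    refine Finset.sum_congr rfl fun χ hχ => ?_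
    rw [hvB χ hχ, (P.typeB S ht2 (P.notMem_range_of_SB hχ) (mem_SB.1 hχ).1 (mem_SB.1 hχ).2).2]
    push_cast
    ring
  have hz0 : (charDegree (a q : G → ℂ) : ℂ) ≠ 0 :=
    Nat.cast_ne_zero.2 (irr_apply_one_eq_charDegree (a q).2).2.ne'
  have hzinv : (1 : ℂ) / (charDegree (a q : G → ℂ) : ℂ) = ((n : ℂ) + 1) / (1 + n * p) := by
    have e1 : ((n : ℂ) + 1) * (charDegree (a q : G → ℂ) : ℂ) = 1 + n * p := by
      rw [ht] at n1
      exact_mod_cast n1
    rw [← e1]
    field_simp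
  have h5 : ∑ q' : Q, conj ((a q' : G → ℂ) y) * (a q' : G → ℂ) y * conj ((a q' : G → ℂ) σ) /
      (charDegree (a q' : G → ℂ) : ℂ) =
      (((n : ℂ) + 1) ^ 2 / (1 + n * p)) * conj ((a q : G → ℂ) σ) := by
    have : ∀ q' : Q, conj ((a q' : G → ℂ) y) * (a q' : G → ℂ) y * conj ((a q' : G → ℂ) σ) /
        (charDegree (a q' : G → ℂ) : ℂ) =
        (((n : ℂ) + 1) / (1 + n * p)) * conj ((a q : G → ℂ) σ) := by
      intro q'
      rw [P.exc_agree (P.not_dvd_orderOf S ht2 hy hyP) q' q,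
        P.exc_agree (P.not_dvd_orderOf S ht2 hσ hσP) q' q, (P.exc_deg_eq q' q).1, hvE, one_mul,
        ← hzinv]
      ring
    rw [Finset.sum_congr rfl (fun q' _ => this q'), Finset.sum_const, Finset.card_univ,
      nsmul_eq_mul, ht]
    push_cast
    ring
  have h6 : ∑ χ ∈ SD W a, conj ((χ : G → ℂ) y) * (χ : G → ℂ) y * conj ((χ : G → ℂ) σ) /
      (charDegree (χ : G → ℂ) : ℂ) = n / p := by
    have := P.sum_SD_sq S ht2
    have h2 : ((∑ χ ∈ SD W a, m0 χ * m0 χ : ℕ) : ℂ) = (n : ℂ) := by rw [this]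
    rw [← h2, Nat.cast_sum, Finset.sum_div]
    refine Finset.sum_congr rfl fun χ hχ => ?_
    have hm1 := (P.typeD (mem_SD.1 hχ).2 (mem_SD.1 hχ).1).2
    have hm1' : (m0 χ : ℂ) ≠ 0 := Nat.cast_ne_zero.2 (by omega)
    rw [P.val_SD S ht2 hχ hy hyP, P.val_SD S ht2 hχ hσ hσP, Complex.conj_natCast,
      (P.typeD (mem_SD.1 hχ).2 (mem_SD.1 hχ).1).1]
    push_cast
    field_simp
  have hrel := P.rel_nrm S ht2 hσ hσP q
  rw [hε] at hrel
  have hrel' : conj (∑ χ ∈ SB W, (χ : G → ℂ) σ) + conj ((a q : G → ℂ) σ) = -1 := by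
    rw [hrel]
    simp
  rw [h3, h4, h5, h6, charDegree_trivIrr'] at hN
  simp only [trivIrr_apply] at hN
  have hN' : (Nat.card {z : G // IsConj y z ∧ IsConj y (σ⁻¹ * z)} : ℂ) =
      ((p : ℂ) * e * (1 + n * p))⁻¹ *
        (L * L * (1 - ((n : ℂ) + 1) ^ 2 / (1 + n * p) + (((n : ℂ) + 1) - 1) / p)) := by
    rw [hN, S.card_G]
    push_cast
    congr 1
    simp only [map_one]
    linear_combination (L * L * (((n : ℂ) + 1) ^ 2 / (1 + n * p))) * hrel'
  have hLeq : L * (((n : ℂ) + 1) * e) = p * e * (1 + n * p) := by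
    have h1 := (centralizer ({y} : Set G)).index_mul_card
    rw [hcard, S.card_G] at h1
    have h2 : (((centralizer ({y} : Set G)).index * ((n + 1) * e) : ℕ) : ℂ) =
        ((p * e * (1 + n * p) : ℕ) : ℂ) := by rw [h1]
    push_cast at h2
    exact h2
  have hpt : (p : ℂ) = ((n : ℂ) + 1) * e + 1 := by
    have := P.p_eq
    rw [ht] at this
    have h1 : ((p : ℕ) : ℂ) = ((e * (n + 1) + 1 : ℕ) : ℂ) := by rw [← this]
    push_cast at h1
    rw [h1]
    ring
  have hmeq : (1 : ℂ) + n * p = 1 + (((n : ℂ) + 1) - 1) * p := by ring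
  have hfinal := pairs_arith he0 ht0 hp0 hm0' hpt hmeq hLeq hN'
  have hfin : Nat.card {z : G // IsConj y z ∧ IsConj y (σ⁻¹ * z)} = n * e := by
    have : (Nat.card {z : G // IsConj y z ∧ IsConj y (σ⁻¹ * z)} : ℂ) = ((n * e : ℕ) : ℂ) := by
      rw [hfinal]
      push_cast
      ring
    exact_mod_cast this
  -- the bound
  have hσ2 : σ * σ ≠ 1 := by
    intro h
    have h1 : orderOf σ ∣ 2 := orderOf_dvd_of_pow_eq_one (by rw [pow_two, h])
    rw [hσo] at h1
    have := Nat.le_of_dvd (by norm_num) h1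
    omega
  have hle := two_mul_card_le (G := G) hσ2 hy2
  rw [hfin, P.card_normalizer_gen S ht2 hσ hσP hgen] at hle
  have h7 : 2 * n ≤ n + 1 := by
    have : (2 * n) * e ≤ (n + 1) * e := by linarith
    exact Nat.le_of_mul_le_mul_right this (by omega)
  have := S.hn1
  omega

end

end Cfsg.Agent.H7Brauer
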