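import Mathlib
import Cfsg.Agent.Lib.Helper7.Brn18
import Cfsg.Agent.S1230

/-!
# Brauer: the case `ε = -1` with `e = 2`
-/

set_option autoImplicit false
set_option linter.unusedSectionVars false
set_option linter.unusedVariables false
set_option linter.style.haveILetI false

namespace Cfsg.Agent.H7Brauer

open Subgroup Cfsg Cfsg.Agent.Lib.Helper1 Cfsg.Agent.Lib.Helper4 Cfsg.Agent.Lib.Helper8
open scoped ComplexConjugate Pointwise

universe u v

variable {G : Type u} [Group G] [Fintype G]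

/-- the average of an irreducible character over a subgroup is a natural number -/
theorem exists_nat_avg (H : Subgroup G) [Fintype H] (χ : IrrCharacter G) :
    ∃ c : ℕ, (c : ℂ) = (Nat.card H : ℂ)⁻¹ * ∑ h : H, (χ : G → ℂ) (h : G) := by
  have hchar : IsCharacter G (indFun H (fun _ => (1 : ℂ))) := by
    apply Cfsg.Agent.S0148.result
    have : (fun _ : H => (1 : ℂ)) = (trivIrr H : H → ℂ) := by
      funext h
      rw [trivIrr_apply]
    rw [this]
    exact isCharacter_of_irr (trivIrr H).2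
  obtain ⟨c, h⟩ := classInner_char_irr_nat hchar χ.2
  refine ⟨c, ?_⟩
  rw [Cfsg.Agent.S0146.result H _ _ (isClassFunction_irr χ.2)] at h
  unfold classInner at h
  have h2 := congrArg conj h
  rw [map_mul, map_inv₀, map_natCast, map_natCast, map_sum] at h2
  rw [← h2]
  congr 1
  refine Finset.sum_congr rfl fun k _ => ?_
  rw [map_mul, map_one, one_mul, Complex.conj_conj]

variable [Fintype (IrrCharacter G)] {x : G} {p e n : ℕ} [hp : Fact p.Prime]
  {Q : Type v} [Fintype Q] {ε : ℤ} {W : IrrCharacter G → ℤ} {a : Q → IrrCharacter G}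
  {m0 : IrrCharacter G → ℕ}

/-- the shape of the principal block when `e = 2` -/
theorem Pat.e2_shape (P : Pat x p e ε W a m0) (S : Setup x p e n) (ht2 : 2 ≤ Fintype.card Q)
    (hε : ε = -1) (he : e = 2) :
    (∃ χ₂ : IrrCharacter G, SA W = {χ₂}) ∧ SB W = ∅ ∧ p = 2 * n + 3 := by
  obtain ⟨q⟩ : Nonempty Q := Fintype.card_pos_iff.1 (by omega)
  have ht := P.caseII_t S ht2 hε
  obtain ⟨h1, h2, h3, h4⟩ := P.numII S ht2 hε q
  have hAB := P.card_SA_add_card_SB (P.triv_notMem S.hx ht2) (P.W_triv S.hx ht2)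
  have hpe := P.p_eq
  rw [ht] at h2 hpe
  have hm1 : m0 (a q) = 1 := by
    have : (n + 1) * m0 (a q) = (n + 1) * 1 := by rw [h2, mul_one]
    exact Nat.eq_of_mul_eq_mul_left (by omega) this
  rw [hm1, he] at h3
  have hB : (SB W).card = 0 := by
    rcases Nat.eq_zero_or_pos (SB W).card with h | h
    · exact h
    · nlinarith
  rw [hB, he] at hAB
  refine ⟨Finset.card_eq_one.1 (by omega), Finset.card_eq_zero.1 hB, ?_⟩
  rw [hpe, he]
  ring

/-- the value of the character of degree `p - 1` off the conjugates of the normalizer -/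
theorem Pat.e2_val (P : Pat x p e ε W a m0) (S : Setup x p e n) (ht2 : 2 ≤ Fintype.card Q)
    (hε : ε = -1) {χ₂ : IrrCharacter G} (hSA : SA W = {χ₂}) (hSB : SB W = ∅)
    {g : G} (hg : ¬ p ∣ orderOf g) (hg1 : g ≠ 1) (hno : ∀ h : G, h⁻¹ * g * h ∉ nrm x) :
    (χ₂ : G → ℂ) g = 1 := by
  classical
  have htriv := P.triv_notMem S.hx ht2
  have hWt := P.W_triv S.hx ht2
  obtain ⟨q⟩ : Nonempty Q := Fintype.card_pos_iff.1 (by omega)
  obtain ⟨h1, h2, h3, h4⟩ := P.numII S ht2 hε q
  have hχ₂ : χ₂ ∈ SA W := by rw [hSA]; exact Finset.mem_singleton_self _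
  have hW2 : W χ₂ = 1 := mem_SA.1 hχ₂
  -- the relation
  have hrel := P.rel g hg q
  rw [P.sum_split htriv hWt (fun χ => (W χ : ℂ) * (χ : G → ℂ) g), hSA, hSB] at hrel
  simp only [Finset.sum_singleton, Finset.sum_empty] at hrel
  have hsumQ : ∑ q : Q, (W (a q) : ℂ) * (a q : G → ℂ) g = 0 :=
    Finset.sum_eq_zero (fun q _ => by rw [P.hWa q]; simp)
  have hsumD : ∑ χ ∈ SD W a, (W χ : ℂ) * (χ : G → ℂ) g = 0 :=
    Finset.sum_eq_zero (fun χ hχ => by rw [(mem_SD.1 hχ).1]; simp)
  rw [hsumQ, hsumD, hWt, hW2, hε] at hrel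
  simp only [trivIrr_apply] at hrel
  -- column orthogonality
  have hcol := col_one (G := G) g
  rw [if_neg hg1, P.sum_split htriv hWt
    (fun χ => (charDegree (χ : G → ℂ) : ℂ) * (χ : G → ℂ) g), hSA, hSB] at hcol
  simp only [Finset.sum_singleton, Finset.sum_empty] at hcol
  have hdeg2 : charDegree (χ₂ : G → ℂ) = p - 1 :=
    (P.typeA S ht2 (P.notMem_range_of_SA hχ₂) hW2).2
  have hp1 : 1 ≤ p := hp.out.one_lt.le
  have hsumQ' : ∑ q' : Q, (charDegree (a q' : G → ℂ) : ℂ) * (a q' : G → ℂ) g =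
      (1 + (n : ℂ) * p) * (a q : G → ℂ) g := by
    have hq' : ∀ q' : Q, (charDegree (a q' : G → ℂ) : ℂ) * (a q' : G → ℂ) g =
        (charDegree (a q : G → ℂ) : ℂ) * (a q : G → ℂ) g := fun q' => by
      rw [(P.exc_deg_eq q' q).1, P.exc_agree hg q' q]
    rw [Finset.sum_congr rfl (fun q' _ => hq' q'), Finset.sum_const, Finset.card_univ,
      nsmul_eq_mul, ← mul_assoc]
    congr 1
    exact_mod_cast h1
  have hsumD' : ∑ χ ∈ SD W a, (charDegree (χ : G → ℂ) : ℂ) * (χ : G → ℂ) g =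
      p * ∑ χ ∈ SD W a, (m0 χ : ℂ) * (χ : G → ℂ) g := by
    rw [Finset.mul_sum]
    refine Finset.sum_congr rfl (fun χ hχ => ?_)
    obtain ⟨hW0, hr⟩ := mem_SD.1 hχ
    rw [(P.typeD hr hW0).1]
    push_cast
    ring
  rw [hsumQ', hsumD', hdeg2, charDegree_trivIrr', Nat.cast_sub hp1] at hcol
  simp only [trivIrr_apply] at hcol
  -- the permutation character
  have hpi := P.piN_eq S ht2 g
  rw [piN_apply] at hpi
  have hempty : Nat.card {h : G // h⁻¹ * g * h ∈ nrm x} = 0 := by
    haveI : IsEmpty {h : G // h⁻¹ * g * h ∈ nrm x} := ⟨fun h => hno h.1 h.2⟩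
    exact Nat.card_of_isEmpty
  rw [hempty, Nat.cast_zero, mul_zero] at hpi
  have hne : ((p : ℂ) + n * p) ≠ 0 := by
    have : (0 : ℝ) < (p : ℝ) + n * p := by positivity
    exact_mod_cast this.ne'
  have hkey : ((χ₂ : G → ℂ) g - 1) * ((p : ℂ) + n * p) = 0 := by
    push_cast at hrel hcol
    linear_combination hcol + (1 + (n : ℂ) * p) * hrel + (p : ℂ) * hpi
  rcases mul_eq_zero.1 hkey with h | h
  · exact sub_eq_zero.1 h
  · exact absurd h hne

/-- a conjugate of `l` in the normalizer lies outside `⟨x⟩` when `l` is `p`-regular -/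
theorem conj_notMem_zpowers (hx : orderOf x = p) {l h : G} (hl : ¬ p ∣ orderOf l) (hl1 : l ≠ 1) :
    h⁻¹ * l * h ∉ zpowers x := by
  intro hmem
  have h1 : orderOf (h⁻¹ * l * h) ∣ p := by
    rw [← hx]
    exact orderOf_dvd_of_mem_zpowers hmem
  have h2 : orderOf (h⁻¹ * l * h) = orderOf l := by
    have := (SemiconjBy.orderOf_eq (a := h⁻¹) (x := l) (y := h⁻¹ * l * h⁻¹⁻¹) (by
      unfold SemiconjBy; group))
    rw [inv_inv] at this
    exact this.symm
  rw [h2] at h1
  rcases (Nat.dvd_prime hp.out).1 h1 with h3 | h3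
  · exact hl1 (orderOf_eq_one_iff.1 h3)
  · exact hl (h3 ▸ dvd_rfl)

/-- every nontrivial element of the centralizer of an involution is conjugate into `N ∖ P` -/
theorem Pat.e2_conj (P : Pat x p e ε W a m0) (S : Setup x p e n) (ht2 : 2 ≤ Fintype.card Q)
    (hε : ε = -1) (he : e = 2) {y : G} (hy : y ∈ nrm x) (hyP : y ∉ zpowers x) (hy2 : y * y = 1)
    {l : G} (hl : l ∈ centralizer ({y} : Set G)) (hl1 : l ≠ 1) :
    ∃ h : G, h⁻¹ * l * h ∈ nrm x ∧ h⁻¹ * l * h ∉ zpowers x := by
  classical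
  obtain ⟨⟨χ₂, hSA⟩, hSB, hpn⟩ := P.e2_shape S ht2 hε he
  have hχ₂ : χ₂ ∈ SA W := by rw [hSA]; exact Finset.mem_singleton_self _
  have hW2 : W χ₂ = 1 := mem_SA.1 hχ₂
  have hdeg2 : charDegree (χ₂ : G → ℂ) = p - 1 :=
    (P.typeA S ht2 (P.notMem_range_of_SA hχ₂) hW2).2
  set L : Subgroup G := centralizer ({y} : Set G) with hL
  have hcardL : Nat.card L = p - 1 := by
    rw [P.card_centralizer_involution S ht2 hy hyP hy2, he, hpn]
    omega
  haveI : Fintype L := Fintype.ofFinite L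
  obtain ⟨c, hc⟩ := exists_nat_avg L χ₂
  have hreg : ∀ l' : G, l' ∈ L → ¬ p ∣ orderOf l' := by
    intro l' hl' hdvd
    have h1 := hdvd.trans (Subgroup.orderOf_dvd_natCard L hl')
    rw [hcardL] at h1
    have := Nat.le_of_dvd (by omega) h1
    omega
  -- the values of χ₂ on L
  have hval : ∀ l' : L, (χ₂ : G → ℂ) (l' : G) =
      (if l' = 1 then ((p : ℂ) - 1) else 0) +
        (if ((l' : G) ≠ 1 ∧ ∀ h : G, h⁻¹ * (l' : G) * h ∉ nrm x) then 1 else 0) := by
    intro l'
    by_cases h1 : l' = 1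
    · rw [if_pos h1, if_neg (by rw [h1]; simp), add_zero, h1]
      show (χ₂ : G → ℂ) 1 = _
      rw [(irr_apply_one_eq_charDegree χ₂.2).1, hdeg2, Nat.cast_sub hp.out.one_lt.le,
        Nat.cast_one]
    · have h1' : (l' : G) ≠ 1 := fun h => h1 (Subtype.ext h)
      rw [if_neg h1, zero_add]
      by_cases h2 : ∀ h : G, h⁻¹ * (l' : G) * h ∉ nrm x
      · rw [if_pos ⟨h1', h2⟩]
        exact P.e2_val S ht2 hε hSA hSB (hreg _ l'.2) h1' h2
      · rw [if_neg (fun h => h2 h.2)]
        obtain ⟨h, hh'⟩ := not_forall.1 h2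
        have hh := not_not.1 hh'
        have hnP := conj_notMem_zpowers (h := h) S.hx (hreg _ l'.2) h1'
        have h3 := P.val_SA S ht2 hχ₂ hh hnP
        have h4 := isClassFunction_irr χ₂.2 (l' : G) h⁻¹
        rw [inv_inv] at h4
        rw [← h4, h3]
  have hsum : ∑ l' : L, (χ₂ : G → ℂ) (l' : G) = ((p : ℂ) - 1) +
      ((Finset.univ.filter (fun l' : L =>
        ((l' : G) ≠ 1 ∧ ∀ h : G, h⁻¹ * (l' : G) * h ∉ nrm x))).card : ℂ) := by
    rw [Finset.sum_congr rfl (fun l' _ => hval l'), Finset.sum_add_distrib,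
      Finset.sum_ite_eq' Finset.univ (1 : L), if_pos (Finset.mem_univ _), Finset.sum_boole]
  set D := Finset.univ.filter (fun l' : L =>
        ((l' : G) ≠ 1 ∧ ∀ h : G, h⁻¹ * (l' : G) * h ∉ nrm x)) with hD
  have hyL : y ∈ L := by
    rw [hL, Subgroup.mem_centralizer_iff]
    intro z hz
    rw [Set.mem_singleton_iff.1 hz]
  have hy1 : y ≠ 1 := fun h => hyP (h ▸ one_mem _)
  have hDle : D.card + 2 ≤ Nat.card L := by
    have hsub : D ⊆ (Finset.univ.erase (1 : L)).erase ⟨y, hyL⟩ := by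
      intro l' hl'
      rw [hD, Finset.mem_filter] at hl'
      rw [Finset.mem_erase, Finset.mem_erase]
      refine ⟨?_, ?_, Finset.mem_univ _⟩
      · intro h
        apply hl'.2.2 1
        rw [h]
        simpa using hy
      · intro h
        exact hl'.2.1 (by rw [h]; rfl)
    have h1 := Finset.card_le_card hsub
    rw [Finset.card_erase_of_mem, Finset.card_erase_of_mem (Finset.mem_univ _),
      Finset.card_univ, ← Nat.card_eq_fintype_card] at h1
    · have : 2 ≤ Nat.card L := by rw [hcardL]; omega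
      omega
    · rw [Finset.mem_erase]
      exact ⟨fun h => hy1 (congrArg Subtype.val h), Finset.mem_univ _⟩
  have hcN : c * (p - 1) = (p - 1) + D.card := by
    rw [hsum, hcardL] at hc
    have hp1 : ((p - 1 : ℕ) : ℂ) ≠ 0 := by
      have : 0 < p - 1 := by omega
      exact_mod_cast this.ne'
    have h2 : (c : ℂ) * ((p - 1 : ℕ) : ℂ) = ((p - 1 : ℕ) : ℂ) + D.card := by
      rw [hc, mul_comm, ← mul_assoc, mul_inv_cancel₀ hp1, one_mul,
        Nat.cast_sub hp.out.one_lt.le, Nat.cast_one]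
    exact_mod_cast h2
  rw [hcardL] at hDle
  have hD0 : D.card = 0 := by
    rcases Nat.lt_or_ge c 2 with h | h
    · interval_cases c
      · omega
      · omega
    · have : 2 * (p - 1) ≤ c * (p - 1) := Nat.mul_le_mul_right _ h
      omega
  have hlD : (⟨l, hl⟩ : L) ∉ D := by
    rw [Finset.card_eq_zero.1 hD0]
    exact Finset.notMem_empty _
  rw [hD, Finset.mem_filter] at hlD
  have hlD' : ¬ ∀ h : G, h⁻¹ * l * h ∉ nrm x := fun h => hlD ⟨Finset.mem_univ _, hl1, h⟩
  obtain ⟨h, hh'⟩ := not_forall.1 hlD'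
  have hh := not_not.1 hh'
  exact ⟨h, hh, conj_notMem_zpowers S.hx (hreg l hl) hl1⟩

/-- the arithmetic of the order when `e = 2` -/
theorem e2_arith {p n k : ℕ} (hpn : p = 2 * n + 3) (hk : p - 1 = 2 ^ k) :
    p * 2 * (1 + n * p) = 2 ^ k * (p * (2 * n + 1)) := by
  rw [← hk, hpn]
  have : 2 * n + 3 - 1 = 2 * n + 2 := by omega
  rw [this]
  ring

/-- **the case `ε = -1`, `e = 2`**: the group is `PSL₂(2^m)` with `p = 2^m + 1` -/
theorem Pat.e2_final (P : Pat x p e ε W a m0) (S : Setup x p e n) (ht2 : 2 ≤ Fintype.card Q)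
    (hε : ε = -1) (he : e = 2) :
    ∃ (m : ℕ) (F : Type) (_ : Field F) (_ : Fintype F), Fintype.card F = 2 ^ m ∧
      p = 2 ^ m + 1 ∧ 3 < p ∧
      Nonempty (G ≃* Matrix.ProjectiveSpecialLinearGroup (Fin 2) F) := by
  classical
  haveI : Fact (Nat.Prime 2) := ⟨Nat.prime_two⟩
  obtain ⟨-, -, hpn⟩ := P.e2_shape S ht2 hε he
  obtain ⟨σ, hσ, hσP, hoσ, hgen, y, hy, hyP, hy2, hyσ⟩ := S.exists_involution (he ▸ even_two)
  have hp2 : p ≠ 2 := by omega
  set L : Subgroup G := centralizer ({y} : Set G) with hL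
  have hconjsq : ∀ l : G, l ∈ L → l ≠ 1 → ∃ k : G, l = k * y * k⁻¹ := by
    intro l hl hl1
    obtain ⟨h, hh, hhP⟩ := P.e2_conj S ht2 hε he hy hyP hy2 hl hl1
    have h2 := S.pow_eq_one hh hhP
    rw [he, pow_two] at h2
    have hw1 : h⁻¹ * l * h ≠ 1 := fun h0 => hhP (h0 ▸ one_mem _)
    obtain ⟨u, hu, hwu⟩ := involution_mem_coset S.hx S.hself hp2 hy hyP hy2 hh h2 hw1
    have hc := isConj_involution S.hx S.hself hy hyP hu
    rw [← hwu, isConj_iff] at hc
    obtain ⟨c, hc⟩ := hc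
    refine ⟨h * c, ?_⟩
    calc l = h * (h⁻¹ * l * h) * h⁻¹ := by group
      _ = h * (c * y * c⁻¹) * h⁻¹ := by rw [hc]
      _ = h * c * y * (h * c)⁻¹ := by group
  have hcent : ∀ l : G, l ∈ L → l * l = 1 := by
    intro l hl
    by_cases hl1 : l = 1
    · rw [hl1, one_mul]
    · obtain ⟨k, hk⟩ := hconjsq l hl hl1
      rw [hk]
      calc k * y * k⁻¹ * (k * y * k⁻¹) = k * (y * y) * k⁻¹ := by group
        _ = 1 := by rw [hy2]; group
  have hL2 : IsPGroup 2 L := by
    intro l
    refine ⟨1, ?_⟩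
    rw [pow_one, pow_two]
    exact Subtype.ext (hcent l.1 l.2)
  have hcardL : Nat.card L = p - 1 := by
    rw [P.card_centralizer_involution S ht2 hy hyP hy2, he, hpn]
    omega
  obtain ⟨k, hk⟩ := (IsPGroup.iff_card).1 hL2
  rw [hcardL] at hk
  have hcardG : Nat.card G = 2 ^ k * (p * (2 * n + 1)) := by
    rw [S.card_G, he]
    exact e2_arith hpn hk
  have hodd : ¬ 2 ∣ p * (2 * n + 1) := by
    rw [hpn]
    intro h
    rcases (Nat.Prime.dvd_mul Nat.prime_two).1 h with h | h <;> omega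
  have hfac : (Nat.card G).factorization 2 = k := by
    rw [hcardG, Nat.factorization_mul (pow_ne_zero _ two_ne_zero) (by rw [hpn]; positivity),
      Nat.Prime.factorization_pow Nat.prime_two, Finsupp.add_apply, Finsupp.single_eq_same,
      Nat.factorization_eq_zero_of_not_dvd hodd, add_zero]
  obtain ⟨T, hT⟩ := hL2.exists_le_sylow
  have hcardT : Nat.card T = 2 ^ k := by
    rw [Sylow.card_eq_multiplicity, hfac]
  have hLT : L = (T : Subgroup G) :=
    Subgroup.eq_of_le_of_card_ge hT (by rw [hcardT, hcardL, hk])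
  have hk1 : 1 ≤ k := by
    rcases Nat.eq_zero_or_pos k with h | h
    · rw [h, pow_zero] at hk
      omega
    · exact h
  -- the centralizers of involutions
  have hC : ∀ t : G, orderOf t = 2 →
      IsMulCommutative (Subgroup.centralizer ({t} : Set G)) ∧
        ∀ c ∈ Subgroup.centralizer ({t} : Set G), c ^ 2 = 1 := by
    intro t ht
    have ht1 : t ≠ 1 := by
      intro h
      rw [h, orderOf_one] at ht
      omega
    have hZ : IsPGroup 2 (zpowers t) :=
      IsPGroup.of_card (n := 1) (by rw [Nat.card_zpowers, ht, pow_one])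
    obtain ⟨T', hT'⟩ := hZ.exists_le_sylow
    obtain ⟨g, hg⟩ := MulAction.exists_smul_eq G T' T
    have hmem : MulAut.conj g • t ∈ MulAut.conj g • (T' : Subgroup G) :=
      Subgroup.smul_mem_pointwise_smul _ _ _ (hT' (mem_zpowers t))
    rw [← Sylow.coe_subgroup_smul, hg, ← hLT, MulAut.smul_def, MulAut.conj_apply] at hmem
    have hne : g * t * g⁻¹ ≠ 1 := by
      intro h
      apply ht1
      calc t = g⁻¹ * (g * t * g⁻¹) * g := by group
        _ = 1 := by rw [h]; group
    obtain ⟨k', hk'⟩ := hconjsq _ hmem hne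
    -- t = (g⁻¹ k') y (g⁻¹ k')⁻¹
    set r := g⁻¹ * k' with hr
    have htr : t = r * y * r⁻¹ := by
      calc t = g⁻¹ * (g * t * g⁻¹) * g := by group
        _ = g⁻¹ * (k' * y * k'⁻¹) * g := by rw [hk']
        _ = r * y * r⁻¹ := by rw [hr]; group
    have hsq : ∀ c ∈ Subgroup.centralizer ({t} : Set G), c * c = 1 := by
      intro c hc
      rw [Subgroup.mem_centralizer_iff] at hc
      have hct := hc t (Set.mem_singleton t)
      have hmemL : r⁻¹ * c * r ∈ L := by
        rw [hL, Subgroup.mem_centralizer_iff]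
        intro z hz
        rw [Set.mem_singleton_iff.1 hz]
        have hy' : y = r⁻¹ * t * r := by rw [htr]; group
        rw [hy']
        calc r⁻¹ * t * r * (r⁻¹ * c * r) = r⁻¹ * (t * c) * r := by group
          _ = r⁻¹ * (c * t) * r := by rw [hct]
          _ = r⁻¹ * c * r * (r⁻¹ * t * r) := by group
      have h1 := hcent _ hmemL
      calc c * c = r * (r⁻¹ * c * r * (r⁻¹ * c * r)) * r⁻¹ := by group
        _ = 1 := by rw [h1]; group
    refine ⟨⟨⟨fun c d => ?_⟩⟩, fun c hc => by rw [pow_two]; exact hsq c hc⟩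
    apply Subtype.ext
    show (c : G) * d = d * c
    have h1 := hsq _ c.2
    have h2 := hsq _ d.2
    have h3 := hsq _ (mul_mem c.2 d.2)
    calc (c : G) * d = (d * d) * (c * d) * (c * c) := by rw [h1, h2]; group
      _ = d * (d * c * (d * c)) * c := by group
      _ = d * ((d * c) * (d * c)) * c := by group
      _ = d * c := by
        have h4 : (d : G) * c * (d * c) = 1 := hsq _ (mul_mem d.2 c.2)
        rw [h4]; group
  -- the Sylow 2-subgroup is neither cyclic nor normal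
  have h2dvd : 2 ∣ Nat.card G := by
    rw [hcardG]
    exact Dvd.dvd.mul_right (dvd_pow_self 2 (by omega)) _
  have hnc : ¬ IsCyclic (T : Subgroup G) := fun h => false_of_cyclic_sylow_two S.hperf T h2dvd h
  have hnn : ¬ (T : Subgroup G).Normal := by
    intro hN
    rcases S.simple (T : Subgroup G) with h | h
    · have : Nat.card (T : Subgroup G) = 1 := by rw [h]; exact Subgroup.card_bot
      rw [hcardT] at this
      have : 2 ^ 1 ≤ 2 ^ k := Nat.pow_le_pow_right (by norm_num) hk1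
      omega
    · have : Nat.card (T : Subgroup G) = Nat.card G := by rw [h]; exact Subgroup.card_top
      rw [hcardT, hcardG] at this
      have hpos : 0 < 2 ^ k := by positivity
      have h1 : p * (2 * n + 1) = 1 := by
        have : 2 ^ k * (p * (2 * n + 1)) = 2 ^ k * 1 := by rw [← this, mul_one]
        exact Nat.eq_of_mul_eq_mul_left hpos this
      rw [hpn] at h1
      nlinarith
  obtain ⟨F, hF1, hF2, hcardF, hiso⟩ := Cfsg.Agent.S1230.result T hnc hnn hC
  refine ⟨k, F, hF1, hF2, ?_, ?_, ?_, hiso⟩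
  · rw [hcardF]
    exact hcardT
  · omega
  · have := S.hn1
    omega

end Cfsg.Agent.H7Brauer
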