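import Mathlib
import Cfsg.Agent.Lib.Helper7.Brn19
import Cfsg.Agent.Lib.Helper1.BR2

/-!
# Brauer: the case of `p + 1` Sylow subgroups
-/

set_option autoImplicit false
set_option linter.unusedSectionVars false
set_option linter.unusedVariables false
set_option linter.style.haveILetI false

namespace Cfsg.Agent.H7Brauer

open Subgroup Cfsg

universe u

variable {G : Type u} [Group G] [Finite G] {p e n : ℕ} [hp : Fact p.Prime] {x : G}

/-- **the case `n = 1`**: the group is `PSL₂(p)` -/
theorem Setup.e1_final (S : Setup x p e n) (hn : n = 1) (he : e < p) :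
    ∃ (F : Type) (_ : Field F) (_ : Fintype F), Fintype.card F = p ∧ 3 < p ∧
      Nonempty (G ≃* Matrix.ProjectiveSpecialLinearGroup (Fin 2) F) := by
  have hx1 : x ≠ 1 := by
    intro h
    have := S.hx
    rw [h, orderOf_one] at this
    exact hp.out.one_lt.ne this
  haveI : Nontrivial G := ⟨x, 1, hx1⟩
  haveI : IsSimpleGroup G := ⟨fun K hK => S.simple K⟩
  have hG : ¬ IsCyclic G := by
    intro h
    have hcomm : ∀ a b : G, a * b = b * a := by
      intro a b
      letI := IsCyclic.commGroup (α := G)
      exact mul_comm a b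
    exact hx1 (hom_trivial_of_perfect hcomm S.hperf (MonoidHom.id G) x)
  have hcard := S.card_G
  have hm := S.hm
  rw [hn, one_mul] at hcard hm
  refine Cfsg.Agent.Lib.Helper1.BR.case_one hG (d := e) ?_ ?_ ?_ he S.two_le_e
  · rw [hcard]
    exact Dvd.dvd.mul_right (Dvd.intro _ rfl) _
  · rw [hm, add_comm]
  · rw [hcard]
    ring

end Cfsg.Agent.H7Brauer
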