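import Mathlib
import Cfsg.Agent.Lib.Helper7.Brn20

/-!
# Brauer: the case of a single exceptional character
-/

set_option autoImplicit false
set_option linter.unusedSectionVars false
set_option linter.unusedVariables false
set_option linter.style.haveILetI false

namespace Cfsg.Agent.H7Brauer

open Subgroup Cfsg Cfsg.Agent.Lib.Helper1 Cfsg.Agent.Lib.Helper4 Cfsg.Agent.Lib.Helper8

universe u v

variable {G : Type u} [Group G] [Fintype G] [Fintype (IrrCharacter G)] {p e n : ℕ}
  [hp : Fact p.Prime] {x : G}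

/-- degrees congruent to `-1` when `e = p - 1` -/
theorem t1_typeA (S : Setup x p e n) (hpe : p = e + 1) {χ : IrrCharacter G} {m : ℕ}
    (h1 : (charDegree (χ : G → ℂ) : ℤ) = p * m + ((p : ℤ) - 1)) :
    charDegree (χ : G → ℂ) = p - 1 := by
  have hp3 : 3 ≤ p := by have := S.two_le_e; omega
  have h2 : charDegree (χ : G → ℂ) + 1 = (m + 1) * p := by
    have : ((charDegree (χ : G → ℂ) + 1 : ℕ) : ℤ) = (((m + 1) * p : ℕ) : ℤ) := by
      push_cast
      linarith
    exact_mod_cast this
  have hne : χ ≠ trivIrr G := by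
    intro h
    rw [h, charDegree_trivIrr'] at h2
    have : p ∣ 2 := ⟨m + 1, by rw [mul_comm]; omega⟩
    have := Nat.le_of_dvd (by norm_num) this
    omega
  have hdvd : charDegree (χ : G → ℂ) ∣ e * (1 + n * p) := by
    have h3 := charDegree_dvd_card χ.2
    rw [S.card_G, mul_assoc] at h3
    apply dvd_of_dvd_card h3
    intro h4
    have h5 : p ∣ charDegree (χ : G → ℂ) + 1 := by rw [h2]; exact Dvd.intro_left _ rfl
    have h6 : p ∣ 1 := (Nat.dvd_add_right h4).1 h5
    exact hp.out.one_lt.ne' (Nat.dvd_one.1 h6)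
  have h7 := deg_minus_full hp3 hpe S.hn1 S.hn (Nat.le_add_left 1 m) h2 hdvd (deg_sq_lt S hne)
  have h8 : m = 0 := by omega
  rw [h8] at h2
  omega

/-- degrees congruent to `1` when `e = p - 1` -/
theorem t1_typeB (S : Setup x p e n) (hpe : p = e + 1) {χ : IrrCharacter G} {m : ℕ}
    (h1 : (charDegree (χ : G → ℂ) : ℤ) = p * m - ((p : ℤ) - 1)) (hne : χ ≠ trivIrr G) :
    charDegree (χ : G → ℂ) = 1 + n * p := by
  have hp3 : 3 ≤ p := by have := S.two_le_e; omega
  have hp1 := hp.out.one_lt
  have hpos := (irr_apply_one_eq_charDegree χ.2).2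
  have hne1 : charDegree (χ : G → ℂ) ≠ 1 := fun h => hne (eq_trivIrr_of_degree_one S.hperf h)
  have hm2 : 2 ≤ m := by
    by_contra hlt
    have hcases : m = 0 ∨ m = 1 := by omega
    have hpZ : (2 : ℤ) ≤ p := by exact_mod_cast hp.out.two_le
    have hposZ : (0 : ℤ) < charDegree (χ : G → ℂ) := by exact_mod_cast hpos
    rcases hcases with h | h
    · rw [h] at h1
      push_cast at h1
      linarith
    · rw [h] at h1
      push_cast at h1
      apply hne1
      have : (charDegree (χ : G → ℂ) : ℤ) = 1 := by linarith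
      exact_mod_cast this
  obtain ⟨u, hu⟩ : ∃ u, m = u + 1 := ⟨m - 1, by omega⟩
  have h2 : charDegree (χ : G → ℂ) = u * p + 1 := by
    have : ((charDegree (χ : G → ℂ) : ℕ) : ℤ) = ((u * p + 1 : ℕ) : ℤ) := by
      rw [h1, hu]
      push_cast
      ring
    exact_mod_cast this
  have hdvd : u * p + 1 ∣ e * (1 + n * p) := by
    have h3 := charDegree_dvd_card χ.2
    rw [S.card_G, mul_assoc, h2] at h3
    apply dvd_of_dvd_card h3
    intro h4
    have h5 : p ∣ u * p := Dvd.intro_left _ rfl
    have h6 : p ∣ 1 := (Nat.dvd_add_right h5).1 h4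
    exact hp.out.one_lt.ne' (Nat.dvd_one.1 h6)
  have h7 := deg_plus (t := 1) hp3 (by omega) S.hn (by omega : 1 ≤ u) hdvd
  rw [h7] at h2
  rw [h2]
  ring

/-- the final arithmetic -/
theorem t1_arith {p n A B : ℤ} (hp : p ≠ 0) (hcount : A + B + 1 = p)
    (hsum : A * (p - 1) - B * (1 + n * p) - 1 = 0) : B * (1 + n) = p - 2 := by
  have h1 : p * (B * (1 + n)) = p * (p - 2) := by
    have hA : A = p - 1 - B := by linarith
    rw [hA] at hsum
    linear_combination -hsum
  exact mul_left_cancel₀ hp h1

variable {Q : Type v} [Fintype Q] {ε : ℤ} {W : IrrCharacter G → ℤ}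
  {a : Q → IrrCharacter G} {m0 : IrrCharacter G → ℕ}

/-- **a single exceptional character is impossible** -/
theorem Pat.t1_false (P : Pat x p e ε W a m0) (S : Setup x p e n) (ht1 : Fintype.card Q = 1) :
    False := by
  classical
  obtain ⟨q₀, hq₀⟩ := Fintype.card_eq_one_iff.1 ht1
  have hpe : p = e + 1 := by
    have := P.p_eq
    rw [ht1, mul_one] at this
    exact this
  have he2 := S.two_le_e
  have hp3 : 3 ≤ p := by omega
  set θ := a q₀ with hθ
  have hrange : ∀ χ : IrrCharacter G, χ ≠ θ → χ ∉ Set.range a := by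
    rintro χ hχ ⟨q, rfl⟩
    exact hχ (by rw [hθ, hq₀ q])
  set v : IrrCharacter G → ℤ := fun χ => if χ = θ then ε else W χ with hv
  have hvθ : v θ = ε := by rw [hv]; exact if_pos rfl
  have hvne : ∀ χ, χ ≠ θ → v χ = W χ := fun χ hχ => by rw [hv]; exact if_neg hχ
  have heZ : (e : ℤ) = (p : ℤ) - 1 := by rw [hpe]; push_cast; ring
  -- the degree formula
  have hdeg : ∀ χ : IrrCharacter G,
      (charDegree (χ : G → ℂ) : ℤ) = p * m0 χ + ((p : ℤ) - 1) * v χ := by
    intro χ
    by_cases hχ : χ = θ
    · rw [hχ, hvθ, hθ, P.deg_exc q₀, heZ]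
      ring
    · rw [hvne χ hχ]
      exact P.deg_nonexc χ (hrange χ hχ)
  have hv3 : ∀ χ, v χ = 0 ∨ v χ = 1 ∨ v χ = -1 := by
    intro χ
    by_cases hχ : χ = θ
    · rw [hχ, hvθ]
      rcases P.hε with h | h
      · exact Or.inr (Or.inl h)
      · exact Or.inr (Or.inr h)
    · rw [hvne χ hχ]
      exact P.hW3 χ
  have hvtriv : v (trivIrr G) = -1 := by
    have h1 := hdeg (trivIrr G)
    rw [P.m0_triv S.hx, charDegree_trivIrr'] at h1
    push_cast at h1
    have hpZ : (3 : ℤ) ≤ p := by exact_mod_cast hp3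
    rcases hv3 (trivIrr G) with h | h | h
    · rw [h] at h1; linarith
    · rw [h] at h1; linarith
    · exact h
  -- the relation
  have hrel : ∑ χ : IrrCharacter G, v χ * (charDegree (χ : G → ℂ) : ℤ) = 0 := by
    have h1 := P.rel_one q₀
    have h2 : ∀ χ : IrrCharacter G, v χ * (charDegree (χ : G → ℂ) : ℤ) =
        W χ * (charDegree (χ : G → ℂ) : ℤ) +
          (if χ = θ then ε * (charDegree (θ : G → ℂ) : ℤ) else 0) := by
      intro χ
      by_cases hχ : χ = θ
      · rw [if_pos hχ, hχ, hvθ, hθ, P.hWa q₀]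
        ring
      · rw [if_neg hχ, hvne χ hχ, add_zero]
    rw [Finset.sum_congr rfl (fun χ _ => h2 χ), Finset.sum_add_distrib,
      Finset.sum_ite_eq' Finset.univ θ, if_pos (Finset.mem_univ _)]
    exact h1
  -- the count
  have hcount : (Finset.univ.filter (fun χ : IrrCharacter G => v χ ≠ 0)).card = p := by
    have h1 : Finset.univ.filter (fun χ : IrrCharacter G => v χ ≠ 0) =
        insert θ (Finset.univ.filter (fun χ : IrrCharacter G => W χ ≠ 0)) := by
      ext χ
      rw [Finset.mem_filter, Finset.mem_insert, Finset.mem_filter]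
      by_cases hχ : χ = θ
      · rw [hχ, hvθ]
        have : ε ≠ 0 := by rcases P.hε with h | h <;> rw [h] <;> norm_num
        simp [this]
      · rw [hvne χ hχ]
        simp [hχ]
    have h2 : θ ∉ Finset.univ.filter (fun χ : IrrCharacter G => W χ ≠ 0) := by
      rw [Finset.mem_filter]
      intro h
      exact h.2 (P.hWa q₀)
    rw [h1, Finset.card_insert_of_notMem h2, ← Fintype.card_subtype,
      ← Nat.card_eq_fintype_card, P.card_W, hpe]
  -- the three kinds of characters
  set sA := Finset.univ.filter (fun χ : IrrCharacter G => v χ = 1) with hsA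
  set sB := Finset.univ.filter (fun χ : IrrCharacter G => v χ = -1 ∧ χ ≠ trivIrr G) with hsB
  have hkind : ∀ χ : IrrCharacter G, v χ * (charDegree (χ : G → ℂ) : ℤ) =
      (if v χ = 1 then ((p : ℤ) - 1) else 0) -
        (if (v χ = -1 ∧ χ ≠ trivIrr G) then (1 + (n : ℤ) * p) else 0) -
          (if χ = trivIrr G then 1 else 0) := by
    intro χ
    have hpZ : (1 : ℤ) ≤ p := by exact_mod_cast hp.out.one_lt.le
    rcases hv3 χ with h | h | h
    · have hne : χ ≠ trivIrr G := fun h' => by rw [h', hvtriv] at h; norm_num at h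
      rw [h, if_neg (by norm_num), if_neg (fun h' => by norm_num at h'), if_neg hne]
      ring
    · have hne : χ ≠ trivIrr G := fun h' => by rw [h', hvtriv] at h; norm_num at h
      have h1 := hdeg χ
      rw [h, mul_one] at h1
      have h2 := t1_typeA S hpe h1
      rw [h, if_pos rfl, if_neg (fun h' => by norm_num at h'), if_neg hne, h2,
        Nat.cast_sub hp.out.one_lt.le]
      push_cast
      ring
    · by_cases hne : χ = trivIrr G
      · rw [h, if_neg (by norm_num), if_neg (fun h' => h'.2 hne), if_pos hne, hne,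
          charDegree_trivIrr']
        push_cast
      · have h1 := hdeg χ
        rw [h] at h1
        have h2 := t1_typeB S hpe (m := m0 χ) (by rw [h1]; ring) hne
        rw [h, if_neg (by norm_num), if_pos ⟨rfl, hne⟩, if_neg hne, h2]
        push_cast
        ring
  have hkind2 : ∀ χ : IrrCharacter G, (if v χ ≠ 0 then (1 : ℤ) else 0) =
      (if v χ = 1 then 1 else 0) + (if (v χ = -1 ∧ χ ≠ trivIrr G) then 1 else 0) +
          (if χ = trivIrr G then 1 else 0) := by
    intro χ
    rcases hv3 χ with h | h | h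
    · have hne : χ ≠ trivIrr G := fun h' => by rw [h', hvtriv] at h; norm_num at h
      rw [h, if_neg (by norm_num), if_neg (by norm_num), if_neg (fun h' => by norm_num at h'),
        if_neg hne]
      ring
    · have hne : χ ≠ trivIrr G := fun h' => by rw [h', hvtriv] at h; norm_num at h
      rw [h, if_pos (by norm_num), if_pos rfl, if_neg (fun h' => by norm_num at h'), if_neg hne]
      ring
    · by_cases hne : χ = trivIrr G
      · rw [h, if_pos (by norm_num), if_neg (by norm_num), if_neg (fun h' => h'.2 hne),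
          if_pos hne]
        ring
      · rw [h, if_pos (by norm_num), if_neg (by norm_num), if_pos ⟨rfl, hne⟩, if_neg hne]
        ring
  have hsum1 : (sA.card : ℤ) * ((p : ℤ) - 1) - (sB.card : ℤ) * (1 + (n : ℤ) * p) - 1 = 0 := by
    rw [← hrel, Finset.sum_congr rfl (fun χ _ => hkind χ), Finset.sum_sub_distrib,
      Finset.sum_sub_distrib, Finset.sum_ite_eq' Finset.univ (trivIrr G),
      if_pos (Finset.mem_univ _), ← Finset.sum_filter, ← Finset.sum_filter, Finset.sum_const,
      Finset.sum_const, nsmul_eq_mul, nsmul_eq_mul]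
  have hsum2 : (sA.card : ℤ) + (sB.card : ℤ) + 1 = p := by
    have h1 : ((Finset.univ.filter (fun χ : IrrCharacter G => v χ ≠ 0)).card : ℤ) =
        ∑ χ : IrrCharacter G, (if v χ ≠ 0 then (1 : ℤ) else 0) := by
      rw [Finset.sum_boole]
    rw [hcount] at h1
    rw [h1, Finset.sum_congr rfl (fun χ _ => hkind2 χ), Finset.sum_add_distrib,
      Finset.sum_add_distrib, Finset.sum_ite_eq' Finset.univ (trivIrr G),
      if_pos (Finset.mem_univ _), Finset.sum_boole, Finset.sum_boole]
  have hpZ : (p : ℤ) ≠ 0 := by exact_mod_cast hp.out.ne_zero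
  have hB := t1_arith hpZ hsum2 hsum1
  -- parity
  have hBn : sB.card * (1 + n) + 2 = p := by
    have : ((sB.card * (1 + n) + 2 : ℕ) : ℤ) = (p : ℤ) := by
      push_cast
      linarith
    exact_mod_cast this
  have hpodd : Odd p := hp.out.odd_of_ne_two (by omega)
  have hnev : Even n := by
    by_contra hn
    have hn' : Odd n := Nat.not_even_iff_odd.1 hn
    have h1 : Even (1 + n) := by
      rw [add_comm]
      exact hn'.add_one
    have h2 : Even (sB.card * (1 + n) + 2) := (h1.mul_left _).add even_two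
    rw [hBn] at h2
    exact (Nat.not_even_iff_odd.2 hpodd) h2
  have heven : Even e := by
    have : Odd (e + 1) := hpe ▸ hpodd
    by_contra he
    exact (Nat.not_even_iff_odd.2 this) ((Nat.not_even_iff_odd.1 he).add_one)
  have hr : Odd (p * (1 + n * p)) := by
    refine hpodd.mul ?_
    rw [add_comm]
    exact (hnev.mul_right p).add_one
  obtain ⟨σ, -, -, hoσ, -⟩ := exists_gen S.hx S.hself S.hcardN he2
  refine false_of_odd_index S.hperf hoσ heven ?_ hr
  rw [S.card_G]
  ring

end Cfsg.Agent.H7Brauer
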