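import Mathlib
import Cfsg.Agent.Lib.Helper8.GH4
import Cfsg.Agent.Lib.Helper7.BR13

set_option autoImplicit false
set_option maxHeartbeats 800000
set_option linter.unusedSectionVars false
set_option linter.style.haveILetI false
set_option linter.unusedVariables false

/-!
# Wielandt's theorem on primitive groups of degree `2p`, part B1

The decomposition of a character of degree `2p` vanishing on the nonidentity elements of a
self-centralizing Sylow `p`-subgroup of order `p`, via Brauer's theory of blocks of defect one.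
-/

namespace Cfsg.Agent.H7W2p

open Cfsg Cfsg.Agent.Lib.Helper8 Cfsg.Agent.Lib.Helper7
open scoped ComplexConjugate
open Cfsg.Agent.Lib.Helper1 Cfsg.Agent.Lib.Helper4

universe u

/-- a sum of natural numbers equal to `1` has exactly one nonzero term -/
theorem exists_of_sum_eq_one {I : Type*} [DecidableEq I] (s : Finset I) (f : I → ℕ)
    (h : ∑ i ∈ s, f i = 1) : ∃ i₀ ∈ s, f i₀ = 1 ∧ ∀ i ∈ s, i ≠ i₀ → f i = 0 := by
  have hne : ∃ i₀ ∈ s, f i₀ ≠ 0 := by
    by_contra hcon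
    push Not at hcon
    rw [Finset.sum_eq_zero hcon] at h
    exact absurd h (by norm_num)
  obtain ⟨i₀, hi₀, hf⟩ := hne
  have h2 := Finset.add_sum_erase s f hi₀
  rw [h] at h2
  have h3 : f i₀ = 1 := by omega
  have h4 : ∑ i ∈ s.erase i₀, f i = 0 := by omega
  refine ⟨i₀, hi₀, h3, ?_⟩
  intro i hi hne
  exact (Finset.sum_eq_zero_iff.1 h4) i (Finset.mem_erase.2 ⟨hne, hi⟩)

/-- the combinatorial core of the analysis of the permutation character -/
theorem core_arith {I : Type*} [Fintype I] [DecidableEq I] (p : ℕ) (hp : 2 ≤ p) (m T : I → ℕ)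
    (w : I → ℤ) (μ : ℕ) (t : I) (hT : ∑ i, m i * T i = 2)
    (hw : ∑ i, (m i : ℤ) * w i + μ = 0) (hmt : m t = 1) (hTt : T t = 1) (hwt : w t = -1)
    (hpos : ∀ i, m i ≠ 0 → 0 < (p : ℤ) * T i + ((p : ℤ) - 1) * w i) :
    ∃ i₀, i₀ ≠ t ∧ m i₀ = 1 ∧ T i₀ = 1 ∧
      (∀ i, i ≠ t → i ≠ i₀ → m i ≠ 0 → T i = 0 ∧ 0 < w i) ∧
      w i₀ + ∑ i ∈ (Finset.univ.erase t).erase i₀, (m i : ℤ) * w i + μ = 1 := by
  have h1 := Finset.add_sum_erase Finset.univ (fun i => m i * T i) (Finset.mem_univ t)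
  rw [hT] at h1
  simp only [hmt, hTt, mul_one] at h1
  have h2 : ∑ i ∈ Finset.univ.erase t, m i * T i = 1 := by omega
  obtain ⟨i₀, hi₀, h3, h4⟩ := exists_of_sum_eq_one _ _ h2
  have hi₀t : i₀ ≠ t := (Finset.mem_erase.1 hi₀).1
  have hm0 : m i₀ = 1 := Nat.eq_one_of_mul_eq_one_right h3
  have hT0 : T i₀ = 1 := Nat.eq_one_of_mul_eq_one_left h3
  have hrest : ∀ i, i ≠ t → i ≠ i₀ → m i ≠ 0 → T i = 0 ∧ 0 < w i := by
    intro i hit hi0 hmi
    have h5 := h4 i (Finset.mem_erase.2 ⟨hit, Finset.mem_univ i⟩) hi0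
    have h6 : T i = 0 := by
      rcases Nat.mul_eq_zero.1 h5 with h | h
      · exact absurd h hmi
      · exact h
    refine ⟨h6, ?_⟩
    have h7 := hpos i hmi
    rw [h6] at h7
    have hp1 : (0 : ℤ) < (p : ℤ) - 1 := by
      have : (2 : ℤ) ≤ p := by exact_mod_cast hp
      linarith
    simp only [Nat.cast_zero, mul_zero, zero_add] at h7
    by_contra hcon
    push Not at hcon
    have : ((p : ℤ) - 1) * w i ≤ 0 := mul_nonpos_of_nonneg_of_nonpos hp1.le hcon
    linarith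
  refine ⟨i₀, hi₀t, hm0, hT0, hrest, ?_⟩
  have e1 := Finset.add_sum_erase Finset.univ (fun i => (m i : ℤ) * w i) (Finset.mem_univ t)
  have e2 := Finset.add_sum_erase (Finset.univ.erase t) (fun i => (m i : ℤ) * w i) hi₀
  simp only [hmt, hwt, hm0] at e1 e2
  push_cast at e1 e2
  linarith

section

variable {G : Type u} [Group G] [Fintype G] {M : Ideal AlgInt} {p : ℕ} [Fact p.Prime]
  {x : G} {C : Subgroup G} [Fintype C] {b : Set (IrrCharacter C)} {B : Set (IrrCharacter G)}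

/-- if `⟨x⟩` is self-centralizing, `C = ⟨x⟩` has order `p` -/
theorem card_C (ctx : D1Ctx p M x C b B (trivIrr C))
    (hself : ∀ t : G, t * x = x * t → t ∈ Subgroup.zpowers x) : Nat.card C = p := by
  have h1 : C = Subgroup.zpowers x := by
    apply le_antisymm
    · intro t ht
      exact hself t ((ctx.hC t).1 ht)
    · exact ctx.base.hPC
  rw [h1, Nat.card_zpowers, ctx.hx]

/-- if `⟨x⟩` is self-centralizing, every irreducible character of `C` lies in the block `b` -/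
theorem mem_b (ctx : D1Ctx p M x C b B (trivIrr C))
    (hself : ∀ t : G, t * x = x * t → t ∈ Subgroup.zpowers x) (ξ : IrrCharacter C) : ξ ∈ b := by
  have h1 : Nat.card b = p := d1_card_block ctx.hM ctx.hzc ctx.hz ctx.hb ctx.hDb
  have h2 : Nat.card (IrrCharacter C) ≤ p := by
    rw [← card_C ctx hself]
    exact card_irr_le_card C
  have hfin : Finite (IrrCharacter C) := inferInstance
  have h3 : b = Set.univ := by
    rw [Set.eq_univ_iff_ncard, ← Nat.card_coe_set_eq, h1]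
    apply le_antisymm _ h2
    rw [← h1, Nat.card_coe_set_eq, ← Set.ncard_univ]
    exact Set.ncard_le_ncard (Set.subset_univ _) (Set.toFinite _)
  rw [h3]
  exact Set.mem_univ ξ


/-- the degree in terms of the multiplicities -/
theorem degree_eq (ctx : D1Ctx p M x C b B (trivIrr C))
    (hself : ∀ t : G, t * x = x * t → t ∈ Subgroup.zpowers x) (χ : IrrCharacter G) :
    charDegree (χ : G → ℂ) = d1m C χ (trivIrr C) + ∑ ξ : ctx.Bn, d1m C χ ξ.1 := by
  classical
  have : Fintype (IrrCharacter C) := Fintype.ofFinite _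
  have h1 := br_degree_eq_sum C χ
  have hlin : ∀ ξ : IrrCharacter C, charDegree (ξ : C → ℂ) = 1 := by
    intro ξ
    have e1 := br_principal_linear ctx (mem_b ctx hself ξ)
    rw [(irr_apply_one_eq_charDegree ξ.2).1] at e1
    exact_mod_cast e1
  simp only [hlin, mul_one] at h1
  have h2 := ctx.sum_b_eq (fun ξ => (d1m C χ ξ : ℂ))
  rw [Finset.sum_congr rfl (fun ξ _ => if_pos (mem_b ctx hself ξ))] at h2
  have h3 : ((∑ ξ : IrrCharacter C, d1m C χ ξ : ℕ) : ℂ) =
      ((d1m C χ (trivIrr C) + ∑ ξ : ctx.Bn, d1m C χ ξ.1 : ℕ) : ℂ) := by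
    push_cast
    exact h2
  rw [h1]
  exact_mod_cast h3

/-- multiplicities of non-exceptional characters -/
theorem mult_nonexc {ε : ℤ} {W : IrrCharacter G → ℤ} {ctx : D1Ctx p M x C b B (trivIrr C)}
    {a : ctx.Q → IrrCharacter G} (S : ctx.Str ε W a) {χ : IrrCharacter G}
    (hχ : χ ∉ Set.range a) (ξ : ctx.Bn) :
    (d1m C χ ξ.1 : ℤ) = d1m C χ (trivIrr C) + W χ := by
  have := br_V_nonexc S hχ ξ
  linarith

/-- multiplicities of exceptional characters -/
theorem mult_exc {ε : ℤ} {W : IrrCharacter G → ℤ} {ctx : D1Ctx p M x C b B (trivIrr C)}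
    {a : ctx.Q → IrrCharacter G} (S : ctx.Str ε W a) (q : ctx.Q) (ξ : ctx.Bn) :
    (d1m C (a q) ξ.1 : ℤ) = d1m C (a q) (trivIrr C) + if ctx.mkQ ξ = q then ε else 0 := by
  have := br_V_exc S q ξ
  linarith

/-- degrees of non-exceptional characters -/
theorem degree_nonexc {ε : ℤ} {W : IrrCharacter G → ℤ} {ctx : D1Ctx p M x C b B (trivIrr C)}
    {a : ctx.Q → IrrCharacter G} (S : ctx.Str ε W a)
    (hself : ∀ t : G, t * x = x * t → t ∈ Subgroup.zpowers x) {χ : IrrCharacter G}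
    (hχ : χ ∉ Set.range a) :
    (charDegree (χ : G → ℂ) : ℤ) = p * d1m C χ (trivIrr C) + ((p : ℤ) - 1) * W χ := by
  have hp : p.Prime := Fact.out
  rw [degree_eq ctx hself χ]
  push_cast
  rw [Finset.sum_congr rfl (fun ξ _ => mult_nonexc S hχ ξ), Finset.sum_const, Finset.card_univ,
    ctx.card_Bn, nsmul_eq_mul, Nat.cast_sub hp.one_lt.le]
  push_cast
  ring

/-- degrees of exceptional characters -/
theorem degree_exc {ε : ℤ} {W : IrrCharacter G → ℤ} {ctx : D1Ctx p M x C b B (trivIrr C)}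
    {a : ctx.Q → IrrCharacter G} (S : ctx.Str ε W a)
    (hself : ∀ t : G, t * x = x * t → t ∈ Subgroup.zpowers x) (q : ctx.Q) :
    (charDegree (a q : G → ℂ) : ℤ) = p * d1m C (a q) (trivIrr C) + ε * ctx.e := by
  classical
  have hp : p.Prime := Fact.out
  rw [degree_eq ctx hself (a q)]
  push_cast
  rw [Finset.sum_congr rfl (fun ξ _ => mult_exc S q ξ), Finset.sum_add_distrib, Finset.sum_const,
    Finset.card_univ, ctx.card_Bn, nsmul_eq_mul, Nat.cast_sub hp.one_lt.le,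
    ← Finset.sum_filter, Finset.sum_const, br_card_class_eq ctx q]
  push_cast
  ring


/-- the multiplicity equations of a character vanishing on `C \ {1}` of degree `2p` -/
theorem mult_equation (ctx : D1Ctx p M x C b B (trivIrr C))
    (hself : ∀ t : G, t * x = x * t → t ∈ Subgroup.zpowers x) [Fintype (IrrCharacter G)]
    (m : IrrCharacter G → ℕ) (ψ : G → ℂ)
    (hψ : ψ = ∑ χ : IrrCharacter G, (m χ : ℂ) • (χ : G → ℂ)) (h1 : ψ 1 = 2 * p)
    (h0 : ∀ c : C, c ≠ 1 → ψ c = 0) (ξ : IrrCharacter C) :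
    ∑ χ : IrrCharacter G, m χ * d1m C χ ξ = 2 := by
  have hp : p.Prime := Fact.out
  have e1 : classInner (fun c : C => ψ c) (ξ : C → ℂ) = 2 := by
    unfold classInner
    beta_reduce
    rw [Finset.sum_eq_single (1 : C)]
    · have hlin : (ξ : C → ℂ) 1 = 1 := br_principal_linear ctx (mem_b ctx hself ξ)
      rw [hlin, map_one, mul_one, show ((1 : C) : G) = 1 from rfl, h1, card_C ctx hself]
      have : (p : ℂ) ≠ 0 := Nat.cast_ne_zero.2 hp.ne_zero
      field_simp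
    · intro c _ hc
      rw [h0 c hc, zero_mul]
    · intro h
      exact absurd (Finset.mem_univ _) h
  have e2 : (fun c : C => ψ c) = ∑ χ : IrrCharacter G, (m χ : ℂ) • (fun c : C => (χ : G → ℂ) c) := by
    funext c
    rw [hψ, Finset.sum_apply, Finset.sum_apply]
    rfl
  rw [e2, classInner_sum_left] at e1
  simp only [classInner_smul_left, d1m_spec] at e1
  exact_mod_cast e1


/-- the trivial character restricts to the trivial character -/
theorem d1m_triv (ξ : IrrCharacter C) :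
    d1m C (trivIrr G) ξ = if ξ = trivIrr C then 1 else 0 := by
  have h1 := d1m_spec C (trivIrr G) ξ
  have h2 : (fun c : C => (trivIrr G : G → ℂ) c) = (trivIrr C : C → ℂ) := by
    funext c
    rw [trivIrr_apply, trivIrr_apply]
  rw [h2, classInner_irr (trivIrr C).2 ξ.2] at h1
  by_cases h : ξ = trivIrr C
  · rw [if_pos h]
    rw [if_pos (by rw [h])] at h1
    exact_mod_cast h1.symm
  · rw [if_neg h]
    rw [if_neg (fun h' => h (Subtype.ext h'.symm))] at h1
    exact_mod_cast h1.symm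

/-- the degree in terms of `V` -/
theorem degree_eq_V (ctx : D1Ctx p M x C b B (trivIrr C))
    (hself : ∀ t : G, t * x = x * t → t ∈ Subgroup.zpowers x) (χ : IrrCharacter G) :
    (charDegree (χ : G → ℂ) : ℤ) =
      p * d1m C χ (trivIrr C) + ∑ ξ : ctx.Bn, ctx.V ξ.1 χ := by
  have hp : p.Prime := Fact.out
  rw [degree_eq ctx hself χ]
  push_cast
  have h1 : ∀ ξ : ctx.Bn, (d1m C χ ξ.1 : ℤ) = d1m C χ (trivIrr C) + ctx.V ξ.1 χ := by
    intro ξ
    unfold D1Ctx.V
    ring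
  rw [Finset.sum_congr rfl (fun ξ _ => h1 ξ), Finset.sum_add_distrib, Finset.sum_const,
    Finset.card_univ, ctx.card_Bn, nsmul_eq_mul, Nat.cast_sub hp.one_lt.le]
  push_cast
  ring

/-- the difference equations -/
theorem diff_equation (ctx : D1Ctx p M x C b B (trivIrr C)) [Fintype (IrrCharacter G)]
    (m : IrrCharacter G → ℕ)
    (hθ : ∑ χ : IrrCharacter G, m χ * d1m C χ (trivIrr C) = 2)
    (hξ : ∀ ξ : ctx.Bn, ∑ χ : IrrCharacter G, m χ * d1m C χ ξ.1 = 2) (ξ : ctx.Bn) :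
    ∑ χ : IrrCharacter G, (m χ : ℤ) * ctx.V ξ.1 χ = 0 := by
  unfold D1Ctx.V
  simp only [mul_sub, Finset.sum_sub_distrib]
  have h1 : ∑ χ : IrrCharacter G, (m χ : ℤ) * (d1m C χ ξ.1 : ℤ) = 2 := by
    exact_mod_cast hξ ξ
  have h2 : ∑ χ : IrrCharacter G, (m χ : ℤ) * (d1m C χ (trivIrr C) : ℤ) = 2 := by
    exact_mod_cast hθ
  rw [h1, h2]
  ring


/-- the possible decompositions of the permutation character -/
def Decomp (ctx : D1Ctx p M x C b B (trivIrr C)) (ε : ℤ) (a : ctx.Q → IrrCharacter G)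
    (m : IrrCharacter G → ℕ) : Prop :=
  ∃ χ₀ : IrrCharacter G, χ₀ ≠ trivIrr G ∧ m χ₀ = 1 ∧
    ((∀ χ, χ ≠ trivIrr G → χ ≠ χ₀ → m χ = 0) ∨
     (charDegree (χ₀ : G → ℂ) = p ∧ ∃ χ₁ : IrrCharacter G, χ₁ ≠ trivIrr G ∧ χ₁ ≠ χ₀ ∧ m χ₁ = 1 ∧
        charDegree (χ₁ : G → ℂ) = p - 1 ∧
        ∀ χ, χ ≠ trivIrr G → χ ≠ χ₀ → χ ≠ χ₁ → m χ = 0) ∨
     (charDegree (χ₀ : G → ℂ) = p ∧ χ₀ ∉ Set.range a ∧ (∃ q q' : ctx.Q, q ≠ q') ∧ ε = 1 ∧
        (∀ q, m (a q) = 1 ∧ d1m C (a q) (trivIrr C) = 0) ∧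
        ∀ χ, χ ≠ trivIrr G → χ ≠ χ₀ → χ ∉ Set.range a → m χ = 0))

/-- the decomposition when there is only one class of nontrivial characters of `C` -/
theorem decomp_one {ε : ℤ} {W : IrrCharacter G → ℤ} {ctx : D1Ctx p M x C b B (trivIrr C)}
    {a : ctx.Q → IrrCharacter G} (S : ctx.Str ε W a)
    (hself : ∀ t : G, t * x = x * t → t ∈ Subgroup.zpowers x) [Fintype (IrrCharacter G)]
    (m : IrrCharacter G → ℕ)
    (hθ : ∑ χ : IrrCharacter G, m χ * d1m C χ (trivIrr C) = 2)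
    (hξ : ∀ ξ : ctx.Bn, ∑ χ : IrrCharacter G, m χ * d1m C χ ξ.1 = 2)
    (hm1 : m (trivIrr G) = 1)
    (hlin : ∀ χ : IrrCharacter G, χ ≠ trivIrr G → m χ ≠ 0 → charDegree (χ : G → ℂ) ≠ 1)
    (hQ : ∀ q q' : ctx.Q, q = q') : Decomp ctx ε a m := by
  classical
  have hp : p.Prime := Fact.out
  have hp2 := hp.two_le
  have hBn : Nonempty ctx.Bn := by
    rw [← Fintype.card_pos_iff, ctx.card_Bn]
    omega
  obtain ⟨ξ₁⟩ := hBn
  set w : IrrCharacter G → ℤ := fun χ => ctx.V ξ₁.1 χ with hw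
  have hVw : ∀ (ξ : ctx.Bn) (χ : IrrCharacter G), ctx.V ξ.1 χ = w χ := by
    intro ξ χ
    rw [hw]
    show ctx.V ξ.1 χ = ctx.V ξ₁.1 χ
    rw [S.V_eq ξ χ, S.V_eq ξ₁ χ, hQ (ctx.mkQ ξ) (ctx.mkQ ξ₁)]
  have hdeg : ∀ χ : IrrCharacter G, (charDegree (χ : G → ℂ) : ℤ) =
      p * d1m C χ (trivIrr C) + ((p : ℤ) - 1) * w χ := by
    intro χ
    rw [degree_eq_V ctx hself χ, Finset.sum_congr rfl (fun ξ _ => hVw ξ χ), Finset.sum_const,
      Finset.card_univ, ctx.card_Bn, nsmul_eq_mul, Nat.cast_sub hp.one_lt.le]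
    push_cast
    ring
  have hw3 : ∀ χ : IrrCharacter G, w χ = 0 ∨ w χ = 1 ∨ w χ = -1 := by
    intro χ
    rw [hw]
    show ctx.V ξ₁.1 χ = 0 ∨ ctx.V ξ₁.1 χ = 1 ∨ ctx.V ξ₁.1 χ = -1
    rw [S.V_eq ξ₁ χ]
    by_cases h : χ = a (ctx.mkQ ξ₁)
    · rw [if_pos h, h, S.hWa, zero_add]
      rcases S.hε with h | h
      · right; left; exact h
      · right; right; exact h
    · rw [if_neg h, add_zero]
      have hr : χ ∉ Set.range a := by
        rintro ⟨q, rfl⟩
        exact h (by rw [hQ q (ctx.mkQ ξ₁)])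
      by_cases hB : χ ∈ B
      · rcases S.hW χ hB hr with h | h
        · right; left; exact h
        · right; right; exact h
      · left
        exact S.hW0 χ hB
  have htrivT : d1m C (trivIrr G) (trivIrr C) = 1 := by rw [d1m_triv, if_pos rfl]
  have hwt : w (trivIrr G) = -1 := by
    rw [hw]
    show ctx.V ξ₁.1 (trivIrr G) = -1
    unfold D1Ctx.V
    rw [d1m_triv, d1m_triv, if_pos rfl, if_neg ξ₁.2.2]
    norm_num
  have hde := diff_equation ctx m hθ hξ ξ₁
  obtain ⟨χ₀, h0t, hm0, hT0, hrest, hsum⟩ := core_arith p hp2 m (fun χ => d1m C χ (trivIrr C)) w 0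
    (trivIrr G) hθ (by simpa using hde) hm1 htrivT hwt (by
      intro χ _
      rw [← hdeg χ]
      exact_mod_cast (irr_apply_one_eq_charDegree χ.2).2)
  have hrest1 : ∀ χ, χ ≠ trivIrr G → χ ≠ χ₀ → m χ ≠ 0 → w χ = 1 := by
    intro χ h1 h2 h3
    have := (hrest χ h1 h2 h3).2
    rcases hw3 χ with h | h | h <;> omega
  have hsum' : ∑ χ ∈ (Finset.univ.erase (trivIrr G)).erase χ₀, (m χ : ℤ) * w χ =
      ((∑ χ ∈ (Finset.univ.erase (trivIrr G)).erase χ₀, m χ : ℕ) : ℤ) := by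
    rw [Nat.cast_sum]
    refine Finset.sum_congr rfl fun χ hχ => ?_
    rw [Finset.mem_erase, Finset.mem_erase] at hχ
    by_cases h : m χ = 0
    · rw [h]; simp
    · rw [hrest1 χ hχ.2.1 hχ.1 h, mul_one]
  rw [hsum'] at hsum
  simp only [Nat.cast_zero, add_zero] at hsum
  refine ⟨χ₀, h0t, hm0, ?_⟩
  have hd0 := hdeg χ₀
  rw [hT0] at hd0
  rcases hw3 χ₀ with h | h | h
  · -- case (A)
    right; left
    rw [h] at hsum hd0
    have hs1 : ∑ χ ∈ (Finset.univ.erase (trivIrr G)).erase χ₀, m χ = 1 := by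
      have : ((∑ χ ∈ (Finset.univ.erase (trivIrr G)).erase χ₀, m χ : ℕ) : ℤ) = 1 := by linarith
      exact_mod_cast this
    obtain ⟨χ₁, hχ₁, hm1', hothers⟩ := exists_of_sum_eq_one _ _ hs1
    rw [Finset.mem_erase, Finset.mem_erase] at hχ₁
    refine ⟨by
      have : (charDegree (χ₀ : G → ℂ) : ℤ) = p := by rw [hd0]; ring
      exact_mod_cast this, χ₁, hχ₁.2.1, hχ₁.1, hm1', ?_, ?_⟩
    · have hd1 := hdeg χ₁
      have hm1ne : m χ₁ ≠ 0 := by rw [hm1']; exact one_ne_zero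
      rw [(hrest χ₁ hχ₁.2.1 hχ₁.1 hm1ne).1, hrest1 χ₁ hχ₁.2.1 hχ₁.1 hm1ne] at hd1
      have : (charDegree (χ₁ : G → ℂ) : ℤ) = ((p - 1 : ℕ) : ℤ) := by
        rw [hd1, Nat.cast_sub hp.one_lt.le]
        push_cast
        ring
      exact_mod_cast this
    · intro χ h1 h2 h3
      exact hothers χ (Finset.mem_erase.2 ⟨h2, Finset.mem_erase.2 ⟨h1, Finset.mem_univ χ⟩⟩) h3
  · -- rank two
    left
    rw [h] at hsum
    have hs0 : ∑ χ ∈ (Finset.univ.erase (trivIrr G)).erase χ₀, m χ = 0 := by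
      have : ((∑ χ ∈ (Finset.univ.erase (trivIrr G)).erase χ₀, m χ : ℕ) : ℤ) = 0 := by linarith
      exact_mod_cast this
    intro χ h1 h2
    exact (Finset.sum_eq_zero_iff.1 hs0) χ
      (Finset.mem_erase.2 ⟨h2, Finset.mem_erase.2 ⟨h1, Finset.mem_univ χ⟩⟩)
  · -- linear constituent
    exfalso
    rw [h] at hd0
    apply hlin χ₀ h0t (by rw [hm0]; exact one_ne_zero)
    have : (charDegree (χ₀ : G → ℂ) : ℤ) = 1 := by rw [hd0]; ring
    exact_mod_cast this


/-- the decomposition when there are at least two classes of nontrivial characters of `C` -/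
theorem decomp_two {ε : ℤ} {W : IrrCharacter G → ℤ} {ctx : D1Ctx p M x C b B (trivIrr C)}
    {a : ctx.Q → IrrCharacter G} (S : ctx.Str ε W a)
    (hself : ∀ t : G, t * x = x * t → t ∈ Subgroup.zpowers x) [Fintype (IrrCharacter G)]
    (m : IrrCharacter G → ℕ)
    (hθ : ∑ χ : IrrCharacter G, m χ * d1m C χ (trivIrr C) = 2)
    (hξ : ∀ ξ : ctx.Bn, ∑ χ : IrrCharacter G, m χ * d1m C χ ξ.1 = 2)
    (hm1 : m (trivIrr G) = 1)
    (hlin : ∀ χ : IrrCharacter G, χ ≠ trivIrr G → m χ ≠ 0 → charDegree (χ : G → ℂ) ≠ 1)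
    (q₁ q₂ : ctx.Q) (hq : q₁ ≠ q₂) : Decomp ctx ε a m := by
  classical
  have hp : p.Prime := Fact.out
  have hp2 := hp.two_le
  have hp0 : (p : ℤ) ≠ 0 := by exact_mod_cast hp.ne_zero
  have hBn : Nonempty ctx.Bn := by
    rw [← Fintype.card_pos_iff, ctx.card_Bn]
    omega
  obtain ⟨ξ₁⟩ := hBn
  have hε0 : ε ≠ 0 := by
    rcases S.hε with h | h <;> rw [h] <;> norm_num
  -- the difference equations
  have hDE : ∀ q, ∑ χ : IrrCharacter G, (m χ : ℤ) * W χ + ε * m (a q) = 0 := by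
    intro q
    obtain ⟨ξ, rfl⟩ := ctx.mkQ_surj q
    have h := diff_equation ctx m hθ hξ ξ
    simp only [S.V_eq ξ, mul_add, Finset.sum_add_distrib, mul_ite, mul_zero, Finset.sum_ite_eq',
      Finset.mem_univ, if_true] at h
    linarith
  -- the trivial character is not exceptional
  have htr : trivIrr G ∉ Set.range a := by
    rintro ⟨q, hq'⟩
    have h1 : ∀ ξ : ctx.Bn, ctx.mkQ ξ = q := by
      intro ξ
      by_contra hne
      have := mult_exc S q ξ
      rw [hq', d1m_triv, d1m_triv, if_neg ξ.2.2, if_pos rfl, if_neg hne] at this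
      norm_num at this
    apply hq
    obtain ⟨ξ, rfl⟩ := ctx.mkQ_surj q₁
    obtain ⟨ξ', rfl⟩ := ctx.mkQ_surj q₂
    rw [h1 ξ, h1 ξ']
  have htrivT : d1m C (trivIrr G) (trivIrr C) = 1 := by rw [d1m_triv, if_pos rfl]
  have hWt : W (trivIrr G) = -1 := by
    have := mult_nonexc S htr ξ₁
    rw [d1m_triv, d1m_triv, if_neg ξ₁.2.2, if_pos rfl] at this
    push_cast at this
    linarith
  set μ : ℕ := m (a q₁) with hμdef
  have hμ : ∀ q, m (a q) = μ := by
    intro q
    have h1 := hDE q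
    have h2 := hDE q₁
    have : ε * (m (a q) : ℤ) = ε * (μ : ℤ) := by linarith
    exact_mod_cast mul_left_cancel₀ hε0 this
  -- if the exceptional characters occur, they do not contain the trivial character of `C`
  have hμT : μ ≠ 0 → (∀ q, d1m C (a q) (trivIrr C) = 0) ∧ ε = 1 := by
    intro hμ0
    have hdegeq : ∀ q, charDegree (a q : G → ℂ) = charDegree (a q₁ : G → ℂ) := by
      intro q
      have h1 := S.exc_degree q
      have h2 := S.exc_degree q₁
      have : ε * (charDegree (a q : G → ℂ) : ℤ) = ε * (charDegree (a q₁ : G → ℂ) : ℤ) := by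
        rw [h1, h2]
      exact_mod_cast mul_left_cancel₀ hε0 this
    have hTeq : ∀ q, d1m C (a q) (trivIrr C) = d1m C (a q₁) (trivIrr C) := by
      intro q
      have h1 := degree_exc S hself q
      have h2 := degree_exc S hself q₁
      rw [hdegeq q] at h1
      have : (p : ℤ) * (d1m C (a q) (trivIrr C) : ℤ) = p * (d1m C (a q₁) (trivIrr C) : ℤ) := by
        linarith
      exact_mod_cast mul_left_cancel₀ hp0 this
    have hT1 : d1m C (a q₁) (trivIrr C) = 0 := by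
      by_contra hne
      have hsub : ({trivIrr G, a q₁, a q₂} : Finset (IrrCharacter G)) ⊆ Finset.univ :=
        Finset.subset_univ _
      have h1 := Finset.sum_le_sum_of_subset (f := fun χ => m χ * d1m C χ (trivIrr C)) hsub
      have hn1 : trivIrr G ∉ ({a q₁, a q₂} : Finset (IrrCharacter G)) := by
        simp only [Finset.mem_insert, Finset.mem_singleton, not_or]
        exact ⟨fun h => htr ⟨q₁, h.symm⟩, fun h => htr ⟨q₂, h.symm⟩⟩
      have hn2 : a q₁ ∉ ({a q₂} : Finset (IrrCharacter G)) := by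
        rw [Finset.mem_singleton]
        exact fun h => hq (S.inj h)
      rw [hθ, Finset.sum_insert hn1, Finset.sum_insert hn2, Finset.sum_singleton, hm1, htrivT,
        hμ q₁, hμ q₂, hTeq q₂] at h1
      have h2 : 1 ≤ μ * d1m C (a q₁) (trivIrr C) :=
        Nat.one_le_iff_ne_zero.2 (Nat.mul_ne_zero hμ0 hne)
      omega
    have hT : ∀ q, d1m C (a q) (trivIrr C) = 0 := fun q => (hTeq q).trans hT1
    refine ⟨hT, ?_⟩
    have h1 := degree_exc S hself q₁
    rw [hT1] at h1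
    have h2 : (0 : ℤ) < charDegree (a q₁ : G → ℂ) := by
      exact_mod_cast (irr_apply_one_eq_charDegree (a q₁).2).2
    rcases S.hε with h | h
    · exact h
    · exfalso
      rw [h] at h1
      have : (0 : ℤ) ≤ ctx.e := by positivity
      push_cast at h1
      linarith
  -- the reduced multiplicities
  set m' : IrrCharacter G → ℕ := fun χ => if χ ∈ Set.range a then 0 else m χ with hm'
  have hm'r : ∀ χ, χ ∉ Set.range a → m' χ = m χ := by
    intro χ h
    rw [hm']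
    show (if χ ∈ Set.range a then 0 else m χ) = m χ
    rw [if_neg h]
  have hm'0 : ∀ χ, χ ∈ Set.range a → m' χ = 0 := by
    intro χ h
    rw [hm']
    show (if χ ∈ Set.range a then 0 else m χ) = 0
    rw [if_pos h]
  have hT' : ∑ χ : IrrCharacter G, m' χ * d1m C χ (trivIrr C) = 2 := by
    rw [← hθ]
    refine Finset.sum_congr rfl fun χ _ => ?_
    by_cases h : χ ∈ Set.range a
    · rw [hm'0 χ h, zero_mul]
      obtain ⟨q, rfl⟩ := h
      by_cases hμ0 : μ = 0
      · rw [hμ q, hμ0, zero_mul]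
      · rw [(hμT hμ0).1 q, mul_zero]
    · rw [hm'r χ h]
  have hεμ : ε * (μ : ℤ) = μ := by
    by_cases hμ0 : μ = 0
    · rw [hμ0]; simp
    · rw [(hμT hμ0).2, one_mul]
  have hw' : ∑ χ : IrrCharacter G, (m' χ : ℤ) * W χ + μ = 0 := by
    have h1 := hDE q₁
    rw [hεμ] at h1
    rw [← h1]
    congr 1
    refine Finset.sum_congr rfl fun χ _ => ?_
    by_cases h : χ ∈ Set.range a
    · obtain ⟨q, rfl⟩ := h
      rw [S.hWa q, mul_zero, mul_zero]
    · rw [hm'r χ h]
  obtain ⟨χ₀, h0t, hm0, hT0, hrest, hsum⟩ := core_arith p hp2 m' (fun χ => d1m C χ (trivIrr C)) W μ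
    (trivIrr G) hT' hw' (by rw [hm'r _ htr, hm1]) htrivT hWt (by
      intro χ hχ
      have hr : χ ∉ Set.range a := fun h => hχ (hm'0 χ h)
      rw [← degree_nonexc S hself hr]
      exact_mod_cast (irr_apply_one_eq_charDegree χ.2).2)
  have h0r : χ₀ ∉ Set.range a := by
    intro h
    rw [hm'0 χ₀ h] at hm0
    exact absurd hm0 (by norm_num)
  have hW3 : ∀ χ, χ ∉ Set.range a → W χ = 0 ∨ W χ = 1 ∨ W χ = -1 := by
    intro χ hr
    by_cases hB : χ ∈ B
    · rcases S.hW χ hB hr with h | h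
      · right; left; exact h
      · right; right; exact h
    · left
      exact S.hW0 χ hB
  have hrest1 : ∀ χ, χ ≠ trivIrr G → χ ≠ χ₀ → m' χ ≠ 0 → W χ = 1 := by
    intro χ h1 h2 h3
    have := (hrest χ h1 h2 h3).2
    have hr : χ ∉ Set.range a := fun h => h3 (hm'0 χ h)
    rcases hW3 χ hr with h | h | h <;> omega
  have hsum' : ∑ χ ∈ (Finset.univ.erase (trivIrr G)).erase χ₀, (m' χ : ℤ) * W χ =
      ((∑ χ ∈ (Finset.univ.erase (trivIrr G)).erase χ₀, m' χ : ℕ) : ℤ) := by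
    rw [Nat.cast_sum]
    refine Finset.sum_congr rfl fun χ hχ => ?_
    rw [Finset.mem_erase, Finset.mem_erase] at hχ
    by_cases h : m' χ = 0
    · rw [h]; simp
    · rw [hrest1 χ hχ.2.1 hχ.1 h, mul_one]
  rw [hsum'] at hsum
  refine ⟨χ₀, h0t, by rw [← hm'r χ₀ h0r]; exact hm0, ?_⟩
  have hd0 := degree_nonexc S hself h0r
  rw [hT0] at hd0
  rcases hW3 χ₀ h0r with h | h | h
  · -- `W χ₀ = 0`
    rw [h] at hsum hd0
    have hdeg0 : charDegree (χ₀ : G → ℂ) = p := by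
      have : (charDegree (χ₀ : G → ℂ) : ℤ) = p := by rw [hd0]; ring
      exact_mod_cast this
    have hs1 : ∑ χ ∈ (Finset.univ.erase (trivIrr G)).erase χ₀, m' χ + μ = 1 := by
      have : ((∑ χ ∈ (Finset.univ.erase (trivIrr G)).erase χ₀, m' χ + μ : ℕ) : ℤ) = 1 := by
        rw [Nat.cast_add]
        linarith
      exact_mod_cast this
    by_cases hμ0 : μ = 0
    · -- case (A)
      right; left
      rw [hμ0, add_zero] at hs1
      obtain ⟨χ₁, hχ₁, hm1', hothers⟩ := exists_of_sum_eq_one _ _ hs1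
      rw [Finset.mem_erase, Finset.mem_erase] at hχ₁
      have hm1ne : m' χ₁ ≠ 0 := by rw [hm1']; exact one_ne_zero
      have h1r : χ₁ ∉ Set.range a := fun h => hm1ne (hm'0 χ₁ h)
      refine ⟨hdeg0, χ₁, hχ₁.2.1, hχ₁.1, by rw [← hm'r χ₁ h1r]; exact hm1', ?_, ?_⟩
      · have hd1 := degree_nonexc S hself h1r
        rw [(hrest χ₁ hχ₁.2.1 hχ₁.1 hm1ne).1, hrest1 χ₁ hχ₁.2.1 hχ₁.1 hm1ne] at hd1
        have : (charDegree (χ₁ : G → ℂ) : ℤ) = ((p - 1 : ℕ) : ℤ) := by
          rw [hd1, Nat.cast_sub hp.one_lt.le]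
          push_cast
          ring
        exact_mod_cast this
      · intro χ h1 h2 h3
        by_cases hr : χ ∈ Set.range a
        · obtain ⟨q, rfl⟩ := hr
          rw [hμ q, hμ0]
        · rw [← hm'r χ hr]
          exact hothers χ
            (Finset.mem_erase.2 ⟨h2, Finset.mem_erase.2 ⟨h1, Finset.mem_univ χ⟩⟩) h3
    · -- case (B)
      right; right
      have hμ1 : μ = 1 := by omega
      have hs0 : ∑ χ ∈ (Finset.univ.erase (trivIrr G)).erase χ₀, m' χ = 0 := by omega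
      refine ⟨hdeg0, h0r, ⟨q₁, q₂, hq⟩, (hμT hμ0).2, fun q => ⟨by rw [hμ q, hμ1], (hμT hμ0).1 q⟩,
        ?_⟩
      intro χ h1 h2 hr
      rw [← hm'r χ hr]
      exact (Finset.sum_eq_zero_iff.1 hs0) χ
        (Finset.mem_erase.2 ⟨h2, Finset.mem_erase.2 ⟨h1, Finset.mem_univ χ⟩⟩)
  · -- rank two
    left
    rw [h] at hsum
    have hs0 : ∑ χ ∈ (Finset.univ.erase (trivIrr G)).erase χ₀, m' χ + μ = 0 := by
      have : ((∑ χ ∈ (Finset.univ.erase (trivIrr G)).erase χ₀, m' χ + μ : ℕ) : ℤ) = 0 := by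
        rw [Nat.cast_add]
        linarith
      exact_mod_cast this
    have hμ0 : μ = 0 := by omega
    have hs0' : ∑ χ ∈ (Finset.univ.erase (trivIrr G)).erase χ₀, m' χ = 0 := by omega
    intro χ h1 h2
    by_cases hr : χ ∈ Set.range a
    · obtain ⟨q, rfl⟩ := hr
      rw [hμ q, hμ0]
    · rw [← hm'r χ hr]
      exact (Finset.sum_eq_zero_iff.1 hs0') χ
        (Finset.mem_erase.2 ⟨h2, Finset.mem_erase.2 ⟨h1, Finset.mem_univ χ⟩⟩)
  · -- linear constituent
    exfalso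
    rw [h] at hd0
    apply hlin χ₀ h0t (by rw [← hm'r χ₀ h0r, hm0]; exact one_ne_zero)
    have : (charDegree (χ₀ : G → ℂ) : ℤ) = 1 := by rw [hd0]; ring
    exact_mod_cast this


/-- the decomposition of the permutation character -/
theorem decomp {ε : ℤ} {W : IrrCharacter G → ℤ} {ctx : D1Ctx p M x C b B (trivIrr C)}
    {a : ctx.Q → IrrCharacter G} (S : ctx.Str ε W a)
    (hself : ∀ t : G, t * x = x * t → t ∈ Subgroup.zpowers x) [Fintype (IrrCharacter G)]
    (m : IrrCharacter G → ℕ)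
    (hθ : ∑ χ : IrrCharacter G, m χ * d1m C χ (trivIrr C) = 2)
    (hξ : ∀ ξ : ctx.Bn, ∑ χ : IrrCharacter G, m χ * d1m C χ ξ.1 = 2)
    (hm1 : m (trivIrr G) = 1)
    (hlin : ∀ χ : IrrCharacter G, χ ≠ trivIrr G → m χ ≠ 0 → charDegree (χ : G → ℂ) ≠ 1) :
    Decomp ctx ε a m := by
  by_cases hQ : ∀ q q' : ctx.Q, q = q'
  · exact decomp_one S hself m hθ hξ hm1 hlin hQ
  · push Not at hQ
    obtain ⟨q₁, q₂, hq⟩ := hQ
    exact decomp_two S hself m hθ hξ hm1 hlin q₁ q₂ hq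

end

end Cfsg.Agent.H7W2p
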