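import Mathlib
import Cfsg.Agent.Lib.Helper7.Brn21
import Cfsg.Agent.Lib.Helper7.W2p2

/-!
# Brauer: the principal block supplies the pattern
-/

set_option autoImplicit false
set_option linter.unusedSectionVars false
set_option linter.unusedVariables false
set_option linter.style.haveILetI false

namespace Cfsg.Agent.H7Brauer

open Subgroup Cfsg Cfsg.Agent.Lib.Helper1 Cfsg.Agent.Lib.Helper4 Cfsg.Agent.Lib.Helper8
open scoped ComplexConjugate

universe u

variable {G : Type u} [Group G] [Fintype G] [Fintype (IrrCharacter G)] {p : ℕ}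
  [hp : Fact p.Prime] {x : G} {M : Ideal AlgInt} {C : Subgroup G} [Fintype C]
  {b : Set (IrrCharacter C)} {B : Set (IrrCharacter G)}

/-- the centralizer is `⟨x⟩` -/
theorem ctx_C_eq (ctx : D1Ctx p M x C b B (trivIrr C))
    (hself : ∀ g : G, g * x = x * g → g ∈ zpowers x) : C = zpowers x := by
  apply le_antisymm
  · intro c hc
    exact hself c ((ctx.hC c).1 hc)
  · intro c hc
    rw [ctx.hC]
    obtain ⟨k, rfl⟩ := mem_zpowers_iff.1 hc
    exact ((Commute.refl x).zpow_left k).eq

/-- the order of the normalizer -/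
theorem ctx_card_nrm (ctx : D1Ctx p M x C b B (trivIrr C))
    (hself : ∀ g : G, g * x = x * g → g ∈ zpowers x) : Nat.card (nrm x) = p * ctx.e := by
  have hcardC : Nat.card C = p := Cfsg.Agent.H7W2p.card_C ctx hself
  have hle : C ≤ mrN x := by
    rw [ctx_C_eq ctx hself]
    exact Subgroup.le_normalizer
  have h1 := Subgroup.relIndex_mul_relIndex (⊥ : Subgroup G) C (mrN x) bot_le hle
  rw [Subgroup.relIndex_bot_left, Subgroup.relIndex_bot_left, hcardC, ← ctx.e_eq_of_triv] at h1
  exact h1.symm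

/-- **the block gives the pattern** -/
theorem pat_of_str {ctx : D1Ctx p M x C b B (trivIrr C)} {ε : ℤ} {W : IrrCharacter G → ℤ}
    {a : ctx.Q → IrrCharacter G} (S : ctx.Str ε W a)
    (hself : ∀ g : G, g * x = x * g → g ∈ zpowers x) :
    Pat x p ctx.e ε W a (fun χ => d1m C χ (trivIrr C)) := by
  classical
  have hcardC : Nat.card C = p := Cfsg.Agent.H7W2p.card_C ctx hself
  have hCeq := ctx_C_eq ctx hself
  refine ⟨S.hε, S.inj, S.hWa, ?_, ?_, ctx.card_Q_mul_e, ?_, ?_, ?_, ?_⟩
  · intro χ
    by_cases hB : χ ∈ B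
    · by_cases hr : χ ∈ Set.range a
      · obtain ⟨q, rfl⟩ := hr
        exact Or.inl (S.hWa q)
      · exact Or.inr (S.hW χ hB hr)
    · exact Or.inl (S.hW0 χ hB)
  · rw [Nat.card_eq_fintype_card, Fintype.card_subtype, ← S.card_filter_nonexc]
    congr 1
    ext χ
    simp only [Finset.mem_filter, Finset.mem_univ, true_and]
    constructor
    · intro hW
      have hB : χ ∈ B := by
        by_contra hB
        exact hW (S.hW0 χ hB)
      refine ⟨hB, ?_⟩
      rintro ⟨q, rfl⟩
      exact hW (S.hWa q)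
    · rintro ⟨hB, hr⟩
      rcases S.hW χ hB hr with h | h <;> rw [h] <;> norm_num
  · intro χ
    have h1 := d1m_spec C χ (trivIrr C)
    show ((d1m C χ (trivIrr C) : ℕ) : ℂ) = _
    rw [← h1]
    unfold classInner
    rw [hcardC]
    congr 1
    simp only [trivIrr_apply, map_one, mul_one]
    exact Fintype.sum_equiv (MulEquiv.subgroupCongr hCeq).toEquiv _ _ (fun c => rfl)
  · intro χ hχ
    exact Cfsg.Agent.H7W2p.degree_nonexc S hself hχ
  · intro q
    exact Cfsg.Agent.H7W2p.degree_exc S hself q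
  · intro g hg q
    rw [S.exc_apply_pRegular q hg]
    ring

/-- **the principal block gives the pattern** -/
theorem exists_pat (hx : orderOf x = p) (hself : ∀ g : G, g * x = x * g → g ∈ zpowers x) :
    ∃ (e : ℕ) (Q : Type u) (_ : Fintype Q) (ε : ℤ) (W : IrrCharacter G → ℤ)
      (a : Q → IrrCharacter G) (m0 : IrrCharacter G → ℕ),
      Nat.card (nrm x) = p * e ∧ Pat x p e ε W a m0 := by
  classical
  obtain ⟨M, hM⟩ := exists_isPModular p
  have instC : Fintype (Subgroup.centralizer ((Subgroup.zpowers x : Subgroup G) : Set G)) :=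
    Fintype.ofFinite _
  have hsq : ¬ p ^ 2 ∣ Nat.card G := not_sq_dvd hx hself
  have ctx := d1_principal_ctx (M := M) hM hx hsq
  obtain ⟨ε, W, a, S⟩ := ctx.exists_str
  exact ⟨ctx.e, ctx.Q, inferInstance, ε, W, a, _, ctx_card_nrm ctx hself, pat_of_str S hself⟩

end Cfsg.Agent.H7Brauer
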