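import Mathlib
import Cfsg.Agent.Lib.Helper3.StrEmb
import Cfsg.Agent.Lib.Helper3.Count

set_option autoImplicit false

/-!
Groups with an abelian subgroup `A` containing an involution such that `C_G(a) = A` for every
`1 ≠ a ∈ A`, `A < N_G(A) < G`.  `M = N_G(A)` is strongly embedded; the two point stabilizer
`D = M ∩ uMu⁻¹` (`u` an involution outside `M`) is inverted by `u` and complements `A` in `M`.
(Generalises `Cfsg.Agent.Lib.Helper3.ElemInv`, where `A` is an elementary abelian Sylow 2-subgroup.)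
-/

namespace Cfsg.Agent.Lib.Helper7.CAGrp

open Cfsg.Agent.Lib.Helper1 Cfsg.Agent.Lib.Helper3 Cfsg.Agent.Lib.Helper3.StrEmb

variable {G : Type*} [Group G] [Finite G]

/-- the standing hypotheses -/
structure Setup (A : Subgroup G) : Prop where
  comm : ∀ x ∈ A, ∀ y ∈ A, x * y = y * x
  cent : ∀ a ∈ A, a ≠ 1 → ∀ g : G, g * a = a * g → g ∈ A
  invol : ∃ t ∈ A, orderOf t = 2
  lt_norm : ∃ g ∈ Subgroup.normalizer (A : Set G), g ∉ A
  not_normal : ∃ g : G, g ∉ Subgroup.normalizer (A : Set G)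

variable {A : Subgroup G}

local notation "NA" => Subgroup.normalizer ((A : Subgroup G) : Set G)

/-- `A` is a TI-subgroup -/
theorem Setup.mem_normalizer_of_conj_mem (h : Setup A) {a g : G} (ha : a ∈ A) (ha1 : a ≠ 1)
    (hg : g⁻¹ * a * g ∈ A) : g ∈ NA := by
  have hb1 : g⁻¹ * a * g ≠ 1 := by
    intro hb
    apply ha1
    calc a = g * (g⁻¹ * a * g) * g⁻¹ := by group
      _ = 1 := by rw [hb]; group
  rw [Subgroup.mem_normalizer_iff]
  intro x
  constructor
  · intro hx
    apply h.cent a ha ha1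
    have hc := h.comm x hx _ hg
    calc g * x * g⁻¹ * a = g * (x * (g⁻¹ * a * g)) * g⁻¹ := by group
      _ = g * ((g⁻¹ * a * g) * x) * g⁻¹ := by rw [hc]
      _ = a * (g * x * g⁻¹) := by group
  · intro hx
    apply h.cent _ hg hb1
    have hc := h.comm _ hx a ha
    calc x * (g⁻¹ * a * g) = g⁻¹ * ((g * x * g⁻¹) * a) * g := by group
      _ = g⁻¹ * (a * (g * x * g⁻¹)) * g := by rw [hc]
      _ = g⁻¹ * a * g * x := by group

/-- involutions of `N_G(A)` lie in `A` -/
theorem Setup.invol_mem (h : Setup A) {u : G} (hu : orderOf u = 2) (huN : u ∈ NA) : u ∈ A := by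
  obtain ⟨t, ht, ht2⟩ := h.invol
  have ht1 : t ≠ 1 := by
    rintro rfl
    rw [orderOf_one] at ht2
    omega
  have huu := invol_mul_self hu
  have hui := invol_inv hu
  have htt := invol_mul_self ht2
  have ht' : u * t * u⁻¹ ∈ A := (Subgroup.mem_normalizer_iff.mp huN t).mp ht
  by_cases hw : t * (u * t * u⁻¹) = 1
  · -- `u` centralizes `t`
    apply h.cent t ht ht1
    have h1 : u * t * u⁻¹ = t := by
      calc u * t * u⁻¹ = (t * t) * (u * t * u⁻¹) := by rw [htt, one_mul]
        _ = t * (t * (u * t * u⁻¹)) := by group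
        _ = t := by rw [hw, mul_one]
    calc u * t = (u * t * u⁻¹) * u := by group
      _ = t * u := by rw [h1]
  · apply h.cent _ (Subgroup.mul_mem _ ht ht') hw
    have hc := h.comm t ht _ ht'
    rw [hui] at hc ⊢
    calc u * (t * (u * t * u)) = u * ((u * t * u) * t) := by rw [hc]
      _ = (u * u) * t * u * t := by group
      _ = t * u * t := by rw [huu, one_mul]
      _ = t * u * t * (u * u) := by rw [huu, mul_one]
      _ = t * (u * t * u) * u := by group

omit [Finite G] in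
theorem Setup.ne_top (h : Setup A) : NA ≠ ⊤ := by
  obtain ⟨g, hg⟩ := h.not_normal
  intro htop
  exact hg (htop ▸ Subgroup.mem_top g)

/-- `N_G(A)` is strongly embedded -/
theorem Setup.stronglyEmbedded (h : Setup A) : Cfsg.IsStronglyEmbedded NA := by
  rw [stronglyEmbedded_iff]
  refine ⟨h.ne_top, ?_, ?_⟩
  · rw [even_card_iff_exists_involution]
    obtain ⟨t, ht, ht2⟩ := h.invol
    exact ⟨t, Subgroup.le_normalizer ht, ht2⟩
  · rintro g ⟨s, hs, hs2, hsg⟩
    have hsA := h.invol_mem hs2 hs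
    have hs1 : s ≠ 1 := by
      rintro rfl
      rw [orderOf_one] at hs2
      omega
    have hsgA := h.invol_mem (by rw [orderOf_conj_inv]; exact hs2) hsg
    exact h.mem_normalizer_of_conj_mem hsA hs1 hsgA

/-- there is an involution outside `N_G(A)` -/
theorem Setup.exists_involution_notMem (h : Setup A) : ∃ u : G, orderOf u = 2 ∧ u ∉ NA := by
  by_contra hcon
  push Not at hcon
  obtain ⟨g, hg⟩ := h.not_normal
  obtain ⟨t, ht, ht2⟩ := h.invol
  have ht1 : t ≠ 1 := by
    rintro rfl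
    rw [orderOf_one] at ht2
    omega
  have h2 : orderOf (g⁻¹ * t * g) = 2 := by rw [orderOf_conj_inv]; exact ht2
  exact hg (h.mem_normalizer_of_conj_mem ht ht1 (h.invol_mem h2 (hcon _ h2)))

/-- `|N_G(A)| = |A| · m`, `m` the number of involutions of `N_G(A)` -/
theorem Setup.card_normalizer (h : Setup A) :
    Nat.card NA = Nat.card A * Nat.card {t : G // orderOf t = 2 ∧ t ∈ NA} := by
  obtain ⟨u, hu, huH⟩ := h.exists_involution_notMem
  obtain ⟨s₀, hs₀A, hs₀⟩ := h.invol
  have hs₀1 : s₀ ≠ 1 := by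
    rintro rfl
    rw [orderOf_one] at hs₀
    omega
  have hs₀H : s₀ ∈ NA := Subgroup.le_normalizer hs₀A
  let f : ↥NA → {t : G // orderOf t = 2 ∧ t ∈ NA} :=
    fun k => ⟨(k : G) * s₀ * (k : G)⁻¹, by rw [orderOf_conj]; exact hs₀,
      Subgroup.mul_mem _ (Subgroup.mul_mem _ k.2 hs₀H) (Subgroup.inv_mem _ k.2)⟩
  rw [card_eq_mul_of_fibres f (Nat.card A), mul_comm]
  rintro ⟨t, ht, htH⟩
  obtain ⟨d, hd, hdc⟩ := exists_conj_mem_inf h.stronglyEmbedded hu huH hs₀ hs₀H ht htH
  have hdH : d ∈ NA := (Subgroup.mem_inf.mp hd).1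
  apply Nat.card_congr
  refine
    { toFun := fun k => ⟨d⁻¹ * (k.1 : G), ?_⟩
      invFun := fun c => ⟨⟨d * c.1, Subgroup.mul_mem _ hdH (Subgroup.le_normalizer c.2)⟩, ?_⟩
      left_inv := fun k => by
        apply Subtype.ext
        apply Subtype.ext
        simp
      right_inv := fun c => by
        apply Subtype.ext
        simp }
  · have hk : (k.1 : G) * s₀ * (k.1 : G)⁻¹ = t := congrArg Subtype.val k.2
    apply h.cent s₀ hs₀A hs₀1
    calc d⁻¹ * (k.1 : G) * s₀ = d⁻¹ * ((k.1 : G) * s₀ * (k.1 : G)⁻¹) * (k.1 : G) := by group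
      _ = d⁻¹ * (d * s₀ * d⁻¹) * (k.1 : G) := by rw [hk, hdc]
      _ = s₀ * (d⁻¹ * (k.1 : G)) := by group
  · apply Subtype.ext
    simp only [f]
    have hc : c.1 * s₀ = s₀ * c.1 := h.comm _ c.2 _ hs₀A
    calc d * c.1 * s₀ * (d * c.1)⁻¹ = d * (c.1 * s₀) * c.1⁻¹ * d⁻¹ := by group
      _ = d * (s₀ * c.1) * c.1⁻¹ * d⁻¹ := by rw [hc]
      _ = d * s₀ * d⁻¹ := by group
      _ = t := hdc

/-- `N_G(A)` contains at least two involutions -/
theorem Setup.two_le_card_involutions (h : Setup A) :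
    2 ≤ Nat.card {t : G // orderOf t = 2 ∧ t ∈ NA} := by
  have h1 := h.card_normalizer
  have hlt : Nat.card A < Nat.card NA := by
    have hle : A ≤ NA := Subgroup.le_normalizer
    have hne : A ≠ NA := by
      obtain ⟨g, hg, hgA⟩ := h.lt_norm
      intro he
      exact hgA (he ▸ hg)
    by_contra hge
    push Not at hge
    exact hne (Subgroup.eq_of_le_of_card_ge hle hge)
  by_contra hcon
  push Not at hcon
  have hpos : 0 < Nat.card A := Nat.card_pos
  have : Nat.card A * Nat.card {t : G // orderOf t = 2 ∧ t ∈ NA} ≤ Nat.card A * 1 :=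
    Nat.mul_le_mul_left _ (by omega)
  omega

end Cfsg.Agent.Lib.Helper7.CAGrp
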