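import Mathlib
import Cfsg.Agent.Lib.Helper7.CAGrp2

set_option autoImplicit false

/-!
`A` acts regularly on the cosets of `M = N_G(A)` other than `M`; `G` is doubly transitive on
`G ⧸ M` and only the identity fixes three cosets.
-/

namespace Cfsg.Agent.Lib.Helper7.CAGrp

open Cfsg.Agent.Lib.Helper1 Cfsg.Agent.Lib.Helper3 Cfsg.Agent.Lib.Helper3.StrEmb

variable {G : Type*} [Group G] [Finite G] {A : Subgroup G}

local notation "NA" => Subgroup.normalizer ((A : Subgroup G) : Set G)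

/-- `D` acts freely on `A` -/
theorem Setup.free_A (h : Setup A) {u : G} (hu : orderOf u = 2) (huH : u ∉ NA) {d t : G}
    (hd : d ∈ twoPt A u) (ht : t ∈ A) (hcomm : d * t = t * d) : d = 1 ∨ t = 1 := by
  by_cases ht1 : t = 1
  · exact Or.inr ht1
  · left
    exact h.twoPt_inf hu huH hd (h.cent t ht ht1 d hcomm)

/-- every element `d t` with `1 ≠ d ∈ D`, `t ∈ A` is `A`-conjugate to `d` -/
theorem Setup.exists_conj_A (h : Setup A) {u : G} (hu : orderOf u = 2) (huH : u ∉ NA) {d t : G}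
    (hd : d ∈ twoPt A u) (hd1 : d ≠ 1) (ht : t ∈ A) : ∃ s ∈ A, s * d * s⁻¹ = d * t := by
  have hdH : d ∈ NA := (Subgroup.mem_inf.mp hd).1
  have hconj : ∀ s ∈ A, d⁻¹ * s * d ∈ A := by
    intro s hs
    have := (Subgroup.mem_normalizer_iff.mp (Subgroup.inv_mem _ hdH) s).mp hs
    simpa using this
  let φ : ↥A → ↥A := fun s =>
    ⟨d⁻¹ * s.1 * d * s.1⁻¹, Subgroup.mul_mem _ (hconj s.1 s.2) (Subgroup.inv_mem _ s.2)⟩
  have hφ : Function.Injective φ := by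
    intro s s' hss
    have e : d⁻¹ * s.1 * d * s.1⁻¹ = d⁻¹ * s'.1 * d * s'.1⁻¹ := congrArg Subtype.val hss
    have hc : d * (s'.1⁻¹ * s.1) = (s'.1⁻¹ * s.1) * d := by
      have e2 : s.1 * d * s.1⁻¹ = s'.1 * d * s'.1⁻¹ := by
        calc s.1 * d * s.1⁻¹ = d * (d⁻¹ * s.1 * d * s.1⁻¹) := by group
          _ = d * (d⁻¹ * s'.1 * d * s'.1⁻¹) := by rw [e]
          _ = s'.1 * d * s'.1⁻¹ := by group
      calc d * (s'.1⁻¹ * s.1) = s'.1⁻¹ * (s'.1 * d * s'.1⁻¹) * s.1 := by group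
        _ = s'.1⁻¹ * (s.1 * d * s.1⁻¹) * s.1 := by rw [e2]
        _ = (s'.1⁻¹ * s.1) * d := by group
    rcases h.free_A hu huH hd (Subgroup.mul_mem _ (Subgroup.inv_mem _ s'.2) s.2) hc with h1 | h1
    · exact (hd1 h1).elim
    · apply Subtype.ext
      calc s.1 = s'.1 * (s'.1⁻¹ * s.1) := by group
        _ = s'.1 := by rw [h1, mul_one]
  obtain ⟨s, hs⟩ := Finite.surjective_of_injective hφ ⟨t, ht⟩
  refine ⟨s.1, s.2, ?_⟩
  have e : d⁻¹ * s.1 * d * s.1⁻¹ = t := congrArg Subtype.val hs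
  calc s.1 * d * s.1⁻¹ = d * (d⁻¹ * s.1 * d * s.1⁻¹) := by group
    _ = d * t := by rw [e]

/-- `C_M(d) ≤ D` for `1 ≠ d ∈ D` -/
theorem Setup.mem_twoPt_of_commute (h : Setup A) {u : G} (hu : orderOf u = 2) (huH : u ∉ NA)
    {d c : G} (hd : d ∈ twoPt A u) (hd1 : d ≠ 1) (hc : c ∈ NA) (hcomm : c * d = d * c) :
    c ∈ twoPt A u := by
  obtain ⟨d₁, hd₁, t₁, ht₁, rfl⟩ := h.exists_mul_of_mem_normalizer hu huH hc
  have h1 : d * t₁ = t₁ * d := by
    have hdd := h.twoPt_comm hu huH hd₁ hd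
    calc d * t₁ = d₁⁻¹ * (d₁ * d) * t₁ := by group
      _ = d₁⁻¹ * (d * d₁) * t₁ := by rw [hdd]
      _ = d₁⁻¹ * (d * (d₁ * t₁)) := by group
      _ = d₁⁻¹ * ((d₁ * t₁) * d) := by rw [hcomm]
      _ = t₁ * d := by group
  rcases h.free_A hu huH hd ht₁ h1 with h2 | h2
  · exact (hd1 h2).elim
  · rw [h2, mul_one]; exact hd₁

/-- every coset other than `M` is `s • uM` for some `s ∈ A` -/
theorem Setup.exists_smul_mk (h : Setup A) {u : G} (hu : orderOf u = 2) (huH : u ∉ NA)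
    {z : G ⧸ NA} (hz : z ≠ ((1 : G) : G ⧸ NA)) : ∃ s ∈ A, s • ((u : G) : G ⧸ NA) = z := by
  obtain ⟨g, rfl⟩ := QuotientGroup.mk_surjective z
  have hgH : g ∉ NA := (mk_ne_one_iff' g).mp hz
  obtain ⟨v, hv2, hvH, hvg⟩ := h.exists_involution_smul hgH
  rw [← hvg]
  -- pick d' ≠ 1 in D_v
  obtain ⟨d', hd', hd'1⟩ := h.exists_ne_one_twoPt hv2 hvH
  have hd'H : d' ∈ NA := (Subgroup.mem_inf.mp hd').1
  obtain ⟨d, hd, t, ht, hdt⟩ := h.exists_mul_of_mem_normalizer hu huH hd'H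
  have hd1 : d ≠ 1 := by
    rintro rfl
    rw [one_mul] at hdt
    apply hd'1
    exact h.twoPt_inf hv2 hvH hd' (hdt ▸ ht)
  obtain ⟨s, hs, hsd⟩ := h.exists_conj_A hu huH hd hd1 ht
  refine ⟨s, hs, ?_⟩
  have hsH : s ∈ NA := Subgroup.le_normalizer hs
  -- D fixes s⁻¹ • vM
  have hfix : ∀ e ∈ twoPt A u, e • (((s⁻¹ * v : G)) : G ⧸ NA) = ((s⁻¹ * v : G)) := by
    intro e he
    have hc : s * e * s⁻¹ ∈ twoPt A v := by
      apply h.mem_twoPt_of_commute hv2 hvH hd' hd'1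
      · exact Subgroup.mul_mem _ (Subgroup.mul_mem _ hsH (Subgroup.mem_inf.mp he).1)
          (Subgroup.inv_mem _ hsH)
      · rw [hdt, ← hsd]
        have hed := h.twoPt_comm hu huH he hd
        calc s * e * s⁻¹ * (s * d * s⁻¹) = s * (e * d) * s⁻¹ := by group
          _ = s * (d * e) * s⁻¹ := by rw [hed]
          _ = s * d * s⁻¹ * (s * e * s⁻¹) := by group
    have h1 : (s * e * s⁻¹) • ((v : G) : G ⧸ NA) = (v : G) := by
      rw [smul_mk_eq_iff, ← mem_map_conj_iff]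
      exact (Subgroup.mem_inf.mp hc).2
    calc e • (((s⁻¹ * v : G)) : G ⧸ NA) = s⁻¹ • ((s * e * s⁻¹) • ((v : G) : G ⧸ NA)) := by
          simp only [MulAction.Quotient.smul_mk, smul_eq_mul]; congr 1; group
      _ = ((s⁻¹ * v : G)) := by rw [h1, MulAction.Quotient.smul_mk, smul_eq_mul]
  rcases (h.fixed_iff hu huH (s⁻¹ * v)).mp hfix with h1 | h1
  · exfalso
    rw [eq_comm, QuotientGroup.eq] at h1
    simp only [inv_one, one_mul] at h1
    apply hvH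
    have : v = s * (s⁻¹ * v) := by group
    rw [this]; exact Subgroup.mul_mem _ hsH h1
  · rw [← h1, MulAction.Quotient.smul_mk, smul_eq_mul]; congr 1; group

/-- an element of `A` fixing a coset other than `M` is trivial -/
theorem Setup.eq_one_of_smul_eq (h : Setup A) {t : G} (ht : t ∈ A) {x : G ⧸ NA}
    (hx : x ≠ ((1 : G) : G ⧸ NA)) (hfix : t • x = x) : t = 1 := by
  obtain ⟨g, rfl⟩ := QuotientGroup.mk_surjective x
  have hgH : g ∉ NA := (mk_ne_one_iff' g).mp hx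
  obtain ⟨v, hv2, hvH, hvg⟩ := h.exists_involution_smul hgH
  rw [← hvg] at hfix
  apply h.twoPt_inf hv2 hvH _ ht
  refine Subgroup.mem_inf.mpr ⟨Subgroup.le_normalizer ht, ?_⟩
  rw [mem_map_conj_iff]
  exact (smul_mk_eq_iff t v).mp hfix

/-- `A` is regular on the cosets other than `M` -/
theorem Setup.existsUnique_smul (h : Setup A) {x y : G ⧸ NA} (hx : x ≠ ((1 : G) : G ⧸ NA))
    (hy : y ≠ ((1 : G) : G ⧸ NA)) : ∃! t : G, t ∈ A ∧ t • x = y := by
  obtain ⟨u, hu, huH⟩ := h.exists_involution_notMem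
  obtain ⟨s, hs, rfl⟩ := h.exists_smul_mk hu huH hx
  obtain ⟨s', hs', rfl⟩ := h.exists_smul_mk hu huH hy
  refine ⟨s' * s⁻¹, ⟨Subgroup.mul_mem _ hs' (Subgroup.inv_mem _ hs), ?_⟩, ?_⟩
  · rw [← mul_smul]; congr 1; group
  · rintro t ⟨ht, hteq⟩
    have h0 : (s'⁻¹ * t * s) • ((u : G) : G ⧸ NA) = ((u : G) : G ⧸ NA) := by
      rw [mul_smul, mul_smul, hteq, ← mul_smul, inv_mul_cancel, one_smul]
    have h1 := h.eq_one_of_smul_eq
      (Subgroup.mul_mem _ (Subgroup.mul_mem _ (Subgroup.inv_mem _ hs') ht) hs)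
      ((mk_ne_one_iff' u).mpr huH) h0
    calc t = s' * (s'⁻¹ * t * s) * s⁻¹ := by group
      _ = s' * s⁻¹ := by rw [h1, mul_one]

/-- any two distinct cosets can be moved to `M`, `uM` -/
theorem Setup.exists_smul_pair (h : Setup A) {u : G} (hu : orderOf u = 2) (huH : u ∉ NA)
    {x₁ x₂ : G ⧸ NA} (h12 : x₁ ≠ x₂) :
    ∃ g : G, g • x₁ = ((1 : G) : G ⧸ NA) ∧ g • x₂ = ((u : G) : G ⧸ NA) := by
  obtain ⟨g₁, rfl⟩ := QuotientGroup.mk_surjective x₁
  have hne : g₁⁻¹ • x₂ ≠ ((1 : G) : G ⧸ NA) := by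
    intro h1
    apply h12
    have : x₂ = g₁ • (g₁⁻¹ • x₂) := by rw [smul_inv_smul]
    rw [this, h1, MulAction.Quotient.smul_mk, smul_eq_mul, mul_one]
  obtain ⟨s, hs, hsx⟩ := h.exists_smul_mk hu huH hne
  refine ⟨s⁻¹ * g₁⁻¹, ?_, ?_⟩
  · rw [MulAction.Quotient.smul_mk, smul_eq_mul, QuotientGroup.eq]
    have : (s⁻¹ * g₁⁻¹ * g₁)⁻¹ * 1 = s := by group
    rw [this]; exact Subgroup.le_normalizer hs
  · rw [mul_smul, ← hsx, inv_smul_smul]

/-- an element fixing three cosets is trivial -/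
theorem Setup.eq_one_of_fix_three (h : Setup A) (g : G) (x₁ x₂ x₃ : G ⧸ NA)
    (hx12 : x₁ ≠ x₂) (hx13 : x₁ ≠ x₃) (hx23 : x₂ ≠ x₃) (hg1 : g • x₁ = x₁) (hg2 : g • x₂ = x₂)
    (hg3 : g • x₃ = x₃) : g = 1 := by
  obtain ⟨u, hu, huH⟩ := h.exists_involution_notMem
  obtain ⟨a, ha1, ha2⟩ := h.exists_smul_pair hu huH hx12
  have hax1 : a • x₃ ≠ ((1 : G) : G ⧸ NA) := by
    rw [← ha1]; intro hh; exact hx13 (smul_left_cancel a hh).symm
  have haxu : a • x₃ ≠ ((u : G) : G ⧸ NA) := by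
    rw [← ha2]; intro hh; exact hx23 (smul_left_cancel a hh).symm
  have key : ∀ x : G ⧸ NA, g • x = x → (a * g * a⁻¹) • (a • x) = a • x := by
    intro x hx
    rw [← mul_smul]
    have : a * g * a⁻¹ * a = a * g := by group
    rw [this, mul_smul, hx]
  have hg'1 := key x₁ hg1
  have hg'u := key x₂ hg2
  have hg'3 := key x₃ hg3
  rw [ha1] at hg'1
  rw [ha2] at hg'u
  obtain ⟨g', hg'⟩ : ∃ g' : G, g' = a * g * a⁻¹ := ⟨_, rfl⟩
  rw [← hg'] at hg'1 hg'u hg'3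
  have hg'H : g' ∈ NA := (smul_mk_one_eq_iff g').mp hg'1
  have hg'D : g' ∈ twoPt A u :=
    Subgroup.mem_inf.mpr ⟨hg'H, (mem_map_conj_iff _ u g').mpr ((smul_mk_eq_iff g' u).mp hg'u)⟩
  obtain ⟨t, ht, htx⟩ := h.exists_smul_mk hu huH hax1
  have ht1 : t ≠ 1 := by
    rintro rfl
    rw [one_smul] at htx
    exact haxu htx.symm
  have hconj : g' * t * g'⁻¹ ∈ A := (Subgroup.mem_normalizer_iff.mp hg'H t).mp ht
  have h0 : (g' * t * g'⁻¹) • ((u : G) : G ⧸ NA) = t • ((u : G) : G ⧸ NA) := by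
    have hinv : g'⁻¹ • ((u : G) : G ⧸ NA) = ((u : G) : G ⧸ NA) := by
      rw [inv_smul_eq_iff, hg'u]
    rw [mul_smul, mul_smul, hinv, htx, hg'3]
  have h1 : t⁻¹ * (g' * t * g'⁻¹) = 1 :=
    h.eq_one_of_smul_eq (Subgroup.mul_mem _ (Subgroup.inv_mem _ ht) hconj)
      ((mk_ne_one_iff' u).mpr huH) (by rw [mul_smul, h0, inv_smul_smul])
  have hcomm : g' * t = t * g' := by
    have h2 : g' * t * g'⁻¹ = t := by
      calc g' * t * g'⁻¹ = t * (t⁻¹ * (g' * t * g'⁻¹)) := by group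
        _ = t := by rw [h1, mul_one]
    calc g' * t = (g' * t * g'⁻¹) * g' := by group
      _ = t * g' := by rw [h2]
  rcases h.free_A hu huH hg'D ht hcomm with h2 | h2
  · have h3 : g = a⁻¹ * g' * a := by rw [hg']; group
    rw [h3, h2]; group
  · exact (ht1 h2).elim

/-- the number of cosets of `M = N_G(A)` -/
theorem Setup.card_quotient (h : Setup A) : Nat.card (G ⧸ NA) = Nat.card A + 1 := by
  classical
  haveI : Fintype (G ⧸ NA) := Fintype.ofFinite _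
  obtain ⟨u, hu, huH⟩ := h.exists_involution_notMem
  have hune : ((u : G) : G ⧸ NA) ≠ ((1 : G) : G ⧸ NA) := (mk_ne_one_iff' u).mpr huH
  have hne : ∀ t : A, (t : G) • ((u : G) : G ⧸ NA) ≠ ((1 : G) : G ⧸ NA) := by
    intro t hh
    apply hune
    have h1 : ((t : G))⁻¹ • ((1 : G) : G ⧸ NA) = ((1 : G) : G ⧸ NA) :=
      (smul_mk_one_eq_iff _).mpr (Subgroup.le_normalizer (Subgroup.inv_mem _ t.2))
    rw [← h1, ← hh, inv_smul_smul]
  have hbij : Function.Bijective (fun t : A =>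
      (⟨(t : G) • ((u : G) : G ⧸ NA), hne t⟩ : {x : G ⧸ NA // x ≠ ((1 : G) : G ⧸ NA)})) := by
    constructor
    · intro t t' htt
      have h1 : (t : G) • ((u : G) : G ⧸ NA) = (t' : G) • ((u : G) : G ⧸ NA) :=
        congrArg Subtype.val htt
      obtain ⟨s, -, hs⟩ := h.existsUnique_smul hune (hne t')
      have e1 := hs (t : G) ⟨t.2, h1⟩
      have e2 := hs (t' : G) ⟨t'.2, rfl⟩
      exact Subtype.ext (e1.trans e2.symm)
    · rintro ⟨x, hx⟩
      obtain ⟨s, ⟨hs, hsx⟩, -⟩ := h.existsUnique_smul hune hx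
      exact ⟨⟨s, hs⟩, Subtype.ext hsx⟩
  have h1 := Nat.card_congr (Equiv.ofBijective _ hbij)
  rw [h1, Nat.card_eq_fintype_card, Nat.card_eq_fintype_card, Fintype.card_subtype_compl,
    Fintype.card_subtype_eq]
  have : 1 ≤ Fintype.card (G ⧸ NA) := Fintype.card_pos_iff.mpr ⟨((1 : G) : G ⧸ NA)⟩
  omega

end Cfsg.Agent.Lib.Helper7.CAGrp
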