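import Mathlib
import Cfsg.Agent.Lib.Helper7.CAGrp3
import Cfsg.Agent.S0885
import Cfsg.Agent.S0738

set_option autoImplicit false
set_option linter.style.haveILetI false

/-!
`G` (simple) is a Zassenhaus group on the cosets of `M = N_G(A)`; by the results on Zassenhaus
groups with two point stabilizers of odd order, `A` is an elementary abelian 2-group.
-/

namespace Cfsg.Agent.Lib.Helper7.CAGrp

open Cfsg.Agent.Lib.Helper1 Cfsg.Agent.Lib.Helper3 Cfsg.Agent.Lib.Helper3.StrEmb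

variable {G : Type*} [Group G] [Finite G] {A : Subgroup G}

local notation "NA" => Subgroup.normalizer ((A : Subgroup G) : Set G)

/-- a third coset -/
theorem Setup.exists_third (h : Setup A) {u : G} (hu : orderOf u = 2) (huH : u ∉ NA) :
    ∃ x : G ⧸ NA, ((1 : G) : G ⧸ NA) ≠ ((u : G) : G ⧸ NA) ∧ ((1 : G) : G ⧸ NA) ≠ x ∧
      ((u : G) : G ⧸ NA) ≠ x := by
  obtain ⟨t, ht, ht2⟩ := h.invol
  have ht1 : t ≠ 1 := by
    rintro rfl
    rw [orderOf_one] at ht2
    omega
  have hune : ((u : G) : G ⧸ NA) ≠ ((1 : G) : G ⧸ NA) := (mk_ne_one_iff' u).mpr huH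
  refine ⟨t • ((u : G) : G ⧸ NA), hune.symm, ?_, ?_⟩
  · intro hh
    apply hune
    have h1 : t⁻¹ • ((1 : G) : G ⧸ NA) = ((1 : G) : G ⧸ NA) :=
      (smul_mk_one_eq_iff _).mpr (Subgroup.le_normalizer (Subgroup.inv_mem _ ht))
    rw [← h1, hh, inv_smul_smul]
  · intro hh
    exact ht1 (h.eq_one_of_smul_eq ht hune hh.symm)

/-- `G` is a Zassenhaus group on `G ⧸ N_G(A)` -/
theorem Setup.isZassenhaus (h : Setup A) [IsSimpleGroup G] :
    Cfsg.IsZassenhausGroup G (G ⧸ NA) := by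
  obtain ⟨u, hu, huH⟩ := h.exists_involution_notMem
  obtain ⟨x₃, h12, h13, h23⟩ := h.exists_third hu huH
  refine ⟨⟨?_⟩, ?_, ?_, ?_, ?_⟩
  · intro g₁ g₂ hh
    have hfix : ∀ x : G ⧸ NA, (g₂⁻¹ * g₁) • x = x := by
      intro x
      rw [mul_smul, hh x, inv_smul_smul]
    have := h.eq_one_of_fix_three (g₂⁻¹ * g₁) _ _ _ h12 h13 h23 (hfix _) (hfix _) (hfix _)
    calc g₁ = g₂ * (g₂⁻¹ * g₁) := by group
      _ = g₂ := by rw [this, mul_one]
  · rw [MulAction.isMultiplyPretransitive_iff]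
    intro x y
    have hx : x 0 ≠ x 1 := fun hh => by
      have := x.injective hh
      exact absurd this (by decide)
    have hy : y 0 ≠ y 1 := fun hh => by
      have := y.injective hh
      exact absurd this (by decide)
    obtain ⟨a, ha1, ha2⟩ := h.exists_smul_pair hu huH hx
    obtain ⟨b, hb1, hb2⟩ := h.exists_smul_pair hu huH hy
    refine ⟨b⁻¹ * a, ?_⟩
    ext i
    fin_cases i
    · show (b⁻¹ * a) • x 0 = y 0
      rw [mul_smul, ha1, ← hb1, inv_smul_smul]
    · show (b⁻¹ * a) • x 1 = y 1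
      rw [mul_smul, ha2, ← hb2, inv_smul_smul]
  · intro g a b c hab hbc hac hga hgb hgc
    exact h.eq_one_of_fix_three g a b c hab hac hbc hga hgb hgc
  · obtain ⟨d, hd, hd1⟩ := h.exists_ne_one_twoPt hu huH
    refine ⟨d, hd1, ((1 : G) : G ⧸ NA), ((u : G) : G ⧸ NA), h12, ?_, ?_⟩
    · exact (h.fixed_iff hu huH 1).mpr (Or.inl rfl) d hd
    · exact (h.fixed_iff hu huH u).mpr (Or.inr rfl) d hd
  · intro N hN htr
    rcases hN.eq_bot_or_eq_top with hbot | htop
    · exfalso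
      obtain ⟨n, hn⟩ := htr.exists_smul_eq ((1 : G) : G ⧸ NA) ((u : G) : G ⧸ NA)
      have hn1 : (n : G) = 1 := by
        have : (n : G) ∈ (⊥ : Subgroup G) := hbot ▸ n.2
        exact Subgroup.mem_bot.mp this
      have hn' : (n : G) • ((1 : G) : G ⧸ NA) = ((u : G) : G ⧸ NA) := hn
      rw [hn1, one_smul] at hn'
      exact h12 hn'
    · obtain ⟨t, ht, ht2⟩ := h.invol
      have ht1 : t ≠ 1 := by
        rintro rfl
        rw [orderOf_one] at ht2
        omega
      refine ⟨((1 : G) : G ⧸ NA), ?_⟩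
      intro hstab
      have htN : t ∈ N := htop ▸ Subgroup.mem_top t
      have hmem : (⟨t, htN⟩ : N) ∈ MulAction.stabilizer N ((1 : G) : G ⧸ NA) := by
        rw [MulAction.mem_stabilizer_iff]
        show t • ((1 : G) : G ⧸ NA) = ((1 : G) : G ⧸ NA)
        exact (smul_mk_one_eq_iff t).mpr (Subgroup.le_normalizer ht)
      have hmem' : (⟨t, htN⟩ : N) ∈ (⊥ : Subgroup N) := by
        rw [← hstab]; exact hmem
      rw [Subgroup.mem_bot] at hmem'
      exact ht1 (congrArg Subtype.val hmem')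

/-- `A` has exponent 2 -/
theorem Setup.sq_eq_one (h : Setup A) [IsSimpleGroup G] : ∀ a ∈ A, a ^ 2 = 1 := by
  classical
  haveI : Fintype (G ⧸ NA) := Fintype.ofFinite _
  obtain ⟨u, hu, huH⟩ := h.exists_involution_notMem
  have hZ := h.isZassenhaus
  obtain ⟨-, hab, -, -⟩ := h.exists_third hu huH
  have hstab_a : MulAction.stabilizer G (((1 : G) : G ⧸ NA)) = NA := by
    ext g
    rw [MulAction.mem_stabilizer_iff, smul_mk_one_eq_iff]
  have hstab : MulAction.stabilizer G (((1 : G) : G ⧸ NA)) ⊓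
      MulAction.stabilizer G (((u : G) : G ⧸ NA)) = twoPt A u := by
    ext g
    rw [Subgroup.mem_inf, Subgroup.mem_inf, MulAction.mem_stabilizer_iff,
      MulAction.mem_stabilizer_iff, smul_mk_one_eq_iff, smul_mk_eq_iff, mem_map_conj_iff]
  have hcardΩ : Fintype.card (G ⧸ NA) = Nat.card A + 1 := by
    rw [← Nat.card_eq_fintype_card, h.card_quotient]
  have he : Nat.card ↥(MulAction.stabilizer G (((1 : G) : G ⧸ NA)) ⊓
      MulAction.stabilizer G (((u : G) : G ⧸ NA))) = Nat.card (twoPt A u) := by rw [hstab]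
  have hodd : Odd (Nat.card (twoPt A u)) := h.odd_card_twoPt huH
  have hHa : A ≤ MulAction.stabilizer G (((1 : G) : G ⧸ NA)) := by
    rw [hstab_a]; exact Subgroup.le_normalizer
  have hHfix : ∀ s ∈ A, s ≠ 1 → ∀ c : G ⧸ NA, s • c = c → c = ((1 : G) : G ⧸ NA) := by
    intro s hs hs1 c hc
    by_contra hne
    exact hs1 (h.eq_one_of_smul_eq hs hne hc)
  have h885 := Cfsg.Agent.S0885.result hZ hab (Nat.card A) (Nat.card (twoPt A u)) hcardΩ he hodd A
    hHa hcardΩ.symm hHfix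
  rcases h885 with h1 | ⟨-, ⟨x, y, hxy⟩, -⟩
  · have hd : Fintype.card (G ⧸ NA) - 2 ≤ 2 * Nat.card ↥(MulAction.stabilizer G
        (((1 : G) : G ⧸ NA)) ⊓ MulAction.stabilizer G (((u : G) : G ⧸ NA))) := by
      rw [hcardΩ, he]; omega
    have hFn : (A.subgroupOf (MulAction.stabilizer G (((1 : G) : G ⧸ NA)))).Normal := by
      rw [hstab_a]; exact Subgroup.normal_in_normalizer
    have hreg : ∀ y z : G ⧸ NA, y ≠ ((1 : G) : G ⧸ NA) → z ≠ ((1 : G) : G ⧸ NA) →
        ∃! s : A, (s : G) • y = z := by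
      intro y z hy hz
      obtain ⟨t, ⟨ht, hty⟩, huniq⟩ := h.existsUnique_smul hy hz
      exact ⟨⟨t, ht⟩, hty, fun s hs => Subtype.ext (huniq s.1 ⟨s.2, hs⟩)⟩
    obtain ⟨-, p, f, hp, hpow, -⟩ := Cfsg.Agent.S0738.result hZ hab hd A hHa hFn hreg
    obtain ⟨t, ht, ht2⟩ := h.invol
    have h2p : 2 ∣ p := by
      rw [← ht2]
      exact orderOf_dvd_of_pow_eq_one (hpow t ht)
    have hp2 : p = 2 := ((Nat.prime_dvd_prime_iff_eq Nat.prime_two hp).mp h2p).symm
    intro a ha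
    rw [← hp2]; exact hpow a ha
  · exfalso
    apply hxy
    exact Subtype.ext (h.comm _ x.2 _ y.2)

end Cfsg.Agent.Lib.Helper7.CAGrp
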