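import Mathlib
import Cfsg.Agent.Lib.Helper7.CAGrp4
import Cfsg.Agent.S0182

set_option autoImplicit false
set_option linter.style.haveILetI false

/-!
A finite non-abelian simple group in which commuting is transitive on non-identity elements:
it has involutions, the centralizer `A` of an involution satisfies the standing hypotheses
`Setup A`, hence is an elementary abelian Sylow 2-subgroup, neither cyclic nor normal.
-/

namespace Cfsg.Agent.Lib.Helper7.CAGrp

open Cfsg.Agent.Lib.Helper1 Cfsg.Agent.Lib.Helper3 Cfsg.Agent.Lib.Helper3.StrEmb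

variable {G : Type*} [Group G]

/-- commuting is transitive on non-identity elements -/
def CT (G : Type*) [Group G] : Prop :=
  ∀ a b c : G, a ≠ 1 → b ≠ 1 → c ≠ 1 → Commute a b → Commute b c → Commute a c

theorem CT.comm_of_comm (hCT : CT G) {t x y : G} (ht : t ≠ 1) (hx : x * t = t * x)
    (hy : y * t = t * y) : x * y = y * x := by
  by_cases hx1 : x = 1
  · subst hx1; simp
  by_cases hy1 : y = 1
  · subst hy1; simp
  exact (hCT x t y hx1 ht hy1 hx hy.symm).eq

theorem CT.isMulCommutative_of_central (hCT : CT G) {t : G} (ht : t ≠ 1)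
    (hc : ∀ g : G, g * t = t * g) : IsMulCommutative G :=
  ⟨⟨fun a b => hCT.comm_of_comm ht (hc a) (hc b)⟩⟩

/-- TI property from the two centralizer conditions only -/
theorem mem_normalizer_of_conj_mem' {A : Subgroup G} (comm : ∀ x ∈ A, ∀ y ∈ A, x * y = y * x)
    (cent : ∀ a ∈ A, a ≠ 1 → ∀ g : G, g * a = a * g → g ∈ A) {a g : G} (ha : a ∈ A)
    (ha1 : a ≠ 1) (hg : g⁻¹ * a * g ∈ A) : g ∈ Subgroup.normalizer (A : Set G) := by
  have hb1 : g⁻¹ * a * g ≠ 1 := by
    intro hb
    apply ha1
    calc a = g * (g⁻¹ * a * g) * g⁻¹ := by group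
      _ = 1 := by rw [hb]; group
  rw [Subgroup.mem_normalizer_iff]
  intro x
  constructor
  · intro hx
    apply cent a ha ha1
    have hc := comm x hx _ hg
    calc g * x * g⁻¹ * a = g * (x * (g⁻¹ * a * g)) * g⁻¹ := by group
      _ = g * ((g⁻¹ * a * g) * x) * g⁻¹ := by rw [hc]
      _ = a * (g * x * g⁻¹) := by group
  · intro hx
    apply cent _ hg hb1
    have hc := comm _ hx a ha
    calc x * (g⁻¹ * a * g) = g⁻¹ * ((g * x * g⁻¹) * a) * g := by group
      _ = g⁻¹ * (a * (g * x * g⁻¹)) * g := by rw [hc]
      _ = g⁻¹ * a * g * x := by group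

variable [Finite G]

/-- existence of an involution (through the odd order CA theorem) -/
theorem CT.exists_involution (hCT : CT G) [IsSimpleGroup G] (hG : ¬ IsMulCommutative G) :
    ∃ t : G, orderOf t = 2 := by
  by_contra hcon
  push Not at hcon
  apply hG
  have hodd : Odd (Nat.card G) := by
    rw [← Nat.not_even_iff_odd]
    intro heven
    haveI : Fact (Nat.Prime 2) := ⟨Nat.prime_two⟩
    obtain ⟨t, ht⟩ := exists_prime_orderOf_dvd_card' (G := G) 2 heven.two_dvd
    exact hcon t ht
  have hsolv : Group.IsSolvable G := by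
    apply Cfsg.Agent.S0182.result hodd
    intro x hx a ha b hb
    exact hCT.comm_of_comm hx (Subgroup.mem_centralizer_singleton_iff.mp ha)
      (Subgroup.mem_centralizer_singleton_iff.mp hb)
  exact ⟨⟨IsSimpleGroup.comm_iff_isSolvable.mpr hsolv⟩⟩

/-- the centralizer of an involution satisfies the standing hypotheses -/
theorem CT.setup (hCT : CT G) [IsSimpleGroup G] (hG : ¬ IsMulCommutative G) {t : G}
    (ht : orderOf t = 2) : Setup (Subgroup.centralizer ({t} : Set G)) := by
  haveI : Fact (Nat.Prime 2) := ⟨Nat.prime_two⟩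
  have ht1 : t ≠ 1 := by
    rintro rfl
    rw [orderOf_one] at ht
    omega
  have hcomm : ∀ x ∈ Subgroup.centralizer ({t} : Set G), ∀ y ∈ Subgroup.centralizer ({t} : Set G),
      x * y = y * x := by
    intro x hx y hy
    exact hCT.comm_of_comm ht1 (Subgroup.mem_centralizer_singleton_iff.mp hx)
      (Subgroup.mem_centralizer_singleton_iff.mp hy)
  have hcent : ∀ a ∈ Subgroup.centralizer ({t} : Set G), a ≠ 1 → ∀ g : G, g * a = a * g →
      g ∈ Subgroup.centralizer ({t} : Set G) := by
    intro a ha ha1 g hg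
    rw [Subgroup.mem_centralizer_singleton_iff]
    by_cases hg1 : g = 1
    · subst hg1; simp
    exact (hCT g a t hg1 ha1 ht1 hg (Subgroup.mem_centralizer_singleton_iff.mp ha)).eq
  have htA : t ∈ Subgroup.centralizer ({t} : Set G) := by
    rw [Subgroup.mem_centralizer_singleton_iff]
  -- `A = ⊤` is impossible
  have hnetop : Subgroup.centralizer ({t} : Set G) ≠ ⊤ := by
    intro htop
    apply hG
    apply hCT.isMulCommutative_of_central ht1
    intro g
    have : g ∈ Subgroup.centralizer ({t} : Set G) := htop ▸ Subgroup.mem_top g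
    exact Subgroup.mem_centralizer_singleton_iff.mp this
  have hnn : ∃ g : G, g ∉ Subgroup.normalizer ((Subgroup.centralizer ({t} : Set G) : Subgroup G) :
      Set G) := by
    by_contra hall
    push Not at hall
    have hnorm : (Subgroup.centralizer ({t} : Set G)).Normal := by
      rw [← Subgroup.normalizer_eq_top_iff, eq_top_iff]
      intro g _
      exact hall g
    rcases hnorm.eq_bot_or_eq_top with hbot | htop
    · have : t ∈ (⊥ : Subgroup G) := hbot ▸ htA
      exact ht1 (Subgroup.mem_bot.mp this)
    · exact hnetop htop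
  refine ⟨hcomm, hcent, ⟨t, htA, ht⟩, ?_, hnn⟩
  -- `A < N_G(A)` by Burnside's transfer theorem
  by_contra hN
  push Not at hN
  have h2grp : IsPGroup 2 (Subgroup.zpowers t) := by
    apply IsPGroup.of_card (n := 1)
    rw [Nat.card_zpowers, ht, pow_one]
  obtain ⟨P, hP⟩ := h2grp.exists_le_sylow
  have htP : t ∈ (P : Subgroup G) := hP (Subgroup.mem_zpowers t)
  have hPnt : Nontrivial (P : Subgroup G) := ⟨⟨⟨t, htP⟩, 1, fun hh => ht1 (congrArg Subtype.val hh)⟩⟩
  have hcentnt : Nontrivial (Subgroup.center (P : Subgroup G)) := P.2.center_nontrivial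
  obtain ⟨z, hz1⟩ := exists_ne (1 : Subgroup.center (P : Subgroup G))
  have hz1' : ((z : (P : Subgroup G)) : G) ≠ 1 := by
    intro hh
    apply hz1
    apply Subtype.ext
    apply Subtype.ext
    exact hh
  have hzcomm : ∀ x ∈ (P : Subgroup G), x * ((z : (P : Subgroup G)) : G) =
      ((z : (P : Subgroup G)) : G) * x := by
    intro x hx
    have := (Subgroup.mem_center_iff.mp z.2) ⟨x, hx⟩
    exact (congrArg Subtype.val this)
  have hzA : ((z : (P : Subgroup G)) : G) ∈ Subgroup.centralizer ({t} : Set G) := by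
    rw [Subgroup.mem_centralizer_singleton_iff]
    exact (hzcomm t htP).symm
  have hPA : (P : Subgroup G) ≤ Subgroup.centralizer ({t} : Set G) := by
    intro x hx
    exact hcent _ hzA hz1' x (hzcomm x hx)
  have hNP : Subgroup.normalizer ((P : Subgroup G) : Set G) ≤
      Subgroup.centralizer ({t} : Set G) := by
    intro g hg
    apply hN
    have hgz : g * ((z : (P : Subgroup G)) : G) * g⁻¹ ∈ (P : Subgroup G) :=
      (Subgroup.mem_normalizer_iff.mp hg _).mp (z : (P : Subgroup G)).2
    have hne : g * ((z : (P : Subgroup G)) : G) * g⁻¹ ≠ 1 := by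
      intro hh
      apply hz1'
      calc ((z : (P : Subgroup G)) : G) = g⁻¹ * (g * ((z : (P : Subgroup G)) : G) * g⁻¹) * g := by
            group
        _ = 1 := by rw [hh]; group
    apply mem_normalizer_of_conj_mem' hcomm hcent (hPA hgz) hne
    have : g⁻¹ * (g * ((z : (P : Subgroup G)) : G) * g⁻¹) * g = ((z : (P : Subgroup G)) : G) := by
      group
    rw [this]; exact hzA
  have hcen : Subgroup.normalizer ((P : Subgroup G) : Set G) ≤
      Subgroup.centralizer ((P : Subgroup G) : Set G) := by
    intro g hg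
    rw [Subgroup.mem_centralizer_iff]
    intro x hx
    exact hcomm x (hPA hx) g (hNP hg)
  have hcomp := MonoidHom.ker_transferSylow_isComplement' P hcen
  rcases (MonoidHom.normal_ker (MonoidHom.transferSylow P hcen)).eq_bot_or_eq_top with hbot | htop
  · rw [hbot, Subgroup.isComplement'_bot_left] at hcomp
    apply hnetop
    rw [eq_top_iff, ← hcomp]
    exact hPA
  · rw [htop, Subgroup.isComplement'_top_left] at hcomp
    have : t ∈ (⊥ : Subgroup G) := hcomp ▸ htP
    exact ht1 (Subgroup.mem_bot.mp this)

/-- the centralizer of an involution is an elementary abelian 2-group -/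
theorem CT.centralizer_elementary (hCT : CT G) [IsSimpleGroup G] (hG : ¬ IsMulCommutative G)
    (t : G) (ht : orderOf t = 2) :
    IsMulCommutative (Subgroup.centralizer ({t} : Set G)) ∧
      ∀ c ∈ Subgroup.centralizer ({t} : Set G), c ^ 2 = 1 := by
  have h := hCT.setup hG ht
  exact ⟨⟨⟨fun a b => Subtype.ext (h.comm _ a.2 _ b.2)⟩⟩, h.sq_eq_one⟩

/-- a Sylow 2-subgroup, neither cyclic nor normal -/
theorem CT.exists_sylow (hCT : CT G) [IsSimpleGroup G] (hG : ¬ IsMulCommutative G) :
    ∃ T : Sylow 2 G, ¬ IsCyclic (T : Subgroup G) ∧ ¬ (T : Subgroup G).Normal := by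
  haveI : Fact (Nat.Prime 2) := ⟨Nat.prime_two⟩
  obtain ⟨t, ht⟩ := hCT.exists_involution hG
  have ht1 : t ≠ 1 := by
    rintro rfl
    rw [orderOf_one] at ht
    omega
  have h := hCT.setup hG ht
  have hsq := h.sq_eq_one
  have h2grp : IsPGroup 2 (Subgroup.centralizer ({t} : Set G)) := by
    intro c
    refine ⟨1, ?_⟩
    rw [pow_one]
    apply Subtype.ext
    simp only [Subgroup.coe_pow, Subgroup.coe_one]
    exact hsq c.1 c.2
  obtain ⟨P, hP⟩ := h2grp.exists_le_sylow
  have htA : t ∈ Subgroup.centralizer ({t} : Set G) := by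
    rw [Subgroup.mem_centralizer_singleton_iff]
  have htP : t ∈ (P : Subgroup G) := hP htA
  have hPnt : Nontrivial (P : Subgroup G) := ⟨⟨⟨t, htP⟩, 1, fun hh => ht1 (congrArg Subtype.val hh)⟩⟩
  have hcentnt : Nontrivial (Subgroup.center (P : Subgroup G)) := P.2.center_nontrivial
  obtain ⟨z, hz1⟩ := exists_ne (1 : Subgroup.center (P : Subgroup G))
  have hz1' : ((z : (P : Subgroup G)) : G) ≠ 1 := by
    intro hh
    apply hz1
    apply Subtype.ext
    apply Subtype.ext
    exact hh
  have hzcomm : ∀ x ∈ (P : Subgroup G), x * ((z : (P : Subgroup G)) : G) =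
      ((z : (P : Subgroup G)) : G) * x := by
    intro x hx
    have := (Subgroup.mem_center_iff.mp z.2) ⟨x, hx⟩
    exact (congrArg Subtype.val this)
  have hzA : ((z : (P : Subgroup G)) : G) ∈ Subgroup.centralizer ({t} : Set G) := by
    rw [Subgroup.mem_centralizer_singleton_iff]
    exact (hzcomm t htP).symm
  have hPA : (P : Subgroup G) ≤ Subgroup.centralizer ({t} : Set G) := by
    intro x hx
    exact h.cent _ hzA hz1' x (hzcomm x hx)
  have hPeq : (P : Subgroup G) = Subgroup.centralizer ({t} : Set G) := le_antisymm hPA hP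
  refine ⟨P, ?_, ?_⟩
  · -- not cyclic: `A` has exponent two and at least three elements
    intro hcyc
    obtain ⟨g, hg⟩ := hcyc.exists_generator
    have hg2 : g ^ 2 = 1 := by
      apply Subtype.ext
      simp only [Subgroup.coe_pow, Subgroup.coe_one]
      exact hsq g.1 (hPA g.2)
    have hall : ∀ x : (P : Subgroup G), x = 1 ∨ x = g := by
      intro x
      obtain ⟨k, hk⟩ := Subgroup.mem_zpowers_iff.mp (hg x)
      rcases Int.emod_two_eq_zero_or_one k with h0 | h1
      · left
        rw [← hk, ← Int.emod_add_mul_ediv k 2, zpow_add, zpow_mul, h0, zpow_zero, one_mul]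
        have : g ^ (2 : ℤ) = 1 := by exact_mod_cast hg2
        rw [this, one_zpow]
      · right
        rw [← hk, ← Int.emod_add_mul_ediv k 2, zpow_add, zpow_mul, h1, zpow_one]
        have : g ^ (2 : ℤ) = 1 := by exact_mod_cast hg2
        rw [this, one_zpow, mul_one]
    -- two distinct involutions of `N_G(A)` lie in `A = P`
    have h2 := h.two_le_card_involutions
    have hinj : Function.Injective (fun s : {s : G // orderOf s = 2 ∧
        s ∈ Subgroup.normalizer ((Subgroup.centralizer ({t} : Set G) : Subgroup G) : Set G)} =>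
        s.1) := Subtype.val_injective
    obtain ⟨s₁, s₂, hs12⟩ : ∃ s₁ s₂ : {s : G // orderOf s = 2 ∧
        s ∈ Subgroup.normalizer ((Subgroup.centralizer ({t} : Set G) : Subgroup G) : Set G)},
        s₁ ≠ s₂ := by
      by_contra hall'
      push Not at hall'
      have : Subsingleton {s : G // orderOf s = 2 ∧
          s ∈ Subgroup.normalizer ((Subgroup.centralizer ({t} : Set G) : Subgroup G) : Set G)} :=
        ⟨hall'⟩
      have := Finite.card_le_one_iff_subsingleton.mpr this
      omega
    have key : ∀ s : {s : G // orderOf s = 2 ∧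
        s ∈ Subgroup.normalizer ((Subgroup.centralizer ({t} : Set G) : Subgroup G) : Set G)},
        s.1 = g.1 := by
      intro s
      have hsA := h.invol_mem s.2.1 s.2.2
      rcases hall ⟨s.1, hP hsA⟩ with h1 | h1
      · exfalso
        have : s.1 = 1 := congrArg Subtype.val h1
        have h2' := s.2.1
        rw [this, orderOf_one] at h2'
        omega
      · exact congrArg Subtype.val h1
    exact hs12 (Subtype.ext ((key s₁).trans (key s₂).symm))
  · intro hnorm
    obtain ⟨g, hg⟩ := h.not_normal
    apply hg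
    rw [← hPeq]
    have : Subgroup.normalizer ((P : Subgroup G) : Set G) = ⊤ :=
      Subgroup.normalizer_eq_top_iff.mpr hnorm
    rw [this]; exact Subgroup.mem_top g

end Cfsg.Agent.Lib.Helper7.CAGrp
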