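import Mathlib
import Cfsg.Agent.Lib.Helper7.CAGrp2

set_option autoImplicit false

/-!
Groups in which the centralizer of every involution is abelian: an abelian subgroup `A` with
`C_G(s) ≤ A` for the involutions `s ∈ A`, containing two involutions, not normal.  `M = N_G(A)` is
strongly embedded, `|M| = |A| · m`, `m` the number of involutions of `A`.
-/

namespace Cfsg.Agent.Lib.Helper7.CAInv

open Cfsg.Agent.Lib.Helper1 Cfsg.Agent.Lib.Helper3 Cfsg.Agent.Lib.Helper3.StrEmb
open Cfsg.Agent.Lib.Helper7.CAGrp (twoPt mk_ne_one_iff')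

variable {G : Type*} [Group G] [Finite G]

/-- the weak standing hypotheses -/
structure Setup1 (A : Subgroup G) : Prop where
  comm : ∀ x ∈ A, ∀ y ∈ A, x * y = y * x
  cent_inv : ∀ a ∈ A, orderOf a = 2 → ∀ g : G, g * a = a * g → g ∈ A
  two_invol : ∃ s ∈ A, ∃ t ∈ A, orderOf s = 2 ∧ orderOf t = 2 ∧ s ≠ t
  not_normal : ∃ g : G, g ∉ Subgroup.normalizer (A : Set G)

variable {A : Subgroup G}

local notation "NA" => Subgroup.normalizer ((A : Subgroup G) : Set G)

omit [Finite G] in
theorem ne_one_of_orderOf_two {t : G} (ht : orderOf t = 2) : t ≠ 1 := by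
  rintro rfl
  rw [orderOf_one] at ht
  omega

omit [Finite G] in
theorem Setup1.invol (h : Setup1 A) : ∃ t ∈ A, orderOf t = 2 := by
  obtain ⟨s, hs, -, -, hs2, -, -⟩ := h.two_invol
  exact ⟨s, hs, hs2⟩

omit [Finite G] in
/-- TI property for involutions -/
theorem Setup1.mem_normalizer_of_conj_mem (h : Setup1 A) {a g : G} (ha : a ∈ A)
    (ha2 : orderOf a = 2) (hg : g⁻¹ * a * g ∈ A) : g ∈ NA := by
  have hb2 : orderOf (g⁻¹ * a * g) = 2 := by rw [orderOf_conj_inv]; exact ha2
  rw [Subgroup.mem_normalizer_iff]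
  intro x
  constructor
  · intro hx
    apply h.cent_inv a ha ha2
    have hc := h.comm x hx _ hg
    calc g * x * g⁻¹ * a = g * (x * (g⁻¹ * a * g)) * g⁻¹ := by group
      _ = g * ((g⁻¹ * a * g) * x) * g⁻¹ := by rw [hc]
      _ = a * (g * x * g⁻¹) := by group
  · intro hx
    apply h.cent_inv _ hg hb2
    have hc := h.comm _ hx a ha
    calc x * (g⁻¹ * a * g) = g⁻¹ * ((g * x * g⁻¹) * a) * g := by group
      _ = g⁻¹ * (a * (g * x * g⁻¹)) * g := by rw [hc]
      _ = g⁻¹ * a * g * x := by group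

omit [Finite G] in
/-- involutions of `N_G(A)` lie in `A` -/
theorem Setup1.invol_mem (h : Setup1 A) {u : G} (hu : orderOf u = 2) (huN : u ∈ NA) : u ∈ A := by
  obtain ⟨t, ht, ht2⟩ := h.invol
  have huu := invol_mul_self hu
  have hui := invol_inv hu
  have htt := invol_mul_self ht2
  have ht' : u * t * u⁻¹ ∈ A := (Subgroup.mem_normalizer_iff.mp huN t).mp ht
  by_cases hw : t * (u * t * u⁻¹) = 1
  · apply h.cent_inv t ht ht2
    have h1 : u * t * u⁻¹ = t := by
      calc u * t * u⁻¹ = (t * t) * (u * t * u⁻¹) := by rw [htt, one_mul]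
        _ = t * (t * (u * t * u⁻¹)) := by group
        _ = t := by rw [hw, mul_one]
    calc u * t = (u * t * u⁻¹) * u := by group
      _ = t * u := by rw [h1]
  · have hc := h.comm t ht _ ht'
    have hw2 : orderOf (t * (u * t * u⁻¹)) = 2 := by
      apply orderOf_two_of_mul_self _ hw
      calc t * (u * t * u⁻¹) * (t * (u * t * u⁻¹))
          = t * ((u * t * u⁻¹) * t) * (u * t * u⁻¹) := by group
        _ = t * (t * (u * t * u⁻¹)) * (u * t * u⁻¹) := by rw [hc]
        _ = (t * t) * (u * (t * t) * u⁻¹) := by group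
        _ = 1 := by rw [htt]; group
    apply h.cent_inv _ (Subgroup.mul_mem _ ht ht') hw2
    rw [hui] at hc ⊢
    calc u * (t * (u * t * u)) = u * ((u * t * u) * t) := by rw [hc]
      _ = (u * u) * t * u * t := by group
      _ = t * u * t := by rw [huu, one_mul]
      _ = t * u * t * (u * u) := by rw [huu, mul_one]
      _ = t * (u * t * u) * u := by group

omit [Finite G] in
/-- `C_G(s) = A` for the involutions of `A` -/
theorem Setup1.centralizer_eq (h : Setup1 A) {s : G} (hs : s ∈ A) (hs2 : orderOf s = 2) :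
    Subgroup.centralizer ({s} : Set G) = A := by
  ext g
  rw [Subgroup.mem_centralizer_singleton_iff]
  constructor
  · intro hg
    exact h.cent_inv s hs hs2 g hg
  · intro hg
    exact h.comm g hg s hs

omit [Finite G] in
theorem Setup1.ne_top (h : Setup1 A) : NA ≠ ⊤ := by
  obtain ⟨g, hg⟩ := h.not_normal
  intro htop
  exact hg (htop ▸ Subgroup.mem_top g)

/-- `N_G(A)` is strongly embedded -/
theorem Setup1.stronglyEmbedded (h : Setup1 A) : Cfsg.IsStronglyEmbedded NA := by
  rw [stronglyEmbedded_iff]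
  refine ⟨h.ne_top, ?_, ?_⟩
  · rw [even_card_iff_exists_involution]
    obtain ⟨t, ht, ht2⟩ := h.invol
    exact ⟨t, Subgroup.le_normalizer ht, ht2⟩
  · rintro g ⟨s, hs, hs2, hsg⟩
    have hsA := h.invol_mem hs2 hs
    have hsgA := h.invol_mem (by rw [orderOf_conj_inv]; exact hs2) hsg
    exact h.mem_normalizer_of_conj_mem hsA hs2 hsgA

omit [Finite G] in
/-- there is an involution outside `N_G(A)` -/
theorem Setup1.exists_involution_notMem (h : Setup1 A) : ∃ u : G, orderOf u = 2 ∧ u ∉ NA := by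
  by_contra hcon
  push Not at hcon
  obtain ⟨g, hg⟩ := h.not_normal
  obtain ⟨t, ht, ht2⟩ := h.invol
  have h2 : orderOf (g⁻¹ * t * g) = 2 := by rw [orderOf_conj_inv]; exact ht2
  exact hg (h.mem_normalizer_of_conj_mem ht ht2 (h.invol_mem h2 (hcon _ h2)))

/-- the involutions of `A` are conjugate under `N_G(A)`, even under a two point stabilizer -/
theorem Setup1.exists_conj (h : Setup1 A) {u : G} (hu : orderOf u = 2) (huH : u ∉ NA) {s t : G}
    (hs : s ∈ A) (hs2 : orderOf s = 2) (ht : t ∈ A) (ht2 : orderOf t = 2) :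
    ∃ d ∈ twoPt A u, d * s * d⁻¹ = t :=
  exists_conj_mem_inf h.stronglyEmbedded hu huH hs2 (Subgroup.le_normalizer hs) ht2
    (Subgroup.le_normalizer ht)

/-- `|N_G(A)| = |A| · m`, `m` the number of involutions of `N_G(A)` -/
theorem Setup1.card_normalizer (h : Setup1 A) :
    Nat.card NA = Nat.card A * Nat.card {t : G // orderOf t = 2 ∧ t ∈ NA} := by
  obtain ⟨u, hu, huH⟩ := h.exists_involution_notMem
  obtain ⟨s₀, hs₀A, hs₀⟩ := h.invol
  have hs₀H : s₀ ∈ NA := Subgroup.le_normalizer hs₀A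
  let f : ↥NA → {t : G // orderOf t = 2 ∧ t ∈ NA} :=
    fun k => ⟨(k : G) * s₀ * (k : G)⁻¹, by rw [orderOf_conj]; exact hs₀,
      Subgroup.mul_mem _ (Subgroup.mul_mem _ k.2 hs₀H) (Subgroup.inv_mem _ k.2)⟩
  rw [card_eq_mul_of_fibres f (Nat.card A), mul_comm]
  rintro ⟨t, ht, htH⟩
  obtain ⟨d, hd, hdc⟩ := exists_conj_mem_inf h.stronglyEmbedded hu huH hs₀ hs₀H ht htH
  have hdH : d ∈ NA := (Subgroup.mem_inf.mp hd).1
  apply Nat.card_congr
  refine
    { toFun := fun k => ⟨d⁻¹ * (k.1 : G), ?_⟩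
      invFun := fun c => ⟨⟨d * c.1, Subgroup.mul_mem _ hdH (Subgroup.le_normalizer c.2)⟩, ?_⟩
      left_inv := fun k => by
        apply Subtype.ext
        apply Subtype.ext
        simp
      right_inv := fun c => by
        apply Subtype.ext
        simp }
  · have hk : (k.1 : G) * s₀ * (k.1 : G)⁻¹ = t := congrArg Subtype.val k.2
    apply h.cent_inv s₀ hs₀A hs₀
    calc d⁻¹ * (k.1 : G) * s₀ = d⁻¹ * ((k.1 : G) * s₀ * (k.1 : G)⁻¹) * (k.1 : G) := by group
      _ = d⁻¹ * (d * s₀ * d⁻¹) * (k.1 : G) := by rw [hk, hdc]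
      _ = s₀ * (d⁻¹ * (k.1 : G)) := by group
  · apply Subtype.ext
    simp only [f]
    have hc : c.1 * s₀ = s₀ * c.1 := h.comm _ c.2 _ hs₀A
    calc d * c.1 * s₀ * (d * c.1)⁻¹ = d * (c.1 * s₀) * c.1⁻¹ * d⁻¹ := by group
      _ = d * (s₀ * c.1) * c.1⁻¹ * d⁻¹ := by rw [hc]
      _ = d * s₀ * d⁻¹ := by group
      _ = t := hdc

/-- `N_G(A)` contains at least two involutions -/
theorem Setup1.two_le_card_involutions (h : Setup1 A) :
    2 ≤ Nat.card {t : G // orderOf t = 2 ∧ t ∈ NA} := by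
  obtain ⟨s, hs, t, ht, hs2, ht2, hst⟩ := h.two_invol
  by_contra hcon
  push Not at hcon
  have h1 : Nat.card {t : G // orderOf t = 2 ∧ t ∈ NA} ≤ 1 := by omega
  rw [Finite.card_le_one_iff_subsingleton] at h1
  have := h1.elim (⟨s, hs2, Subgroup.le_normalizer hs⟩ : {t : G // orderOf t = 2 ∧ t ∈ NA})
    ⟨t, ht2, Subgroup.le_normalizer ht⟩
  exact hst (congrArg Subtype.val this)

/-- `A < N_G(A)` -/
theorem Setup1.lt_norm (h : Setup1 A) : ∃ g ∈ NA, g ∉ A := by
  by_contra hcon
  push Not at hcon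
  have heq : NA = A := le_antisymm hcon Subgroup.le_normalizer
  have h1 := h.card_normalizer
  have h2 := h.two_le_card_involutions
  have hpos : 0 < Nat.card A := Nat.card_pos
  have h3 : Nat.card NA = Nat.card A := by rw [heq]
  rw [h3] at h1
  have : Nat.card A * 2 ≤ Nat.card A * Nat.card {t : G // orderOf t = 2 ∧ t ∈ NA} :=
    Nat.mul_le_mul_left _ h2
  omega

theorem Setup1.odd_card_twoPt (h : Setup1 A) {u : G} (huH : u ∉ NA) :
    Odd (Nat.card (twoPt A u)) :=
  h.stronglyEmbedded.2.2 u huH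

theorem Setup1.odd_orderOf_of_mem_twoPt (h : Setup1 A) {u : G} (huH : u ∉ NA) {d : G}
    (hd : d ∈ twoPt A u) : Odd (orderOf d) := by
  have : orderOf (⟨d, hd⟩ : twoPt A u) ∣ Nat.card (twoPt A u) := orderOf_dvd_natCard _
  rw [← Subgroup.orderOf_coe] at this
  exact Odd.of_dvd_nat (h.odd_card_twoPt huH) this

/-- the elements of `D` inverted by `u` are at least as many as the involutions of `M` -/
theorem Setup1.le_card_inverted (h : Setup1 A) {u : G} (hu : orderOf u = 2) (huH : u ∉ NA) :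
    Nat.card {t : G // orderOf t = 2 ∧ t ∈ NA} ≤
      Nat.card {d : twoPt A u // u * (d : G) * u⁻¹ = (d : G)⁻¹} := by
  set H := Subgroup.normalizer (A : Set G) with hH
  set x : G ⧸ H := ((1 : G) : G ⧸ H) with hx
  set y : G ⧸ H := ((u : G) : G ⧸ H) with hy
  have hxy : x ≠ y := by
    intro h'
    rw [hx, hy, QuotientGroup.eq] at h'
    simp at h'
    exact huH h'
  have hux : u • x = y := by
    rw [hx, hy, MulAction.Quotient.smul_mk, smul_eq_mul, mul_one]
  have huy : u • y = x := involution_smul_swap hu hux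
  rw [← card_involutions_smul_eq_card h.stronglyEmbedded hxy]
  let φ : {i : G // orderOf i = 2 ∧ i • x = y} →
      {d : twoPt A u // u * (d : G) * u⁻¹ = (d : G)⁻¹} := fun i =>
    ⟨⟨u * i.1, by
      have hix : (u * i.1) • x = x := by rw [mul_smul, i.2.2, huy]
      have hiy : (u * i.1) • y = y := by
        rw [mul_smul, involution_smul_swap i.2.1 i.2.2, hux]
      refine Subgroup.mem_inf.mpr ⟨(smul_mk_one_eq_iff _).mp hix, ?_⟩
      rw [mem_map_conj_iff]
      exact (smul_mk_eq_iff _ u).mp hiy⟩, by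
      simp only
      rw [mul_inv_rev, invol_inv hu, invol_inv i.2.1]
      calc u * (u * i.1) * u = (u * u) * i.1 * u := by group
        _ = i.1 * u := by rw [invol_mul_self hu, one_mul]⟩
  apply Nat.card_le_card_of_injective φ
  intro i i' hii
  have := congrArg (fun d : {d : twoPt A u // u * (d : G) * u⁻¹ = (d : G)⁻¹} =>
    ((d : twoPt A u) : G)) hii
  simp only [φ] at this
  exact Subtype.ext (mul_left_cancel this)

/-- existence of an involution moving the coset `M` to a given other coset -/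
theorem Setup1.exists_involution_smul (h : Setup1 A) {g : G} (hg : g ∉ NA) :
    ∃ v : G, orderOf v = 2 ∧ v ∉ NA ∧ ((v : G) : G ⧸ NA) = (g : G) := by
  have hne : ((1 : G) : G ⧸ NA) ≠ (g : G) := ((mk_ne_one_iff' g).mpr hg).symm
  have hcard := card_involutions_smul_eq_card h.stronglyEmbedded hne
  have hpos : 0 < Nat.card {i : G // orderOf i = 2 ∧ i • ((1 : G) : G ⧸ NA) = (g : G)} := by
    rw [hcard]
    have := h.two_le_card_involutions
    omega
  obtain ⟨⟨v, hv2, hvg⟩⟩ := (Nat.card_pos_iff.mp hpos).1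
  have hvg' : ((v : G) : G ⧸ NA) = (g : G) := by
    rw [← hvg, MulAction.Quotient.smul_mk, smul_eq_mul, mul_one]
  refine ⟨v, hv2, ?_, hvg'⟩
  rw [← mk_ne_one_iff', hvg']
  exact hne.symm

/-- every involution of `G` is conjugate into `A` -/
theorem Setup1.exists_conj_mem (h : Setup1 A) {v : G} (hv : orderOf v = 2) :
    ∃ g : G, g⁻¹ * v * g ∈ A := by
  obtain ⟨x, hx⟩ := exists_fixed h.stronglyEmbedded hv
  obtain ⟨g, rfl⟩ := QuotientGroup.mk_surjective x
  rw [smul_mk_eq_iff] at hx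
  exact ⟨g, h.invol_mem (by rw [orderOf_conj_inv]; exact hv) hx⟩

end Cfsg.Agent.Lib.Helper7.CAInv
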