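import Mathlib
import Cfsg.Agent.Lib.Helper7.CAInv1

set_option autoImplicit false

/-!
`Setup2`: in addition the non-identity elements of `A` fix no coset of `M = N_G(A)` other than `M`.
The two point stabilizer `D = M ∩ uMu⁻¹` then complements `A` in `M`, is abelian, inverted by `u`
and fixes exactly two cosets.
-/

namespace Cfsg.Agent.Lib.Helper7.CAInv

open Cfsg.Agent.Lib.Helper1 Cfsg.Agent.Lib.Helper3 Cfsg.Agent.Lib.Helper3.StrEmb
open Cfsg.Agent.Lib.Helper7.CAGrp (twoPt mk_ne_one_iff')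

variable {G : Type*} [Group G] [Finite G]

structure Setup2 (A : Subgroup G) : Prop where
  base : Setup1 A
  semireg : ∀ a ∈ A, a ≠ 1 → ∀ g : G, g⁻¹ * a * g ∈ Subgroup.normalizer (A : Set G) →
    g ∈ Subgroup.normalizer (A : Set G)

variable {A : Subgroup G}

local notation "NA" => Subgroup.normalizer ((A : Subgroup G) : Set G)

omit [Finite G] in
/-- `A` is a TI-subgroup -/
theorem Setup2.mem_normalizer_of_conj_mem (h : Setup2 A) {a g : G} (ha : a ∈ A) (ha1 : a ≠ 1)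
    (hg : g⁻¹ * a * g ∈ A) : g ∈ NA :=
  h.semireg a ha ha1 g (Subgroup.le_normalizer hg)

omit [Finite G] in
/-- `C_G(a) ≤ N_G(A)` for `1 ≠ a ∈ A` -/
theorem Setup2.mem_normalizer_of_commute (h : Setup2 A) {a g : G} (ha : a ∈ A) (ha1 : a ≠ 1)
    (hg : g * a = a * g) : g ∈ NA := by
  apply h.mem_normalizer_of_conj_mem ha ha1
  have : g⁻¹ * a * g = a := by
    calc g⁻¹ * a * g = g⁻¹ * (a * g) := by group
      _ = g⁻¹ * (g * a) := by rw [hg]
      _ = a := by group
  rw [this]; exact ha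

omit [Finite G] in
/-- `D ∩ A = 1` -/
theorem Setup2.twoPt_inf (h : Setup2 A) {u : G} (huH : u ∉ NA) {x : G}
    (hx : x ∈ twoPt A u) (hxA : x ∈ A) : x = 1 := by
  by_contra hx1
  apply huH
  apply h.semireg x hxA hx1
  exact (mem_map_conj_iff _ u x).mp (Subgroup.mem_inf.mp hx).2

omit [Finite G] in
/-- an element of `A` fixing a coset other than `M` is trivial -/
theorem Setup2.eq_one_of_smul_eq (h : Setup2 A) {t : G} (ht : t ∈ A) {x : G ⧸ NA}
    (hx : x ≠ ((1 : G) : G ⧸ NA)) (hfix : t • x = x) : t = 1 := by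
  obtain ⟨g, rfl⟩ := QuotientGroup.mk_surjective x
  have hgH : g ∉ NA := (mk_ne_one_iff' g).mp hx
  by_contra ht1
  apply hgH
  apply h.semireg t ht ht1
  exact (smul_mk_eq_iff t g).mp hfix

theorem Setup2.card_twoPt_le (h : Setup2 A) {u : G} (huH : u ∉ NA) :
    Nat.card (twoPt A u) ≤ Nat.card {t : G // orderOf t = 2 ∧ t ∈ NA} := by
  let g : ↥(twoPt A u) × ↥A → ↥NA :=
    fun p => ⟨(p.1 : G) * (p.2 : G),
      Subgroup.mul_mem _ (Subgroup.mem_inf.mp p.1.2).1 (Subgroup.le_normalizer p.2.2)⟩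
  have hg : Function.Injective g := by
    rintro ⟨⟨d, hd⟩, ⟨t, ht⟩⟩ ⟨⟨d', hd'⟩, ⟨t', ht'⟩⟩ hdt
    have e : d * t = d' * t' := congrArg Subtype.val hdt
    have h1 : d'⁻¹ * d = t' * t⁻¹ := by
      calc d'⁻¹ * d = d'⁻¹ * (d * t) * t⁻¹ := by group
        _ = d'⁻¹ * (d' * t') * t⁻¹ := by rw [e]
        _ = t' * t⁻¹ := by group
    have h2 : d'⁻¹ * d = 1 := by
      apply h.twoPt_inf huH (Subgroup.mul_mem _ (Subgroup.inv_mem _ hd') hd)
      rw [h1]
      exact Subgroup.mul_mem _ ht' (Subgroup.inv_mem _ ht)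
    have hdd : d = d' := by
      calc d = d' * (d'⁻¹ * d) := by group
        _ = d' := by rw [h2, mul_one]
    subst hdd
    have htt : t = t' := mul_left_cancel e
    subst htt
    rfl
  have h1 := Nat.card_le_card_of_injective g hg
  rw [Nat.card_prod, h.base.card_normalizer, mul_comm] at h1
  exact Nat.le_of_mul_le_mul_left h1 Nat.card_pos

/-- `u` inverts every element of `D`, and `|D|` is the number of involutions of `M` -/
theorem Setup2.twoPt_inverted (h : Setup2 A) {u : G} (hu : orderOf u = 2) (huH : u ∉ NA) :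
    (∀ d ∈ twoPt A u, u * d * u⁻¹ = d⁻¹) ∧
      Nat.card (twoPt A u) = Nat.card {t : G // orderOf t = 2 ∧ t ∈ NA} := by
  classical
  have h1 := h.base.le_card_inverted hu huH
  have h2 := h.card_twoPt_le huH
  have h3 : Nat.card {d : twoPt A u // u * (d : G) * u⁻¹ = (d : G)⁻¹} ≤ Nat.card (twoPt A u) :=
    Nat.card_le_card_of_injective _ Subtype.val_injective
  refine ⟨?_, le_antisymm h2 (h1.trans h3)⟩
  intro d hd
  by_contra hcon
  have := Fintype.ofFinite (twoPt A u)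
  have hlt : Fintype.card {d : twoPt A u // u * (d : G) * u⁻¹ = (d : G)⁻¹} <
      Fintype.card (twoPt A u) :=
    Fintype.card_subtype_lt (x := (⟨d, hd⟩ : twoPt A u)) hcon
  rw [← Nat.card_eq_fintype_card, ← Nat.card_eq_fintype_card] at hlt
  omega

theorem Setup2.isComplement' (h : Setup2 A) {u : G} (hu : orderOf u = 2) (huH : u ∉ NA) :
    Subgroup.IsComplement' ((twoPt A u).subgroupOf NA) (A.subgroupOf NA) := by
  obtain ⟨h1, h2⟩ := h.twoPt_inverted hu huH
  have h3 := h.base.card_normalizer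
  apply Subgroup.isComplement'_of_card_mul_and_disjoint
  · have e1 : Nat.card ((twoPt A u).subgroupOf NA) = Nat.card (twoPt A u) :=
      Nat.card_congr (Subgroup.subgroupOfEquivOfLe inf_le_left).toEquiv
    have e2 : Nat.card (A.subgroupOf NA) = Nat.card A :=
      Nat.card_congr (Subgroup.subgroupOfEquivOfLe Subgroup.le_normalizer).toEquiv
    rw [e1, e2, h2, h3, mul_comm]
  · rw [Subgroup.disjoint_def]
    intro x hx1 hx2
    rw [Subgroup.mem_subgroupOf] at hx1 hx2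
    apply Subtype.ext
    exact h.twoPt_inf huH hx1 hx2

/-- `M = D A` -/
theorem Setup2.exists_mul_of_mem_normalizer (h : Setup2 A) {u : G} (hu : orderOf u = 2)
    (huH : u ∉ NA) {k : G} (hk : k ∈ NA) : ∃ d ∈ twoPt A u, ∃ t ∈ A, k = d * t := by
  obtain ⟨⟨d, t⟩, hdt⟩ := (h.isComplement' hu huH).2 ⟨k, hk⟩
  refine ⟨d.1.1, ?_, t.1.1, ?_, ?_⟩
  · exact Subgroup.mem_subgroupOf.mp d.2
  · exact Subgroup.mem_subgroupOf.mp t.2
  · have := congrArg Subtype.val hdt
    simpa using this.symm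

/-- `D` is abelian -/
theorem Setup2.twoPt_comm (h : Setup2 A) {u : G} (hu : orderOf u = 2) (huH : u ∉ NA) {d e : G}
    (hd : d ∈ twoPt A u) (he : e ∈ twoPt A u) : d * e = e * d := by
  obtain ⟨h1, -⟩ := h.twoPt_inverted hu huH
  have h2 := h1 (d * e) (Subgroup.mul_mem _ hd he)
  have h3 : u * (d * e) * u⁻¹ = (u * d * u⁻¹) * (u * e * u⁻¹) := by group
  rw [h3, h1 d hd, h1 e he, mul_inv_rev] at h2
  have h4 := congrArg (fun z => z⁻¹) h2
  have h5 : e * d = d * e := by simpa using h4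
  exact h5.symm

theorem Setup2.two_le_card_twoPt (h : Setup2 A) {u : G} (hu : orderOf u = 2) (huH : u ∉ NA) :
    2 ≤ Nat.card (twoPt A u) := by
  rw [(h.twoPt_inverted hu huH).2]
  exact h.base.two_le_card_involutions

/-- `D` contains a non-identity element -/
theorem Setup2.exists_ne_one_twoPt (h : Setup2 A) {u : G} (hu : orderOf u = 2) (huH : u ∉ NA) :
    ∃ d ∈ twoPt A u, d ≠ 1 := by
  by_contra hall
  push Not at hall
  have : Subsingleton (twoPt A u) :=
    ⟨fun a b => Subtype.ext ((hall a a.2).trans (hall b b.2).symm)⟩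
  have h1 : Nat.card (twoPt A u) = 1 := Nat.card_eq_one_iff_unique.mpr ⟨this, ⟨1⟩⟩
  have := h.two_le_card_twoPt hu huH
  omega

/-- no element of `M` inverts a non-identity element of `D` -/
theorem Setup2.eq_one_of_inverted (h : Setup2 A) {u : G} (hu : orderOf u = 2) (huH : u ∉ NA)
    {k d : G} (hk : k ∈ NA) (hd : d ∈ twoPt A u) (hinv : k * d * k⁻¹ = d⁻¹) : d = 1 := by
  obtain ⟨d₁, hd₁, t, ht, rfl⟩ := h.exists_mul_of_mem_normalizer hu huH hk
  have h3 : t * d * t⁻¹ = d⁻¹ := by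
    have h2 : d₁ * t * d * (d₁ * t)⁻¹ = d₁ * (t * d * t⁻¹) * d₁⁻¹ := by group
    rw [h2] at hinv
    have hc := h.twoPt_comm hu huH (Subgroup.inv_mem _ hd₁) (Subgroup.inv_mem _ hd)
    calc t * d * t⁻¹ = d₁⁻¹ * (d₁ * (t * d * t⁻¹) * d₁⁻¹) * d₁ := by group
      _ = d₁⁻¹ * d⁻¹ * d₁ := by rw [hinv]
      _ = d⁻¹ * d₁⁻¹ * d₁ := by rw [hc]
      _ = d⁻¹ := by group
  have hdH : d ∈ NA := (Subgroup.mem_inf.mp hd).1
  have h1 : d * t⁻¹ * d⁻¹ ∈ A := by
    rw [Subgroup.mem_normalizer_iff] at hdH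
    exact (hdH t⁻¹).mp (Subgroup.inv_mem _ ht)
  have h2 : d⁻¹ * d⁻¹ ∈ A := by
    have e : d⁻¹ * d⁻¹ = t * (d * t⁻¹ * d⁻¹) := by
      calc d⁻¹ * d⁻¹ = (t * d * t⁻¹) * d⁻¹ := by rw [h3]
        _ = t * (d * t⁻¹ * d⁻¹) := by group
    rw [e]
    exact Subgroup.mul_mem _ ht h1
  have h4 : d⁻¹ * d⁻¹ = 1 :=
    h.twoPt_inf huH (Subgroup.mul_mem _ (Subgroup.inv_mem _ hd) (Subgroup.inv_mem _ hd)) h2
  have hodd : Odd (orderOf d⁻¹) := h.base.odd_orderOf_of_mem_twoPt huH (Subgroup.inv_mem _ hd)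
  have := eq_one_of_odd_of_mul_self d⁻¹ hodd h4
  simpa using this

/-- no element of `M` inverts `D` -/
theorem Setup2.not_inverts (h : Setup2 A) {u : G} (hu : orderOf u = 2) (huH : u ∉ NA) {k : G}
    (hk : k ∈ NA) (hinv : ∀ d ∈ twoPt A u, k * d * k⁻¹ = d⁻¹) : False := by
  obtain ⟨d, hd, hd1⟩ := h.exists_ne_one_twoPt hu huH
  exact hd1 (h.eq_one_of_inverted hu huH hk hd (hinv d hd))

/-- an involution `v ∉ M` with `vM` fixed by `D` inverts `D` -/
theorem Setup2.inverts_of_fixed (h : Setup2 A) {u : G} (hu : orderOf u = 2) (huH : u ∉ NA) {v : G}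
    (hv : orderOf v = 2) (hvH : v ∉ NA)
    (hfix : ∀ d ∈ twoPt A u, d • ((v : G) : G ⧸ NA) = ((v : G) : G ⧸ NA)) :
    ∀ d ∈ twoPt A u, v * d * v⁻¹ = d⁻¹ := by
  have hle : twoPt A u ≤ twoPt A v := by
    intro d hd
    refine Subgroup.mem_inf.mpr ⟨(Subgroup.mem_inf.mp hd).1, ?_⟩
    rw [mem_map_conj_iff]
    exact (smul_mk_eq_iff d v).mp (hfix d hd)
  have heq : twoPt A u = twoPt A v := by
    apply Subgroup.eq_of_le_of_card_ge hle
    rw [(h.twoPt_inverted hu huH).2, (h.twoPt_inverted hv hvH).2]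
  intro d hd
  rw [heq] at hd
  exact (h.twoPt_inverted hv hvH).1 d hd

/-- `C_G(D) ≤ M` -/
theorem Setup2.centralizer_twoPt_le (h : Setup2 A) {u : G} (hu : orderOf u = 2) (huH : u ∉ NA) :
    Subgroup.centralizer ((twoPt A u : Subgroup G) : Set G) ≤ NA := by
  intro c hc
  by_contra hcH
  obtain ⟨v, hv2, hvH, hvc⟩ := h.base.exists_involution_smul hcH
  have hfixc : ∀ d ∈ twoPt A u, d • ((c : G) : G ⧸ NA) = (c : G) := by
    intro d hd
    rw [MulAction.Quotient.smul_mk, smul_eq_mul, eq_comm, QuotientGroup.eq]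
    have hcomm : d * c = c * d := (Subgroup.mem_centralizer_iff.mp hc d hd)
    rw [hcomm]
    have : c⁻¹ * (c * d) = d := by group
    rw [this]
    exact (Subgroup.mem_inf.mp hd).1
  have hinv := h.inverts_of_fixed hu huH hv2 hvH (by rw [hvc]; exact hfixc)
  have hk : v⁻¹ * c ∈ NA := QuotientGroup.eq.mp hvc
  apply h.not_inverts hu huH hk
  intro d hd
  have hcomm : d * c = c * d := (Subgroup.mem_centralizer_iff.mp hc d hd)
  calc v⁻¹ * c * d * (v⁻¹ * c)⁻¹ = v⁻¹ * (c * d) * c⁻¹ * v := by group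
    _ = v⁻¹ * (d * c) * c⁻¹ * v := by rw [hcomm]
    _ = v⁻¹ * d * (v⁻¹)⁻¹ := by group
    _ = v * d * v⁻¹ := by rw [inv_inv, invol_inv hv2]
    _ = d⁻¹ := hinv d hd

/-- `D` fixes exactly the cosets `M` and `uM` -/
theorem Setup2.fixed_iff (h : Setup2 A) {u : G} (hu : orderOf u = 2) (huH : u ∉ NA) (g : G) :
    (∀ d ∈ twoPt A u, d • ((g : G) : G ⧸ NA) = (g : G)) ↔
      ((g : G) : G ⧸ NA) = ((1 : G) : G ⧸ _) ∨ ((g : G) : G ⧸ NA) = ((u : G) : G ⧸ _) := by
  constructor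
  · intro hfix
    by_cases hgH : g ∈ NA
    · left
      rw [eq_comm, QuotientGroup.eq]
      simpa using hgH
    · right
      obtain ⟨v, hv2, hvH, hvg⟩ := h.base.exists_involution_smul hgH
      have hinv := h.inverts_of_fixed hu huH hv2 hvH (by rw [hvg]; exact hfix)
      have huinv := (h.twoPt_inverted hu huH).1
      have hc : u * v ∈ Subgroup.centralizer ((twoPt A u : Subgroup G) : Set G) := by
        rw [Subgroup.mem_centralizer_iff]
        intro d hd
        have h1 : u * v * d * (u * v)⁻¹ = d := by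
          calc u * v * d * (u * v)⁻¹ = u * (v * d * v⁻¹) * u⁻¹ := by group
            _ = u * d⁻¹ * u⁻¹ := by rw [hinv d hd]
            _ = (d⁻¹)⁻¹ := huinv d⁻¹ (Subgroup.inv_mem _ hd)
            _ = d := inv_inv d
        calc d * (u * v) = (u * v * d * (u * v)⁻¹) * (u * v) := by rw [h1]
          _ = u * v * d := by group
      have hH := h.centralizer_twoPt_le hu huH hc
      rw [← hvg, QuotientGroup.eq]
      have : v⁻¹ * u = (u * v)⁻¹ := by rw [mul_inv_rev, invol_inv hu]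
      rw [this]
      exact Subgroup.inv_mem _ hH
  · rintro (hg | hg) d hd
    · rw [hg, smul_mk_one_eq_iff]
      exact (Subgroup.mem_inf.mp hd).1
    · rw [hg, smul_mk_eq_iff, ← mem_map_conj_iff]
      exact (Subgroup.mem_inf.mp hd).2

end Cfsg.Agent.Lib.Helper7.CAInv
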