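import Mathlib
import Cfsg.Agent.Lib.Helper7.CAInv2

set_option autoImplicit false

/-!
`Setup2` from `Setup1` and the condition `C_G(a) ≤ N_G(A)` for all `1 ≠ a ∈ A`.
-/

namespace Cfsg.Agent.Lib.Helper7.CAInv

open Cfsg.Agent.Lib.Helper1 Cfsg.Agent.Lib.Helper3 Cfsg.Agent.Lib.Helper3.StrEmb
open Cfsg.Agent.Lib.Helper7.CAGrp (twoPt mk_ne_one_iff')

variable {G : Type*} [Group G] [Finite G] {A : Subgroup G}

local notation "NA" => Subgroup.normalizer ((A : Subgroup G) : Set G)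

/-- the condition `C_G(a) ≤ N_G(A)` for `1 ≠ a ∈ A` -/
def Dagger (A : Subgroup G) : Prop :=
  ∀ a ∈ A, a ≠ 1 → ∀ g : G, g * a = a * g → g ∈ Subgroup.normalizer (A : Set G)

omit [Finite G] in
/-- TI property from the dagger condition -/
theorem Setup1.ti_of_dagger (h : Setup1 A) (hd : Dagger A) {a g : G} (ha : a ∈ A) (ha1 : a ≠ 1)
    (hg : g⁻¹ * a * g ∈ A) : g ∈ NA := by
  obtain ⟨t, ht, ht2⟩ := h.invol
  have hb1 : g⁻¹ * a * g ≠ 1 := by
    intro hb
    apply ha1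
    calc a = g * (g⁻¹ * a * g) * g⁻¹ := by group
      _ = 1 := by rw [hb]; group
  have hs2 : orderOf (g⁻¹ * t * g) = 2 := by rw [orderOf_conj_inv]; exact ht2
  have hc : (g⁻¹ * t * g) * (g⁻¹ * a * g) = (g⁻¹ * a * g) * (g⁻¹ * t * g) := by
    have := h.comm t ht a ha
    calc (g⁻¹ * t * g) * (g⁻¹ * a * g) = g⁻¹ * (t * a) * g := by group
      _ = g⁻¹ * (a * t) * g := by rw [this]
      _ = (g⁻¹ * a * g) * (g⁻¹ * t * g) := by group
  have hsN : g⁻¹ * t * g ∈ NA := hd _ hg hb1 _ hc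
  exact h.mem_normalizer_of_conj_mem ht ht2 (h.invol_mem hs2 hsN)

/-- the dagger condition for the centralizer of an arbitrary involution -/
theorem Setup1.dagger_conj (h : Setup1 A) (hd : Dagger A) {v z x : G} (hv : orderOf v = 2)
    (hz : z * v = v * z) (hz1 : z ≠ 1) (hx : x * z = z * x) :
    (x⁻¹ * v * x) * v = v * (x⁻¹ * v * x) := by
  obtain ⟨g, hg⟩ := h.exists_conj_mem hv
  have ht2 : orderOf (g⁻¹ * v * g) = 2 := by rw [orderOf_conj_inv]; exact hv
  have hzA : g⁻¹ * z * g ∈ A := by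
    apply h.cent_inv _ hg ht2
    calc g⁻¹ * z * g * (g⁻¹ * v * g) = g⁻¹ * (z * v) * g := by group
      _ = g⁻¹ * (v * z) * g := by rw [hz]
      _ = g⁻¹ * v * g * (g⁻¹ * z * g) := by group
  have hz1' : g⁻¹ * z * g ≠ 1 := by
    intro hb
    apply hz1
    calc z = g * (g⁻¹ * z * g) * g⁻¹ := by group
      _ = 1 := by rw [hb]; group
  have hxN : g⁻¹ * x * g ∈ NA := by
    apply hd _ hzA hz1'
    calc g⁻¹ * x * g * (g⁻¹ * z * g) = g⁻¹ * (x * z) * g := by group
      _ = g⁻¹ * (z * x) * g := by rw [hx]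
      _ = g⁻¹ * z * g * (g⁻¹ * x * g) := by group
  have hpA : (g⁻¹ * x * g)⁻¹ * (g⁻¹ * v * g) * ((g⁻¹ * x * g)⁻¹)⁻¹ ∈ A :=
    (Subgroup.mem_normalizer_iff.mp (Subgroup.inv_mem _ hxN) _).mp hg
  have hc := h.comm _ hpA _ hg
  calc (x⁻¹ * v * x) * v
      = g * ((g⁻¹ * x * g)⁻¹ * (g⁻¹ * v * g) * ((g⁻¹ * x * g)⁻¹)⁻¹ * (g⁻¹ * v * g)) * g⁻¹ := by
        group
    _ = g * ((g⁻¹ * v * g) * ((g⁻¹ * x * g)⁻¹ * (g⁻¹ * v * g) * ((g⁻¹ * x * g)⁻¹)⁻¹)) * g⁻¹ := by
        rw [hc]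
    _ = v * (x⁻¹ * v * x) := by group

/-- `D ∩ A = 1` from the dagger condition -/
theorem Setup1.twoPt_inf_of_dagger (h : Setup1 A) (hd : Dagger A) {u : G} (hu : orderOf u = 2)
    (huH : u ∉ NA) {x : G} (hx : x ∈ twoPt A u) (hxA : x ∈ A) : x = 1 := by
  by_contra hx1
  have hui := invol_inv hu
  have huu := invol_mul_self hu
  -- `y = u x u` lies in `N_G(A)`
  have hyN : u * x * u ∈ NA := by
    have := (mem_map_conj_iff _ u x).mp (Subgroup.mem_inf.mp hx).2
    rwa [hui] at this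
  have hxN : x ∈ NA := (Subgroup.mem_inf.mp hx).1
  -- the commutator `c = x y x⁻¹ y⁻¹` lies in `A`
  have hcA : x * ((u * x * u) * x⁻¹ * (u * x * u)⁻¹) ∈ A :=
    Subgroup.mul_mem _ hxA
      ((Subgroup.mem_normalizer_iff.mp hyN x⁻¹).mp (Subgroup.inv_mem _ hxA))
  -- and so does `u c u = y x y⁻¹ x⁻¹`
  have hcA' : ((u * x * u) * x * (u * x * u)⁻¹) * x⁻¹ ∈ A :=
    Subgroup.mul_mem _ ((Subgroup.mem_normalizer_iff.mp hyN x).mp hxA) (Subgroup.inv_mem _ hxA)
  have hconj : u⁻¹ * (x * ((u * x * u) * x⁻¹ * (u * x * u)⁻¹)) * u =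
      ((u * x * u) * x * (u * x * u)⁻¹) * x⁻¹ := by
    rw [hui]
    have e1 : (u * x * u)⁻¹ = u * x⁻¹ * u := by
      rw [mul_inv_rev, mul_inv_rev, hui]; group
    rw [e1]
    simp only [mul_assoc, huu, mul_one]
  have hc1 : x * ((u * x * u) * x⁻¹ * (u * x * u)⁻¹) = 1 := by
    by_contra hne
    apply huH
    apply h.ti_of_dagger hd hcA hne
    rw [hconj]; exact hcA'
  -- so `y` commutes with `x`
  have hxy : x * (u * x * u) = (u * x * u) * x := by
    calc x * (u * x * u) = (x * ((u * x * u) * x⁻¹ * (u * x * u)⁻¹)) * (u * x * u) * x := by group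
      _ = (u * x * u) * x := by rw [hc1, one_mul]
  -- it suffices to show `y = x`
  have hkey : u * x * u = x → False := by
    intro hyx
    apply huH
    apply h.ti_of_dagger hd hxA hx1
    rw [hui, hyx]; exact hxA
  -- `z = x y` commutes with `u`
  have hzu : (x * (u * x * u)) * u = u * (x * (u * x * u)) := by
    calc (x * (u * x * u)) * u = ((u * x * u) * x) * u := by rw [hxy]
      _ = u * x * (u * x * u) := by group
      _ = u * (x * (u * x * u)) := by group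
  by_cases hz1 : x * (u * x * u) = 1
  · -- `y = x⁻¹ ∈ A`
    apply huH
    apply h.ti_of_dagger hd hxA hx1
    rw [hui]
    have : u * x * u = x⁻¹ := by
      calc u * x * u = x⁻¹ * (x * (u * x * u)) := by group
        _ = x⁻¹ := by rw [hz1, mul_one]
    rw [this]; exact Subgroup.inv_mem _ hxA
  · have hxz : x * (x * (u * x * u)) = (x * (u * x * u)) * x := by
      calc x * (x * (u * x * u)) = x * ((u * x * u) * x) := by rw [hxy]
        _ = (x * (u * x * u)) * x := by group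
    have hpu := h.dagger_conj hd hu hzu hz1 hxz
    -- `w = x⁻¹ y` has square one
    have hw : x⁻¹ * (u * x * u) = (x⁻¹ * u * x) * u := by group
    have hww : (x⁻¹ * (u * x * u)) * (x⁻¹ * (u * x * u)) = 1 := by
      rw [hw]
      calc (x⁻¹ * u * x) * u * ((x⁻¹ * u * x) * u)
          = (x⁻¹ * u * x) * (u * (x⁻¹ * u * x)) * u := by group
        _ = (x⁻¹ * u * x) * ((x⁻¹ * u * x) * u) * u := by rw [hpu]
        _ = x⁻¹ * (u * u) * x * (u * u) := by group
        _ = 1 := by rw [huu]; group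
    -- and odd order
    have hoddx : Odd (orderOf x) := h.odd_orderOf_of_mem_twoPt huH hx
    have hcomm : Commute x⁻¹ (u * x * u) := by
      have h1 : Commute x (u * x * u) := hxy
      exact h1.inv_left
    have hpow : (x⁻¹ * (u * x * u)) ^ orderOf x = 1 := by
      rw [hcomm.mul_pow, inv_pow, pow_orderOf_eq_one, inv_one, one_mul]
      have : u * x * u = u * x * u⁻¹ := by rw [hui]
      rw [this, conj_pow, pow_orderOf_eq_one]
      group
    have hoddw : Odd (orderOf (x⁻¹ * (u * x * u))) :=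
      Odd.of_dvd_nat hoddx (orderOf_dvd_of_pow_eq_one hpow)
    have hw1 := eq_one_of_odd_of_mul_self _ hoddw hww
    apply hkey
    calc u * x * u = x * (x⁻¹ * (u * x * u)) := by group
      _ = x := by rw [hw1, mul_one]

/-- `Setup2` from the dagger condition -/
theorem Setup2.of_dagger (h : Setup1 A) (hd : Dagger A) : Setup2 A := by
  refine ⟨h, ?_⟩
  intro a ha ha1 g hg
  by_contra hgN
  obtain ⟨v, hv2, hvH, hvg⟩ := h.exists_involution_smul hgN
  have hk : v⁻¹ * g ∈ NA := QuotientGroup.eq.mp hvg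
  apply ha1
  apply h.twoPt_inf_of_dagger hd hv2 hvH _ ha
  refine Subgroup.mem_inf.mpr ⟨Subgroup.le_normalizer ha, ?_⟩
  rw [mem_map_conj_iff]
  have : v⁻¹ * a * v = (v⁻¹ * g) * (g⁻¹ * a * g) * (v⁻¹ * g)⁻¹ := by group
  rw [this]
  exact Subgroup.mul_mem _ (Subgroup.mul_mem _ hk hg) (Subgroup.inv_mem _ hk)

end Cfsg.Agent.Lib.Helper7.CAInv
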