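import Mathlib
import Cfsg.Agent.Lib.Helper7.CAInv3

set_option autoImplicit false
set_option linter.style.haveILetI false

/-!
The transfer of `G` into `M/A` (`M = N_G(A)`): `|A|` and `|D|` are coprime when `G` is generated
by its 2-elements.
-/

namespace Cfsg.Agent.Lib.Helper7.CAInv

open Cfsg.Agent.Lib.Helper1 Cfsg.Agent.Lib.Helper3 Cfsg.Agent.Lib.Helper3.StrEmb
open Cfsg.Agent.Lib.Helper7.CAGrp (twoPt mk_ne_one_iff')

/-- the subgroup generated by the 2-elements -/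
def twoGen (G : Type*) [Group G] : Subgroup G :=
  Subgroup.closure {g : G | ∃ k : ℕ, g ^ (2 ^ k) = 1}

/-- a homomorphism into a group of odd order kills the 2-elements -/
theorem hom_eq_one_of_mem_twoGen {G Q : Type*} [Group G] [Group Q] [Finite Q]
    (hQ : Odd (Nat.card Q)) (f : G →* Q) {g : G} (hg : g ∈ twoGen G) : f g = 1 := by
  have hle : twoGen G ≤ f.ker := by
    unfold twoGen
    rw [Subgroup.closure_le]
    rintro x ⟨k, hk⟩
    rw [SetLike.mem_coe, MonoidHom.mem_ker]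
    have h1 : (f x) ^ (2 ^ k) = 1 := by rw [← map_pow, hk, map_one]
    have h2 : (f x) ^ Nat.card Q = 1 := pow_card_eq_one'
    have h3 : orderOf (f x) ∣ Nat.gcd (2 ^ k) (Nat.card Q) :=
      Nat.dvd_gcd (orderOf_dvd_of_pow_eq_one h1) (orderOf_dvd_of_pow_eq_one h2)
    have h4 : Nat.Coprime (2 ^ k) (Nat.card Q) := (Nat.coprime_two_left.mpr hQ).pow_left k
    rw [h4] at h3
    exact orderOf_eq_one_iff.mp (Nat.dvd_one.mp h3)
  exact MonoidHom.mem_ker.mp (hle hg)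

variable {G : Type*} [Group G] [Finite G] {A : Subgroup G}

local notation "NA" => Subgroup.normalizer ((A : Subgroup G) : Set G)

/-- every coset of `A` in `M` contains an element of `D` -/
theorem Setup2.exists_mk_eq (h : Setup2 A) {u : G} (hu : orderOf u = 2) (huH : u ∉ NA)
    (x : ↥NA ⧸ A.subgroupOf NA) :
    ∃ d : G, ∃ hd : d ∈ twoPt A u,
      x = QuotientGroup.mk (⟨d, (Subgroup.mem_inf.mp hd).1⟩ : ↥NA) := by
  obtain ⟨⟨a, ha⟩, rfl⟩ := QuotientGroup.mk_surjective x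
  obtain ⟨d, hd, t, ht, rfl⟩ := h.exists_mul_of_mem_normalizer hu huH ha
  refine ⟨d, hd, ?_⟩
  rw [QuotientGroup.eq, Subgroup.mem_subgroupOf]
  have : (((⟨d * t, ha⟩ : ↥NA)⁻¹ * ⟨d, (Subgroup.mem_inf.mp hd).1⟩ : ↥NA) : G) = t⁻¹ := by
    simp
  rw [this]
  exact Subgroup.inv_mem _ ht

/-- `M/A` is commutative -/
theorem Setup2.quotient_comm (h : Setup2 A) (x y : ↥NA ⧸ A.subgroupOf NA) : x * y = y * x := by
  obtain ⟨u, hu, huH⟩ := h.base.exists_involution_notMem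
  obtain ⟨d₁, hd₁, rfl⟩ := h.exists_mk_eq hu huH x
  obtain ⟨d₂, hd₂, rfl⟩ := h.exists_mk_eq hu huH y
  rw [← QuotientGroup.mk_mul, ← QuotientGroup.mk_mul]
  congr 1
  exact Subtype.ext (h.twoPt_comm hu huH hd₁ hd₂)

/-- `|M/A| = |D|` -/
theorem Setup2.card_quotient_normalizer (h : Setup2 A) {u : G} (hu : orderOf u = 2)
    (huH : u ∉ NA) : Nat.card (↥NA ⧸ A.subgroupOf NA) = Nat.card (twoPt A u) := by
  have h1 := Subgroup.card_eq_card_quotient_mul_card_subgroup (A.subgroupOf NA)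
  have e2 : Nat.card (A.subgroupOf NA) = Nat.card A :=
    Nat.card_congr (Subgroup.subgroupOfEquivOfLe Subgroup.le_normalizer).toEquiv
  rw [e2, h.base.card_normalizer, ← (h.twoPt_inverted hu huH).2, mul_comm] at h1
  exact (Nat.eq_of_mul_eq_mul_right Nat.card_pos h1).symm

/-- the transfer of `G` into a commutative image of `M` -/
theorem Setup2.transfer_eq (h : Setup2 A) {B : Type*} [CommGroup B] (ϕ : ↥NA →* B) {d : G}
    (hd : d ∈ NA) :
    MonoidHom.transfer ϕ d = ϕ ⟨d, hd⟩ * (ϕ ⟨d, hd⟩ ^ ((Subgroup.index NA) - 1))⁻¹ := by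
  classical
  haveI : Fintype (Quotient (MulAction.orbitRel (Subgroup.zpowers d) (G ⧸ NA))) :=
    Fintype.ofFinite _
  rw [MonoidHom.transfer_eq_prod_quotient_orbitRel_zpowers_quot]
  -- values of the factors
  have val1 : ∀ (x : G) (k : ℕ) (hm : x⁻¹ * d ^ k * x ∈ NA), x ∈ NA →
      ϕ ⟨x⁻¹ * d ^ k * x, hm⟩ = ϕ ⟨d, hd⟩ ^ k := by
    intro x k hm hx
    have e : (⟨x⁻¹ * d ^ k * x, hm⟩ : ↥NA) = (⟨x, hx⟩ : ↥NA)⁻¹ * ⟨d, hd⟩ ^ k * ⟨x, hx⟩ :=
      Subtype.ext (by simp)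
    rw [e, map_mul, map_mul, map_inv, map_pow, mul_comm (ϕ _)⁻¹, inv_mul_cancel_right]
  have val2 : ∀ (x : G) (k : ℕ) (hm : x⁻¹ * d ^ k * x ∈ NA), x ∉ NA →
      ϕ ⟨x⁻¹ * d ^ k * x, hm⟩ = (ϕ ⟨d, hd⟩ ^ k)⁻¹ := by
    intro x k hm hx
    obtain ⟨v, hv2, hvH, hvx⟩ := h.base.exists_involution_smul hx
    have hk : v⁻¹ * x ∈ NA := QuotientGroup.eq.mp hvx
    have heN : d ^ k ∈ NA := Subgroup.pow_mem _ hd k
    have he : d ^ k ∈ twoPt A v := by
      refine Subgroup.mem_inf.mpr ⟨heN, ?_⟩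
      rw [mem_map_conj_iff]
      have : v⁻¹ * d ^ k * v = (v⁻¹ * x) * (x⁻¹ * d ^ k * x) * (v⁻¹ * x)⁻¹ := by group
      rw [this]
      exact Subgroup.mul_mem _ (Subgroup.mul_mem _ hk hm) (Subgroup.inv_mem _ hk)
    have hinv := (h.twoPt_inverted hv2 hvH).1 _ he
    have e : (⟨x⁻¹ * d ^ k * x, hm⟩ : ↥NA) =
        (⟨v⁻¹ * x, hk⟩ : ↥NA)⁻¹ * (⟨d, hd⟩ ^ k)⁻¹ * ⟨v⁻¹ * x, hk⟩ := by
      apply Subtype.ext
      simp only [Subgroup.coe_mul, Subgroup.coe_inv, Subgroup.coe_pow]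
      calc x⁻¹ * d ^ k * x = (v⁻¹ * x)⁻¹ * (v⁻¹ * d ^ k * (v⁻¹)⁻¹) * (v⁻¹ * x) := by group
        _ = (v⁻¹ * x)⁻¹ * (d ^ k)⁻¹ * (v⁻¹ * x) := by rw [invol_inv hv2, hinv]
    rw [e, map_mul, map_mul, map_inv, map_inv, map_pow, mul_comm (ϕ _)⁻¹, inv_mul_cancel_right]
  -- the orbit of the trivial coset
  set q₀ : Quotient (MulAction.orbitRel (Subgroup.zpowers d) (G ⧸ NA)) :=
    Quotient.mk'' (((1 : G) : G ⧸ NA)) with hq₀
  have hfix : d • (((1 : G) : G ⧸ NA)) = ((1 : G) : G ⧸ NA) := (smul_mk_one_eq_iff d).mpr hd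
  have hq₀out : q₀.out = ((1 : G) : G ⧸ NA) := by
    have h1 : q₀.out ∈ MulAction.orbit (Subgroup.zpowers d) (((1 : G) : G ⧸ NA)) := by
      have := Quotient.mk_out (s := MulAction.orbitRel (Subgroup.zpowers d) (G ⧸ NA))
        (((1 : G) : G ⧸ NA))
      exact MulAction.orbitRel_apply.mp this
    obtain ⟨⟨z, hz⟩, hz'⟩ := h1
    rw [← hz']
    have hzN : z ∈ NA := (Subgroup.zpowers_le.mpr hd) hz
    exact (smul_mk_one_eq_iff z).mpr hzN
  have hq₀mem : q₀.out.out ∈ NA := by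
    have h1 : ((q₀.out.out : G) : G ⧸ NA) = ((1 : G) : G ⧸ NA) := by
      rw [QuotientGroup.out_eq', hq₀out]
    have h2 := QuotientGroup.eq.mp h1
    simpa using h2
  have hne : ∀ q : Quotient (MulAction.orbitRel (Subgroup.zpowers d) (G ⧸ NA)), q ≠ q₀ →
      q.out.out ∉ NA := by
    intro q hq hmem
    apply hq
    have h1 : q.out = ((1 : G) : G ⧸ NA) := by
      rw [← QuotientGroup.out_eq' q.out, eq_comm, QuotientGroup.eq]
      simpa using hmem
    rw [← Quotient.out_eq' q, h1]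
  have hk₀ : Function.minimalPeriod (d • ·) q₀.out = 1 := by
    rw [hq₀out]
    exact Function.minimalPeriod_eq_one_iff_isFixedPt.mpr hfix
  have hsum := Subgroup.index_eq_sum_minimalPeriod NA d
  rw [← Finset.add_sum_erase Finset.univ _ (Finset.mem_univ q₀), hk₀] at hsum
  rw [← Finset.mul_prod_erase Finset.univ _ (Finset.mem_univ q₀), val1 _ _ _ hq₀mem, hk₀, pow_one]
  have hprod : ∏ q ∈ Finset.univ.erase q₀,
      ϕ ⟨q.out.out⁻¹ * d ^ Function.minimalPeriod (d • ·) q.out * q.out.out,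
        QuotientGroup.out_conj_pow_minimalPeriod_mem NA d q.out⟩ =
      ∏ q ∈ Finset.univ.erase q₀, (ϕ ⟨d, hd⟩ ^ Function.minimalPeriod (d • ·) q.out)⁻¹ :=
    Finset.prod_congr rfl (fun q hq => val2 _ _ _ (hne q (Finset.ne_of_mem_erase hq)))
  rw [hprod, Finset.prod_inv_distrib, Finset.prod_pow_eq_pow_sum]
  congr 3
  omega

/-- `|A|` and `|D|` are coprime when `G` is generated by its 2-elements -/
theorem Setup2.coprime_card (h : Setup2 A) (hgen : twoGen G = ⊤) {u : G} (hu : orderOf u = 2)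
    (huH : u ∉ NA) : Nat.Coprime (Nat.card A) (Nat.card (twoPt A u)) := by
  apply Nat.coprime_of_dvd
  intro p hp hpA hpD
  haveI := Fact.mk hp
  obtain ⟨⟨a, haA⟩, hao⟩ := exists_prime_orderOf_dvd_card' (G := ↥A) p hpA
  obtain ⟨⟨d, hdD⟩, hdo⟩ := exists_prime_orderOf_dvd_card' (G := ↥(twoPt A u)) p hpD
  rw [← Subgroup.orderOf_coe] at hao hdo
  simp only at hao hdo
  have ha1 : a ≠ 1 := by
    rintro rfl
    rw [orderOf_one] at hao
    exact hp.one_lt.ne hao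
  have hdN : d ∈ NA := (Subgroup.mem_inf.mp hdD).1
  -- the index of `M` is `1` modulo `p`
  have hmod : p ∣ (Subgroup.index NA) - 1 := by
    have hZ : IsPGroup p (Subgroup.zpowers a) := by
      apply IsPGroup.of_card (n := 1)
      rw [Nat.card_zpowers, hao, pow_one]
    have h1 := hZ.card_modEq_card_fixedPoints (G ⧸ NA)
    have hfp : MulAction.fixedPoints (Subgroup.zpowers a) (G ⧸ NA) = {((1 : G) : G ⧸ NA)} := by
      ext x
      rw [MulAction.mem_fixedPoints, Set.mem_singleton_iff]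
      constructor
      · intro hx
        by_contra hne
        apply ha1
        apply h.eq_one_of_smul_eq haA hne
        exact hx ⟨a, Subgroup.mem_zpowers a⟩
      · rintro rfl ⟨z, hz⟩
        have hzN : z ∈ NA := (Subgroup.zpowers_le.mpr (Subgroup.le_normalizer haA)) hz
        exact (smul_mk_one_eq_iff z).mpr hzN
    rw [hfp, Nat.card_coe_set_eq, Set.ncard_singleton, ← Subgroup.index_eq_card] at h1
    have hpos : 1 ≤ (Subgroup.index NA) := Nat.one_le_iff_ne_zero.mpr Subgroup.index_ne_zero_of_finite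
    exact (Nat.modEq_iff_dvd' hpos).mp h1.symm
  -- the transfer
  letI : CommGroup (↥NA ⧸ A.subgroupOf NA) :=
    { (inferInstance : Group (↥NA ⧸ A.subgroupOf NA)) with mul_comm := h.quotient_comm }
  have hodd : Odd (Nat.card (↥NA ⧸ A.subgroupOf NA)) := by
    rw [h.card_quotient_normalizer hu huH]
    exact h.base.odd_card_twoPt huH
  have hV : MonoidHom.transfer (QuotientGroup.mk' (A.subgroupOf NA)) d = 1 :=
    hom_eq_one_of_mem_twoGen hodd _ (hgen ▸ Subgroup.mem_top d)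
  rw [h.transfer_eq _ hdN] at hV
  have hpow : (QuotientGroup.mk' (A.subgroupOf NA)) ⟨d, hdN⟩ ^ ((Subgroup.index NA) - 1) = 1 := by
    rw [← map_pow]
    have : (⟨d, hdN⟩ : ↥NA) ^ ((Subgroup.index NA) - 1) = 1 := by
      apply Subtype.ext
      rw [Subgroup.coe_pow, Subgroup.coe_one]
      exact orderOf_dvd_iff_pow_eq_one.mp (hdo ▸ hmod)
    rw [this, map_one]
  rw [hpow, inv_one, mul_one, QuotientGroup.mk'_apply, QuotientGroup.eq_one_iff,
    Subgroup.mem_subgroupOf] at hV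
  have hd1 : d = 1 := h.twoPt_inf huH hdD hV
  rw [hd1, orderOf_one] at hdo
  exact hp.one_lt.ne hdo

end Cfsg.Agent.Lib.Helper7.CAInv
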