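import Mathlib
import Cfsg.Agent.Lib.Helper7.CAInv4
import Cfsg.Agent.Lib.Lead.SZConjB3

set_option autoImplicit false
set_option linter.style.haveILetI false

/-!
When `G` is generated by its 2-elements the complements `D` of `A` in `M` are conjugate under `A`
(Schur–Zassenhaus), `A` is transitive on the cosets other than `M`, and `D` acts freely on `A`:
`C_G(a) = A` for all `1 ≠ a ∈ A`.
-/

namespace Cfsg.Agent.Lib.Helper7.CAInv

open Cfsg.Agent.Lib.Helper1 Cfsg.Agent.Lib.Helper3 Cfsg.Agent.Lib.Helper3.StrEmb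
open Cfsg.Agent.Lib.Helper7.CAGrp (twoPt mk_ne_one_iff')

variable {G : Type*} [Group G] [Finite G] {A : Subgroup G}

local notation "NA" => Subgroup.normalizer ((A : Subgroup G) : Set G)

/-- the two point stabilizers in `M` are conjugate under `A` -/
theorem Setup2.exists_conj_twoPt (h : Setup2 A) (hgen : twoGen G = ⊤) {u v : G}
    (hu : orderOf u = 2) (huH : u ∉ NA) (hv : orderOf v = 2) (hvH : v ∉ NA) :
    ∃ s ∈ A, ∀ x ∈ twoPt A u, s * x * s⁻¹ ∈ twoPt A v := by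
  have hidx : (A.subgroupOf NA).index = Nat.card (twoPt A u) := by
    rw [Subgroup.index_eq_card, h.card_quotient_normalizer hu huH]
  have e2 : Nat.card (A.subgroupOf NA) = Nat.card A :=
    Nat.card_congr (Subgroup.subgroupOfEquivOfLe Subgroup.le_normalizer).toEquiv
  have hcop : (Nat.card (A.subgroupOf NA)).Coprime (A.subgroupOf NA).index := by
    rw [hidx, e2]
    exact h.coprime_card hgen hu huH
  have hsolv : IsSolvable (A.subgroupOf NA) := by
    apply isSolvable_of_comm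
    intro a b
    apply Subtype.ext
    apply Subtype.ext
    exact h.base.comm _ (Subgroup.mem_subgroupOf.mp a.2) _ (Subgroup.mem_subgroupOf.mp b.2)
  have hH : Nat.card ((twoPt A u).subgroupOf NA) = (A.subgroupOf NA).index := by
    rw [hidx]
    exact Nat.card_congr (Subgroup.subgroupOfEquivOfLe inf_le_left).toEquiv
  have hK : Nat.card ((twoPt A v).subgroupOf NA) = (A.subgroupOf NA).index := by
    rw [hidx, (h.twoPt_inverted hu huH).2, ← (h.twoPt_inverted hv hvH).2]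
    exact Nat.card_congr (Subgroup.subgroupOfEquivOfLe inf_le_left).toEquiv
  obtain ⟨⟨g, hg⟩, hconj⟩ := Cfsg.Agent.Lib.Lead.schur_zassenhaus_conj (A.subgroupOf NA) hcop
    (Or.inl hsolv) _ _ hH hK
  have key : ∀ x ∈ twoPt A u, g * x * g⁻¹ ∈ twoPt A v := by
    intro x hx
    have hxN : x ∈ NA := (Subgroup.mem_inf.mp hx).1
    have h1 : (⟨x, hxN⟩ : ↥NA) ∈ (twoPt A u).subgroupOf NA := Subgroup.mem_subgroupOf.mpr hx
    have h2 := Subgroup.smul_mem_pointwise_smul _ (MulAut.conj (⟨g, hg⟩ : ↥NA)) _ h1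
    rw [hconj, MulAut.smul_def, MulAut.conj_apply, Subgroup.mem_subgroupOf] at h2
    simpa using h2
  -- adjust by an element of the target complement
  obtain ⟨d, hd, t, ht, rfl⟩ := h.exists_mul_of_mem_normalizer hv hvH hg
  refine ⟨t, ht, ?_⟩
  intro x hx
  have h1 := key x hx
  have : t * x * t⁻¹ = d⁻¹ * (d * t * x * (d * t)⁻¹) * d := by group
  rw [this]
  exact Subgroup.mul_mem _ (Subgroup.mul_mem _ (Subgroup.inv_mem _ hd) h1) hd

/-- every coset other than `M` is `s • uM` for some `s ∈ A` -/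
theorem Setup2.exists_smul_mk (h : Setup2 A) (hgen : twoGen G = ⊤) {u : G} (hu : orderOf u = 2)
    (huH : u ∉ NA) {z : G ⧸ NA} (hz : z ≠ ((1 : G) : G ⧸ NA)) :
    ∃ s ∈ A, s • ((u : G) : G ⧸ NA) = z := by
  obtain ⟨g, rfl⟩ := QuotientGroup.mk_surjective z
  have hgH : g ∉ NA := (mk_ne_one_iff' g).mp hz
  obtain ⟨v, hv2, hvH, hvg⟩ := h.base.exists_involution_smul hgH
  rw [← hvg]
  obtain ⟨s, hs, hconj⟩ := h.exists_conj_twoPt hgen hu huH hv2 hvH
  refine ⟨s, hs, ?_⟩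
  have hsH : s ∈ NA := Subgroup.le_normalizer hs
  -- `D_u` fixes `s⁻¹ • vM`
  have hfix : ∀ e ∈ twoPt A u, e • (((s⁻¹ * v : G)) : G ⧸ NA) = ((s⁻¹ * v : G)) := by
    intro e he
    have hc := hconj e he
    have h1 : (s * e * s⁻¹) • ((v : G) : G ⧸ NA) = (v : G) := by
      rw [smul_mk_eq_iff, ← mem_map_conj_iff]
      exact (Subgroup.mem_inf.mp hc).2
    calc e • (((s⁻¹ * v : G)) : G ⧸ NA) = s⁻¹ • ((s * e * s⁻¹) • ((v : G) : G ⧸ NA)) := by
          simp only [MulAction.Quotient.smul_mk, smul_eq_mul]; congr 1; group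
      _ = ((s⁻¹ * v : G)) := by rw [h1, MulAction.Quotient.smul_mk, smul_eq_mul]
  rcases (h.fixed_iff hu huH (s⁻¹ * v)).mp hfix with h1 | h1
  · exfalso
    rw [eq_comm, QuotientGroup.eq] at h1
    simp only [inv_one, one_mul] at h1
    apply hvH
    have : v = s * (s⁻¹ * v) := by group
    rw [this]; exact Subgroup.mul_mem _ hsH h1
  · rw [← h1, MulAction.Quotient.smul_mk, smul_eq_mul]; congr 1; group

/-- `D` acts freely on `A` -/
theorem Setup2.free_A (h : Setup2 A) (hgen : twoGen G = ⊤) {u : G} (hu : orderOf u = 2)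
    (huH : u ∉ NA) {d t : G} (hd : d ∈ twoPt A u) (ht : t ∈ A) (hcomm : d * t = t * d) :
    d = 1 ∨ t = 1 := by
  by_contra hcon
  push Not at hcon
  obtain ⟨hd1, ht1⟩ := hcon
  have hui := invol_inv hu
  have huu := invol_mul_self hu
  have hdN : d ∈ NA := (Subgroup.mem_inf.mp hd).1
  have hud : u * d * u⁻¹ = d⁻¹ := (h.twoPt_inverted hu huH).1 d hd
  have hud' : u * d⁻¹ * u⁻¹ = d := by
    have := (h.twoPt_inverted hu huH).1 d⁻¹ (Subgroup.inv_mem _ hd)
    rwa [inv_inv] at this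
  -- the coset `u t u M` is not `M`
  have hne : (((u * t * u : G)) : G ⧸ NA) ≠ ((1 : G) : G ⧸ NA) := by
    rw [mk_ne_one_iff']
    intro hmem
    apply ht1
    apply h.twoPt_inf huH _ ht
    refine Subgroup.mem_inf.mpr ⟨Subgroup.le_normalizer ht, ?_⟩
    rw [mem_map_conj_iff, hui]
    exact hmem
  obtain ⟨a₁, ha₁, ha₁z⟩ := h.exists_smul_mk hgen hu huH hne
  rw [MulAction.Quotient.smul_mk, smul_eq_mul, QuotientGroup.eq] at ha₁z
  -- `a₁` commutes with `d`
  have ha₁d : a₁⁻¹ * d * a₁ = d := by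
    -- `d` fixes `a₁ u M = u t u M`
    have h1 : (a₁⁻¹ * d * a₁) ∈ twoPt A u := by
      have ha₁N : a₁ ∈ NA := Subgroup.le_normalizer ha₁
      refine Subgroup.mem_inf.mpr ⟨Subgroup.mul_mem _ (Subgroup.mul_mem _
        (Subgroup.inv_mem _ ha₁N) hdN) ha₁N, ?_⟩
      rw [mem_map_conj_iff]
      -- u⁻¹ a₁⁻¹ d a₁ u = k (u t u)⁻¹ d (u t u) k⁻¹ with k = (a₁ u)⁻¹ (u t u)
      have e : u⁻¹ * (a₁⁻¹ * d * a₁) * u =
          ((a₁ * u)⁻¹ * (u * t * u)) * ((u * t * u)⁻¹ * d * (u * t * u)) *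
            ((a₁ * u)⁻¹ * (u * t * u))⁻¹ := by group
      rw [e]
      have e2 : (u * t * u)⁻¹ * d * (u * t * u) = d := by
        have e3 : (u * t * u)⁻¹ = u * t⁻¹ * u := by
          rw [mul_inv_rev, mul_inv_rev, hui]; group
        rw [e3]
        calc u * t⁻¹ * u * d * (u * t * u) = u * t⁻¹ * (u * d * u⁻¹) * t * u := by
              rw [hui]; group
          _ = u * (t⁻¹ * d⁻¹ * t) * u := by rw [hud]; group
          _ = u * d⁻¹ * u := by
              have : t⁻¹ * d⁻¹ * t = d⁻¹ := by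
                calc t⁻¹ * d⁻¹ * t = (d * t)⁻¹ * t := by group
                  _ = (t * d)⁻¹ * t := by rw [hcomm]
                  _ = d⁻¹ := by group
              rw [this]
          _ = d := by
              have := hud'
              rw [hui] at this
              exact this
      rw [e2]
      exact Subgroup.mul_mem _ (Subgroup.mul_mem _ ha₁z hdN) (Subgroup.inv_mem _ ha₁z)
    have h2 : (a₁⁻¹ * d * a₁) * d⁻¹ = 1 := by
      apply h.twoPt_inf huH (Subgroup.mul_mem _ h1 (Subgroup.inv_mem _ hd))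
      have : (a₁⁻¹ * d * a₁) * d⁻¹ = a₁⁻¹ * (d * a₁ * d⁻¹) := by group
      rw [this]
      exact Subgroup.mul_mem _ (Subgroup.inv_mem _ ha₁)
        ((Subgroup.mem_normalizer_iff.mp hdN a₁).mp ha₁)
    calc a₁⁻¹ * d * a₁ = ((a₁⁻¹ * d * a₁) * d⁻¹) * d := by group
      _ = d := by rw [h2, one_mul]
  -- `k = (a₁ u)⁻¹ (u t u) ∈ M` inverts `d`
  apply hd1
  apply h.eq_one_of_inverted hu huH ha₁z hd
  have htd : t * d⁻¹ * t⁻¹ = d⁻¹ := by
    calc t * d⁻¹ * t⁻¹ = t * (t * d)⁻¹ := by group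
      _ = t * (d * t)⁻¹ := by rw [hcomm]
      _ = d⁻¹ := by group
  calc (a₁ * u)⁻¹ * (u * t * u) * d * ((a₁ * u)⁻¹ * (u * t * u))⁻¹
      = u⁻¹ * a₁⁻¹ * u * t * (u * d * u⁻¹) * t⁻¹ * u⁻¹ * a₁ * u := by group
    _ = u⁻¹ * a₁⁻¹ * u * (t * d⁻¹ * t⁻¹) * u⁻¹ * a₁ * u := by rw [hud]; group
    _ = u⁻¹ * a₁⁻¹ * (u * d⁻¹ * u⁻¹) * a₁ * u := by rw [htd]; group
    _ = u⁻¹ * (a₁⁻¹ * d * a₁) * u := by rw [hud']; group
    _ = u * d * u⁻¹ := by rw [ha₁d, hui]
    _ = d⁻¹ := hud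

/-- `C_G(a) = A` for `1 ≠ a ∈ A` -/
theorem Setup2.cent (h : Setup2 A) (hgen : twoGen G = ⊤) {a : G} (ha : a ∈ A) (ha1 : a ≠ 1)
    {g : G} (hg : g * a = a * g) : g ∈ A := by
  obtain ⟨u, hu, huH⟩ := h.base.exists_involution_notMem
  have hgN := h.mem_normalizer_of_commute ha ha1 hg
  obtain ⟨d, hd, t, ht, rfl⟩ := h.exists_mul_of_mem_normalizer hu huH hgN
  have hta := h.base.comm t ht a ha
  have hda : d * a = a * d := by
    calc d * a = d * (a * t) * t⁻¹ := by group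
      _ = d * (t * a) * t⁻¹ := by rw [hta]
      _ = (d * t * a) * t⁻¹ := by group
      _ = (a * (d * t)) * t⁻¹ := by rw [hg]
      _ = a * d := by group
  rcases h.free_A hgen hu huH hd ha hda with h1 | h1
  · rw [h1, one_mul]; exact ht
  · exact (ha1 h1).elim

/-- the strong standing hypotheses hold -/
theorem Setup2.toSetup (h : Setup2 A) (hgen : twoGen G = ⊤) :
    Cfsg.Agent.Lib.Helper7.CAGrp.Setup A :=
  ⟨h.base.comm, fun _ ha ha1 _ hg => h.cent hgen ha ha1 hg, h.base.invol, h.base.lt_norm,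
    h.base.not_normal⟩

end Cfsg.Agent.Lib.Helper7.CAInv
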