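import Mathlib
import Cfsg.Agent.Lib.Helper7.CAInv5
import Cfsg.Agent.Lib.Helper7.CAGrp4
import Cfsg.Agent.S1230

set_option autoImplicit false
set_option linter.style.haveILetI false

/-!
Under the strong hypotheses (`C_G(a) = A` for `1 ≠ a ∈ A`) the group is a Zassenhaus group on the
cosets of `N_G(A)` (no simplicity needed), `A` has exponent 2 and `G ≅ PSL(2, F)`.
-/

namespace Cfsg.Agent.Lib.Helper7.CAInv

open Cfsg.Agent.Lib.Helper1 Cfsg.Agent.Lib.Helper3 Cfsg.Agent.Lib.Helper3.StrEmb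
open Cfsg.Agent.Lib.Helper7.CAGrp (twoPt mk_ne_one_iff' Setup)

variable {G : Type*} [Group G] [Finite G] {A : Subgroup G}

local notation "NA" => Subgroup.normalizer ((A : Subgroup G) : Set G)

/-- an involution `s` with `C_N(s) = 1` inverts the normal subgroup `N` -/
theorem inverts_of_fixedPointFree {N : Subgroup G} (hN : N.Normal) {s : G} (hs : orderOf s = 2)
    (hfree : ∀ n ∈ N, n * s = s * n → n = 1) : ∀ n ∈ N, s * n * s⁻¹ = n⁻¹ := by
  have hss := invol_mul_self hs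
  have hsi := invol_inv hs
  let ψ : N → N := fun n =>
    ⟨(n : G)⁻¹ * (s * n * s⁻¹), N.mul_mem (N.inv_mem n.2) (hN.conj_mem n n.2 s)⟩
  have hψ : Function.Injective ψ := by
    intro n n' hnn
    have e : (n : G)⁻¹ * (s * n * s⁻¹) = (n' : G)⁻¹ * (s * n' * s⁻¹) := congrArg Subtype.val hnn
    have h1 : ((n' : G) * (n : G)⁻¹) * s = s * ((n' : G) * (n : G)⁻¹) := by
      calc ((n' : G) * (n : G)⁻¹) * s = (n' : G) * ((n : G)⁻¹ * (s * n * s⁻¹)) * s * (n : G)⁻¹ := by
            group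
        _ = (n' : G) * ((n' : G)⁻¹ * (s * n' * s⁻¹)) * s * (n : G)⁻¹ := by rw [e]
        _ = s * ((n' : G) * (n : G)⁻¹) := by group
    have h2 := hfree _ (N.mul_mem n'.2 (N.inv_mem n.2)) h1
    apply Subtype.ext
    calc (n : G) = ((n' : G) * (n : G)⁻¹)⁻¹ * n' := by group
      _ = n' := by rw [h2, inv_one, one_mul]
  intro n hn
  obtain ⟨m, hm⟩ := Finite.surjective_of_injective hψ ⟨n, hn⟩
  have e : (m : G)⁻¹ * (s * m * s⁻¹) = n := congrArg Subtype.val hm
  rw [← e, hsi]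
  calc s * ((m : G)⁻¹ * (s * m * s)) * s = s * (m : G)⁻¹ * s * m * (s * s) := by group
    _ = s * (m : G)⁻¹ * s * m := by rw [hss, mul_one]
    _ = ((m : G)⁻¹ * (s * m * s))⁻¹ := by
        rw [mul_inv_rev, mul_inv_rev, mul_inv_rev, hsi, inv_inv]; group

/-- `G` is a Zassenhaus group on `G ⧸ N_G(A)` -/
theorem isZassenhaus' (h : Setup A) : Cfsg.IsZassenhausGroup G (G ⧸ NA) := by
  obtain ⟨u, hu, huH⟩ := h.exists_involution_notMem
  obtain ⟨x₃, h12, h13, h23⟩ := h.exists_third hu huH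
  refine ⟨⟨?_⟩, ?_, ?_, ?_, ?_⟩
  · intro g₁ g₂ hh
    have hfix : ∀ x : G ⧸ NA, (g₂⁻¹ * g₁) • x = x := by
      intro x
      rw [mul_smul, hh x, inv_smul_smul]
    have := h.eq_one_of_fix_three (g₂⁻¹ * g₁) _ _ _ h12 h13 h23 (hfix _) (hfix _) (hfix _)
    calc g₁ = g₂ * (g₂⁻¹ * g₁) := by group
      _ = g₂ := by rw [this, mul_one]
  · rw [MulAction.isMultiplyPretransitive_iff]
    intro x y
    have hx : x 0 ≠ x 1 := fun hh => by
      have := x.injective hh
      exact absurd this (by decide)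
    have hy : y 0 ≠ y 1 := fun hh => by
      have := y.injective hh
      exact absurd this (by decide)
    obtain ⟨a, ha1, ha2⟩ := h.exists_smul_pair hu huH hx
    obtain ⟨b, hb1, hb2⟩ := h.exists_smul_pair hu huH hy
    refine ⟨b⁻¹ * a, ?_⟩
    ext i
    fin_cases i
    · show (b⁻¹ * a) • x 0 = y 0
      rw [mul_smul, ha1, ← hb1, inv_smul_smul]
    · show (b⁻¹ * a) • x 1 = y 1
      rw [mul_smul, ha2, ← hb2, inv_smul_smul]
  · intro g a b c hab hbc hac hga hgb hgc
    exact h.eq_one_of_fix_three g a b c hab hac hbc hga hgb hgc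
  · obtain ⟨d, hd, hd1⟩ := h.exists_ne_one_twoPt hu huH
    refine ⟨d, hd1, ((1 : G) : G ⧸ NA), ((u : G) : G ⧸ NA), h12, ?_, ?_⟩
    · exact (h.fixed_iff hu huH 1).mpr (Or.inl rfl) d hd
    · exact (h.fixed_iff hu huH u).mpr (Or.inr rfl) d hd
  · intro N hN htr
    by_contra hcon
    push Not at hcon
    -- `N ∩ M = 1`
    have hNM : ∀ n ∈ N, n ∈ NA → n = 1 := by
      intro n hn hnM
      have hmem : (⟨n, hn⟩ : N) ∈ MulAction.stabilizer N ((1 : G) : G ⧸ NA) := by
        rw [MulAction.mem_stabilizer_iff]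
        show n • ((1 : G) : G ⧸ NA) = ((1 : G) : G ⧸ NA)
        exact (smul_mk_one_eq_iff n).mpr hnM
      have hmem' : (⟨n, hn⟩ : N) ∈ (⊥ : Subgroup N) := by
        rw [← hcon ((1 : G) : G ⧸ NA)]; exact hmem
      rw [Subgroup.mem_bot] at hmem'
      exact congrArg Subtype.val hmem'
    -- two involutions of `A`
    have h2 := h.two_le_card_involutions
    have hnt : Nontrivial {t : G // orderOf t = 2 ∧ t ∈ NA} := by
      rw [← Finite.one_lt_card_iff_nontrivial]
      omega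
    obtain ⟨⟨t, ht2, htN⟩, ⟨t', ht'2, ht'N⟩, htt'⟩ := hnt
    have htA := h.invol_mem ht2 htN
    have ht'A := h.invol_mem ht'2 ht'N
    have hne : t ≠ t' := fun hh => htt' (Subtype.ext hh)
    have hinv : ∀ s ∈ A, orderOf s = 2 → ∀ n ∈ N, s * n * s⁻¹ = n⁻¹ := by
      intro s hs hs2
      apply inverts_of_fixedPointFree hN hs2
      intro n hn hns
      apply hNM n hn
      exact Subgroup.le_normalizer (h.cent s hs (ne_one_of_orderOf_two hs2) n hns)
    -- every element of `N` is trivial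
    have hN1 : ∀ n ∈ N, n = 1 := by
      intro n hn
      apply hNM n hn
      apply Subgroup.le_normalizer
      have htt1 : t * t' ≠ 1 := by
        intro hh
        apply hne
        calc t = t * t' * t'⁻¹ := by group
          _ = t' := by rw [hh, one_mul, invol_inv ht'2]
      apply h.cent (t * t') (Subgroup.mul_mem _ htA ht'A) htt1
      have e1 := hinv t htA ht2 n hn
      have e2 := hinv t' ht'A ht'2 n⁻¹ (N.inv_mem hn)
      rw [inv_inv] at e2
      calc n * (t * t') = (t' * n⁻¹ * t'⁻¹) * (t * t') := by rw [e2]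
        _ = t' * n⁻¹ * (t'⁻¹ * t * t') := by group
        _ = t' * n⁻¹ * t := by
            have : t'⁻¹ * t * t' = t := by
              have hc := h.comm t htA t' ht'A
              calc t'⁻¹ * t * t' = t'⁻¹ * (t * t') := by group
                _ = t'⁻¹ * (t' * t) := by rw [hc]
                _ = t := by group
            rw [this]
        _ = t' * (t * n * t⁻¹) * t := by rw [e1]
        _ = (t' * t) * n := by group
        _ = (t * t') * n := by rw [h.comm t htA t' ht'A]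
    obtain ⟨n, hn⟩ := htr.exists_smul_eq ((1 : G) : G ⧸ NA) ((u : G) : G ⧸ NA)
    have hn1 : (n : G) = 1 := hN1 n n.2
    have hn' : (n : G) • ((1 : G) : G ⧸ NA) = ((u : G) : G ⧸ NA) := hn
    rw [hn1, one_smul] at hn'
    exact h12 hn'

/-- `A` has exponent 2 -/
theorem sq_eq_one' (h : Setup A) : ∀ a ∈ A, a ^ 2 = 1 := by
  classical
  haveI : Fintype (G ⧸ NA) := Fintype.ofFinite _
  obtain ⟨u, hu, huH⟩ := h.exists_involution_notMem
  have hZ := isZassenhaus' h
  obtain ⟨-, hab, -, -⟩ := h.exists_third hu huH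
  have hstab_a : MulAction.stabilizer G (((1 : G) : G ⧸ NA)) = NA := by
    ext g
    rw [MulAction.mem_stabilizer_iff, smul_mk_one_eq_iff]
  have hstab : MulAction.stabilizer G (((1 : G) : G ⧸ NA)) ⊓
      MulAction.stabilizer G (((u : G) : G ⧸ NA)) = twoPt A u := by
    ext g
    rw [Subgroup.mem_inf, Subgroup.mem_inf, MulAction.mem_stabilizer_iff,
      MulAction.mem_stabilizer_iff, smul_mk_one_eq_iff, smul_mk_eq_iff, mem_map_conj_iff]
  have hcardΩ : Fintype.card (G ⧸ NA) = Nat.card A + 1 := by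
    rw [← Nat.card_eq_fintype_card, h.card_quotient]
  have he : Nat.card ↥(MulAction.stabilizer G (((1 : G) : G ⧸ NA)) ⊓
      MulAction.stabilizer G (((u : G) : G ⧸ NA))) = Nat.card (twoPt A u) := by rw [hstab]
  have hodd : Odd (Nat.card (twoPt A u)) := h.odd_card_twoPt huH
  have hHa : A ≤ MulAction.stabilizer G (((1 : G) : G ⧸ NA)) := by
    rw [hstab_a]; exact Subgroup.le_normalizer
  have hHfix : ∀ s ∈ A, s ≠ 1 → ∀ c : G ⧸ NA, s • c = c → c = ((1 : G) : G ⧸ NA) := by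
    intro s hs hs1 c hc
    by_contra hne
    exact hs1 (h.eq_one_of_smul_eq hs hne hc)
  have h885 := Cfsg.Agent.S0885.result hZ hab (Nat.card A) (Nat.card (twoPt A u)) hcardΩ he hodd A
    hHa hcardΩ.symm hHfix
  rcases h885 with h1 | ⟨-, ⟨x, y, hxy⟩, -⟩
  · have hd : Fintype.card (G ⧸ NA) - 2 ≤ 2 * Nat.card ↥(MulAction.stabilizer G
        (((1 : G) : G ⧸ NA)) ⊓ MulAction.stabilizer G (((u : G) : G ⧸ NA))) := by
      rw [hcardΩ, he]; omega
    have hFn : (A.subgroupOf (MulAction.stabilizer G (((1 : G) : G ⧸ NA)))).Normal := by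
      rw [hstab_a]; exact Subgroup.normal_in_normalizer
    have hreg : ∀ y z : G ⧸ NA, y ≠ ((1 : G) : G ⧸ NA) → z ≠ ((1 : G) : G ⧸ NA) →
        ∃! s : A, (s : G) • y = z := by
      intro y z hy hz
      obtain ⟨t, ⟨ht, hty⟩, huniq⟩ := h.existsUnique_smul hy hz
      exact ⟨⟨t, ht⟩, hty, fun s hs => Subtype.ext (huniq s.1 ⟨s.2, hs⟩)⟩
    obtain ⟨-, p, f, hp, hpow, -⟩ := Cfsg.Agent.S0738.result hZ hab hd A hHa hFn hreg
    obtain ⟨t, ht, ht2⟩ := h.invol
    have h2p : 2 ∣ p := by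
      rw [← ht2]
      exact orderOf_dvd_of_pow_eq_one (hpow t ht)
    have hp2 : p = 2 := ((Nat.prime_dvd_prime_iff_eq Nat.prime_two hp).mp h2p).symm
    intro a ha
    rw [← hp2]; exact hpow a ha
  · exfalso
    apply hxy
    exact Subtype.ext (h.comm _ x.2 _ y.2)

/-- the conclusion: `G ≅ PSL(2, F)` -/
theorem Setup2.exists_psl (h : Setup2 A) (hgen : twoGen G = ⊤) (T : Sylow 2 G)
    (hnc : ¬ IsCyclic (T : Subgroup G)) (hnn : ¬ (T : Subgroup G).Normal) :
    ∃ (F : Type) (_ : Field F) (_ : Fintype F), Fintype.card F = Nat.card T ∧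
      Nonempty (G ≃* Matrix.ProjectiveSpecialLinearGroup (Fin 2) F) := by
  have hS := h.toSetup hgen
  have hsq := sq_eq_one' hS
  apply Cfsg.Agent.S1230.result T hnc hnn
  intro t ht
  obtain ⟨g, hg⟩ := h.base.exists_conj_mem ht
  have ht2 : orderOf (g⁻¹ * t * g) = 2 := by rw [orderOf_conj_inv]; exact ht
  have hmem : ∀ c ∈ Subgroup.centralizer ({t} : Set G), g⁻¹ * c * g ∈ A := by
    intro c hc
    rw [Subgroup.mem_centralizer_singleton_iff] at hc
    apply h.base.cent_inv _ hg ht2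
    calc g⁻¹ * c * g * (g⁻¹ * t * g) = g⁻¹ * (c * t) * g := by group
      _ = g⁻¹ * (t * c) * g := by rw [hc]
      _ = g⁻¹ * t * g * (g⁻¹ * c * g) := by group
  refine ⟨⟨⟨fun a b => Subtype.ext ?_⟩⟩, ?_⟩
  · have hc := h.base.comm _ (hmem a a.2) _ (hmem b b.2)
    show (a : G) * b = b * a
    calc (a : G) * b = g * ((g⁻¹ * a * g) * (g⁻¹ * b * g)) * g⁻¹ := by group
      _ = g * ((g⁻¹ * b * g) * (g⁻¹ * a * g)) * g⁻¹ := by rw [hc]
      _ = b * a := by group
  · intro c hc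
    have h1 := hsq _ (hmem c hc)
    calc c ^ 2 = g * (g⁻¹ * c * g) ^ 2 * g⁻¹ := by rw [pow_two, pow_two]; group
      _ = 1 := by rw [h1]; group

end Cfsg.Agent.Lib.Helper7.CAInv
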