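import Mathlib
import Cfsg.Agent.Lib.Helper7.CAInv6
import Cfsg.Agent.Lib.Helper7.CyclicCrit

set_option autoImplicit false
set_option linter.style.haveILetI false

/-!
Groups in which the centralizer of every involution is abelian: basic facts.  The Sylow
2-subgroups are abelian; if a Sylow 2-subgroup `T` is neither cyclic nor normal then `C_G(s)`
satisfies `Setup1` for every involution `s ∈ T`.
-/

namespace Cfsg.Agent.Lib.Helper7.CAInv

open Cfsg.Agent.Lib.Helper1 Cfsg.Agent.Lib.Helper3 Cfsg.Agent.Lib.Helper3.StrEmb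
open Cfsg.Agent.Lib.Helper7.CAGrp (twoPt mk_ne_one_iff')

/-- the centralizer of every involution is commutative -/
def InvAb (G : Type*) [Group G] : Prop :=
  ∀ t : G, orderOf t = 2 → ∀ x y : G, x * t = t * x → y * t = t * y → x * y = y * x

variable {G : Type*} [Group G]

theorem InvAb.subgroup (h : InvAb G) (H : Subgroup G) : InvAb ↥H := by
  intro t ht x y hx hy
  apply Subtype.ext
  have ht' : orderOf (t : G) = 2 := by rw [Subgroup.orderOf_coe]; exact ht
  exact h (t : G) ht' x y (congrArg Subtype.val hx) (congrArg Subtype.val hy)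

theorem isPGroup_zpowers_of_pow {x : G} {k : ℕ} (hx : x ^ (2 ^ k) = 1) :
    IsPGroup 2 (Subgroup.zpowers x) := by
  haveI : Fact (Nat.Prime 2) := ⟨Nat.prime_two⟩
  obtain ⟨j, -, hj⟩ := (Nat.dvd_prime_pow Nat.prime_two).mp (orderOf_dvd_of_pow_eq_one hx)
  apply IsPGroup.of_card (n := j)
  rw [Nat.card_zpowers, hj]

/-- a 2-element normalizing a Sylow 2-subgroup lies in it -/
theorem mem_sylow_of_pow (P : Sylow 2 G) {z : G} {k : ℕ} (hz : z ^ (2 ^ k) = 1)
    (hzn : z ∈ Subgroup.normalizer ((P : Subgroup G) : Set G)) : z ∈ (P : Subgroup G) := by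
  haveI : Fact (Nat.Prime 2) := ⟨Nat.prime_two⟩
  have h1 : IsPGroup 2 (Subgroup.zpowers z ⊔ (P : Subgroup G) : Subgroup G) :=
    IsPGroup.to_sup_of_normal_right' (isPGroup_zpowers_of_pow hz) P.isPGroup'
      (Subgroup.zpowers_le.mpr hzn)
  have h2 := P.is_maximal' h1 le_sup_right
  have : Subgroup.zpowers z ≤ (P : Subgroup G) := by
    rw [← h2]; exact le_sup_left
  exact this (Subgroup.mem_zpowers z)

/-- elements of a Sylow 2-subgroup are 2-elements -/
theorem exists_pow_of_mem_sylow (P : Sylow 2 G) {z : G} (hz : z ∈ (P : Subgroup G)) :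
    ∃ k : ℕ, z ^ (2 ^ k) = 1 := by
  obtain ⟨k, hk⟩ := P.isPGroup' ⟨z, hz⟩
  exact ⟨k, by simpa using congrArg Subtype.val hk⟩

variable [Finite G]

/-- the Sylow 2-subgroups are abelian -/
theorem InvAb.sylow_comm (h : InvAb G) (T : Sylow 2 G) {x y : G} (hx : x ∈ (T : Subgroup G))
    (hy : y ∈ (T : Subgroup G)) : x * y = y * x := by
  haveI : Fact (Nat.Prime 2) := ⟨Nat.prime_two⟩
  by_cases hT : Nontrivial ↥(T : Subgroup G)
  · have hc := T.isPGroup'.center_nontrivial
    have hcp : IsPGroup 2 (Subgroup.center ↥(T : Subgroup G)) := T.isPGroup'.to_subgroup _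
    rcases hcp.card_eq_or_dvd with h1 | h1
    · exfalso
      have := (Nat.card_eq_one_iff_unique.mp h1).1
      exact not_subsingleton _ this
    · obtain ⟨⟨z, hzc⟩, hz⟩ := exists_prime_orderOf_dvd_card' (G := Subgroup.center ↥(T : Subgroup G))
        2 h1
      rw [← Subgroup.orderOf_coe, ← Subgroup.orderOf_coe] at hz
      simp only at hz
      have hzx : x * (z : G) = (z : G) * x := by
        have := Subgroup.mem_center_iff.mp hzc ⟨x, hx⟩
        exact (congrArg Subtype.val this)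
      have hzy : y * (z : G) = (z : G) * y := by
        have := Subgroup.mem_center_iff.mp hzc ⟨y, hy⟩
        exact (congrArg Subtype.val this)
      exact h _ hz x y hzx hzy
  · rw [not_nontrivial_iff_subsingleton] at hT
    have e1 : (⟨x, hx⟩ : ↥(T : Subgroup G)) = 1 := Subsingleton.elim _ _
    have e2 : (⟨y, hy⟩ : ↥(T : Subgroup G)) = 1 := Subsingleton.elim _ _
    have e1' : x = 1 := congrArg Subtype.val e1
    have e2' : y = 1 := congrArg Subtype.val e2
    rw [e1', e2']

/-- a non-cyclic abelian Sylow 2-subgroup contains two involutions -/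
theorem exists_two_involutions (T : Sylow 2 G)
    (hcomm : ∀ x ∈ (T : Subgroup G), ∀ y ∈ (T : Subgroup G), x * y = y * x)
    (hnc : ¬ IsCyclic ↥(T : Subgroup G)) :
    ∃ s ∈ (T : Subgroup G), ∃ t ∈ (T : Subgroup G), orderOf s = 2 ∧ orderOf t = 2 ∧ s ≠ t := by
  haveI : Fact (Nat.Prime 2) := ⟨Nat.prime_two⟩
  by_contra hcon
  push Not at hcon
  apply hnc
  apply Cfsg.Agent.Lib.Helper7.isCyclic_of_comm_of_unique (p := 2)
    (fun a b => Subtype.ext (hcomm _ a.2 _ b.2)) T.isPGroup'
  intro H K hH hK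
  have key : ∀ L : Subgroup ↥(T : Subgroup G), Nat.card L = 2 →
      ∃ l : ↥(T : Subgroup G), orderOf l = 2 ∧ L = Subgroup.zpowers l := by
    intro L hL
    obtain ⟨⟨l, hlL⟩, hl⟩ := exists_prime_orderOf_dvd_card' (G := L) 2 (by rw [hL])
    rw [← Subgroup.orderOf_coe] at hl
    simp only at hl
    refine ⟨l, hl, ?_⟩
    symm
    apply Subgroup.eq_of_le_of_card_ge (Subgroup.zpowers_le.mpr hlL)
    rw [Nat.card_zpowers, hl, hL]
  obtain ⟨a, ha, rfl⟩ := key H hH
  obtain ⟨b, hb, rfl⟩ := key K hK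
  have ha' : orderOf (a : G) = 2 := by rw [Subgroup.orderOf_coe]; exact ha
  have hb' : orderOf (b : G) = 2 := by rw [Subgroup.orderOf_coe]; exact hb
  by_contra hne
  have hab : (a : G) ≠ (b : G) := by
    intro hh
    apply hne
    rw [Subtype.ext hh]
  exact hab (hcon _ a.2 _ b.2 ha' hb')

/-- `T ≤ C_G(s)` for `s ∈ T` -/
theorem InvAb.sylow_le_centralizer (h : InvAb G) (T : Sylow 2 G) {s : G}
    (hs : s ∈ (T : Subgroup G)) : (T : Subgroup G) ≤ Subgroup.centralizer ({s} : Set G) := by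
  intro x hx
  rw [Subgroup.mem_centralizer_singleton_iff]
  exact h.sylow_comm T hx hs

/-- `Setup1` for the centralizer of an involution of a non-cyclic, non-normal Sylow 2-subgroup -/
theorem InvAb.setup1 (h : InvAb G) (T : Sylow 2 G) (hnc : ¬ IsCyclic ↥(T : Subgroup G))
    (hnn : ¬ (T : Subgroup G).Normal) {s : G} (hs : s ∈ (T : Subgroup G)) (hs2 : orderOf s = 2) :
    Setup1 (Subgroup.centralizer ({s} : Set G)) := by
  have hcomm : ∀ x ∈ Subgroup.centralizer ({s} : Set G), ∀ y ∈ Subgroup.centralizer ({s} : Set G),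
      x * y = y * x := by
    intro x hx y hy
    rw [Subgroup.mem_centralizer_singleton_iff] at hx hy
    exact h s hs2 x y hx hy
  refine ⟨hcomm, ?_, ?_, ?_⟩
  · intro a ha ha2 g hg
    rw [Subgroup.mem_centralizer_singleton_iff] at ha ⊢
    exact h a ha2 g s hg ha.symm
  · obtain ⟨a, ha, b, hb, ha2, hb2, hab⟩ :=
      exists_two_involutions T (fun x hx y hy => h.sylow_comm T hx hy) hnc
    exact ⟨a, h.sylow_le_centralizer T hs ha, b, h.sylow_le_centralizer T hs hb, ha2, hb2, hab⟩
  · by_contra hcon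
    push Not at hcon
    apply hnn
    refine ⟨fun n hn g => ?_⟩
    obtain ⟨k, hk⟩ := exists_pow_of_mem_sylow T hn
    have hnA := h.sylow_le_centralizer T hs hn
    have hgA : g * n * g⁻¹ ∈ Subgroup.centralizer ({s} : Set G) :=
      (Subgroup.mem_normalizer_iff.mp (hcon g) n).mp hnA
    obtain ⟨w, hw⟩ : ∃ w : G, w = g * n * g⁻¹ := ⟨_, rfl⟩
    rw [← hw] at hgA ⊢
    have hwpow : w ^ (2 ^ k) = 1 := by
      rw [hw, conj_pow, hk]; group
    apply mem_sylow_of_pow T hwpow
    rw [Subgroup.mem_normalizer_iff]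
    have key : ∀ x ∈ (T : Subgroup G), w * x * w⁻¹ = x := by
      intro x hx
      have hc := hcomm _ hgA _ (h.sylow_le_centralizer T hs hx)
      rw [hc]; group
    intro x
    constructor
    · intro hx
      rw [key x hx]; exact hx
    · intro hx
      have h1 := key _ hx
      have h2 : w * x * w⁻¹ = x := by
        calc w * x * w⁻¹ = w⁻¹ * (w * (w * x * w⁻¹) * w⁻¹) * w := by group
          _ = w⁻¹ * (w * x * w⁻¹) * w := by rw [h1]
          _ = x := by group
      rw [← h2]; exact hx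

/-- `N_G(T) ≤ N_G(C_G(s))` -/
theorem InvAb.normalizer_sylow_le (h : InvAb G) (T : Sylow 2 G)
    (hnc : ¬ IsCyclic ↥(T : Subgroup G)) (hnn : ¬ (T : Subgroup G).Normal) {s : G}
    (hs : s ∈ (T : Subgroup G)) (hs2 : orderOf s = 2) :
    Subgroup.normalizer ((T : Subgroup G) : Set G) ≤
      Subgroup.normalizer ((Subgroup.centralizer ({s} : Set G) : Subgroup G) : Set G) := by
  intro g hg
  have h1 := h.setup1 T hnc hnn hs hs2
  have hsA : s ∈ Subgroup.centralizer ({s} : Set G) := h.sylow_le_centralizer T hs hs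
  have hgs : g * s * g⁻¹ ∈ (T : Subgroup G) := (Subgroup.mem_normalizer_iff.mp hg s).mp hs
  have h2 : g⁻¹ ∈ Subgroup.normalizer
      ((Subgroup.centralizer ({s} : Set G) : Subgroup G) : Set G) := by
    apply h1.mem_normalizer_of_conj_mem hsA hs2
    rw [inv_inv]
    exact h.sylow_le_centralizer T hs hgs
  simpa using Subgroup.inv_mem _ h2

end Cfsg.Agent.Lib.Helper7.CAInv
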