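import Mathlib
import Cfsg.Agent.Lib.Helper7.CAInv7

set_option autoImplicit false
set_option linter.style.haveILetI false

/-!
Two consequences of the strong hypotheses `CAGrp.Setup A` with `A` of exponent 2:
an automorphism centralizing `A` is inner, induced by an element of `A`; and no subgroup of odd
order is transitive on the involutions.
-/

namespace Cfsg.Agent.Lib.Helper7.CAInv

open Cfsg.Agent.Lib.Helper1 Cfsg.Agent.Lib.Helper3 Cfsg.Agent.Lib.Helper3.StrEmb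
open Cfsg.Agent.Lib.Helper7.CAGrp (twoPt mk_ne_one_iff' Setup)

variable {G : Type*} [Group G] [Finite G] {A : Subgroup G}

local notation "NA" => Subgroup.normalizer ((A : Subgroup G) : Set G)

/-- the strong hypotheses imply the weak ones -/
theorem toSetup2 (h : Setup A) : Setup2 A := by
  refine ⟨⟨h.comm, fun a ha ha2 g hg => h.cent a ha (ne_one_of_orderOf_two ha2) g hg, ?_,
    h.not_normal⟩, ?_⟩
  · have h2 := h.two_le_card_involutions
    have hnt : Nontrivial {t : G // orderOf t = 2 ∧ t ∈ NA} := by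
      rw [← Finite.one_lt_card_iff_nontrivial]
      omega
    obtain ⟨⟨t, ht2, htN⟩, ⟨t', ht'2, ht'N⟩, htt'⟩ := hnt
    exact ⟨t, h.invol_mem ht2 htN, t', h.invol_mem ht'2 ht'N, ht2, ht'2,
      fun hh => htt' (Subtype.ext hh)⟩
  · intro a ha ha1 g hg
    by_contra hgN
    apply ha1
    apply h.eq_one_of_smul_eq ha ((mk_ne_one_iff' g).mpr hgN)
    exact (smul_mk_eq_iff a g).mpr hg

/-- an automorphism centralizing `A` is conjugation by an element of `A` -/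
theorem autFix (h : Setup A) (τ : G ≃* G) (hfix : ∀ a ∈ A, τ a = a) :
    ∃ s ∈ A, ∀ k : G, τ k = s * k * s⁻¹ := by
  obtain ⟨u, hu, huH⟩ := h.exists_involution_notMem
  have hpres : ∀ (ρ : G ≃* G), (∀ a ∈ A, ρ a = a) → (∀ a ∈ A, ρ.symm a = a) →
      ∀ g ∈ NA, ρ g ∈ NA := by
    intro ρ h1 h2 g hg
    rw [Subgroup.mem_normalizer_iff]
    intro x
    constructor
    · intro hx
      have hgx : g * x * g⁻¹ ∈ A := (Subgroup.mem_normalizer_iff.mp hg x).mp hx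
      have : ρ g * x * (ρ g)⁻¹ = g * x * g⁻¹ := by
        rw [← h1 _ hgx, map_mul, map_mul, map_inv, h1 x hx]
      rw [this]; exact hgx
    · intro hx
      have e : ρ.symm (ρ g * x * (ρ g)⁻¹) = g * ρ.symm x * g⁻¹ := by
        rw [map_mul, map_mul, map_inv, MulEquiv.symm_apply_apply]
      have h3 : g * ρ.symm x * g⁻¹ ∈ A := by rw [← e, h2 _ hx]; exact hx
      have h4 : ρ.symm x ∈ A := (Subgroup.mem_normalizer_iff.mp hg _).mpr h3
      have h5 : ρ (ρ.symm x) = ρ.symm x := h1 _ h4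
      rw [MulEquiv.apply_symm_apply] at h5
      rw [h5]; exact h4
  have hfix' : ∀ a ∈ A, τ.symm a = a := by
    intro a ha
    rw [MulEquiv.symm_apply_eq, hfix a ha]
  have hτN : ∀ g ∈ NA, τ g ∈ NA := hpres τ hfix hfix'
  have hτu : τ u ∉ NA := by
    intro hmem
    have := hpres τ.symm hfix' (by simpa using hfix) (τ u) hmem
    rw [MulEquiv.symm_apply_apply] at this
    exact huH this
  obtain ⟨s, hs, hsu⟩ := h.exists_smul_mk hu huH ((mk_ne_one_iff' (τ u)).mpr hτu)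
  rw [MulAction.Quotient.smul_mk, smul_eq_mul, QuotientGroup.eq] at hsu
  have hsN : s ∈ NA := Subgroup.le_normalizer hs
  -- the defect `m k = k⁻¹ (s⁻¹ τ(k) s)`
  have hmN : ∀ k ∈ NA, k⁻¹ * (s⁻¹ * τ k * s) ∈ NA := by
    intro k hk
    exact Subgroup.mul_mem _ (Subgroup.inv_mem _ hk)
      (Subgroup.mul_mem _ (Subgroup.mul_mem _ (Subgroup.inv_mem _ hsN) (hτN k hk)) hsN)
  have hmu : u⁻¹ * (s⁻¹ * τ u * s) ∈ NA := by
    have : u⁻¹ * (s⁻¹ * τ u * s) = ((s * u)⁻¹ * τ u) * s := by group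
    rw [this]
    exact Subgroup.mul_mem _ hsu hsN
  have hmul : ∀ g k : G, (g * k)⁻¹ * (s⁻¹ * τ (g * k) * s) =
      k⁻¹ * (g⁻¹ * (s⁻¹ * τ g * s)) * k * (k⁻¹ * (s⁻¹ * τ k * s)) := by
    intro g k
    rw [map_mul]; group
  have hma : ∀ a ∈ A, a⁻¹ * (s⁻¹ * τ a * s) = 1 := by
    intro a ha
    rw [hfix a ha]
    have hc := h.comm a ha s hs
    calc a⁻¹ * (s⁻¹ * a * s) = a⁻¹ * s⁻¹ * (a * s) := by group
      _ = a⁻¹ * s⁻¹ * (s * a) := by rw [hc]
      _ = 1 := by group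
  have hmall : ∀ k : G, k⁻¹ * (s⁻¹ * τ k * s) ∈ NA := by
    intro k
    by_cases hk : k ∈ NA
    · exact hmN k hk
    · obtain ⟨a, ha, hak⟩ := h.exists_smul_mk hu huH ((mk_ne_one_iff' k).mpr hk)
      rw [MulAction.Quotient.smul_mk, smul_eq_mul, QuotientGroup.eq] at hak
      obtain ⟨n, hn⟩ : ∃ n : G, n = (a * u)⁻¹ * k := ⟨_, rfl⟩
      have hnN : n ∈ NA := hn ▸ hak
      have hk' : k = a * u * n := by rw [hn]; group
      rw [hk', hmul (a * u) n, hmul a u, hma a ha]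
      have h1 : u⁻¹ * 1 * u * (u⁻¹ * (s⁻¹ * τ u * s)) = u⁻¹ * (s⁻¹ * τ u * s) := by group
      rw [h1]
      exact Subgroup.mul_mem _ (Subgroup.mul_mem _ (Subgroup.mul_mem _ (Subgroup.inv_mem _ hnN)
        hmu) hnN) (hmN n hnN)
  have hconj : ∀ g k : G, k⁻¹ * (g⁻¹ * (s⁻¹ * τ g * s)) * k ∈ NA := by
    intro g k
    have h1 := hmall (g * k)
    rw [hmul g k] at h1
    have h2 := Subgroup.mul_mem _ h1 (Subgroup.inv_mem _ (hmall k))
    have : k⁻¹ * (g⁻¹ * (s⁻¹ * τ g * s)) * k * (k⁻¹ * (s⁻¹ * τ k * s)) *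
        (k⁻¹ * (s⁻¹ * τ k * s))⁻¹ = k⁻¹ * (g⁻¹ * (s⁻¹ * τ g * s)) * k := by group
    rw [this] at h2
    exact h2
  obtain ⟨x₃, h12, h13, h23⟩ := h.exists_third hu huH
  refine ⟨s, hs, fun g => ?_⟩
  have hfixall : ∀ x : G ⧸ NA, (g⁻¹ * (s⁻¹ * τ g * s)) • x = x := by
    intro x
    obtain ⟨k, rfl⟩ := QuotientGroup.mk_surjective x
    rw [smul_mk_eq_iff]
    exact hconj g k
  have h1 := h.eq_one_of_fix_three _ _ _ _ h12 h13 h23 (hfixall _) (hfixall _) (hfixall _)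
  calc τ g = s * (g * (g⁻¹ * (s⁻¹ * τ g * s))) * s⁻¹ := by group
    _ = s * g * s⁻¹ := by rw [h1, mul_one]

/-- no subgroup of odd order is transitive on the involutions -/
theorem noOddTransitive (h : Setup A) (hsq : ∀ a ∈ A, a ^ 2 = 1) (D : Subgroup G)
    (hD : Odd (Nat.card D))
    (htr : ∀ s t : G, orderOf s = 2 → orderOf t = 2 → ∃ d ∈ D, d * s * d⁻¹ = t) : False := by
  obtain ⟨u, hu, huH⟩ := h.exists_involution_notMem
  have h2 := toSetup2 h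
  obtain ⟨t₀, ht₀, t₁, ht₁, ht₀2, ht₁2, hne01⟩ := h2.base.two_invol
  have hoddD : ∀ d ∈ D, Odd (orderOf d) := by
    intro d hd
    have : orderOf (⟨d, hd⟩ : D) ∣ Nat.card D := orderOf_dvd_natCard _
    rw [← Subgroup.orderOf_coe] at this
    exact Odd.of_dvd_nat hD this
  -- `D ∩ A = 1`
  have hDA : ∀ d ∈ D, d ∈ A → d = 1 := by
    intro d hd hdA
    apply eq_one_of_odd_of_mul_self d (hoddD d hd)
    rw [← pow_two]; exact hsq d hdA
  -- an element `e₀ ≠ 1` of `E = D ∩ M`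
  obtain ⟨e₀, he₀D, he₀c⟩ := htr t₀ t₁ ht₀2 ht₁2
  have he₀N : e₀ ∈ NA := by
    have : e₀⁻¹ ∈ NA := by
      apply h.mem_normalizer_of_conj_mem ht₀ (ne_one_of_orderOf_two ht₀2)
      rw [inv_inv, he₀c]; exact ht₁
    simpa using Subgroup.inv_mem _ this
  have he₀1 : e₀ ≠ 1 := by
    rintro rfl
    apply hne01
    simpa using he₀c
  -- every `1 ≠ e ∈ E` fixes a second coset
  have hsecond : ∀ e ∈ D, e ∈ NA → e ≠ 1 → ∃ s ∈ A,
      e • (s • ((u : G) : G ⧸ NA)) = s • ((u : G) : G ⧸ NA) := by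
    intro e heD heN he1
    obtain ⟨d', hd', t', ht', rfl⟩ := h.exists_mul_of_mem_normalizer hu huH heN
    have hd'1 : d' ≠ 1 := by
      rintro rfl
      apply he1
      rw [one_mul] at heD ⊢
      exact hDA t' heD ht'
    obtain ⟨s, hs, hsd⟩ := h.exists_conj_A hu huH hd' hd'1 ht'
    refine ⟨s, hs, ?_⟩
    have hfix : d' • ((u : G) : G ⧸ NA) = ((u : G) : G ⧸ NA) :=
      (h.fixed_iff hu huH u).mpr (Or.inr rfl) d' hd'
    rw [← hsd, ← mul_smul]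
    have : s * d' * s⁻¹ * s = s * d' := by group
    rw [this, mul_smul, hfix]
  obtain ⟨s₀, hs₀, hfix₀⟩ := hsecond e₀ he₀D he₀N he₀1
  have hα : ∀ e ∈ NA, e • ((1 : G) : G ⧸ NA) = ((1 : G) : G ⧸ NA) :=
    fun e he => (smul_mk_one_eq_iff e).mpr he
  have hβα : s₀ • ((u : G) : G ⧸ NA) ≠ ((1 : G) : G ⧸ NA) := by
    intro hh
    have h1 : (s₀⁻¹ : G) • ((1 : G) : G ⧸ NA) = ((1 : G) : G ⧸ NA) :=
      hα _ (Subgroup.le_normalizer (Subgroup.inv_mem _ hs₀))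
    have : ((u : G) : G ⧸ NA) = ((1 : G) : G ⧸ NA) := by
      rw [← h1, ← hh, inv_smul_smul]
    exact (mk_ne_one_iff' u).mpr huH this
  -- `E` is abelian
  have hEcomm : ∀ e ∈ D, e ∈ NA → e * e₀ = e₀ * e := by
    intro e heD heN
    have hq := h2.quotient_comm (QuotientGroup.mk (⟨e, heN⟩ : ↥NA))
      (QuotientGroup.mk (⟨e₀, he₀N⟩ : ↥NA))
    rw [← QuotientGroup.mk_mul, ← QuotientGroup.mk_mul, QuotientGroup.eq,
      Subgroup.mem_subgroupOf] at hq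
    have hq' : (e * e₀)⁻¹ * (e₀ * e) ∈ A := by simpa using hq
    have hq'' : (e * e₀)⁻¹ * (e₀ * e) ∈ D :=
      Subgroup.mul_mem _ (Subgroup.inv_mem _ (Subgroup.mul_mem _ heD he₀D))
        (Subgroup.mul_mem _ he₀D heD)
    have := hDA _ hq'' hq'
    calc e * e₀ = (e * e₀) * ((e * e₀)⁻¹ * (e₀ * e)) := by rw [this, mul_one]
      _ = e₀ * e := by group
  -- every element of `E` fixes `β`
  have hEfix : ∀ e ∈ D, e ∈ NA → e • (s₀ • ((u : G) : G ⧸ NA)) = s₀ • ((u : G) : G ⧸ NA) := by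
    intro e heD heN
    by_contra hne
    have h3 : e₀ • (e • (s₀ • ((u : G) : G ⧸ NA))) = e • (s₀ • ((u : G) : G ⧸ NA)) := by
      rw [← mul_smul, ← hEcomm e heD heN, mul_smul, hfix₀]
    have h4 : ((1 : G) : G ⧸ NA) ≠ e • (s₀ • ((u : G) : G ⧸ NA)) := by
      intro hh
      apply hβα
      have : e⁻¹ • ((1 : G) : G ⧸ NA) = ((1 : G) : G ⧸ NA) := hα _ (Subgroup.inv_mem _ heN)
      rw [← this, hh, inv_smul_smul]
    exact he₀1 (h.eq_one_of_fix_three e₀ _ _ _ hβα.symm h4 (Ne.symm hne) (hα _ he₀N) hfix₀ h3)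
  -- `D` is transitive on the cosets
  have hDtr : ∀ g : G, ∃ d ∈ D, ((d : G) : G ⧸ NA) = (g : G) := by
    intro g
    obtain ⟨d, hd, hdc⟩ := htr t₀ (g * t₀ * g⁻¹) ht₀2 (by rw [orderOf_conj]; exact ht₀2)
    refine ⟨d, hd, ?_⟩
    rw [QuotientGroup.eq]
    apply Subgroup.le_normalizer
    apply h.cent t₀ ht₀ (ne_one_of_orderOf_two ht₀2)
    calc d⁻¹ * g * t₀ = d⁻¹ * (g * t₀ * g⁻¹) * g := by group
      _ = d⁻¹ * (d * t₀ * d⁻¹) * g := by rw [hdc]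
      _ = t₀ * (d⁻¹ * g) := by group
  obtain ⟨d, hd, hdβ⟩ := hDtr (s₀ * u)
  have hdα : d • ((1 : G) : G ⧸ NA) = s₀ • ((u : G) : G ⧸ NA) := by
    rw [MulAction.Quotient.smul_mk, MulAction.Quotient.smul_mk, smul_eq_mul, smul_eq_mul, mul_one,
      hdβ]
  -- `e₁ = d⁻¹ e₀ d ∈ E`
  have he₁D : d⁻¹ * e₀ * d ∈ D := Subgroup.mul_mem _ (Subgroup.mul_mem _ (Subgroup.inv_mem _ hd)
    he₀D) hd
  have he₁N : d⁻¹ * e₀ * d ∈ NA := by
    rw [← smul_mk_one_eq_iff, mul_smul, mul_smul, hdα, hfix₀, ← hdα, inv_smul_smul]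
  have h5 := hEfix _ he₁D he₁N
  -- `e₀` fixes `d β`
  have h6 : e₀ • (d • (s₀ • ((u : G) : G ⧸ NA))) = d • (s₀ • ((u : G) : G ⧸ NA)) := by
    have : e₀ = d * (d⁻¹ * e₀ * d) * d⁻¹ := by group
    rw [this, mul_smul, mul_smul, inv_smul_smul, h5]
  have h7 : d • (s₀ • ((u : G) : G ⧸ NA)) ≠ s₀ • ((u : G) : G ⧸ NA) := by
    intro hh
    apply hβα
    have : d⁻¹ • (s₀ • ((u : G) : G ⧸ NA)) = s₀ • ((u : G) : G ⧸ NA) := by
      rw [inv_smul_eq_iff, hh]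
    rw [← this, ← hdα, inv_smul_smul]
  have h8 : d • (s₀ • ((u : G) : G ⧸ NA)) = ((1 : G) : G ⧸ NA) := by
    by_contra hne
    exact he₀1 (h.eq_one_of_fix_three e₀ _ _ _ hβα.symm (Ne.symm hne) (Ne.symm h7) (hα _ he₀N)
      hfix₀ h6)
  -- `d²` fixes `α`, so `d` does
  have h9 : (d ^ 2) • ((1 : G) : G ⧸ NA) = ((1 : G) : G ⧸ NA) := by
    rw [pow_two, mul_smul, hdα, h8]
  obtain ⟨j, hj⟩ := hoddD d hd
  have h10 : ∀ i : ℕ, ((d ^ 2) ^ i) • ((1 : G) : G ⧸ NA) = ((1 : G) : G ⧸ NA) := by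
    intro i
    induction i with
    | zero => simp
    | succ i ih => rw [pow_succ, mul_smul, h9, ih]
  have h11 : d ^ (2 * j + 1) = 1 := by rw [← hj]; exact pow_orderOf_eq_one d
  have h12 : d • ((1 : G) : G ⧸ NA) = ((1 : G) : G ⧸ NA) := by
    have hd' : d = (d ^ 2) ^ (j + 1) := by
      rw [← pow_mul]
      have : 2 * (j + 1) = (2 * j + 1) + 1 := by ring
      rw [this, pow_succ, h11, one_mul]
    rw [hd']; exact h10 (j + 1)
  rw [hdα] at h12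
  exact hβα h12

end Cfsg.Agent.Lib.Helper7.CAInv
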