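import Mathlib
import Cfsg.Agent.Lib.Helper7.CAInv8
import Cfsg.Agent.Lib.Helper7.CAGrp5
import Cfsg.Agent.S4065
import Cfsg.Agent.Lib.Helper1.SL2Torus
import Cfsg.Agent.Lib.Helper5.SL2Torus

set_option autoImplicit false
set_option linter.style.haveILetI false

/-!
Facts about groups isomorphic to `PSL(2, F)`, `F` a finite field of characteristic 2 with at least
four elements: the strong hypotheses hold for the centralizer of every involution, and these
centralizers have exponent 2; order; elements of order `q - 1`, `q + 1`.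
-/

namespace Cfsg.Agent.Lib.Helper7.CAInv

open Cfsg.Agent.Lib.Helper1 Cfsg.Agent.Lib.Helper3 Cfsg.Agent.Lib.Helper3.StrEmb
open Cfsg.Agent.Lib.Helper7.CAGrp (twoPt mk_ne_one_iff' Setup CT)

section
variable {F : Type*} [Field F] [CharP F 2]

/-- `SL(2, F) ≅ PSL(2, F)` in characteristic 2 -/
noncomputable def slEquivPsl :
    Matrix.SpecialLinearGroup (Fin 2) F ≃* Matrix.ProjectiveSpecialLinearGroup (Fin 2) F :=
  MulEquiv.ofBijective
    (QuotientGroup.mk' (Subgroup.center (Matrix.SpecialLinearGroup (Fin 2) F))) (by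
      constructor
      · rw [← MonoidHom.ker_eq_bot_iff, QuotientGroup.ker_mk']
        exact Cfsg.Agent.S4065.center_eq_bot
      · exact QuotientGroup.mk'_surjective _)

end

variable {X : Type*} [Group X] [Finite X] {F : Type*} [Field F] [Fintype F] [CharP F 2]

theorem card_of_equiv_psl (e : X ≃* Matrix.ProjectiveSpecialLinearGroup (Fin 2) F) :
    Nat.card X = Fintype.card F * (Fintype.card F ^ 2 - 1) := by
  rw [Nat.card_congr e.toEquiv, ← Nat.card_congr (slEquivPsl (F := F)).toEquiv,
    Cfsg.Agent.Lib.Helper1.card_SL2]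

theorem exists_orderOf_sub_one (e : X ≃* Matrix.ProjectiveSpecialLinearGroup (Fin 2) F) :
    ∃ g : X, orderOf g = Fintype.card F - 1 := by
  obtain ⟨g, hg⟩ := Cfsg.Agent.Lib.Helper5.exists_orderOf_eq_card_sub_one (F := F)
  refine ⟨e.symm (slEquivPsl g), ?_⟩
  rw [MulEquiv.orderOf_eq, MulEquiv.orderOf_eq, hg]

theorem exists_orderOf_add_one (e : X ≃* Matrix.ProjectiveSpecialLinearGroup (Fin 2) F) :
    ∃ g : X, orderOf g = Fintype.card F + 1 := by
  haveI : Fact (Nat.Prime 2) := ⟨Nat.prime_two⟩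
  obtain ⟨g, hg⟩ := Cfsg.Agent.Lib.Helper5.exists_orderOf_eq_card_add_one (F := F) 2
  refine ⟨e.symm (slEquivPsl g), ?_⟩
  rw [MulEquiv.orderOf_eq, MulEquiv.orderOf_eq, hg]

theorem ct_of_equiv_psl (e : X ≃* Matrix.ProjectiveSpecialLinearGroup (Fin 2) F) : CT X := by
  intro a b c ha hb hc hab hbc
  have hb' : e b ≠ 1 := fun hh => hb (e.injective (hh.trans (map_one e).symm))
  have h1 : e a * e b = e b * e a := by rw [← map_mul, ← map_mul, hab.eq]
  have h2 : e c * e b = e b * e c := by rw [← map_mul, ← map_mul, hbc.eq]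
  have h3 := Cfsg.Agent.S4065.psl_ca (e b) (e a) (e c) hb' h1 h2
  apply e.injective
  rw [map_mul, map_mul, h3]

theorem simple_of_equiv_psl (hF : 4 ≤ Fintype.card F)
    (e : X ≃* Matrix.ProjectiveSpecialLinearGroup (Fin 2) F) : IsSimpleGroup X := by
  haveI : IsSimpleGroup (Matrix.ProjectiveSpecialLinearGroup (Fin 2) F) :=
    Matrix.ProjectiveSpecialLinearGroup.rank_two_simple
      (by rw [Nat.card_eq_fintype_card]; exact hF)
  exact e.isSimpleGroup

theorem not_comm_of_equiv_psl (hF : 4 ≤ Fintype.card F)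
    (e : X ≃* Matrix.ProjectiveSpecialLinearGroup (Fin 2) F) {t : X} (ht : orderOf t = 2) :
    ¬ IsMulCommutative X := by
  intro hc
  haveI := hc
  haveI := simple_of_equiv_psl hF e
  have hn : (Subgroup.zpowers t).Normal :=
    ⟨fun n hn g => by rw [mul_comm' g n, mul_inv_cancel_right]; exact hn⟩
  have hcard := card_of_equiv_psl e
  rcases hn.eq_bot_or_eq_top with h1 | h1
  · have : t ∈ (⊥ : Subgroup X) := h1 ▸ Subgroup.mem_zpowers t
    exact ne_one_of_orderOf_two ht (Subgroup.mem_bot.mp this)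
  · have h2 : Nat.card (Subgroup.zpowers t) = Nat.card X := by
      rw [h1, Subgroup.card_top]
    rw [Nat.card_zpowers, ht, hcard] at h2
    have h3 : 16 ≤ Fintype.card F ^ 2 := by nlinarith
    have h4 : 15 ≤ Fintype.card F ^ 2 - 1 := by omega
    have h5 : 4 * 15 ≤ Fintype.card F * (Fintype.card F ^ 2 - 1) := Nat.mul_le_mul hF h4
    omega

/-- the strong hypotheses for the centralizer of an involution -/
theorem setup_of_equiv_psl (hF : 4 ≤ Fintype.card F)
    (e : X ≃* Matrix.ProjectiveSpecialLinearGroup (Fin 2) F) {t : X} (ht : orderOf t = 2) :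
    Setup (Subgroup.centralizer ({t} : Set X)) ∧
      ∀ c ∈ Subgroup.centralizer ({t} : Set X), c ^ 2 = 1 := by
  haveI := simple_of_equiv_psl hF e
  have hG := not_comm_of_equiv_psl hF e ht
  have hCT := ct_of_equiv_psl e
  exact ⟨hCT.setup hG ht, (hCT.centralizer_elementary hG t ht).2⟩

end Cfsg.Agent.Lib.Helper7.CAInv
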