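import Mathlib
import Cfsg.Agent.Lib.Helper7.CAInv9

set_option autoImplicit false
set_option linter.style.haveILetI false

/-!
The subgroup generated by the 2-elements; Sylow 2-subgroups of subgroups.
-/

namespace Cfsg.Agent.Lib.Helper7.CAInv

open Cfsg.Agent.Lib.Helper1 Cfsg.Agent.Lib.Helper3 Cfsg.Agent.Lib.Helper3.StrEmb

variable {G : Type*} [Group G]

theorem mem_twoGen_of_pow {x : G} {k : ℕ} (hx : x ^ (2 ^ k) = 1) : x ∈ twoGen G :=
  Subgroup.subset_closure ⟨k, hx⟩

theorem mem_twoGen_of_orderOf_two {x : G} (hx : orderOf x = 2) : x ∈ twoGen G := by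
  apply mem_twoGen_of_pow (k := 1)
  rw [pow_one, ← hx]
  exact pow_orderOf_eq_one x

theorem sylow_le_twoGen (T : Sylow 2 G) : (T : Subgroup G) ≤ twoGen G := by
  intro x hx
  obtain ⟨k, hk⟩ := exists_pow_of_mem_sylow T hx
  exact mem_twoGen_of_pow hk

instance twoGen_normal : (twoGen G).Normal := by
  refine ⟨fun n hn g => ?_⟩
  unfold twoGen at hn ⊢
  induction hn using Subgroup.closure_induction with
  | mem x hx =>
    obtain ⟨k, hk⟩ := hx
    apply Subgroup.subset_closure
    exact ⟨k, by rw [conj_pow, hk]; group⟩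
  | one => simp
  | mul x y _ _ hx hy =>
    have : g * (x * y) * g⁻¹ = (g * x * g⁻¹) * (g * y * g⁻¹) := by group
    rw [this]
    exact Subgroup.mul_mem _ hx hy
  | inv x _ hx =>
    have : g * x⁻¹ * g⁻¹ = (g * x * g⁻¹)⁻¹ := by group
    rw [this]
    exact Subgroup.inv_mem _ hx

/-- `twoGen G` is generated by its own 2-elements -/
theorem twoGen_twoGen : twoGen ↥(twoGen G) = ⊤ := by
  have h1 : Subgroup.closure (((↑) : ↥(twoGen G) → G) ⁻¹' {g : G | ∃ k : ℕ, g ^ (2 ^ k) = 1}) = ⊤ :=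
    Subgroup.closure_closure_coe_preimage
  rw [eq_top_iff, ← h1]
  unfold twoGen
  apply Subgroup.closure_mono
  rintro x ⟨k, hk⟩
  exact ⟨k, Subtype.ext (by simpa using hk)⟩

/-- the image of `twoGen` under a surjective homomorphism -/
theorem twoGen_eq_top_of_surjective {H : Type*} [Group H] (f : G →* H)
    (hf : Function.Surjective f) (hG : twoGen G = ⊤) : twoGen H = ⊤ := by
  rw [eq_top_iff, ← Subgroup.map_top_of_surjective f hf, ← hG]
  unfold twoGen
  rw [MonoidHom.map_closure]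
  apply Subgroup.closure_mono
  rintro y ⟨x, ⟨k, hk⟩, rfl⟩
  exact ⟨k, by rw [← map_pow, hk, map_one]⟩

variable [Finite G]

/-- the Sylow 2-subgroup `T` as a Sylow subgroup of a subgroup `H ≥ T` not contained in `N_G(T)` -/
theorem sylow_subtype_hyp (T : Sylow 2 G) (hnc : ¬ IsCyclic ↥(T : Subgroup G)) {H : Subgroup G}
    (hle : (T : Subgroup G) ≤ H)
    (hH : ¬ H ≤ Subgroup.normalizer ((T : Subgroup G) : Set G)) :
    ¬ IsCyclic ↥((T.subtype hle : Sylow 2 ↥H) : Subgroup ↥H) ∧
      ¬ ((T.subtype hle : Sylow 2 ↥H) : Subgroup ↥H).Normal := by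
  rw [Sylow.coe_subtype]
  constructor
  · intro hc
    apply hnc
    exact isCyclic_of_surjective (Subgroup.subgroupOfEquivOfLe hle).toMonoidHom
      (Subgroup.subgroupOfEquivOfLe hle).surjective
  · intro hn
    exact hH ((Subgroup.normal_subgroupOf_iff_le_normalizer hle).mp hn)

end Cfsg.Agent.Lib.Helper7.CAInv
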