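import Mathlib
import Cfsg.Agent.Lib.Helper7.CAInv10

set_option autoImplicit false
set_option linter.style.haveILetI false

/-!
Internal direct products with the centre; the quotient by a centre of odd order.
-/

namespace Cfsg.Agent.Lib.Helper7.CAInv

open Cfsg.Agent.Lib.Helper1 Cfsg.Agent.Lib.Helper3 Cfsg.Agent.Lib.Helper3.StrEmb

variable {G : Type*} [Group G]

/-- `K ≃* G ⧸ Z` when `G = K × Z` internally -/
noncomputable def equivQuotientOfCompl {K Z : Subgroup G} [Z.Normal] (h1 : K ⊓ Z = ⊥)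
    (h2 : K ⊔ Z = ⊤) : ↥K ≃* G ⧸ Z :=
  MulEquiv.ofBijective ((QuotientGroup.mk' Z).comp K.subtype) (by
    constructor
    · rw [injective_iff_map_eq_one]
      intro k hk
      have hk' : ((k : G) : G ⧸ Z) = 1 := hk
      rw [QuotientGroup.eq_one_iff] at hk'
      have : (k : G) ∈ K ⊓ Z := ⟨k.2, hk'⟩
      rw [h1, Subgroup.mem_bot] at this
      exact Subtype.ext this
    · intro x
      obtain ⟨g, rfl⟩ := QuotientGroup.mk_surjective x
      have hg : g ∈ ((K ⊔ Z : Subgroup G) : Set G) := by rw [h2]; exact Set.mem_univ g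
      rw [Subgroup.mul_normal] at hg
      obtain ⟨k, hk, z, hz, rfl⟩ := Set.mem_mul.mp hg
      refine ⟨⟨k, hk⟩, ?_⟩
      show ((k : G) : G ⧸ Z) = ((k * z : G) : G ⧸ Z)
      rw [QuotientGroup.eq]
      have : k⁻¹ * (k * z) = z := by group
      rw [this]; exact hz)

/-- `K × Z(G) ≃* G` when `G = K × Z(G)` internally -/
noncomputable def prodEquivOfCompl {K : Subgroup G} (h1 : K ⊓ Subgroup.center G = ⊥)
    (h2 : K ⊔ Subgroup.center G = ⊤) : ↥K × ↥(Subgroup.center G) ≃* G :=
  MulEquiv.ofBijective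
    ({ toFun := fun p => (p.1 : G) * (p.2 : G)
       map_one' := by simp
       map_mul' := fun p q => by
        have hc : (p.2 : G) * (q.1 : G) = (q.1 : G) * (p.2 : G) :=
          (Subgroup.mem_center_iff.mp p.2.2 (q.1 : G)).symm
        simp only [Prod.fst_mul, Prod.snd_mul, Subgroup.coe_mul]
        calc (p.1 : G) * q.1 * (p.2 * q.2) = (p.1 : G) * (q.1 * p.2) * q.2 := by group
          _ = (p.1 : G) * (p.2 * q.1) * q.2 := by rw [hc]
          _ = (p.1 : G) * p.2 * (q.1 * q.2) := by group } : ↥K × ↥(Subgroup.center G) →* G) (by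
    constructor
    · rw [injective_iff_map_eq_one]
      rintro ⟨k, z⟩ hkz
      have hkz' : (k : G) * (z : G) = 1 := hkz
      have hk : (k : G) = (z : G)⁻¹ := eq_inv_of_mul_eq_one_left hkz'
      have : (k : G) ∈ K ⊓ Subgroup.center G := ⟨k.2, by rw [hk]; exact Subgroup.inv_mem _ z.2⟩
      rw [h1, Subgroup.mem_bot] at this
      have hz : (z : G) = 1 := by rw [this, one_mul] at hkz'; exact hkz'
      exact Prod.ext (Subtype.ext this) (Subtype.ext hz)
    · intro g
      have hg : g ∈ ((K ⊔ Subgroup.center G : Subgroup G) : Set G) := by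
        rw [h2]; exact Set.mem_univ g
      rw [Subgroup.mul_normal] at hg
      obtain ⟨k, hk, z, hz, rfl⟩ := Set.mem_mul.mp hg
      exact ⟨(⟨k, hk⟩, ⟨z, hz⟩), rfl⟩)

variable [Finite G]

/-- a 2-element of a subgroup of odd order is trivial -/
theorem eq_one_of_pow_of_mem_odd {Z : Subgroup G} (hZ : Odd (Nat.card Z)) {z : G} (hz : z ∈ Z)
    {k : ℕ} (hk : z ^ (2 ^ k) = 1) : z = 1 := by
  have h1 : orderOf z ∣ 2 ^ k := orderOf_dvd_of_pow_eq_one hk
  have h2 : orderOf z ∣ Nat.card Z := by
    have : orderOf (⟨z, hz⟩ : Z) ∣ Nat.card Z := orderOf_dvd_natCard _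
    rwa [← Subgroup.orderOf_coe] at this
  have h3 : orderOf z ∣ Nat.gcd (2 ^ k) (Nat.card Z) := Nat.dvd_gcd h1 h2
  have h4 : Nat.Coprime (2 ^ k) (Nat.card Z) := (Nat.coprime_two_left.mpr hZ).pow_left k
  rw [h4] at h3
  exact orderOf_eq_one_iff.mp (Nat.dvd_one.mp h3)

section quot

variable (hZ : Odd (Nat.card (Subgroup.center G)))
include hZ

/-- involutions of `G ⧸ Z(G)` lift to involutions -/
theorem exists_involution_lift {x : G ⧸ Subgroup.center G} (hx : orderOf x = 2) :
    ∃ t : G, orderOf t = 2 ∧ ((t : G) : G ⧸ Subgroup.center G) = x := by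
  obtain ⟨g, rfl⟩ := QuotientGroup.mk_surjective x
  have hxx := invol_mul_self hx
  have hgg : g * g ∈ Subgroup.center G := by
    rw [← QuotientGroup.eq_one_iff, QuotientGroup.mk_mul]; exact hxx
  obtain ⟨j, hj⟩ := hZ
  have hpow : (g * g) ^ Nat.card (Subgroup.center G) = 1 := by
    have : (⟨g * g, hgg⟩ : Subgroup.center G) ^ Nat.card (Subgroup.center G) = 1 :=
      pow_card_eq_one'
    have h2 := congrArg Subtype.val this
    rw [Subgroup.coe_pow, Subgroup.coe_one] at h2
    exact h2
  have hmk : ((g ^ Nat.card (Subgroup.center G) : G) : G ⧸ Subgroup.center G) = (g : G) := by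
    rw [QuotientGroup.mk_pow, hj, pow_succ, pow_mul, pow_two, hxx, one_pow, one_mul]
  refine ⟨g ^ Nat.card (Subgroup.center G), ?_, hmk⟩
  apply orderOf_two_of_mul_self
  · rw [← pow_two, ← pow_mul, mul_comm, pow_mul, pow_two]; exact hpow
  · intro h1
    rw [h1, QuotientGroup.mk_one] at hmk
    rw [← hmk, orderOf_one] at hx
    omega

/-- commuting with an involution modulo the centre means commuting -/
theorem commute_of_mk_commute {t x : G} (ht : orderOf t = 2)
    (h : ((x : G) : G ⧸ Subgroup.center G) * (t : G) = (t : G) * (x : G)) : x * t = t * x := by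
  rw [← QuotientGroup.mk_mul, ← QuotientGroup.mk_mul, QuotientGroup.eq] at h
  obtain ⟨z, hz⟩ : ∃ z : G, z = (x * t)⁻¹ * (t * x) := ⟨_, rfl⟩
  rw [← hz] at h
  have hzc : ∀ g : G, g * z = z * g := Subgroup.mem_center_iff.mp h
  have htt := invol_mul_self ht
  have e1 : x⁻¹ * t * x = t * z := by rw [hz]; group
  have hzz : z * z = 1 := by
    have h1 : (t * z) * (t * z) = 1 := by
      rw [← e1]
      calc x⁻¹ * t * x * (x⁻¹ * t * x) = x⁻¹ * (t * t) * x := by group
        _ = 1 := by rw [htt]; group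
    calc z * z = (t * t) * (z * z) := by rw [htt, one_mul]
      _ = t * (t * z) * z := by group
      _ = t * (z * t) * z := by rw [hzc t]
      _ = (t * z) * (t * z) := by group
      _ = 1 := h1
  have hodd : Odd (orderOf z) := by
    have : orderOf (⟨z, h⟩ : Subgroup.center G) ∣ Nat.card (Subgroup.center G) :=
      orderOf_dvd_natCard _
    rw [← Subgroup.orderOf_coe] at this
    exact Odd.of_dvd_nat hZ this
  have hz1 := eq_one_of_odd_of_mul_self z hodd hzz
  rw [hz1] at hz
  calc x * t = (x * t) * ((x * t)⁻¹ * (t * x)) := by rw [← hz, mul_one]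
    _ = t * x := by group

theorem InvAb.quotient (h : InvAb G) : InvAb (G ⧸ Subgroup.center G) := by
  intro t ht x y hx hy
  obtain ⟨t', ht', rfl⟩ := exists_involution_lift hZ ht
  obtain ⟨x', rfl⟩ := QuotientGroup.mk_surjective x
  obtain ⟨y', rfl⟩ := QuotientGroup.mk_surjective y
  have h1 := commute_of_mk_commute hZ ht' hx
  have h2 := commute_of_mk_commute hZ ht' hy
  rw [← QuotientGroup.mk_mul, ← QuotientGroup.mk_mul, h t' ht' x' y' h1 h2]

/-- a 2-element whose image lies in the image of a Sylow 2-subgroup lies in that subgroup -/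
theorem mem_sylow_of_mk_mem (T : Sylow 2 G) {w : G} {k : ℕ} (hw : w ^ (2 ^ k) = 1)
    (h : ((w : G) : G ⧸ Subgroup.center G) ∈
      (T : Subgroup G).map (QuotientGroup.mk' (Subgroup.center G))) : w ∈ (T : Subgroup G) := by
  obtain ⟨y, hy, hyw⟩ := h
  have hyw' : ((y : G) : G ⧸ Subgroup.center G) = (w : G) := hyw
  rw [QuotientGroup.eq] at hyw'
  obtain ⟨j, hj⟩ := exists_pow_of_mem_sylow T hy
  have hzc : ∀ g : G, g * (y⁻¹ * w) = (y⁻¹ * w) * g := Subgroup.mem_center_iff.mp hyw'
  have hcomm : Commute y (y⁻¹ * w) := hzc y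
  have hw' : w = y * (y⁻¹ * w) := by group
  have hpow : (y⁻¹ * w) ^ (2 ^ (k + j)) = 1 := by
    have h1 : w ^ (2 ^ (k + j)) = 1 := by rw [pow_add, pow_mul, hw, one_pow]
    have h2 : y ^ (2 ^ (k + j)) = 1 := by rw [pow_add, mul_comm, pow_mul, hj, one_pow]
    have h3 : w ^ (2 ^ (k + j)) = y ^ (2 ^ (k + j)) * (y⁻¹ * w) ^ (2 ^ (k + j)) := by
      conv_lhs => rw [hw']
      exact hcomm.mul_pow _
    rw [h1, h2, one_mul] at h3
    exact h3.symm
  have hz1 := eq_one_of_pow_of_mem_odd hZ hyw' hpow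
  rw [hw', hz1, mul_one]; exact hy

/-- the image of a non-cyclic, non-normal Sylow 2-subgroup is non-cyclic and not normal -/
theorem sylow_quotient_hyp (T : Sylow 2 G) (hnc : ¬ IsCyclic ↥(T : Subgroup G))
    (hnn : ¬ (T : Subgroup G).Normal) :
    ¬ IsCyclic ↥((T.mapSurjective (QuotientGroup.mk'_surjective (Subgroup.center G)) :
        Sylow 2 (G ⧸ Subgroup.center G)) : Subgroup (G ⧸ Subgroup.center G)) ∧
      ¬ ((T.mapSurjective (QuotientGroup.mk'_surjective (Subgroup.center G)) :
        Sylow 2 (G ⧸ Subgroup.center G)) : Subgroup (G ⧸ Subgroup.center G)).Normal := by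
  rw [Sylow.coe_mapSurjective]
  constructor
  · intro hc
    apply hnc
    let f : ↥(T : Subgroup G) →* G ⧸ Subgroup.center G :=
      (QuotientGroup.mk' (Subgroup.center G)).comp (T : Subgroup G).subtype
    have hf : Function.Injective f := by
      rw [injective_iff_map_eq_one]
      intro x hx
      have hx' : (((x : G)) : G ⧸ Subgroup.center G) = 1 := hx
      rw [QuotientGroup.eq_one_iff] at hx'
      obtain ⟨k, hk⟩ := exists_pow_of_mem_sylow T x.2
      exact Subtype.ext (eq_one_of_pow_of_mem_odd hZ hx' hk)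
    have hrange : f.range = (T : Subgroup G).map (QuotientGroup.mk' (Subgroup.center G)) := by
      rw [MonoidHom.range_comp, Subgroup.range_subtype]
    have e := MonoidHom.ofInjective hf
    rw [← hrange] at hc
    exact isCyclic_of_surjective e.symm.toMonoidHom e.symm.surjective
  · intro hn
    apply hnn
    refine ⟨fun x hx g => ?_⟩
    obtain ⟨k, hk⟩ := exists_pow_of_mem_sylow T hx
    apply mem_sylow_of_mk_mem hZ T (k := k)
    · rw [conj_pow, hk]; group
    · have h1 : ((x : G) : G ⧸ Subgroup.center G) ∈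
          (T : Subgroup G).map (QuotientGroup.mk' (Subgroup.center G)) := ⟨x, hx, rfl⟩
      have h2 := hn.conj_mem _ h1 (g : G ⧸ Subgroup.center G)
      simpa using h2

end quot

theorem card_quotient_center_lt (hZ : Subgroup.center G ≠ ⊥) :
    Nat.card (G ⧸ Subgroup.center G) < Nat.card G := by
  have h1 := Subgroup.card_eq_card_quotient_mul_card_subgroup (Subgroup.center G)
  have h2 : 1 < Nat.card (Subgroup.center G) := by
    rw [Subgroup.one_lt_card_iff_ne_bot]; exact hZ
  have h3 : 0 < Nat.card (G ⧸ Subgroup.center G) := Nat.card_pos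
  rw [h1]
  nlinarith

end Cfsg.Agent.Lib.Helper7.CAInv
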