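import Mathlib
import Cfsg.Agent.Lib.Helper7.CAInv11

set_option autoImplicit false
set_option linter.style.haveILetI false

/-!
The conclusion of the main theorem and the case `twoGen G < G` of the induction.
-/

namespace Cfsg.Agent.Lib.Helper7.CAInv

open Cfsg.Agent.Lib.Helper1 Cfsg.Agent.Lib.Helper3 Cfsg.Agent.Lib.Helper3.StrEmb
open Cfsg.Agent.Lib.Helper7.CAGrp (Setup)

universe u

/-- the conclusion: `G = twoGen G × Z(G)` with `twoGen G ≅ PSL(2, F)` and `Z(G)` of odd order -/
def Concl (G : Type u) [Group G] : Prop :=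
  ∃ (F : Type) (_ : Field F) (_ : Fintype F), CharP F 2 ∧ 4 ≤ Fintype.card F ∧
    Nonempty (↥(twoGen G) ≃* Matrix.ProjectiveSpecialLinearGroup (Fin 2) F) ∧
    twoGen G ⊓ Subgroup.center G = ⊥ ∧ twoGen G ⊔ Subgroup.center G = ⊤ ∧
    Odd (Nat.card (Subgroup.center G))

theorem Concl.equiv_of_twoGen_eq_top {X : Type u} [Group X] (h : Concl X) (htop : twoGen X = ⊤) :
    ∃ (F : Type) (_ : Field F) (_ : Fintype F), CharP F 2 ∧ 4 ≤ Fintype.card F ∧
      Nonempty (X ≃* Matrix.ProjectiveSpecialLinearGroup (Fin 2) F) ∧ Subgroup.center X = ⊥ := by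
  obtain ⟨F, i1, i2, hchar, hF, ⟨e⟩, hinf, -, -⟩ := h
  refine ⟨F, i1, i2, hchar, hF, ⟨?_⟩, ?_⟩
  · exact (Subgroup.topEquiv.symm.trans (MulEquiv.subgroupCongr htop).symm).trans e
  · rw [htop, top_inf_eq] at hinf
    exact hinf

variable {G : Type u} [Group G] [Finite G]

/-- an element is a product of a power of its square and an odd power -/
theorem eq_inv_sq_pow_mul (x : G) (c : ℕ) : x = ((x * x) ^ c)⁻¹ * x ^ (2 * c + 1) := by
  rw [pow_succ, pow_mul, pow_two]; group

/-- the case `twoGen G < G` -/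
theorem case_lt (hIA : InvAb G) (T : Sylow 2 G) (hnc : ¬ IsCyclic ↥(T : Subgroup G))
    (hnn : ¬ (T : Subgroup G).Normal)
    (IH : InvAb ↥(twoGen G) → ∀ T' : Sylow 2 ↥(twoGen G), ¬ IsCyclic ↥(T' : Subgroup ↥(twoGen G)) →
      ¬ (T' : Subgroup ↥(twoGen G)).Normal → Concl ↥(twoGen G)) : Concl G := by
  obtain ⟨s, hs, -, -, hs2, -, -⟩ :=
    exists_two_involutions T (fun x hx y hy => hIA.sylow_comm T hx hy) hnc
  have h1 := hIA.setup1 T hnc hnn hs hs2
  have hle : (T : Subgroup G) ≤ twoGen G := sylow_le_twoGen T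
  obtain ⟨u, hu, huN⟩ := h1.exists_involution_notMem
  have hKN : ¬ twoGen G ≤ Subgroup.normalizer ((T : Subgroup G) : Set G) := by
    intro hh
    exact huN (hIA.normalizer_sylow_le T hnc hnn hs hs2 (hh (mem_twoGen_of_orderOf_two hu)))
  obtain ⟨hnc', hnn'⟩ := sylow_subtype_hyp T hnc hle hKN
  have hC := IH (hIA.subgroup _) (T.subtype hle) hnc' hnn'
  obtain ⟨F, i1, i2, hchar, hF, ⟨eK⟩, hcenK⟩ := hC.equiv_of_twoGen_eq_top twoGen_twoGen
  -- the involution `s` in `K`
  have hsK2 : orderOf (⟨s, hle hs⟩ : ↥(twoGen G)) = 2 := by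
    rw [← Subgroup.orderOf_coe]; exact hs2
  obtain ⟨hS, hexp⟩ := setup_of_equiv_psl hF eK hsK2
  have hAcomm : ∀ x y : G, x * s = s * x → y * s = s * y → x * y = y * x :=
    fun x y hx hy => hIA s hs2 x y hx hy
  -- squares of elements of `A` centralize `K`
  have hsq : ∀ x : G, x * s = s * x → ∀ k ∈ twoGen G, (x * x) * k = k * (x * x) := by
    intro x hx
    have hfix : ∀ a ∈ Subgroup.centralizer ({(⟨s, hle hs⟩ : ↥(twoGen G))} : Set ↥(twoGen G)),
        (MulAut.conjNormal x : MulAut ↥(twoGen G)) a = a := by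
      intro a ha
      rw [Subgroup.mem_centralizer_singleton_iff] at ha
      have ha' : (a : G) * s = s * (a : G) := congrArg Subtype.val ha
      apply Subtype.ext
      rw [MulAut.conjNormal_apply, hAcomm x a hx ha']
      group
    obtain ⟨p, hp, hτ⟩ := autFix hS (MulAut.conjNormal x : MulAut ↥(twoGen G)) hfix
    have hpp : (p : G) * (p : G) = 1 := by
      have := hexp p hp
      rw [pow_two] at this
      exact congrArg Subtype.val this
    have hconj : ∀ k ∈ twoGen G, x * k * x⁻¹ = (p : G) * k * (p : G)⁻¹ := by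
      intro k hk
      have := congrArg Subtype.val (hτ ⟨k, hk⟩)
      rw [MulAut.conjNormal_apply] at this
      simpa using this
    intro k hk
    have hk' : x * k * x⁻¹ ∈ twoGen G := twoGen_normal.conj_mem k hk x
    have e1 := hconj _ hk'
    rw [hconj k hk] at e1
    have hpi : (p : G)⁻¹ = (p : G) := inv_eq_of_mul_eq_one_right hpp
    have e2 : x * (x * k * x⁻¹) * x⁻¹ = k := by
      rw [hconj _ hk', hconj k hk, hpi]
      calc (p : G) * ((p : G) * k * (p : G)) * (p : G) = ((p : G) * p) * k * ((p : G) * p) := by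
            group
        _ = k := by rw [hpp, one_mul, mul_one]
    calc (x * x) * k = (x * (x * k * x⁻¹) * x⁻¹) * (x * x) := by group
      _ = k * (x * x) := by rw [e2]
  -- `A ≤ K ⊔ C_G(K)`
  have hAle : ∀ x : G, x * s = s * x →
      x ∈ twoGen G ⊔ Subgroup.centralizer ((twoGen G : Subgroup G) : Set G) := by
    intro x hx
    have hpos : orderOf x ≠ 0 := (orderOf_pos x).ne'
    obtain ⟨a, b, ⟨c, rfl⟩, hab⟩ := Nat.exists_eq_two_pow_mul_odd hpos
    rw [eq_inv_sq_pow_mul x c]
    apply Subgroup.mul_mem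
    · apply Subgroup.inv_mem
      apply Subgroup.pow_mem
      apply (le_sup_right : Subgroup.centralizer ((twoGen G : Subgroup G) : Set G) ≤ _)
      rw [Subgroup.mem_centralizer_iff]
      intro k hk
      exact (hsq x hx k hk).symm
    · apply (le_sup_left : twoGen G ≤ _)
      apply mem_twoGen_of_pow (k := a)
      rw [← pow_mul, mul_comm, ← hab]
      exact pow_orderOf_eq_one x
  -- `G = K ⊔ C_G(K)`
  have htop : twoGen G ⊔ Subgroup.centralizer ((twoGen G : Subgroup G) : Set G) = ⊤ := by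
    rw [eq_top_iff]
    intro g _
    obtain ⟨uK, huK, huKN⟩ := hS.exists_involution_notMem
    have hgs : g * s * g⁻¹ ∈ twoGen G := twoGen_normal.conj_mem s (hle hs) g
    have hgs2 : orderOf (⟨g * s * g⁻¹, hgs⟩ : ↥(twoGen G)) = 2 := by
      rw [← Subgroup.orderOf_coe, orderOf_conj]; exact hs2
    have hconj := isConj_of_involutions hS.stronglyEmbedded huK huKN hsK2 hgs2
    rw [isConj_iff] at hconj
    obtain ⟨k, hk⟩ := hconj
    have hk' : (k : G) * s * (k : G)⁻¹ = g * s * g⁻¹ := by
      have := congrArg Subtype.val hk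
      simpa using this
    have hmem : (k : G)⁻¹ * g ∈
        twoGen G ⊔ Subgroup.centralizer ((twoGen G : Subgroup G) : Set G) := by
      apply hAle
      calc (k : G)⁻¹ * g * s = (k : G)⁻¹ * (g * s * g⁻¹) * g := by group
        _ = (k : G)⁻¹ * ((k : G) * s * (k : G)⁻¹) * g := by rw [hk']
        _ = s * ((k : G)⁻¹ * g) := by group
    have : g = (k : G) * ((k : G)⁻¹ * g) := by group
    rw [this]
    exact Subgroup.mul_mem _ ((le_sup_left : twoGen G ≤ _) k.2) hmem
  -- `C_G(K) ≤ Z(G)`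
  have hCle : Subgroup.centralizer ((twoGen G : Subgroup G) : Set G) ≤ Subgroup.center G := by
    intro c hc
    rw [Subgroup.mem_centralizer_iff] at hc
    have hcs : c * s = s * c := (hc s (hle hs)).symm
    have hall : (⊤ : Subgroup G) ≤ Subgroup.centralizer ({c} : Set G) := by
      rw [← htop]
      apply sup_le
      · intro k hk
        rw [Subgroup.mem_centralizer_singleton_iff]
        exact hc k hk
      · intro c' hc'
        rw [Subgroup.mem_centralizer_iff] at hc'
        rw [Subgroup.mem_centralizer_singleton_iff]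
        exact hAcomm c' c (hc' s (hle hs)).symm hcs
    rw [Subgroup.mem_center_iff]
    intro g
    have := hall (Subgroup.mem_top g)
    rw [Subgroup.mem_centralizer_singleton_iff] at this
    exact this
  have hinf : twoGen G ⊓ Subgroup.center G = ⊥ := by
    rw [eq_bot_iff]
    rintro x ⟨hxK, hxZ⟩
    have hxc : (⟨x, hxK⟩ : ↥(twoGen G)) ∈ Subgroup.center ↥(twoGen G) := by
      rw [Subgroup.mem_center_iff]
      intro g
      apply Subtype.ext
      exact Subgroup.mem_center_iff.mp hxZ g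
    rw [hcenK, Subgroup.mem_bot] at hxc
    rw [Subgroup.mem_bot]
    exact congrArg Subtype.val hxc
  refine ⟨F, i1, i2, hchar, hF, ⟨eK⟩, hinf, ?_, ?_⟩
  · rw [eq_top_iff, ← htop]
    exact sup_le_sup_left hCle _
  · rw [← Nat.not_even_iff_odd, even_card_iff_exists_involution]
    rintro ⟨z, hz, hz2⟩
    have : z ∈ twoGen G ⊓ Subgroup.center G := ⟨mem_twoGen_of_orderOf_two hz2, hz⟩
    rw [hinf, Subgroup.mem_bot] at this
    exact ne_one_of_orderOf_two hz2 this

end Cfsg.Agent.Lib.Helper7.CAInv
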