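import Mathlib
import Cfsg.Agent.Lib.Helper7.CAInv12

set_option autoImplicit false
set_option linter.style.haveILetI false

/-!
Central extensions: a group generated by its 2-elements whose quotient by the centre (of odd
order) is `PSL(2, 2^n)` has trivial centre.  The case `twoGen G = G`, `Z(G) ≠ 1` of the induction.
-/

namespace Cfsg.Agent.Lib.Helper7.CAInv

open Cfsg.Agent.Lib.Helper1 Cfsg.Agent.Lib.Helper3 Cfsg.Agent.Lib.Helper3.StrEmb

universe u

variable {G : Type u} [Group G] [Finite G]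

/-- transfer into the preimage of a cyclic subgroup of odd order of `G ⧸ Z(G)` -/
theorem pow_index_eq_one_of_odd (hgen : twoGen G = ⊤) (hZ : Odd (Nat.card (Subgroup.center G)))
    (g' : G ⧸ Subgroup.center G) (hodd : Odd (orderOf g')) {z : G}
    (hz : z ∈ Subgroup.center G) : z ^ (Subgroup.zpowers g').index = 1 := by
  obtain ⟨C, hC⟩ : ∃ C : Subgroup G,
      C = (Subgroup.zpowers g').comap (QuotientGroup.mk' (Subgroup.center G)) := ⟨_, rfl⟩
  have hmemC : ∀ c : G, c ∈ C ↔ ((c : G) : G ⧸ Subgroup.center G) ∈ Subgroup.zpowers g' := by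
    intro c
    rw [hC, Subgroup.mem_comap]
    rfl
  have hZC : Subgroup.center G ≤ C := by
    intro c hc
    rw [hmemC, (QuotientGroup.eq_one_iff c).mpr hc]
    exact Subgroup.one_mem _
  -- `C` is commutative
  let f : ↥C →* ↥(Subgroup.zpowers g') :=
    ((QuotientGroup.mk' (Subgroup.center G)).comp C.subtype).codRestrict (Subgroup.zpowers g')
      (fun c => (hmemC c).mp c.2)
  have hf : f.ker ≤ Subgroup.center ↥C := by
    intro c hc
    rw [MonoidHom.mem_ker] at hc
    have h1 : (((c : G)) : G ⧸ Subgroup.center G) = 1 := congrArg Subtype.val hc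
    rw [QuotientGroup.eq_one_iff] at h1
    rw [Subgroup.mem_center_iff]
    intro d
    apply Subtype.ext
    exact Subgroup.mem_center_iff.mp h1 d
  have hcomm : IsMulCommutative ↥C := f.isMulCommutative_of_isCyclic_of_ker_le_center hf
  -- `C` has odd order
  have hCodd : Odd (Nat.card C) := by
    rw [← Nat.not_even_iff_odd, even_card_iff_exists_involution]
    rintro ⟨t, ht, ht2⟩
    have h1 : ((t : G) : G ⧸ Subgroup.center G) ∈ Subgroup.zpowers g' := (hmemC t).mp ht
    have h2 : orderOf ((t : G) : G ⧸ Subgroup.center G) ∣ orderOf g' := by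
      exact orderOf_dvd_of_mem_zpowers h1
    have h3 : orderOf ((t : G) : G ⧸ Subgroup.center G) ∣ 2 := by
      apply orderOf_dvd_of_pow_eq_one
      rw [← QuotientGroup.mk_pow, ← ht2, pow_orderOf_eq_one, QuotientGroup.mk_one]
    have h4 : orderOf ((t : G) : G ⧸ Subgroup.center G) = 1 := by
      rcases (Nat.dvd_prime Nat.prime_two).mp h3 with h | h
      · exact h
      · exfalso
        rw [h] at h2
        have := Odd.of_dvd_nat hodd h2
        exact absurd this (by decide)
    rw [orderOf_eq_one_iff, QuotientGroup.eq_one_iff] at h4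
    have h5 := eq_one_of_pow_of_mem_odd hZ h4 (k := 1) (by rw [pow_one, ← ht2]; exact pow_orderOf_eq_one t)
    exact ne_one_of_orderOf_two ht2 h5
  letI : CommGroup ↥C := { (inferInstance : Group ↥C) with mul_comm := fun a b => mul_comm' a b }
  have hV : MonoidHom.transfer (MonoidHom.id ↥C) z = 1 :=
    hom_eq_one_of_mem_twoGen hCodd _ (hgen ▸ Subgroup.mem_top z)
  have key : ∀ (k : ℕ) (g₀ : G), g₀⁻¹ * z ^ k * g₀ ∈ C → g₀⁻¹ * z ^ k * g₀ = z ^ k := by
    intro k g₀ _
    have h1 : z ^ k ∈ Subgroup.center G := Subgroup.pow_mem _ hz k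
    have h2 := Subgroup.mem_center_iff.mp h1 g₀
    rw [mul_assoc, ← h2]; group
  rw [MonoidHom.transfer_eq_pow (MonoidHom.id ↥C) z key] at hV
  have h1 := congrArg Subtype.val hV
  simp only [MonoidHom.id_apply, Subgroup.coe_one] at h1
  have h2 := Subgroup.index_comap_of_surjective (H := Subgroup.zpowers g')
    (QuotientGroup.mk'_surjective (Subgroup.center G))
  rw [hC, h2] at h1
  exact h1

/-- the centre is trivial -/
theorem center_eq_bot_of_quotient_psl (hgen : twoGen G = ⊤)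
    (hZ : Odd (Nat.card (Subgroup.center G))) {F : Type} [Field F] [Fintype F] [CharP F 2]
    (e : G ⧸ Subgroup.center G ≃* Matrix.ProjectiveSpecialLinearGroup (Fin 2) F) :
    Subgroup.center G = ⊥ := by
  haveI : Fact (Nat.Prime 2) := ⟨Nat.prime_two⟩
  obtain ⟨n, -, hq⟩ := FiniteField.card F 2
  obtain ⟨q, hqdef⟩ : ∃ q : ℕ, q = Fintype.card F := ⟨_, rfl⟩
  rw [← hqdef] at hq
  have hq2 : 2 ≤ q := by
    rw [hq]
    calc 2 = 2 ^ 1 := by norm_num
      _ ≤ 2 ^ (n : ℕ) := Nat.pow_le_pow_right (by norm_num) n.pos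
  have hqeven : Even q := by
    rw [hq]
    exact (Nat.even_pow' n.pos.ne').mpr even_two
  have hcard : Nat.card (G ⧸ Subgroup.center G) = q * (q ^ 2 - 1) := by
    rw [hqdef]; exact card_of_equiv_psl e
  obtain ⟨g₁, hg₁⟩ := exists_orderOf_sub_one e
  obtain ⟨g₂, hg₂⟩ := exists_orderOf_add_one e
  rw [← hqdef] at hg₁ hg₂
  have hodd1 : Odd (orderOf g₁) := by
    rw [hg₁]
    exact Nat.Even.sub_odd (by omega) hqeven odd_one
  have hodd2 : Odd (orderOf g₂) := by
    rw [hg₂]
    exact hqeven.add_one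
  have hi1 : (Subgroup.zpowers g₁).index = q * (q + 1) := by
    have h1 := Subgroup.index_mul_card (Subgroup.zpowers g₁)
    rw [Nat.card_zpowers, hg₁, hcard] at h1
    have h2 : q ^ 2 - 1 = (q + 1) * (q - 1) := by
      obtain ⟨m, rfl⟩ : ∃ m, q = m + 1 := ⟨q - 1, by omega⟩
      have : (m + 1) ^ 2 = (m + 1 + 1) * m + 1 := by ring
      rw [this]; simp
    rw [h2, ← mul_assoc] at h1
    exact Nat.eq_of_mul_eq_mul_right (by omega) h1
  have hi2 : (Subgroup.zpowers g₂).index = q * (q - 1) := by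
    have h1 := Subgroup.index_mul_card (Subgroup.zpowers g₂)
    rw [Nat.card_zpowers, hg₂, hcard] at h1
    have h2 : q ^ 2 - 1 = (q - 1) * (q + 1) := by
      obtain ⟨m, rfl⟩ : ∃ m, q = m + 1 := ⟨q - 1, by omega⟩
      have : (m + 1) ^ 2 = m * (m + 1 + 1) + 1 := by ring
      rw [this]; simp
    rw [h2, ← mul_assoc] at h1
    exact Nat.eq_of_mul_eq_mul_right (by omega) h1
  rw [Subgroup.eq_bot_iff_forall]
  intro z hz
  have h1 := pow_index_eq_one_of_odd hgen hZ g₁ hodd1 hz
  have h2 := pow_index_eq_one_of_odd hgen hZ g₂ hodd2 hz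
  rw [hi1] at h1
  rw [hi2] at h2
  have h3 : orderOf z ∣ q * (q + 1) - q * (q - 1) :=
    Nat.dvd_sub (orderOf_dvd_of_pow_eq_one h1) (orderOf_dvd_of_pow_eq_one h2)
  have h4 : q * (q + 1) - q * (q - 1) = 2 ^ ((n : ℕ) + 1) := by
    have : q * (q + 1) - q * (q - 1) = 2 * q := by
      obtain ⟨m, rfl⟩ : ∃ m, q = m + 1 := ⟨q - 1, by omega⟩
      have e1 : (m + 1) * (m + 1 + 1) = (m + 1) * (m + 1 - 1) + 2 * (m + 1) := by
        simp only [Nat.add_sub_cancel]; ring
      rw [e1]; simp
    rw [this, hq, pow_succ, mul_comm]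
  rw [h4] at h3
  apply eq_one_of_pow_of_mem_odd hZ hz (k := (n : ℕ) + 1)
  exact orderOf_dvd_iff_pow_eq_one.mp h3

/-- the case `twoGen G = G`, `Z(G) ≠ 1` does not occur -/
theorem case_center (hIA : InvAb G) (T : Sylow 2 G) (hnc : ¬ IsCyclic ↥(T : Subgroup G))
    (hnn : ¬ (T : Subgroup G).Normal) (hgen : twoGen G = ⊤) (hZ : Subgroup.center G ≠ ⊥)
    (IH : InvAb (G ⧸ Subgroup.center G) → ∀ T' : Sylow 2 (G ⧸ Subgroup.center G),
      ¬ IsCyclic ↥(T' : Subgroup (G ⧸ Subgroup.center G)) →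
      ¬ (T' : Subgroup (G ⧸ Subgroup.center G)).Normal → Concl (G ⧸ Subgroup.center G)) :
    False := by
  have hodd : Odd (Nat.card (Subgroup.center G)) := by
    rw [← Nat.not_even_iff_odd, even_card_iff_exists_involution]
    rintro ⟨z, hz, hz2⟩
    apply hnn
    have hzc := Subgroup.mem_center_iff.mp hz
    refine ⟨fun n hn g => ?_⟩
    have : g * n = n * g := hIA z hz2 g n (hzc g) (hzc n)
    rw [this, mul_inv_cancel_right]; exact hn
  obtain ⟨hnc', hnn'⟩ := sylow_quotient_hyp hodd T hnc hnn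
  have hC := IH (hIA.quotient hodd) _ hnc' hnn'
  have htop := twoGen_eq_top_of_surjective (QuotientGroup.mk' (Subgroup.center G))
    (QuotientGroup.mk'_surjective _) hgen
  obtain ⟨F, i1, i2, hchar, -, ⟨e⟩, -⟩ := hC.equiv_of_twoGen_eq_top htop
  exact hZ (center_eq_bot_of_quotient_psl hgen hodd e)

end Cfsg.Agent.Lib.Helper7.CAInv
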