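import Mathlib
import Cfsg.Agent.Lib.Helper7.CAInv13

set_option autoImplicit false
set_option linter.style.haveILetI false

/-!
The case `twoGen G = G`, `Z(G) = 1` with `C_G(a) ≤ N_G(A)` for all `1 ≠ a ∈ A`.
-/

namespace Cfsg.Agent.Lib.Helper7.CAInv

open Cfsg.Agent.Lib.Helper1 Cfsg.Agent.Lib.Helper3 Cfsg.Agent.Lib.Helper3.StrEmb

universe u

variable {G : Type u} [Group G] [Finite G]

theorem case_dagger (hIA : InvAb G) (T : Sylow 2 G) (hnc : ¬ IsCyclic ↥(T : Subgroup G))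
    (hnn : ¬ (T : Subgroup G).Normal) (hgen : twoGen G = ⊤) (hZ : Subgroup.center G = ⊥)
    {s : G} (hs : s ∈ (T : Subgroup G)) (hs2 : orderOf s = 2)
    (hd : Dagger (Subgroup.centralizer ({s} : Set G))) : Concl G := by
  haveI : Fact (Nat.Prime 2) := ⟨Nat.prime_two⟩
  have h1 := hIA.setup1 T hnc hnn hs hs2
  have h2 := Setup2.of_dagger h1 hd
  obtain ⟨F, i1, i2, hcard, ⟨e⟩⟩ := h2.exists_psl hgen T hnc hnn
  obtain ⟨f, hf⟩ := (T.isPGroup').exists_card_eq
  have hf2 : 2 ≤ f := by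
    rcases f with _ | _ | f
    · exfalso
      rw [pow_zero] at hf
      have := (Nat.card_eq_one_iff_unique.mp hf).1
      exact hnc isCyclic_of_subsingleton
    · exfalso
      rw [zero_add, pow_one] at hf
      exact hnc (isCyclic_of_prime_card hf)
    · omega
  obtain ⟨p, hp⟩ := CharP.exists F
  haveI := hp
  obtain ⟨n, hpprime, hn⟩ := FiniteField.card F p
  have hdvd : p ∣ 2 ^ f := by
    rw [← hf, ← hcard, hn]
    exact dvd_pow_self p n.ne_zero
  have hp2 : p = 2 :=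
    (Nat.prime_dvd_prime_iff_eq hpprime Nat.prime_two).mp (hpprime.dvd_of_dvd_pow hdvd)
  subst hp2
  have h4 : 4 ≤ Fintype.card F := by
    rw [hcard, hf]
    calc 4 = 2 ^ 2 := by norm_num
      _ ≤ 2 ^ f := Nat.pow_le_pow_right (by norm_num) hf2
  refine ⟨F, i1, i2, hp, h4, ⟨(MulEquiv.subgroupCongr hgen).trans (Subgroup.topEquiv.trans e)⟩,
    ?_, ?_, ?_⟩
  · rw [hgen, hZ]; simp
  · rw [hgen]; simp
  · rw [hZ]; simp

end Cfsg.Agent.Lib.Helper7.CAInv
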