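import Mathlib
import Cfsg.Agent.Lib.Helper7.CAInv14

set_option autoImplicit false
set_option linter.style.haveILetI false

/-!
The case `Z(G) = 1` where some `C_G(a)`, `1 ≠ a ∈ A`, is not contained in `N_G(A)`: then
`H = C_G(a)` is a strongly embedded subgroup of the form `PSL(2, F) × Z(H)` and `H ∩ uHu⁻¹` is a
subgroup of odd order transitive on the involutions of `H`, which is impossible.
-/

namespace Cfsg.Agent.Lib.Helper7.CAInv

open Cfsg.Agent.Lib.Helper1 Cfsg.Agent.Lib.Helper3 Cfsg.Agent.Lib.Helper3.StrEmb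
open Cfsg.Agent.Lib.Helper7.CAGrp (twoPt)

universe u

variable {G : Type u} [Group G] [Finite G]

theorem case_not_dagger (hIA : InvAb G) (T : Sylow 2 G) (hnc : ¬ IsCyclic ↥(T : Subgroup G))
    (hnn : ¬ (T : Subgroup G).Normal) (hZ : Subgroup.center G = ⊥)
    {s : G} (hs : s ∈ (T : Subgroup G)) (hs2 : orderOf s = 2)
    (hd : ¬ Dagger (Subgroup.centralizer ({s} : Set G)))
    (IH : ∀ H : Subgroup G, H ≠ ⊤ → InvAb ↥H → ∀ T' : Sylow 2 ↥H,
      ¬ IsCyclic ↥(T' : Subgroup ↥H) → ¬ (T' : Subgroup ↥H).Normal → Concl ↥H) : False := by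
  have h1 := hIA.setup1 T hnc hnn hs hs2
  unfold Dagger at hd
  push Not at hd
  obtain ⟨a, haA, ha1, g, hga, hgM⟩ := hd
  have hAcomm : ∀ x y : G, x * s = s * x → y * s = s * y → x * y = y * x :=
    fun x y hx hy => hIA s hs2 x y hx hy
  have hmemA : ∀ x : G, x ∈ Subgroup.centralizer ({s} : Set G) ↔ x * s = s * x :=
    fun x => Subgroup.mem_centralizer_singleton_iff
  have has : a * s = s * a := (hmemA a).mp haA
  obtain ⟨H, hH⟩ : ∃ H : Subgroup G, H = Subgroup.centralizer ({a} : Set G) := ⟨_, rfl⟩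
  have hmemH : ∀ x : G, x ∈ H ↔ x * a = a * x := by
    intro x; rw [hH]; exact Subgroup.mem_centralizer_singleton_iff
  have hAH : Subgroup.centralizer ({s} : Set G) ≤ H := by
    intro x hx
    rw [hmemH]
    exact hAcomm x a ((hmemA x).mp hx) has
  have hTA : (T : Subgroup G) ≤ Subgroup.centralizer ({s} : Set G) := hIA.sylow_le_centralizer T hs
  have hTH : (T : Subgroup G) ≤ H := hTA.trans hAH
  have hHtop : H ≠ ⊤ := by
    intro htop
    apply ha1
    have : a ∈ Subgroup.center G := by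
      rw [Subgroup.mem_center_iff]
      intro x
      exact (hmemH x).mp (htop ▸ Subgroup.mem_top x)
    rw [hZ, Subgroup.mem_bot] at this
    exact this
  have hgH : g ∈ H := (hmemH g).mpr hga
  have hHN : ¬ H ≤ Subgroup.normalizer ((T : Subgroup G) : Set G) := by
    intro hh
    exact hgM (hIA.normalizer_sylow_le T hnc hnn hs hs2 (hh hgH))
  obtain ⟨hnc', hnn'⟩ := sylow_subtype_hyp T hnc hTH hHN
  have hIAH := hIA.subgroup H
  have hC := IH H hHtop hIAH (T.subtype hTH) hnc' hnn'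
  -- `Setup1` in `H`
  have hsH2 : orderOf (⟨s, hTH hs⟩ : ↥H) = 2 := by
    rw [← Subgroup.orderOf_coe]; exact hs2
  have hsHT : (⟨s, hTH hs⟩ : ↥H) ∈ ((T.subtype hTH : Sylow 2 ↥H) : Subgroup ↥H) := by
    rw [Sylow.coe_subtype, Subgroup.mem_subgroupOf]; exact hs
  have h1H := hIAH.setup1 (T.subtype hTH) hnc' hnn' hsHT hsH2
  have hmemAH : ∀ x : ↥H, x ∈ Subgroup.centralizer ({(⟨s, hTH hs⟩ : ↥H)} : Set ↥H) ↔
      (x : G) * s = s * (x : G) := by
    intro x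
    rw [Subgroup.mem_centralizer_singleton_iff]
    constructor
    · intro h; exact congrArg Subtype.val h
    · intro h; exact Subtype.ext h
  -- `N_G(A) ≤ H`
  have hMH : Subgroup.normalizer ((Subgroup.centralizer ({s} : Set G) : Subgroup G) : Set G) ≤ H := by
    intro k hk
    have hksA : k * s * k⁻¹ ∈ Subgroup.centralizer ({s} : Set G) :=
      (Subgroup.mem_normalizer_iff.mp hk s).mp ((hmemA s).mpr rfl)
    have hks2 : orderOf (⟨k * s * k⁻¹, hAH hksA⟩ : ↥H) = 2 := by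
      rw [← Subgroup.orderOf_coe, orderOf_conj]; exact hs2
    obtain ⟨uH, huH, huHN⟩ := h1H.exists_involution_notMem
    obtain ⟨d, -, hdc⟩ := h1H.exists_conj huH huHN ((hmemAH _).mpr rfl) hsH2
      ((hmemAH ⟨k * s * k⁻¹, hAH hksA⟩).mpr ((hmemA _).mp hksA)) hks2
    have hdc' : (d : G) * s * (d : G)⁻¹ = k * s * k⁻¹ := by
      have := congrArg Subtype.val hdc
      simpa using this
    have h3 : (d : G)⁻¹ * k ∈ Subgroup.centralizer ({s} : Set G) := by
      rw [hmemA]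
      calc (d : G)⁻¹ * k * s = (d : G)⁻¹ * (k * s * k⁻¹) * k := by group
        _ = (d : G)⁻¹ * ((d : G) * s * (d : G)⁻¹) * k := by rw [hdc']
        _ = s * ((d : G)⁻¹ * k) := by group
    have : k = (d : G) * ((d : G)⁻¹ * k) := by group
    rw [this]
    exact Subgroup.mul_mem _ d.2 (hAH h3)
  -- `H` is strongly embedded
  have hcrit : ∀ g₀ : G, (∃ t ∈ H, orderOf t = 2 ∧ g₀⁻¹ * t * g₀ ∈ H) → g₀ ∈ H := by
    rintro g₀ ⟨t, htH, ht2, htg⟩
    have ht2' : orderOf (⟨t, htH⟩ : ↥H) = 2 := by rw [← Subgroup.orderOf_coe]; exact ht2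
    have htg2' : orderOf (⟨g₀⁻¹ * t * g₀, htg⟩ : ↥H) = 2 := by
      rw [← Subgroup.orderOf_coe, orderOf_conj_inv]; exact ht2
    obtain ⟨k₁, hk₁⟩ := h1H.exists_conj_mem ht2'
    obtain ⟨k₂, hk₂⟩ := h1H.exists_conj_mem htg2'
    rw [hmemAH] at hk₁ hk₂
    simp only [Subgroup.coe_mul, Subgroup.coe_inv] at hk₁ hk₂
    have hk₁A : (k₁ : G)⁻¹ * t * k₁ ∈ Subgroup.centralizer ({s} : Set G) := (hmemA _).mpr hk₁
    have hk₂A : (k₂ : G)⁻¹ * (g₀⁻¹ * t * g₀) * k₂ ∈ Subgroup.centralizer ({s} : Set G) :=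
      (hmemA _).mpr hk₂
    have hM : (k₁ : G)⁻¹ * g₀ * k₂ ∈
        Subgroup.normalizer ((Subgroup.centralizer ({s} : Set G) : Subgroup G) : Set G) := by
      apply h1.mem_normalizer_of_conj_mem hk₁A (by rw [orderOf_conj_inv]; exact ht2)
      have : ((k₁ : G)⁻¹ * g₀ * k₂)⁻¹ * ((k₁ : G)⁻¹ * t * k₁) * ((k₁ : G)⁻¹ * g₀ * k₂) =
          (k₂ : G)⁻¹ * (g₀⁻¹ * t * g₀) * k₂ := by group
      rw [this]; exact hk₂A
    have : g₀ = (k₁ : G) * ((k₁ : G)⁻¹ * g₀ * k₂) * (k₂ : G)⁻¹ := by group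
    rw [this]
    exact Subgroup.mul_mem _ (Subgroup.mul_mem _ k₁.2 (hMH hM)) (Subgroup.inv_mem _ k₂.2)
  have hSE : Cfsg.IsStronglyEmbedded H := by
    rw [stronglyEmbedded_iff]
    refine ⟨hHtop, ?_, hcrit⟩
    rw [even_card_iff_exists_involution]
    exact ⟨s, hTH hs, hs2⟩
  -- an involution outside `H`
  obtain ⟨g₀, hg₀⟩ : ∃ g₀ : G, g₀ ∉ H := by
    by_contra hall
    push Not at hall
    exact hHtop (eq_top_iff.mpr fun x _ => hall x)
  have hu2 : orderOf (g₀⁻¹ * s * g₀) = 2 := by rw [orderOf_conj_inv]; exact hs2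
  have huH : g₀⁻¹ * s * g₀ ∉ H := fun hh => hg₀ (hcrit g₀ ⟨s, hTH hs, hs2, hh⟩)
  obtain ⟨u, hu⟩ : ∃ u : G, u = g₀⁻¹ * s * g₀ := ⟨_, rfl⟩
  rw [← hu] at hu2 huH
  have hDodd : Odd (Nat.card ↥(H ⊓ H.map (MulAut.conj u).toMonoidHom)) := hSE.2.2 u huH
  have hDtr : ∀ x y : G, x ∈ H → orderOf x = 2 → y ∈ H → orderOf y = 2 →
      ∃ d ∈ H ⊓ H.map (MulAut.conj u).toMonoidHom, d * x * d⁻¹ = y :=
    fun x y hx hx2 hy hy2 => exists_conj_mem_inf hSE hu2 huH hx2 hx hy2 hy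
  -- the quotient `X = H / Z(H)`
  obtain ⟨F, i1, i2, hchar, hF, ⟨eL⟩, hinf, hsup, hodd⟩ := hC
  have eX : ↥H ⧸ Subgroup.center ↥H ≃* Matrix.ProjectiveSpecialLinearGroup (Fin 2) F :=
    (equivQuotientOfCompl hinf hsup).symm.trans eL
  -- the image of `s`
  have ht2 : orderOf (((⟨s, hTH hs⟩ : ↥H) : ↥H ⧸ Subgroup.center ↥H)) = 2 := by
    apply orderOf_two_of_mul_self
    · rw [← QuotientGroup.mk_mul, invol_mul_self hsH2, QuotientGroup.mk_one]
    · intro hh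
      rw [QuotientGroup.eq_one_iff] at hh
      have := eq_one_of_pow_of_mem_odd hodd hh (k := 1)
        (by rw [pow_one, ← hsH2]; exact pow_orderOf_eq_one _)
      exact ne_one_of_orderOf_two hsH2 this
  obtain ⟨hSX, hexpX⟩ := setup_of_equiv_psl hF eX ht2
  -- the image of `D₁`
  obtain ⟨D, hD⟩ : ∃ D : Subgroup (↥H ⧸ Subgroup.center ↥H),
      D = ((H ⊓ H.map (MulAut.conj u).toMonoidHom).subgroupOf H).map
        (QuotientGroup.mk' (Subgroup.center ↥H)) := ⟨_, rfl⟩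
  have hDcard : Odd (Nat.card D) := by
    have h2 : Nat.card D ∣ Nat.card ((H ⊓ H.map (MulAut.conj u).toMonoidHom).subgroupOf H) := by
      rw [hD]; exact Subgroup.card_map_dvd _ _
    have h3 : Nat.card ((H ⊓ H.map (MulAut.conj u).toMonoidHom).subgroupOf H) =
        Nat.card ↥(H ⊓ H.map (MulAut.conj u).toMonoidHom) :=
      Nat.card_congr (Subgroup.subgroupOfEquivOfLe inf_le_left).toEquiv
    rw [h3] at h2
    exact Odd.of_dvd_nat hDodd h2
  apply noOddTransitive hSX hexpX D hDcard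
  intro x y hx hy
  obtain ⟨x', hx', rfl⟩ := exists_involution_lift hodd hx
  obtain ⟨y', hy', rfl⟩ := exists_involution_lift hodd hy
  have hx'2 : orderOf (x' : G) = 2 := by rw [Subgroup.orderOf_coe]; exact hx'
  have hy'2 : orderOf (y' : G) = 2 := by rw [Subgroup.orderOf_coe]; exact hy'
  obtain ⟨d, hd, hdc⟩ := hDtr x' y' x'.2 hx'2 y'.2 hy'2
  have hdH : d ∈ H := (Subgroup.mem_inf.mp hd).1
  refine ⟨((⟨d, hdH⟩ : ↥H) : ↥H ⧸ Subgroup.center ↥H), ?_, ?_⟩
  · rw [hD]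
    exact ⟨⟨d, hdH⟩, Subgroup.mem_subgroupOf.mpr hd, rfl⟩
  · rw [← QuotientGroup.mk_inv, ← QuotientGroup.mk_mul, ← QuotientGroup.mk_mul]
    congr 1
    exact Subtype.ext hdc

end Cfsg.Agent.Lib.Helper7.CAInv
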