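import Mathlib
import Cfsg.Agent.Lib.Helper7.CAInv15

set_option autoImplicit false
set_option linter.style.haveILetI false

/-!
Groups with abelian centralizers of involutions whose Sylow 2-subgroups are neither cyclic nor
normal: `G ≅ SL(2, F) × A`, `F` a finite field of characteristic 2, `A` abelian of odd order.
-/

namespace Cfsg.Agent.Lib.Helper7.CAInv

open Cfsg.Agent.Lib.Helper1 Cfsg.Agent.Lib.Helper3 Cfsg.Agent.Lib.Helper3.StrEmb

universe u

theorem main_aux (n : ℕ) : ∀ (G : Type u) [Group G] [Finite G], Nat.card G = n → InvAb G →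
    ∀ T : Sylow 2 G, ¬ IsCyclic ↥(T : Subgroup G) → ¬ (T : Subgroup G).Normal → Concl G := by
  induction n using Nat.strong_induction_on with
  | _ n ih =>
  intro G _ _ hn hIA T hnc hnn
  by_cases hgen : twoGen G = ⊤
  · by_cases hZ : Subgroup.center G = ⊥
    · obtain ⟨s, hs, -, -, hs2, -, -⟩ :=
        exists_two_involutions T (fun x hx y hy => hIA.sylow_comm T hx hy) hnc
      by_cases hd : Dagger (Subgroup.centralizer ({s} : Set G))
      · exact case_dagger hIA T hnc hnn hgen hZ hs hs2 hd
      · exfalso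
        apply case_not_dagger hIA T hnc hnn hZ hs hs2 hd
        intro H hH hIAH T' hnc' hnn'
        have hlt : Nat.card H < n := by
          rw [← hn]
          by_contra hge
          push Not at hge
          exact hH (Subgroup.eq_top_of_le_card H hge)
        exact ih (Nat.card H) hlt ↥H rfl hIAH T' hnc' hnn'
    · exfalso
      apply case_center hIA T hnc hnn hgen hZ
      intro hIA' T' hnc' hnn'
      exact ih _ (by rw [← hn]; exact card_quotient_center_lt hZ) _ rfl hIA' T' hnc' hnn'
  · apply case_lt hIA T hnc hnn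
    intro hIA' T' hnc' hnn'
    have hlt : Nat.card ↥(twoGen G) < n := by
      rw [← hn]
      by_contra hge
      push Not at hge
      exact hgen (Subgroup.eq_top_of_le_card _ hge)
    exact ih _ hlt _ rfl hIA' T' hnc' hnn'

theorem main {G : Type u} [Group G] [Finite G] (hIA : InvAb G) (T : Sylow 2 G)
    (hnc : ¬ IsCyclic ↥(T : Subgroup G)) (hnn : ¬ (T : Subgroup G).Normal) :
    ∃ (F : Type) (_ : Field F) (_ : Fintype F) (A : Type) (_ : CommGroup A) (_ : Finite A),
      CharP F 2 ∧ Odd (Nat.card A) ∧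
      Nonempty (G ≃* Matrix.SpecialLinearGroup (Fin 2) F × A) := by
  obtain ⟨F, i1, i2, hchar, -, ⟨e⟩, hinf, hsup, hodd⟩ := main_aux _ G rfl hIA T hnc hnn
  obtain ⟨A, iA, iAf, ⟨eA⟩⟩ :=
    Finite.exists_type_univ_nonempty_mulEquiv.{u, 0} ↥(Subgroup.center G)
  let iC : CommGroup A :=
    { iA with
      mul_comm := fun a b => by
        apply eA.symm.injective
        rw [map_mul, map_mul]
        exact Subtype.ext (Subgroup.mem_center_iff.mp (eA.symm b).2 (eA.symm a : G)) }
  refine ⟨F, i1, i2, A, iC, Finite.of_fintype A, hchar, ?_, ⟨?_⟩⟩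
  · rw [← Nat.card_congr eA.toEquiv]; exact hodd
  · exact (prodEquivOfCompl hinf hsup).symm.trans
      (MulEquiv.prodCongr (e.trans slEquivPsl.symm) eA)

end Cfsg.Agent.Lib.Helper7.CAInv
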