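import Mathlib

set_option autoImplicit false

open scoped Pointwise
open MulAction

namespace Cfsg.Agent.Lib.Helper7

/-- if `d` divides the index of every stabilizer (= size of every orbit), `d` divides the
cardinality of the set acted on. -/
theorem dvd_card_of_forall_dvd_index_stabilizer {K X : Type*} [Group K] [MulAction K X]
    [Finite X] (d : ℕ) (h : ∀ x : X, d ∣ (stabilizer K x).index) : d ∣ Nat.card X := by
  classical
  have := Fintype.ofFinite X
  haveI : Fintype (orbitRel.Quotient K X) := Fintype.ofFinite _
  rw [Nat.card_congr (selfEquivSigmaOrbits K X), Nat.card_sigma]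
  apply Finset.dvd_sum
  intro ω _
  rw [Nat.card_coe_set_eq, ← index_stabilizer]
  exact h _

theorem card_subtype_split {α : Type*} [Finite α] (q P : α → Prop) :
    Nat.card {x // q x} = Nat.card {x // q x ∧ P x} + Nat.card {x // q x ∧ ¬ P x} := by
  classical
  rw [← Nat.card_sum]
  exact Nat.card_congr ((Equiv.sumCompl (fun y : {x // q x} => P y)).symm.trans
    (Equiv.sumCongr (Equiv.subtypeSubtypeEquivSubtypeInter q P)
      (Equiv.subtypeSubtypeEquivSubtypeInter q (fun x => ¬ P x))))

section

variable {G : Type*} [Group G] [DecidableEq G]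

/-- the stabilizer of a finset `X` of `G` (under left multiplication) acting on `X`. -/
def stabSub (X : Finset G) : SubMulAction (stabilizer G X) G where
  carrier := (X : Set G)
  smul_mem' := fun s x hx => by
    have := (mem_stabilizer_finset'.mp s.2) hx
    exact this

theorem card_stabilizer_dvd_card (X : Finset G) : Nat.card (stabilizer G X) ∣ X.card := by
  haveI : Finite (stabSub X) := (Finset.finite_toSet X).to_subtype
  have h1 : Nat.card (stabSub X) = X.card := by
    change Nat.card ((X : Set G) : Type _) = X.card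
    rw [Nat.card_coe_set_eq, Set.ncard_coe_finset]
  rw [← h1, ← Subgroup.index_bot]
  apply dvd_card_of_forall_dvd_index_stabilizer (K := stabilizer G X)
  intro x
  have : stabilizer (stabilizer G X) x = ⊥ := by
    rw [eq_bot_iff]
    intro s hs
    rw [mem_stabilizer_iff] at hs
    have h1 : ((s • x : stabSub X) : G) = x := congrArg Subtype.val hs
    rw [SubMulAction.val_smul] at h1
    have h2 : (s : G) * (x : G) = x := h1
    have h3 : (s : G) = 1 := by simpa using h2
    exact Subgroup.mem_bot.mpr (Subtype.ext h3)
  rw [this]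

/-- the "bad" `k`-subsets: those whose stabilizer does not have order `k`. -/
def badSub (k : ℕ) : SubMulAction G (Finset G) where
  carrier := {X | X.card = k ∧ Nat.card (stabilizer G X) ≠ k}
  smul_mem' := fun g X hX => by
    refine ⟨?_, ?_⟩
    · rw [Finset.card_smul_finset]; exact hX.1
    · rw [stabilizer_smul_eq_stabilizer_map_conj,
        Subgroup.card_map_of_injective (MulAut.conj g).injective]
      exact hX.2

theorem dvd_card_badSub [Finite G] (p β m : ℕ) (hp : p.Prime)
    (hn : Nat.card G = p ^ β * m) : p * m ∣ Nat.card (badSub (G := G) (p ^ β)) := by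
  apply dvd_card_of_forall_dvd_index_stabilizer (K := G)
  intro x
  rw [SubMulAction.stabilizer_of_subMul]
  obtain ⟨hx1, hx2⟩ := x.2
  have h1 := card_stabilizer_dvd_card (x : Finset G)
  rw [hx1, Nat.dvd_prime_pow hp] at h1
  obtain ⟨j, hj, hjs⟩ := h1
  have hjlt : j < β := by
    rcases hj.lt_or_eq with h | h
    · exact h
    · exfalso; apply hx2; rw [hjs, h]
  have h2 := (stabilizer G (x : Finset G)).index_mul_card
  rw [hjs, hn] at h2
  have h3 : p ^ β * m = (p * p ^ (β - j - 1) * m) * p ^ j := by
    have : β = (β - j - 1) + 1 + j := by omega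
    conv_lhs => rw [this]
    ring
  rw [h3] at h2
  have h4 := Nat.eq_of_mul_eq_mul_right (pow_pos hp.pos j) h2
  rw [h4]
  exact ⟨p ^ (β - j - 1), by ring⟩

/-- right coset `H g` as a finset. -/
noncomputable def rc [Finite G] (H : Subgroup G) (g : G) : Finset G :=
  (Set.toFinite {x : G | x * g⁻¹ ∈ H}).toFinset

omit [DecidableEq G] in
theorem mem_rc [Finite G] (H : Subgroup G) (g x : G) : x ∈ rc H g ↔ x * g⁻¹ ∈ H := by
  simp [rc]

theorem self_mem_rc [Finite G] (H : Subgroup G) (g : G) : g ∈ rc H g := by
  simp [mem_rc]

theorem card_rc [Finite G] (H : Subgroup G) (g : G) : (rc H g).card = Nat.card H := by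
  have h1 : (rc H g).card = Nat.card {x : G // x ∈ rc H g} := by
    rw [Nat.card_eq_fintype_card, Fintype.card_coe]
  rw [h1]
  refine Nat.card_congr
    { toFun := fun x => ⟨x.1 * g⁻¹, (mem_rc H g x.1).mp x.2⟩
      invFun := fun h => ⟨h.1 * g, by rw [mem_rc]; simpa using h.2⟩
      left_inv := fun x => by simp
      right_inv := fun h => by simp }

theorem stabilizer_rc [Finite G] (H : Subgroup G) (g : G) : stabilizer G (rc H g) = H := by
  ext a
  rw [mem_stabilizer_finset']
  constructor
  · intro h
    have := h (self_mem_rc H g)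
    rw [mem_rc, smul_eq_mul] at this
    simpa using this
  · intro ha b hb
    rw [mem_rc] at hb ⊢
    rw [smul_eq_mul, mul_assoc]
    exact H.mul_mem ha hb

theorem rc_stabilizer_eq [Finite G] (X : Finset G) (hX : Nat.card (stabilizer G X) = X.card)
    (x : G) (hx : x ∈ X) : rc (stabilizer G X) x = X := by
  apply Finset.eq_of_subset_of_card_le
  · intro y hy
    rw [mem_rc] at hy
    have := (mem_stabilizer_finset'.mp hy) hx
    rw [smul_eq_mul] at this
    simpa using this
  · rw [card_rc, hX]

theorem card_good_mul [Finite G] (k : ℕ) :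
    Nat.card {X : Finset G // X.card = k ∧ Nat.card (stabilizer G X) = k} * k =
      Nat.card {H : Subgroup G // Nat.card H = k} * Nat.card G := by
  have e : (Σ X : {X : Finset G // X.card = k ∧ Nat.card (stabilizer G X) = k},
      {x : G // x ∈ X.1}) ≃ {H : Subgroup G // Nat.card H = k} × G :=
    { toFun := fun q => (⟨stabilizer G q.1.1, q.1.2.2⟩, q.2.1)
      invFun := fun q => ⟨⟨rc q.1.1 q.2, by rw [card_rc]; exact q.1.2, by
        rw [stabilizer_rc]; exact q.1.2⟩, ⟨q.2, self_mem_rc _ _⟩⟩
      left_inv := fun q => by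
        apply Sigma.subtype_ext
        · apply Subtype.ext
          exact rc_stabilizer_eq q.1.1 (q.1.2.2.trans q.1.2.1.symm) q.2.1 q.2.2
        · rfl
      right_inv := fun q => by
        apply Prod.ext
        · apply Subtype.ext
          exact stabilizer_rc _ _
        · rfl }
  haveI : Fintype {X : Finset G // X.card = k ∧ Nat.card (stabilizer G X) = k} :=
    Fintype.ofFinite _
  have h1 := Nat.card_congr e
  rw [Nat.card_prod, Nat.card_sigma] at h1
  rw [← h1]
  have : ∀ X : {X : Finset G // X.card = k ∧ Nat.card (stabilizer G X) = k},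
      Nat.card {x : G // x ∈ X.1} = k := by
    intro X
    rw [Nat.card_eq_fintype_card, Fintype.card_coe]
    exact X.2.1
  simp only [this]
  rw [Finset.sum_const, Finset.card_univ, smul_eq_mul, Nat.card_eq_fintype_card]

/-- Wielandt's congruence. -/
theorem wielandt_count [Finite G] (p β m : ℕ) (hp : p.Prime)
    (hn : Nat.card G = p ^ β * m) :
    (Nat.card G).choose (p ^ β) ≡
      Nat.card {H : Subgroup G // Nat.card H = p ^ β} * m [MOD p * m] := by
  have h0 : Nat.card {X : Finset G // X.card = p ^ β} = (Nat.card G).choose (p ^ β) :=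
    Set.powersetCard.card (α := G) (n := p ^ β)
  have h1 := card_subtype_split (fun X : Finset G => X.card = p ^ β)
    (fun X => Nat.card (stabilizer G X) = p ^ β)
  have h2 := card_good_mul (G := G) (p ^ β)
  have h3 : p * m ∣ Nat.card {X : Finset G // X.card = p ^ β ∧
      ¬ Nat.card (stabilizer G X) = p ^ β} := dvd_card_badSub p β m hp hn
  have h4 : Nat.card {X : Finset G // X.card = p ^ β ∧ Nat.card (stabilizer G X) = p ^ β} =
      Nat.card {H : Subgroup G // Nat.card H = p ^ β} * m := by
    rw [hn] at h2
    have : Nat.card {H : Subgroup G // Nat.card H = p ^ β} * (p ^ β * m) =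
        (Nat.card {H : Subgroup G // Nat.card H = p ^ β} * m) * p ^ β := by ring
    rw [this] at h2
    exact Nat.eq_of_mul_eq_mul_right (pow_pos hp.pos β) h2
  rw [← h0, h1, h4]
  obtain ⟨c, hc⟩ := h3
  rw [hc]
  exact (Nat.modEq_iff_dvd' (Nat.le_add_right _ _)).mpr ⟨c, by omega⟩ |>.symm

end

end Cfsg.Agent.Lib.Helper7

namespace Cfsg.Agent.Lib.Helper7

/-- in a finite cyclic group, a subgroup is determined by its order. -/
theorem eq_of_card_eq_of_isCyclic {C : Type*} [Group C] [Finite C] [IsCyclic C]
    (H K : Subgroup C) (h : Nat.card H = Nat.card K) : H = K := by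
  classical
  have := Fintype.ofFinite C
  have key : ∀ L : Subgroup C, ∀ x, x ∈ L ↔ x ^ (Nat.card L) = 1 := by
    intro L x
    constructor
    · intro hx
      have := pow_card_eq_one' (G := L) (x := ⟨x, hx⟩)
      exact congrArg Subtype.val this
    · intro hx
      have hsub : (Finset.univ.filter (fun a : C => a ∈ L)) ⊆
          Finset.univ.filter (fun a : C => a ^ (Nat.card L) = 1) := by
        intro a ha
        rw [Finset.mem_filter] at ha ⊢
        refine ⟨ha.1, ?_⟩
        have := pow_card_eq_one' (G := L) (x := ⟨a, ha.2⟩)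
        exact congrArg Subtype.val this
      have hc : (Finset.univ.filter (fun a : C => a ∈ L)).card = Nat.card L := by
        rw [Nat.card_eq_fintype_card, Fintype.card_subtype]
      have hle := IsCyclic.card_pow_eq_one_le (α := C) (n := Nat.card L) Nat.card_pos
      have := Finset.eq_of_subset_of_card_le hsub (by rw [hc]; exact hle)
      have hx' : x ∈ Finset.univ.filter (fun a : C => a ^ (Nat.card L) = 1) := by
        rw [Finset.mem_filter]; exact ⟨Finset.mem_univ _, hx⟩
      rw [← this, Finset.mem_filter] at hx'
      exact hx'.2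
  ext x
  rw [key H, key K, h]

/-- Frobenius 1895: the number of subgroups of order `p ^ β` is `≡ 1 mod p`. -/
theorem card_subgroups_prime_pow_modEq_one {G : Type*} [Group G] [Finite G] (p β : ℕ)
    (hp : p.Prime) (hdiv : p ^ β ∣ Nat.card G) :
    Nat.card {H : Subgroup G // Nat.card H = p ^ β} ≡ 1 [MOD p] := by
  classical
  haveI : Fact p.Prime := ⟨hp⟩
  obtain ⟨m, hm⟩ := hdiv
  have hmpos : 0 < m := by
    rcases Nat.eq_zero_or_pos m with h | h
    · rw [h, mul_zero] at hm; exact absurd hm Nat.card_pos.ne'
    · exact h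
  haveI : NeZero (Nat.card G) := ⟨Nat.card_pos.ne'⟩
  have hC : Nat.card (Multiplicative (ZMod (Nat.card G))) = p ^ β * m := by
    rw [Nat.card_congr Multiplicative.toAdd, Nat.card_zmod, hm]
  have h1 := wielandt_count (G := G) p β m hp hm
  have h2 := wielandt_count (G := Multiplicative (ZMod (Nat.card G))) p β m hp hC
  rw [hC, ← hm] at h2
  have hone : Nat.card {H : Subgroup (Multiplicative (ZMod (Nat.card G))) //
      Nat.card H = p ^ β} = 1 := by
    rw [Nat.card_eq_one_iff_unique]
    constructor
    · constructor
      intro H K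
      apply Subtype.ext
      exact eq_of_card_eq_of_isCyclic _ _ (H.2.trans K.2.symm)
    · obtain ⟨K, hK⟩ := Sylow.exists_subgroup_card_pow_prime p
        (show p ^ β ∣ Nat.card (Multiplicative (ZMod (Nat.card G))) from ⟨m, hC⟩)
      exact ⟨⟨K, hK⟩⟩
  rw [hone] at h2
  have h3 : Nat.card {H : Subgroup G // Nat.card H = p ^ β} * m ≡ 1 * m [MOD p * m] :=
    h1.symm.trans h2
  exact Nat.ModEq.mul_right_cancel' hmpos.ne' h3

end Cfsg.Agent.Lib.Helper7

namespace Cfsg.Agent.Lib.Helper7

/-- conjugation action of `G` on its subgroups of order `k`. -/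
@[reducible] def conjActSubgroupsOfCard (G : Type*) [Group G] (k : ℕ) :
    MulAction G {H : Subgroup G // Nat.card H = k} where
  smul g H := ⟨H.1.map (MulAut.conj g).toMonoidHom, by
    rw [Subgroup.card_map_of_injective (MulAut.conj g).injective]; exact H.2⟩
  one_smul H := by
    apply Subtype.ext
    change H.1.map (MulAut.conj (1 : G)).toMonoidHom = H.1
    rw [map_one]
    exact Subgroup.map_id _
  mul_smul a b H := by
    apply Subtype.ext
    change H.1.map (MulAut.conj (a * b)).toMonoidHom =
      (H.1.map (MulAut.conj b).toMonoidHom).map (MulAut.conj a).toMonoidHom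
    rw [Subgroup.map_map, map_mul]
    rfl

/-- the number of normal subgroups of order `p ^ s` of a `p`-group is `≡ 1 mod p`. -/
theorem card_normal_subgroups_prime_pow_modEq_one {G : Type*} [Group G] [Finite G]
    (p m s : ℕ) (hp : p.Prime) (hG : Nat.card G = p ^ m) (hs : s ≤ m) :
    Nat.card {H : Subgroup G // H.Normal ∧ Nat.card H = p ^ s} ≡ 1 [MOD p] := by
  haveI : Fact p.Prime := ⟨hp⟩
  have hPG : IsPGroup p G := IsPGroup.of_card hG
  letI := conjActSubgroupsOfCard G (p ^ s)
  have h1 := hPG.card_modEq_card_fixedPoints {H : Subgroup G // Nat.card H = p ^ s}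
  have h2 := card_subgroups_prime_pow_modEq_one (G := G) p s hp
    (by rw [hG]; exact pow_dvd_pow p hs)
  have e : MulAction.fixedPoints G {H : Subgroup G // Nat.card H = p ^ s} ≃
      {H : Subgroup G // H.Normal ∧ Nat.card H = p ^ s} :=
    { toFun := fun x => ⟨x.1.1, by
        constructor
        · have hx := x.2
          rw [MulAction.mem_fixedPoints] at hx
          have : ∀ g : G, x.1.1.map (MulAut.conj g).toMonoidHom = x.1.1 := fun g =>
            congrArg Subtype.val (hx g)
          rw [← Subgroup.normalizer_eq_top_iff, eq_top_iff]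
          intro g _
          exact Subgroup.mem_normalizer_iff_map_conj_eq.mpr (this g)
        · exact x.1.2⟩
      invFun := fun H => ⟨⟨H.1, H.2.2⟩, by
        rw [MulAction.mem_fixedPoints]
        intro g
        apply Subtype.ext
        change H.1.map (MulAut.conj g).toMonoidHom = H.1
        have hn : H.1.Normal := H.2.1
        have : g ∈ Subgroup.normalizer (H.1 : Set G) := by
          rw [Subgroup.normalizer_eq_top_iff.mpr hn]; exact Subgroup.mem_top g
        exact Subgroup.mem_normalizer_iff_map_conj_eq.mp this⟩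
      left_inv := fun x => rfl
      right_inv := fun H => rfl }
  rw [← Nat.card_congr e]
  exact h1.symm.trans h2

end Cfsg.Agent.Lib.Helper7
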