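import Mathlib
import Cfsg.Agent.Lib.Helper7.SubgroupCount
import Cfsg.Agent.Lib.Helper7.ClassCount

/-!
# Conjugacy classes of coprime sizes

General lemmas on centralizers, class sizes, products of classes of coprime sizes and the
left-multiplication stabilizer of a class.
-/

set_option autoImplicit false

namespace Cfsg.Agent.Lib.Helper7.CL

variable {G : Type*} [Group G]

/-- the centralizer of an element -/
abbrev cz (g : G) : Subgroup G := Subgroup.centralizer ({g} : Set G)

/-- the class size of an element -/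
noncomputable abbrev ci (g : G) : ℕ := (cz g).index

theorem mem_cz {g a : G} : a ∈ cz g ↔ a * g = g * a := by
  rw [Subgroup.mem_centralizer_singleton_iff]

theorem self_mem_cz (g : G) : g ∈ cz g := mem_cz.mpr rfl

theorem mem_cz_comm {g a : G} : a ∈ cz g ↔ g ∈ cz a := by
  rw [mem_cz, mem_cz]; exact eq_comm

theorem center_le_cz (g : G) : Subgroup.center G ≤ cz g := by
  intro z hz
  rw [mem_cz]
  exact (Subgroup.mem_center_iff.mp hz g).symm

theorem mem_center_of_forall {g : G} (h : ∀ a : G, a * g * a⁻¹ = g) : g ∈ Subgroup.center G := by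
  rw [Subgroup.mem_center_iff]
  intro a
  have := h a
  calc a * g = a * g * a⁻¹ * a := by group
    _ = g * a := by rw [this]

theorem mem_center_iff_cz {g : G} : g ∈ Subgroup.center G ↔ cz g = ⊤ := by
  constructor
  · intro h
    rw [eq_top_iff]
    intro a _
    rw [mem_cz]
    exact Subgroup.mem_center_iff.mp h a
  · intro h
    rw [Subgroup.mem_center_iff]
    intro a
    have : a ∈ cz g := by rw [h]; trivial
    exact mem_cz.mp this

theorem mem_center_iff_ci [Finite G] {g : G} : g ∈ Subgroup.center G ↔ ci g = 1 := by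
  rw [mem_center_iff_cz, ci, Subgroup.index_eq_one]

theorem conj_mem_cz_conj {g a c : G} : a * c * a⁻¹ ∈ cz (a * g * a⁻¹) ↔ c ∈ cz g := by
  rw [mem_cz, mem_cz]
  constructor
  · intro h
    have h1 : a * (c * g) * a⁻¹ = a * (g * c) * a⁻¹ := by
      calc a * (c * g) * a⁻¹ = a * c * a⁻¹ * (a * g * a⁻¹) := by group
        _ = a * g * a⁻¹ * (a * c * a⁻¹) := h
        _ = a * (g * c) * a⁻¹ := by group
    exact mul_left_cancel (mul_right_cancel h1)
  · intro h
    calc a * c * a⁻¹ * (a * g * a⁻¹) = a * (c * g) * a⁻¹ := by group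
      _ = a * (g * c) * a⁻¹ := by rw [h]
      _ = a * g * a⁻¹ * (a * c * a⁻¹) := by group

theorem cz_conj (g a : G) : cz (a * g * a⁻¹) = (cz g).map (MulAut.conj a).toMonoidHom := by
  ext c
  rw [Subgroup.mem_map]
  constructor
  · intro h
    refine ⟨a⁻¹ * c * a, ?_, ?_⟩
    · have h2 : a * (a⁻¹ * c * a) * a⁻¹ = c := by group
      rw [← h2] at h
      exact conj_mem_cz_conj.mp h
    · simp [MulAut.conj_apply]
      group
  · rintro ⟨c', hc', rfl⟩
    simp only [MulEquiv.coe_toMonoidHom, MulAut.conj_apply]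
    exact conj_mem_cz_conj.mpr hc'

theorem ci_conj (g a : G) : ci (a * g * a⁻¹) = ci g := by
  unfold ci
  rw [cz_conj]
  exact Subgroup.index_map_equiv (cz g) (MulAut.conj a)

theorem ci_pos [Finite G] (g : G) : 0 < ci g :=
  Nat.pos_of_ne_zero Subgroup.index_ne_zero_of_finite

theorem ci_dvd_of_le {g h : G} (hle : cz h ≤ cz g) : ci g ∣ ci h :=
  Subgroup.index_dvd_of_le hle

/-- the conjugacy class of an element, as a set -/
def cls (g : G) : Set G := {h | ∃ a : G, a * g * a⁻¹ = h}

theorem conj_mem_cls (g a : G) : a * g * a⁻¹ ∈ cls g := ⟨a, rfl⟩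

theorem self_mem_cls (g : G) : g ∈ cls g := ⟨1, by simp⟩

theorem conj_mem_cls_iff (g a h : G) : a * h * a⁻¹ ∈ cls g ↔ h ∈ cls g := by
  constructor
  · rintro ⟨b, hb⟩
    refine ⟨a⁻¹ * b, ?_⟩
    calc a⁻¹ * b * g * (a⁻¹ * b)⁻¹ = a⁻¹ * (b * g * b⁻¹) * a := by group
      _ = a⁻¹ * (a * h * a⁻¹) * a := by rw [hb]
      _ = h := by group
  · rintro ⟨b, rfl⟩
    refine ⟨a * b, ?_⟩
    group

theorem ncard_cls [Finite G] (g : G) : (cls g).ncard = ci g := by
  have h1 : cls g = {y : G | IsConj g y} := by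
    ext y
    constructor
    · rintro ⟨a, rfl⟩
      exact isConj_iff.mpr ⟨a, rfl⟩
    · intro h
      obtain ⟨a, ha⟩ := isConj_iff.mp h
      exact ⟨a, ha⟩
  have h2 := Cfsg.Agent.Lib.Helper7.ncard_cls_mul_card_centralizer g
  have h3 : ci g * Nat.card (cz g) = Nat.card G := by
    rw [mul_comm]; exact Subgroup.card_mul_index (cz g)
  rw [h1]
  have hpos : 0 < Nat.card (cz g) := Nat.card_pos
  exact Nat.eq_of_mul_eq_mul_right hpos (h2.trans h3.symm)

instance finite_cls [Finite G] (g : G) : Finite (cls g) := Subtype.finite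

/-- subgroups of coprime index factorise the group -/
theorem exists_mul_of_coprime_index [Finite G] (X Y : Subgroup G)
    (h : X.index.Coprime Y.index) (g : G) : ∃ y ∈ Y, ∃ x ∈ X, g = y * x := by
  have hinf : (X ⊓ Y).index = X.index * Y.index := by
    apply le_antisymm Subgroup.index_inf_le
    apply Nat.le_of_dvd (Nat.pos_of_ne_zero Subgroup.index_ne_zero_of_finite)
    exact Nat.Coprime.mul_dvd_of_dvd_of_dvd h (Subgroup.index_dvd_of_le inf_le_left)
      (Subgroup.index_dvd_of_le inf_le_right)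
  have h1 : X.relIndex Y * Y.index = (X ⊓ Y).index := by
    rw [← Subgroup.inf_relIndex_right, Subgroup.relIndex_mul_index inf_le_right]
  have h2 : X.relIndex Y = X.index := by
    rw [hinf] at h1
    exact Nat.eq_of_mul_eq_mul_right (Nat.pos_of_ne_zero Subgroup.index_ne_zero_of_finite) h1
  -- the map `Y → G ⧸ X` is onto by counting
  let f : Y → G ⧸ X := fun y => QuotientGroup.mk (y : G)
  let f' : Y ⧸ X.subgroupOf Y → G ⧸ X := Quotient.lift f (by
    intro a b hab
    have hab' : a⁻¹ * b ∈ X.subgroupOf Y := QuotientGroup.leftRel_apply.mp hab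
    rw [Subgroup.mem_subgroupOf] at hab'
    exact QuotientGroup.eq.mpr hab')
  have hinj : Function.Injective f' := by
    intro a b
    induction a using QuotientGroup.induction_on
    induction b using QuotientGroup.induction_on
    intro hab
    have hab' : (QuotientGroup.mk (_ : G) : G ⧸ X) = QuotientGroup.mk (_ : G) := hab
    rw [QuotientGroup.eq] at hab' ⊢
    rw [Subgroup.mem_subgroupOf]
    exact hab'
  have hcard : Nat.card (G ⧸ X) ≤ Nat.card (Y ⧸ X.subgroupOf Y) := by
    rw [← Subgroup.index_eq_card, ← Subgroup.index_eq_card]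
    exact le_of_eq h2.symm
  have hbij := Function.Injective.bijective_of_nat_card_le hinj hcard
  obtain ⟨q, hq⟩ := hbij.2 (QuotientGroup.mk g)
  induction q using QuotientGroup.induction_on with
  | H y =>
    have hq' : (QuotientGroup.mk (y : G) : G ⧸ X) = QuotientGroup.mk g := hq
    rw [QuotientGroup.eq] at hq'
    exact ⟨y, y.2, _, hq', by group⟩

theorem index_inf_of_coprime [Finite G] (X Y : Subgroup G) (h : X.index.Coprime Y.index) :
    (X ⊓ Y).index = X.index * Y.index := by
  apply le_antisymm Subgroup.index_inf_le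
  apply Nat.le_of_dvd (Nat.pos_of_ne_zero Subgroup.index_ne_zero_of_finite)
  exact Nat.Coprime.mul_dvd_of_dvd_of_dvd h (Subgroup.index_dvd_of_le inf_le_left)
    (Subgroup.index_dvd_of_le inf_le_right)

/-- classes of coprime sizes: simultaneous conjugation -/
theorem classProd [Finite G] {g h : G} (hc : (ci g).Coprime (ci h)) (a b : G) :
    ∃ c : G, c * g * c⁻¹ = a * g * a⁻¹ ∧ c * h * c⁻¹ = b * h * b⁻¹ := by
  obtain ⟨v, hv, u, hu, huv⟩ := exists_mul_of_coprime_index (cz g) (cz h) hc (b⁻¹ * a)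
  -- `b⁻¹ * a = v * u`, `u ∈ cz g`, `v ∈ cz h`; take `c = a * u⁻¹ = b * v`
  refine ⟨b * v, ?_, ?_⟩
  · have h1 : b * v = a * u⁻¹ := by
      have : b * (v * u) = a := by rw [← huv]; group
      calc b * v = b * (v * u) * u⁻¹ := by group
        _ = a * u⁻¹ := by rw [this]
    rw [h1]
    have h2 : u * g = g * u := mem_cz.mp hu
    calc a * u⁻¹ * g * (a * u⁻¹)⁻¹ = a * (u⁻¹ * (g * u)) * a⁻¹ := by group
      _ = a * (u⁻¹ * (u * g)) * a⁻¹ := by rw [h2]
      _ = a * g * a⁻¹ := by group
  · have h2 : v * h = h * v := mem_cz.mp hv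
    calc b * v * h * (b * v)⁻¹ = b * (v * h * v⁻¹) * b⁻¹ := by group
      _ = b * (h * v * v⁻¹) * b⁻¹ := by rw [h2]
      _ = b * h * b⁻¹ := by group

end Cfsg.Agent.Lib.Helper7.CL
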