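import Mathlib
import Cfsg.Agent.Lib.Helper7.CL1

/-!
# The left-multiplication stabilizer of a class, and the absorption lemma
-/

set_option autoImplicit false

open scoped Pointwise

namespace Cfsg.Agent.Lib.Helper7.CL

variable {G : Type*} [Group G]

/-- the stabilizer of the class of `t` under left multiplication -/
def lstab (t : G) : Subgroup G where
  carrier := {s | ∀ h, s * h ∈ cls t ↔ h ∈ cls t}
  one_mem' := by intro h; simp
  mul_mem' := by
    intro a b ha hb h
    rw [mul_assoc, ha, hb]
  inv_mem' := by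
    intro a ha h
    rw [← ha (a⁻¹ * h)]
    simp

theorem mem_lstab {t s : G} : s ∈ lstab t ↔ ∀ h, s * h ∈ cls t ↔ h ∈ cls t := Iff.rfl

theorem mem_lstab_of_forall [Finite G] {t s : G} (hs : ∀ h ∈ cls t, s * h ∈ cls t) :
    s ∈ lstab t := by
  let f : cls t → cls t := fun h => ⟨s * h.1, hs h.1 h.2⟩
  have hinj : Function.Injective f := by
    intro a b hab
    have : s * a.1 = s * b.1 := congrArg Subtype.val hab
    exact Subtype.ext (mul_left_cancel this)
  have hsurj : Function.Surjective f := Finite.surjective_of_injective hinj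
  intro h
  constructor
  · intro hh
    obtain ⟨h', hh'⟩ := hsurj ⟨s * h, hh⟩
    have : s * h'.1 = s * h := congrArg Subtype.val hh'
    rw [← mul_left_cancel this]
    exact h'.2
  · exact hs h

instance lstab_normal (t : G) : (lstab t).Normal := by
  constructor
  intro s hs g h
  rw [mem_lstab] at hs
  have h1 : g * s * g⁻¹ * h = g * (s * (g⁻¹ * h * g⁻¹⁻¹)) * g⁻¹ := by group
  rw [h1, conj_mem_cls_iff, hs, conj_mem_cls_iff]

theorem card_lstab_dvd [Finite G] (t : G) : Nat.card (lstab t) ∣ ci t := by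
  classical
  let X : Finset G := (Set.toFinite (cls t)).toFinset
  have hX : ∀ h, h ∈ X ↔ h ∈ cls t := fun h => Set.Finite.mem_toFinset _
  have h1 : lstab t = MulAction.stabilizer G X := by
    ext s
    rw [MulAction.mem_stabilizer_finset']
    constructor
    · intro hs b hb
      rw [hX] at hb
      rw [smul_eq_mul, hX]
      exact (hs b).mpr hb
    · intro hs
      apply mem_lstab_of_forall
      intro h hh
      have := hs ((hX h).mpr hh)
      rw [smul_eq_mul, hX] at this
      exact this
  have h2 : X.card = ci t := by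
    rw [← ncard_cls, Set.ncard_eq_toFinset_card (cls t) (Set.toFinite (cls t))]
  rw [h1, ← h2]
  exact Cfsg.Agent.Lib.Helper7.card_stabilizer_dvd_card X

theorem mul_mem_cls_of_mem_lstab {t s : G} (hs : s ∈ lstab t) : s * t ∈ cls t :=
  (hs t).mpr (self_mem_cls t)

theorem pow_card_lstab [Finite G] {t s : G} (hs : s ∈ lstab t) : s ^ ci t = 1 := by
  have h1 : (⟨s, hs⟩ : lstab t) ^ Nat.card (lstab t) = 1 := pow_card_eq_one'
  obtain ⟨k, hk⟩ := card_lstab_dvd t
  have h2 : s ^ Nat.card (lstab t) = 1 := by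
    have h3 := congrArg Subtype.val h1
    rw [Subgroup.coe_pow] at h3
    exact h3
  rw [hk, pow_mul, h2, one_pow]

/-- absorption: if the classes of `g`, `t` have coprime sizes and the class of `g * t` is not
bigger than the class of `t`, the commutators `g⁻¹ * (a * g * a⁻¹)` stabilize the class of `t`. -/
theorem absorb [Finite G] {g t : G} (hc : (ci g).Coprime (ci t)) (hle : ci (g * t) ≤ ci t)
    (a : G) : g⁻¹ * (a * g * a⁻¹) ∈ lstab t := by
  -- the class of `g * t` contains `g • cls t`
  have h1 : (fun h => g * h) '' cls t ⊆ cls (g * t) := by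
    rintro _ ⟨_, ⟨b, rfl⟩, rfl⟩
    obtain ⟨c, hc1, hc2⟩ := classProd hc 1 b
    refine ⟨c, ?_⟩
    calc c * (g * t) * c⁻¹ = c * g * c⁻¹ * (c * t * c⁻¹) := by group
      _ = 1 * g * 1⁻¹ * (b * t * b⁻¹) := by rw [hc1, hc2]
      _ = g * (b * t * b⁻¹) := by group
  have h2 : ((fun h => g * h) '' cls t).ncard = ci t := by
    rw [Set.ncard_image_of_injective _ (mul_right_injective g), ncard_cls]
  have h3 : (fun h => g * h) '' cls t = cls (g * t) := by
    apply Set.eq_of_subset_of_ncard_le h1 _ (Set.toFinite _)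
    rw [h2, ncard_cls]
    exact hle
  apply mem_lstab_of_forall
  rintro _ ⟨b, rfl⟩
  obtain ⟨c, hc1, hc2⟩ := classProd hc a b
  have h4 : a * g * a⁻¹ * (b * t * b⁻¹) ∈ cls (g * t) := by
    refine ⟨c, ?_⟩
    calc c * (g * t) * c⁻¹ = c * g * c⁻¹ * (c * t * c⁻¹) := by group
      _ = a * g * a⁻¹ * (b * t * b⁻¹) := by rw [hc1, hc2]
  rw [← h3] at h4
  obtain ⟨h', hh', hh''⟩ := h4
  have h5 : g⁻¹ * (a * g * a⁻¹) * (b * t * b⁻¹) = h' := by
    have h6 : g * h' = a * g * a⁻¹ * (b * t * b⁻¹) := hh''
    calc g⁻¹ * (a * g * a⁻¹) * (b * t * b⁻¹) = g⁻¹ * (a * g * a⁻¹ * (b * t * b⁻¹)) := by group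
      _ = g⁻¹ * (g * h') := by rw [h6]
      _ = h' := by group
  rw [h5]
  exact hh'

/-- for a normal subgroup `S` and any subgroup `C`: `|S : S ∩ C|` divides `|G : C|` -/
theorem relIndex_dvd_index_of_normal_right [Finite G] (C S : Subgroup G) [S.Normal] :
    C.relIndex S ∣ C.index := by
  have h1 : C.relIndex (C ⊔ S) ∣ C.index := Subgroup.relIndex_dvd_index_of_le le_sup_left
  have h2 : C.relIndex (C ⊔ S) = C.relIndex S := by
    -- compare cardinalities
    have e1 : S.relIndex (C ⊔ S) = S.relIndex C := Subgroup.relIndex_sup_right C S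
    have c1 : S.relIndex (C ⊔ S) * Nat.card S = Nat.card (C ⊔ S : Subgroup G) := by
      have := Subgroup.relIndex_mul_relIndex ⊥ S (C ⊔ S) bot_le le_sup_right
      rw [Subgroup.relIndex_bot_left, Subgroup.relIndex_bot_left] at this
      rw [mul_comm]; exact this
    have c2 : C.relIndex (C ⊔ S) * Nat.card C = Nat.card (C ⊔ S : Subgroup G) := by
      have := Subgroup.relIndex_mul_relIndex ⊥ C (C ⊔ S) bot_le le_sup_left
      rw [Subgroup.relIndex_bot_left, Subgroup.relIndex_bot_left] at this
      rw [mul_comm]; exact this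
    have c3 : S.relIndex C * Nat.card (C ⊓ S : Subgroup G) = Nat.card C := by
      have := Subgroup.relIndex_mul_relIndex ⊥ (C ⊓ S) C bot_le inf_le_left
      rw [Subgroup.relIndex_bot_left, Subgroup.relIndex_bot_left,
        Subgroup.inf_relIndex_left] at this
      rw [mul_comm]; exact this
    have c4 : C.relIndex S * Nat.card (C ⊓ S : Subgroup G) = Nat.card S := by
      have := Subgroup.relIndex_mul_relIndex ⊥ (C ⊓ S) S bot_le inf_le_right
      rw [Subgroup.relIndex_bot_left, Subgroup.relIndex_bot_left,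
        Subgroup.inf_relIndex_right] at this
      rw [mul_comm]; exact this
    have hposC : 0 < Nat.card C := Nat.card_pos
    have hposI : 0 < Nat.card (C ⊓ S : Subgroup G) := Nat.card_pos
    have hposR : 0 < S.relIndex C := by
      rcases Nat.eq_zero_or_pos (S.relIndex C) with h | h
      · rw [h, zero_mul] at c3; omega
      · exact h
    -- `C.relIndex (C ⊔ S) * |C| = S.relIndex C * |S| = S.relIndex C * C.relIndex S * |C ⊓ S|`
    have c5 : C.relIndex (C ⊔ S) * (S.relIndex C * Nat.card (C ⊓ S : Subgroup G)) =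
        C.relIndex S * (S.relIndex C * Nat.card (C ⊓ S : Subgroup G)) := by
      rw [c3, c2, ← c1, e1, ← c4, ← c3]; ring
    exact Nat.eq_of_mul_eq_mul_right (Nat.mul_pos hposR hposI) c5
  rw [← h2]; exact h1

/-- a normal subgroup of order prime to the index of `C` lies in `C` -/
theorem le_of_normal_of_coprime [Finite G] (C S : Subgroup G) [S.Normal]
    (h : (Nat.card S).Coprime C.index) : S ≤ C := by
  have h1 : C.relIndex S ∣ C.index := relIndex_dvd_index_of_normal_right C S
  have h2 : C.relIndex S ∣ Nat.card S := Subgroup.relIndex_dvd_card C S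
  have h3 : C.relIndex S = 1 := Nat.eq_one_of_dvd_coprimes h h2 h1
  exact Subgroup.relIndex_eq_one.mp h3

end Cfsg.Agent.Lib.Helper7.CL
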