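import Mathlib
import Cfsg.Agent.Lib.Helper7.CL2

/-!
# Two largest class sizes coprime: first consequences
-/

set_option autoImplicit false

namespace Cfsg.Agent.Lib.Helper7.CL

variable {G : Type*} [Group G]

/-- the two largest class sizes `m > n > 1` are coprime -/
structure Hyp (G : Type*) [Group G] (m n : ℕ) : Prop where
  hmn : n < m
  hn : 1 < n
  hcop : m.Coprime n
  htop : ∀ z : G, ci z ≤ m
  hsecond : ∀ z : G, ci z < m → ci z ≤ n

theorem eq_one_of_pow_coprime {k : G} {a b : ℕ} (hab : a.Coprime b) (ha : k ^ a = 1)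
    (hb : k ^ b = 1) : k = 1 := by
  have h1 : orderOf k ∣ a := orderOf_dvd_of_pow_eq_one ha
  have h2 : orderOf k ∣ b := orderOf_dvd_of_pow_eq_one hb
  exact orderOf_eq_one_iff.mp (Nat.eq_one_of_dvd_coprimes hab h1 h2)

theorem conj_pow' (a g : G) (k : ℕ) : (a * g * a⁻¹) ^ k = a * g ^ k * a⁻¹ := conj_pow

variable [Finite G] {m n : ℕ}

theorem kappa_mem_lstab (H : Hyp G m n) {g t : G} (hg : (ci g).Coprime m) (ht : ci t = m)
    (a : G) : g⁻¹ * (a * g * a⁻¹) ∈ lstab t := by
  apply absorb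
  · rw [ht]; exact hg
  · rw [ht]; exact H.htop _

theorem lstab_le_cz (H : Hyp G m n) {g t : G} (hg : (ci g).Coprime m) (ht : ci t = m) :
    lstab t ≤ cz g := by
  apply le_of_normal_of_coprime
  have h1 : Nat.card (lstab t) ∣ m := ht ▸ card_lstab_dvd t
  exact Nat.Coprime.coprime_dvd_left h1 hg.symm

/-- an element of order and class size prime to `m` is central -/
theorem mem_center_of_coprime_m (H : Hyp G m n) {g y : G} (hy : ci y = m)
    (hg : (ci g).Coprime m) (ho : (orderOf g).Coprime m) : g ∈ Subgroup.center G := by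
  apply mem_center_of_forall
  intro a
  have hk : g⁻¹ * (a * g * a⁻¹) ∈ lstab y := kappa_mem_lstab H hg hy a
  have hk2 : g⁻¹ * (a * g * a⁻¹) ∈ cz g := lstab_le_cz H hg hy hk
  set κ := g⁻¹ * (a * g * a⁻¹) with hκ
  have hcomm : Commute g κ := (mem_cz.mp hk2).symm
  have h1 : a * g * a⁻¹ = g * κ := by rw [hκ]; group
  have h2 : (a * g * a⁻¹) ^ orderOf g = 1 := by
    rw [conj_pow', pow_orderOf_eq_one]; group
  have h3 : κ ^ orderOf g = 1 := by
    rw [h1, hcomm.mul_pow, pow_orderOf_eq_one, one_mul] at h2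
    exact h2
  have h4 : κ ^ m = 1 := hy ▸ pow_card_lstab hk
  have h5 : κ = 1 := eq_one_of_pow_coprime ho h3 h4
  rw [h1, h5, mul_one]

/-- an element of class size less than `m` and prime to `n` is central -/
theorem mem_center_of_coprime_n (H : Hyp G m n) {g x y : G} (hx : ci x = n) (hy : ci y = m)
    (hg : (ci g).Coprime n) (hlt : ci g < m) : g ∈ Subgroup.center G := by
  have h1 : ci (g * x) ∣ ci g * n := by
    have hle : cz g ⊓ cz x ≤ cz (g * x) := by
      intro c hc
      have hc1 : c * g = g * c := mem_cz.mp hc.1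
      have hc2 : c * x = x * c := mem_cz.mp hc.2
      rw [mem_cz, ← mul_assoc, hc1, mul_assoc, hc2, mul_assoc]
    have := Subgroup.index_dvd_of_le hle
    rw [index_inf_of_coprime _ _ (by show (ci g).Coprime (ci x); rw [hx]; exact hg)] at this
    have h0 : (cz x).index = n := hx
    rw [h0] at this
    exact this
  have h2 : ci (g * x) ≠ m := by
    intro h
    rw [h] at h1
    have h3 : m ∣ ci g := (Nat.Coprime.dvd_mul_right H.hcop).mp h1
    have := Nat.le_of_dvd (ci_pos g) h3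
    omega
  have h3 : ci (g * x) ≤ ci x := by
    rw [hx]
    exact H.hsecond _ (lt_of_le_of_ne (H.htop _) h2)
  have hxm : (ci x).Coprime m := by rw [hx]; exact H.hcop.symm
  apply mem_center_of_forall
  intro a
  have hk : g⁻¹ * (a * g * a⁻¹) ∈ lstab x := absorb (by rw [hx]; exact hg) h3 a
  set κ := g⁻¹ * (a * g * a⁻¹) with hκ
  obtain ⟨b, hb⟩ := mul_mem_cls_of_mem_lstab hk
  have h4 : x⁻¹ * κ * x = x⁻¹ * (b * x * b⁻¹) := by rw [hb]; group
  have h5 : x⁻¹ * κ * x ∈ lstab y := by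
    rw [h4]; exact kappa_mem_lstab H hxm hy b
  have h6 : x⁻¹ * κ * x ∈ lstab x := by
    have := (lstab_normal x).conj_mem κ hk x⁻¹
    rwa [inv_inv] at this
  have h7 : (x⁻¹ * κ * x) ^ m = 1 := hy ▸ pow_card_lstab h5
  have h8 : (x⁻¹ * κ * x) ^ n = 1 := hx ▸ pow_card_lstab h6
  have h9 : x⁻¹ * κ * x = 1 := eq_one_of_pow_coprime H.hcop h7 h8
  have h10 : κ = 1 := by
    calc κ = x * (x⁻¹ * κ * x) * x⁻¹ := by group
      _ = 1 := by rw [h9]; group
  calc a * g * a⁻¹ = g * κ := by rw [hκ]; group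
    _ = g := by rw [h10, mul_one]

end Cfsg.Agent.Lib.Helper7.CL
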