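import Mathlib
import Cfsg.Agent.Lib.Helper7.ClassSize1

set_option autoImplicit false

/-!
# `p`-decomposable groups from class sizes; centralizers of products of commuting elements of
coprime orders
-/

namespace Cfsg.Agent.Lib.Helper7.ClassSize

universe u

section

variable {G : Type u} [Group G]

/-- for commuting `x`, `y` of coprime orders, `x` is a power of `x * y` -/
theorem exists_pow_eq_left {x y : G} (hc : Commute x y)
    (hcop : (orderOf x).Coprime (orderOf y)) : ∃ n : ℕ, (x * y) ^ n = x := by
  obtain ⟨n, hn1, hn2⟩ := Nat.chineseRemainder hcop 1 0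
  refine ⟨n, ?_⟩
  rw [hc.mul_pow]
  have h1 : x ^ n = x ^ 1 := pow_eq_pow_iff_modEq.mpr hn1
  have h2 : y ^ n = y ^ 0 := pow_eq_pow_iff_modEq.mpr hn2
  rw [h1, h2, pow_one, pow_zero, mul_one]

/-- centralizer of a product of commuting elements of coprime orders -/
theorem centralizer_mul_of_coprime {x y : G} (hc : Commute x y)
    (hcop : (orderOf x).Coprime (orderOf y)) :
    Subgroup.centralizer {x * y} = Subgroup.centralizer {x} ⊓ Subgroup.centralizer {y} := by
  apply le_antisymm
  · intro g hg
    rw [Subgroup.mem_centralizer_singleton_iff] at hg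
    obtain ⟨n, hn⟩ := exists_pow_eq_left hc hcop
    obtain ⟨n', hn'⟩ := exists_pow_eq_left hc.symm hcop.symm
    have hcomm : ∀ k : ℕ, g * (x * y) ^ k = (x * y) ^ k * g := by
      intro k
      have : Commute g (x * y) := hg
      exact (this.pow_right k).eq
    have hgx : g ∈ Subgroup.centralizer {x} := by
      rw [Subgroup.mem_centralizer_singleton_iff, ← hn]
      exact hcomm n
    have hgy : g ∈ Subgroup.centralizer {y} := by
      rw [Subgroup.mem_centralizer_singleton_iff, ← hn', ← hc.eq]
      exact hcomm n'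
    exact ⟨hgx, hgy⟩
  · intro g hg
    have hg1 : g ∈ Subgroup.centralizer {x} := hg.1
    have hg2 : g ∈ Subgroup.centralizer {y} := hg.2
    rw [Subgroup.mem_centralizer_singleton_iff] at hg1 hg2 ⊢
    rw [← mul_assoc, hg1, mul_assoc, hg2, mul_assoc]

end

section decomp

variable {H : Type u} [Group H] [Finite H] (p : ℕ) [hp : Fact p.Prime]

/-- if all `p'`-elements have class size prime to `p`, the group has a normal `p`-complement
which is centralized by every `p`-subgroup -/
theorem exists_central_complement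
    (hH : ∀ y : H, (orderOf y).Coprime p → ((Subgroup.centralizer {y}).index).Coprime p) :
    ∃ K : Subgroup H, K.Normal ∧ (Nat.card K).Coprime p ∧ (∃ j : ℕ, K.index = p ^ j) ∧
      ∀ U : Subgroup H, IsPGroup p U → ∀ u ∈ U, ∀ k ∈ K, u * k = k * u := by
  obtain ⟨P⟩ : Nonempty (Sylow p H) := inferInstance
  obtain ⟨hPn, hPc⟩ := sylow_normal_of_coprime_index p hH P
  haveI := hPn
  obtain ⟨K, hK⟩ := Subgroup.exists_left_complement'_of_coprime P.card_coprime_index
  -- `K.IsComplement' P`
  have hcardK : Nat.card K = (P : Subgroup H).index := hK.index_eq_card.symm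
  have hKcop : (Nat.card K).Coprime p := by
    rw [hcardK]
    have h1 := P.card_coprime_index
    obtain ⟨v, hv⟩ := IsPGroup.iff_card.mp P.isPGroup'
    by_cases hv0 : v = 0
    · -- trivial Sylow: use that `p` does not divide the index
      have := P.not_dvd_index
      exact ((Nat.Prime.coprime_iff_not_dvd hp.out).mpr this).symm
    · rw [hv] at h1
      exact (Nat.Coprime.coprime_dvd_left (dvd_pow_self p hv0) h1).symm
  have hKP : ∀ k ∈ K, k ∈ Subgroup.centralizer ((P : Subgroup H) : Set H) := by
    intro k hk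
    apply hPc
    have h1 : orderOf k ∣ Nat.card K := by
      have := orderOf_dvd_natCard (⟨k, hk⟩ : K)
      rwa [Subgroup.orderOf_mk] at this
    exact Nat.Coprime.coprime_dvd_left h1 hKcop
  have hidx : K.index = Nat.card (P : Subgroup H) := hK.symm.index_eq_card
  obtain ⟨v, hv⟩ := IsPGroup.iff_card.mp P.isPGroup'
  have hKn : K.Normal := by
    refine ⟨fun k hk g => ?_⟩
    have hg : g ∈ K ⊔ (P : Subgroup H) := by
      rw [hK.sup_eq_top]
      trivial
    obtain ⟨k', hk', z, hz, rfl⟩ := Subgroup.mem_sup_of_normal_right.mp hg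
    have h1 : z * k = k * z := (Subgroup.mem_centralizer_iff.mp (hKP k hk)) z hz
    have h2 : k' * z * k * (k' * z)⁻¹ = k' * k * k'⁻¹ := by
      calc k' * z * k * (k' * z)⁻¹ = k' * (z * k) * z⁻¹ * k'⁻¹ := by group
        _ = k' * (k * z) * z⁻¹ * k'⁻¹ := by rw [h1]
        _ = k' * k * k'⁻¹ := by group
    rw [h2]
    exact K.mul_mem (K.mul_mem hk' hk) (K.inv_mem hk')
  refine ⟨K, hKn, hKcop, ⟨v, by rw [hidx, hv]⟩, ?_⟩
  intro U hU u hu k hk
  have hUP : U ≤ (P : Subgroup H) := by
    obtain ⟨Q, hQ⟩ := hU.exists_le_sylow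
    have hsub : Subsingleton (Sylow p H) := by
      rw [← Finite.card_le_one_iff_subsingleton, Sylow.card_eq_index_normalizer P]
      have : Subgroup.normalizer ((P : Subgroup H) : Set H) = ⊤ :=
        Subgroup.normalizer_eq_top_iff.mpr hPn
      have h2 : (Subgroup.normalizer ((P : Subgroup H) : Set H)).index = 1 := by
        rw [this, Subgroup.index_top]
      exact h2.le
    have : Q = P := Subsingleton.elim _ _
    rw [← this]
    exact hQ
  exact (Subgroup.mem_centralizer_iff.mp (hKP k hk)) u (hUP hu)

end decomp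

end Cfsg.Agent.Lib.Helper7.ClassSize
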