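import Mathlib
import Cfsg.Agent.Lib.Helper7.CL3
import Cfsg.Agent.Lib.Helper7.PiClass1
import Cfsg.Agent.Lib.Helper7.ClassSize2

/-!
# Two largest class sizes coprime: `π'`-elements of `C(x)` are central, and `C(x)` contains no
element of class size `m`
-/

set_option autoImplicit false

namespace Cfsg.Agent.Lib.Helper7.CL

open Cfsg.Agent.Lib.Helper7.PiClass

variable {G : Type*} [Group G]

/-- the primes dividing `m` -/
def pis (m : ℕ) : Set ℕ := {q | q.Prime ∧ q ∣ m}

theorem coprime_of_isPi' {m : ℕ} {g : G} (h : IsPi' (pis m) g) : (orderOf g).Coprime m := by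
  apply Nat.coprime_of_dvd
  intro k hk hkd hkm
  exact h k hk hkd ⟨hk, hkm⟩

theorem isPi'_of_coprime {m : ℕ} {g : G} (h : (orderOf g).Coprime m) : IsPi' (pis m) g := by
  intro q hq hqd hqm
  have h1 : q ∣ Nat.gcd (orderOf g) m := Nat.dvd_gcd hqd hqm.2
  rw [h] at h1
  exact hq.one_lt.ne' (Nat.dvd_one.mp h1)

theorem coprime_of_isPi {m k : ℕ} {g : G} (h : IsPi (pis m) g) (hk : m.Coprime k) :
    (orderOf g).Coprime k := by
  apply Nat.coprime_of_dvd
  intro q hq hqd hqk
  have h1 : q ∣ Nat.gcd m k := Nat.dvd_gcd (h q hq hqd).2 hqk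
  rw [hk] at h1
  exact hq.one_lt.ne' (Nat.dvd_one.mp h1)

theorem coprime_orders {m : ℕ} {g a : G} (h : IsPi (pis m) g) (ha : (orderOf a).Coprime m) :
    (orderOf g).Coprime (orderOf a) :=
  coprime_of_pi h (isPi'_of_coprime ha)

theorem le_of_le_of_index_eq {G : Type*} [Group G] [Finite G] {H K : Subgroup G} (hle : H ≤ K)
    (h : H.index = K.index) : K ≤ H := by
  have h1 := Subgroup.relIndex_mul_index hle
  rw [h] at h1
  have hpos : 0 < K.index := Nat.pos_of_ne_zero Subgroup.index_ne_zero_of_finite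
  have h2 : H.relIndex K = 1 := by
    have : H.relIndex K * K.index = 1 * K.index := by rw [h1, one_mul]
    exact Nat.eq_of_mul_eq_mul_right hpos this
  exact Subgroup.relIndex_eq_one.mp h2

variable [Finite G]

theorem cz_le_cz_piPart (π : Set ℕ) (x : G) : cz x ≤ cz (piPart π x) := by
  intro c hc
  have h1 : Commute c x := mem_cz.mp hc
  exact mem_cz.mpr (commute_piPart π h1).eq

theorem cz_le_cz_piPart' (π : Set ℕ) (x : G) : cz x ≤ cz (piPart' π x) := by
  intro c hc
  have h1 : Commute c x := mem_cz.mp hc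
  exact mem_cz.mpr (commute_piPart' π h1).eq

theorem cz_piPart_of_central (π : Set ℕ) {x : G} (h : piPart' π x ∈ Subgroup.center G) :
    cz (piPart π x) = cz x := by
  apply le_antisymm _ (cz_le_cz_piPart π x)
  intro c hc
  have h1 : c * piPart π x = piPart π x * c := mem_cz.mp hc
  have h2 : c * piPart' π x = piPart' π x * c := Subgroup.mem_center_iff.mp h c
  rw [mem_cz, ← piPart_mul_piPart' π x, ← mul_assoc, h1, mul_assoc, h2, mul_assoc]

theorem cz_piPart'_of_central (π : Set ℕ) {x : G} (h : piPart π x ∈ Subgroup.center G) :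
    cz (piPart' π x) = cz x := by
  apply le_antisymm _ (cz_le_cz_piPart' π x)
  intro c hc
  have h1 : c * piPart' π x = piPart' π x * c := mem_cz.mp hc
  have h2 : c * piPart π x = piPart π x * c := Subgroup.mem_center_iff.mp h c
  rw [mem_cz, ← piPart_mul_piPart' π x, ← mul_assoc, h2, mul_assoc, h1, mul_assoc]

omit [Finite G] in
theorem cz_mul_of_coprime {x y : G} (hc : x * y = y * x)
    (hcop : (orderOf x).Coprime (orderOf y)) : cz (x * y) = cz x ⊓ cz y :=
  Cfsg.Agent.Lib.Helper7.ClassSize.centralizer_mul_of_coprime hc hcop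

variable {m n : ℕ}

/-- `F2`: an element of `C(x)` of order prime to `m` is central -/
theorem mem_center_of_mem_cz (H : Hyp G m n) {x y a : G} (hx : ci x = n) (hy : ci y = m)
    (ha : a ∈ cz x) (hao : (orderOf a).Coprime m) : a ∈ Subgroup.center G := by
  have hx2 : piPart' (pis m) x ∈ Subgroup.center G := by
    apply mem_center_of_coprime_m H hy
    · have h1 : ci (piPart' (pis m) x) ∣ n := hx ▸ ci_dvd_of_le (cz_le_cz_piPart' _ x)
      exact Nat.Coprime.coprime_dvd_left h1 H.hcop.symm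
    · exact coprime_of_isPi' (isPi'_piPart' _ x)
  have hx1 : cz (piPart (pis m) x) = cz x := cz_piPart_of_central _ hx2
  set x₁ := piPart (pis m) x with hx₁
  have hcx1 : ci x₁ = n := by
    show (cz x₁).index = n
    rw [hx1]; exact hx
  have hcomm : x₁ * a = a * x₁ := by
    have : a ∈ cz x₁ := by rw [hx1]; exact ha
    exact (mem_cz.mp this).symm
  have hcop : (orderOf x₁).Coprime (orderOf a) := coprime_orders (isPi_piPart _ x) hao
  have hcz : cz (x₁ * a) = cz x₁ ⊓ cz a := cz_mul_of_coprime hcomm hcop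
  have h1 : n ∣ ci (x₁ * a) := by
    rw [← hcx1]
    apply ci_dvd_of_le
    rw [hcz]; exact inf_le_left
  have h2 : ci (x₁ * a) ≠ m := by
    intro h
    rw [h] at h1
    have h3 : n ∣ Nat.gcd m n := Nat.dvd_gcd h1 dvd_rfl
    rw [H.hcop] at h3
    have := Nat.dvd_one.mp h3
    have := H.hn
    omega
  have h3 : ci (x₁ * a) ≤ n := H.hsecond _ (lt_of_le_of_ne (H.htop _) h2)
  have h4 : ci (x₁ * a) = n := le_antisymm h3 (Nat.le_of_dvd (ci_pos _) h1)
  have h5 : cz x₁ ≤ cz (x₁ * a) := by
    apply le_of_le_of_index_eq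
    · rw [hcz]; exact inf_le_left
    · show ci (x₁ * a) = ci x₁
      rw [h4, hcx1]
  have h6 : cz x₁ ≤ cz a := by
    intro c hc
    have := h5 hc
    rw [hcz] at this
    exact this.2
  apply mem_center_of_coprime_m H hy _ hao
  have h7 : ci a ∣ n := hcx1 ▸ ci_dvd_of_le h6
  exact Nat.Coprime.coprime_dvd_left h7 H.hcop.symm

/-- `C(x)` contains no element of class size `m` -/
theorem ci_ne_of_mem_cz (H : Hyp G m n) {x y a : G} (hx : ci x = n) (hy : ci y = m)
    (ha : a ∈ cz x) : ci a ≠ m := by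
  intro ham
  have ha2 : piPart' (pis m) a ∈ Subgroup.center G :=
    mem_center_of_mem_cz H hx hy (piPart'_mem _ ha) (coprime_of_isPi' (isPi'_piPart' _ a))
  have ha1 : cz (piPart (pis m) a) = cz a := cz_piPart_of_central _ ha2
  set a₁ := piPart (pis m) a with ha₁
  have hca1 : ci a₁ = m := by
    show (cz a₁).index = m
    rw [ha1]; exact ham
  have ha1x : a₁ ∈ cz x := piPart_mem _ ha
  obtain ⟨q, hq, hqn⟩ := Nat.exists_prime_and_dvd (ne_of_gt H.hn)
  haveI : Fact q.Prime := ⟨hq⟩
  have hqm : ¬ q ∣ m := by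
    intro h
    have h3 : q ∣ Nat.gcd m n := Nat.dvd_gcd h hqn
    rw [H.hcop] at h3
    exact hq.one_lt.ne' (Nat.dvd_one.mp h3)
  have hqm' : q.Coprime m := (Nat.Prime.coprime_iff_not_dvd hq).mpr hqm
  obtain ⟨Q⟩ : Nonempty (Sylow q (cz a₁)) := inferInstance
  have hQ : (Q : Subgroup (cz a₁)) ≤ (Subgroup.center G).subgroupOf (cz a₁) := by
    intro c hc
    rw [Subgroup.mem_subgroupOf]
    have hco : (orderOf (c : G)).Coprime m := by
      have h1 := Q.isPGroup'.orderOf_coprime hqm' ⟨c, hc⟩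
      rw [← Subgroup.orderOf_coe] at h1
      rw [← Subgroup.orderOf_coe] at h1
      exact h1
    have hcomm : a₁ * (c : G) = (c : G) * a₁ := (mem_cz.mp c.2).symm
    have hcop : (orderOf a₁).Coprime (orderOf (c : G)) := coprime_orders (isPi_piPart _ a) hco
    have hcz : cz (a₁ * (c : G)) = cz a₁ ⊓ cz (c : G) := cz_mul_of_coprime hcomm hcop
    have h1 : m ∣ ci (a₁ * (c : G)) := by
      rw [← hca1]
      apply ci_dvd_of_le
      rw [hcz]; exact inf_le_left
    have h2 : ci (a₁ * (c : G)) = m :=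
      le_antisymm (H.htop _) (Nat.le_of_dvd (ci_pos _) h1)
    have h3 : cz a₁ ≤ cz (a₁ * (c : G)) := by
      apply le_of_le_of_index_eq
      · rw [hcz]; exact inf_le_left
      · show ci (a₁ * (c : G)) = ci a₁
        rw [h2, hca1]
    have h4 : x ∈ cz (c : G) := by
      have h5 : x ∈ cz a₁ := mem_cz_comm.mp ha1x
      have := h3 h5
      rw [hcz] at this
      exact this.2
    exact mem_center_of_mem_cz H hx hy (mem_cz_comm.mp h4) hco
  -- so `q` does not divide `|C(a₁) : Z|`
  have h1 : ¬ q ∣ (Subgroup.center G).relIndex (cz a₁) := by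
    intro h
    have h2 := Subgroup.relIndex_mul_index hQ
    have h3 : q ∣ (Q : Subgroup (cz a₁)).index := by
      rw [← h2]
      exact Dvd.dvd.mul_left h _
    exact Q.not_dvd_index h3
  have h2 : (Subgroup.center G).index = (Subgroup.center G).relIndex (cz a₁) * m := by
    rw [← hca1]
    exact (Subgroup.relIndex_mul_index (center_le_cz a₁)).symm
  have h3 : n ∣ (Subgroup.center G).index := hx ▸ Subgroup.index_dvd_of_le (center_le_cz x)
  have h4 : q ∣ (Subgroup.center G).relIndex (cz a₁) * m := h2 ▸ hqn.trans h3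
  rcases (Nat.Prime.dvd_mul hq).mp h4 with h | h
  · exact h1 h
  · exact hqm h

end Cfsg.Agent.Lib.Helper7.CL
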