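import Mathlib
import Cfsg.Agent.Lib.Helper7.CL4

/-!
# Two largest class sizes coprime: `C(x) ∩ C(y) = Z(G)`
-/

set_option autoImplicit false

namespace Cfsg.Agent.Lib.Helper7.CL

open Cfsg.Agent.Lib.Helper7.PiClass

variable {G : Type*} [Group G] [Finite G] {m n : ℕ}

theorem ci_conj_inv (g a : G) : ci (a⁻¹ * g * a) = ci g := by
  have := ci_conj g a⁻¹
  rwa [inv_inv] at this

/-- a `π`-element whose class size divides `m` is central -/
theorem mem_center_of_isPi (H : Hyp G m n) {x y : G} (hx : ci x = n) (hy : ci y = m) :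
    ∀ (k : ℕ) (c : G), orderOf c = k → IsPi (pis m) c → ci c ∣ m →
      c ∈ Subgroup.center G := by
  intro k
  induction k using Nat.strong_induction_on with
  | _ k ih =>
    intro c hck hpi hci
    by_cases h1 : c = 1
    · rw [h1]; exact Subgroup.one_mem _
    have hk1 : orderOf c ≠ 1 := fun h => h1 (orderOf_eq_one_iff.mp h)
    obtain ⟨p, hp, hpd⟩ := Nat.exists_prime_and_dvd hk1
    haveI : Fact p.Prime := ⟨hp⟩
    have hpm : p ∣ m := (hpi p hp hpd).2
    have hpn : n.Coprime p := by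
      rw [Nat.coprime_comm]
      apply (Nat.Prime.coprime_iff_not_dvd hp).mpr
      intro h
      have h3 : p ∣ Nat.gcd m n := Nat.dvd_gcd hpm h
      rw [H.hcop] at h3
      exact hp.one_lt.ne' (Nat.dvd_one.mp h3)
    obtain ⟨c₁, hc₁⟩ : ∃ c₁, c₁ = piPart ({p} : Set ℕ) c := ⟨_, rfl⟩
    obtain ⟨c₂, hc₂⟩ : ∃ c₂, c₂ = piPart' ({p} : Set ℕ) c := ⟨_, rfl⟩
    have hpi1 : IsPi ({p} : Set ℕ) c₁ := hc₁ ▸ isPi_piPart _ c
    have hpi2 : IsPi' ({p} : Set ℕ) c₂ := hc₂ ▸ isPi'_piPart' _ c
    have hmul : c₁ * c₂ = c := by rw [hc₁, hc₂]; exact piPart_mul_piPart' _ c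
    -- `c₁` is a `p`-element
    have hpg : IsPGroup p (Subgroup.zpowers c₁) := by
      have h2 : orderOf c₁ = p ^ (orderOf c₁).primeFactorsList.length := by
        apply Nat.eq_prime_pow_of_unique_prime_dvd (orderOf_pos c₁).ne'
        intro d hd hdd
        exact hpi1 d hd hdd
      apply IsPGroup.of_card (n := (orderOf c₁).primeFactorsList.length)
      rw [Nat.card_zpowers]
      exact h2
    have hidx : (cz x).index.Coprime p := by
      have h0 : (cz x).index = n := hx
      rw [h0]; exact hpn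
    obtain ⟨g, hg⟩ := Cfsg.Agent.Lib.Helper7.ClassSize.exists_conj_le_of_coprime_index p (cz x)
      hidx (Subgroup.zpowers c₁) hpg
    have h2 : g⁻¹ * c₁ * g ∈ cz x := hg c₁ (Subgroup.mem_zpowers c₁)
    have hne : ci c₁ ≠ m := by
      rw [← ci_conj_inv c₁ g]
      exact ci_ne_of_mem_cz H hx hy h2
    have hc1dvd : ci c₁ ∣ m := by
      rw [hc₁]
      exact (ci_dvd_of_le (cz_le_cz_piPart _ c)).trans hci
    have hc1Z : c₁ ∈ Subgroup.center G := by
      apply mem_center_of_coprime_n H hx hy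
      · exact Nat.Coprime.coprime_dvd_left hc1dvd H.hcop
      · exact lt_of_le_of_ne (H.htop _) hne
    have hcz2 : cz c₂ = cz c := by
      rw [hc₂]
      apply cz_piPart'_of_central
      rw [← hc₁]; exact hc1Z
    have hord1 : orderOf c₂ ∣ orderOf c := by
      rw [hc₂]
      exact orderOf_pow_dvd _
    have hord : orderOf c₂ < orderOf c := by
      apply lt_of_le_of_ne (Nat.le_of_dvd (orderOf_pos c) hord1)
      intro h
      rw [← h] at hpd
      exact hpi2 p hp hpd rfl
    have hpi2' : IsPi (pis m) c₂ := by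
      intro q hq hqd
      exact hpi q hq (hqd.trans hord1)
    have hci2 : ci c₂ ∣ m := by
      have h0 : ci c₂ = ci c := by
        show (cz c₂).index = (cz c).index
        rw [hcz2]
      rw [h0]; exact hci
    have hc2Z : c₂ ∈ Subgroup.center G := ih (orderOf c₂) (hck ▸ hord) c₂ rfl hpi2' hci2
    rw [← hmul]
    exact Subgroup.mul_mem _ hc1Z hc2Z

/-- `C(x) ∩ C(y) = Z(G)` -/
theorem cz_inf_cz (H : Hyp G m n) {x y : G} (hx : ci x = n) (hy : ci y = m) :
    cz x ⊓ cz y = Subgroup.center G := by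
  apply le_antisymm _ (le_inf (center_le_cz x) (center_le_cz y))
  intro c hc
  have hc2 : piPart' (pis m) c ∈ Subgroup.center G :=
    mem_center_of_mem_cz H hx hy (piPart'_mem _ hc.1) (coprime_of_isPi' (isPi'_piPart' _ c))
  have hy1 : piPart (pis m) y ∈ Subgroup.center G := by
    apply mem_center_of_isPi H hx hy _ _ rfl (isPi_piPart _ y)
    rw [← hy]
    exact ci_dvd_of_le (cz_le_cz_piPart _ y)
  have hcy2 : cz (piPart' (pis m) y) = cz y := cz_piPart'_of_central _ hy1
  obtain ⟨y₂, hy₂⟩ : ∃ y₂, y₂ = piPart' (pis m) y := ⟨_, rfl⟩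
  obtain ⟨c₁, hc₁⟩ : ∃ c₁, c₁ = piPart (pis m) c := ⟨_, rfl⟩
  rw [← hy₂] at hcy2
  have hciy2 : ci y₂ = m := by
    show (cz y₂).index = m
    rw [hcy2]; exact hy
  have hy2o : (orderOf y₂).Coprime m := by
    rw [hy₂]; exact coprime_of_isPi' (isPi'_piPart' _ y)
  have hc1pi : IsPi (pis m) c₁ := hc₁ ▸ isPi_piPart _ c
  have hc1y : c₁ ∈ cz y₂ := by
    rw [hcy2, hc₁]; exact piPart_mem _ hc.2
  have hcomm : c₁ * y₂ = y₂ * c₁ := mem_cz.mp hc1y
  have hcz : cz (c₁ * y₂) = cz c₁ ⊓ cz y₂ :=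
    cz_mul_of_coprime hcomm (coprime_orders hc1pi hy2o)
  have h1 : m ∣ ci (c₁ * y₂) := by
    rw [← hciy2]
    apply ci_dvd_of_le
    rw [hcz]; exact inf_le_right
  have h2 : ci (c₁ * y₂) = m := le_antisymm (H.htop _) (Nat.le_of_dvd (ci_pos _) h1)
  have h3 : cz y₂ ≤ cz (c₁ * y₂) := by
    apply le_of_le_of_index_eq
    · rw [hcz]; exact inf_le_right
    · show ci (c₁ * y₂) = ci y₂
      rw [h2, hciy2]
  have h4 : cz y₂ ≤ cz c₁ := by
    intro d hd
    have := h3 hd
    rw [hcz] at this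
    exact this.1
  have h5 : ci c₁ ∣ m := hciy2 ▸ ci_dvd_of_le h4
  have hc1Z : c₁ ∈ Subgroup.center G := mem_center_of_isPi H hx hy _ _ rfl hc1pi h5
  rw [← piPart_mul_piPart' (pis m) c, ← hc₁]
  exact Subgroup.mul_mem _ hc1Z hc2

theorem index_center (H : Hyp G m n) {x y : G} (hx : ci x = n) (hy : ci y = m) :
    (Subgroup.center G).index = m * n := by
  rw [← cz_inf_cz H hx hy, index_inf_of_coprime]
  · show ci x * ci y = m * n
    rw [hx, hy, mul_comm]
  · show (ci x).Coprime (ci y)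
    rw [hx, hy]; exact H.hcop.symm

theorem relIndex_center_cz_x (H : Hyp G m n) {x y : G} (hx : ci x = n) (hy : ci y = m) :
    (Subgroup.center G).relIndex (cz x) = m := by
  have h1 := Subgroup.relIndex_mul_index (center_le_cz x)
  rw [index_center H hx hy] at h1
  have h0 : (cz x).index = n := hx
  rw [h0] at h1
  exact Nat.eq_of_mul_eq_mul_right (by have := H.hn; omega) h1

theorem relIndex_center_cz_y (H : Hyp G m n) {x y : G} (hx : ci x = n) (hy : ci y = m) :
    (Subgroup.center G).relIndex (cz y) = n := by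
  have h1 := Subgroup.relIndex_mul_index (center_le_cz y)
  rw [index_center H hx hy] at h1
  have h0 : (cz y).index = m := hy
  rw [h0, mul_comm m n] at h1
  exact Nat.eq_of_mul_eq_mul_right (by have := H.hn; have := H.hmn; omega) h1

theorem pow_mem_center_of_mem_cz_x (H : Hyp G m n) {x y : G} (hx : ci x = n) (hy : ci y = m)
    {a : G} (ha : a ∈ cz x) : a ^ m ∈ Subgroup.center G := by
  have := Subgroup.pow_relIndex_mem (Subgroup.center G) ha
  rwa [relIndex_center_cz_x H hx hy] at this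

theorem pow_mem_center_of_mem_cz_y (H : Hyp G m n) {x y : G} (hx : ci x = n) (hy : ci y = m)
    {b : G} (hb : b ∈ cz y) : b ^ n ∈ Subgroup.center G := by
  have := Subgroup.pow_relIndex_mem (Subgroup.center G) hb
  rwa [relIndex_center_cz_y H hx hy] at this

theorem relIndex_mul_card' {K L : Subgroup G} (h : K ≤ L) :
    K.relIndex L * Nat.card K = Nat.card L := by
  have := Subgroup.relIndex_mul_relIndex ⊥ K L bot_le h
  rw [Subgroup.relIndex_bot_left, Subgroup.relIndex_bot_left] at this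
  rw [mul_comm]; exact this

theorem card_cz_x (H : Hyp G m n) {x y : G} (hx : ci x = n) (hy : ci y = m) :
    Nat.card (cz x) = m * Nat.card (Subgroup.center G) := by
  rw [← relIndex_mul_card' (center_le_cz x), relIndex_center_cz_x H hx hy]

theorem card_cz_y (H : Hyp G m n) {x y : G} (hx : ci x = n) (hy : ci y = m) :
    Nat.card (cz y) = n * Nat.card (Subgroup.center G) := by
  rw [← relIndex_mul_card' (center_le_cz y), relIndex_center_cz_y H hx hy]

theorem card_eq (H : Hyp G m n) {x y : G} (hx : ci x = n) (hy : ci y = m) :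
    Nat.card G = m * n * Nat.card (Subgroup.center G) := by
  rw [← index_center H hx hy, mul_comm]
  exact (Subgroup.card_mul_index _).symm

/-- `G = C(x) C(y)` -/
theorem exists_factor (H : Hyp G m n) {x y : G} (hx : ci x = n) (hy : ci y = m) (g : G) :
    ∃ a ∈ cz x, ∃ b ∈ cz y, g = a * b := by
  apply exists_mul_of_coprime_index (cz y) (cz x)
  show (ci y).Coprime (ci x)
  rw [hx, hy]; exact H.hcop

end Cfsg.Agent.Lib.Helper7.CL
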