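import Mathlib
import Cfsg.Agent.Lib.Helper7.CL1

/-!
# The commutator map `μ ↦ μ b μ⁻¹ b⁻¹` on an abelian normal subgroup
-/

set_option autoImplicit false

namespace Cfsg.Agent.Lib.Helper7.CL

variable {G : Type*} [Group G]

/-- the closure of a conjugation-invariant set is normal -/
theorem closure_normal_of_conj {S : Set G} (h : ∀ s ∈ S, ∀ g : G, g * s * g⁻¹ ∈ S) :
    (Subgroup.closure S).Normal := by
  constructor
  intro w hw g
  induction hw using Subgroup.closure_induction with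
  | mem s hs => exact Subgroup.subset_closure (h s hs g)
  | one => simp
  | mul a b _ _ ha hb =>
    have : g * (a * b) * g⁻¹ = (g * a * g⁻¹) * (g * b * g⁻¹) := by group
    rw [this]; exact Subgroup.mul_mem _ ha hb
  | inv a _ ha =>
    have : g * a⁻¹ * g⁻¹ = (g * a * g⁻¹)⁻¹ := by group
    rw [this]; exact Subgroup.inv_mem _ ha

/-- the commutator map on an abelian normal subgroup, as a homomorphism -/
def gam (W : Subgroup G) [hW : W.Normal] (hab : ∀ u ∈ W, ∀ v ∈ W, u * v = v * u) (b : G) :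
    W →* W where
  toFun μ := ⟨(μ : G) * b * (μ : G)⁻¹ * b⁻¹, by
    have h1 : b * (μ : G)⁻¹ * b⁻¹ ∈ W := hW.conj_mem _ (W.inv_mem μ.2) b
    have h2 : (μ : G) * b * (μ : G)⁻¹ * b⁻¹ = (μ : G) * (b * (μ : G)⁻¹ * b⁻¹) := by group
    rw [h2]; exact W.mul_mem μ.2 h1⟩
  map_one' := by
    apply Subtype.ext
    simp
  map_mul' := by
    intro μ ν
    apply Subtype.ext
    have h1 : b * (μ : G)⁻¹ * b⁻¹ ∈ W := hW.conj_mem _ (W.inv_mem μ.2) b
    have h2 : (ν : G) * b * (ν : G)⁻¹ * b⁻¹ ∈ W := by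
      have h3 : b * (ν : G)⁻¹ * b⁻¹ ∈ W := hW.conj_mem _ (W.inv_mem ν.2) b
      have h4 : (ν : G) * b * (ν : G)⁻¹ * b⁻¹ = (ν : G) * (b * (ν : G)⁻¹ * b⁻¹) := by group
      rw [h4]; exact W.mul_mem ν.2 h3
    have h5 := hab _ h2 _ h1
    show ((μ : G) * (ν : G)) * b * ((μ : G) * (ν : G))⁻¹ * b⁻¹ =
      ((μ : G) * b * (μ : G)⁻¹ * b⁻¹) * ((ν : G) * b * (ν : G)⁻¹ * b⁻¹)
    calc ((μ : G) * (ν : G)) * b * ((μ : G) * (ν : G))⁻¹ * b⁻¹
        = (μ : G) * (((ν : G) * b * (ν : G)⁻¹ * b⁻¹) * (b * (μ : G)⁻¹ * b⁻¹)) := by group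
      _ = (μ : G) * ((b * (μ : G)⁻¹ * b⁻¹) * ((ν : G) * b * (ν : G)⁻¹ * b⁻¹)) := by rw [h5]
      _ = ((μ : G) * b * (μ : G)⁻¹ * b⁻¹) * ((ν : G) * b * (ν : G)⁻¹ * b⁻¹) := by group

theorem gam_apply (W : Subgroup G) [W.Normal] (hab : ∀ u ∈ W, ∀ v ∈ W, u * v = v * u) (b : G)
    (μ : W) : ((gam W hab b μ : W) : G) = (μ : G) * b * (μ : G)⁻¹ * b⁻¹ := rfl

theorem comm_eq_one_iff {μ b : G} : μ * b * μ⁻¹ * b⁻¹ = 1 ↔ μ ∈ cz b := by
  rw [mem_cz]
  constructor
  · intro h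
    calc μ * b = μ * b * μ⁻¹ * b⁻¹ * (b * μ) := by group
      _ = b * μ := by rw [h, one_mul]
  · intro h
    rw [h]; group

/-- decomposition of an abelian normal subgroup under the commutator map with `b`, provided
the image meets `C(b)` trivially -/
theorem gamma_decomp [Finite G] (W : Subgroup G) [W.Normal]
    (hab : ∀ u ∈ W, ∀ v ∈ W, u * v = v * u) (b : G)
    (hdisj : ∀ μ ∈ W, μ * b * μ⁻¹ * b⁻¹ ∈ cz b → μ * b * μ⁻¹ * b⁻¹ = 1) :
    (∀ w ∈ W, ∃ w₀ ∈ W, w₀ ∈ cz b ∧ ∃ μ ∈ W, w = w₀ * (μ * b * μ⁻¹ * b⁻¹)) ∧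
    Nat.card (W ⊓ cz b : Subgroup G) * Nat.card {k : G // ∃ μ ∈ W, μ * b * μ⁻¹ * b⁻¹ = k} =
      Nat.card W := by
  set γ := gam W hab b with hγ
  have hker : ∀ μ : W, μ ∈ γ.ker ↔ (μ : G) ∈ cz b := by
    intro μ
    rw [MonoidHom.mem_ker, ← comm_eq_one_iff, ← gam_apply W hab b μ]
    constructor
    · intro h; rw [h]; rfl
    · intro h; exact Subtype.ext h
  have hdis : Disjoint γ.ker γ.range := by
    rw [Subgroup.disjoint_def]
    intro k hk1 hk2
    obtain ⟨μ, rfl⟩ := hk2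
    have h1 : ((γ μ : W) : G) ∈ cz b := (hker _).mp hk1
    rw [gam_apply] at h1
    have h2 := hdisj _ μ.2 h1
    apply Subtype.ext
    rw [gam_apply, h2]; rfl
  have hcard : Nat.card γ.ker * Nat.card γ.range = Nat.card W := by
    rw [← Subgroup.index_ker]
    exact Subgroup.card_mul_index _
  have hcomp : Subgroup.IsComplement' γ.ker γ.range :=
    Subgroup.isComplement'_of_card_mul_and_disjoint hcard hdis
  constructor
  · intro w hw
    obtain ⟨⟨k₀, k₁⟩, hk, -⟩ := (Subgroup.isComplement'_def.mp hcomp).existsUnique ⟨w, hw⟩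
    obtain ⟨μ, hμ⟩ := k₁.2
    refine ⟨(k₀ : W), (k₀ : W).2, (hker _).mp k₀.2, (μ : G), μ.2, ?_⟩
    have h1 : ((k₀ : W) : G) * ((k₁ : W) : G) = w := congrArg Subtype.val hk
    rw [← gam_apply W hab b μ, ← h1]
    congr 2
    exact hμ.symm
  · have e1 : Nat.card γ.ker = Nat.card (W ⊓ cz b : Subgroup G) := by
      apply Nat.card_congr
      exact
        { toFun := fun μ => ⟨((μ : W) : G), (μ : W).2, (hker _).mp μ.2⟩
          invFun := fun μ => ⟨⟨(μ : G), μ.2.1⟩, (hker _).mpr μ.2.2⟩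
          left_inv := fun _ => rfl
          right_inv := fun _ => rfl }
    have e2 : Nat.card γ.range = Nat.card {k : G // ∃ μ ∈ W, μ * b * μ⁻¹ * b⁻¹ = k} := by
      apply Nat.card_congr
      exact
        { toFun := fun k => ⟨((k : W) : G), by
            obtain ⟨μ, hμ⟩ := k.2
            exact ⟨(μ : G), μ.2, by rw [← gam_apply W hab b μ]; exact congrArg Subtype.val hμ⟩⟩
          invFun := fun k => ⟨⟨(k : G), by
            obtain ⟨μ, hμ, hk⟩ := k.2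
            rw [← hk]
            exact (gam W hab b ⟨μ, hμ⟩).2⟩, by
            obtain ⟨μ, hμ, hk⟩ := k.2
            exact ⟨⟨μ, hμ⟩, Subtype.ext hk⟩⟩
          left_inv := fun _ => rfl
          right_inv := fun _ => rfl }
    rw [← e1, ← e2]
    exact hcard

end Cfsg.Agent.Lib.Helper7.CL
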