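import Mathlib
import Cfsg.Agent.Lib.Helper7.CL5
import Cfsg.Agent.Lib.Helper7.CL6

/-!
# Two largest class sizes coprime: the abelian normal subgroup generated by the centre and
the class of `x`
-/

set_option autoImplicit false

namespace Cfsg.Agent.Lib.Helper7.CL

variable {G : Type*} [Group G]

/-- the subgroup generated by the centre and the class of `x` -/
def Wx (x : G) : Subgroup G := Subgroup.closure ((Subgroup.center G : Set G) ∪ cls x)

instance Wx_normal (x : G) : (Wx x).Normal := by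
  apply closure_normal_of_conj
  rintro s (hs | hs) g
  · left
    exact (inferInstance : (Subgroup.center G).Normal).conj_mem s hs g
  · right
    exact (conj_mem_cls_iff x g s).mpr hs

theorem center_le_Wx (x : G) : Subgroup.center G ≤ Wx x := fun _ hz =>
  Subgroup.subset_closure (Or.inl hz)

theorem cls_subset_Wx (x : G) : cls x ⊆ Wx x := fun _ hh =>
  Subgroup.subset_closure (Or.inr hh)

theorem self_mem_Wx (x : G) : x ∈ Wx x := cls_subset_Wx x (self_mem_cls x)

variable [Finite G] {m n : ℕ}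

/-- `x` commutes with its conjugates -/
theorem commute_conj (H : Hyp G m n) {x y : G} (hx : ci x = n) (hy : ci y = m) (a : G) :
    x * (a * x * a⁻¹) = (a * x * a⁻¹) * x := by
  have hxm : (ci x).Coprime m := by rw [hx]; exact H.hcop.symm
  have hk : x⁻¹ * (a * x * a⁻¹) ∈ cz x := lstab_le_cz H hxm hy (kappa_mem_lstab H hxm hy a)
  have h1 : x⁻¹ * (a * x * a⁻¹) * x = x * (x⁻¹ * (a * x * a⁻¹)) := mem_cz.mp hk
  calc x * (a * x * a⁻¹) = x * (x * (x⁻¹ * (a * x * a⁻¹))) := by group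
    _ = x * (x⁻¹ * (a * x * a⁻¹) * x) := by rw [h1]
    _ = (a * x * a⁻¹) * x := by group

theorem Wx_comm (H : Hyp G m n) {x y : G} (hx : ci x = n) (hy : ci y = m) :
    ∀ u ∈ Wx x, ∀ v ∈ Wx x, u * v = v * u := by
  have hgen : ∀ u ∈ (Subgroup.center G : Set G) ∪ cls x,
      ∀ v ∈ (Subgroup.center G : Set G) ∪ cls x, u * v = v * u := by
    rintro u (hu | hu) v hv
    · exact (Subgroup.mem_center_iff.mp hu v).symm
    · rcases hv with hv | hv
      · exact Subgroup.mem_center_iff.mp hv u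
      · obtain ⟨a, rfl⟩ := hu
        obtain ⟨b, rfl⟩ := hv
        have h1 := commute_conj H hx hy (a⁻¹ * b)
        calc a * x * a⁻¹ * (b * x * b⁻¹)
            = a * (x * (a⁻¹ * b * x * (a⁻¹ * b)⁻¹)) * a⁻¹ := by group
          _ = a * ((a⁻¹ * b * x * (a⁻¹ * b)⁻¹) * x) * a⁻¹ := by rw [h1]
          _ = b * x * b⁻¹ * (a * x * a⁻¹) := by group
  haveI : IsMulCommutative (Wx x) := Subgroup.isMulCommutative_closure hgen
  intro u hu v hv
  exact setLike_mul_comm hu hv

theorem Wx_le_cz (H : Hyp G m n) {x y : G} (hx : ci x = n) (hy : ci y = m) : Wx x ≤ cz x := by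
  intro w hw
  exact mem_cz.mpr (Wx_comm H hx hy w hw x (self_mem_Wx x))

/-- commutators with elements of `Wx x` stabilize the class of `y` -/
theorem comm_mem_lstab (H : Hyp G m n) {x y : G} (hx : ci x = n) (hy : ci y = m)
    {μ : G} (hμ : μ ∈ Wx x) (g : G) : μ * g * μ⁻¹ * g⁻¹ ∈ lstab y := by
  induction hμ using Subgroup.closure_induction generalizing g with
  | mem s hs =>
    rcases hs with hs | hs
    · have h1 : s * g = g * s := (Subgroup.mem_center_iff.mp hs g).symm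
      have : s * g * s⁻¹ * g⁻¹ = 1 := by rw [h1]; group
      rw [this]; exact Subgroup.one_mem _
    · obtain ⟨a, rfl⟩ := hs
      set h := a * x * a⁻¹ with hh
      have hcih : (ci h).Coprime m := by
        rw [hh, ci_conj, hx]; exact H.hcop.symm
      have h1 : h⁻¹ * (g * h * g⁻¹) ∈ lstab y := kappa_mem_lstab H hcih hy g
      have h2 : h * (h⁻¹ * (g * h * g⁻¹)) * h⁻¹ ∈ lstab y := (lstab_normal y).conj_mem _ h1 h
      have h3 : h * g * h⁻¹ * g⁻¹ = (h * (h⁻¹ * (g * h * g⁻¹)) * h⁻¹)⁻¹ := by group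
      rw [h3]; exact Subgroup.inv_mem _ h2
  | one => simp
  | mul μ ν _ _ hμ hν =>
    have h1 : μ * ν * g * (μ * ν)⁻¹ * g⁻¹ =
        (μ * (ν * g * ν⁻¹ * g⁻¹) * μ⁻¹) * (μ * g * μ⁻¹ * g⁻¹) := by group
    rw [h1]
    exact Subgroup.mul_mem _ ((lstab_normal y).conj_mem _ (hν g) μ) (hμ g)
  | inv μ _ hμ =>
    have h1 : μ⁻¹ * g * μ⁻¹⁻¹ * g⁻¹ = μ⁻¹ * (μ * g * μ⁻¹ * g⁻¹)⁻¹ * μ⁻¹⁻¹ := by group
    rw [h1]
    exact (lstab_normal y).conj_mem _ (Subgroup.inv_mem _ (hμ g)) μ⁻¹

/-- the stabilizer of the class of `y` meets the centre trivially -/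
theorem eq_one_of_mem_lstab_of_mem_center (H : Hyp G m n) {x y : G} (hx : ci x = n)
    (hy : ci y = m) {z : G} (hz : z ∈ lstab y) (hzZ : z ∈ Subgroup.center G) : z = 1 := by
  obtain ⟨a, ha⟩ := mul_mem_cls_of_mem_lstab hz
  have hyn : y ^ n ∈ Subgroup.center G := pow_mem_center_of_mem_cz_y H hx hy (self_mem_cz y)
  have hcomm : Commute z y := (Subgroup.mem_center_iff.mp hzZ y).symm
  have h1 : (z * y) ^ n = z ^ n * y ^ n := hcomm.mul_pow n
  have h2 : (a * y * a⁻¹) ^ n = y ^ n := by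
    rw [conj_pow']
    have := Subgroup.mem_center_iff.mp hyn a
    rw [this]; group
  have h3 : z ^ n = 1 := by
    rw [← ha, h2] at h1
    have : 1 * y ^ n = z ^ n * y ^ n := by rw [one_mul]; exact h1
    exact (mul_right_cancel this).symm
  have h4 : z ^ m = 1 := hy ▸ pow_card_lstab hz
  exact eq_one_of_pow_coprime H.hcop h4 h3

theorem Wx_inf_cz (H : Hyp G m n) {x y : G} (hx : ci x = n) (hy : ci y = m) :
    Wx x ⊓ cz y = Subgroup.center G := by
  apply le_antisymm
  · rw [← cz_inf_cz H hx hy]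
    exact inf_le_inf_right _ (Wx_le_cz H hx hy)
  · exact le_inf (center_le_Wx x) (center_le_cz y)

/-- `Wx x` contains at least `n + 1` cosets of the centre -/
theorem card_Wx_ge (H : Hyp G m n) {x y : G} (hx : ci x = n) (hy : ci y = m) :
    (n + 1) * Nat.card (Subgroup.center G) ≤ Nat.card (Wx x) := by
  have hcard : Nat.card (Option (cls x) × Subgroup.center G) =
      (n + 1) * Nat.card (Subgroup.center G) := by
    rw [Nat.card_prod, Finite.card_option, Nat.card_coe_set_eq, ncard_cls, hx]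
  rw [← hcard]
  let f : Option (cls x) × Subgroup.center G → Wx x := fun p =>
    match p.1 with
    | none => ⟨(p.2 : G), center_le_Wx x p.2.2⟩
    | some h => ⟨(h : G) * (p.2 : G), (Wx x).mul_mem (cls_subset_Wx x h.2) (center_le_Wx x p.2.2)⟩
  apply Nat.card_le_card_of_injective f
  have hnc : ∀ h ∈ cls x, h ∉ Subgroup.center G := by
    rintro _ ⟨a, rfl⟩ hh
    have h1 := mem_center_iff_ci.mp hh
    rw [ci_conj, hx] at h1
    have := H.hn
    omega
  rintro ⟨o1, z1⟩ ⟨o2, z2⟩ h12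
  have h12' : ((f (o1, z1) : Wx x) : G) = ((f (o2, z2) : Wx x) : G) := congrArg Subtype.val h12
  rcases o1 with _ | h1 <;> rcases o2 with _ | h2
  · have : (z1 : G) = (z2 : G) := h12'
    rw [Subtype.ext this]
  · exfalso
    have h3 : (z1 : G) = (h2 : G) * (z2 : G) := h12'
    have h4 : (h2 : G) = (z1 : G) * (z2 : G)⁻¹ := by rw [h3]; group
    apply hnc _ h2.2
    rw [h4]
    exact Subgroup.mul_mem _ z1.2 (Subgroup.inv_mem _ z2.2)
  · exfalso
    have h3 : (h1 : G) * (z1 : G) = (z2 : G) := h12'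
    have h4 : (h1 : G) = (z2 : G) * (z1 : G)⁻¹ := by rw [← h3]; group
    apply hnc _ h1.2
    rw [h4]
    exact Subgroup.mul_mem _ z2.2 (Subgroup.inv_mem _ z1.2)
  · have h3 : (h1 : G) * (z1 : G) = (h2 : G) * (z2 : G) := h12'
    -- `h1⁻¹ * h2` is central and stabilizes the class of `y`
    have h4 : (h1 : G)⁻¹ * (h2 : G) = (z1 : G) * (z2 : G)⁻¹ := by
      calc (h1 : G)⁻¹ * (h2 : G) = (h1 : G)⁻¹ * ((h2 : G) * (z2 : G)) * (z2 : G)⁻¹ := by group
        _ = (h1 : G)⁻¹ * ((h1 : G) * (z1 : G)) * (z2 : G)⁻¹ := by rw [h3]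
        _ = (z1 : G) * (z2 : G)⁻¹ := by group
    have h5 : (h1 : G)⁻¹ * (h2 : G) ∈ Subgroup.center G := by
      rw [h4]; exact Subgroup.mul_mem _ z1.2 (Subgroup.inv_mem _ z2.2)
    have h6 : (h1 : G)⁻¹ * (h2 : G) ∈ lstab y := by
      obtain ⟨a, ha⟩ := h1.2
      obtain ⟨b, hb⟩ := h2.2
      have hcih : (ci (h1 : G)).Coprime m := by
        rw [← ha, ci_conj, hx]; exact H.hcop.symm
      have h7 := kappa_mem_lstab H hcih hy (b * a⁻¹)
      have h8 : b * a⁻¹ * (h1 : G) * (b * a⁻¹)⁻¹ = (h2 : G) := by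
        rw [← ha, ← hb]; group
      rw [h8] at h7
      exact h7
    have h9 := eq_one_of_mem_lstab_of_mem_center H hx hy h6 h5
    have h10 : (h1 : G) = (h2 : G) := by
      calc (h1 : G) = (h1 : G) * ((h1 : G)⁻¹ * (h2 : G)) := by rw [h9, mul_one]
        _ = (h2 : G) := by group
    have h11 : (z1 : G) = (z2 : G) := by
      rw [h10] at h3
      exact mul_left_cancel h3
    rw [Subtype.ext h10, Subtype.ext h11]

end Cfsg.Agent.Lib.Helper7.CL
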