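import Mathlib
import Cfsg.Agent.Lib.Helper7.PiClass1

/-!
# Counting classes of `π`-elements through commuting pairs
-/

set_option autoImplicit false

namespace Cfsg.Agent.Lib.Helper7.PiClass

theorem card_eq_of_fibers {α β : Type*} [Finite α] [Finite β] (f : α → β) (S : α → Prop)
    (T : β → Prop) (c : ℕ) (h1 : ∀ a, S a → T (f a))
    (h2 : ∀ b, T b → Nat.card {a // f a = b ∧ S a} = c) :
    Nat.card {a // S a} = c * Nat.card {b // T b} := by
  classical
  haveI : Fintype {b // T b} := Fintype.ofFinite _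
  let F : {a // S a} → {b // T b} := fun a => ⟨f a.1, h1 a.1 a.2⟩
  have e1 : (Σ b : {b // T b}, {a : {a // S a} // F a = b}) ≃ {a // S a} :=
    Equiv.sigmaFiberEquiv F
  have e2 : ∀ b : {b // T b}, {a : {a // S a} // F a = b} ≃ {a // f a = b.1 ∧ S a} := fun b =>
    { toFun := fun a => ⟨a.1.1, congrArg Subtype.val a.2, a.1.2⟩
      invFun := fun a => ⟨⟨a.1, a.2.2⟩, Subtype.ext a.2.1⟩
      left_inv := fun a => rfl
      right_inv := fun a => rfl }
  rw [← Nat.card_congr e1, Nat.card_sigma]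
  rw [Finset.sum_congr rfl (fun b _ => (Nat.card_congr (e2 b)).trans (h2 b.1 b.2))]
  rw [Finset.sum_const, Finset.card_univ, smul_eq_mul, Nat.card_eq_fintype_card, mul_comm]

theorem card_le_of_fibers {α β : Type*} [Finite α] [Finite β] (f : α → β) (c : ℕ)
    (h : ∀ b, Nat.card {a // f a = b} ≤ c) : Nat.card α ≤ c * Nat.card β := by
  classical
  haveI : Fintype β := Fintype.ofFinite _
  rw [← Nat.card_congr (Equiv.sigmaFiberEquiv f), Nat.card_sigma]
  calc ∑ b, Nat.card {a // f a = b} ≤ ∑ _b : β, c := Finset.sum_le_sum (fun b _ => h b)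
    _ = c * Nat.card β := by
      rw [Finset.sum_const, Finset.card_univ, smul_eq_mul, Nat.card_eq_fintype_card, mul_comm]

variable {G : Type*} [Group G]

theorem isPi_conj (π : Set ℕ) (x g : G) (h : IsPi π x) : IsPi π (g * x * g⁻¹) := by
  have : orderOf (g * x * g⁻¹) = orderOf x :=
    orderOf_injective (MulAut.conj g).toMonoidHom (MulAut.conj g).injective x
  unfold IsPi
  rw [this]; exact h

/-- Pairs `(x, y)` with `x` in a conjugation-invariant set and `y` centralizing `x`: there are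
`|G|` of them for each class in the set. -/
theorem card_pairs_eq [Finite G] (S : G → Prop) (hS : ∀ x g, S x → S (g * x * g⁻¹)) :
    Nat.card {p : G × G // S p.1 ∧ p.1 * p.2 = p.2 * p.1} =
      Nat.card G * Nat.card {C : ConjClasses G // ∀ g, ConjClasses.mk g = C → S g} := by
  apply card_eq_of_fibers (fun p : G × G => ConjClasses.mk p.1)
    (fun p => S p.1 ∧ p.1 * p.2 = p.2 * p.1) (fun C => ∀ g, ConjClasses.mk g = C → S g)
  · rintro ⟨x, y⟩ ⟨hx, _⟩ g hg
    have h1 : IsConj x g := ConjClasses.mk_eq_mk_iff_isConj.mp hg.symm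
    obtain ⟨c, hc⟩ := isConj_iff.mp h1
    rw [← hc]; exact hS x c hx
  · intro C hC
    obtain ⟨x₀, rfl⟩ := ConjClasses.mk_surjective C
    have ht : ∀ x : G, ∃ t : G, ConjClasses.mk x = ConjClasses.mk x₀ → t * x₀ * t⁻¹ = x := by
      intro x
      by_cases hx : ConjClasses.mk x = ConjClasses.mk x₀
      · obtain ⟨c, hc⟩ := isConj_iff.mp (ConjClasses.mk_eq_mk_iff_isConj.mp hx.symm)
        exact ⟨c, fun _ => hc⟩
      · exact ⟨1, fun h => absurd h hx⟩
    choose t ht using ht
    have hconj : ∀ g : G, ConjClasses.mk (g * x₀ * g⁻¹) = ConjClasses.mk x₀ := by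
      intro g
      exact (ConjClasses.mk_eq_mk_iff_isConj.mpr (isConj_iff.mpr ⟨g, rfl⟩)).symm
    refine Nat.card_congr
      { toFun := fun p => p.1.2 * t p.1.1
        invFun := fun g => ⟨(g * x₀ * g⁻¹, g * (t (g * x₀ * g⁻¹))⁻¹), hconj g,
          hC _ (hconj g), ?_⟩
        left_inv := ?_
        right_inv := ?_ }
    · have h1 := ht _ (hconj g)
      simp only
      have e : g * x₀ * g⁻¹ * (g * (t (g * x₀ * g⁻¹))⁻¹) =
          g * (t (g * x₀ * g⁻¹))⁻¹ * (t (g * x₀ * g⁻¹) * x₀ * (t (g * x₀ * g⁻¹))⁻¹) := by group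
      rw [e, h1]
    · rintro ⟨⟨x, y⟩, hx, hSx, hxy⟩
      have h1 := ht x hx
      simp only at hxy h1 ⊢
      have e1 : y * t x * x₀ * (y * t x)⁻¹ = x := by
        have : y * t x * x₀ * (y * t x)⁻¹ = y * (t x * x₀ * (t x)⁻¹) * y⁻¹ := by group
        rw [this, h1, ← hxy]; group
      apply Subtype.ext
      simp only
      rw [e1]
      congr 1
      group
    · intro g
      simp only
      group

end Cfsg.Agent.Lib.Helper7.PiClass
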