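import Mathlib
import Cfsg.Agent.Lib.Helper7.CL7
import Cfsg.Agent.Lib.Helper7.PiClass2

/-!
# Two largest class sizes coprime: general counting lemmas for the semiregularity argument
-/

set_option autoImplicit false

namespace Cfsg.Agent.Lib.Helper7.CL

open Cfsg.Agent.Lib.Helper7.PiClass

variable {G : Type*} [Group G] [Finite G]

theorem card_le_index_mul_card_inf (C K : Subgroup G) :
    Nat.card K ≤ C.index * Nat.card (C ⊓ K : Subgroup G) := by
  have h1 : (C ⊓ K).index ≤ C.index * K.index := Subgroup.index_inf_le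
  have h2 : Nat.card (C ⊓ K : Subgroup G) * (C ⊓ K).index = Nat.card G :=
    Subgroup.card_mul_index _
  have h3 : Nat.card K * K.index = Nat.card G := Subgroup.card_mul_index _
  have hpos : 0 < K.index := Nat.pos_of_ne_zero Subgroup.index_ne_zero_of_finite
  have h4 : Nat.card K * K.index ≤ (C.index * Nat.card (C ⊓ K : Subgroup G)) * K.index := by
    rw [h3, ← h2]
    calc Nat.card (C ⊓ K : Subgroup G) * (C ⊓ K).index
        ≤ Nat.card (C ⊓ K : Subgroup G) * (C.index * K.index) := Nat.mul_le_mul_left _ h1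
      _ = (C.index * Nat.card (C ⊓ K : Subgroup G)) * K.index := by ring
  exact Nat.le_of_mul_le_mul_right h4 hpos

theorem card_le_of_conj_fibers (D Z : Subgroup G) (x₁ : G) (T : Set G)
    (h1 : ∀ d ∈ D, d * x₁ * d⁻¹ ∈ T)
    (h2 : ∀ d ∈ D, ∀ d' ∈ D, d * x₁ * d⁻¹ = d' * x₁ * d'⁻¹ → d⁻¹ * d' ∈ Z) :
    Nat.card D ≤ Nat.card Z * Nat.card T := by
  let f : D → T := fun d => ⟨(d : G) * x₁ * (d : G)⁻¹, h1 d d.2⟩
  apply card_le_of_fibers f (Nat.card Z)
  intro k
  by_cases hne : Nonempty {a // f a = k}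
  · obtain ⟨⟨d₀, hd₀⟩⟩ := hne
    let φ : {a // f a = k} → Z := fun a => ⟨(d₀ : G)⁻¹ * (a.1 : G), by
      apply h2 d₀ d₀.2 a.1 a.1.2
      have e1 : (d₀ : G) * x₁ * (d₀ : G)⁻¹ = (k : G) := congrArg Subtype.val hd₀
      have e2 : (a.1 : G) * x₁ * (a.1 : G)⁻¹ = (k : G) := congrArg Subtype.val a.2
      rw [e1, e2]⟩
    apply Nat.card_le_card_of_injective φ
    intro a a' haa
    have h3 : (d₀ : G)⁻¹ * (a.1 : G) = (d₀ : G)⁻¹ * (a'.1 : G) := congrArg Subtype.val haa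
    exact Subtype.ext (Subtype.ext (mul_left_cancel h3))
  · rw [not_nonempty_iff] at hne
    rw [Nat.card_of_isEmpty]
    exact Nat.zero_le _

theorem card_mul_le_of_factor (K V D Z : Subgroup G) (hZV : Z ≤ V) (hZD : Z ≤ D)
    (h : ∀ k ∈ K, ∃ μ ∈ V, ∃ c ∈ D, μ * c = k) :
    Nat.card K * Nat.card Z ≤ Nat.card V * Nat.card D := by
  choose μ hμ c hc hμc using h
  rw [← Nat.card_prod, ← Nat.card_prod]
  let F : K × Z → V × D := fun p =>
    (⟨μ p.1 p.1.2 * (p.2 : G), V.mul_mem (hμ _ _) (hZV p.2.2)⟩,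
      ⟨(p.2 : G)⁻¹ * c p.1 p.1.2, D.mul_mem (D.inv_mem (hZD p.2.2)) (hc _ _)⟩)
  apply Nat.card_le_card_of_injective F
  rintro ⟨k, z⟩ ⟨k', z'⟩ hF
  have h1 : μ k k.2 * (z : G) = μ k' k'.2 * (z' : G) :=
    congrArg (fun q : V × D => (q.1 : G)) hF
  have h2 : (z : G)⁻¹ * c k k.2 = (z' : G)⁻¹ * c k' k'.2 :=
    congrArg (fun q : V × D => (q.2 : G)) hF
  have h3 : (k : G) = (k' : G) := by
    calc (k : G) = μ k k.2 * c k k.2 := (hμc k k.2).symm
      _ = (μ k k.2 * (z : G)) * ((z : G)⁻¹ * c k k.2) := by group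
      _ = (μ k' k'.2 * (z' : G)) * ((z' : G)⁻¹ * c k' k'.2) := by rw [h1, h2]
      _ = μ k' k'.2 * c k' k'.2 := by group
      _ = (k' : G) := hμc k' k'.2
  have h4 : k = k' := Subtype.ext h3
  subst h4
  have h5 : (z : G) = (z' : G) := mul_left_cancel h1
  rw [Subtype.ext h5]

/-- if `ν`, `b` commute, `b ^ n` is central and the order of `ν` is prime to `n`, then
`C(ν b) ≤ C(ν) ∩ C(b)` -/
theorem cz_mul_le {ν b : G} {n : ℕ} (hcomm : ν * b = b * ν)
    (hbn : b ^ n ∈ Subgroup.center G) (hν : (orderOf ν).Coprime n) :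
    cz (ν * b) ≤ cz ν ⊓ cz b := by
  intro c hc
  have hc' : Commute c (ν * b) := mem_cz.mp hc
  have h1 : Commute c ((ν * b) ^ n) := hc'.pow_right n
  have hνb : Commute ν b := hcomm
  rw [hνb.mul_pow] at h1
  have h2 : Commute c (b ^ n) := Subgroup.mem_center_iff.mp hbn c
  have h3 : Commute c (ν ^ n) := by
    have h4 : ν ^ n = (ν ^ n * b ^ n) * (b ^ n)⁻¹ := by group
    rw [h4]
    exact h1.mul_right h2.inv_right
  obtain ⟨k, hk⟩ := exists_pow_eq_self_of_coprime hν.symm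
  have h5 : Commute c ν := by
    rw [← hk]; exact h3.pow_right k
  have h6 : Commute c b := by
    have h7 : b = ν⁻¹ * (ν * b) := by group
    rw [h7]
    exact h5.inv_right.mul_right hc'
  exact ⟨mem_cz.mpr h5.eq, mem_cz.mpr h6.eq⟩

end Cfsg.Agent.Lib.Helper7.CL
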