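import Mathlib
import Cfsg.Agent.Lib.Helper7.CL8

/-!
# Two largest class sizes coprime: non-central elements of `C(y)` act fixed-point-freely on
`Wx x` modulo the centre
-/

set_option autoImplicit false

namespace Cfsg.Agent.Lib.Helper7.CL

open Cfsg.Agent.Lib.Helper7.PiClass

variable {G : Type*} [Group G] [Finite G] {m n : ℕ}

/-- the `π`-part of a non-central element of `C(x)` -/
theorem piPart_props (H : Hyp G m n) {x y w : G} (hx : ci x = n) (hy : ci y = m)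
    (hw : w ∈ cz x) (hwZ : w ∉ Subgroup.center G) :
    piPart (pis m) w ∉ Subgroup.center G ∧ (orderOf (piPart (pis m) w)).Coprime n ∧
      cz (piPart (pis m) w) = cz w := by
  have h2 : piPart' (pis m) w ∈ Subgroup.center G :=
    mem_center_of_mem_cz H hx hy (piPart'_mem _ hw) (coprime_of_isPi' (isPi'_piPart' _ w))
  refine ⟨?_, coprime_of_isPi (isPi_piPart _ w) H.hcop, cz_piPart_of_central _ h2⟩
  intro h1
  apply hwZ
  rw [← piPart_mul_piPart' (pis m) w]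
  exact Subgroup.mul_mem _ h1 h2

/-- the class size of `ν * b` is at most `n` if `ν ∈ C(x)` is not central and
`C(ν b) ≤ C(ν)` -/
theorem ci_mul_le (H : Hyp G m n) {x y ν b : G} (hx : ci x = n) (hy : ci y = m)
    (hνA : ν ∈ cz x) (hνZ : ν ∉ Subgroup.center G) (hle : cz (ν * b) ≤ cz ν) :
    ci (ν * b) ≤ n := by
  apply H.hsecond
  apply lt_of_le_of_ne (H.htop _)
  intro h
  apply hνZ
  have h1 : ci ν ∣ m := h ▸ ci_dvd_of_le hle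
  apply mem_center_of_coprime_n H hx hy
  · exact Nat.Coprime.coprime_dvd_left h1 H.hcop
  · exact lt_of_le_of_ne (H.htop _) (ci_ne_of_mem_cz H hx hy hνA)

theorem card_Wx_sup (H : Hyp G m n) {x y : G} (hx : ci x = n) (hy : ci y = m) :
    Nat.card (Wx x ⊔ cz y : Subgroup G) = n * Nat.card (Wx x) := by
  rw [← relIndex_mul_card' (le_sup_left : Wx x ≤ Wx x ⊔ cz y), Subgroup.relIndex_sup_left,
    ← Subgroup.inf_relIndex_right, Wx_inf_cz H hx hy, relIndex_center_cz_y H hx hy]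

/-- if `μ * c` centralizes `b`, with `μ ∈ Wx x` and `b, c ∈ C(y)`, then both `μ` and `c`
centralize `b` -/
theorem mem_cz_of_mul_mem_cz (H : Hyp G m n) {x y b μ c : G} (hx : ci x = n) (hy : ci y = m)
    (hb : b ∈ cz y) (hμ : μ ∈ Wx x) (hc : c ∈ cz y) (h : μ * c ∈ cz b) :
    μ ∈ cz b ∧ c ∈ cz b := by
  have h0 : μ * c * b = b * (μ * c) := mem_cz.mp h
  have h1 : b * μ⁻¹ * b⁻¹ * μ = b * c * b⁻¹ * c⁻¹ := by
    have : μ = b * (μ * c) * b⁻¹ * c⁻¹ := by rw [← h0]; group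
    calc b * μ⁻¹ * b⁻¹ * μ = b * μ⁻¹ * b⁻¹ * (b * (μ * c) * b⁻¹ * c⁻¹) := by rw [← this]
      _ = b * c * b⁻¹ * c⁻¹ := by group
  have h2 : b * μ⁻¹ * b⁻¹ * μ ∈ Wx x :=
    (Wx x).mul_mem ((Wx_normal x).conj_mem _ ((Wx x).inv_mem hμ) b) hμ
  have h3 : b * μ⁻¹ * b⁻¹ * μ ∈ cz y := by
    rw [h1]
    exact (cz y).mul_mem ((cz y).mul_mem ((cz y).mul_mem hb hc) ((cz y).inv_mem hb))
      ((cz y).inv_mem hc)
  have h4 : b * μ⁻¹ * b⁻¹ * μ ∈ Subgroup.center G := by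
    rw [← Wx_inf_cz H hx hy]; exact ⟨h2, h3⟩
  have h5 : b * μ⁻¹ * b⁻¹ * μ ∈ lstab y := by
    have h6 := comm_mem_lstab H hx hy ((Wx x).inv_mem hμ) b⁻¹
    have h7 := (lstab_normal y).conj_mem _ h6 b
    have h8 : b * (μ⁻¹ * b⁻¹ * μ⁻¹⁻¹ * b⁻¹⁻¹) * b⁻¹ = b * μ⁻¹ * b⁻¹ * μ := by group
    rw [h8] at h7
    exact h7
  have h6 := eq_one_of_mem_lstab_of_mem_center H hx hy h5 h4
  have h7 : μ * b = b * μ := by
    calc μ * b = μ * (b * μ⁻¹ * b⁻¹ * μ)⁻¹ * b := by rw [h6]; group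
      _ = b * μ := by group
  refine ⟨mem_cz.mpr h7, mem_cz.mpr ?_⟩
  have h8 : μ * (c * b) = μ * (b * c) := by
    calc μ * (c * b) = μ * c * b := by group
      _ = b * (μ * c) := h0
      _ = b * μ * c := by group
      _ = μ * b * c := by rw [h7]
      _ = μ * (b * c) := by group
  exact mul_left_cancel h8

/-- semiregularity: a non-central element of `C(y)` centralizes only the centre in `Wx x` -/
theorem Wx_inf_cz_le_center (H : Hyp G m n) {x y : G} (hx : ci x = n) (hy : ci y = m)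
    {b : G} (hb : b ∈ cz y) (hbZ : b ∉ Subgroup.center G) :
    Wx x ⊓ cz b ≤ Subgroup.center G := by
  by_contra hcon
  obtain ⟨ν₀, hν₀, hν₀Z⟩ := SetLike.not_le_iff_exists.mp hcon
  have hab := Wx_comm H hx hy
  have hWA : Wx x ≤ cz x := Wx_le_cz H hx hy
  have hbn : b ^ n ∈ Subgroup.center G := pow_mem_center_of_mem_cz_y H hx hy hb
  -- Step A: the decomposition of `Wx x` under `b`
  have hdisj : ∀ μ ∈ Wx x, μ * b * μ⁻¹ * b⁻¹ ∈ cz b → μ * b * μ⁻¹ * b⁻¹ = 1 := by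
    intro μ hμ hk
    have h1 : μ * b * μ⁻¹ = (μ * b * μ⁻¹ * b⁻¹) * b := by group
    have hcomm : Commute (μ * b * μ⁻¹ * b⁻¹) b := mem_cz.mp hk
    have h2 : (μ * b * μ⁻¹) ^ n = b ^ n := by
      rw [conj_pow']
      have := Subgroup.mem_center_iff.mp hbn μ
      rw [this]; group
    have h3 : (μ * b * μ⁻¹ * b⁻¹) ^ n = 1 := by
      rw [h1, hcomm.mul_pow] at h2
      have : (μ * b * μ⁻¹ * b⁻¹) ^ n * b ^ n = 1 * b ^ n := by rw [one_mul]; exact h2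
      exact mul_right_cancel this
    have h4 : (μ * b * μ⁻¹ * b⁻¹) ^ m = 1 := hy ▸ pow_card_lstab (comm_mem_lstab H hx hy hμ b)
    exact eq_one_of_pow_coprime H.hcop h4 h3
  obtain ⟨hdec, hcard⟩ := gamma_decomp (Wx x) hab b hdisj
  obtain ⟨x₀, hx₀W, hx₀b, μ₁, hμ₁, hxdec⟩ := hdec x (self_mem_Wx x)
  obtain ⟨x₁, hx₁⟩ : ∃ x₁, x₁ = μ₁ * b * μ₁⁻¹ * b⁻¹ := ⟨_, rfl⟩
  rw [← hx₁] at hxdec
  have hbx : b ∉ cz x := by
    intro h
    apply hbZ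
    rw [← cz_inf_cz H hx hy]; exact ⟨h, hb⟩
  have hx₁ne : x₁ ≠ 1 := by
    intro h
    rw [h, mul_one] at hxdec
    apply hbx
    rw [hxdec]
    exact mem_cz_comm.mp hx₀b
  -- Step B: the element `ν`
  obtain ⟨ν, hνW, hνb, hνZ, hνo, hνx₀⟩ : ∃ ν, ν ∈ Wx x ∧ ν ∈ cz b ∧ ν ∉ Subgroup.center G ∧
      (orderOf ν).Coprime n ∧ cz ν ≤ cz x₀ := by
    by_cases hx₀Z : x₀ ∈ Subgroup.center G
    · obtain ⟨h1, h2, h3⟩ := piPart_props H hx hy (hWA hν₀.1) hν₀Z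
      refine ⟨_, piPart_mem _ hν₀.1, piPart_mem _ hν₀.2, h1, h2, ?_⟩
      rw [mem_center_iff_cz.mp hx₀Z]
      exact le_top
    · obtain ⟨h1, h2, h3⟩ := piPart_props H hx hy (hWA hx₀W) hx₀Z
      exact ⟨_, piPart_mem _ hx₀W, piPart_mem _ hx₀b, h1, h2, le_of_eq h3⟩
  -- Step C, D: the element `g = ν * b`
  have hνbcomm : ν * b = b * ν := mem_cz.mp hνb
  have hczg : cz (ν * b) ≤ cz ν ⊓ cz b := cz_mul_le hνbcomm hbn hνo
  have hcig : ci (ν * b) ≤ n :=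
    ci_mul_le H hx hy (hWA hνW) hνZ (hczg.trans inf_le_left)
  -- Step E
  have hE : Nat.card (Wx x) ≤ Nat.card (cz (ν * b) ⊓ (Wx x ⊔ cz y) : Subgroup G) := by
    have h1 := card_le_index_mul_card_inf (cz (ν * b)) (Wx x ⊔ cz y)
    rw [card_Wx_sup H hx hy] at h1
    have h2 : n * Nat.card (Wx x) ≤
        n * Nat.card (cz (ν * b) ⊓ (Wx x ⊔ cz y) : Subgroup G) :=
      h1.trans (Nat.mul_le_mul_right _ hcig)
    exact Nat.le_of_mul_le_mul_left h2 (by have := H.hn; omega)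
  -- Step F
  have hF : Nat.card (cz (ν * b) ⊓ (Wx x ⊔ cz y) : Subgroup G) * Nat.card (Subgroup.center G) ≤
      Nat.card (Wx x ⊓ cz b : Subgroup G) * Nat.card (cz b ⊓ cz ν ⊓ cz y : Subgroup G) := by
    apply card_mul_le_of_factor
    · exact le_inf (center_le_Wx x) (center_le_cz b)
    · exact le_inf (le_inf (center_le_cz b) (center_le_cz ν)) (center_le_cz y)
    · rintro k ⟨hk1, hk2⟩
      obtain ⟨μ, hμ, c, hc, rfl⟩ := Subgroup.mem_sup_of_normal_left.mp hk2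
      have hk3 := hczg hk1
      obtain ⟨hμb, hcb⟩ := mem_cz_of_mul_mem_cz H hx hy hb hμ hc hk3.2
      have hμν : μ ∈ cz ν := mem_cz.mpr (hab μ hμ ν hνW)
      have hcν : c ∈ cz ν := by
        have : c = μ⁻¹ * (μ * c) := by group
        rw [this]
        exact (cz ν).mul_mem ((cz ν).inv_mem hμν) hk3.1
      exact ⟨μ, ⟨hμ, hμb⟩, c, ⟨⟨hcb, hcν⟩, hc⟩, rfl⟩
  -- Step G
  have hG : Nat.card (cz b ⊓ cz ν ⊓ cz y : Subgroup G) ≤ Nat.card (Subgroup.center G) *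
      Nat.card ({k : G | (∃ μ ∈ Wx x, μ * b * μ⁻¹ * b⁻¹ = k) ∧ k ≠ 1} : Set G) := by
    apply card_le_of_conj_fibers _ _ x₁
    · rintro d ⟨⟨hdb, hdν⟩, hdy⟩
      refine ⟨⟨d * μ₁ * d⁻¹, (Wx_normal x).conj_mem _ hμ₁ d, ?_⟩, ?_⟩
      · have h1 : d * b = b * d := mem_cz.mp hdb
        have h3 : d⁻¹ * b * d = b := by
          calc d⁻¹ * b * d = d⁻¹ * (b * d) := by group
            _ = d⁻¹ * (d * b) := by rw [h1]
            _ = b := by group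
        have h4 : d⁻¹ * b⁻¹ = b⁻¹ * d⁻¹ := by
          calc d⁻¹ * b⁻¹ = (b * d)⁻¹ := by group
            _ = (d * b)⁻¹ := by rw [h1]
            _ = b⁻¹ * d⁻¹ := by group
        rw [hx₁]
        calc d * μ₁ * d⁻¹ * b * (d * μ₁ * d⁻¹)⁻¹ * b⁻¹
            = d * μ₁ * (d⁻¹ * b * d) * μ₁⁻¹ * (d⁻¹ * b⁻¹) := by group
          _ = d * μ₁ * b * μ₁⁻¹ * (b⁻¹ * d⁻¹) := by rw [h3, h4]
          _ = d * (μ₁ * b * μ₁⁻¹ * b⁻¹) * d⁻¹ := by group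
      · intro h
        apply hx₁ne
        calc x₁ = d⁻¹ * (d * x₁ * d⁻¹) * d := by group
          _ = 1 := by rw [h]; group
    · rintro d ⟨⟨hdb, hdν⟩, hdy⟩ d' ⟨⟨hd'b, hd'ν⟩, hd'y⟩ hdd
      rw [← cz_inf_cz H hx hy]
      refine ⟨?_, (cz y).mul_mem ((cz y).inv_mem hdy) hd'y⟩
      have h1 : d⁻¹ * d' ∈ cz x₁ := by
        rw [mem_cz]
        calc d⁻¹ * d' * x₁ = d⁻¹ * (d' * x₁ * d'⁻¹) * d' := by group
          _ = d⁻¹ * (d * x₁ * d⁻¹) * d' := by rw [hdd]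
          _ = x₁ * (d⁻¹ * d') := by group
      have h2 : d⁻¹ * d' ∈ cz x₀ :=
        (cz x₀).mul_mem ((cz x₀).inv_mem (hνx₀ hdν)) (hνx₀ hd'ν)
      show d⁻¹ * d' ∈ cz x
      rw [mem_cz, hxdec, ← mul_assoc, mem_cz.mp h2, mul_assoc, mem_cz.mp h1, mul_assoc]
  -- Step H: the count
  have hsplit := Cfsg.Agent.Lib.Helper7.card_subtype_split
    (fun k : G => ∃ μ ∈ Wx x, μ * b * μ⁻¹ * b⁻¹ = k) (fun k => k ≠ 1)
  have hone : Nat.card {k : G // (∃ μ ∈ Wx x, μ * b * μ⁻¹ * b⁻¹ = k) ∧ ¬ k ≠ 1} = 1 := by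
    rw [Nat.card_eq_one_iff_unique]
    refine ⟨⟨?_⟩, ⟨⟨1, ⟨1, (Wx x).one_mem, by group⟩, by simp⟩⟩⟩
    rintro ⟨k, hk1, hk2⟩ ⟨k', hk1', hk2'⟩
    apply Subtype.ext
    show k = k'
    rw [not_not.mp hk2, not_not.mp hk2']
  rw [hone] at hsplit
  have hG' : Nat.card (cz b ⊓ cz ν ⊓ cz y : Subgroup G) ≤ Nat.card (Subgroup.center G) *
      Nat.card {k : G // (∃ μ ∈ Wx x, μ * b * μ⁻¹ * b⁻¹ = k) ∧ k ≠ 1} := hG
  have hVpos : 0 < Nat.card (Wx x ⊓ cz b : Subgroup G) := Nat.card_pos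
  have hZpos : 0 < Nat.card (Subgroup.center G) := Nat.card_pos
  -- abbreviations
  obtain ⟨W, hW⟩ : ∃ W, W = Nat.card (Wx x) := ⟨_, rfl⟩
  obtain ⟨Zc, hZc⟩ : ∃ Zc, Zc = Nat.card (Subgroup.center G) := ⟨_, rfl⟩
  obtain ⟨V, hV⟩ : ∃ V, V = Nat.card (Wx x ⊓ cz b : Subgroup G) := ⟨_, rfl⟩
  obtain ⟨Dc, hDc⟩ : ∃ Dc, Dc = Nat.card (cz b ⊓ cz ν ⊓ cz y : Subgroup G) := ⟨_, rfl⟩
  obtain ⟨K, hK⟩ : ∃ K, K = Nat.card (cz (ν * b) ⊓ (Wx x ⊔ cz y) : Subgroup G) := ⟨_, rfl⟩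
  obtain ⟨I, hI⟩ : ∃ I, I = Nat.card {k : G // ∃ μ ∈ Wx x, μ * b * μ⁻¹ * b⁻¹ = k} := ⟨_, rfl⟩
  obtain ⟨I', hI'⟩ : ∃ I', I' =
      Nat.card {k : G // (∃ μ ∈ Wx x, μ * b * μ⁻¹ * b⁻¹ = k) ∧ k ≠ 1} := ⟨_, rfl⟩
  rw [← hW, ← hK] at hE
  rw [← hK, ← hZc, ← hV, ← hDc] at hF
  rw [← hDc, ← hZc, ← hI'] at hG'
  rw [← hV, ← hI, ← hW] at hcard
  rw [← hI, ← hI'] at hsplit
  rw [← hV] at hVpos
  rw [← hZc] at hZpos
  -- `W * Zc ≤ K * Zc ≤ V * Dc ≤ V * Zc * I'` and `V * (I' + 1) = W`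
  have h1 : W * Zc ≤ V * (Zc * I') :=
    (Nat.mul_le_mul_right _ hE).trans (hF.trans (Nat.mul_le_mul_left _ hG'))
  rw [hsplit] at hcard
  have h2 : W * Zc = V * (Zc * I') + V * Zc := by rw [← hcard]; ring
  have h3 : 0 < V * Zc := Nat.mul_pos hVpos hZpos
  omega

end Cfsg.Agent.Lib.Helper7.CL
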