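import Mathlib
import Cfsg.Agent.Lib.Helper7.CL9

/-!
# Two largest class sizes coprime: the Frobenius structure
-/

set_option autoImplicit false

namespace Cfsg.Agent.Lib.Helper7.CL

variable {G : Type*} [Group G] [Finite G] {m n : ℕ}

/-- non-central elements of `C(y)` have class size `m` -/
theorem ci_eq_of_mem_cz_y (H : Hyp G m n) {x y : G} (hx : ci x = n) (hy : ci y = m)
    {b : G} (hb : b ∈ cz y) (hbZ : b ∉ Subgroup.center G) : ci b = m := by
  by_contra h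
  have h1 : ci b ≤ n := H.hsecond _ (lt_of_le_of_ne (H.htop _) h)
  have h2 := card_le_index_mul_card_inf (cz b) (Wx x)
  have h3 : cz b ⊓ Wx x ≤ Subgroup.center G := by
    rw [inf_comm]; exact Wx_inf_cz_le_center H hx hy hb hbZ
  have h4 : Nat.card (cz b ⊓ Wx x : Subgroup G) ≤ Nat.card (Subgroup.center G) :=
    Subgroup.card_le_of_le h3
  have h5 := card_Wx_ge H hx hy
  have h6 : Nat.card (Wx x) ≤ n * Nat.card (Subgroup.center G) :=
    h2.trans (Nat.mul_le_mul h1 h4)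
  have hZpos : 0 < Nat.card (Subgroup.center G) := Nat.card_pos
  have h7 : (n + 1) * Nat.card (Subgroup.center G) =
      n * Nat.card (Subgroup.center G) + Nat.card (Subgroup.center G) := by ring
  omega

/-- non-central elements of `C(x)` commute with no element of class size `m` -/
theorem not_mem_cz_of_ci_eq (H : Hyp G m n) {x y a t : G} (hx : ci x = n) (hy : ci y = m)
    (ha : a ∈ cz x) (haZ : a ∉ Subgroup.center G) (ht : ci t = m) : a ∉ cz t := by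
  intro h
  exact ci_ne_of_mem_cz H hx hy ha (ci_eq_of_mem_cz_y H hx ht h haZ)

theorem comm_eq_one_of_mem_cz (H : Hyp G m n) {x y b μ : G} (hx : ci x = n) (hy : ci y = m)
    (hb : b ∈ cz y) (hμ : μ ∈ Wx x) (hk : μ * b * μ⁻¹ * b⁻¹ ∈ cz b) :
    μ * b * μ⁻¹ * b⁻¹ = 1 := by
  have hbn : b ^ n ∈ Subgroup.center G := pow_mem_center_of_mem_cz_y H hx hy hb
  have h1 : μ * b * μ⁻¹ = (μ * b * μ⁻¹ * b⁻¹) * b := by group
  have hcomm : Commute (μ * b * μ⁻¹ * b⁻¹) b := mem_cz.mp hk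
  have h2 : (μ * b * μ⁻¹) ^ n = b ^ n := by
    rw [conj_pow']
    have := Subgroup.mem_center_iff.mp hbn μ
    rw [this]; group
  have h3 : (μ * b * μ⁻¹ * b⁻¹) ^ n = 1 := by
    rw [h1, hcomm.mul_pow] at h2
    have : (μ * b * μ⁻¹ * b⁻¹) ^ n * b ^ n = 1 * b ^ n := by rw [one_mul]; exact h2
    exact mul_right_cancel this
  have h4 : (μ * b * μ⁻¹ * b⁻¹) ^ m = 1 := hy ▸ pow_card_lstab (comm_mem_lstab H hx hy hμ b)
  exact eq_one_of_pow_coprime H.hcop h4 h3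

/-- the elements `μ * c` with `μ ∈ Wx x` and `c ∈ C(y)` non-central have class size `m` -/
theorem ci_mul_eq (H : Hyp G m n) {x y μ c : G} (hx : ci x = n) (hy : ci y = m)
    (hμ : μ ∈ Wx x) (hc : c ∈ cz y) (hcZ : c ∉ Subgroup.center G) : ci (μ * c) = m := by
  obtain ⟨hdec, -⟩ := gamma_decomp (Wx x) (Wx_comm H hx hy) c
    (fun μ hμ hk => comm_eq_one_of_mem_cz H hx hy hc hμ hk)
  obtain ⟨w₀, hw₀W, hw₀c, μ', hμ', hdec'⟩ := hdec μ hμ
  have hw₀Z : w₀ ∈ Subgroup.center G := Wx_inf_cz_le_center H hx hy hc hcZ ⟨hw₀W, hw₀c⟩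
  have h1 : μ * c = μ' * (w₀ * c) * μ'⁻¹ := by
    have h2 : w₀ * μ' = μ' * w₀ := (Subgroup.mem_center_iff.mp hw₀Z μ').symm
    calc μ * c = w₀ * (μ' * c * μ'⁻¹ * c⁻¹) * c := by rw [hdec']
      _ = (w₀ * μ') * c * μ'⁻¹ := by group
      _ = (μ' * w₀) * c * μ'⁻¹ := by rw [h2]
      _ = μ' * (w₀ * c) * μ'⁻¹ := by group
  rw [h1, ci_conj]
  apply ci_eq_of_mem_cz_y H hx hy
  · exact (cz y).mul_mem (center_le_cz y hw₀Z) hc
  · intro h
    apply hcZ
    have : c = w₀⁻¹ * (w₀ * c) := by group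
    rw [this]
    exact Subgroup.mul_mem _ (Subgroup.inv_mem _ hw₀Z) h

/-- `Wx x` centralizes `C(x)` -/
theorem Wx_le_cz_of_mem_cz (H : Hyp G m n) {x y a : G} (hx : ci x = n) (hy : ci y = m)
    (ha : a ∈ cz x) : Wx x ≤ cz a := by
  by_cases haZ : a ∈ Subgroup.center G
  · rw [mem_center_iff_cz.mp haZ]; exact le_top
  have hcia : ci a ≤ n :=
    H.hsecond _ (lt_of_le_of_ne (H.htop _) (ci_ne_of_mem_cz H hx hy ha))
  have h1 := card_le_index_mul_card_inf (cz a) (Wx x ⊔ cz y)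
  rw [card_Wx_sup H hx hy] at h1
  have h2 : Nat.card (Wx x) ≤ Nat.card (cz a ⊓ (Wx x ⊔ cz y) : Subgroup G) := by
    have h3 : n * Nat.card (Wx x) ≤ n * Nat.card (cz a ⊓ (Wx x ⊔ cz y) : Subgroup G) :=
      h1.trans (Nat.mul_le_mul_right _ hcia)
    exact Nat.le_of_mul_le_mul_left h3 (by have := H.hn; omega)
  have h3 : cz a ⊓ (Wx x ⊔ cz y) ≤ cz a ⊓ Wx x := by
    rintro k ⟨hk1, hk2⟩
    refine ⟨hk1, ?_⟩
    obtain ⟨μ, hμ, c, hc, rfl⟩ := Subgroup.mem_sup_of_normal_left.mp hk2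
    by_cases hcZ : c ∈ Subgroup.center G
    · exact (Wx x).mul_mem hμ (center_le_Wx x hcZ)
    · exfalso
      have h4 : ci (μ * c) = m := ci_mul_eq H hx hy hμ hc hcZ
      exact not_mem_cz_of_ci_eq H hx hy ha haZ h4 (mem_cz_comm.mp hk1)
  have h4 : cz a ⊓ Wx x = Wx x := by
    apply Subgroup.eq_of_le_of_card_ge inf_le_right
    exact h2.trans (Subgroup.card_le_of_le h3)
  rw [← h4]; exact inf_le_left

/-- `C(x)` is normal -/
theorem cz_x_normal (H : Hyp G m n) {x y : G} (hx : ci x = n) (hy : ci y = m) :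
    (cz x).Normal := by
  constructor
  intro a ha g
  have h1 : g⁻¹ * x * g ∈ Wx x := by
    have := (Wx_normal x).conj_mem x (self_mem_Wx x) g⁻¹
    rwa [inv_inv] at this
  have h2 : g⁻¹ * x * g ∈ cz a := Wx_le_cz_of_mem_cz H hx hy ha h1
  have h3 : g⁻¹ * x * g * a = a * (g⁻¹ * x * g) := mem_cz.mp h2
  rw [mem_cz]
  calc g * a * g⁻¹ * x = g * (a * (g⁻¹ * x * g)) * g⁻¹ := by group
    _ = g * (g⁻¹ * x * g * a) * g⁻¹ := by rw [h3]
    _ = x * (g * a * g⁻¹) := by group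

/-- if `a⁻¹ * c * a = c * z` with `z` central, `a ∈ C(x)`, `c ∈ C(y)`, then `z = 1` -/
theorem eq_one_of_conj_eq_mul (H : Hyp G m n) {x y a c z : G} (hx : ci x = n) (hy : ci y = m)
    (ha : a ∈ cz x) (hc : c ∈ cz y) (hz : z ∈ Subgroup.center G) (h : a⁻¹ * c * a = c * z) :
    z = 1 := by
  have hcn : c ^ n ∈ Subgroup.center G := pow_mem_center_of_mem_cz_y H hx hy hc
  have ham : a ^ m ∈ Subgroup.center G := pow_mem_center_of_mem_cz_x H hx hy ha
  have hzc : Commute c z := Subgroup.mem_center_iff.mp hz c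
  have h1 : z ^ n = 1 := by
    have h2 : (a⁻¹ * c * a) ^ n = c ^ n := by
      have h3 := conj_pow' a⁻¹ c n
      rw [inv_inv] at h3
      rw [h3]
      have := Subgroup.mem_center_iff.mp hcn a⁻¹
      rw [this]; group
    rw [h, hzc.mul_pow] at h2
    have : c ^ n * z ^ n = c ^ n * 1 := by rw [mul_one]; exact h2
    exact mul_left_cancel this
  have h2 : z ^ m = 1 := by
    -- `c⁻¹ * a⁻¹ * c = z * a⁻¹`
    have h3 : c⁻¹ * a⁻¹ * c = z * a⁻¹ := by
      calc c⁻¹ * a⁻¹ * c = c⁻¹ * (a⁻¹ * c * a) * a⁻¹ := by group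
        _ = c⁻¹ * (c * z) * a⁻¹ := by rw [h]
        _ = z * a⁻¹ := by group
    have hza : Commute z a⁻¹ := (Subgroup.mem_center_iff.mp hz a⁻¹).symm
    have h4 : (c⁻¹ * a⁻¹ * c) ^ m = (a⁻¹) ^ m := by
      have h5 := conj_pow' c⁻¹ a⁻¹ m
      rw [inv_inv] at h5
      rw [h5]
      have h6 : (a⁻¹) ^ m ∈ Subgroup.center G := by
        rw [inv_pow]; exact Subgroup.inv_mem _ ham
      have := Subgroup.mem_center_iff.mp h6 c⁻¹
      rw [this]; group
    rw [h3, hza.mul_pow] at h4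
    have : z ^ m * (a⁻¹) ^ m = 1 * (a⁻¹) ^ m := by rw [one_mul]; exact h4
    exact mul_right_cancel this
  exact eq_one_of_pow_coprime H.hcop h2 h1

/-- `C(y)` meets its conjugates by elements outside `C(y)` in the centre -/
theorem mem_center_of_conj_mem (H : Hyp G m n) {x y g c : G} (hx : ci x = n) (hy : ci y = m)
    (hg : g ∉ cz y) (hc : c ∈ cz y) (hc' : g⁻¹ * c * g ∈ cz y) : c ∈ Subgroup.center G := by
  by_contra hcZ
  obtain ⟨a, ha, b', hb', rfl⟩ := exists_factor H hx hy g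
  have haB : a ∉ cz y := fun h => hg ((cz y).mul_mem h hb')
  have haZ : a ∉ Subgroup.center G := fun h => haB (center_le_cz y h)
  have h1 : a⁻¹ * c * a ∈ cz y := by
    have h2 : a⁻¹ * c * a = b' * ((a * b')⁻¹ * c * (a * b')) * b'⁻¹ := by group
    rw [h2]
    exact (cz y).mul_mem ((cz y).mul_mem hb' hc') ((cz y).inv_mem hb')
  have hnorm := cz_x_normal H hx hy
  have h2 : c⁻¹ * (a⁻¹ * c * a) ∈ cz x := by
    have h3 : c⁻¹ * a⁻¹ * c⁻¹⁻¹ ∈ cz x := hnorm.conj_mem _ ((cz x).inv_mem ha) c⁻¹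
    have h4 : c⁻¹ * (a⁻¹ * c * a) = c⁻¹ * a⁻¹ * c⁻¹⁻¹ * a := by group
    rw [h4]
    exact (cz x).mul_mem h3 ha
  have h3 : c⁻¹ * (a⁻¹ * c * a) ∈ cz y := (cz y).mul_mem ((cz y).inv_mem hc) h1
  have h4 : c⁻¹ * (a⁻¹ * c * a) ∈ Subgroup.center G := by
    rw [← cz_inf_cz H hx hy]; exact ⟨h2, h3⟩
  have h5 : a⁻¹ * c * a = c * (c⁻¹ * (a⁻¹ * c * a)) := by group
  have h6 := eq_one_of_conj_eq_mul H hx hy ha hc h4 h5
  rw [h6, mul_one] at h5
  have h7 : a ∈ cz c := by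
    rw [mem_cz]
    calc a * c = a * (a⁻¹ * c * a) := by rw [h5]
      _ = c * a := by group
  exact not_mem_cz_of_ci_eq H hx hy ha haZ (ci_eq_of_mem_cz_y H hx hy hc hcZ) h7

/-- the centralizer of a non-central element of `C(y)` is `C(y)` -/
theorem cz_eq_of_mem_cz_y (H : Hyp G m n) {x y b : G} (hx : ci x = n) (hy : ci y = m)
    (hb : b ∈ cz y) (hbZ : b ∉ Subgroup.center G) : cz b = cz y := by
  have h1 : cz b ≤ cz y := by
    intro c hc
    by_contra hcB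
    apply hbZ
    apply mem_center_of_conj_mem H hx hy hcB hb
    have h2 : c * b = b * c := mem_cz.mp hc
    have h3 : c⁻¹ * b * c = b := by
      calc c⁻¹ * b * c = c⁻¹ * (b * c) := by group
        _ = c⁻¹ * (c * b) := by rw [h2]
        _ = b := by group
    rw [h3]; exact hb
  apply le_antisymm h1
  apply le_of_le_of_index_eq h1
  show ci b = ci y
  rw [ci_eq_of_mem_cz_y H hx hy hb hbZ, hy]

/-- `C(y)` is abelian -/
theorem cz_y_comm (H : Hyp G m n) {x y : G} (hx : ci x = n) (hy : ci y = m) :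
    ∀ b ∈ cz y, ∀ b' ∈ cz y, b * b' = b' * b := by
  intro b hb b' hb'
  by_cases hbZ : b ∈ Subgroup.center G
  · exact (Subgroup.mem_center_iff.mp hbZ b').symm
  · have : b' ∈ cz b := by rw [cz_eq_of_mem_cz_y H hx hy hb hbZ]; exact hb'
    exact (mem_cz.mp this).symm

theorem mem_of_pow_mem_of_coprime {K : Subgroup G} {c : G} {a b : ℕ} (hab : a.Coprime b)
    (ha : c ^ a ∈ K) (hb : c ^ b ∈ K) : c ∈ K := by
  have h1 : c ^ ((a : ℤ) * Nat.gcdA a b + (b : ℤ) * Nat.gcdB a b) ∈ K := by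
    rw [zpow_add, zpow_mul, zpow_mul, zpow_natCast, zpow_natCast]
    exact K.mul_mem (K.zpow_mem ha _) (K.zpow_mem hb _)
  rw [← Nat.gcd_eq_gcd_ab, hab, Nat.cast_one, zpow_one] at h1
  exact h1

/-- the centralizer of a non-central element of `C(x)` is `C(x)` -/
theorem cz_eq_of_mem_cz_x (H : Hyp G m n) {x y a : G} (hx : ci x = n) (hy : ci y = m)
    (ha : a ∈ cz x) (haZ : a ∉ Subgroup.center G) : cz a = cz x := by
  -- `C(a) ∩ C(y) = Z`
  have h1 : cz a ⊓ cz y ≤ Subgroup.center G := by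
    rintro c ⟨hc1, hc2⟩
    by_contra hcZ
    exact not_mem_cz_of_ci_eq H hx hy ha haZ (ci_eq_of_mem_cz_y H hx hy hc2 hcZ)
      (mem_cz_comm.mp hc1)
  have hcia : ci a = n := by
    apply le_antisymm (H.hsecond _ (lt_of_le_of_ne (H.htop _) (ci_ne_of_mem_cz H hx hy ha)))
    have h2 := card_le_index_mul_card_inf (cz a) (cz y)
    rw [card_cz_y H hx hy] at h2
    have h3 : n * Nat.card (Subgroup.center G) ≤ ci a * Nat.card (Subgroup.center G) :=
      h2.trans (Nat.mul_le_mul_left _ (Subgroup.card_le_of_le h1))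
    exact Nat.le_of_mul_le_mul_right h3 Nat.card_pos
  have hnorm := cz_x_normal H hx hy
  have h2 : cz a ≤ cz x := by
    intro c hc
    apply mem_of_pow_mem_of_coprime H.hcop
    · exact center_le_cz x (pow_mem_center_of_mem_cz_x H hcia hy hc)
    · have := Subgroup.pow_index_mem (cz x) c
      have h0 : (cz x).index = n := hx
      rwa [h0] at this
  apply le_antisymm h2
  apply le_of_le_of_index_eq h2
  show ci a = ci x
  rw [hcia, hx]

/-- `C(x)` is abelian -/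
theorem cz_x_comm (H : Hyp G m n) {x y : G} (hx : ci x = n) (hy : ci y = m) :
    ∀ a ∈ cz x, ∀ a' ∈ cz x, a * a' = a' * a := by
  intro a ha a' ha'
  by_cases haZ : a ∈ Subgroup.center G
  · exact (Subgroup.mem_center_iff.mp haZ a').symm
  · have : a' ∈ cz a := by rw [cz_eq_of_mem_cz_x H hx hy ha haZ]; exact ha'
    exact (mem_cz.mp this).symm

/-- every element outside `C(x)` is conjugate into `C(y)` -/
theorem exists_conj_mem_cz_y (H : Hyp G m n) {x y c : G} (hx : ci x = n) (hy : ci y = m)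
    (hc : c ∉ cz x) : ∃ g : G, g⁻¹ * c * g ∈ cz y := by
  obtain ⟨a, ha, b', hb', rfl⟩ := exists_factor H hx hy c
  have hb'Z : b' ∉ Subgroup.center G := fun h => hc ((cz x).mul_mem ha (center_le_cz x h))
  haveI hnorm := cz_x_normal H hx hy
  have hczb : cz b' = cz y := cz_eq_of_mem_cz_y H hx hy hb' hb'Z
  have hdisj : ∀ α ∈ cz x, α * b' * α⁻¹ * b'⁻¹ ∈ cz b' → α * b' * α⁻¹ * b'⁻¹ = 1 := by
    intro α hα hk
    have h1 : α * b' * α⁻¹ * b'⁻¹ ∈ cz x := by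
      have h2 : α * b' * α⁻¹ * b'⁻¹ = α * (b' * α⁻¹ * b'⁻¹) := by group
      rw [h2]
      exact (cz x).mul_mem hα (hnorm.conj_mem _ ((cz x).inv_mem hα) b')
    have h2 : α * b' * α⁻¹ * b'⁻¹ ∈ Subgroup.center G := by
      rw [← cz_inf_cz H hx hy, ← hczb]; exact ⟨h1, hk⟩
    -- `α⁻¹⁻¹ * b' * α⁻¹ = b' * k'` for a central `k'`
    have h3 : (α⁻¹)⁻¹ * b' * α⁻¹ = b' * (α * b' * α⁻¹ * b'⁻¹) := by
      have := Subgroup.mem_center_iff.mp h2 b'
      rw [this]; group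
    exact eq_one_of_conj_eq_mul H hx hy ((cz x).inv_mem hα) hb' h2 h3
  obtain ⟨hdec, -⟩ := gamma_decomp (cz x) (cz_x_comm H hx hy) b' hdisj
  obtain ⟨w₀, hw₀A, hw₀b, α, hα, hdec'⟩ := hdec a ha
  have hw₀Z : w₀ ∈ Subgroup.center G := by
    rw [← cz_inf_cz H hx hy, ← hczb]; exact ⟨hw₀A, hw₀b⟩
  refine ⟨α, ?_⟩
  have h1 : α⁻¹ * (a * b') * α = w₀ * b' := by
    have h2 : w₀ * α = α * w₀ := (Subgroup.mem_center_iff.mp hw₀Z α).symm
    calc α⁻¹ * (a * b') * α = α⁻¹ * (w₀ * (α * b' * α⁻¹ * b'⁻¹) * b') * α := by rw [hdec']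
      _ = α⁻¹ * (w₀ * α) * b' := by group
      _ = α⁻¹ * (α * w₀) * b' := by rw [h2]
      _ = w₀ * b' := by group
  rw [h1]
  exact (cz y).mul_mem (center_le_cz y hw₀Z) hb'

end Cfsg.Agent.Lib.Helper7.CL
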