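import Mathlib
import Cfsg.Agent.Lib.Helper7.CL10

/-!
# Two largest class sizes coprime: passage to the central quotient
-/

set_option autoImplicit false

open scoped Pointwise

namespace Cfsg.Agent.Lib.Helper7.CL

variable {G : Type*} [Group G]

/-- membership in the image of a subgroup containing the kernel -/
theorem mk_mem_map_iff (Z B : Subgroup G) [Z.Normal] (hZB : Z ≤ B) (g : G) :
    (QuotientGroup.mk' Z g) ∈ B.map (QuotientGroup.mk' Z) ↔ g ∈ B := by
  constructor
  · rintro ⟨b, hb, hbg⟩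
    have h1 : b⁻¹ * g ∈ Z := QuotientGroup.eq.mp hbg
    have h2 : g = b * (b⁻¹ * g) := by group
    rw [h2]
    exact B.mul_mem hb (hZB h1)
  · intro h
    exact Subgroup.mem_map_of_mem _ h

theorem mk_mem_conj_smul_map_iff (Z B : Subgroup G) [Z.Normal] (hZB : Z ≤ B) (g c : G) :
    (QuotientGroup.mk' Z c) ∈ MulAut.conj (QuotientGroup.mk' Z g) • B.map (QuotientGroup.mk' Z) ↔
      g⁻¹ * c * g ∈ B := by
  rw [Subgroup.mem_pointwise_smul_iff_inv_smul_mem, ← mk_mem_map_iff Z B hZB]
  have h1 : (MulAut.conj (QuotientGroup.mk' Z g))⁻¹ • (QuotientGroup.mk' Z c) =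
      QuotientGroup.mk' Z (g⁻¹ * c * g) := by
    rw [MulAut.smul_def, MulAut.conj_inv_apply, map_mul, map_mul, map_inv]
  rw [h1]

end Cfsg.Agent.Lib.Helper7.CL
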