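import Mathlib
import Cfsg.Agent.Lib.Helper7.CM2

set_option autoImplicit false

namespace Cfsg.Agent.Lib.Helper7

namespace CM

open scoped commutatorElement

variable {G : Type*} [Group G]

theorem exists_not_mem_center (hna : ¬ IsMulCommutative G) : ∃ x : G, x ∉ Subgroup.center G := by
  by_contra h
  push_neg at h
  apply hna
  refine ⟨⟨fun a b => ?_⟩⟩
  exact (Subgroup.mem_center_iff.mp (h b) a)

/-- the case where all centralizers are normal -/
theorem case_normal [Finite G] (h : IsCM G) (hna : ¬ IsMulCommutative G)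
    (hnorm : ∀ x : G, x ∉ Subgroup.center G → (Cen x).Normal) :
    ∃ p : ℕ, p.Prime ∧ (∀ a b : G ⧸ Subgroup.center G, a * b = b * a) ∧
      ∀ a : G ⧸ Subgroup.center G, a ^ p = 1 := by
  have hcomm : ∀ g k : G, ⁅g, k⁆ ∈ Subgroup.center G := by
    intro g k
    rw [Subgroup.mem_center_iff]
    intro x
    by_cases hx : x ∈ Subgroup.center G
    · exact (Subgroup.mem_center_iff.mp hx _).symm
    · haveI := hnorm x hx
      have := commutator_mem_of_normal_coatom (h x hx) g k
      exact (mem_Cen.mp this).symm
  have hab : ∀ a b : G ⧸ Subgroup.center G, a * b = b * a := by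
    intro a b
    induction a using QuotientGroup.induction_on with
    | H g =>
      induction b using QuotientGroup.induction_on with
      | H k =>
        rw [← QuotientGroup.mk_mul, ← QuotientGroup.mk_mul, QuotientGroup.eq]
        have : (g * k)⁻¹ * (k * g) = ⁅k⁻¹, g⁻¹⁆ := by rw [commutatorElement_def]; group
        rw [this]
        exact hcomm _ _
  have hprime : ∀ x : G, x ∉ Subgroup.center G →
      ∃ p : ℕ, p.Prime ∧ x ^ p ∈ Subgroup.center G := by
    intro x hx
    haveI := hnorm x hx
    refine ⟨(Cen x).index, index_prime_of_normal_coatom (h x hx), ?_⟩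
    rw [Subgroup.mem_center_iff]
    intro g
    have h1 : g ^ (Cen x).index ∈ Cen x := Subgroup.pow_index_mem _ g
    have h2 : x * g ^ (Cen x).index = g ^ (Cen x).index * x := (mem_Cen.mp h1).symm
    have hc : ∀ y : G, ⁅x, g⁆ * y = y * ⁅x, g⁆ := fun y =>
      (Subgroup.mem_center_iff.mp (hcomm x g) y).symm
    exact (commute_pow_of_central_commutator hc _ h2).symm
  obtain ⟨x₁, hx₁⟩ := exists_not_mem_center hna
  obtain ⟨p, hp, hxp⟩ := hprime x₁ hx₁
  haveI : Fact p.Prime := ⟨hp⟩
  have hx1ne : ((x₁ : G) : G ⧸ Subgroup.center G) ≠ 1 := by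
    intro h0
    exact hx₁ ((QuotientGroup.eq_one_iff x₁).mp h0)
  have hx1p : ((x₁ : G) : G ⧸ Subgroup.center G) ^ p = 1 := by
    rw [← QuotientGroup.mk_pow]
    exact (QuotientGroup.eq_one_iff _).mpr hxp
  have hord1 : orderOf ((x₁ : G) : G ⧸ Subgroup.center G) = p := orderOf_eq_prime hx1p hx1ne
  refine ⟨p, hp, hab, ?_⟩
  intro a
  induction a using QuotientGroup.induction_on with
  | H g =>
    by_cases hg : g ∈ Subgroup.center G
    · rw [(QuotientGroup.eq_one_iff g).mpr hg, one_pow]
    · obtain ⟨q, hq, hgq⟩ := hprime g hg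
      haveI : Fact q.Prime := ⟨hq⟩
      by_cases hpq : q = p
      · rw [← hpq, ← QuotientGroup.mk_pow]
        exact (QuotientGroup.eq_one_iff _).mpr hgq
      · exfalso
        have hgne : ((g : G) : G ⧸ Subgroup.center G) ≠ 1 := by
          intro h0
          exact hg ((QuotientGroup.eq_one_iff g).mp h0)
        have hgq' : ((g : G) : G ⧸ Subgroup.center G) ^ q = 1 := by
          rw [← QuotientGroup.mk_pow]
          exact (QuotientGroup.eq_one_iff _).mpr hgq
        have hord2 : orderOf ((g : G) : G ⧸ Subgroup.center G) = q := orderOf_eq_prime hgq' hgne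
        have hcop : Nat.Coprime (orderOf ((x₁ : G) : G ⧸ Subgroup.center G))
            (orderOf ((g : G) : G ⧸ Subgroup.center G)) := by
          rw [hord1, hord2]
          exact (Nat.coprime_primes hp hq).mpr (Ne.symm hpq)
        have hord3 := (show Commute ((x₁ : G) : G ⧸ Subgroup.center G) (g : G ⧸ Subgroup.center G)
          from hab _ _).orderOf_mul_eq_mul_orderOf_of_coprime hcop
        rw [hord1, hord2, ← QuotientGroup.mk_mul] at hord3
        have hxg : x₁ * g ∉ Subgroup.center G := by
          intro h0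
          rw [(QuotientGroup.eq_one_iff _).mpr h0, orderOf_one] at hord3
          have := hp.two_le
          have := hq.two_le
          nlinarith
        obtain ⟨r, hr, hxgr⟩ := hprime (x₁ * g) hxg
        have hdvd : p * q ∣ r := by
          rw [← hord3]
          apply orderOf_dvd_of_pow_eq_one
          rw [← QuotientGroup.mk_pow]
          exact (QuotientGroup.eq_one_iff _).mpr hxgr
        have h1 : p = r := (Nat.prime_dvd_prime_iff_eq hp hr).mp (Dvd.dvd.trans (Dvd.intro _ rfl) hdvd)
        have h2 : q = r := (Nat.prime_dvd_prime_iff_eq hq hr).mp (Dvd.dvd.trans (Dvd.intro_left _ rfl) hdvd)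
        exact hpq (h2.trans h1.symm)

end CM

end Cfsg.Agent.Lib.Helper7
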