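import Mathlib
import Cfsg.Agent.Lib.Lead.FrobConj1
import Cfsg.Agent.Lib.Helper7.CM1

set_option autoImplicit false

namespace Cfsg.Agent.Lib.Helper7

namespace CM

open scoped commutatorElement Pointwise
open Cfsg.Agent.Lib.Lead

variable {Q : Type*} [Group Q]

/-- in a Frobenius group the centralizer of a nontrivial kernel element lies in the kernel -/
theorem FrobData_centralizer_le {H K : Subgroup Q} (hK : FrobData H K) {k : Q} (hk : k ∈ K)
    (hk1 : k ≠ 1) {g : Q} (hg : g * k = k * g) : g ∈ K := by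
  by_contra hgK
  obtain ⟨hg1, t, ht⟩ := hK.not_mem_iff.mp hgK
  rw [mem_conj_smul_iff] at ht
  have hKn := hK.normal
  have hk' : t⁻¹ * k * t ∈ K := by
    have := hKn.conj_mem k hk t⁻¹
    rw [inv_inv] at this
    exact this
  have hg' : t⁻¹ * g * t ≠ 1 := by
    intro h0
    apply hg1
    have : g = t * (t⁻¹ * g * t) * t⁻¹ := by group
    rw [this, h0]; group
  have hcomm : t⁻¹ * g * t * (t⁻¹ * k * t) = t⁻¹ * k * t * (t⁻¹ * g * t) := by
    calc t⁻¹ * g * t * (t⁻¹ * k * t) = t⁻¹ * (g * k) * t := by group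
      _ = t⁻¹ * (k * g) * t := by rw [hg]
      _ = t⁻¹ * k * t * (t⁻¹ * g * t) := by group
  have h1 := hK.fpf ht hg' hk' hcomm
  apply hk1
  have : k = t * (t⁻¹ * k * t) * t⁻¹ := by group
  rw [this, h1]; group

/-- abstract conclusion: a Frobenius group whose kernel is abelian, maximal and minimal normal -/
theorem frob_min_conclusion [Finite Q] {H K : Subgroup Q} (hK : FrobData H K)
    (hKab : ∀ a ∈ K, ∀ b ∈ K, a * b = b * a) (hKco : IsCoatom K)
    (hKmin : ∀ N : Subgroup Q, N.Normal → N ≤ K → N ≠ ⊥ → N = K) :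
    ¬ IsMulCommutative Q ∧ (∀ L : Subgroup Q, L ≠ ⊤ → IsMulCommutative ↥L) ∧
      ∃ p q a : ℕ, p.Prime ∧ q.Prime ∧ p ≠ q ∧ Nat.card Q = p ^ a * q ∧
        ∀ P : Subgroup Q, Nat.card ↥P = p ^ a → P.Normal := by
  haveI hKn : K.Normal := hK.normal
  have hK1 : K ≠ ⊥ := hK.ne_bot
  have hq : K.index.Prime := index_prime_of_normal_coatom hKco
  set q := K.index with hqdef
  -- K has prime exponent
  have hexp : ∃ p : ℕ, p.Prime ∧ ∀ k ∈ K, k ^ p = 1 := by
    have hcard : Nat.card K ≠ 1 := fun h0 => hK1 (Subgroup.card_eq_one.mp h0)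
    obtain ⟨p, hp, hpd⟩ := Nat.exists_prime_and_dvd hcard
    haveI : Fact p.Prime := ⟨hp⟩
    obtain ⟨u, hu⟩ := exists_prime_orderOf_dvd_card' p hpd
    let N : Subgroup Q :=
      { carrier := {k | k ∈ K ∧ k ^ p = 1}
        mul_mem' := by
          rintro a b ⟨ha, ha'⟩ ⟨hb, hb'⟩
          refine ⟨K.mul_mem ha hb, ?_⟩
          rw [(show Commute a b from hKab a ha b hb).mul_pow, ha', hb', one_mul]
        one_mem' := ⟨K.one_mem, one_pow _⟩
        inv_mem' := by
          rintro a ⟨ha, ha'⟩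
          exact ⟨K.inv_mem ha, by rw [inv_pow, ha', inv_one]⟩ }
    have hNn : N.Normal := by
      refine ⟨?_⟩
      rintro n ⟨hn, hn'⟩ g
      refine ⟨hKn.conj_mem n hn g, ?_⟩
      rw [conj_pow, hn', mul_one, mul_inv_cancel]
    have hNK : N ≤ K := fun n hn => hn.1
    have hN1 : N ≠ ⊥ := by
      intro h0
      have hu1 : (u : Q) ∈ N := by
        refine ⟨u.2, ?_⟩
        rw [← Subgroup.coe_pow, ← hu, pow_orderOf_eq_one]; rfl
      rw [h0, Subgroup.mem_bot] at hu1
      have : u = 1 := Subtype.ext hu1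
      rw [this, orderOf_one] at hu
      exact hp.one_lt.ne hu
    have hNeq := hKmin N hNn hNK hN1
    refine ⟨p, hp, ?_⟩
    intro k hk
    have : k ∈ N := by rw [hNeq]; exact hk
    exact this.2
  obtain ⟨p, hp, hpexp⟩ := hexp
  haveI : Fact p.Prime := ⟨hp⟩
  have hKp : IsPGroup p K := by
    rintro ⟨k, hk⟩
    refine ⟨1, ?_⟩
    apply Subtype.ext
    rw [pow_one, Subgroup.coe_pow]
    exact hpexp k hk
  obtain ⟨a, ha⟩ := IsPGroup.iff_card.mp hKp
  have hcardQ : Nat.card Q = p ^ a * q := by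
    rw [← ha]; exact (K.card_mul_index).symm
  have hcardH : Nat.card H = q := by
    have h1 := hK.card_mul
    rw [hcardQ, ha] at h1
    exact Nat.eq_of_mul_eq_mul_left (pow_pos hp.pos a) h1
  have ha0 : a ≠ 0 := by
    intro h0
    rw [h0, pow_zero] at ha
    exact hK1 (Subgroup.card_eq_one.mp ha)
  have hpq : p ≠ q := by
    intro h0
    have hcop := hK.coprime
    rw [ha, hcardH, ← h0] at hcop
    have h1 : p ∣ Nat.gcd (p ^ a) p := Nat.dvd_gcd (dvd_pow_self p ha0) dvd_rfl
    rw [hcop] at h1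
    exact hp.one_lt.ne' (Nat.dvd_one.mp h1)
  refine ⟨?_, ?_, p, q, a, hp, hq, hpq, hcardQ, ?_⟩
  · -- nonabelian
    intro hcomm
    obtain ⟨g, hg⟩ : ∃ g : Q, g ∉ H := by
      by_contra h0
      push_neg at h0
      exact hK.frob.2.1 (Subgroup.eq_top_iff' H |>.mpr h0)
    have h1 := hK.frob.2.2 g hg
    have h2 : MulAut.conj g • H = H := by
      ext x
      rw [mem_conj_smul_iff]
      have : g⁻¹ * x * g = x := by
        have := hcomm.is_comm.comm g⁻¹ x
        calc g⁻¹ * x * g = x * g⁻¹ * g := by rw [this]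
          _ = x := by group
      rw [this]
    rw [h2, inf_idem] at h1
    exact hK.frob.1 h1
  · -- proper subgroups are abelian
    intro L hL
    by_cases hLK : L ≤ K
    · exact ⟨⟨fun a b => Subtype.ext (hKab a (hLK a.2) b (hLK b.2))⟩⟩
    · have hsup : L ⊔ K = ⊤ := by
        apply hKco.2
        apply lt_of_le_of_ne le_sup_right
        intro h0
        apply hLK
        rw [h0]; exact le_sup_left
      have hNn : (L ⊓ K).Normal := by
        refine ⟨?_⟩
        rintro n ⟨hnL, hnK⟩ g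
        have hg : g ∈ L ⊔ K := by rw [hsup]; trivial
        have hset : ((L ⊔ K : Subgroup Q) : Set Q) = (L : Set Q) * (K : Set Q) :=
          Subgroup.mul_normal L K
        have hg' : g ∈ (L : Set Q) * (K : Set Q) := by rw [← hset]; exact hg
        obtain ⟨l, hl, k, hk, rfl⟩ := Set.mem_mul.mp hg'
        refine ⟨?_, hKn.conj_mem n hnK _⟩
        have h1 : l * k * n * (l * k)⁻¹ = l * (k * n * k⁻¹) * l⁻¹ := by group
        have h2 : k * n * k⁻¹ = n := by
          rw [hKab k hk n hnK]; group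
        rw [h1, h2]
        exact L.mul_mem (L.mul_mem hl hnL) (L.inv_mem hl)
      have hN1 : L ⊓ K = ⊥ := by
        by_contra h0
        have h1 := hKmin (L ⊓ K) hNn inf_le_right h0
        have h2 : K ≤ L := by rw [← h1]; exact inf_le_left
        apply hL
        rw [← hsup]
        exact (sup_eq_left.mpr h2).symm
      refine ⟨⟨fun a b => ?_⟩⟩
      apply Subtype.ext
      have h1 : ⁅(a : Q), (b : Q)⁆ ∈ K := commutator_mem_of_normal_coatom hKco _ _
      have h2 : ⁅(a : Q), (b : Q)⁆ ∈ L := by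
        rw [commutatorElement_def]
        exact L.mul_mem (L.mul_mem (L.mul_mem a.2 b.2) (L.inv_mem a.2)) (L.inv_mem b.2)
      have h3 : ⁅(a : Q), (b : Q)⁆ ∈ L ⊓ K := ⟨h2, h1⟩
      rw [hN1, Subgroup.mem_bot] at h3
      exact commutatorElement_eq_one_iff_mul_comm.mp h3
  · -- subgroups of order p ^ a
    intro P hP
    have hPp : IsPGroup p P := IsPGroup.of_card hP
    have hPK : IsPGroup p ↥(P ⊔ K) := IsPGroup.to_sup_of_normal_right hPp hKp
    obtain ⟨b, hb⟩ := IsPGroup.iff_card.mp hPK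
    have h1 : p ^ b ∣ p ^ a * q := by
      rw [← hb, ← hcardQ]; exact Subgroup.card_subgroup_dvd_card _
    have hcop : Nat.Coprime (p ^ b) q :=
      Nat.Coprime.pow_left _ ((Nat.coprime_primes hp hq).mpr hpq)
    have h2 : p ^ b ∣ p ^ a := hcop.dvd_of_dvd_mul_right h1
    have h3 : Nat.card ↥(P ⊔ K) ≤ Nat.card K := by
      rw [hb, ha]; exact Nat.le_of_dvd (pow_pos hp.pos a) h2
    have h4 : K = P ⊔ K := Subgroup.eq_of_le_of_card_ge le_sup_right h3
    have h5 : P ≤ K := by rw [h4]; exact le_sup_left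
    have h6 : P = K := Subgroup.eq_of_le_of_card_ge h5 (by rw [hP, ha])
    rw [h6]; exact hKn

end CM

end Cfsg.Agent.Lib.Helper7
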