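import Mathlib
import Cfsg.Agent.Lib.Lead.GT13
import Cfsg.Agent.Lib.Lead.Fpf3
import Cfsg.Agent.Lib.Lead.CoprimeSylow4
import Cfsg.Agent.Lib.Lead.CoprimeSylow3
import Cfsg.Agent.Lib.Helper4.NilpSub
import Cfsg.Agent.Lib.Helper2.Basic

set_option autoImplicit false

/-!
A finite group with a nilpotent maximal subgroup of odd order is solvable
(Thompson), via the Glauberman--Thompson normal `p`-complement theorem.
-/

namespace Cfsg.Agent.Lib.Helper7.NilpMax

open Cfsg.Agent.Lib.Lead Cfsg.Agent.Lib.Helper4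
open scoped Pointwise

universe u

variable {X : Type u} [Group X] [Finite X]

/-- a core-free nilpotent maximal subgroup of odd order -/
structure CoreFreeNilpMax (M : Subgroup X) : Prop where
  max : IsCoatom M
  nil : Group.IsNilpotent ↥M
  odd : Odd (Nat.card ↥M)
  core : ∀ N : Subgroup X, N.Normal → N ≤ M → N = ⊥

theorem normalizer_eq {M : Subgroup X} (hM : CoreFreeNilpMax M) {U : Subgroup X} (hUM : U ≤ M)
    (hU1 : U ≠ ⊥) (hMU : M ≤ Subgroup.normalizer (U : Set X)) :
    Subgroup.normalizer (U : Set X) = M := by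
  rcases hM.max.le_iff.mp hMU with h | h
  · exfalso
    apply hU1
    exact hM.core U (Subgroup.normalizer_eq_top_iff.mp h) hUM
  · exact h

theorem map_conj_eq_of_mem_normalizer {U : Subgroup X} {m : X}
    (hm : m ∈ Subgroup.normalizer (U : Set X)) :
    U.map (MulAut.conj m).toMonoidHom = U := by
  ext x
  constructor
  · rintro ⟨u, hu, rfl⟩
    have := (Subgroup.mem_normalizer_iff.mp hm u).mp hu
    simpa using this
  · intro hx
    refine ⟨m⁻¹ * x * m, ?_, by simp [mul_assoc]⟩
    have h2 := (Subgroup.mem_normalizer_iff.mp hm (m⁻¹ * x * m)).mpr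
    apply h2
    have : m * (m⁻¹ * x * m) * m⁻¹ = x := by group
    rw [this]; exact hx

theorem mem_normalizer_of_map_conj_eq {U : Subgroup X} {m : X}
    (h : U.map (MulAut.conj m).toMonoidHom = U) : m ∈ Subgroup.normalizer (U : Set X) := by
  rw [Subgroup.mem_normalizer_iff]
  intro x
  constructor
  · intro hx
    have : (MulAut.conj m).toMonoidHom x ∈ U.map (MulAut.conj m).toMonoidHom := ⟨x, hx, rfl⟩
    rw [h] at this
    simpa using this
  · intro hx
    rw [← h] at hx
    obtain ⟨u, hu, hux⟩ := hx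
    have h1 : m * u * m⁻¹ = m * x * m⁻¹ := by simpa using hux
    have h2 : u = x := by
      have := mul_left_cancel (mul_right_cancel h1)
      exact this
    rw [← h2]; exact hu

/-- the Sylow subgroups of `M` for primes dividing `#M` are Sylow subgroups of the group -/
theorem exists_sylow {M : Subgroup X} (hM : CoreFreeNilpMax M) (p : ℕ) [hp : Fact p.Prime]
    (hpM : p ∣ Nat.card ↥M) :
    ∃ S : Sylow p X, (S : Subgroup X) ≤ M ∧ (S : Subgroup X) ≠ ⊥ ∧
      M ≤ Subgroup.normalizer ((S : Subgroup X) : Set X) := by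
  obtain ⟨T, -, hT⟩ := exists_sylIn_ge (p := p) (bot_le : (⊥ : Subgroup X) ≤ M) IsPGroup.of_bot
  have hn := sylIn_normal_of_isNilpotent hM.nil hT
  have hT1 : T ≠ ⊥ := by
    intro h0
    have h2 := hT.2.2
    rw [h0, Subgroup.relIndex_bot_left] at h2
    exact h2 hpM
  have hNT := normalizer_eq hM hT.1 hT1 hn
  obtain ⟨S, hS⟩ := hT.2.1.exists_le_sylow
  have hTS : T = (S : Subgroup X) := by
    by_contra hne
    have hlt : T < (S : Subgroup X) := lt_of_le_of_ne hS hne
    have h1 := pgroup_normalizer_grows p (S : Subgroup X) T S.isPGroup' hlt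
    rw [hNT] at h1
    have h2 : (S : Subgroup X) ⊓ M ≤ T :=
      SylIn.le_of_normal hT hn inf_le_right (S.isPGroup'.to_le inf_le_left)
    exact absurd (lt_of_lt_of_le h1 h2) (lt_irrefl _)
  refine ⟨S, ?_, ?_, ?_⟩
  · rw [← hTS]; exact hT.1
  · rw [← hTS]; exact hT1
  · rw [← hTS]; exact hn

/-- `X` has a normal `p`-complement for every prime `p` dividing `#M` -/
theorem pnilp {M : Subgroup X} (hM : CoreFreeNilpMax M) (p : ℕ) [hp : Fact p.Prime]
    (hpM : p ∣ Nat.card ↥M) : GT.PNilp p X := by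
  have hp2 : p ≠ 2 := by
    rintro rfl
    have := hM.odd
    rw [Nat.odd_iff] at this
    omega
  obtain ⟨S, hSM, hS1, hMS⟩ := exists_sylow hM p hpM
  set W := ZJ.wsub p (S : Subgroup X) with hW
  have hWS : W ≤ (S : Subgroup X) := ZJ.wsub_le p _
  have hW1 : W ≠ ⊥ := ZJ.wsub_ne_bot p (dvd_refl p) _ S.isPGroup' hS1
  have hMW : M ≤ Subgroup.normalizer (W : Set X) := by
    intro m hm
    apply mem_normalizer_of_map_conj_eq
    have e := ZJ.wsub_map_of_injective p (S : Subgroup X) (MulAut.conj m).toMonoidHom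
      (MulAut.conj m).injective
    rw [map_conj_eq_of_mem_normalizer (hMS hm)] at e
    exact e
  have hNW := normalizer_eq hM (hWS.trans hSM) hW1 hMW
  have hN : GT.PNilp p ↥(Subgroup.normalizer (W : Set X)) := by
    rw [hNW]
    exact Fpf.pnilp_of_isNilpotent hM.nil
  exact GT.glauberman_thompson hp2 p (dvd_refl p) S (S : Subgroup X) (ZJ.sClosed_self _) hN

/-- a common bound for finitely many terms of the derived series -/
theorem exists_derivedSeries_le (s : Finset (Subgroup X))
    (h : ∀ L ∈ s, ∃ n, derivedSeries X n ≤ L) : ∃ n, ∀ L ∈ s, derivedSeries X n ≤ L := by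
  classical
  induction s using Finset.induction_on with
  | empty => exact ⟨0, fun L hL => absurd hL (Finset.notMem_empty L)⟩
  | insert L s hL ih =>
    obtain ⟨n1, hn1⟩ := ih (fun L' hL' => h L' (Finset.mem_insert_of_mem hL'))
    obtain ⟨n2, hn2⟩ := h L (Finset.mem_insert_self L s)
    refine ⟨max n1 n2, fun L' hL' => ?_⟩
    rcases Finset.mem_insert.mp hL' with rfl | hL'
    · exact (derivedSeries_antitone X (le_max_right n1 n2)).trans hn2
    · exact (derivedSeries_antitone X (le_max_left n1 n2)).trans (hn1 L' hL')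

theorem derivedSeries_le_of_index_pow {L : Subgroup X} [L.Normal] {p k : ℕ} [hp : Fact p.Prime]
    (hidx : L.index = p ^ k) : ∃ n, derivedSeries X n ≤ L := by
  have hpg : IsPGroup p (X ⧸ L) := by
    apply IsPGroup.of_card (n := k)
    rw [← hidx]; rfl
  haveI : Group.IsNilpotent (X ⧸ L) := hpg.isNilpotent
  obtain ⟨n, hn⟩ := (Group.isSolvable_def (X ⧸ L)).mp inferInstance
  refine ⟨n, ?_⟩
  have h1 := map_derivedSeries_le_derivedSeries (QuotientGroup.mk' L) n
  rw [hn, le_bot_iff, Subgroup.map_eq_bot_iff, QuotientGroup.ker_mk'] at h1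
  exact h1

/-- the core-free case -/
theorem solvable_of_coreFree {M : Subgroup X} (hM : CoreFreeNilpMax M) : Group.IsSolvable X := by
  classical
  -- the normal `p`-complements for the primes dividing `#M`
  let 𝓛 : Set (Subgroup X) := {L | L.Normal ∧ ∃ p : ℕ, p.Prime ∧ p ∣ Nat.card ↥M ∧
    (Nat.card ↥L).Coprime p ∧ ∃ k : ℕ, L.index = p ^ k}
  set K : Subgroup X := sInf 𝓛 with hK
  have hKn : K.Normal := by
    rw [hK, sInf_eq_iInf']
    exact Subgroup.normal_iInf_normal (fun L => L.2.1)
  -- `#K` is prime to `#M`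
  have hcop : (Nat.card ↥M).Coprime (Nat.card ↥K) := by
    apply Nat.coprime_of_dvd
    intro p hp hpM hpK
    haveI : Fact p.Prime := ⟨hp⟩
    obtain ⟨L, hLn, hLc, k, hLk⟩ := pnilp hM p hpM
    have hKL : K ≤ L := sInf_le ⟨hLn, p, hp, hpM, hLc, k, hLk⟩
    have h1 : Nat.card ↥K ∣ Nat.card ↥L := Subgroup.card_dvd_of_le hKL
    have h2 : p ∣ Nat.card ↥L := hpK.trans h1
    have := Nat.dvd_gcd h2 (dvd_refl p)
    rw [hLc.gcd_eq_one] at this
    exact hp.one_lt.ne' (Nat.dvd_one.mp this)
  -- the quotient by `K` is solvable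
  have hquot : ∃ n, derivedSeries X n ≤ K := by
    have hfin : 𝓛.Finite := Set.toFinite _
    obtain ⟨n, hn⟩ := exists_derivedSeries_le hfin.toFinset (by
      intro L hL
      rw [Set.Finite.mem_toFinset] at hL
      obtain ⟨hLn, p, hp, -, -, k, hLk⟩ := hL
      haveI : Fact p.Prime := ⟨hp⟩
      haveI := hLn
      exact derivedSeries_le_of_index_pow hLk)
    refine ⟨n, ?_⟩
    rw [hK]
    apply le_sInf
    intro L hL
    exact hn L ((Set.Finite.mem_toFinset hfin).mpr hL)
  -- `K` is solvable
  have hKsolv : Group.IsSolvable ↥K := by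
    by_cases hK1 : K = ⊥
    · rw [hK1]; infer_instance
    have hcard : Nat.card ↥K ≠ 1 := by
      intro h; exact hK1 (Subgroup.card_eq_one.mp h)
    set r := (Nat.card ↥K).minFac with hr
    have hrp : r.Prime := Nat.minFac_prime hcard
    haveI : Fact r.Prime := ⟨hrp⟩
    have hrK : r ∣ Nat.card ↥K := Nat.minFac_dvd _
    haveI := hM.nil
    have hMK : M ≤ Subgroup.normalizer (K : Set X) := by
      rw [Subgroup.normalizer_eq_top_iff.mpr hKn]; exact le_top
    obtain ⟨R, hR⟩ := coprime_invariant_sylow_exists M K hMK hcop (Or.inl inferInstance) r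
    set R' : Subgroup X := (R : Subgroup ↥K).map K.subtype with hR'
    have hR'K : R' ≤ K := Subgroup.map_subtype_le _
    have hR'p : IsPGroup r R' := R.isPGroup'.map _
    have hR'1 : R' ≠ ⊥ := by
      intro h0
      have h1 : (R : Subgroup ↥K) = ⊥ :=
        (Subgroup.map_eq_bot_iff_of_injective _ K.subtype_injective).mp h0
      have h2 : ¬ r ∣ (R : Subgroup ↥K).index := R.not_dvd_index
      rw [h1, Subgroup.index_bot] at h2
      exact h2 hrK
    have hinf : M ⊓ K = ⊥ := Subgroup.inf_eq_bot_of_coprime hcop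
    have htop : M ⊔ R' = ⊤ := by
      rcases hM.max.le_iff.mp (le_sup_left : M ≤ M ⊔ R') with h | h
      · exact h
      · exfalso
        apply hR'1
        have h1 : R' ≤ M := by rw [← h]; exact le_sup_right
        rw [eq_bot_iff, ← hinf]
        exact le_inf h1 hR'K
    have hKR : K ≤ R' := by
      intro k hk
      have hk' : k ∈ ((M ⊔ R' : Subgroup X) : Set X) := by rw [htop]; trivial
      rw [Subgroup.coe_mul_of_left_le_normalizer_right M R' hR] at hk'
      obtain ⟨m, hm, r', hr', hmr⟩ := hk'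
      have hmr' : m * r' = k := hmr
      have hmK : m ∈ K := by
        have : m = k * r'⁻¹ := by rw [← hmr']; group
        rw [this]
        exact K.mul_mem hk (K.inv_mem (hR'K hr'))
      have hm1 : m ∈ M ⊓ K := ⟨hm, hmK⟩
      rw [hinf, Subgroup.mem_bot] at hm1
      rw [← hmr', hm1, one_mul]; exact hr'
    have hKp : IsPGroup r ↥K := hR'p.to_le hKR
    haveI : Group.IsNilpotent ↥K := hKp.isNilpotent
    infer_instance
  obtain ⟨n, hn⟩ := hquot
  haveI := hKn
  haveI := hKsolv
  haveI : Group.IsSolvable (X ⧸ K) := by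
    rw [Group.isSolvable_def]
    refine ⟨n, ?_⟩
    rw [← map_derivedSeries_eq (QuotientGroup.mk'_surjective K) n, eq_bot_iff]
    rintro _ ⟨x, hx, rfl⟩
    rw [Subgroup.mem_bot]
    exact (QuotientGroup.eq_one_iff x).mpr (hn hx)
  exact Group.isSolvable_of_ker_le_range K.subtype (QuotientGroup.mk' K) (by
    rw [QuotientGroup.ker_mk', Subgroup.range_subtype])

end Cfsg.Agent.Lib.Helper7.NilpMax
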