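import Mathlib
import Cfsg.Agent.Lib.Helper7.NilpMax
import Cfsg.Agent.Lib.Helper7.Conj
import Cfsg.Agent.Lib.Helper7.Wielandt1
import Cfsg.Agent.Lib.Lead.FrobNPC5
import Cfsg.Agent.Lib.Helper4.AlperinTame
import Cfsg.Agent.Lib.Helper4.WellPlaced
import Cfsg.Agent.Lib.Helper3.Components8

set_option autoImplicit false

/-!
A finite group with a nilpotent maximal subgroup of class at most two is solvable
(Deskins, Janko, Thompson): the class two argument via Frobenius' criterion.
-/

namespace Cfsg.Agent.Lib.Helper7.NilpMax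

open Cfsg.Agent.Lib.Lead Cfsg.Agent.Lib.Helper4 Cfsg.Agent.Lib.Helper7
open scoped Pointwise commutatorElement

universe u

variable {X : Type u} [Group X] [Finite X]

/-- a core-free nilpotent maximal subgroup -/
structure CoreFreeMax (M : Subgroup X) : Prop where
  max : IsCoatom M
  nil : Group.IsNilpotent ↥M
  core : ∀ N : Subgroup X, N.Normal → N ≤ M → N = ⊥

theorem normalizer_eq' {M : Subgroup X} (hM : CoreFreeMax M) {U : Subgroup X} (hUM : U ≤ M)
    (hU1 : U ≠ ⊥) (hMU : M ≤ Subgroup.normalizer (U : Set X)) :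
    Subgroup.normalizer (U : Set X) = M := by
  rcases hM.max.le_iff.mp hMU with h | h
  · exfalso
    apply hU1
    exact hM.core U (Subgroup.normalizer_eq_top_iff.mp h) hUM
  · exact h

/-- the Sylow subgroups of `M` for primes dividing `#M` are Sylow subgroups of the group -/
theorem exists_sylow' {M : Subgroup X} (hM : CoreFreeMax M) (p : ℕ) [hp : Fact p.Prime]
    (hpM : p ∣ Nat.card ↥M) :
    ∃ S : Sylow p X, (S : Subgroup X) ≤ M ∧ (S : Subgroup X) ≠ ⊥ ∧
      M ≤ Subgroup.normalizer ((S : Subgroup X) : Set X) ∧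
      ∀ T : Subgroup X, T ≤ M → IsPGroup p T → T ≤ (S : Subgroup X) := by
  obtain ⟨T, -, hT⟩ := exists_sylIn_ge (p := p) (bot_le : (⊥ : Subgroup X) ≤ M) IsPGroup.of_bot
  have hn := sylIn_normal_of_isNilpotent hM.nil hT
  have hT1 : T ≠ ⊥ := by
    intro h0
    have h2 := hT.2.2
    rw [h0, Subgroup.relIndex_bot_left] at h2
    exact h2 hpM
  have hNT := normalizer_eq' hM hT.1 hT1 hn
  obtain ⟨S, hS⟩ := hT.2.1.exists_le_sylow
  have hTS : T = (S : Subgroup X) := by
    by_contra hne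
    have hlt : T < (S : Subgroup X) := lt_of_le_of_ne hS hne
    have h1 := pgroup_normalizer_grows p (S : Subgroup X) T S.isPGroup' hlt
    rw [hNT] at h1
    have h2 : (S : Subgroup X) ⊓ M ≤ T :=
      SylIn.le_of_normal hT hn inf_le_right (S.isPGroup'.to_le inf_le_left)
    exact absurd (lt_of_lt_of_le h1 h2) (lt_irrefl _)
  refine ⟨S, ?_, ?_, ?_, ?_⟩
  · rw [← hTS]; exact hT.1
  · rw [← hTS]; exact hT1
  · rw [← hTS]; exact hn
  · intro U hUM hU
    rw [← hTS]
    exact SylIn.le_of_normal hT hn hUM hU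

/-- solvability from normal `p`-complements for the primes dividing `#M` -/
theorem solvable_of_pnilp {M : Subgroup X} (hM : CoreFreeMax M)
    (hpn : ∀ p : ℕ, p.Prime → p ∣ Nat.card ↥M → GT.PNilp p X) : Group.IsSolvable X := by
  classical
  let 𝓛 : Set (Subgroup X) := {L | L.Normal ∧ ∃ p : ℕ, p.Prime ∧ p ∣ Nat.card ↥M ∧
    (Nat.card ↥L).Coprime p ∧ ∃ k : ℕ, L.index = p ^ k}
  set K : Subgroup X := sInf 𝓛 with hK
  have hKn : K.Normal := by
    rw [hK, sInf_eq_iInf']
    exact Subgroup.normal_iInf_normal (fun L => L.2.1)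
  have hcop : (Nat.card ↥M).Coprime (Nat.card ↥K) := by
    apply Nat.coprime_of_dvd
    intro p hp hpM hpK
    obtain ⟨L, hLn, hLc, k, hLk⟩ := hpn p hp hpM
    have hKL : K ≤ L := sInf_le ⟨hLn, p, hp, hpM, hLc, k, hLk⟩
    have h1 : Nat.card ↥K ∣ Nat.card ↥L := Subgroup.card_dvd_of_le hKL
    have h2 : p ∣ Nat.card ↥L := hpK.trans h1
    have := Nat.dvd_gcd h2 (dvd_refl p)
    rw [hLc.gcd_eq_one] at this
    exact hp.one_lt.ne' (Nat.dvd_one.mp this)
  have hquot : ∃ n, derivedSeries X n ≤ K := by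
    have hfin : 𝓛.Finite := Set.toFinite _
    obtain ⟨n, hn⟩ := exists_derivedSeries_le hfin.toFinset (by
      intro L hL
      rw [Set.Finite.mem_toFinset] at hL
      obtain ⟨hLn, p, hp, -, -, k, hLk⟩ := hL
      haveI : Fact p.Prime := ⟨hp⟩
      haveI := hLn
      exact derivedSeries_le_of_index_pow hLk)
    refine ⟨n, ?_⟩
    rw [hK]
    apply le_sInf
    intro L hL
    exact hn L ((Set.Finite.mem_toFinset hfin).mpr hL)
  have hKsolv : Group.IsSolvable ↥K := by
    by_cases hK1 : K = ⊥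
    · rw [hK1]; infer_instance
    have hcard : Nat.card ↥K ≠ 1 := by
      intro h; exact hK1 (Subgroup.card_eq_one.mp h)
    set r := (Nat.card ↥K).minFac with hr
    have hrp : r.Prime := Nat.minFac_prime hcard
    haveI : Fact r.Prime := ⟨hrp⟩
    have hrK : r ∣ Nat.card ↥K := Nat.minFac_dvd _
    haveI := hM.nil
    have hMK : M ≤ Subgroup.normalizer (K : Set X) := by
      rw [Subgroup.normalizer_eq_top_iff.mpr hKn]; exact le_top
    obtain ⟨R, hR⟩ := coprime_invariant_sylow_exists M K hMK hcop (Or.inl inferInstance) r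
    set R' : Subgroup X := (R : Subgroup ↥K).map K.subtype with hR'
    have hR'K : R' ≤ K := Subgroup.map_subtype_le _
    have hR'p : IsPGroup r R' := R.isPGroup'.map _
    have hR'1 : R' ≠ ⊥ := by
      intro h0
      have h1 : (R : Subgroup ↥K) = ⊥ :=
        (Subgroup.map_eq_bot_iff_of_injective _ K.subtype_injective).mp h0
      have h2 : ¬ r ∣ (R : Subgroup ↥K).index := R.not_dvd_index
      rw [h1, Subgroup.index_bot] at h2
      exact h2 hrK
    have hinf : M ⊓ K = ⊥ := Subgroup.inf_eq_bot_of_coprime hcop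
    have htop : M ⊔ R' = ⊤ := by
      rcases hM.max.le_iff.mp (le_sup_left : M ≤ M ⊔ R') with h | h
      · exact h
      · exfalso
        apply hR'1
        have h1 : R' ≤ M := by rw [← h]; exact le_sup_right
        rw [eq_bot_iff, ← hinf]
        exact le_inf h1 hR'K
    have hKR : K ≤ R' := by
      intro k hk
      have hk' : k ∈ ((M ⊔ R' : Subgroup X) : Set X) := by rw [htop]; trivial
      rw [Subgroup.coe_mul_of_left_le_normalizer_right M R' hR] at hk'
      obtain ⟨m, hm, r', hr', hmr⟩ := hk'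
      have hmr' : m * r' = k := hmr
      have hmK : m ∈ K := by
        have : m = k * r'⁻¹ := by rw [← hmr']; group
        rw [this]
        exact K.mul_mem hk (K.inv_mem (hR'K hr'))
      have hm1 : m ∈ M ⊓ K := ⟨hm, hmK⟩
      rw [hinf, Subgroup.mem_bot] at hm1
      rw [← hmr', hm1, one_mul]; exact hr'
    have hKp : IsPGroup r ↥K := hR'p.to_le hKR
    haveI : Group.IsNilpotent ↥K := hKp.isNilpotent
    infer_instance
  obtain ⟨n, hn⟩ := hquot
  haveI := hKn
  haveI := hKsolv
  haveI : Group.IsSolvable (X ⧸ K) := by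
    rw [Group.isSolvable_def]
    refine ⟨n, ?_⟩
    rw [← map_derivedSeries_eq (QuotientGroup.mk'_surjective K) n, eq_bot_iff]
    rintro _ ⟨x, hx, rfl⟩
    rw [Subgroup.mem_bot]
    exact (QuotientGroup.eq_one_iff x).mpr (hn hx)
  exact Group.isSolvable_of_ker_le_range K.subtype (QuotientGroup.mk' K) (by
    rw [QuotientGroup.ker_mk', Subgroup.range_subtype])

/-- a group `P` of class two normalizes `Z ⊔ B` for `Z` central and `B ≤ P` -/
theorem normalizes_of_class_two (P Z B : Subgroup X)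
    (hZc : ∀ x ∈ P, ∀ z ∈ Z, x * z = z * x)
    (hcl : ∀ x ∈ P, ∀ a ∈ P, ⁅x, a⁆ ∈ Z) (hB : B ≤ P) :
    P ≤ Subgroup.normalizer ((Z ⊔ B : Subgroup X) : Set X) := by
  intro x hx
  rw [mem_normalizer_iff_cj]
  apply cj_eq_of_le
  rw [cj_sup]
  apply sup_le
  · rintro _ ⟨z, hz, rfl⟩
    have h1 : (MulAut.conj x).toMonoidHom z = z := by
      show x * z * x⁻¹ = z
      rw [hZc x hx z hz]; group
    rw [h1]
    exact (le_sup_left : Z ≤ Z ⊔ B) hz
  · rintro _ ⟨a, ha, rfl⟩
    have h1 : (MulAut.conj x).toMonoidHom a = ⁅x, a⁆ * a := by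
      show x * a * x⁻¹ = ⁅x, a⁆ * a
      rw [commutatorElement_def]; group
    rw [h1]
    exact Subgroup.mul_mem _ ((le_sup_left : Z ≤ Z ⊔ B) (hcl x hx a (hB ha)))
      ((le_sup_right : B ≤ Z ⊔ B) ha)

end Cfsg.Agent.Lib.Helper7.NilpMax
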