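import Mathlib
import Cfsg.Agent.Lib.Helper7.NilpMax2

set_option autoImplicit false

/-!
The class two argument: a core-free nilpotent maximal subgroup of class at most two
forces normal `p`-complements.
-/

namespace Cfsg.Agent.Lib.Helper7.NilpMax

open Cfsg.Agent.Lib.Lead Cfsg.Agent.Lib.Helper4 Cfsg.Agent.Lib.Helper7
open scoped Pointwise commutatorElement

universe u

variable {X : Type u} [Group X] [Finite X]

/-- the data of the class two situation -/
structure ClassTwoData (M : Subgroup X) (p : ℕ) (S : Sylow p X) : Prop where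
  cf : CoreFreeMax M
  cl : ∀ a ∈ M, ∀ b ∈ M, ∀ c ∈ M, ⁅a, b⁆ * c = c * ⁅a, b⁆
  le : (S : Subgroup X) ≤ M
  ne : (S : Subgroup X) ≠ ⊥
  norm : M ≤ Subgroup.normalizer ((S : Subgroup X) : Set X)
  maxi : ∀ T : Subgroup X, T ≤ M → IsPGroup p T → T ≤ (S : Subgroup X)

variable {M : Subgroup X} {p : ℕ} [hp : Fact p.Prime] {S : Sylow p X}

/-- the centre of the Sylow subgroup, as a subgroup of `X` -/
def zc (S : Sylow p X) : Subgroup X :=
  (S : Subgroup X) ⊓ Subgroup.centralizer ((S : Subgroup X) : Set X)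

theorem zc_le (S : Sylow p X) : zc S ≤ (S : Subgroup X) := inf_le_left

theorem zc_comm {S : Sylow p X} {x z : X} (hx : x ∈ (S : Subgroup X)) (hz : z ∈ zc S) :
    x * z = z * x :=
  Subgroup.mem_centralizer_iff.mp hz.2 x hx

theorem zc_ne_bot (h : ClassTwoData M p S) : zc S ≠ ⊥ := by
  haveI : Nontrivial ↥(S : Subgroup X) := (Subgroup.nontrivial_iff_ne_bot _).mpr h.ne
  have h1 : Nontrivial ↥(Subgroup.center ↥(S : Subgroup X)) := S.isPGroup'.center_nontrivial
  have h2 : Subgroup.center ↥(S : Subgroup X) ≠ ⊥ := (Subgroup.nontrivial_iff_ne_bot _).mp h1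
  unfold zc
  rw [← Cfsg.Agent.Lib.Helper3.center_map_subtype]
  intro h0
  exact h2 ((Subgroup.map_eq_bot_iff_of_injective _ (Subgroup.subtype_injective _)).mp h0)

theorem isPGroup_zpowers_of_mem {x : X} (hx : x ∈ (S : Subgroup X)) :
    IsPGroup p (Subgroup.zpowers x) :=
  S.isPGroup'.to_le (Subgroup.zpowers_le.mpr hx)

/-- `p`-elements of `M` lie in `S` -/
theorem mem_of_pElement (h : ClassTwoData M p S) {y : X} (hy : y ∈ M)
    (hyp : IsPGroup p (Subgroup.zpowers y)) : y ∈ (S : Subgroup X) :=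
  h.maxi _ (Subgroup.zpowers_le.mpr hy) hyp (Subgroup.mem_zpowers y)

/-- the centralizer of a nontrivial element of `Z(S)` is `M` -/
theorem centralizer_eq (h : ClassTwoData M p S) {z : X} (hz : z ∈ zc S) (hz1 : z ≠ 1) :
    Subgroup.centralizer ({z} : Set X) = M := by
  have hzM : z ∈ M := h.le (zc_le S hz)
  have hzp : IsPGroup p (Subgroup.zpowers z) := isPGroup_zpowers_of_mem (zc_le S hz)
  have hc := central_of_commute_pElements h.cf.nil hzM hzp
    (fun y hy hyp => zc_comm (mem_of_pElement h hy hyp) hz)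
  have hle : M ≤ Subgroup.centralizer ({z} : Set X) := by
    intro m hm
    rw [Subgroup.mem_centralizer_iff]
    intro w hw
    rw [Set.mem_singleton_iff] at hw
    rw [hw]
    exact (hc m hm).symm
  rcases h.cf.max.le_iff.mp hle with htop | heq
  · exfalso
    apply hz1
    have hzc : z ∈ Subgroup.center X := by
      rw [Subgroup.mem_center_iff]
      intro g
      have hg : g ∈ Subgroup.centralizer ({z} : Set X) := by rw [htop]; trivial
      exact (Subgroup.mem_centralizer_iff.mp hg z (Set.mem_singleton z)).symm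
    have hn : (Subgroup.zpowers z).Normal := by
      refine ⟨fun n hn g => ?_⟩
      have hnc : n ∈ Subgroup.center X :=
        (Subgroup.zpowers_le.mpr hzc) hn
      have : g * n * g⁻¹ = n := by
        rw [(Subgroup.mem_center_iff.mp hnc g)]; group
      rw [this]; exact hn
    have h0 := h.cf.core _ hn (Subgroup.zpowers_le.mpr hzM)
    have : z ∈ (⊥ : Subgroup X) := h0 ▸ Subgroup.mem_zpowers z
    exact Subgroup.mem_bot.mp this
  · exact heq

/-- elements of `M` of order prime to `p` centralize `S` -/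
theorem pprime_comm (h : ClassTwoData M p S) {v x : X} (hv : v ∈ M)
    (hvo : (orderOf v).Coprime p) (hx : x ∈ (S : Subgroup X)) : x * v = v * x :=
  commute_of_isNilpotent h.cf.nil (h.le hx) hv (isPGroup_zpowers_of_mem hx) hvo

theorem pow_prime_pow_mem (h : ClassTwoData M p S) {u : X} (hu : u ∈ M) {k : ℕ}
    (huk : u ^ p ^ k = 1) : u ∈ (S : Subgroup X) := by
  apply mem_of_pElement h hu
  rw [IsPGroup.iff_card, Nat.card_zpowers]
  have hdvd : orderOf u ∣ p ^ k := orderOf_dvd_of_pow_eq_one huk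
  obtain ⟨j, -, hj⟩ := (Nat.dvd_prime_pow hp.out).mp hdvd
  exact ⟨j, hj⟩

/-- `M` normalizes every subgroup of `S` that `S` normalizes -/
theorem le_normalizer_of (h : ClassTwoData M p S) {A : Subgroup X} (hAS : A ≤ (S : Subgroup X))
    (hSA : (S : Subgroup X) ≤ Subgroup.normalizer (A : Set X)) :
    M ≤ Subgroup.normalizer (A : Set X) := by
  intro m hm
  obtain ⟨u, v, hmuv, hu, hv, ⟨k, huk⟩, hvo⟩ := exists_ppart_decomp' p m
  have huM : u ∈ M := (Subgroup.zpowers_le.mpr hm) hu
  have hvM : v ∈ M := (Subgroup.zpowers_le.mpr hm) hv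
  have huS : u ∈ (S : Subgroup X) := pow_prime_pow_mem h huM huk
  have hvN : v ∈ Subgroup.normalizer (A : Set X) := by
    apply Subgroup.centralizer_le_normalizer
    rw [Subgroup.mem_centralizer_iff]
    intro a ha
    exact pprime_comm h hvM hvo (hAS ha)
  rw [hmuv]
  exact Subgroup.mul_mem _ (hSA huS) hvN

/-- a nontrivial element of `Z(S)` lies in no other Sylow subgroup -/
theorem key (h : ClassTwoData M p S) {z : X} (hz : z ∈ zc S) (hz1 : z ≠ 1) {g : X}
    (hzg : z ∈ cj g (S : Subgroup X)) : g ∈ M := by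
  set P : Subgroup X := (S : Subgroup X) with hP
  set Z : Subgroup X := zc S with hZ
  set Pg : Subgroup X := cj g P with hPg
  set Zg : Subgroup X := cj g Z with hZg
  have hZP : Z ≤ P := zc_le S
  have hCz := centralizer_eq h hz hz1
  -- `Z^g ≤ P`
  have hZgP : Zg ≤ P := by
    apply h.maxi
    · intro a ha
      rw [← hCz, Subgroup.mem_centralizer_iff]
      intro w hw
      rw [Set.mem_singleton_iff] at hw
      rw [hw]
      have ha' : g⁻¹ * a * g ∈ Z := (mem_cj g a Z).mp ha
      have hz' : g⁻¹ * z * g ∈ P := (mem_cj g z P).mp hzg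
      have hc := zc_comm hz' ha'
      have e1 : z * a = g * ((g⁻¹ * z * g) * (g⁻¹ * a * g)) * g⁻¹ := by group
      have e2 : a * z = g * ((g⁻¹ * a * g) * (g⁻¹ * z * g)) * g⁻¹ := by group
      rw [e1, e2, hc]
    · exact isPGroup_cj g (S.isPGroup'.to_le hZP)
  -- `Z ≤ P^g`
  have hz'Zg : g * z * g⁻¹ ∈ Zg := by
    rw [hZg, mem_cj]
    have : g⁻¹ * (g * z * g⁻¹) * g = z := by group
    rw [this]; exact hz
  have hZPg : Z ≤ Pg := by
    intro a ha
    rw [hPg, mem_cj]
    have haP : a ∈ P := hZP ha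
    have hcomm : (g * z * g⁻¹) * a = a * (g * z * g⁻¹) := zc_comm (hZgP hz'Zg) ha
    have hmem : g⁻¹ * a * g ∈ Subgroup.centralizer ({z} : Set X) := by
      rw [Subgroup.mem_centralizer_iff]
      intro w hw
      rw [Set.mem_singleton_iff] at hw
      rw [hw]
      have e1 : z * (g⁻¹ * a * g) = g⁻¹ * ((g * z * g⁻¹) * a) * g := by group
      have e2 : g⁻¹ * a * g * z = g⁻¹ * (a * (g * z * g⁻¹)) * g := by group
      rw [e1, e2, hcomm]
    rw [hCz] at hmem
    apply mem_of_pElement h hmem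
    have hp1 : IsPGroup p (cj g⁻¹ (Subgroup.zpowers a)) :=
      isPGroup_cj g⁻¹ (isPGroup_zpowers_of_mem haP)
    apply hp1.to_le
    rw [Subgroup.zpowers_le, mem_cj, inv_inv]
    have : g * (g⁻¹ * a * g) * g⁻¹ = a := by group
    rw [this]; exact Subgroup.mem_zpowers a
  -- the subgroup `A = Z Z^g`
  set A : Subgroup X := Z ⊔ Zg with hA
  have hcomm_mem : ∀ x ∈ P, ∀ a ∈ P, ⁅x, a⁆ ∈ Z := by
    intro x hx a ha
    have h1 : ⁅x, a⁆ ∈ P := by
      rw [commutatorElement_def]
      exact P.mul_mem (P.mul_mem (P.mul_mem hx ha) (P.inv_mem hx)) (P.inv_mem ha)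
    have h2 : ⁅x, a⁆ ∈ Subgroup.centralizer (P : Set X) := by
      rw [Subgroup.mem_centralizer_iff]
      intro c hc
      exact (h.cl x (h.le hx) a (h.le ha) c (h.le hc)).symm
    exact ⟨h1, h2⟩
  have hPA : P ≤ Subgroup.normalizer (A : Set X) :=
    normalizes_of_class_two P Z Zg (fun x hx z' hz' => zc_comm hx hz') hcomm_mem hZgP
  have hPgA : Pg ≤ Subgroup.normalizer (A : Set X) := by
    have h1 := normalizes_of_class_two Pg Zg Z ?_ ?_ hZPg
    · rwa [sup_comm] at h1
    · intro x hx z' hz'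
      have hx' : g⁻¹ * x * g ∈ P := (mem_cj g x P).mp hx
      have hz'' : g⁻¹ * z' * g ∈ Z := (mem_cj g z' Z).mp hz'
      have hc := zc_comm hx' hz''
      have e1 : x * z' = g * ((g⁻¹ * x * g) * (g⁻¹ * z' * g)) * g⁻¹ := by group
      have e2 : z' * x = g * ((g⁻¹ * z' * g) * (g⁻¹ * x * g)) * g⁻¹ := by group
      rw [e1, e2, hc]
    · intro x hx a ha
      have hx' : g⁻¹ * x * g ∈ P := (mem_cj g x P).mp hx
      have ha' : g⁻¹ * a * g ∈ P := (mem_cj g a P).mp ha
      have hc := hcomm_mem _ hx' _ ha'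
      rw [hZg, mem_cj]
      have e : g⁻¹ * ⁅x, a⁆ * g = ⁅g⁻¹ * x * g, g⁻¹ * a * g⁆ := by
        rw [commutatorElement_def, commutatorElement_def]; group
      rw [e]; exact hc
  have hAP : A ≤ P := sup_le hZP hZgP
  have hA1 : A ≠ ⊥ := by
    intro h0
    apply zc_ne_bot h
    rw [eq_bot_iff, ← h0]
    exact le_sup_left
  have hMA : M ≤ Subgroup.normalizer (A : Set X) := le_normalizer_of h hAP hPA
  have hNA := normalizer_eq' h.cf (hAP.trans h.le) hA1 hMA
  rw [hNA] at hPgA
  have hPgP : Pg ≤ P := h.maxi Pg hPgA (isPGroup_cj g S.isPGroup')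
  have hgN : g ∈ Subgroup.normalizer (P : Set X) := by
    rw [mem_normalizer_iff_cj]
    exact cj_eq_of_le hPgP
  rw [normalizer_eq' h.cf h.le h.ne h.norm] at hgN
  exact hgN

end Cfsg.Agent.Lib.Helper7.NilpMax
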