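import Mathlib
import Cfsg.Agent.Lib.Helper7.NilpMax3

set_option autoImplicit false

/-!
Frobenius' criterion in the class two situation, and the solvability theorem.
-/

namespace Cfsg.Agent.Lib.Helper7.NilpMax

open Cfsg.Agent.Lib.Lead Cfsg.Agent.Lib.Helper4 Cfsg.Agent.Lib.Helper7
open scoped Pointwise commutatorElement

universe u

variable {X : Type u} [Group X] [Finite X]

variable {M : Subgroup X} {p : ℕ} [hp : Fact p.Prime] {S : Sylow p X}

/-- the normalizer of a set normalizes its centralizer -/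
theorem conj_mem_centralizer {Q : Subgroup X} {u c : X}
    (hu : u ∈ Subgroup.normalizer (Q : Set X)) (hc : c ∈ Subgroup.centralizer (Q : Set X)) :
    u * c * u⁻¹ ∈ Subgroup.centralizer (Q : Set X) := by
  rw [Subgroup.mem_centralizer_iff] at hc ⊢
  intro q hq
  have hq' : u⁻¹ * q * u ∈ Q := by
    have := (Subgroup.mem_normalizer_iff.mp (Subgroup.inv_mem _ hu) q).mp hq
    simpa using this
  have h1 := hc _ hq'
  have e1 : q * (u * c * u⁻¹) = u * ((u⁻¹ * q * u) * c) * u⁻¹ := by group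
  have e2 : u * c * u⁻¹ * q = u * (c * (u⁻¹ * q * u)) * u⁻¹ := by group
  rw [e1, e2, h1]

theorem plocalCentral (h : ClassTwoData M p S) : PLocalCentral p X := by
  apply plocalCentral_of_sylow S
  intro Q hQS g hg hgo
  set P : Subgroup X := (S : Subgroup X) with hP
  set Z : Subgroup X := zc S with hZ
  set C : Subgroup X := Subgroup.centralizer (Q : Set X) with hC
  have hZP : Z ≤ P := zc_le S
  have hZC : Z ≤ C := by
    intro z hz
    exact Subgroup.centralizer_le (show (Q : Set X) ⊆ (P : Set X) from hQS) hz.2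
  obtain ⟨z, hzZ, hz1⟩ : ∃ z ∈ Z, z ≠ 1 := by
    obtain ⟨z, hz⟩ := (Subgroup.ne_bot_iff_exists_ne_one).mp (zc_ne_bot h)
    exact ⟨(z : X), z.2, fun h0 => hz (Subtype.ext h0)⟩
  obtain ⟨R, hZR, hR⟩ := exists_sylIn_ge (p := p) hZC (S.isPGroup'.to_le hZP)
  -- `R ≤ P`
  have hRP : R ≤ P := by
    obtain ⟨S', hS'⟩ := hR.2.1.exists_le_sylow
    obtain ⟨k, hk⟩ := MulAction.exists_smul_eq X S S'
    have hS'eq : (S' : Subgroup X) = cj k P := by
      rw [← hk, Sylow.coe_subgroup_smul]; rfl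
    have hzk : z ∈ cj k P := by rw [← hS'eq]; exact hS' (hZR hzZ)
    have hkM : k ∈ M := key h hzZ hz1 hzk
    have hkP : cj k P = P := mem_normalizer_iff_cj.mp (h.norm hkM)
    rw [← hkP, ← hS'eq]; exact hS'
  -- Frattini argument
  have hgC : cj g C = C := by
    apply cj_eq_of_le
    rintro _ ⟨c, hc, rfl⟩
    exact conj_mem_centralizer hg hc
  have hR' : SylIn p C (cj g R) := by
    refine ⟨?_, isPGroup_cj g hR.2.1, ?_⟩
    · rw [← hgC]; exact cj_mono g hR.1
    · have := relIndex_cj g R C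
      rw [hgC] at this
      rw [this]; exact hR.2.2
  obtain ⟨y, hyC, hy⟩ := hR'.conj hR
  rw [← cj_mul] at hy
  set n := y * g with hn
  have hzn : z ∈ cj n P := by
    have h1 : z ∈ cj n R := by rw [hy]; exact hZR hzZ
    exact cj_mono n hRP h1
  have hnM : n ∈ M := key h hzZ hz1 hzn
  have hCN : C ≤ Subgroup.normalizer (Q : Set X) := Subgroup.centralizer_le_normalizer _
  have hnN : n ∈ Subgroup.normalizer (Q : Set X) := Subgroup.mul_mem _ (hCN hyC) hg
  obtain ⟨u, v, hnuv, hu, hv, ⟨k, huk⟩, hvo⟩ := exists_ppart_decomp' p n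
  have huM : u ∈ M := (Subgroup.zpowers_le.mpr hnM) hu
  have hvM : v ∈ M := (Subgroup.zpowers_le.mpr hnM) hv
  have huN : u ∈ Subgroup.normalizer (Q : Set X) := (Subgroup.zpowers_le.mpr hnN) hu
  have hvC : v ∈ C := by
    rw [hC, Subgroup.mem_centralizer_iff]
    intro q hq
    exact pprime_comm h hvM hvo (hQS hq)
  -- `g = u c'` with `c' ∈ C`
  have hc' : u⁻¹ * g ∈ C := by
    have e : u⁻¹ * g = (u⁻¹ * y⁻¹ * u⁻¹⁻¹) * v := by
      have : g = y⁻¹ * (u * v) := by rw [← hnuv, hn]; group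
      rw [this]; group
    rw [e]
    exact C.mul_mem (conj_mem_centralizer (Subgroup.inv_mem _ huN) (C.inv_mem hyC)) hvC
  have hpow : ∀ m : ℕ, (u ^ m)⁻¹ * g ^ m ∈ C := by
    intro m
    induction m with
    | zero => simp
    | succ m ih =>
      have e : (u ^ (m + 1))⁻¹ * g ^ (m + 1) =
          (u⁻¹ * ((u ^ m)⁻¹ * g ^ m) * u⁻¹⁻¹) * (u⁻¹ * g) := by
        rw [pow_succ, pow_succ]; group
      rw [e]
      exact C.mul_mem (conj_mem_centralizer (Subgroup.inv_mem _ huN) ih) hc'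
  have hgk : g ^ p ^ k ∈ C := by
    have := hpow (p ^ k)
    rwa [huk, inv_one, one_mul] at this
  have hcop : (p ^ k).Coprime (orderOf g) := (Nat.Coprime.pow_left k hgo.symm)
  obtain ⟨m, hm⟩ := exists_pow_eq_self_of_coprime hcop
  rw [← hm]
  exact C.pow_mem hgk m

/-- normal `p`-complements in the class two situation -/
theorem pnilp_class_two (hM : CoreFreeMax M)
    (hcl : ∀ a ∈ M, ∀ b ∈ M, ∀ c ∈ M, ⁅a, b⁆ * c = c * ⁅a, b⁆)
    (p : ℕ) [hp : Fact p.Prime] (hpM : p ∣ Nat.card ↥M) : GT.PNilp p X := by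
  obtain ⟨S, hSM, hS1, hMS, hSmax⟩ := exists_sylow' hM p hpM
  have h : ClassTwoData M p S := ⟨hM, hcl, hSM, hS1, hMS, hSmax⟩
  exact GT.pnilp_iff.mpr (hasNormalPComplement_iff_plocalCentral.mpr (plocalCentral h))

/-- the core-free case of the Deskins--Janko--Thompson theorem -/
theorem solvable_of_class_two (hM : CoreFreeMax M)
    (hcl : ∀ a ∈ M, ∀ b ∈ M, ∀ c ∈ M, ⁅a, b⁆ * c = c * ⁅a, b⁆) : Group.IsSolvable X :=
  solvable_of_pnilp hM (fun p hp hpM => by
    haveI : Fact p.Prime := ⟨hp⟩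
    exact pnilp_class_two hM hcl p hpM)

end Cfsg.Agent.Lib.Helper7.NilpMax
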