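import Mathlib
import Cfsg.Agent.Lib.Helper7.CM2
import Cfsg.Agent.S4039
import Cfsg.Agent.S4040

set_option autoImplicit false

namespace Cfsg.Agent.Lib.Helper7

namespace CM

open scoped commutatorElement Pointwise

variable {G : Type*} [Group G]

/-- a nontrivial finite solvable group has a nontrivial normal subgroup of prime power order -/
theorem exists_normal_pgroup_of_solvable {Q : Type*} [Group Q] [Finite Q] [Nontrivial Q]
    (hs : IsSolvable Q) :
    ∃ (r : ℕ) (L : Subgroup Q), r.Prime ∧ L.Normal ∧ IsPGroup r L ∧ L ≠ ⊥ := by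
  classical
  have hsolv : ∃ n, derivedSeries Q n = ⊥ := hs.solvable
  set n := Nat.find hsolv with hn
  have hnbot : derivedSeries Q n = ⊥ := Nat.find_spec hsolv
  have hn0 : n ≠ 0 := by
    intro h0
    rw [h0, derivedSeries_zero] at hnbot
    exact top_ne_bot hnbot
  obtain ⟨k, hk⟩ : ∃ k, n = k + 1 := ⟨n - 1, by omega⟩
  set D := derivedSeries Q k with hD
  have hDbot : D ≠ ⊥ := by
    intro h
    have := Nat.find_min' hsolv h
    omega
  have hDD : ⁅D, D⁆ = ⊥ := by
    rw [hk, derivedSeries_succ] at hnbot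
    exact hnbot
  have hDab : ∀ a ∈ D, ∀ b ∈ D, a * b = b * a := by
    intro a ha b hb
    have h1 : ⁅a, b⁆ ∈ ⁅D, D⁆ := Subgroup.commutator_mem_commutator ha hb
    rw [hDD, Subgroup.mem_bot] at h1
    exact commutatorElement_eq_one_iff_mul_comm.mp h1
  haveI hDn : D.Normal := derivedSeries_normal Q k
  have hcard : Nat.card D ≠ 1 := fun h0 => hDbot (Subgroup.card_eq_one.mp h0)
  obtain ⟨r, hr, hrd⟩ := Nat.exists_prime_and_dvd hcard
  haveI : Fact r.Prime := ⟨hr⟩
  obtain ⟨u, hu⟩ := exists_prime_orderOf_dvd_card' r hrd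
  let N : Subgroup Q :=
    { carrier := {k | k ∈ D ∧ k ^ r = 1}
      mul_mem' := by
        rintro a b ⟨ha, ha'⟩ ⟨hb, hb'⟩
        refine ⟨D.mul_mem ha hb, ?_⟩
        rw [(show Commute a b from hDab a ha b hb).mul_pow, ha', hb', one_mul]
      one_mem' := ⟨D.one_mem, one_pow _⟩
      inv_mem' := by
        rintro a ⟨ha, ha'⟩
        exact ⟨D.inv_mem ha, by rw [inv_pow, ha', inv_one]⟩ }
  refine ⟨r, N, hr, ?_, ?_, ?_⟩
  · refine ⟨?_⟩
    rintro m ⟨hm, hm'⟩ g
    refine ⟨hDn.conj_mem m hm g, ?_⟩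
    rw [conj_pow, hm', mul_one, mul_inv_cancel]
  · rintro ⟨m, hm⟩
    refine ⟨1, ?_⟩
    apply Subtype.ext
    rw [pow_one, Subgroup.coe_pow]
    exact hm.2
  · intro h0
    have hu1 : (u : Q) ∈ N := by
      refine ⟨u.2, ?_⟩
      rw [← Subgroup.coe_pow, ← hu, pow_orderOf_eq_one]; rfl
    rw [h0, Subgroup.mem_bot] at hu1
    have : u = 1 := Subtype.ext hu1
    rw [this, orderOf_one] at hu
    exact hr.one_lt.ne hu

theorem mem_center_of_pow_pow {g : G} {p q : ℕ} (hpq : Nat.Coprime p q)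
    (hp : g ^ p ∈ Subgroup.center G) (hq : g ^ q ∈ Subgroup.center G) :
    g ∈ Subgroup.center G := by
  rw [← QuotientGroup.eq_one_iff] at hp hq ⊢
  rw [QuotientGroup.mk_pow] at hp hq
  have h1 := orderOf_dvd_of_pow_eq_one hp
  have h2 := orderOf_dvd_of_pow_eq_one hq
  have h3 : orderOf ((g : G) : G ⧸ Subgroup.center G) ∣ 1 := by
    rw [← hpq]; exact Nat.dvd_gcd h1 h2
  exact orderOf_eq_one_iff.mp (Nat.dvd_one.mp h3)

/-- a nonabelian centralizer of exponent `p` cannot coexist with a normal centralizer of a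
`q`-element -/
theorem beta1 [Finite G] (h : IsCM G) {x₀ w : G} (hx₀ : x₀ ∉ Subgroup.center G)
    (hw : w ∉ Subgroup.center G) {p q : ℕ} (hp : p.Prime) (hq : q.Prime) (hpq : p ≠ q)
    (hMp : ∀ g ∈ Cen x₀, g ^ p ∈ Subgroup.center G)
    (hna : ∃ u ∈ Cen x₀, ∃ v ∈ Cen x₀, u * v ≠ v * u)
    (hwq : w ^ q ∈ Subgroup.center G) (hWn : (Cen w).Normal) : False := by
  have hcop : Nat.Coprime p q := (Nat.coprime_primes hp hq).mpr hpq
  have hx₀W : x₀ ∉ Cen w := by
    intro h0
    have h1 : w ∈ Cen x₀ := mem_Cen.mpr (mem_Cen.mp h0).symm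
    exact hw (mem_center_of_pow_pow hcop (hMp w h1) hwq)
  have hsup : Subgroup.zpowers x₀ ⊔ Cen w = ⊤ := by
    apply (h w hw).2
    apply lt_of_le_of_ne le_sup_right
    intro h0
    apply hx₀W
    exact (le_sup_left.trans h0.ge) (Subgroup.mem_zpowers x₀)
  have hdec : ∀ g : G, ∃ t ∈ Subgroup.zpowers x₀, ∃ n ∈ Cen w, g = t * n := by
    intro g
    have hg : g ∈ Subgroup.zpowers x₀ ⊔ Cen w := by rw [hsup]; trivial
    have hset : ((Subgroup.zpowers x₀ ⊔ Cen w : Subgroup G) : Set G) =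
        (Subgroup.zpowers x₀ : Set G) * (Cen w : Set G) := Subgroup.mul_normal _ _
    have hg' : g ∈ (Subgroup.zpowers x₀ : Set G) * (Cen w : Set G) := by rw [← hset]; exact hg
    obtain ⟨t, ht, n, hn, rfl⟩ := Set.mem_mul.mp hg'
    exact ⟨t, ht, n, hn, rfl⟩
  have hzp : ∀ t ∈ Subgroup.zpowers x₀, t ∈ Cen x₀ ∧ ∀ m ∈ Cen x₀, m * t = t * m := by
    intro t ht
    obtain ⟨i, rfl⟩ := Subgroup.mem_zpowers_iff.mp ht
    refine ⟨Subgroup.zpow_mem _ (self_mem_Cen x₀) i, ?_⟩
    intro m hm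
    exact ((show Commute m x₀ from mem_Cen.mp hm).zpow_right i).eq
  obtain ⟨u, hu, v, hv, huv⟩ := hna
  obtain ⟨t₁, ht₁, u', hu'W, rfl⟩ := hdec u
  obtain ⟨t₂, ht₂, v', hv'W, rfl⟩ := hdec v
  obtain ⟨ht₁M, ht₁c⟩ := hzp t₁ ht₁
  obtain ⟨ht₂M, ht₂c⟩ := hzp t₂ ht₂
  have hu'M : u' ∈ Cen x₀ := by
    have : u' = t₁⁻¹ * (t₁ * u') := by group
    rw [this]
    exact Subgroup.mul_mem _ (Subgroup.inv_mem _ ht₁M) hu
  have hv'M : v' ∈ Cen x₀ := by
    have : v' = t₂⁻¹ * (t₂ * v') := by group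
    rw [this]
    exact Subgroup.mul_mem _ (Subgroup.inv_mem _ ht₂M) hv
  have huv' : u' * v' ≠ v' * u' := by
    intro h0
    apply huv
    calc t₁ * u' * (t₂ * v') = t₁ * (u' * t₂) * v' := by group
      _ = t₁ * (t₂ * u') * v' := by rw [ht₂c u' hu'M]
      _ = t₁ * t₂ * (u' * v') := by group
      _ = t₁ * t₂ * (v' * u') := by rw [h0]
      _ = (t₂ * t₁) * (v' * u') := by rw [ht₁c t₂ ht₂M]
      _ = t₂ * (t₁ * v') * u' := by group
      _ = t₂ * (v' * t₁) * u' := by rw [ht₁c v' hv'M]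
      _ = t₂ * v' * (t₁ * u') := by group
  obtain ⟨r, hr, hWr⟩ := exists_prime_exponent h hw ⟨u', hu'W, v', hv'W, huv'⟩
  have hrq : r = q := by
    by_contra hne
    have hcop' : Nat.Coprime r q := (Nat.coprime_primes hr hq).mpr hne
    exact hw (mem_center_of_pow_pow hcop' (hWr w (self_mem_Cen w)) hwq)
  rw [hrq] at hWr
  have hu'Z : u' ∈ Subgroup.center G :=
    mem_center_of_pow_pow hcop (hMp u' hu'M) (hWr u' hu'W)
  exact huv' ((Subgroup.mem_center_iff.mp hu'Z v').symm)

/-- the case where every non-normal centralizer is nonabelian is impossible -/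
theorem case_nonabelian_false [Finite G] (h : IsCM G) {x₀ : G} (hx₀ : x₀ ∉ Subgroup.center G)
    (hnn : ¬ (Cen x₀).Normal)
    (hall : ∀ y : G, y ∉ Subgroup.center G → ¬ (Cen y).Normal →
      ∃ u ∈ Cen y, ∃ v ∈ Cen y, u * v ≠ v * u) : False := by
  have hna := hall x₀ hx₀ hnn
  obtain ⟨p, hp, hMp⟩ := exists_prime_exponent h hx₀ hna
  haveI : Fact p.Prime := ⟨hp⟩
  set Z := Subgroup.center G with hZ
  set π := QuotientGroup.mk' Z with hπ
  have hπsurj : Function.Surjective π := QuotientGroup.mk'_surjective Z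
  have hπ1 : ∀ g : G, π g = 1 ↔ g ∈ Z := fun g => QuotientGroup.eq_one_iff g
  -- the quotient is not a p-group
  have hnotp : ¬ IsPGroup p (G ⧸ Z) := by
    intro hQ
    have h1 : Group.IsNilpotent (G ⧸ Z) := hQ.isNilpotent
    haveI h2 : Group.IsNilpotent G := Group.of_quotient_center_nilpotent h1
    exact hnn (Subgroup.NormalizerCondition.normal_of_coatom _ normalizerCondition_of_isNilpotent
      (h x₀ hx₀))
  obtain ⟨q, hq, hqp, hqd⟩ : ∃ q : ℕ, q.Prime ∧ q ≠ p ∧ q ∣ Nat.card (G ⧸ Z) := by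
    by_contra h0
    push_neg at h0
    apply hnotp
    have h1 : Nat.card (G ⧸ Z) = p ^ (Nat.card (G ⧸ Z)).primeFactorsList.length := by
      apply Nat.eq_prime_pow_of_unique_prime_dvd Nat.card_pos.ne'
      intro d hd hdd
      by_contra hne
      exact h0 d hd hne hdd
    exact IsPGroup.of_card h1
  haveI : Fact q.Prime := ⟨hq⟩
  obtain ⟨wb, hwb⟩ := exists_prime_orderOf_dvd_card' q hqd
  obtain ⟨w, rfl⟩ := hπsurj wb
  have hw : w ∉ Z := by
    intro h0
    rw [(hπ1 w).mpr h0, orderOf_one] at hwb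
    exact hq.one_lt.ne hwb
  have hwq : w ^ q ∈ Z := by
    rw [← hπ1, map_pow, ← hwb, pow_orderOf_eq_one]
  by_cases hWn : (Cen w).Normal
  · exact beta1 h hx₀ hw hp hq (Ne.symm hqp) hMp hna hwq hWn
  · have hnaW := hall w hw hWn
    obtain ⟨r, hr, hWr⟩ := exists_prime_exponent h hw hnaW
    have hrq : r = q := by
      by_contra hne
      have hcop' : Nat.Coprime r q := (Nat.coprime_primes hr hq).mpr hne
      exact hw (mem_center_of_pow_pow hcop' (hWr w (self_mem_Cen w)) hwq)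
    rw [hrq] at hWr
    have hZM : Z ≤ Cen x₀ := center_le_Cen x₀
    have hZW : Z ≤ Cen w := center_le_Cen w
    have hMco : IsCoatom ((Cen x₀).map π) := isCoatom_map_mk Z hZM (h x₀ hx₀)
    have hWco : IsCoatom ((Cen w).map π) := isCoatom_map_mk Z hZW (h w hw)
    have hMpg : IsPGroup p ↥((Cen x₀).map π) := by
      rintro ⟨mb, hmb⟩
      obtain ⟨m, hm, rfl⟩ := hmb
      refine ⟨1, ?_⟩
      apply Subtype.ext
      rw [pow_one, Subgroup.coe_pow]
      show π m ^ p = 1
      rw [← map_pow, hπ1]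
      exact hMp m hm
    have hWpg : IsPGroup q ↥((Cen w).map π) := by
      rintro ⟨mb, hmb⟩
      obtain ⟨m, hm, rfl⟩ := hmb
      refine ⟨1, ?_⟩
      apply Subtype.ext
      rw [pow_one, Subgroup.coe_pow]
      show π m ^ q = 1
      rw [← map_pow, hπ1]
      exact hWr m hm
    have hM1 : (Cen x₀).map π ≠ ⊥ := by
      intro h0
      have h1 : π x₀ ∈ (Cen x₀).map π := Subgroup.mem_map_of_mem π (self_mem_Cen x₀)
      rw [h0, Subgroup.mem_bot, hπ1] at h1
      exact hx₀ h1
    have hW1 : (Cen w).map π ≠ ⊥ := by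
      intro h0
      have h1 : π w ∈ (Cen w).map π := Subgroup.mem_map_of_mem π (self_mem_Cen w)
      rw [h0, Subgroup.mem_bot, hπ1] at h1
      exact hw h1
    -- solvability of the quotient
    have hsolv : IsSolvable (G ⧸ Z) := by
      have hnil : Group.IsNilpotent ↥((Cen x₀).map π) := hMpg.isNilpotent
      by_cases hp2 : p = 2
      · -- exponent two, hence abelian
        have hMab : ∀ a b : ↥((Cen x₀).map π), a * b = b * a := by
          have hsq : ∀ a : ↥((Cen x₀).map π), a * a = 1 := by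
            rintro ⟨mb, hmb⟩
            obtain ⟨m, hm, rfl⟩ := hmb
            apply Subtype.ext
            show π m * π m = 1
            rw [← map_mul, hπ1, ← sq, ← hp2]
            exact hMp m hm
          intro a b
          have h1 := hsq (a * b)
          have h2 : a * b = (a * b)⁻¹ := eq_inv_of_mul_eq_one_left h1
          have h3 : a⁻¹ = a := (eq_inv_of_mul_eq_one_left (hsq a)).symm
          have h4 : b⁻¹ = b := (eq_inv_of_mul_eq_one_left (hsq b)).symm
          rw [h2, mul_inv_rev, h3, h4]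
        have hcl : Group.nilpotencyClass ↥((Cen x₀).map π) ≤ 2 := by
          rw [← Subgroup.upperCentralSeries_eq_top_iff_nilpotencyClass_le]
          rw [eq_top_iff]
          intro a _
          have h1 : a ∈ Subgroup.upperCentralSeries ↥((Cen x₀).map π) 1 := by
            rw [Subgroup.upperCentralSeries_one, Subgroup.mem_center_iff]
            intro b
            exact hMab b a
          exact Subgroup.upperCentralSeries_mono _ (by norm_num) h1
        exact Cfsg.Agent.S4039.result _ hMco hnil hcl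
      · have hodd : Odd (Nat.card ↥((Cen x₀).map π)) := by
          obtain ⟨k, hk⟩ := IsPGroup.iff_card.mp hMpg
          rw [hk]
          exact (hp.odd_of_ne_two hp2).pow
        exact Cfsg.Agent.S4040.result _ hMco hnil hodd
    haveI : Nontrivial (G ⧸ Z) := by
      refine ⟨⟨π x₀, 1, ?_⟩⟩
      intro h0
      exact hx₀ ((hπ1 x₀).mp h0)
    obtain ⟨r', L, hr', hLn, hLp, hL1⟩ := exists_normal_pgroup_of_solvable hsolv
    by_cases hr'p : p = r'
    · -- then r' ≠ q
      have hqr : q ≠ r' := by rw [← hr'p]; exact hqp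
      have h1 : (Cen x₀).map π = L :=
        coatom_eq_of_pgroups hq hp hr' hqp hqr hLp hL1 hWco hWpg hW1 hMco hMpg
      apply hnn
      rw [← comap_map_mk Z hZM, h1]
      exact hLn.comap _
    · have h1 : (Cen w).map π = L :=
        coatom_eq_of_pgroups hp hq hr' (Ne.symm hqp) hr'p hLp hL1 hMco hMpg hM1 hWco hWpg
      apply hWn
      rw [← comap_map_mk Z hZW, h1]
      exact hLn.comap _

end CM

end Cfsg.Agent.Lib.Helper7
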