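import Mathlib
import Cfsg.Agent.Lib.Helper7.CM5

set_option autoImplicit false

namespace Cfsg.Agent.Lib.Helper7

namespace CM

open scoped commutatorElement Pointwise
open Cfsg.Agent.Lib.Lead

variable {G : Type*} [Group G]

/-- a subgroup of prime index is maximal -/
theorem isCoatom_of_index_prime (H : Subgroup G) (h : H.index.Prime) : IsCoatom H := by
  refine ⟨fun h0 => ?_, fun K hK => ?_⟩
  · rw [h0, Subgroup.index_top] at h
    exact Nat.not_prime_one h
  · have h1 := Subgroup.relIndex_mul_index hK.le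
    rcases (Nat.dvd_prime h).mp (Dvd.intro_left _ h1) with h2 | h2
    · exact Subgroup.index_eq_one.mp h2
    · rw [h2] at h1
      have h3 : H.relIndex K = 1 := by
        have hpos : 0 < H.index := h.pos
        exact Nat.eq_of_mul_eq_mul_right hpos (by rw [h1, one_mul])
      exact absurd (Subgroup.relIndex_eq_one.mp h3) (not_le_of_gt hK)

/-- the abelian non-normal case, structural form: `G ⧸ Z(G)` is a Frobenius group with complement
the image of `C_G(x₀)` and a kernel that is a maximal subgroup. -/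
theorem case_abelian_struct [Finite G] (h : IsCM G) {x₀ : G} (hx₀ : x₀ ∉ Subgroup.center G)
    (hnn : ¬ (Cen x₀).Normal) (hab : ∀ u ∈ Cen x₀, ∀ v ∈ Cen x₀, u * v = v * u) :
    ∃ Kb : Subgroup (G ⧸ Subgroup.center G),
      FrobData ((Cen x₀).map (QuotientGroup.mk' (Subgroup.center G))) Kb ∧ IsCoatom Kb := by
  set Z := Subgroup.center G with hZ
  set π := QuotientGroup.mk' Z with hπ
  have hπsurj : Function.Surjective π := QuotientGroup.mk'_surjective Z
  have hπ1 : ∀ g : G, π g = 1 ↔ g ∈ Z := fun g => QuotientGroup.eq_one_iff g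
  have hZM : Z ≤ Cen x₀ := center_le_Cen x₀
  have hmemM : ∀ g : G, π g ∈ (Cen x₀).map π ↔ g ∈ Cen x₀ := mem_map_mk_iff Z hZM
  have hnorm : Subgroup.normalizer (Cen x₀ : Set G) = Cen x₀ := by
    rcases eq_or_lt_of_le (Subgroup.le_normalizer (H := Cen x₀)) with h1 | h1
    · exact h1.symm
    · exact absurd (Subgroup.normalizer_eq_top_iff.mp ((h x₀ hx₀).2 _ h1)) hnn
  have hfrob : Cfsg.IsFrobeniusComplement ((Cen x₀).map π) := by
    refine ⟨?_, (isCoatom_map_mk Z hZM (h x₀ hx₀)).1, ?_⟩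
    · intro h0
      have h1 : π x₀ ∈ (Cen x₀).map π := (hmemM x₀).mpr (self_mem_Cen x₀)
      rw [h0, Subgroup.mem_bot, hπ1] at h1
      exact hx₀ h1
    · intro gbar hgbar
      obtain ⟨g, rfl⟩ := hπsurj gbar
      have hg : g ∉ Cen x₀ := fun h0 => hgbar ((hmemM g).mpr h0)
      rw [eq_bot_iff]
      rintro ybar ⟨hy1, hy2⟩
      obtain ⟨y, rfl⟩ := hπsurj ybar
      have hy1' : y ∈ Cen x₀ := (hmemM y).mp hy1
      have hy2' : g⁻¹ * y * g ∈ Cen x₀ := by
        have h0 := mem_conj_smul_iff.mp hy2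
        rw [← map_inv, ← map_mul, ← map_mul] at h0
        exact (hmemM _).mp h0
      rw [Subgroup.mem_bot, hπ1]
      by_contra hyZ
      have hCy : Cen x₀ = Cen y := by
        apply Cen_eq_of_le h hx₀ hyZ
        intro m hm
        rw [mem_Cen]
        exact hab m hm y hy1'
      have hy'Z : g⁻¹ * y * g ∉ Z := by
        intro h0
        apply hyZ
        have h1 : y = g * (g⁻¹ * y * g) * g⁻¹ := by group
        rw [h1]
        exact (inferInstance : Z.Normal).conj_mem _ h0 g
      have hCy' : Cen x₀ = Cen (g⁻¹ * y * g) := by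
        apply Cen_eq_of_le h hx₀ hy'Z
        intro m hm
        rw [mem_Cen]
        exact hab m hm _ hy2'
      apply hg
      rw [← hnorm, Subgroup.mem_normalizer_iff]
      intro m
      constructor
      · intro hm
        rw [hCy'] at hm
        have hm' := mem_Cen.mp hm
        show g * m * g⁻¹ ∈ Cen x₀
        rw [hCy, mem_Cen]
        calc g * m * g⁻¹ * y = g * (m * (g⁻¹ * y * g)) * g⁻¹ := by group
          _ = g * ((g⁻¹ * y * g) * m) * g⁻¹ := by rw [hm']
          _ = y * (g * m * g⁻¹) := by group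
      · intro hm
        have hm1 : g * m * g⁻¹ ∈ Cen y := by rw [← hCy]; exact hm
        have hm' := mem_Cen.mp hm1
        show m ∈ Cen x₀
        rw [hCy', mem_Cen]
        calc m * (g⁻¹ * y * g) = g⁻¹ * (g * m * g⁻¹ * y) * g := by group
          _ = g⁻¹ * (y * (g * m * g⁻¹)) * g := by rw [hm']
          _ = g⁻¹ * y * g * m := by group
  obtain ⟨Kb, hK⟩ := exists_frobData hfrob
  haveI hKbn : Kb.Normal := hK.normal
  set K := Kb.comap π with hKdef
  have hKbtop : Kb ≠ ⊤ := by
    intro h0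
    have h1 := hK.inf_eq_bot
    rw [h0, top_inf_eq] at h1
    exact hfrob.1 h1
  have hKmap : K.map π = Kb := Subgroup.map_comap_eq_self_of_surjective hπsurj Kb
  have hKtop : K ≠ ⊤ := by
    intro h0
    apply hKbtop
    rw [← hKmap, h0, Subgroup.map_top_of_surjective _ hπsurj]
  have hCK : ∀ k ∈ K, k ∉ Z → Cen k = K := by
    intro k hk hkZ
    have hle : Cen k ≤ K := by
      intro g hg
      rw [hKdef, Subgroup.mem_comap]
      have hk1 : π k ≠ 1 := fun h0 => hkZ ((hπ1 k).mp h0)
      have hcomm : π g * π k = π k * π g := by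
        rw [← map_mul, ← map_mul, mem_Cen.mp hg]
      exact FrobData_centralizer_le hK hk hk1 hcomm
    rcases eq_or_lt_of_le hle with h1 | h1
    · exact h1
    · exact absurd ((h k hkZ).2 _ h1) hKtop
  obtain ⟨k₀, hk₀K, hk₀Z⟩ : ∃ k₀ ∈ K, k₀ ∉ Z := by
    obtain ⟨⟨kb, hkb⟩, hne⟩ := (Subgroup.ne_bot_iff_exists_ne_one).mp hK.ne_bot
    have hkb1 : kb ≠ 1 := fun h0 => hne (Subtype.ext h0)
    obtain ⟨k, rfl⟩ := hπsurj kb
    exact ⟨k, hkb, fun h0 => hkb1 ((hπ1 k).mpr h0)⟩
  have hKco : IsCoatom K := by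
    rw [← hCK k₀ hk₀K hk₀Z]; exact h k₀ hk₀Z
  have hZK : Z ≤ K := by
    intro z hz
    rw [hKdef, Subgroup.mem_comap, (hπ1 z).mpr hz]
    exact one_mem _
  have hKbco : IsCoatom Kb := by
    rw [← hKmap]; exact isCoatom_map_mk Z hZK hKco
  exact ⟨Kb, hK, hKbco⟩

end CM

end Cfsg.Agent.Lib.Helper7
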