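import Mathlib

set_option autoImplicit false

/-!
# Möbius weights on a finite poset and the cone lemma

Abstract combinatorial input for Casolo's theorem on subnormalizers of `p`-subgroups.
-/

namespace Cfsg.Agent.Lib.Helper7

/-- On a finite partial order there is a Möbius weight `w = μ(a, ·)`: `w a = 1` and the sum of `w`
over every nontrivial interval `[a, z]` vanishes. -/
theorem exists_moebius_weight {α : Type*} [PartialOrder α] [Finite α] (a : α) :
    ∃ w : α → ℤ, w a = 1 ∧
      ∀ z, a < z → ∀ s : Finset α, (∀ x, x ∈ s ↔ a ≤ x ∧ x ≤ z) → ∑ x ∈ s, w x = 0 := by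
  classical
  letI : Fintype α := Fintype.ofFinite α
  letI : LocallyFiniteOrder α := Fintype.toLocallyFiniteOrder
  refine ⟨fun x => IncidenceAlgebra.mu ℤ a x, IncidenceAlgebra.mu_self _, ?_⟩
  intro z hz s hs
  have h := IncidenceAlgebra.sum_Icc_mu_right (𝕜 := ℤ) a z
  rw [if_neg hz.ne] at h
  rw [← h]
  apply Finset.sum_congr _ (fun _ _ => rfl)
  ext x
  rw [hs, Finset.mem_Icc]

/-- **Cone lemma.** If `D` is a down-closed (above `a`) finite set which is stable under joining
with a fixed element `k > a`, then the Möbius weights sum to zero over `D`. -/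
theorem cone_sum_zero {α : Type*} [SemilatticeSup α] [Finite α] (a : α) (w : α → ℤ)
    (hw : ∀ z, a < z → ∀ s : Finset α, (∀ x, x ∈ s ↔ a ≤ x ∧ x ≤ z) → ∑ x ∈ s, w x = 0)
    (D : Finset α) (hDa : ∀ x ∈ D, a ≤ x)
    (hdown : ∀ x ∈ D, ∀ y, a ≤ y → y ≤ x → y ∈ D)
    (k : α) (hk : a < k) (hsup : ∀ x ∈ D, x ⊔ k ∈ D) :
    ∑ x ∈ D, w x = 0 := by
  classical
  -- closed elements
  set C : Finset α := D.filter (fun z => k ≤ z) with hC
  have hF : ∀ z, z ∈ C → ∑ x ∈ D.filter (fun x => x ⊔ k = z), w x = 0 := by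
    intro z
    induction z using WellFoundedLT.induction with
    | ind z ih =>
      intro hz
      have hzD : z ∈ D := (Finset.mem_filter.mp hz).1
      have hkz : k ≤ z := (Finset.mem_filter.mp hz).2
      have haz : a < z := lt_of_lt_of_le hk hkz
      -- the interval `[a,z]` is `{x ∈ D | x ⊔ k ≤ z}`
      have h1 : ∑ x ∈ D.filter (fun x => x ⊔ k ≤ z), w x = 0 := by
        apply hw z haz
        intro x
        simp only [Finset.mem_filter]
        constructor
        · rintro ⟨h3, h4⟩
          exact ⟨hDa x h3, le_sup_left.trans h4⟩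
        · rintro ⟨h3, h4⟩
          exact ⟨hdown z hzD x h3 h4, sup_le h4 hkz⟩
      -- split according to the closure
      have h3 : ∑ x ∈ D.filter (fun x => x ⊔ k ≤ z), w x =
          ∑ y ∈ C.filter (fun y => y ≤ z), ∑ x ∈ D.filter (fun x => x ⊔ k = y), w x := by
        rw [← Finset.sum_fiberwise_of_maps_to (s := D.filter (fun x => x ⊔ k ≤ z))
          (t := C.filter (fun y => y ≤ z)) (g := fun x => x ⊔ k)]
        · apply Finset.sum_congr rfl
          intro y hy
          apply Finset.sum_congr _ (fun _ _ => rfl)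
          ext x
          simp only [Finset.mem_filter]
          constructor
          · rintro ⟨⟨h5, _⟩, h6⟩; exact ⟨h5, h6⟩
          · rintro ⟨h5, h6⟩
            exact ⟨⟨h5, h6 ▸ (Finset.mem_filter.mp hy).2⟩, h6⟩
        · intro x hx
          have hx' := Finset.mem_filter.mp hx
          exact Finset.mem_filter.mpr ⟨Finset.mem_filter.mpr ⟨hsup x hx'.1, le_sup_right⟩, hx'.2⟩
      rw [h3] at h1
      have hzmem : z ∈ C.filter (fun y => y ≤ z) := Finset.mem_filter.mpr ⟨hz, le_rfl⟩
      rw [← Finset.add_sum_erase _ _ hzmem] at h1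
      have h4 : ∑ y ∈ (C.filter (fun y => y ≤ z)).erase z,
          ∑ x ∈ D.filter (fun x => x ⊔ k = y), w x = 0 := by
        apply Finset.sum_eq_zero
        intro y hy
        have hy1 := Finset.mem_erase.mp hy
        have hy2 := Finset.mem_filter.mp hy1.2
        exact ih y (lt_of_le_of_ne hy2.2 hy1.1) hy2.1
      rw [h4, add_zero] at h1
      exact h1
  rw [← Finset.sum_fiberwise_of_maps_to (s := D) (t := C) (g := fun x => x ⊔ k)]
  · exact Finset.sum_eq_zero (fun y hy => hF y hy)
  · intro x hx
    exact Finset.mem_filter.mpr ⟨hsup x hx, le_sup_right⟩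

/-- Summing weights against a counting function whose level sets are null. -/
theorem sum_weight_mul_card_eq_zero {α ι : Type*} (𝒦 : Finset α) (w : α → ℤ) (I : Finset ι)
    (D : ι → α → Prop) [∀ i, DecidablePred (D i)] [∀ K, DecidablePred (fun i => D i K)]
    (h : ∀ i ∈ I, ∑ K ∈ 𝒦.filter (D i), w K = 0) :
    ∑ K ∈ 𝒦, w K * ((I.filter (fun i => D i K)).card : ℤ) = 0 := by
  have h1 : ∀ K ∈ 𝒦, w K * ((I.filter (fun i => D i K)).card : ℤ) =
      ∑ i ∈ I, if D i K then w K else 0 := by
    intro K _
    rw [Finset.card_filter]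
    push_cast
    rw [Finset.mul_sum]
    apply Finset.sum_congr rfl
    intro i _
    split_ifs <;> simp
  rw [Finset.sum_congr rfl h1, Finset.sum_comm]
  apply Finset.sum_eq_zero
  intro i hi
  rw [← Finset.sum_filter]
  exact h i hi

end Cfsg.Agent.Lib.Helper7
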