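import Mathlib
import Cfsg.Agent.Lib.Helper7.Casolo1
import Cfsg.Agent.Lib.Helper7.Wielandt2
import Cfsg.Agent.Lib.Lead.CoprimeSylow4

set_option autoImplicit false

/-!
# Casolo's subnormalizer count: definitions and basic lemmas
-/

namespace Cfsg.Agent.Lib.Helper7

universe u

variable {G : Type u} [Group G]

/-- The elements normalizing some `p`-subgroup containing `K` (for a `p`-subgroup `K` this is the
subnormalizer `{g | K sn ⟨K, g⟩}`). -/
def casoloSet (p : ℕ) (K : Subgroup G) : Set G :=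
  {g | ∃ R : Subgroup G, IsPGroup p R ∧ K ≤ R ∧ g ∈ Subgroup.normalizer (R : Set G)}

theorem casoloSet_anti {p : ℕ} {K K' : Subgroup G} (h : K ≤ K') :
    casoloSet p K' ⊆ casoloSet p K := by
  rintro g ⟨R, h1, h2, h3⟩
  exact ⟨R, h1, h.trans h2, h3⟩

theorem mem_casoloSet_of_mem_normalizer {p : ℕ} {K : Subgroup G} (hK : IsPGroup p K) {g : G}
    (hg : g ∈ Subgroup.normalizer (K : Set G)) : g ∈ casoloSet p K :=
  ⟨K, hK, le_rfl, hg⟩

/-- The maximal `p`-subgroups of `M` (its Sylow `p`-subgroups, as subgroups of `G`). -/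
def SylIn (p : ℕ) (M : Subgroup G) : Set (Subgroup G) :=
  {Q | Q ≤ M ∧ IsPGroup p Q ∧ ∀ R : Subgroup G, IsPGroup p R → Q ≤ R → R ≤ M → R = Q}

theorem exists_sylIn_ge [Finite G] {p : ℕ} {M K : Subgroup G} (hK : IsPGroup p K) (hKM : K ≤ M) :
    ∃ Q ∈ SylIn p M, K ≤ Q := by
  obtain ⟨Q, hKQ, hQ⟩ := Finite.exists_le_maximal (p := fun R : Subgroup G => IsPGroup p R ∧ R ≤ M)
    ⟨hK, hKM⟩
  refine ⟨Q, ⟨hQ.prop.2, hQ.prop.1, ?_⟩, hKQ⟩
  intro R hR hQR hRM
  exact le_antisymm (hQ.le_of_ge ⟨hR, hRM⟩ hQR) hQR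

theorem mem_normalizer_inf {A B : Subgroup G} {g : G} (hA : g ∈ Subgroup.normalizer (A : Set G))
    (hB : g ∈ Subgroup.normalizer (B : Set G)) :
    g ∈ Subgroup.normalizer ((A ⊓ B : Subgroup G) : Set G) := by
  rw [Subgroup.mem_normalizer_iff] at hA hB ⊢
  intro h
  rw [Subgroup.mem_inf, Subgroup.mem_inf, hA h, hB h]

theorem mem_normalizer_sInf {S : Set (Subgroup G)} {g : G}
    (h : ∀ R ∈ S, g ∈ Subgroup.normalizer (R : Set G)) :
    g ∈ Subgroup.normalizer ((sInf S : Subgroup G) : Set G) := by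
  rw [Subgroup.mem_normalizer_iff]
  intro x
  rw [Subgroup.mem_sInf, Subgroup.mem_sInf]
  constructor
  · intro hx R hR
    exact ((Subgroup.mem_normalizer_iff.mp (h R hR)) x).mp (hx R hR)
  · intro hx R hR
    exact ((Subgroup.mem_normalizer_iff.mp (h R hR)) x).mpr (hx R hR)

/-- The bijection between the Sylow subgroups of the group `↥M` and `SylIn p M`. -/
theorem card_sylIn (p : ℕ) (M : Subgroup G) :
    Nat.card (SylIn p M) = Nat.card (Sylow p ↥M) := by
  symm
  have hmax : ∀ P' : Sylow p ↥M, (P'.1.map M.subtype) ∈ SylIn p M := by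
    intro P'
    refine ⟨Subgroup.map_subtype_le _, P'.2.map _, ?_⟩
    intro R hR hPR hRM
    have h1 : P'.1 ≤ R.subgroupOf M := by
      intro x hx
      rw [Subgroup.mem_subgroupOf]
      exact hPR (Subgroup.mem_map_of_mem _ hx)
    have h2 : R.subgroupOf M = P'.1 := P'.3 (hR.comap_subtype) h1
    rw [← h2, Subgroup.map_subgroupOf_eq_of_le hRM]
  apply Nat.card_congr
  refine Equiv.ofBijective (fun P' => ⟨P'.1.map M.subtype, hmax P'⟩) ⟨?_, ?_⟩
  · intro P' Q' h
    have h1 : P'.1.map M.subtype = Q'.1.map M.subtype := congrArg Subtype.val h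
    apply Sylow.ext
    exact Subgroup.map_injective M.subtype_injective h1
  · rintro ⟨Q, hQM, hQp, hQmax⟩
    have hsyl : ∀ {Q' : Subgroup ↥M}, IsPGroup p Q' → Q.subgroupOf M ≤ Q' →
        Q' = Q.subgroupOf M := by
      intro Q' hQ' hle
      have h1 : Q ≤ Q'.map M.subtype := by
        rw [← Subgroup.map_subgroupOf_eq_of_le hQM]
        exact Subgroup.map_mono hle
      have h2 := hQmax _ (hQ'.map _) h1 (Subgroup.map_subtype_le _)
      rw [← h2, Subgroup.subgroupOf, Subgroup.comap_map_eq_self_of_injective M.subtype_injective]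
    refine ⟨⟨Q.subgroupOf M, hQp.comap_subtype, hsyl⟩, ?_⟩
    apply Subtype.ext
    exact Subgroup.map_subgroupOf_eq_of_le hQM

theorem sylIn_nonempty [Finite G] (p : ℕ) (M : Subgroup G) : (SylIn p M).Nonempty := by
  obtain ⟨Q, hQ, _⟩ := exists_sylIn_ge (p := p) (M := M) (K := ⊥) IsPGroup.of_bot bot_le
  exact ⟨Q, hQ⟩

/-- Sylow counting inside `M`. -/
theorem card_normalizer_mul_card_sylIn [Finite G] (p : ℕ) [Fact p.Prime] {M H : Subgroup G}
    (hH : H ∈ SylIn p M) :
    Nat.card ↥(M ⊓ Subgroup.normalizer (H : Set G)) * Nat.card (SylIn p M) = Nat.card M := by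
  obtain ⟨hHM, hHp, hHmax⟩ := hH
  have hsyl : ∀ {Q' : Subgroup ↥M}, IsPGroup p Q' → H.subgroupOf M ≤ Q' →
      Q' = H.subgroupOf M := by
    intro Q' hQ' hle
    have h1 : H ≤ Q'.map M.subtype := by
      rw [← Subgroup.map_subgroupOf_eq_of_le hHM]
      exact Subgroup.map_mono hle
    have h2 := hHmax _ (hQ'.map _) h1 (Subgroup.map_subtype_le _)
    rw [← h2, Subgroup.subgroupOf, Subgroup.comap_map_eq_self_of_injective M.subtype_injective]
  let P' : Sylow p ↥M := ⟨H.subgroupOf M, hHp.comap_subtype, hsyl⟩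
  rw [card_sylIn, Sylow.card_eq_index_normalizer P']
  have h1 : Subgroup.normalizer (P' : Set ↥M) =
      (Subgroup.normalizer (H : Set G)).subgroupOf M :=
    (Subgroup.subgroupOf_normalizer_eq hHM).symm
  rw [h1]
  have h2 : Nat.card ↥(M ⊓ Subgroup.normalizer (H : Set G)) =
      Nat.card ((Subgroup.normalizer (H : Set G)).subgroupOf M) := by
    rw [inf_comm, ← Subgroup.subgroupOf_map_subtype]
    exact Nat.card_congr
      (Subgroup.equivMapOfInjective _ M.subtype M.subtype_injective).symm.toEquiv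
  rw [h2]
  exact Subgroup.card_mul_index _

end Cfsg.Agent.Lib.Helper7
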