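import Mathlib
import Cfsg.Agent.Lib.Helper7.Casolo2

set_option autoImplicit false

/-!
# Casolo's subnormalizer count: the induction
-/

namespace Cfsg.Agent.Lib.Helper7

universe u

variable {G : Type u} [Group G]

/-- The counting identity `|S(K) ∩ M| · |Syl_p(M)| = λ_M(K) · |M|`. -/
def CasoloEq (p : ℕ) (M K : Subgroup G) : Prop :=
  Nat.card {g : G // g ∈ M ∧ g ∈ casoloSet p K} * Nat.card (SylIn p M) =
    Nat.card {Q : Subgroup G // Q ∈ SylIn p M ∧ K ≤ Q} * Nat.card M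

theorem casolo_base [Finite G] (p : ℕ) [Fact p.Prime] {M H : Subgroup G} (hH : H ∈ SylIn p M) :
    CasoloEq p M H := by
  unfold CasoloEq
  have hH' := hH
  obtain ⟨hHM, hHp, hHmax⟩ := hH'
  have h1 : Nat.card {g : G // g ∈ M ∧ g ∈ casoloSet p H} =
      Nat.card ↥(M ⊓ Subgroup.normalizer (H : Set G)) := by
    apply Nat.card_congr
    apply Equiv.subtypeEquivRight
    intro g
    rw [Subgroup.mem_inf]
    constructor
    · rintro ⟨hgM, R, hR, hHR, hgR⟩
      refine ⟨hgM, ?_⟩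
      have h2 : R ⊓ M = H := hHmax _ hR.to_inf_left (le_inf hHR hHM) inf_le_right
      rw [← h2]
      exact mem_normalizer_inf hgR (Subgroup.le_normalizer hgM)
    · rintro ⟨hgM, hgH⟩
      exact ⟨hgM, mem_casoloSet_of_mem_normalizer hHp hgH⟩
  have h2 : Nat.card {Q : Subgroup G // Q ∈ SylIn p M ∧ H ≤ Q} = 1 := by
    rw [Nat.card_eq_one_iff_unique]
    refine ⟨⟨?_⟩, ⟨⟨H, hH, le_rfl⟩⟩⟩
    rintro ⟨Q, hQ, hHQ⟩ ⟨Q', hQ', hHQ'⟩
    apply Subtype.ext
    show Q = Q'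
    rw [hHmax Q hQ.2.1 hHQ hQ.1, hHmax Q' hQ'.2.1 hHQ' hQ'.1]
  rw [h1, h2, one_mul]
  exact card_normalizer_mul_card_sylIn p hH

theorem casolo_normal [Finite G] (p : ℕ) [Fact p.Prime] {M H : Subgroup G} (hHM : H ≤ M)
    (hH : IsPGroup p H) (hn : M ≤ Subgroup.normalizer (H : Set G)) :
    CasoloEq p M H := by
  unfold CasoloEq
  have h1 : Nat.card {g : G // g ∈ M ∧ g ∈ casoloSet p H} = Nat.card M := by
    apply Nat.card_congr
    apply Equiv.subtypeEquivRight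
    intro g
    exact ⟨fun h => h.1, fun h => ⟨h, mem_casoloSet_of_mem_normalizer hH (hn h)⟩⟩
  have h2 : Nat.card {Q : Subgroup G // Q ∈ SylIn p M ∧ H ≤ Q} = Nat.card (SylIn p M) := by
    apply Nat.card_congr
    apply Equiv.subtypeEquivRight
    intro Q
    refine ⟨fun h => h.1, fun h => ⟨h, ?_⟩⟩
    obtain ⟨hQM, hQp, hQmax⟩ := h
    have h3 : IsPGroup p ↥(H ⊔ Q) := hH.to_sup_of_normal_left' hQp (hQM.trans hn)
    have h4 := hQmax _ h3 le_sup_right (sup_le hHM hQM)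
    rw [← h4]
    exact le_sup_left
  rw [h1, h2, mul_comm]

/-- The cone lemma applied to an element outside the normalizer of `H`. -/
theorem casolo_cone [Finite G] (p : ℕ) [Fact p.Prime] {M H : Subgroup G} (hHM : H ≤ M)
    (w : Subgroup G → ℤ)
    (hw : ∀ z, H < z → ∀ s : Finset (Subgroup G), (∀ x, x ∈ s ↔ H ≤ x ∧ x ≤ z) →
      ∑ x ∈ s, w x = 0)
    (D : Finset (Subgroup G)) {g : G} (hgM : g ∈ M)
    (hgN : g ∉ Subgroup.normalizer (H : Set G))
    (hD : ∀ K, K ∈ D ↔ (H ≤ K ∧ K ≤ M ⊓ Subgroup.normalizer (H : Set G) ∧ IsPGroup p K) ∧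
      g ∈ casoloSet p K) :
    ∑ K ∈ D, w K = 0 := by
  by_cases hgH : g ∈ casoloSet p H
  · obtain ⟨R₀, hR₀, hHR₀, hgR₀⟩ := hgH
    set T : Subgroup G := sInf {R : Subgroup G | H ≤ R ∧ g ∈ Subgroup.normalizer (R : Set G)}
      with hT
    have hHT : H ≤ T := le_sInf (fun R hR => hR.1)
    have hT_le : ∀ R : Subgroup G, H ≤ R → g ∈ Subgroup.normalizer (R : Set G) → T ≤ R :=
      fun R h1 h2 => sInf_le ⟨h1, h2⟩
    have hgT : g ∈ Subgroup.normalizer (T : Set G) := mem_normalizer_sInf (fun R hR => hR.2)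
    have hTp : IsPGroup p T := hR₀.to_le (hT_le R₀ hHR₀ hgR₀)
    have hTM : T ≤ M := hT_le M hHM (Subgroup.le_normalizer hgM)
    have hne : H ≠ T := by
      intro h
      apply hgN
      rw [h]
      exact hgT
    have hlt : H < T := lt_of_le_of_ne hHT hne
    have hk : H < T ⊓ Subgroup.normalizer (H : Set G) :=
      Cfsg.Agent.Lib.Lead.pgroup_normalizer_grows p T H hTp hlt
    apply cone_sum_zero H w hw D _ _ (T ⊓ Subgroup.normalizer (H : Set G)) hk _
    · intro K hK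
      exact ((hD K).mp hK).1.1
    · intro K hK y hy hyK
      have hK' := (hD K).mp hK
      exact (hD y).mpr ⟨⟨hy, hyK.trans hK'.1.2.1, hK'.1.2.2.to_le hyK⟩, casoloSet_anti hyK hK'.2⟩
    · intro K hK
      obtain ⟨⟨hHK, hKN, hKp⟩, R, hR, hKR, hgR⟩ := (hD K).mp hK
      have hTR : T ≤ R := hT_le R (hHK.trans hKR) hgR
      have hle : K ⊔ (T ⊓ Subgroup.normalizer (H : Set G)) ≤ R :=
        sup_le hKR (inf_le_left.trans hTR)
      exact (hD _).mpr ⟨⟨hHK.trans le_sup_left,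
        sup_le hKN (le_inf (inf_le_left.trans hTM) inf_le_right), hR.to_le hle⟩, R, hR, hle, hgR⟩
  · have hDe : D = ∅ := by
      apply Finset.eq_empty_of_forall_notMem
      intro K hK
      have hK' := (hD K).mp hK
      exact hgH (casoloSet_anti hK'.1.1 hK'.2)
    rw [hDe, Finset.sum_empty]

end Cfsg.Agent.Lib.Helper7
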