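import Mathlib
import Cfsg.Agent.Lib.Helper7.Casolo3

set_option autoImplicit false

/-!
# Casolo's subnormalizer count: the inductive step and the relative theorem
-/

namespace Cfsg.Agent.Lib.Helper7

universe u

variable {G : Type u} [Group G]

set_option maxHeartbeats 800000 in
theorem casolo_step [Finite G] (p : ℕ) [Fact p.Prime] {M H : Subgroup G} (hHM : H ≤ M)
    (hH : IsPGroup p H) (hns : H ∉ SylIn p M)
    (ihH : ∀ K : Subgroup G, H < K → K ≤ M → IsPGroup p K → CasoloEq p M K)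
    (ihN : ∀ K : Subgroup G, K ≤ M ⊓ Subgroup.normalizer (H : Set G) → IsPGroup p K →
      CasoloEq p (M ⊓ Subgroup.normalizer (H : Set G)) K) :
    CasoloEq p M H := by
  classical
  letI : Fintype (Subgroup G) := Fintype.ofFinite _
  letI : Fintype G := Fintype.ofFinite _
  set N : Subgroup G := M ⊓ Subgroup.normalizer (H : Set G) with hN
  obtain ⟨w, hw1, hw⟩ := exists_moebius_weight (α := Subgroup G) H
  set 𝒦 : Finset (Subgroup G) := Finset.univ.filter (fun K => H ≤ K ∧ K ≤ N ∧ IsPGroup p K)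
    with h𝒦
  have hmem𝒦 : ∀ K, K ∈ 𝒦 ↔ H ≤ K ∧ K ≤ N ∧ IsPGroup p K := by
    intro K
    simp [h𝒦]
  have hH𝒦 : H ∈ 𝒦 := (hmem𝒦 H).mpr ⟨le_rfl, le_inf hHM Subgroup.le_normalizer, hH⟩
  -- principal ideals are null
  have hprinc : ∀ K' ∈ 𝒦, H < K' → ∑ K ∈ 𝒦.filter (fun K => K ≤ K'), w K = 0 := by
    intro K' hK' hlt
    apply hw K' hlt
    intro K
    rw [Finset.mem_filter, hmem𝒦]
    have h' := (hmem𝒦 K').mp hK'
    constructor
    · rintro ⟨⟨h1, _, _⟩, h4⟩; exact ⟨h1, h4⟩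
    · rintro ⟨h1, h4⟩; exact ⟨⟨h1, h4.trans h'.2.1, h'.2.2.to_le h4⟩, h4⟩
  -- a Sylow subgroup of `M` above `H` meets `N` in more than `H`
  have hgrow : ∀ Q ∈ SylIn p M, H ≤ Q → H < Q ⊓ N := by
    intro Q hQ hHQ
    have hQne : H ≠ Q := fun h => hns (h ▸ hQ)
    have hlt : H < Q := lt_of_le_of_ne hHQ hQne
    have h2 := Cfsg.Agent.Lib.Lead.pgroup_normalizer_grows p Q H hQ.2.1 hlt
    have h3 : Q ⊓ Subgroup.normalizer (H : Set G) = Q ⊓ N := by
      rw [hN, ← inf_assoc, inf_eq_left.mpr hQ.1]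
    rwa [h3] at h2
  have hnsN : H ∉ SylIn p N := by
    intro hHN
    obtain ⟨Q, hQ, hHQ⟩ := exists_sylIn_ge hH hHM
    have h1 := hgrow Q hQ hHQ
    have h2 := hHN.2.2 (Q ⊓ N) hQ.2.1.to_inf_left h1.le inf_le_right
    exact h1.ne h2.symm
  -- the three null sums
  have hB : ∑ K ∈ 𝒦, w K * (Nat.card {Q : Subgroup G // Q ∈ SylIn p M ∧ K ≤ Q} : ℤ) = 0 := by
    set I : Finset (Subgroup G) := Finset.univ.filter (fun Q => Q ∈ SylIn p M ∧ H ≤ Q) with hI
    have h1 : ∀ K ∈ 𝒦, w K * (Nat.card {Q : Subgroup G // Q ∈ SylIn p M ∧ K ≤ Q} : ℤ) =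
        w K * ((I.filter (fun Q => K ≤ Q ⊓ N)).card : ℤ) := by
      intro K hK
      have hK' := (hmem𝒦 K).mp hK
      congr 2
      apply Nat.subtype_card
      intro Q
      simp only [Finset.mem_filter, Finset.mem_univ, true_and, hI]
      constructor
      · rintro ⟨⟨h2, _⟩, h4⟩; exact ⟨h2, h4.trans inf_le_left⟩
      · rintro ⟨h2, h3⟩; exact ⟨⟨h2, hK'.1.trans h3⟩, le_inf h3 hK'.2.1⟩
    rw [Finset.sum_congr rfl h1]
    apply sum_weight_mul_card_eq_zero 𝒦 w I (fun Q K => K ≤ Q ⊓ N)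
    intro Q hQ
    have hQ' : Q ∈ SylIn p M ∧ H ≤ Q := by simpa [hI] using hQ
    have h2 := hgrow Q hQ'.1 hQ'.2
    exact hprinc (Q ⊓ N) ((hmem𝒦 _).mpr ⟨h2.le, inf_le_right, hQ'.1.2.1.to_inf_left⟩) h2
  have hB' : ∑ K ∈ 𝒦, w K * (Nat.card {Q : Subgroup G // Q ∈ SylIn p N ∧ K ≤ Q} : ℤ) = 0 := by
    set I : Finset (Subgroup G) := Finset.univ.filter (fun Q => Q ∈ SylIn p N ∧ H ≤ Q) with hI
    have h1 : ∀ K ∈ 𝒦, w K * (Nat.card {Q : Subgroup G // Q ∈ SylIn p N ∧ K ≤ Q} : ℤ) =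
        w K * ((I.filter (fun Q => K ≤ Q)).card : ℤ) := by
      intro K hK
      have hK' := (hmem𝒦 K).mp hK
      congr 2
      apply Nat.subtype_card
      intro Q
      simp only [Finset.mem_filter, Finset.mem_univ, true_and, hI]
      constructor
      · rintro ⟨⟨h2, _⟩, h4⟩; exact ⟨h2, h4⟩
      · rintro ⟨h2, h3⟩; exact ⟨⟨h2, hK'.1.trans h3⟩, h3⟩
    rw [Finset.sum_congr rfl h1]
    apply sum_weight_mul_card_eq_zero 𝒦 w I (fun Q K => K ≤ Q)
    intro Q hQ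
    have hQ' : Q ∈ SylIn p N ∧ H ≤ Q := by simpa [hI] using hQ
    have hQne : H ≠ Q := fun h => hnsN (h ▸ hQ'.1)
    exact hprinc Q ((hmem𝒦 _).mpr ⟨hQ'.2, hQ'.1.1, hQ'.1.2.1⟩) (lt_of_le_of_ne hQ'.2 hQne)
  set J : Finset G := Finset.univ.filter (fun g => g ∈ M ∧ g ∉ N) with hJ
  have hC : ∑ K ∈ 𝒦, w K * ((J.filter (fun g => g ∈ casoloSet p K)).card : ℤ) = 0 := by
    apply sum_weight_mul_card_eq_zero 𝒦 w J (fun g K => g ∈ casoloSet p K)
    intro g hg
    have hg' : g ∈ M ∧ g ∉ N := by simpa [hJ] using hg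
    have hgN : g ∉ Subgroup.normalizer (H : Set G) :=
      fun h => hg'.2 (Subgroup.mem_inf.mpr ⟨hg'.1, h⟩)
    apply casolo_cone p hHM w hw _ hg'.1 hgN
    intro K
    rw [Finset.mem_filter, hmem𝒦]
  -- decomposition of the count in `M`
  have hA : ∀ K ∈ 𝒦, (Nat.card {g : G // g ∈ M ∧ g ∈ casoloSet p K} : ℤ) =
      (Nat.card {g : G // g ∈ N ∧ g ∈ casoloSet p K} : ℤ) +
        ((J.filter (fun g => g ∈ casoloSet p K)).card : ℤ) := by
    intro K _
    set S1 : Finset G := Finset.univ.filter (fun g => g ∈ M ∧ g ∈ casoloSet p K) with hS1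
    have e1 : Nat.card {g : G // g ∈ M ∧ g ∈ casoloSet p K} = S1.card :=
      Nat.subtype_card S1 (fun g => by simp [hS1])
    have e2 : Nat.card {g : G // g ∈ N ∧ g ∈ casoloSet p K} =
        (S1.filter (fun g => g ∈ N)).card :=
      Nat.subtype_card _ (fun g => by
        simp only [hS1, Finset.mem_filter, Finset.mem_univ, true_and]
        constructor
        · rintro ⟨⟨_, h2⟩, h3⟩; exact ⟨h3, h2⟩
        · rintro ⟨h1, h2⟩; exact ⟨⟨(inf_le_left : N ≤ M) h1, h2⟩, h1⟩)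
    have e3 : J.filter (fun g => g ∈ casoloSet p K) = S1.filter (fun g => ¬ g ∈ N) := by
      ext g
      simp only [hJ, hS1, Finset.mem_filter, Finset.mem_univ, true_and]
      tauto
    rw [e1, e2, e3, ← Finset.card_filter_add_card_filter_not (s := S1) (fun g => g ∈ N)]
    push_cast
    rfl
  -- induction hypotheses, cast to `ℤ`
  have hIH' : ∀ K ∈ 𝒦, (Nat.card {g : G // g ∈ N ∧ g ∈ casoloSet p K} : ℤ) *
      (Nat.card (SylIn p N) : ℤ) =
      (Nat.card {Q : Subgroup G // Q ∈ SylIn p N ∧ K ≤ Q} : ℤ) * (Nat.card N : ℤ) := by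
    intro K hK
    have hK' := (hmem𝒦 K).mp hK
    have := ihN K hK'.2.1 hK'.2.2
    unfold CasoloEq at this
    exact_mod_cast this
  have hIH : ∀ K ∈ 𝒦, K ≠ H → (Nat.card {g : G // g ∈ M ∧ g ∈ casoloSet p K} : ℤ) *
      (Nat.card (SylIn p M) : ℤ) =
      (Nat.card {Q : Subgroup G // Q ∈ SylIn p M ∧ K ≤ Q} : ℤ) * (Nat.card M : ℤ) := by
    intro K hK hne
    have hK' := (hmem𝒦 K).mp hK
    have := ihH K (lt_of_le_of_ne hK'.1 hne.symm) (hK'.2.1.trans inf_le_left) hK'.2.2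
    unfold CasoloEq at this
    exact_mod_cast this
  -- the weighted count in `N` vanishes
  have hs' : (Nat.card (SylIn p N) : ℤ) ≠ 0 := by
    have : Nonempty (SylIn p N) := (sylIn_nonempty p N).to_subtype
    exact_mod_cast Nat.card_pos.ne'
  have hA' : ∑ K ∈ 𝒦, w K * (Nat.card {g : G // g ∈ N ∧ g ∈ casoloSet p K} : ℤ) = 0 := by
    have h1 : (∑ K ∈ 𝒦, w K * (Nat.card {g : G // g ∈ N ∧ g ∈ casoloSet p K} : ℤ)) *
        (Nat.card (SylIn p N) : ℤ) = 0 := by
      rw [Finset.sum_mul]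
      have h2 : ∀ K ∈ 𝒦, w K * (Nat.card {g : G // g ∈ N ∧ g ∈ casoloSet p K} : ℤ) *
          (Nat.card (SylIn p N) : ℤ) =
          (w K * (Nat.card {Q : Subgroup G // Q ∈ SylIn p N ∧ K ≤ Q} : ℤ)) * (Nat.card N : ℤ) := by
        intro K hK
        rw [mul_assoc, hIH' K hK, mul_assoc]
      rw [Finset.sum_congr rfl h2, ← Finset.sum_mul, hB', zero_mul]
    rcases mul_eq_zero.mp h1 with h | h
    · exact h
    · exact absurd h hs'
  have hAtot : ∑ K ∈ 𝒦, w K * (Nat.card {g : G // g ∈ M ∧ g ∈ casoloSet p K} : ℤ) = 0 := by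
    have h2 : ∀ K ∈ 𝒦, w K * (Nat.card {g : G // g ∈ M ∧ g ∈ casoloSet p K} : ℤ) =
        w K * (Nat.card {g : G // g ∈ N ∧ g ∈ casoloSet p K} : ℤ) +
          w K * ((J.filter (fun g => g ∈ casoloSet p K)).card : ℤ) := by
      intro K hK
      rw [hA K hK, mul_add]
    rw [Finset.sum_congr rfl h2, Finset.sum_add_distrib, hA', hC, add_zero]
  -- final algebra
  have h3 : (∑ K ∈ 𝒦, w K * (Nat.card {g : G // g ∈ M ∧ g ∈ casoloSet p K} : ℤ)) *
      (Nat.card (SylIn p M) : ℤ) =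
      (∑ K ∈ 𝒦, w K * (Nat.card {Q : Subgroup G // Q ∈ SylIn p M ∧ K ≤ Q} : ℤ)) *
        (Nat.card M : ℤ) := by
    rw [hAtot, hB, zero_mul, zero_mul]
  rw [Finset.sum_mul, Finset.sum_mul, ← Finset.add_sum_erase 𝒦 _ hH𝒦,
    ← Finset.add_sum_erase 𝒦 _ hH𝒦] at h3
  have h4 : ∑ K ∈ 𝒦.erase H, w K * (Nat.card {g : G // g ∈ M ∧ g ∈ casoloSet p K} : ℤ) *
      (Nat.card (SylIn p M) : ℤ) =
      ∑ K ∈ 𝒦.erase H, w K * (Nat.card {Q : Subgroup G // Q ∈ SylIn p M ∧ K ≤ Q} : ℤ) *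
        (Nat.card M : ℤ) := by
    apply Finset.sum_congr rfl
    intro K hK
    have hK' := Finset.mem_erase.mp hK
    rw [mul_assoc, hIH K hK'.2 hK'.1, mul_assoc]
  rw [h4, hw1, one_mul, one_mul] at h3
  have h5 := add_right_cancel h3
  unfold CasoloEq
  exact_mod_cast h5

theorem casolo_rel_aux [Finite G] (p : ℕ) [Fact p.Prime] (n : ℕ) :
    ∀ M : Subgroup G, Nat.card M = n → ∀ H : Subgroup G, H ≤ M → IsPGroup p H →
      CasoloEq p M H := by
  induction n using Nat.strong_induction_on with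
  | _ n ihn =>
    intro M hM H
    induction H using WellFoundedGT.induction with
    | ind H ihH =>
      intro hHM hH
      by_cases hs : H ∈ SylIn p M
      · exact casolo_base p hs
      by_cases hn : M ≤ Subgroup.normalizer (H : Set G)
      · exact casolo_normal p hHM hH hn
      apply casolo_step p hHM hH hs
      · intro K hlt hKM hKp
        exact ihH K hlt hKM hKp
      · intro K hKN hKp
        have hlt : M ⊓ Subgroup.normalizer (H : Set G) < M :=
          lt_of_le_of_ne inf_le_left (fun h => hn (inf_eq_left.mp h))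
        exact ihn _ (hM ▸ card_lt_of_lt hlt) _ rfl K hKN hKp

/-- The relative form of Casolo's count. -/
theorem casolo_rel [Finite G] (p : ℕ) [Fact p.Prime] {M H : Subgroup G} (hHM : H ≤ M)
    (hH : IsPGroup p H) : CasoloEq p M H :=
  casolo_rel_aux p _ M rfl H hHM hH

/-- The Sylow subgroups of `G` as the members of `SylIn p ⊤`. -/
def sylowEquivSylInTop (p : ℕ) : Sylow p G ≃ SylIn p (⊤ : Subgroup G) where
  toFun P := ⟨P.1, le_top, P.2, fun _ hR hle _ => P.3 hR hle⟩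
  invFun Q := ⟨Q.1, Q.2.2.1, fun {R} hR hle => Q.2.2.2 R hR hle le_top⟩
  left_inv _ := rfl
  right_inv _ := rfl

/-- **Casolo.** For a `p`-subgroup `H`, the number of elements normalizing some `p`-subgroup
containing `H` is the number of Sylow `p`-subgroups containing `H` times `|N_G(P)|`. -/
theorem casolo [Finite G] (p : ℕ) [Fact p.Prime] {H : Subgroup G} (hH : IsPGroup p H)
    (P : Sylow p G) :
    Nat.card {g : G // g ∈ casoloSet p H} =
      Nat.card {Q : Sylow p G // H ≤ (Q : Subgroup G)} *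
        Nat.card (Subgroup.normalizer ((P : Subgroup G) : Set G)) := by
  have h := casolo_rel p (le_top : H ≤ ⊤) hH
  unfold CasoloEq at h
  have h1 : Nat.card {g : G // g ∈ (⊤ : Subgroup G) ∧ g ∈ casoloSet p H} =
      Nat.card {g : G // g ∈ casoloSet p H} := by
    apply Nat.card_congr
    apply Equiv.subtypeEquivRight
    intro g
    exact ⟨fun h => h.2, fun h => ⟨Subgroup.mem_top g, h⟩⟩
  have h2 : Nat.card (SylIn p (⊤ : Subgroup G)) = Nat.card (Sylow p G) :=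
    Nat.card_congr (sylowEquivSylInTop p).symm
  have h3 : Nat.card {Q : Subgroup G // Q ∈ SylIn p (⊤ : Subgroup G) ∧ H ≤ Q} =
      Nat.card {Q : Sylow p G // H ≤ (Q : Subgroup G)} := by
    apply Nat.card_congr
    refine ⟨fun Q => ⟨(sylowEquivSylInTop p).symm ⟨Q.1, Q.2.1⟩, Q.2.2⟩,
      fun Q => ⟨Q.1.1, (sylowEquivSylInTop p Q.1).2, Q.2⟩, fun _ => rfl, fun _ => rfl⟩
  rw [h1, h2, h3, Subgroup.card_top, Sylow.card_eq_index_normalizer P] at h
  have h4 : Nat.card G = Nat.card (Subgroup.normalizer ((P : Subgroup G) : Set G)) *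
      (Subgroup.normalizer ((P : Subgroup G) : Set G)).index := (Subgroup.card_mul_index _).symm
  rw [h4, ← mul_assoc] at h
  have hpos : 0 < (Subgroup.normalizer ((P : Subgroup G) : Set G)).index :=
    Nat.pos_of_ne_zero Subgroup.index_ne_zero_of_finite
  exact Nat.eq_of_mul_eq_mul_right hpos h

end Cfsg.Agent.Lib.Helper7
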