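import Mathlib
import Cfsg.Agent.Lib.Helper7.Casolo4
import Cfsg.Agent.Lib.Helper7.Wielandt6

set_option autoImplicit false

/-!
# Casolo's subnormalizer count: subnormality and the second formula
-/

namespace Cfsg.Agent.Lib.Helper7

universe u

variable {G : Type u} [Group G]

/-- For a `p`-subgroup `H`: `H` is subnormal in `⟨H, g⟩` iff `g` normalizes some `p`-subgroup
containing `H`. -/
theorem isSubnormal_iff_mem_casoloSet [Finite G] (p : ℕ) [Fact p.Prime] {H : Subgroup G}
    (hH : IsPGroup p H) (g : G) :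
    ((H).subgroupOf (H ⊔ Subgroup.zpowers g)).IsSubnormal ↔ g ∈ casoloSet p H := by
  set X : Subgroup G := H ⊔ Subgroup.zpowers g with hX
  have hHX : H ≤ X := le_sup_left
  have hgX : g ∈ X := (le_sup_right : Subgroup.zpowers g ≤ X) (Subgroup.mem_zpowers g)
  constructor
  · intro hsn
    have h1 : H.subgroupOf X ≤ Cfsg.piCore {p} ↥X :=
      le_piCore_singleton_of_isSubnormal hsn hH.comap_subtype
    refine ⟨(Cfsg.piCore {p} ↥X).map X.subtype, (isPGroup_piCore_singleton p).map _, ?_, ?_⟩
    · rw [← Subgroup.map_subgroupOf_eq_of_le hHX]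
      exact Subgroup.map_mono h1
    · have h2 : (Subgroup.normalizer ((Cfsg.piCore {p} ↥X : Subgroup ↥X) : Set ↥X)).map X.subtype ≤
          Subgroup.normalizer (((Cfsg.piCore {p} ↥X).map X.subtype : Subgroup G) : Set G) :=
        Subgroup.le_normalizer_map _
      rw [Subgroup.normalizer_eq_top] at h2
      apply h2
      exact ⟨⟨g, hgX⟩, Subgroup.mem_top _, rfl⟩
  · rintro ⟨R, hR, hHR, hgR⟩
    have hXN : X ≤ Subgroup.normalizer (R : Set G) :=
      sup_le (hHR.trans Subgroup.le_normalizer) ((Subgroup.zpowers_le).mpr hgR)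
    have hnil : Group.IsNilpotent ↥(R ⊓ X) := (hR.to_inf_left (K := X)).isNilpotent
    have h1 : SubnIn H (R ⊓ X) :=
      subnIn_of_isSubnormal_subgroupOf (le_inf hHR hHX) ((Cfsg.Agent.S0064.result.mp hnil) _)
    have h2 : SubnIn (R ⊓ X) X := by
      apply SubnIn.of_normal inf_le_right
      intro x hx
      exact mem_normalizer_inf (hXN hx) (Subgroup.le_normalizer hx)
    exact (h1.trans h2).isSubnormal_subgroupOf

/-- Counting along a map whose fibres are the left cosets of a subgroup. -/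
theorem card_fiber_mul {X : Type*} [Finite G] (S : Subgroup G) (f : G → X)
    (hf : ∀ a b, f a = f b ↔ a⁻¹ * b ∈ S) (A : Set X) :
    Nat.card {g : G // f g ∈ A} = Nat.card {y : X // y ∈ A ∧ ∃ g, f g = y} * Nat.card S := by
  classical
  rw [← Nat.card_prod]
  apply Nat.card_congr
  let σ : X → G := fun y => if h : ∃ g, f g = y then h.choose else 1
  have hσ : ∀ y, (∃ g, f g = y) → f (σ y) = y := by
    intro y hy
    simp only [σ, dif_pos hy]
    exact hy.choose_spec
  have hfs : ∀ (a : G) (s : G), s ∈ S → f (a * s) = f a := by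
    intro a s hs
    symm
    rw [hf]
    simpa using hs
  refine ⟨fun g => (⟨f g.1, g.2, g.1, rfl⟩, ⟨(σ (f g.1))⁻¹ * g.1, ?_⟩),
    fun ys => ⟨σ ys.1.1 * ys.2.1, ?_⟩, ?_, ?_⟩
  · rw [← hf]
    exact hσ _ ⟨g.1, rfl⟩
  · rw [hfs _ _ ys.2.2, hσ _ ys.1.2.2]
    exact ys.1.2.1
  · intro g
    apply Subtype.ext
    show σ (f g.1) * ((σ (f g.1))⁻¹ * g.1) = g.1
    rw [mul_inv_cancel_left]
  · rintro ⟨⟨y, hyA, hy⟩, ⟨s, hs⟩⟩
    have h1 : f (σ y * s) = y := by rw [hfs _ _ hs, hσ _ hy]
    apply Prod.ext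
    · apply Subtype.ext
      exact h1
    · apply Subtype.ext
      show (σ (f (σ y * s)))⁻¹ * (σ y * s) = s
      rw [h1, inv_mul_cancel_left]

/-- The number of `g` with `g⁻¹ H g ≤ P`, counted through the Sylow subgroups containing `H`. -/
theorem card_conj_le_sylow [Finite G] (p : ℕ) [Fact p.Prime] (H : Subgroup G) (P : Sylow p G) :
    Nat.card {g : G // H ≤ ((g • P : Sylow p G) : Subgroup G)} =
      Nat.card {Q : Sylow p G // H ≤ (Q : Subgroup G)} *
        Nat.card (Subgroup.normalizer ((P : Subgroup G) : Set G)) := by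
  have h := card_fiber_mul (Subgroup.normalizer ((P : Subgroup G) : Set G))
    (fun g : G => g • P) (fun a b => by
      show a • P = b • P ↔ a⁻¹ * b ∈ Subgroup.normalizer (P : Set G)
      rw [← Sylow.smul_eq_iff_mem_normalizer, mul_smul, inv_smul_eq_iff, eq_comm])
    {Q : Sylow p G | H ≤ (Q : Subgroup G)}
  rw [show Nat.card {g : G // H ≤ ((g • P : Sylow p G) : Subgroup G)} =
    Nat.card {g : G // (fun g : G => g • P) g ∈ {Q : Sylow p G | H ≤ (Q : Subgroup G)}} from rfl, h]
  congr 1
  apply Nat.card_congr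
  apply Equiv.subtypeEquivRight
  intro Q
  exact ⟨fun h => h.1, fun h => ⟨h, MulAction.exists_smul_eq G P Q⟩⟩

/-- The number of `g` with `g H g⁻¹ ≤ P`, counted through the conjugates of `H` inside `P`. -/
theorem card_conj_le [Finite G] (H P : Subgroup G) :
    Nat.card {g : G // cj g H ≤ P} =
      Nat.card {K : Subgroup G // K ≤ P ∧ ∃ g : G, K = H.map (MulAut.conj g).toMonoidHom} *
        Nat.card (Subgroup.normalizer (H : Set G)) := by
  have h := card_fiber_mul (Subgroup.normalizer (H : Set G))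
    (fun g : G => cj g H) (fun a b => by
      show cj a H = cj b H ↔ _
      rw [mem_normalizer_iff_cj, cj_mul]
      constructor
      · intro h
        rw [← h, cj_inv_cj]
      · intro h
        calc cj a H = cj a (cj a⁻¹ (cj b H)) := by rw [h]
          _ = cj b H := cj_cj_inv _ _)
    {K : Subgroup G | K ≤ P}
  rw [show Nat.card {g : G // cj g H ≤ P} =
    Nat.card {g : G // (fun g : G => cj g H) g ∈ {K : Subgroup G | K ≤ P}} from rfl, h]
  congr 1
  apply Nat.card_congr
  apply Equiv.subtypeEquivRight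
  intro K
  constructor
  · rintro ⟨h1, g, h2⟩
    exact ⟨h1, g, h2.symm⟩
  · rintro ⟨h1, g, h2⟩
    exact ⟨h1, g, h2.symm⟩

/-- The two counts agree. -/
theorem card_conj_le_eq [Finite G] (p : ℕ) [Fact p.Prime] (H : Subgroup G) (P : Sylow p G) :
    Nat.card {g : G // H ≤ ((g • P : Sylow p G) : Subgroup G)} =
      Nat.card {g : G // cj g H ≤ (P : Subgroup G)} := by
  apply Nat.card_congr
  refine (Equiv.inv G).subtypeEquiv ?_
  intro g
  show H ≤ ((g • P : Sylow p G) : Subgroup G) ↔ cj g⁻¹ H ≤ (P : Subgroup G)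
  have h1 : ((g • P : Sylow p G) : Subgroup G) = cj g (P : Subgroup G) := by
    rw [Sylow.coe_subgroup_smul]
    rfl
  rw [h1]
  constructor
  · intro h
    have := cj_mono g⁻¹ h
    rwa [cj_inv_cj] at this
  · intro h
    have := cj_mono g h
    rwa [cj_cj_inv] at this

end Cfsg.Agent.Lib.Helper7
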