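import Mathlib
import Cfsg.Agent.Lib.Helper8.Chr8Defs
import Cfsg.Agent.Lib.Helper7.BR1

set_option autoImplicit false

/-! S4751 package K3: `C_G(P) = P × Z(G)` from the master inequality. -/

namespace Cfsg.Agent.Lib.Helper8.Chr8

open Cfsg Cfsg.Agent.Lib.Helper8.RDG
open scoped ComplexConjugate

universe u

variable {G : Type u} [Group G] [Finite G]

/-- an element is the product of a `p`-element and a `p'`-element, both powers of it -/
theorem k3_exists_decomp (p : ℕ) [hp : Fact p.Prime] (c : G) :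
    ∃ (i j : ℤ) (e m : ℕ), c = c ^ i * c ^ j ∧ (c ^ i) ^ (p ^ e) = 1 ∧ (c ^ j) ^ m = 1 ∧
      m.Coprime p := by
  have hn0 : orderOf c ≠ 0 := (orderOf_pos c).ne'
  obtain ⟨e, m, hpm, hnm⟩ := Nat.exists_eq_pow_mul_and_not_dvd hn0 p hp.out.ne_one
  have hcop : Nat.Coprime (p ^ e) m :=
    Nat.Coprime.pow_left e ((Nat.Prime.coprime_iff_not_dvd hp.out).mpr hpm)
  have hbez := Nat.gcd_eq_gcd_ab (p ^ e) m
  rw [hcop] at hbez
  refine ⟨(m : ℤ) * Nat.gcdB (p ^ e) m, ((p ^ e : ℕ) : ℤ) * Nat.gcdA (p ^ e) m, e, m, ?_, ?_, ?_, ?_⟩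
  · rw [← zpow_add]
    have : (m : ℤ) * Nat.gcdB (p ^ e) m + ((p ^ e : ℕ) : ℤ) * Nat.gcdA (p ^ e) m = 1 := by
      rw [add_comm]; exact_mod_cast hbez.symm
    rw [this, zpow_one]
  · rw [← zpow_natCast, ← zpow_mul]
    have : (m : ℤ) * Nat.gcdB (p ^ e) m * ((p ^ e : ℕ) : ℤ) =
        ((orderOf c : ℕ) : ℤ) * Nat.gcdB (p ^ e) m := by
      rw [hnm]; push_cast; ring
    rw [this, zpow_mul, zpow_natCast, pow_orderOf_eq_one, one_zpow]
  · rw [← zpow_natCast, ← zpow_mul]
    have : ((p ^ e : ℕ) : ℤ) * Nat.gcdA (p ^ e) m * (m : ℤ) =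
        ((orderOf c : ℕ) : ℤ) * Nat.gcdA (p ^ e) m := by
      rw [hnm]; push_cast; ring
    rw [this, zpow_mul, zpow_natCast, pow_orderOf_eq_one, one_zpow]
  · exact (Nat.Prime.coprime_iff_not_dvd hp.out).mpr hpm |>.symm

/-- elements of the centralizer of `P` fix every linear character of `P` -/
theorem k3_fixSet_eq (P : Subgroup G) [P.Normal] (L : Finset (↥P →* ℂˣ)) (g : G)
    (hg : g ∈ Subgroup.centralizer (P : Set G)) : fixSet P L g = L := by
  classical
  ext l
  rw [mem_fixSet]
  constructor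
  · exact fun h => h.1
  · intro hl
    refine ⟨hl, ?_⟩
    ext n
    rw [conjHom_apply]
    congr 2
    apply Subtype.ext
    show g * (n : G) * g⁻¹ = n
    have := hg (n : G) n.2
    rw [← this, mul_inv_cancel_right]

theorem centralizer_eq {p : ℕ} [Fact p.Prime] {χ : G → ℂ} (hH : Hyp p χ) (P : Subgroup G) [P.Normal]
    [Fintype ↥P] (hPp : IsPGroup p P) {L : Finset (↥P →* ℂˣ)} (hS : Spec χ P L)
    (hM : ∀ g : G, (Nat.card P : ℝ) * ((fixSet P L g).card : ℝ) ≤ ∑ x : P, ‖χ ((x : G) * g)‖ ^ 2) :
    Subgroup.centralizer (P : Set G) = P ⊔ Subgroup.center G := by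
  classical
  have hp : p.Prime := Fact.out
  have hcardP : Nat.card P = Fintype.card P := Nat.card_eq_fintype_card
  apply le_antisymm
  · intro c hc
    obtain ⟨i, j, e, m, hdec, hy, ha, hcop⟩ := k3_exists_decomp p c
    set y : G := c ^ i with hydef
    set a : G := c ^ j with hadef
    have hyC : y ∈ Subgroup.centralizer (P : Set G) := Subgroup.zpow_mem _ hc i
    have haC : a ∈ Subgroup.centralizer (P : Set G) := Subgroup.zpow_mem _ hc j
    -- `y ∈ P`
    have hyP : y ∈ P := by
      by_contra hyP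
      have hterm : ∀ x : P, ‖χ ((x : G) * y)‖ ^ 2 = 1 := by
        intro x
        have hcomm : Commute (x : G) y := (hyC (x : G) x.2)
        obtain ⟨k, hk⟩ := (IsPGroup.iff_orderOf.mp hPp) x
        have hxk : (x : G) ^ (p ^ k) = 1 := by
          rw [← Subgroup.orderOf_coe] at hk
          rw [← hk]; exact pow_orderOf_eq_one _
        have hpow : ((x : G) * y) ^ (p ^ (k + e)) = 1 := by
          rw [hcomm.mul_pow, pow_add, pow_mul, hxk, one_pow, mul_comm (p ^ k) (p ^ e), pow_mul, hy,
            one_pow, one_mul]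
        have hne : (x : G) * y ≠ 1 := by
          intro h1
          apply hyP
          have : y = (x : G)⁻¹ := by
            rw [eq_inv_iff_mul_eq_one, ← hcomm.eq]
            exact h1
          rw [this]; exact P.inv_mem x.2
        have hdvd : orderOf ((x : G) * y) ∣ p ^ (k + e) := orderOf_dvd_of_pow_eq_one hpow
        obtain ⟨r, -, hr⟩ := (Nat.dvd_prime_pow hp).mp hdvd
        have hr0 : r ≠ 0 := by
          rintro rfl
          rw [pow_zero, orderOf_eq_one_iff] at hr
          exact hne hr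
        have hpd : p ∣ orderOf ((x : G) * y) := hr ▸ dvd_pow_self p hr0
        rw [hH.unit _ hpd, one_pow]
      have hsum : ∑ x : P, ‖χ ((x : G) * y)‖ ^ 2 = (Nat.card P : ℝ) := by
        rw [Finset.sum_congr rfl (fun x _ => hterm x), Finset.sum_const, Finset.card_univ,
          nsmul_eq_mul, mul_one, hcardP]
      have h1 := hM y
      rw [k3_fixSet_eq P L y hyC, hsum] at h1
      have hPpos : (0 : ℝ) < Nat.card P := by exact_mod_cast Nat.card_pos
      have h2 : ((L.card : ℝ)) ≤ 1 := by
        by_contra hlt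
        push Not at hlt
        nlinarith
      have h3 : (2 : ℝ) ≤ L.card := by exact_mod_cast hS.two_le
      linarith
    -- `a ∈ Z(G)`
    have haZ : a ∈ Subgroup.center G := by
      obtain ⟨n, ρ, -, hρ⟩ := hH.irr
      have hterm : ∀ x : P, x ≠ 1 → ‖χ ((x : G) * a)‖ ^ 2 = 1 := by
        intro x hx1
        have hcomm : Commute (x : G) a := (haC (x : G) x.2)
        obtain ⟨k, hk⟩ := (IsPGroup.iff_orderOf.mp hPp) x
        rw [← Subgroup.orderOf_coe] at hk
        have hk0 : k ≠ 0 := by
          rintro rfl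
          rw [pow_zero, orderOf_eq_one_iff] at hk
          exact hx1 (Subtype.ext hk)
        have hoa : orderOf a ∣ m := orderOf_dvd_of_pow_eq_one ha
        have hcop' : Nat.Coprime (orderOf (x : G)) (orderOf a) := by
          rw [hk]
          exact Nat.Coprime.pow_left k (Nat.Coprime.coprime_dvd_right hoa hcop.symm)
        have hmul := hcomm.orderOf_mul_eq_mul_orderOf_of_coprime hcop'
        have hpd : p ∣ orderOf ((x : G) * a) := by
          rw [hmul, hk]
          exact Dvd.dvd.mul_right (dvd_pow_self p hk0) _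
        rw [hH.unit _ hpd, one_pow]
      have hsum : ∑ x : P, ‖χ ((x : G) * a)‖ ^ 2 = ‖χ a‖ ^ 2 + ((Nat.card P : ℝ) - 1) := by
        rw [← Finset.add_sum_erase Finset.univ _ (Finset.mem_univ (1 : P))]
        congr 1
        · simp
        · rw [Finset.sum_congr rfl (fun x hx => hterm x (Finset.ne_of_mem_erase hx)),
            Finset.sum_const, Finset.card_erase_of_mem (Finset.mem_univ _), Finset.card_univ,
            nsmul_eq_mul, mul_one, hcardP]
          have : 1 ≤ Fintype.card P := Fintype.card_pos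
          push_cast [Nat.cast_sub this]
          ring
      have h1 := hM a
      rw [k3_fixSet_eq P L a haC, hsum] at h1
      have hcard : (Nat.card P : ℝ) = (L.card : ℝ) + 1 := by
        have := hS.card
        rw [← this]; push_cast; ring
      rw [hcard] at h1
      have hsq : (L.card : ℝ) ^ 2 ≤ ‖χ a‖ ^ 2 := by nlinarith
      have hn : (n : ℂ) = (L.card : ℂ) := by
        rw [← hS.deg, ← hρ, Representation.char_one]
        simp
      have hnL : n = L.card := by exact_mod_cast hn
      have hle : ‖χ a‖ ≤ (L.card : ℝ) := by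
        rw [← hρ, ← hnL]
        exact Cfsg.Agent.Lib.Helper7.br_norm_character_le ρ a
      have hnorm : ‖χ a‖ = (L.card : ℝ) := by
        apply le_antisymm hle
        have h0 : (0 : ℝ) ≤ ‖χ a‖ := norm_nonneg _
        have h0' : (0 : ℝ) ≤ (L.card : ℝ) := Nat.cast_nonneg _
        nlinarith
      rw [Subgroup.mem_center_iff]
      intro g
      have hcomm := Cfsg.Agent.Lib.Helper7.br_commutator_of_norm_eq ρ a
        (by rw [hρ, hnorm, hnL]) g
      rw [hρ] at hcomm
      have h3 := hH.faith _ hcomm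
      have : a * g = g * a := by
        have h4 : a * g * a⁻¹ * g⁻¹ * g * a = g * a := by rw [h3, one_mul]
        rw [← h4]; group
      exact this.symm
    rw [hdec]
    exact Subgroup.mul_mem_sup hyP haZ
  · apply sup_le
    · intro x hx y hy
      have := hS.comm ⟨y, hy⟩ ⟨x, hx⟩
      exact congrArg Subtype.val this
    · exact Subgroup.center_le_centralizer _

end Cfsg.Agent.Lib.Helper8.Chr8
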