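import Mathlib
import Cfsg.Agent.Lib.Helper8.Chr8Defs
import Cfsg.Agent.Lib.Helper1.CharFound7

set_option autoImplicit false

/-! S4751 package K4a: the Sylow dichotomy `|Q| = |P|` or `p = 2, |Q| = 2 |P|`. -/

namespace Cfsg.Agent.Lib.Helper8.Chr8

open Cfsg Cfsg.Agent.Lib.Helper8.RDG
open scoped ComplexConjugate

universe u

variable {G : Type u} [Group G] [Finite G]

/-- pure arithmetic. -/
theorem sylow_arith (p n a t m : ℕ) (hp : p.Prime) (ht : 2 ≤ t) (htn : t + 1 = p ^ n) (hna : n ≤ a)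
    (h : t ^ 2 + p ^ a - 1 = p ^ a * m) : a = n ∨ (p = 2 ∧ a = n + 1) := by
  obtain ⟨d, rfl⟩ := Nat.exists_eq_add_of_le hna
  rcases Nat.eq_zero_or_pos d with hd0 | hdpos
  · left; omega
  right
  have hApos : 0 < p ^ (n + d) := pow_pos hp.pos _
  have ht2 : 4 ≤ t ^ 2 := by nlinarith
  -- `p ^ (n + d) ∣ t ^ 2 - 1`
  have hdvd : p ^ (n + d) ∣ t ^ 2 - 1 := by
    have hm1 : 1 ≤ m := by
      rcases Nat.eq_zero_or_pos m with h0 | h0
      · rw [h0, mul_zero] at h; omega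
      · exact h0
    refine ⟨m - 1, ?_⟩
    rw [Nat.mul_sub, mul_one]
    omega
  -- `t ^ 2 - 1 = p ^ n * (p ^ n - 2)`
  have hq3 : 3 ≤ p ^ n := by omega
  have hfac : t ^ 2 - 1 = p ^ n * (p ^ n - 2) := by
    have ht' : t = p ^ n - 1 := by omega
    obtain ⟨k, hk⟩ : ∃ k, p ^ n = k + 3 := ⟨p ^ n - 3, by omega⟩
    rw [ht', hk]
    have : k + 3 - 1 = k + 2 := by omega
    rw [this]
    have h2 : k + 3 - 2 = k + 1 := by omega
    rw [h2]
    have h3 : (k + 2) ^ 2 = (k + 3) * (k + 1) + 1 := by ring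
    rw [h3]; omega
  rw [hfac, pow_add] at hdvd
  have hd' : p ^ d ∣ p ^ n - 2 := (Nat.mul_dvd_mul_iff_left (pow_pos hp.pos n)).mp hdvd
  have hn1 : 1 ≤ n := by
    rcases Nat.eq_zero_or_pos n with h0 | h0
    · rw [h0, pow_zero] at hq3; omega
    · exact h0
  have hpq : p ∣ p ^ n := dvd_pow_self p (by omega)
  have hpd : p ∣ p ^ n - 2 := (dvd_pow_self p (by omega)).trans hd'
  have hp2 : p ∣ 2 := by
    have : p ∣ p ^ n - (p ^ n - 2) := Nat.dvd_sub hpq hpd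
    have h2 : p ^ n - (p ^ n - 2) = 2 := by omega
    rwa [h2] at this
  have hpeq : p = 2 := (Nat.prime_dvd_prime_iff_eq hp Nat.prime_two).mp hp2
  refine ⟨hpeq, ?_⟩
  subst hpeq
  -- `n ≥ 2`
  have hn2 : 2 ≤ n := by
    by_contra hlt
    have : n = 1 := by omega
    rw [this] at hq3; norm_num at hq3
  by_contra hne
  have hd2 : 2 ≤ d := by omega
  have h4 : 2 ^ 2 ∣ 2 ^ n - 2 := (pow_dvd_pow 2 hd2).trans hd'
  have h4' : 2 ^ 2 ∣ 2 ^ n := pow_dvd_pow 2 hn2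
  have : 2 ^ 2 ∣ 2 ^ n - (2 ^ n - 2) := Nat.dvd_sub h4' h4
  have h2 : 2 ^ n - (2 ^ n - 2) = 2 := by omega
  rw [h2] at this
  norm_num at this

theorem sylow_dichotomy {p : ℕ} [Fact p.Prime] {χ : G → ℂ} (hH : Hyp p χ) (P : Subgroup G) [P.Normal]
    (hPp : IsPGroup p P) {L : Finset (↥P →* ℂˣ)} (hS : Spec χ P L) (Q : Sylow p G) (hPQ : P ≤ Q) :
    Nat.card P = Nat.card Q ∨ (p = 2 ∧ Nat.card Q = 2 * Nat.card P) := by
  classical
  have hp : p.Prime := Fact.out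
  haveI : Fintype ↥(Q : Subgroup G) := Fintype.ofFinite _
  obtain ⟨n, hn⟩ := IsPGroup.iff_card.mp hPp
  obtain ⟨a, ha⟩ := IsPGroup.iff_card.mp Q.2
  have hna : n ≤ a := by
    have hd : Nat.card P ∣ Nat.card (Q : Subgroup G) := Subgroup.card_dvd_of_le hPQ
    rw [hn, ha] at hd
    exact (Nat.pow_dvd_pow_iff_le_right hp.one_lt).mp hd
  set t : ℕ := L.card with htdef
  have htn : t + 1 = p ^ n := by rw [← hn]; exact hS.card
  have ht : 2 ≤ t := hS.two_le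
  -- the restriction of `χ` to `Q` is a character
  have hχ : Cfsg.IsCharacter G χ := by
    obtain ⟨k, ρ, -, hρ⟩ := hH.irr
    exact ⟨k, ρ, hρ⟩
  have hχQ : Cfsg.IsCharacter ↥(Q : Subgroup G) (fun q => χ ((Q : Subgroup G).subtype q)) :=
    Cfsg.Agent.Lib.Helper1.isCharacter_comp_hom hχ (Q : Subgroup G).subtype
  obtain ⟨m, hm⟩ := Cfsg.Agent.Lib.Helper1.classInner_char_nat hχQ hχQ
  rw [Cfsg.Agent.Lib.Helper4.classInner_def] at hm
  -- the sum of the squared norms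
  have hterm : ∀ q : ↥(Q : Subgroup G), q ≠ 1 →
      χ ((Q : Subgroup G).subtype q) * conj (χ ((Q : Subgroup G).subtype q)) = 1 := by
    intro q hq1
    obtain ⟨k, hk⟩ := (IsPGroup.iff_orderOf.mp Q.2) q
    have hk0 : k ≠ 0 := by
      rintro rfl
      rw [pow_zero, orderOf_eq_one_iff] at hk
      exact hq1 hk
    have hpd : p ∣ orderOf ((Q : Subgroup G).subtype q) := by
      rw [Subgroup.coe_subtype, Subgroup.orderOf_coe, hk]
      exact dvd_pow_self p hk0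
    have h1 := hH.unit _ hpd
    rw [Complex.mul_conj, Complex.normSq_eq_norm_sq, h1]
    norm_num
  have hone : χ ((Q : Subgroup G).subtype 1) * conj (χ ((Q : Subgroup G).subtype 1)) =
      ((t ^ 2 : ℕ) : ℂ) := by
    rw [map_one, hS.deg]
    simp [htdef, sq]
  have hsum : ∑ q : ↥(Q : Subgroup G), χ ((Q : Subgroup G).subtype q) *
      conj (χ ((Q : Subgroup G).subtype q)) = ((t ^ 2 + p ^ a - 1 : ℕ) : ℂ) := by
    rw [← Finset.add_sum_erase Finset.univ _ (Finset.mem_univ (1 : ↥(Q : Subgroup G))), hone,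
      Finset.sum_congr rfl (fun x hx => hterm x (Finset.ne_of_mem_erase hx)),
      Finset.sum_const, Finset.card_erase_of_mem (Finset.mem_univ _), Finset.card_univ,
      ← Nat.card_eq_fintype_card, ha, nsmul_eq_mul, mul_one, ← Nat.cast_add]
    congr 1
    have : 1 ≤ p ^ a := Nat.one_le_pow _ _ hp.pos
    omega
  rw [hsum, ha] at hm
  have hQ0 : ((p ^ a : ℕ) : ℂ) ≠ 0 := Nat.cast_ne_zero.mpr (pow_pos hp.pos a).ne'
  have hm' : ((t ^ 2 + p ^ a - 1 : ℕ) : ℂ) = ((p ^ a * m : ℕ) : ℂ) := by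
    rw [Nat.cast_mul, ← hm, ← mul_assoc, mul_inv_cancel₀ hQ0, one_mul]
  have hnat : t ^ 2 + p ^ a - 1 = p ^ a * m := by exact_mod_cast hm'
  rcases sylow_arith p n a t m hp ht htn hna hnat with h1 | ⟨h1, h2⟩
  · left
    rw [hn, ha, h1]
  · right
    refine ⟨h1, ?_⟩
    rw [hn, ha, h2, pow_succ, h1]
    ring

end Cfsg.Agent.Lib.Helper8.Chr8
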