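import Mathlib
import Cfsg.Agent.Lib.Helper9.PCore
import Cfsg.Agent.Lib.Helper9.LargeExtra5

set_option autoImplicit false

/-! Abstract lemmas for involution centralizers of shape `2^{1+2n} . S`: the largest normal
2-subgroup from a simple quotient, and a criterion for a subgroup generated by a set to be
extraspecial. -/

namespace Cfsg.Agent.Lib.Helper7.Co2C

open Cfsg
open scoped commutatorElement

/-- a normal 2-subgroup with a simple quotient which is not a 2-group is the largest normal
2-subgroup -/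
theorem pCore_eq_of_quotient_simple {G S : Type*} [Group G] [Finite G] [Group S]
    (N : Subgroup G) [hNn : N.Normal] (hN : IsPGroup 2 N) (hS : IsSimpleGroup S)
    (hS2 : ¬ IsPGroup 2 S) (e : G ⧸ N ≃* S) : Cfsg.pCore 2 G = N := by
  haveI : Fact (Nat.Prime 2) := ⟨Nat.prime_two⟩
  apply le_antisymm
  · set P := Cfsg.pCore 2 G with hP
    have hPn : P.Normal := Cfsg.Agent.Lib.Helper9.pCore_normal' 2
    have hPp : IsPGroup 2 P := Cfsg.Agent.Lib.Helper9.pCore_isPGroup' 2
    let f : G →* S := e.toMonoidHom.comp (QuotientGroup.mk' N)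
    have hf : Function.Surjective f := e.surjective.comp (QuotientGroup.mk'_surjective N)
    have hn : (P.map f).Normal := Subgroup.Normal.map hPn f hf
    have hp : IsPGroup 2 (P.map f) := hPp.map f
    rcases hn.eq_bot_or_eq_top with h | h
    · intro x hx
      have h1 : f x ∈ P.map f := ⟨x, hx, rfl⟩
      rw [h, Subgroup.mem_bot] at h1
      have h2 : e (QuotientGroup.mk' N x) = 1 := h1
      have h3 : QuotientGroup.mk' N x = 1 := by
        rw [← map_one e] at h2
        exact e.injective h2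
      rwa [QuotientGroup.mk'_apply, QuotientGroup.eq_one_iff] at h3
    · exfalso
      apply hS2
      rw [h] at hp
      intro s
      obtain ⟨k, hk⟩ := hp ⟨s, Subgroup.mem_top s⟩
      refine ⟨k, ?_⟩
      have := congrArg Subtype.val hk
      simpa using this
  · exact Cfsg.Agent.Lib.Helper9.le_pCore hNn hN

section extra

variable {G : Type*} [Group G]

/-- commuting up to a power of `z` -/
def Cz (z a b : G) : Prop := ∃ e : ℕ, a * b = b * a * z ^ e

theorem Cz_mul_left {z a b c : G} (hzb : z * b = b * z) (h1 : Cz z a c)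
    (h2 : Cz z b c) : Cz z (a * b) c := by
  obtain ⟨e, he⟩ := h1
  obtain ⟨f, hf⟩ := h2
  refine ⟨f + e, ?_⟩
  have hzb' : z ^ e * b = b * z ^ e := (Commute.pow_left (show Commute z b from hzb) e).eq
  calc a * b * c = a * (b * c) := by rw [mul_assoc]
    _ = a * (c * b * z ^ f) := by rw [hf]
    _ = (a * c) * b * z ^ f := by simp only [mul_assoc]
    _ = (c * a * z ^ e) * b * z ^ f := by rw [he]
    _ = c * a * (z ^ e * b) * z ^ f := by simp only [mul_assoc]
    _ = c * a * (b * z ^ e) * z ^ f := by rw [hzb']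
    _ = c * (a * b) * (z ^ e * z ^ f) := by simp only [mul_assoc]
    _ = c * (a * b) * z ^ (f + e) := by rw [← pow_add, add_comm]

theorem Cz_inv_left {z a c : G} (hz2 : z * z = 1) (hza : z * a = a * z) (hzc : z * c = c * z)
    (h1 : Cz z a c) : Cz z a⁻¹ c := by
  obtain ⟨e, he⟩ := h1
  refine ⟨e, ?_⟩
  have hze : z ^ e * z ^ e = 1 := by
    have : (z * z) ^ e = z ^ e * z ^ e := (Commute.refl z).mul_pow e
    rw [← this, hz2, one_pow]
  have hza' : z ^ e * a = a * z ^ e := (Commute.pow_left (show Commute z a from hza) e).eq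
  have hzc' : z ^ e * c = c * z ^ e := (Commute.pow_left (show Commute z c from hzc) e).eq
  -- `a c = c a z^e`, hence `c a⁻¹ z^e = a⁻¹ c`
  have h : a * (c * a⁻¹ * z ^ e) = a * (a⁻¹ * c) := by
    have h3 : a * c = c * (z ^ e * a) := by rw [he, hza']; simp only [mul_assoc]
    calc a * (c * a⁻¹ * z ^ e) = (a * c) * a⁻¹ * z ^ e := by simp only [mul_assoc]
      _ = c * (z ^ e * a) * a⁻¹ * z ^ e := by rw [h3]
      _ = c * (z ^ e * z ^ e) := by simp only [mul_assoc, mul_inv_cancel_left]
      _ = a * (a⁻¹ * c) := by rw [hze, mul_one, mul_inv_cancel_left]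
  exact (mul_left_cancel h).symm

theorem Cz_symm {z a b : G} (hz2 : z * z = 1) (h : Cz z a b) : Cz z b a := by
  obtain ⟨e, he⟩ := h
  refine ⟨e, ?_⟩
  have hze : z ^ e * z ^ e = 1 := by
    have : (z * z) ^ e = z ^ e * z ^ e := (Commute.refl z).mul_pow e
    rw [← this, hz2, one_pow]
  rw [he, mul_assoc, hze, mul_one]

/-- **a criterion for a subgroup generated by a set to be extraspecial** -/
theorem isExtraspecial_closure [Finite G] (S : Set G) (z : G) (hz2 : z * z = 1) (hz1 : z ≠ 1)
    (hzS : z ∈ Subgroup.closure S)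
    (hzc : ∀ s ∈ S, z * s = s * z)
    (hsq : ∀ s ∈ S, ∃ e : ℕ, s * s = z ^ e)
    (hcomm : ∀ s ∈ S, ∀ s' ∈ S, Cz z s s')
    (hcard : ∃ k, Nat.card (Subgroup.closure S) = 2 ^ k)
    (hcen : ∀ x ∈ Subgroup.closure S, (∀ s ∈ S, x * s = s * x) → x = 1 ∨ x = z)
    (hna : ∃ s ∈ S, ∃ s' ∈ S, s * s' ≠ s' * s) :
    Cfsg.IsExtraspecial 2 ↥(Subgroup.closure S) := by
  haveI : Fact (Nat.Prime 2) := ⟨Nat.prime_two⟩
  set Q := Subgroup.closure S with hQ
  -- `z` commutes with `Q`
  have hzQ : ∀ x ∈ Q, z * x = x * z := by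
    intro x hx
    have : x ∈ Subgroup.centralizer ({z} : Set G) := by
      refine (Subgroup.closure_le _).mpr ?_ hx
      intro s hs
      rw [SetLike.mem_coe, Subgroup.mem_centralizer_iff]
      intro h hh
      rw [Set.mem_singleton_iff] at hh
      rw [hh]
      exact hzc s hs
    rw [Subgroup.mem_centralizer_iff] at this
    exact this z rfl
  have hzpow : ∀ e : ℕ, ∀ x ∈ Q, z ^ e * x = x * z ^ e := fun e x hx =>
    (Commute.pow_left (show Commute z x from hzQ x hx) e).eq
  -- all elements commute with the generators up to `z`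
  have h1 : ∀ x ∈ Q, ∀ s ∈ S, Cz z x s := by
    intro x hx s hs
    induction hx using Subgroup.closure_induction with
    | mem y hy => exact hcomm y hy s hs
    | one => exact ⟨0, by simp⟩
    | mul a b ha hb iha ihb => exact Cz_mul_left (hzQ b hb) iha ihb
    | inv a ha iha => exact Cz_inv_left hz2 (hzQ a ha) (hzc s hs) iha
  -- all elements commute up to `z`
  have h2 : ∀ x ∈ Q, ∀ y ∈ Q, Cz z x y := by
    intro x hx y hy
    apply Cz_symm hz2
    induction hy using Subgroup.closure_induction with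
    | mem s hs => exact Cz_symm hz2 (h1 x hx s hs)
    | one => exact ⟨0, by simp⟩
    | mul a b ha hb iha ihb => exact Cz_mul_left (hzQ b hb) iha ihb
    | inv a ha iha => exact Cz_inv_left hz2 (hzQ a ha) (hzQ x hx) iha
  -- squares
  have h3 : ∀ x ∈ Q, ∃ e : ℕ, x * x = z ^ e := by
    intro x hx
    induction hx using Subgroup.closure_induction with
    | mem s hs => exact hsq s hs
    | one => exact ⟨0, by simp⟩
    | mul a b ha hb iha ihb =>
      obtain ⟨e, he⟩ := iha
      obtain ⟨f, hf⟩ := ihb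
      obtain ⟨k, hk⟩ := h2 b hb a ha
      refine ⟨e + f + k, ?_⟩
      calc a * b * (a * b) = a * (b * a) * b := by simp only [mul_assoc]
        _ = a * (a * b * z ^ k) * b := by rw [hk]
        _ = (a * a) * b * (z ^ k * b) := by simp only [mul_assoc]
        _ = (a * a) * b * (b * z ^ k) := by rw [hzpow k b hb]
        _ = (a * a) * (b * b) * z ^ k := by simp only [mul_assoc]
        _ = z ^ (e + f + k) := by rw [he, hf, ← pow_add, ← pow_add]
    | inv a ha iha =>
      obtain ⟨e, he⟩ := iha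
      refine ⟨e, ?_⟩
      have hze : z ^ e * z ^ e = 1 := by
        have : (z * z) ^ e = z ^ e * z ^ e := (Commute.refl z).mul_pow e
        rw [← this, hz2, one_pow]
      rw [← mul_inv_rev, he]
      exact inv_eq_of_mul_eq_one_left hze
  -- the centre
  have hzc' : (⟨z, hzS⟩ : ↥Q) ∈ Subgroup.center ↥Q := by
    rw [Subgroup.mem_center_iff]
    intro g
    apply Subtype.ext
    exact (hzQ g.1 g.2).symm
  have hzpc : ∀ e : ℕ, (⟨z, hzS⟩ : ↥Q) ^ e ∈ Subgroup.center ↥Q := fun e =>
    Subgroup.pow_mem _ hzc' e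
  have hcenter : Subgroup.center ↥Q = Subgroup.zpowers (⟨z, hzS⟩ : ↥Q) := by
    apply le_antisymm
    · intro c hc
      rw [Subgroup.mem_center_iff] at hc
      have := hcen c.1 c.2 (fun s hs => by
        have := hc ⟨s, Subgroup.subset_closure hs⟩
        exact (congrArg Subtype.val this).symm)
      rcases this with h | h
      · have : c = 1 := Subtype.ext h
        rw [this]
        exact Subgroup.one_mem _
      · have : c = ⟨z, hzS⟩ := Subtype.ext h
        rw [this]
        exact Subgroup.mem_zpowers _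
    · rw [Subgroup.zpowers_le]
      exact hzc'
  have hord : orderOf (⟨z, hzS⟩ : ↥Q) = 2 := by
    apply orderOf_eq_prime
    · apply Subtype.ext
      rw [pow_two]
      exact hz2
    · intro h
      exact hz1 (congrArg Subtype.val h)
  have hccard : Nat.card (Subgroup.center ↥Q) = 2 := by
    rw [hcenter, Nat.card_zpowers, hord]
  obtain ⟨k, hk⟩ := hcard
  have hp : IsPGroup 2 ↥Q := IsPGroup.of_card hk
  apply Cfsg.Agent.Lib.Helper9.LargeExtra.isExtraspecial_of_type hp hccard
  · intro x y
    obtain ⟨e, he⟩ := h2 x.1 x.2 y.1 y.2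
    have : ⁅x, y⁆ = (⟨z, hzS⟩ : ↥Q) ^ e := by
      apply Subtype.ext
      rw [commutatorElement_def]
      show x.1 * y.1 * x.1⁻¹ * y.1⁻¹ = z ^ e
      have hc := hzpow e _ (Q.mul_mem (Q.inv_mem x.2) (Q.inv_mem y.2))
      calc x.1 * y.1 * x.1⁻¹ * y.1⁻¹ = y.1 * x.1 * z ^ e * x.1⁻¹ * y.1⁻¹ := by rw [he]
        _ = y.1 * x.1 * (z ^ e * (x.1⁻¹ * y.1⁻¹)) := by simp only [mul_assoc]
        _ = y.1 * x.1 * (x.1⁻¹ * y.1⁻¹ * z ^ e) := by rw [hc]
        _ = z ^ e := by group
    rw [this]
    exact hzpc e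
  · intro x
    obtain ⟨e, he⟩ := h3 x.1 x.2
    have : x ^ 2 = (⟨z, hzS⟩ : ↥Q) ^ e := by
      apply Subtype.ext
      rw [pow_two]
      exact he
    rw [this]
    exact hzpc e
  · obtain ⟨s, hs, s', hs', hne⟩ := hna
    refine ⟨⟨s, Subgroup.subset_closure hs⟩, ⟨s', Subgroup.subset_closure hs'⟩, ?_⟩
    intro h
    apply hne
    have h' := congrArg Subtype.val h
    rw [commutatorElement_def] at h'
    have h'' : s * s' * s⁻¹ * s'⁻¹ = 1 := h'
    calc s * s' = (s * s' * s⁻¹ * s'⁻¹) * (s' * s) := by group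
      _ = s' * s := by rw [h'', one_mul]

end extra

end Cfsg.Agent.Lib.Helper7.Co2C
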