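import Mathlib
import Cfsg.Agent.Lib.Helper5.Chain4
import Cfsg.Agent.Lib.Helper2.PMStab4

set_option autoImplicit false

/-! Permutation models: the subgroup of the elements permuting the fibres of a map of the
points, and the induced homomorphism. -/

namespace Cfsg.Agent.Lib.Helper7.Co2C

open Cfsg.Agent.Lib.Helper6.TC Cfsg.Agent.Lib.Helper6.PM Cfsg.Agent.Lib.Helper2.PMS
open Cfsg.Agent.Lib.Helper5.Chain

section part

variable (M : PModel) {m : ℕ} (blk : Fin M.n → Fin m)

/-- the elements permuting the fibres of `blk` -/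
def PS : Subgroup M.G where
  carrier := {g | ∃ τ : Equiv.Perm (Fin m), ∀ p, blk (g • p) = τ (blk p)}
  one_mem' := ⟨1, fun p => by rw [one_smul]; rfl⟩
  mul_mem' := by
    rintro g h ⟨τ, hτ⟩ ⟨σ, hσ⟩
    exact ⟨τ * σ, fun p => by rw [mul_smul, hτ, hσ]; rfl⟩
  inv_mem' := by
    rintro g ⟨τ, hτ⟩
    refine ⟨τ⁻¹, fun p => ?_⟩
    have := hτ (g⁻¹ • p)
    rw [smul_inv_smul] at this
    rw [this]
    simp

variable {M blk}

theorem mem_PS (g : M.G) : g ∈ PS M blk ↔
    ∃ τ : Equiv.Perm (Fin m), ∀ p, blk (g • p) = τ (blk p) := Iff.rfl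

variable (hs : Function.Surjective blk)
include hs

theorem tau_unique (g : M.G) (τ σ : Equiv.Perm (Fin m)) (hτ : ∀ p, blk (g • p) = τ (blk p))
    (hσ : ∀ p, blk (g • p) = σ (blk p)) : τ = σ := by
  ext i
  obtain ⟨p, rfl⟩ := hs i
  rw [← hτ, ← hσ]

/-- the induced permutation of the fibres -/
noncomputable def theta : PS M blk →* Equiv.Perm (Fin m) where
  toFun g := Classical.choose g.2
  map_one' := by
    apply tau_unique hs (1 : M.G) _ _ (Classical.choose_spec (1 : PS M blk).2)
    intro p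
    rw [one_smul]
    rfl
  map_mul' := by
    intro g h
    apply tau_unique hs (g.1 * h.1) _ _ (Classical.choose_spec (g * h).2)
    intro p
    rw [mul_smul, Classical.choose_spec g.2, Classical.choose_spec h.2]
    rfl

theorem theta_spec (g : PS M blk) (p : Fin M.n) : blk (g.1 • p) = theta hs g (blk p) :=
  Classical.choose_spec g.2 p

theorem theta_eq (g : PS M blk) (τ : Equiv.Perm (Fin m)) (h : ∀ p, blk (g.1 • p) = τ (blk p)) :
    theta hs g = τ :=
  tau_unique hs g.1 _ _ (theta_spec hs g) h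

/-- the restriction to a subgroup -/
noncomputable def thetaD (D : Subgroup M.G) (hD : D ≤ PS M blk) : D →* Equiv.Perm (Fin m) :=
  (theta hs).comp (Subgroup.inclusion hD)

theorem thetaD_apply (D : Subgroup M.G) (hD : D ≤ PS M blk) (g : D) :
    thetaD hs D hD g = theta hs ⟨g.1, hD g.2⟩ := rfl

theorem card_eq_ker_mul_range [Finite M.G] (D : Subgroup M.G) (hD : D ≤ PS M blk) :
    Nat.card D = Nat.card (thetaD hs D hD).ker * Nat.card (thetaD hs D hD).range := by
  rw [Subgroup.card_eq_card_quotient_mul_card_subgroup (thetaD hs D hD).ker,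
    Nat.card_congr (QuotientGroup.quotientKerEquivRange (thetaD hs D hD)).toEquiv, mul_comm]

end part

section letters

variable (M : PModel) (iv : ℕ → ℕ) (hI : InvMap M iv)
include hI

/-- the left action of a letter, from the table of the inverse letter -/
theorem letter_smul (c : ℕ) (hc : c < M.nl) (p : Fin M.n) :
    (M.elt [c] • p).val = M.px (iv c) p.val := by
  have hl : ∀ c' ∈ [c], c' < M.nl := by
    intro c' hc'
    rw [List.mem_singleton] at hc'
    rw [hc']
    exact hc
  have e : M.elt [iv c] = (M.elt [c])⁻¹ := by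
    have := elt_invw M iv hI [c] hl
    have e0 : Cfsg.Agent.Lib.Helper2.PMS.invw iv [c] = [iv c] := rfl
    rwa [e0] at this
  have e2 : M.elt [c] = (M.elt [iv c])⁻¹ := by rw [e, inv_inv]
  have hl2 : ∀ c' ∈ [iv c], c' < M.nl := by
    intro c' hc'
    rw [List.mem_singleton] at hc'
    rw [hc']
    exact (hI c hc).1
  rw [e2, M.inv_elt_smul_val [iv c] hl2 p, wapp_cons, wapp_nil]

variable {m : ℕ} {blk : Fin M.n → Fin m} (hs : Function.Surjective blk)

/-- a letter permuting the fibres, from tables -/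
theorem letter_mem_PS (blkN : ℕ → ℕ) (hb : ∀ p : Fin M.n, (blk p).val = blkN p.val)
    (c : ℕ) (hc : c < M.nl) (τ : Equiv.Perm (Fin m)) (τN : ℕ → ℕ)
    (hτ : ∀ i : Fin m, (τ i).val = τN i.val)
    (chk : ∀ q < M.n, blkN (M.px (iv c) q) = τN (blkN q)) :
    ∃ h : M.elt [c] ∈ PS M blk, theta hs ⟨M.elt [c], h⟩ = τ := by
  have key : ∀ p, blk (M.elt [c] • p) = τ (blk p) := by
    intro p
    apply Fin.ext
    rw [hb, letter_smul M iv hI c hc p, chk p.val p.isLt, hτ, hb]
  exact ⟨⟨τ, key⟩, theta_eq hs _ τ key⟩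

end letters

end Cfsg.Agent.Lib.Helper7.Co2C
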