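import Mathlib
import Cfsg.Agent.Lib.Helper5.Chain4
import Cfsg.Agent.Lib.Helper2.PMStab4

set_option autoImplicit false

/-! Permutation models: a lower bound for the size of a conjugacy class (an upper bound for the
order of a centralizer) from a list of conjugating words with pairwise different keys. -/

namespace Cfsg.Agent.Lib.Helper7.McLC

open Cfsg.Agent.Lib.Helper6.TC Cfsg.Agent.Lib.Helper6.PM Cfsg.Agent.Lib.Helper2.PMS
open Cfsg.Agent.Lib.Helper5.Chain

/-- strictly increasing lists -/
def isIncr : List ℕ → Bool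
  | [] => true
  | [_] => true
  | a :: b :: l => Nat.blt a b && isIncr (b :: l)

theorem isIncr_aux : ∀ (l : List ℕ) (a : ℕ), isIncr (a :: l) = true →
    (∀ x ∈ l, a < x) ∧ (a :: l).Nodup
  | [], a, _ => ⟨fun x hx => absurd hx (List.not_mem_nil), List.nodup_singleton a⟩
  | b :: l, a, h => by
    have h' : (Nat.blt a b && isIncr (b :: l)) = true := h
    rw [Bool.and_eq_true, Nat.blt_eq] at h'
    obtain ⟨h1, h2⟩ := isIncr_aux l b h'.2
    have hall : ∀ x ∈ b :: l, a < x := by
      intro x hx
      rcases List.mem_cons.mp hx with rfl | hx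
      · exact h'.1
      · exact lt_trans h'.1 (h1 x hx)
    refine ⟨hall, ?_⟩
    rw [List.nodup_cons]
    refine ⟨fun hmem => ?_, h2⟩
    exact absurd (hall a hmem) (lt_irrefl a)

theorem nodup_of_isIncr (l : List ℕ) (h : isIncr l = true) : l.Nodup := by
  cases l with
  | nil => exact List.nodup_nil
  | cons a l => exact (isIncr_aux l a h).2

/-- the packing of a list of numbers -/
def packL (l : List ℕ) : ℕ := l.foldl (fun acc v => acc * 512 + v) 0

variable (M : PModel) (iv : ℕ → ℕ) (wt : List ℕ) (bs : List ℕ)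

/-- the key of an element: its right action on the points `bs` -/
noncomputable def keyG (h : M.G) : ℕ := packL (bs.map (ract M h))

/-- the key of the conjugate of the element of `wt` by the element of the word `w` -/
noncomputable def keyC (px : ℕ → ℕ → ℕ) (w : List ℕ) : ℕ :=
  packL (bs.map fun b => wappS px (invw iv w ++ (wt ++ w)) b)

variable {M iv wt bs}

theorem keyC_eq (hI : InvMap M iv) (hwt : ∀ c ∈ wt, c < M.nl) (hbs : ∀ b ∈ bs, b < M.n)
    (w : List ℕ) (hw : ∀ c ∈ w, c < M.nl) :
    keyC iv wt bs M.px w = keyG M bs ((M.elt w)⁻¹ * M.elt wt * M.elt w) := by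
  unfold keyC keyG
  congr 1
  apply List.map_congr_left
  intro b hb
  have hl : ∀ c ∈ invw iv w ++ (wt ++ w), c < M.nl := by
    intro c hc
    rcases List.mem_append.mp hc with h | h
    · exact invw_lt M iv hI w hw c h
    · rcases List.mem_append.mp h with h | h
      · exact hwt c h
      · exact hw c h
  rw [wappS_eq, ← ract_elt M _ hl b (hbs b hb), M.elt_append, M.elt_append,
    elt_invw M iv hI w hw, mul_assoc]

/-- **lower bound for a conjugacy class** -/
theorem card_class_ge (hI : InvMap M iv) (hwt : ∀ c ∈ wt, c < M.nl) (hbs : ∀ b ∈ bs, b < M.n)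
    (ws : List (List ℕ)) (hws : ∀ w ∈ ws, ∀ c ∈ w, c < M.nl)
    (hk : (ws.map (keyC iv wt bs M.px)).Nodup) :
    ws.length * Nat.card (Subgroup.centralizer ({M.elt wt} : Set M.G)) ≤ Nat.card M.G := by
  classical
  set t := M.elt wt with ht
  set C := Subgroup.centralizer ({t} : Set M.G) with hC
  have hnd : ws.Nodup := List.Nodup.of_map _ hk
  let q : List ℕ → M.G ⧸ C := fun w => QuotientGroup.mk (M.elt w)⁻¹
  have hq : (ws.map q).Nodup := by
    apply List.Nodup.map_on _ hnd
    intro w hw w' hw' e
    apply List.inj_on_of_nodup_map hk hw hw'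
    rw [keyC_eq hI hwt hbs w (hws w hw), keyC_eq hI hwt hbs w' (hws w' hw')]
    congr 1
    have e1 : ((M.elt w)⁻¹)⁻¹ * (M.elt w')⁻¹ ∈ C := QuotientGroup.eq.mp e
    rw [inv_inv, hC, Subgroup.mem_centralizer_iff] at e1
    have e2 := e1 t rfl
    -- `t * (g * g'⁻¹) = (g * g'⁻¹) * t`
    calc (M.elt w)⁻¹ * t * M.elt w
        = (M.elt w)⁻¹ * (t * (M.elt w * (M.elt w')⁻¹)) * M.elt w' := by group
      _ = (M.elt w)⁻¹ * ((M.elt w * (M.elt w')⁻¹) * t) * M.elt w' := by rw [e2]
      _ = (M.elt w')⁻¹ * t * M.elt w' := by group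
  have hfin : Finite (M.G ⧸ C) := inferInstance
  letI : Fintype (M.G ⧸ C) := Fintype.ofFinite _
  have hle : ws.length ≤ Nat.card (M.G ⧸ C) := by
    rw [Nat.card_eq_fintype_card]
    have := List.Nodup.length_le_card hq
    rwa [List.length_map] at this
  have hmul := Subgroup.card_eq_card_quotient_mul_card_subgroup C
  rw [hmul]
  exact Nat.mul_le_mul_right _ hle

/-! ### The check in pieces -/

variable (iv wt bs)

/-- the check of a piece: the letters of the words and their keys -/
noncomputable def chkPiece (px : ℕ → ℕ → ℕ) (nl : ℕ) (ws : List (List ℕ)) (ks : List ℕ) : Bool :=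
  (ws.all fun w => w.all fun c => Nat.blt c nl) && decide (ws.map (keyC iv wt bs px) = ks)

theorem pieces_spec (px : ℕ → ℕ → ℕ) (nl : ℕ) :
    ∀ (A : List (List (List ℕ))) (B : List (List ℕ)), A.length = B.length →
    (∀ p ∈ A.zip B, chkPiece iv wt bs px nl p.1 p.2 = true) →
    (∀ w ∈ A.flatten, ∀ c ∈ w, c < nl) ∧ A.flatten.map (keyC iv wt bs px) = B.flatten
  | [], [], _, _ => ⟨fun w hw => absurd hw (by simp), rfl⟩
  | [], _ :: _, h, _ => by simp at h
  | _ :: _, [], h, _ => by simp at h
  | a :: A, b :: B, h, hp => by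
    have h0 := hp (a, b) (by simp)
    unfold chkPiece at h0
    rw [Bool.and_eq_true, decide_eq_true_eq, List.all_eq_true] at h0
    have ih := pieces_spec px nl A B (by simpa using h) (fun p hp' => hp p (by
      rw [List.zip_cons_cons]; exact List.mem_cons_of_mem _ hp'))
    constructor
    · intro w hw
      rw [List.flatten_cons, List.mem_append] at hw
      rcases hw with hw | hw
      · intro c hc
        have := h0.1 w hw
        rw [List.all_eq_true] at this
        have := this c hc
        rwa [Nat.blt_eq] at this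
      · exact ih.1 w hw
    · rw [List.flatten_cons, List.flatten_cons, List.map_append, h0.2, ih.2]

variable (M)

/-- **upper bound for a centralizer from a certificate in pieces** -/
theorem card_centralizer_le (hI : InvMap M iv) (hwt : ∀ c ∈ wt, c < M.nl)
    (hbs : ∀ b ∈ bs, b < M.n) (A : List (List (List ℕ))) (B : List (List ℕ))
    (hlen : A.length = B.length)
    (hp : ∀ p ∈ A.zip B, chkPiece iv wt bs M.px M.nl p.1 p.2 = true)
    (hincr : isIncr B.flatten = true) :
    B.flatten.length * Nat.card (Subgroup.centralizer ({M.elt wt} : Set M.G)) ≤ Nat.card M.G := by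
  obtain ⟨h1, h2⟩ := pieces_spec iv wt bs M.px M.nl A B hlen hp
  have hk : (A.flatten.map (keyC iv wt bs M.px)).Nodup := by
    rw [h2]
    exact nodup_of_isIncr _ hincr
  have := card_class_ge hI hwt hbs A.flatten h1 hk
  rwa [← List.length_map (f := keyC iv wt bs M.px), h2] at this

end Cfsg.Agent.Lib.Helper7.McLC
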