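import Mathlib
import Cfsg.Agent.Lib.Helper1.Co2B9
import Cfsg.Agent.Lib.Helper7.McLC4
import Cfsg.Agent.Lib.Helper7.Co2C3

set_option autoImplicit false
set_option maxRecDepth 100000

/-! The involution centralizer of the second Conway group: the model with the new letters and
the kernel checks of the tables. -/

namespace Cfsg.Agent.Lib.Helper7.Co2C

open Cfsg
open Cfsg.Agent.Lib.Helper6.TC Cfsg.Agent.Lib.Helper6.PM Cfsg.Agent.Lib.Helper2.PMS
open Cfsg.Agent.Lib.Helper5.Chain Cfsg.Agent.Lib.Helper1.Co2B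

theorem chk_slp2' : chkSLP pm 2300 20 ds2 pm2 = true := by decide +kernel

theorem chk_slp2 : chkSLP co2S.px co2S.n co2S.nl ds2 pm2 = true := by
  rw [co2S_nl]
  exact chk_slp2'

/-- the model of the second Conway group with 33 letters -/
noncomputable def co2T : PModel := slpModel co2S ds2 pm2 chk_slp2

theorem co2T_G : co2T.G = ↥Cfsg.Spor.Co2 := rfl

theorem co2T_n : co2T.n = 2300 := rfl

theorem co2T_nl : co2T.nl = 33 := by
  have := slpModel_nl co2S ds2 pm2 chk_slp2
  rw [co2S_nl] at this
  exact this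

theorem co2T_px : co2T.px = pm2 := rfl

/-- the inverse letters -/
def iv2 (c : ℕ) : ℕ := ivL2.getD c 0

theorem chk_inv2' : ((List.range 33).all fun c => Nat.blt (ivL2.getD c 0) 33 &&
    (List.range 2300).all fun q => Nat.beq (pm2 (ivL2.getD c 0) (pm2 c q)) q) = true := by
  decide +kernel

theorem invMap2 : InvMap co2T iv2 := by
  apply invMap_of_chkInvL
  unfold chkInvL
  rw [co2T_nl]
  exact chk_inv2'

end Cfsg.Agent.Lib.Helper7.Co2C
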