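import Mathlib
import Cfsg.Agent.Lib.Helper7.Co2C4

set_option autoImplicit false
set_option maxRecDepth 100000

/-! The involution centralizer of the second Conway group: the kernel checks of the conjugacy class
of the involution (56925 conjugates with different keys). -/

namespace Cfsg.Agent.Lib.Helper7.Co2C

open Cfsg
open Cfsg.Agent.Lib.Helper6.TC Cfsg.Agent.Lib.Helper6.PM Cfsg.Agent.Lib.Helper2.PMS
open Cfsg.Agent.Lib.Helper5.Chain Cfsg.Agent.Lib.Helper7.McLC

/-- the points of the keys -/
def bsC : List ℕ := [0, 556, 562, 613, 1, 3]

/-- the conjugating words, decoded -/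
def wsA2 : List (List (List ℕ)) := wcA.map fun l => l.map decW

theorem piece0 : chkPiece iv2 [20] bsC pm2 33 (wcP0.map decW) ksP0 = true := by decide +kernel

theorem piece1 : chkPiece iv2 [20] bsC pm2 33 (wcP1.map decW) ksP1 = true := by decide +kernel

theorem piece2 : chkPiece iv2 [20] bsC pm2 33 (wcP2.map decW) ksP2 = true := by decide +kernel

theorem piece3 : chkPiece iv2 [20] bsC pm2 33 (wcP3.map decW) ksP3 = true := by decide +kernel

theorem piece4 : chkPiece iv2 [20] bsC pm2 33 (wcP4.map decW) ksP4 = true := by decide +kernel

theorem piece5 : chkPiece iv2 [20] bsC pm2 33 (wcP5.map decW) ksP5 = true := by decide +kernel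

theorem piece6 : chkPiece iv2 [20] bsC pm2 33 (wcP6.map decW) ksP6 = true := by decide +kernel

theorem piece7 : chkPiece iv2 [20] bsC pm2 33 (wcP7.map decW) ksP7 = true := by decide +kernel

theorem piece8 : chkPiece iv2 [20] bsC pm2 33 (wcP8.map decW) ksP8 = true := by decide +kernel

theorem piece9 : chkPiece iv2 [20] bsC pm2 33 (wcP9.map decW) ksP9 = true := by decide +kernel

theorem piece10 : chkPiece iv2 [20] bsC pm2 33 (wcP10.map decW) ksP10 = true := by decide +kernel

theorem piece11 : chkPiece iv2 [20] bsC pm2 33 (wcP11.map decW) ksP11 = true := by decide +kernel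

theorem piece12 : chkPiece iv2 [20] bsC pm2 33 (wcP12.map decW) ksP12 = true := by decide +kernel

theorem piece13 : chkPiece iv2 [20] bsC pm2 33 (wcP13.map decW) ksP13 = true := by decide +kernel

theorem piece14 : chkPiece iv2 [20] bsC pm2 33 (wcP14.map decW) ksP14 = true := by decide +kernel

theorem piece15 : chkPiece iv2 [20] bsC pm2 33 (wcP15.map decW) ksP15 = true := by decide +kernel

theorem piece16 : chkPiece iv2 [20] bsC pm2 33 (wcP16.map decW) ksP16 = true := by decide +kernel

theorem piece17 : chkPiece iv2 [20] bsC pm2 33 (wcP17.map decW) ksP17 = true := by decide +kernel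

theorem piece18 : chkPiece iv2 [20] bsC pm2 33 (wcP18.map decW) ksP18 = true := by decide +kernel

theorem piece19 : chkPiece iv2 [20] bsC pm2 33 (wcP19.map decW) ksP19 = true := by decide +kernel

theorem piece20 : chkPiece iv2 [20] bsC pm2 33 (wcP20.map decW) ksP20 = true := by decide +kernel

theorem piece21 : chkPiece iv2 [20] bsC pm2 33 (wcP21.map decW) ksP21 = true := by decide +kernel

theorem piece22 : chkPiece iv2 [20] bsC pm2 33 (wcP22.map decW) ksP22 = true := by decide +kernel

theorem piece23 : chkPiece iv2 [20] bsC pm2 33 (wcP23.map decW) ksP23 = true := by decide +kernel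

theorem piece24 : chkPiece iv2 [20] bsC pm2 33 (wcP24.map decW) ksP24 = true := by decide +kernel

theorem piece25 : chkPiece iv2 [20] bsC pm2 33 (wcP25.map decW) ksP25 = true := by decide +kernel

theorem piece26 : chkPiece iv2 [20] bsC pm2 33 (wcP26.map decW) ksP26 = true := by decide +kernel

theorem piece27 : chkPiece iv2 [20] bsC pm2 33 (wcP27.map decW) ksP27 = true := by decide +kernel

theorem piece28 : chkPiece iv2 [20] bsC pm2 33 (wcP28.map decW) ksP28 = true := by decide +kernel

theorem piece29 : chkPiece iv2 [20] bsC pm2 33 (wcP29.map decW) ksP29 = true := by decide +kernel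

theorem piece30 : chkPiece iv2 [20] bsC pm2 33 (wcP30.map decW) ksP30 = true := by decide +kernel

theorem piece31 : chkPiece iv2 [20] bsC pm2 33 (wcP31.map decW) ksP31 = true := by decide +kernel

theorem piece32 : chkPiece iv2 [20] bsC pm2 33 (wcP32.map decW) ksP32 = true := by decide +kernel

theorem piece33 : chkPiece iv2 [20] bsC pm2 33 (wcP33.map decW) ksP33 = true := by decide +kernel

theorem piece34 : chkPiece iv2 [20] bsC pm2 33 (wcP34.map decW) ksP34 = true := by decide +kernel

theorem piece35 : chkPiece iv2 [20] bsC pm2 33 (wcP35.map decW) ksP35 = true := by decide +kernel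

theorem piece36 : chkPiece iv2 [20] bsC pm2 33 (wcP36.map decW) ksP36 = true := by decide +kernel

theorem piece37 : chkPiece iv2 [20] bsC pm2 33 (wcP37.map decW) ksP37 = true := by decide +kernel

theorem piece38 : chkPiece iv2 [20] bsC pm2 33 (wcP38.map decW) ksP38 = true := by decide +kernel

theorem piece39 : chkPiece iv2 [20] bsC pm2 33 (wcP39.map decW) ksP39 = true := by decide +kernel

theorem piece40 : chkPiece iv2 [20] bsC pm2 33 (wcP40.map decW) ksP40 = true := by decide +kernel

theorem piece41 : chkPiece iv2 [20] bsC pm2 33 (wcP41.map decW) ksP41 = true := by decide +kernel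

theorem piece42 : chkPiece iv2 [20] bsC pm2 33 (wcP42.map decW) ksP42 = true := by decide +kernel

theorem piece43 : chkPiece iv2 [20] bsC pm2 33 (wcP43.map decW) ksP43 = true := by decide +kernel

theorem piece44 : chkPiece iv2 [20] bsC pm2 33 (wcP44.map decW) ksP44 = true := by decide +kernel

theorem piece45 : chkPiece iv2 [20] bsC pm2 33 (wcP45.map decW) ksP45 = true := by decide +kernel

theorem piece46 : chkPiece iv2 [20] bsC pm2 33 (wcP46.map decW) ksP46 = true := by decide +kernel

theorem piece47 : chkPiece iv2 [20] bsC pm2 33 (wcP47.map decW) ksP47 = true := by decide +kernel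

theorem piece48 : chkPiece iv2 [20] bsC pm2 33 (wcP48.map decW) ksP48 = true := by decide +kernel

theorem piece49 : chkPiece iv2 [20] bsC pm2 33 (wcP49.map decW) ksP49 = true := by decide +kernel

theorem piece50 : chkPiece iv2 [20] bsC pm2 33 (wcP50.map decW) ksP50 = true := by decide +kernel

theorem piece51 : chkPiece iv2 [20] bsC pm2 33 (wcP51.map decW) ksP51 = true := by decide +kernel

theorem piece52 : chkPiece iv2 [20] bsC pm2 33 (wcP52.map decW) ksP52 = true := by decide +kernel

theorem piece53 : chkPiece iv2 [20] bsC pm2 33 (wcP53.map decW) ksP53 = true := by decide +kernel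

theorem piece54 : chkPiece iv2 [20] bsC pm2 33 (wcP54.map decW) ksP54 = true := by decide +kernel

theorem piece55 : chkPiece iv2 [20] bsC pm2 33 (wcP55.map decW) ksP55 = true := by decide +kernel

theorem piece56 : chkPiece iv2 [20] bsC pm2 33 (wcP56.map decW) ksP56 = true := by decide +kernel

theorem pieces_ok : ∀ p ∈ wsA2.zip ksA, chkPiece iv2 [20] bsC pm2 33 p.1 p.2 = true := by
  intro p hp
  simp only [wsA2, wcA, ksA, List.map_cons, List.map_nil, List.zip_cons_cons, List.zip_nil_right,
    List.mem_cons, List.not_mem_nil, or_false] at hp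
  rcases hp with rfl | rfl | rfl | rfl | rfl | rfl | rfl | rfl | rfl | rfl | rfl | rfl | rfl | rfl | rfl | rfl | rfl | rfl | rfl | rfl | rfl | rfl | rfl | rfl | rfl | rfl | rfl | rfl | rfl | rfl | rfl | rfl | rfl | rfl | rfl | rfl | rfl | rfl | rfl | rfl | rfl | rfl | rfl | rfl | rfl | rfl | rfl | rfl | rfl | rfl | rfl | rfl | rfl | rfl | rfl | rfl | rfl
  · exact piece0
  · exact piece1
  · exact piece2
  · exact piece3
  · exact piece4
  · exact piece5
  · exact piece6
  · exact piece7
  · exact piece8
  · exact piece9
  · exact piece10
  · exact piece11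
  · exact piece12
  · exact piece13
  · exact piece14
  · exact piece15
  · exact piece16
  · exact piece17
  · exact piece18
  · exact piece19
  · exact piece20
  · exact piece21
  · exact piece22
  · exact piece23
  · exact piece24
  · exact piece25
  · exact piece26
  · exact piece27
  · exact piece28
  · exact piece29
  · exact piece30
  · exact piece31
  · exact piece32
  · exact piece33
  · exact piece34
  · exact piece35
  · exact piece36
  · exact piece37
  · exact piece38
  · exact piece39
  · exact piece40
  · exact piece41
  · exact piece42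
  · exact piece43
  · exact piece44
  · exact piece45
  · exact piece46
  · exact piece47
  · exact piece48
  · exact piece49
  · exact piece50
  · exact piece51
  · exact piece52
  · exact piece53
  · exact piece54
  · exact piece55
  · exact piece56

theorem ksA_incr : isIncr ksA.flatten = true := by decide +kernel

theorem ksA_length : ksA.flatten.length = 56925 := by decide +kernel

theorem wsA2_length : wsA2.length = ksA.length := by decide +kernel

end Cfsg.Agent.Lib.Helper7.Co2C
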