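import Mathlib
import Cfsg.Agent.Lib.Helper7.AltMul3
import Cfsg.Agent.Lib.Helper7.DCov1

set_option autoImplicit false

/-! The double cover of the alternating group of degree 8 as a presented group. -/

namespace Cfsg.Agent.Lib.Helper7.DCov

open Cfsg.Agent.Lib.Helper7.AltMul

/-- free generators: `none` is the central involution, `some i` the lifts of the three-cycles -/
abbrev fz : FreeGroup (Option (Fin 6)) := FreeGroup.of none
abbrev fy (i : Fin 6) : FreeGroup (Option (Fin 6)) := FreeGroup.of (some i)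

/-- relators of the double cover -/
def drels : Set (FreeGroup (Option (Fin 6))) :=
  {r | r = fz ^ 2 ∨ (∃ i, r = fz * fy i * fz⁻¹ * (fy i)⁻¹) ∨ (∃ i, r = fy i ^ 3) ∨
    ∃ i j, i ≠ j ∧ r = (fy i * fy j) ^ 2 * fz⁻¹}

/-- the double cover -/
abbrev DC : Type := PresentedGroup drels

def hz : DC := PresentedGroup.of none
def hy (i : Fin 6) : DC := PresentedGroup.of (some i)

theorem hz_sq : hz ^ 2 = 1 := by
  have : fz ^ 2 ∈ drels := Or.inl rfl
  have h := PresentedGroup.one_of_mem this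
  rwa [map_pow] at h

theorem hz_comm (i : Fin 6) : hz * hy i = hy i * hz := by
  have : fz * fy i * fz⁻¹ * (fy i)⁻¹ ∈ drels := Or.inr (Or.inl ⟨i, rfl⟩)
  have h := PresentedGroup.one_of_mem this
  rw [map_mul, map_mul, map_mul, map_inv, map_inv] at h
  have h' : hz * hy i * hz⁻¹ * (hy i)⁻¹ = 1 := h
  calc hz * hy i = (hz * hy i * hz⁻¹ * (hy i)⁻¹) * (hy i * hz) := by group
    _ = hy i * hz := by rw [h', one_mul]

theorem hy_cube (i : Fin 6) : hy i ^ 3 = 1 := by
  have : fy i ^ 3 ∈ drels := Or.inr (Or.inr (Or.inl ⟨i, rfl⟩))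
  have h := PresentedGroup.one_of_mem this
  rwa [map_pow] at h

theorem hy_mul_sq (i j : Fin 6) (hij : i ≠ j) : (hy i * hy j) ^ 2 = hz := by
  have : (fy i * fy j) ^ 2 * fz⁻¹ ∈ drels := Or.inr (Or.inr (Or.inr ⟨i, j, hij, rfl⟩))
  have h := PresentedGroup.one_of_mem this
  rw [map_mul, map_pow, map_mul, map_inv] at h
  exact mul_inv_eq_one.mp h

/-- homomorphisms out of the double cover -/
theorem lift_drels {G : Type*} [Group G] (z : G) (y : Fin 6 → G) (hz2 : z ^ 2 = 1)
    (hzy : ∀ i, z * y i = y i * z) (hy3 : ∀ i, y i ^ 3 = 1)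
    (hyy : ∀ i j, i ≠ j → (y i * y j) ^ 2 = z) :
    ∀ r ∈ drels, FreeGroup.lift (fun o : Option (Fin 6) => o.elim z y) r = 1 := by
  rintro r (rfl | ⟨i, rfl⟩ | ⟨i, rfl⟩ | ⟨i, j, hij, rfl⟩)
  · rw [map_pow, FreeGroup.lift_apply_of]; exact hz2
  · rw [map_mul, map_mul, map_mul, map_inv, map_inv, FreeGroup.lift_apply_of,
      FreeGroup.lift_apply_of]
    show z * y i * z⁻¹ * (y i)⁻¹ = 1
    rw [hzy i]; group
  · rw [map_pow, FreeGroup.lift_apply_of]; exact hy3 i
  · rw [map_mul, map_pow, map_mul, map_inv, FreeGroup.lift_apply_of, FreeGroup.lift_apply_of,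
      FreeGroup.lift_apply_of]
    show (y i * y j) ^ 2 * z⁻¹ = 1
    rw [hyy i j hij, mul_inv_cancel]

/-- the homomorphism from the double cover attached to a family satisfying the relations -/
def dlift {G : Type*} [Group G] (z : G) (y : Fin 6 → G) (hz2 : z ^ 2 = 1)
    (hzy : ∀ i, z * y i = y i * z) (hy3 : ∀ i, y i ^ 3 = 1)
    (hyy : ∀ i j, i ≠ j → (y i * y j) ^ 2 = z) : DC →* G :=
  PresentedGroup.toGroup (lift_drels z y hz2 hzy hy3 hyy)

theorem dlift_hz {G : Type*} [Group G] (z : G) (y : Fin 6 → G) (hz2 : z ^ 2 = 1)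
    (hzy : ∀ i, z * y i = y i * z) (hy3 : ∀ i, y i ^ 3 = 1)
    (hyy : ∀ i j, i ≠ j → (y i * y j) ^ 2 = z) : dlift z y hz2 hzy hy3 hyy hz = z :=
  PresentedGroup.toGroup.of _

theorem dlift_hy {G : Type*} [Group G] (z : G) (y : Fin 6 → G) (hz2 : z ^ 2 = 1)
    (hzy : ∀ i, z * y i = y i * z) (hy3 : ∀ i, y i ^ 3 = 1)
    (hyy : ∀ i j, i ≠ j → (y i * y j) ^ 2 = z) (i : Fin 6) :
    dlift z y hz2 hzy hy3 hyy (hy i) = y i :=
  PresentedGroup.toGroup.of _

/-- generation -/
theorem closure_gens : Subgroup.closure ({hz} ∪ Set.range hy : Set DC) = ⊤ := by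
  rw [eq_top_iff, ← PresentedGroup.closure_range_of drels, Subgroup.closure_le]
  rintro _ ⟨o, rfl⟩
  cases o with
  | none => exact Subgroup.subset_closure (Or.inl rfl)
  | some i => exact Subgroup.subset_closure (Or.inr ⟨i, rfl⟩)

theorem hz_central : hz ∈ Subgroup.center DC := by
  rw [Subgroup.mem_center_iff]
  intro g
  have hg : g ∈ Subgroup.closure ({hz} ∪ Set.range hy : Set DC) := by
    rw [closure_gens]; trivial
  have : g ∈ Subgroup.centralizer ({hz} : Set DC) := by
    refine (Subgroup.closure_le _).mpr ?_ hg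
    rintro x (hx | ⟨i, rfl⟩)
    · rw [Set.mem_singleton_iff] at hx
      rw [hx, SetLike.mem_coe, Subgroup.mem_centralizer_iff]
      intro h hh
      rw [Set.mem_singleton_iff] at hh
      rw [hh]
    · rw [SetLike.mem_coe, Subgroup.mem_centralizer_iff]
      intro h hh
      rw [Set.mem_singleton_iff] at hh
      rw [hh]
      exact hz_comm i
  rw [Subgroup.mem_centralizer_iff] at this
  exact (this hz rfl).symm

/-- the projection onto the alternating group -/
def proj : DC →* alternatingGroup (Fin 8) :=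
  dlift 1 (cgen 6) (one_pow 2) (fun i => by rw [one_mul, mul_one]) (cgen_pow_three 6)
    (cgen_mul_sq 6)

theorem proj_hz : proj hz = 1 := dlift_hz _ _ _ _ _ _
theorem proj_hy (i : Fin 6) : proj (hy i) = cgen 6 i := dlift_hy _ _ _ _ _ _ i

theorem proj_surjective : Function.Surjective proj := by
  rw [← MonoidHom.range_eq_top, eq_top_iff, ← closure_range_cgen 6, Subgroup.closure_le]
  rintro _ ⟨i, rfl⟩
  exact ⟨hy i, proj_hy i⟩

/-- the model -/
def model : DC →* Equiv.Perm (Fin 240) :=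
  dlift mz my (by rw [pow_two]; exact mz_sq) mz_comm
    (fun i => by rw [pow_succ, pow_two]; rw [mul_assoc]; exact my_cube i)
    (fun i j hij => by rw [pow_two]; exact my_mul_sq i j hij)

theorem model_hz : model hz = mz := dlift_hz _ _ _ _ _ _
theorem model_hy (i : Fin 6) : model (hy i) = my i := dlift_hy _ _ _ _ _ _ i

theorem hz_ne_one : hz ≠ 1 := by
  intro h
  have := model_hz
  rw [h, map_one] at this
  exact mz_ne_one this.symm

theorem orderOf_hz : orderOf hz = 2 :=
  orderOf_eq_prime hz_sq hz_ne_one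

end Cfsg.Agent.Lib.Helper7.DCov
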