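import Mathlib
import Cfsg.Agent.Lib.Helper7.DCov2
import Cfsg.Prelude.Def_SporadicB

set_option autoImplicit false

/-! The presented double cover of `A_8` is a non-split double cover with two involutions. -/

namespace Cfsg.Agent.Lib.Helper7.DCov

open Cfsg.Agent.Lib.Helper7.AltMul

/-- the central subgroup of order two -/
def zN : Subgroup DC := Subgroup.zpowers hz

theorem zN_le_center : zN ≤ Subgroup.center DC :=
  Subgroup.zpowers_le.mpr hz_central

instance zN_normal : zN.Normal :=
  ⟨fun n hn g => by
    have := Subgroup.mem_center_iff.mp (zN_le_center hn) g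
    rw [this, mul_assoc, mul_inv_cancel, mul_one]; exact hn⟩

theorem card_zN : Nat.card zN = 2 := by
  unfold zN
  rw [Nat.card_zpowers, orderOf_hz]

theorem zN_le_ker : zN ≤ proj.ker := by
  unfold zN
  rw [Subgroup.zpowers_le, MonoidHom.mem_ker]
  exact proj_hz

theorem mem_zN_iff (g : DC) : g ∈ zN ↔ g = 1 ∨ g = hz := by
  constructor
  · intro hg
    obtain ⟨k, rfl⟩ := Subgroup.mem_zpowers_iff.mp hg
    rcases Int.emod_two_eq_zero_or_one k with h | h
    · left
      have : k = 2 * (k / 2) := by omega
      rw [this, zpow_mul, zpow_ofNat, hz_sq, one_zpow]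
    · right
      have : k = 2 * (k / 2) + 1 := by omega
      rw [this, zpow_add, zpow_mul, zpow_ofNat, hz_sq, one_zpow, one_mul, zpow_one]
  · rintro (rfl | rfl)
    · exact Subgroup.one_mem _
    · exact Subgroup.mem_zpowers _

/-- the quotient satisfies Carmichael's relations -/
theorem quot_card : Finite (DC ⧸ zN) ∧ 2 * Nat.card (DC ⧸ zN) ≤ (6 + 2).factorial := by
  apply card_le 6 (fun i => (QuotientGroup.mk (hy i) : DC ⧸ zN))
  · intro i
    rw [← QuotientGroup.mk_pow, hy_cube]; rfl
  · intro i j hij
    rw [← QuotientGroup.mk_mul, ← QuotientGroup.mk_pow, hy_mul_sq i j hij]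
    exact (QuotientGroup.eq_one_iff hz).mpr (show hz ∈ zN from Subgroup.mem_zpowers _)
  · rw [eq_top_iff]
    rintro q -
    obtain ⟨g, rfl⟩ := QuotientGroup.mk_surjective q
    have hg : g ∈ Subgroup.closure ({hz} ∪ Set.range hy : Set DC) := by
      rw [closure_gens]; trivial
    induction hg using Subgroup.closure_induction with
    | mem x hx =>
      rcases hx with hx | ⟨i, rfl⟩
      · rw [Set.mem_singleton_iff] at hx
        have h1 : (QuotientGroup.mk hz : DC ⧸ zN) = 1 :=
          (QuotientGroup.eq_one_iff hz).mpr (show hz ∈ zN from Subgroup.mem_zpowers _)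
        rw [hx, h1]
        exact Subgroup.one_mem _
      · exact Subgroup.subset_closure ⟨i, rfl⟩
    | one => exact Subgroup.one_mem _
    | mul x y _ _ hx hy => rw [QuotientGroup.mk_mul]; exact Subgroup.mul_mem _ hx hy
    | inv x _ hx => rw [QuotientGroup.mk_inv]; exact Subgroup.inv_mem _ hx

instance finite_quot : Finite (DC ⧸ zN) := quot_card.1

instance finite_zN : Finite zN := Nat.finite_of_card_ne_zero (by rw [card_zN]; norm_num)

instance finite_DC : Finite DC := Finite.of_subgroup_quotient zN

theorem card_DC : Nat.card DC = 40320 := by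
  have h1 : Nat.card DC = Nat.card (DC ⧸ zN) * Nat.card zN :=
    Subgroup.card_eq_card_quotient_mul_card_subgroup zN
  have h2 := quot_card.2
  have h3 : (6 + 2).factorial = 40320 := by decide
  -- lower bound from surjectivity
  have h4 : Nat.card (alternatingGroup (Fin 8)) ≤ Nat.card (DC ⧸ zN) := by
    have hs : Function.Surjective (QuotientGroup.lift zN proj zN_le_ker) := by
      intro a
      obtain ⟨g, rfl⟩ := proj_surjective a
      exact ⟨QuotientGroup.mk g, rfl⟩
    exact Nat.card_le_card_of_surjective _ hs
  have h5 : 2 * Nat.card (alternatingGroup (Fin 8)) = (6 + 2).factorial := card_alt 6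
  rw [card_zN] at h1
  omega

theorem ker_proj : proj.ker = zN := by
  symm
  apply Subgroup.eq_of_le_of_card_ge zN_le_ker
  have h1 : Nat.card DC = Nat.card (DC ⧸ proj.ker) * Nat.card proj.ker :=
    Subgroup.card_eq_card_quotient_mul_card_subgroup proj.ker
  have h2 : Nat.card (DC ⧸ proj.ker) = Nat.card (alternatingGroup (Fin 8)) :=
    Nat.card_congr (QuotientGroup.quotientKerEquivOfSurjective proj proj_surjective).toEquiv
  have h5 : 2 * Nat.card (alternatingGroup (Fin 8)) = (6 + 2).factorial := card_alt 6
  have h3 : (6 + 2).factorial = 40320 := by decide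
  rw [h2, card_DC] at h1
  rw [card_zN]
  have : Nat.card (alternatingGroup (Fin 8)) = 20160 := by omega
  rw [this] at h1
  omega

theorem center_eq : Subgroup.center DC = zN := by
  apply le_antisymm _ zN_le_center
  intro c hc
  rw [← ker_proj, MonoidHom.mem_ker]
  have hcen : proj c ∈ Subgroup.center (alternatingGroup (Fin 8)) := by
    rw [Subgroup.mem_center_iff]
    intro a
    obtain ⟨g, rfl⟩ := proj_surjective a
    rw [← map_mul, ← map_mul, Subgroup.mem_center_iff.mp hc g]
  have hsimple : IsSimpleGroup (alternatingGroup (Fin 8)) :=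
    alternatingGroup.isSimpleGroup (by rw [card_fin_add_two 6]; norm_num)
  have hbot : Subgroup.center (alternatingGroup (Fin 8)) = ⊥ := by
    rcases (inferInstance : (Subgroup.center (alternatingGroup (Fin 8))).Normal).eq_bot_or_eq_top
      with h | h
    · exact h
    · exfalso
      -- the alternating group of degree 8 is not abelian
      have hperf := alt_perfect 6 (by norm_num)
      have hab : ∀ a b : alternatingGroup (Fin 8), a * b = b * a := by
        intro a b
        have ha : a ∈ Subgroup.center (alternatingGroup (Fin 8)) := by rw [h]; trivial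
        exact (Subgroup.mem_center_iff.mp ha b).symm
      have : commutator (alternatingGroup (Fin 8)) = ⊥ := by
        rw [commutator_def, Subgroup.commutator_eq_bot_iff_le_centralizer]
        intro a _
        rw [Subgroup.mem_centralizer_iff]
        intro b _
        exact hab b a
      rw [this] at hperf
      have h2 : (1 : ℕ) = Nat.card (alternatingGroup (Fin 8)) := by
        rw [← Subgroup.card_top (G := alternatingGroup (Fin 8)), ← hperf, Subgroup.card_bot]
      have h5 : 2 * Nat.card (alternatingGroup (Fin 8)) = (6 + 2).factorial := card_alt 6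
      have h3 : (6 + 2).factorial = 40320 := by decide
      omega
  rw [hbot, Subgroup.mem_bot] at hcen
  exact hcen

end Cfsg.Agent.Lib.Helper7.DCov
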