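import Mathlib
import Cfsg.Agent.Lib.Helper7.DCov3
import Cfsg.Prelude.Def_SporadicB

set_option autoImplicit false

/-! The presented double cover of `A_8` is a non-split double cover with two involutions. -/

namespace Cfsg.Agent.Lib.Helper7.DCov

open Cfsg.Agent.Lib.Helper7.AltMul

theorem card_alt8' : Nat.card (alternatingGroup (Fin 8)) = 20160 := by
  have h5 : 2 * Nat.card (alternatingGroup (Fin 8)) = (6 + 2).factorial := card_alt 6
  have h3 : (6 + 2).factorial = 40320 := by decide
  omega

theorem nonsplit (L : Subgroup DC) : ¬ (Subgroup.center DC).IsComplement' L := by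
  intro hL
  have hcard := hL.card_mul_card
  rw [center_eq, card_zN, card_DC] at hcard
  have hidx : L.index = 2 := by
    have := Subgroup.card_mul_index L
    rw [card_DC] at this
    have h2 : Nat.card L = 20160 := by omega
    rw [h2] at this
    omega
  have hn : L.Normal := Subgroup.normal_of_index_eq_two hidx
  have hq : Nat.card (DC ⧸ L) = 2 := by rw [← Subgroup.index_eq_card]; exact hidx
  have hmem : ∀ i, hy i ∈ L := by
    intro i
    rw [← QuotientGroup.eq_one_iff]
    have h2 : (QuotientGroup.mk (hy i) : DC ⧸ L) ^ 2 = 1 := by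
      have := pow_card_eq_one' (G := DC ⧸ L) (x := QuotientGroup.mk (hy i))
      rwa [hq] at this
    have h3 : (QuotientGroup.mk (hy i) : DC ⧸ L) ^ 3 = 1 := by
      rw [← QuotientGroup.mk_pow, hy_cube]; rfl
    calc (QuotientGroup.mk (hy i) : DC ⧸ L) = (QuotientGroup.mk (hy i)) ^ 3 *
          ((QuotientGroup.mk (hy i)) ^ 2)⁻¹ := by group
      _ = 1 := by rw [h2, h3, inv_one, mul_one]
  have hzL : hz ∈ L := by
    rw [← hy_mul_sq 0 1 (by decide)]
    exact Subgroup.pow_mem _ (Subgroup.mul_mem _ (hmem 0) (hmem 1)) 2
  have hzc : hz ∈ Subgroup.center DC := hz_central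
  have : hz ∈ Subgroup.center DC ⊓ L := ⟨hzc, hzL⟩
  rw [hL.disjoint.eq_bot, Subgroup.mem_bot] at this
  exact hz_ne_one this

theorem model_injective : Function.Injective model := by
  rw [← MonoidHom.ker_eq_bot_iff]
  -- the kernel meets the centre trivially
  have hdisj : Disjoint (Subgroup.center DC) model.ker := by
    rw [Subgroup.disjoint_def]
    intro g hg hk
    rw [center_eq, mem_zN_iff] at hg
    rcases hg with rfl | rfl
    · rfl
    · exfalso
      rw [MonoidHom.mem_ker, model_hz] at hk
      exact mz_ne_one hk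
  have hsimple : IsSimpleGroup (alternatingGroup (Fin 8)) :=
    alternatingGroup.isSimpleGroup (by rw [card_fin_add_two 6]; norm_num)
  have hnorm : (model.ker.map proj).Normal :=
    Subgroup.Normal.map model.normal_ker proj proj_surjective
  have hinj : Function.Injective (proj.comp model.ker.subtype) := by
    rw [← MonoidHom.ker_eq_bot_iff, eq_bot_iff]
    intro g hg
    rw [MonoidHom.mem_ker, MonoidHom.comp_apply] at hg
    have h1 : (g : DC) ∈ proj.ker := hg
    rw [ker_proj, ← center_eq] at h1
    have h2 : (g : DC) ∈ Subgroup.center DC ⊓ model.ker := ⟨h1, g.2⟩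
    rw [hdisj.eq_bot, Subgroup.mem_bot] at h2
    rw [Subgroup.mem_bot]
    exact Subtype.ext h2
  rcases hnorm.eq_bot_or_eq_top with h | h
  · rw [eq_bot_iff]
    intro g hg
    have h1 : proj g ∈ model.ker.map proj := ⟨g, hg, rfl⟩
    rw [h, Subgroup.mem_bot] at h1
    have h2 : (⟨g, hg⟩ : model.ker) = 1 := by
      apply hinj
      rw [map_one]
      exact h1
    rw [Subgroup.mem_bot]
    exact congrArg Subtype.val h2
  · exfalso
    apply nonsplit model.ker
    apply Subgroup.isComplement'_of_card_mul_and_disjoint _ hdisj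
    have hc : Nat.card model.ker = Nat.card (alternatingGroup (Fin 8)) := by
      have hb : Function.Bijective (proj.comp model.ker.subtype) := by
        refine ⟨hinj, ?_⟩
        intro a
        have ha : a ∈ model.ker.map proj := by rw [h]; trivial
        obtain ⟨g, hg, rfl⟩ := ha
        exact ⟨⟨g, hg⟩, rfl⟩
      exact Nat.card_congr (Equiv.ofBijective _ hb)
    rw [hc, center_eq, card_zN, card_alt8', card_DC]

/-- the second involution -/
def hw : DC := hy 0 * hy 2 * hy 1 * hy 3 * hy 0 * hy 2 * hy 5 * hy 4

theorem model_hw : model hw = mw := by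
  unfold hw mw
  simp only [map_mul, model_hy]

theorem hw_sq : hw ^ 2 = 1 := by
  apply model_injective
  rw [map_pow, model_hw, map_one, pow_two, mw_sq]

theorem hw_ne_one : hw ≠ 1 := by
  intro h
  have := model_hw
  rw [h, map_one] at this
  exact mw_ne_one this.symm

theorem hw_ne_hz : hw ≠ hz := by
  intro h
  have := model_hw
  rw [h, model_hz] at this
  exact mw_ne_mz this.symm

theorem orderOf_hw : orderOf hw = 2 := orderOf_eq_prime hw_sq hw_ne_one

theorem isNonsplitDoubleCover : Cfsg.IsNonsplitDoubleCover DC (alternatingGroup (Fin 8)) := by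
  refine ⟨?_, ?_, nonsplit⟩
  · rw [center_eq, card_zN]
  · have e : Subgroup.center DC = proj.ker := center_eq.trans ker_proj.symm
    exact ⟨(QuotientGroup.quotientMulEquivOfEq e).trans
      (QuotientGroup.quotientKerEquivOfSurjective proj proj_surjective)⟩

/-- **Existence**: a non-split double cover of `A_8` with two involutions. -/
theorem exists_cover_two_involutions :
    ∃ (H : Type) (_ : Group H) (_ : Finite H),
      Cfsg.IsNonsplitDoubleCover H (alternatingGroup (Fin 8)) ∧
        ∃ x y : H, x ≠ y ∧ orderOf x = 2 ∧ orderOf y = 2 :=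
  ⟨DC, inferInstance, inferInstance, isNonsplitDoubleCover, hw, hz, hw_ne_hz, orderOf_hw,
    orderOf_hz⟩

end Cfsg.Agent.Lib.Helper7.DCov
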