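import Mathlib
import Cfsg.Prelude.Def_SporadicB
import Cfsg.Prelude.Def_KGroupFacts
import Cfsg.Agent.Lib.Helper1.Stem13

set_option autoImplicit false

/-! Involutions of the non-split double covers of the alternating groups of degree at most 7:
generic part (complements, stem condition, conjugacy of involutions, transfer). -/

namespace Cfsg.Agent.Lib.Helper7.DCov

open Cfsg.Agent.Lib.Helper1.Stem Equiv
open scoped commutatorElement

section complement

variable {H : Type*} [Group H] [Finite H]

/-- a central subgroup of order two which meets the commutator subgroup trivially has a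
complement as soon as the index of their join is odd -/
theorem exists_complement_of_odd (Z : Subgroup H) (hZc : Z ≤ Subgroup.center H)
    (hZ2 : Nat.card Z = 2) (hdisj : Disjoint Z (commutator H))
    (hodd : ¬ 2 ∣ (commutator H ⊔ Z).index) : ∃ L : Subgroup H, Z.IsComplement' L := by
  haveI hZn : Z.Normal := by
    constructor
    intro z hz g
    have := Subgroup.mem_center_iff.mp (hZc hz) g
    rw [this, mul_assoc, mul_inv_cancel, mul_one]
    exact hz
  haveI : (commutator H ⊔ Z).Normal := Subgroup.sup_normal _ _
  set m := (commutator H ⊔ Z).index with hm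
  obtain ⟨k, hk⟩ : ∃ k, m = 2 * k + 1 := by
    have : m % 2 = 1 := by omega
    exact ⟨m / 2, by omega⟩
  have hsq : ∀ z ∈ Z, z ^ 2 = 1 := by
    intro z hz
    have := pow_card_eq_one' (G := Z) (x := ⟨z, hz⟩)
    rw [hZ2] at this
    exact congrArg Subtype.val this
  have hpm : ∀ z ∈ Z, z ^ m = z := by
    intro z hz
    rw [hk, pow_succ, pow_mul, hsq z hz, one_pow, one_mul]
  let f : H →* Abelianization H :=
    (powMonoidHom m : Abelianization H →* Abelianization H).comp Abelianization.of
  have hf : ∀ h : H, h ∈ f.ker ↔ h ^ m ∈ commutator H := by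
    intro h
    rw [MonoidHom.mem_ker]
    show (Abelianization.of h) ^ m = 1 ↔ _
    rw [← map_pow, ← MonoidHom.mem_ker, Abelianization.ker_of]
  refine ⟨f.ker, Subgroup.isComplement'_of_disjoint_and_mul_eq_univ ?_ ?_⟩
  · rw [Subgroup.disjoint_def]
    intro z hz hzL
    rw [hf, hpm z hz] at hzL
    exact Subgroup.disjoint_def.mp hdisj hz hzL
  · rw [Set.eq_univ_iff_forall]
    intro h
    have h1 : h ^ m ∈ commutator H ⊔ Z := Subgroup.pow_index_mem _ h
    rw [Subgroup.mem_sup_of_normal_right] at h1
    obtain ⟨c, hc, z, hz, hcz⟩ := h1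
    have hcomm : Commute h z := (Subgroup.mem_center_iff.mp (hZc hz) h)
    refine ⟨z, hz, h * z, ?_, ?_⟩
    · show h * z ∈ f.ker
      rw [hf, hcomm.mul_pow, ← hcz, hpm z hz, mul_assoc, ← pow_two, hsq z hz, mul_one]
      exact hc
    · show z * (h * z) = h
      rw [← mul_assoc, ← hcomm.eq, mul_assoc, ← pow_two, hsq z hz, mul_one]

/-- the stem condition for a centre of order two without complement -/
theorem center_le_commutator_of_nonsplit (hZ2 : Nat.card (Subgroup.center H) = 2)
    (hns : ∀ L : Subgroup H, ¬ (Subgroup.center H).IsComplement' L)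
    (hodd : ¬ 2 ∣ (commutator H ⊔ Subgroup.center H).index) :
    Subgroup.center H ≤ commutator H := by
  have h1 : Nat.card (Subgroup.center H ⊓ commutator H : Subgroup H) ∣ 2 := by
    rw [← hZ2]
    exact Subgroup.card_dvd_of_le inf_le_left
  rcases (Nat.dvd_prime Nat.prime_two).mp h1 with h | h
  · exfalso
    have hd : Disjoint (Subgroup.center H) (commutator H) := by
      rw [disjoint_iff]
      exact Subgroup.card_eq_one.mp h
    obtain ⟨L, hL⟩ := exists_complement_of_odd (Subgroup.center H) le_rfl hZ2 hd hodd
    exact hns L hL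
  · have : Subgroup.center H ⊓ commutator H = Subgroup.center H := by
      apply Subgroup.eq_of_le_of_card_ge inf_le_left
      rw [h, hZ2]
    rw [← this]
    exact inf_le_right

end complement

section perm

/-- an involution of an alternating group of degree at most `7` is a double transposition -/
theorem cycleType_of_involution {n : ℕ} (hn : n ≤ 7) (s : Perm (Fin n)) (h2 : s ^ 2 = 1)
    (h1 : s ≠ 1) (hs : Perm.sign s = 1) : s.cycleType = {2, 2} := by
  have : Fact (Nat.Prime 2) := ⟨Nat.prime_two⟩
  have ho : orderOf s = 2 := orderOf_eq_prime h2 h1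
  obtain ⟨k, hk⟩ := Perm.cycleType_prime_order (σ := s) (by rw [ho]; exact Nat.prime_two)
  rw [ho] at hk
  have hsum : s.cycleType.sum ≤ n := by
    have := Perm.sum_cycleType_le s
    rwa [Fintype.card_fin] at this
  rw [hk, Multiset.sum_replicate, smul_eq_mul] at hsum
  have hsign := Perm.sign_of_cycleType s
  rw [hs, hk, Multiset.sum_replicate, Multiset.card_replicate, smul_eq_mul] at hsign
  have hk3 : k ≤ 2 := by omega
  interval_cases k
  · exfalso; revert hsign; decide
  · rw [hk]; rfl
  · exfalso; revert hsign; decide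

/-- two double transpositions are conjugate under an even permutation -/
theorem exists_even_conj {α : Type*} [Fintype α] [DecidableEq α] (s t : Perm α)
    (hs : s.cycleType = {2, 2}) (ht : t.cycleType = {2, 2}) :
    ∃ g : Perm α, Perm.sign g = 1 ∧ g * s * g⁻¹ = t := by
  have hconj : IsConj s t := Perm.isConj_iff_cycleType_eq.mpr (hs.trans ht.symm)
  obtain ⟨g, hg⟩ := isConj_iff.mp hconj
  rcases Int.units_eq_one_or (Perm.sign g) with h | h
  · exact ⟨g, h, hg⟩
  · -- an odd permutation centralizing `s`
    have hne : s.cycleFactorsFinset.Nonempty := by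
      rw [Finset.nonempty_iff_ne_empty]
      intro he
      have := Perm.cycleFactorsFinset_eq_empty_iff.mp he
      rw [this, Perm.cycleType_one] at hs
      exact absurd hs (by decide)
    obtain ⟨c, hc⟩ := hne
    have hcs : Commute c s := Perm.self_mem_cycle_factors_commute hc
    have hcard : c.support.card ∈ s.cycleType := by
      rw [Perm.cycleType_def]
      exact Multiset.mem_map.mpr ⟨c, hc, rfl⟩
    rw [hs] at hcard
    have hc2 : c.support.card = 2 := by
      simp only [Multiset.insert_eq_cons, Multiset.mem_cons, Multiset.mem_singleton, or_self]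
        at hcard
      exact hcard
    have hswap : c.IsSwap := Perm.card_support_eq_two.mp hc2
    refine ⟨g * c, ?_, ?_⟩
    · rw [Perm.sign_mul, h, hswap.sign_eq]; rfl
    · rw [mul_inv_rev, ← hg]
      calc g * c * s * (c⁻¹ * g⁻¹) = g * (c * s * c⁻¹) * g⁻¹ := by group
        _ = g * s * g⁻¹ := by rw [hcs.eq, mul_assoc s, mul_inv_cancel, mul_one]

/-- any two involutions of an alternating group of degree at most `7` are conjugate -/
theorem involution_conj {n : ℕ} (hn : n ≤ 7) (s t : alternatingGroup (Fin n))
    (hs2 : s ^ 2 = 1) (hs1 : s ≠ 1) (ht2 : t ^ 2 = 1) (ht1 : t ≠ 1) :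
    ∃ g : alternatingGroup (Fin n), g * s * g⁻¹ = t := by
  have hs := cycleType_of_involution hn (s : Perm (Fin n))
    (by rw [← Subgroup.coe_pow, hs2]; rfl) (fun h => hs1 (Subtype.ext h))
    (Perm.mem_alternatingGroup.mp s.2)
  have ht := cycleType_of_involution hn (t : Perm (Fin n))
    (by rw [← Subgroup.coe_pow, ht2]; rfl) (fun h => ht1 (Subtype.ext h))
    (Perm.mem_alternatingGroup.mp t.2)
  obtain ⟨g, hg1, hg⟩ := exists_even_conj _ _ hs ht
  refine ⟨⟨g, Perm.mem_alternatingGroup.mpr hg1⟩, ?_⟩
  apply Subtype.ext
  simpa using hg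

end perm

end Cfsg.Agent.Lib.Helper7.DCov
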