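import Mathlib
import Cfsg.Agent.Lib.Helper7.DCov4
import Cfsg.Agent.Lib.Helper7.DCov5

set_option autoImplicit false

/-! Involutions: homomorphisms from the presented double cover of `A_8`, its involutions, and the
conjugacy of involutions in a group in which the involutions of one involution centralizer are
conjugate to the central one. -/

namespace Cfsg.Agent.Lib.Helper7.McLC

open Cfsg.Agent.Lib.Helper7.DCov Cfsg.Agent.Lib.Helper7.AltMul Equiv

/-- a homomorphism from the double cover which does not kill the central involution is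
injective -/
theorem dc_hom_injective {G : Type*} [Group G] (f : DC →* G) (hf : f hz ≠ 1) :
    Function.Injective f := by
  rw [← MonoidHom.ker_eq_bot_iff]
  have hdisj : Disjoint (Subgroup.center DC) f.ker := by
    rw [Subgroup.disjoint_def]
    intro g hg hk
    rw [center_eq, mem_zN_iff] at hg
    rcases hg with rfl | rfl
    · rfl
    · exfalso
      rw [MonoidHom.mem_ker] at hk
      exact hf hk
  have hsimple : IsSimpleGroup (alternatingGroup (Fin 8)) :=
    alternatingGroup.isSimpleGroup (by rw [card_fin_add_two 6]; norm_num)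
  have hnorm : (f.ker.map proj).Normal :=
    Subgroup.Normal.map f.normal_ker proj proj_surjective
  have hinj : Function.Injective (proj.comp f.ker.subtype) := by
    rw [← MonoidHom.ker_eq_bot_iff, eq_bot_iff]
    intro g hg
    rw [MonoidHom.mem_ker, MonoidHom.comp_apply] at hg
    have h1 : (g : DC) ∈ proj.ker := hg
    rw [ker_proj, ← center_eq] at h1
    have h2 : (g : DC) ∈ Subgroup.center DC ⊓ f.ker := ⟨h1, g.2⟩
    rw [hdisj.eq_bot, Subgroup.mem_bot] at h2
    rw [Subgroup.mem_bot]
    exact Subtype.ext h2
  rcases hnorm.eq_bot_or_eq_top with h | h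
  · rw [eq_bot_iff]
    intro g hg
    have h1 : proj g ∈ f.ker.map proj := ⟨g, hg, rfl⟩
    rw [h, Subgroup.mem_bot] at h1
    have h2 : (⟨g, hg⟩ : f.ker) = 1 := by
      apply hinj
      rw [map_one]
      exact h1
    rw [Subgroup.mem_bot]
    exact congrArg Subtype.val h2
  · exfalso
    apply nonsplit f.ker
    apply Subgroup.isComplement'_of_card_mul_and_disjoint _ hdisj
    have hc : Nat.card f.ker = Nat.card (alternatingGroup (Fin 8)) := by
      have hb : Function.Bijective (proj.comp f.ker.subtype) := by
        refine ⟨hinj, ?_⟩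
        intro a
        have ha : a ∈ f.ker.map proj := by rw [h]; trivial
        obtain ⟨g, hg, rfl⟩ := ha
        exact ⟨⟨g, hg⟩, rfl⟩
      exact Nat.card_congr (Equiv.ofBijective _ hb)
    rw [hc, center_eq, card_zN, card_alt8', card_DC]

/-- two permutations with the same cycle type containing a transposition are conjugate under an
even permutation -/
theorem exists_even_conj_two {α : Type*} [Fintype α] [DecidableEq α] (s t : Perm α)
    (hst : s.cycleType = t.cycleType) (h2 : 2 ∈ s.cycleType) :
    ∃ g : Perm α, Perm.sign g = 1 ∧ g * s * g⁻¹ = t := by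
  have hconj : IsConj s t := Perm.isConj_iff_cycleType_eq.mpr hst
  obtain ⟨g, hg⟩ := isConj_iff.mp hconj
  rcases Int.units_eq_one_or (Perm.sign g) with h | h
  · exact ⟨g, h, hg⟩
  · rw [Perm.cycleType_def] at h2
    obtain ⟨c, hc, hc2⟩ := Multiset.mem_map.mp h2
    have hc' : c ∈ s.cycleFactorsFinset := hc
    have hcs : Commute c s := Perm.self_mem_cycle_factors_commute hc'
    have hswap : c.IsSwap := Perm.card_support_eq_two.mp hc2
    refine ⟨g * c, ?_, ?_⟩
    · rw [Perm.sign_mul, h, hswap.sign_eq]; rfl
    · rw [mul_inv_rev, ← hg]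
      calc g * c * s * (c⁻¹ * g⁻¹) = g * (c * s * c⁻¹) * g⁻¹ := by group
        _ = g * s * g⁻¹ := by rw [hcs.eq, mul_assoc s, mul_inv_cancel, mul_one]

/-- the cycle type of an even involution of degree `8` -/
theorem cycleType_invol8 (s : Perm (Fin 8)) (h2 : s ^ 2 = 1) (h1 : s ≠ 1)
    (hs : Perm.sign s = 1) : s.cycleType = {2, 2} ∨ s.cycleType = {2, 2, 2, 2} := by
  have : Fact (Nat.Prime 2) := ⟨Nat.prime_two⟩
  have ho : orderOf s = 2 := orderOf_eq_prime h2 h1
  obtain ⟨k, hk⟩ := Perm.cycleType_prime_order (σ := s) (by rw [ho]; exact Nat.prime_two)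
  rw [ho] at hk
  have hsum : s.cycleType.sum ≤ 8 := by
    have := Perm.sum_cycleType_le s
    rwa [Fintype.card_fin] at this
  rw [hk, Multiset.sum_replicate, smul_eq_mul] at hsum
  have hsign := Perm.sign_of_cycleType s
  rw [hs, hk, Multiset.sum_replicate, Multiset.card_replicate, smul_eq_mul] at hsign
  have hk3 : k ≤ 3 := by omega
  interval_cases k
  · exfalso; revert hsign; decide
  · left; rw [hk]; rfl
  · exfalso; revert hsign; decide
  · right; rw [hk]; rfl

end Cfsg.Agent.Lib.Helper7.McLC
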