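import Mathlib
import Cfsg.Agent.Lib.Helper7.McLC1

set_option autoImplicit false

/-! The involutions of the presented double cover of `A_8`. -/

namespace Cfsg.Agent.Lib.Helper7.McLC

open Cfsg.Agent.Lib.Helper7.DCov Cfsg.Agent.Lib.Helper7.AltMul Equiv
open Cfsg.Agent.Lib.Helper9.H9AutAlt

/-- elements with the same projection differ by a central element -/
theorem eq_or_eq_mul_hz (u v : DC) (h : proj u = proj v) : u = v ∨ u = v * hz := by
  have h1 : v⁻¹ * u ∈ proj.ker := by
    rw [MonoidHom.mem_ker, map_mul, map_inv, h, inv_mul_cancel]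
  rw [ker_proj, mem_zN_iff] at h1
  rcases h1 with h1 | h1
  · left
    calc u = v * (v⁻¹ * u) := by group
      _ = v := by rw [h1, mul_one]
  · right
    calc u = v * (v⁻¹ * u) := by group
      _ = v * hz := by rw [h1]

theorem hz_mul_comm (g : DC) : g * hz = hz * g :=
  (Subgroup.mem_center_iff.mp hz_central g)

/-- the lift of a double transposition -/
def hv : DC := hy 0 * hy 1

theorem hv_sq : hv ^ 2 = hz := hy_mul_sq 0 1 (by decide)

theorem proj_hv_coe : ((proj hv : alternatingGroup (Fin 8)) : Perm (Fin 8)) =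
    cyc 0 1 2 * cyc 0 1 3 := by
  unfold hv
  rw [map_mul, proj_hy, proj_hy, Subgroup.coe_mul, cgen_coe, cgen_coe]
  rfl

theorem proj_hv_ne_one : proj hv ≠ 1 := by
  intro h
  have h1 : hv ∈ proj.ker := h
  rw [ker_proj, mem_zN_iff] at h1
  have h2 := hv_sq
  rcases h1 with h1 | h1
  · rw [h1, one_pow] at h2
    exact hz_ne_one h2.symm
  · rw [h1, hz_sq] at h2
    exact hz_ne_one h2.symm

theorem cycleType_proj_hv :
    ((proj hv : alternatingGroup (Fin 8)) : Perm (Fin 8)).cycleType = {2, 2} := by
  have h2 : ((proj hv : alternatingGroup (Fin 8)) : Perm (Fin 8)) ^ 2 = 1 := by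
    rw [← Subgroup.coe_pow, ← map_pow, hv_sq, proj_hz]
    rfl
  have h1 : ((proj hv : alternatingGroup (Fin 8)) : Perm (Fin 8)) ≠ 1 := by
    intro h
    exact proj_hv_ne_one (Subtype.ext h)
  rcases cycleType_invol8 _ h2 h1 (Perm.mem_alternatingGroup.mp (proj hv).2) with h | h
  · exact h
  · exfalso
    have hs := Perm.sum_cycleType ((proj hv : alternatingGroup (Fin 8)) : Perm (Fin 8))
    rw [h] at hs
    have h7 : (7 : Fin 8) ∈ ((proj hv : alternatingGroup (Fin 8)) : Perm (Fin 8)).support := by
      have : ((proj hv : alternatingGroup (Fin 8)) : Perm (Fin 8)).support = Finset.univ := by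
        apply Finset.eq_univ_of_card
        rw [← hs, Fintype.card_fin]
        rfl
      rw [this]
      exact Finset.mem_univ _
    rw [Perm.mem_support, proj_hv_coe] at h7
    apply h7
    rw [Perm.mul_apply, cyc_apply_of_ne (by decide) (by decide) (by decide),
      cyc_apply_of_ne (by decide) (by decide) (by decide)]

/-- an involution of the double cover outside the centre projects to a fixed point free
involution -/
theorem cycleType_proj_of_sq (u : DC) (hu : u ^ 2 = 1) (hp : proj u ≠ 1) :
    ((proj u : alternatingGroup (Fin 8)) : Perm (Fin 8)).cycleType = {2, 2, 2, 2} := by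
  have h2 : ((proj u : alternatingGroup (Fin 8)) : Perm (Fin 8)) ^ 2 = 1 := by
    rw [← Subgroup.coe_pow, ← map_pow, hu, map_one]
    rfl
  have h1 : ((proj u : alternatingGroup (Fin 8)) : Perm (Fin 8)) ≠ 1 := by
    intro h
    exact hp (Subtype.ext h)
  rcases cycleType_invol8 _ h2 h1 (Perm.mem_alternatingGroup.mp (proj u).2) with h | h
  · exfalso
    obtain ⟨g, hg1, hg⟩ := exists_even_conj_two _ _ (cycleType_proj_hv.trans h.symm)
      (by rw [cycleType_proj_hv]; simp)
    obtain ⟨g', hg'⟩ := proj_surjective ⟨g, Perm.mem_alternatingGroup.mpr hg1⟩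
    have hpr : proj u = proj (g' * hv * g'⁻¹) := by
      apply Subtype.ext
      rw [map_mul, map_mul, map_inv, hg', ← hg]
      rfl
    have hsq : (g' * hv * g'⁻¹) ^ 2 = hz := by
      rw [pow_two]
      calc g' * hv * g'⁻¹ * (g' * hv * g'⁻¹) = g' * hv ^ 2 * g'⁻¹ := by
            rw [pow_two]; simp only [mul_assoc, inv_mul_cancel_left]
        _ = hz := by rw [hv_sq, hz_mul_comm, mul_assoc, mul_inv_cancel, mul_one]
    rcases eq_or_eq_mul_hz _ _ hpr with e | e
    · rw [e, hsq] at hu
      exact hz_ne_one hu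
    · rw [e, mul_pow_of_comm] at hu
      · rw [hsq, hz_sq, mul_one] at hu
        exact hz_ne_one hu
      · exact hz_mul_comm _
  · exact h
where
  mul_pow_of_comm {a b : DC} (h : a * b = b * a) : (a * b) ^ 2 = a ^ 2 * b ^ 2 :=
    (Commute.mul_pow h 2)

/-- **the involutions of the double cover**: the central one and the conjugates of `hw` and of
`hw * hz` -/
theorem dc_involution (u : DC) (hu : u ^ 2 = 1) (hu1 : u ≠ 1) :
    u = hz ∨ ∃ g : DC, u = g * hw * g⁻¹ ∨ u = g * (hw * hz) * g⁻¹ := by
  by_cases hp : proj u = 1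
  · left
    have h1 : u ∈ proj.ker := hp
    rw [ker_proj, mem_zN_iff] at h1
    rcases h1 with h1 | h1
    · exact absurd h1 hu1
    · exact h1
  · right
    have hpw : proj hw ≠ 1 := by
      intro h
      have h1 : hw ∈ proj.ker := h
      rw [ker_proj, mem_zN_iff] at h1
      rcases h1 with h1 | h1
      · exact hw_ne_one h1
      · exact hw_ne_hz h1
    have hcu := cycleType_proj_of_sq u hu hp
    have hcw := cycleType_proj_of_sq hw hw_sq hpw
    obtain ⟨g, hg1, hg⟩ := exists_even_conj_two _ _ (hcw.trans hcu.symm)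
      (by rw [hcw]; simp)
    obtain ⟨g', hg'⟩ := proj_surjective ⟨g, Perm.mem_alternatingGroup.mpr hg1⟩
    have hpr : proj u = proj (g' * hw * g'⁻¹) := by
      apply Subtype.ext
      rw [map_mul, map_mul, map_inv, hg', ← hg]
      rfl
    refine ⟨g', ?_⟩
    rcases eq_or_eq_mul_hz _ _ hpr with e | e
    · left; exact e
    · right
      rw [e]
      calc g' * hw * g'⁻¹ * hz = g' * hw * (g'⁻¹ * hz) := by group
        _ = g' * hw * (hz * g'⁻¹) := by rw [hz_mul_comm]
        _ = g' * (hw * hz) * g'⁻¹ := by group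

end Cfsg.Agent.Lib.Helper7.McLC
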