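import Mathlib

set_option autoImplicit false

/-! Conjugacy of involutions: if the involutions of the centralizer of an involution `t` are all
conjugate to `t`, then so are all involutions of the group (two involutions generate a dihedral
group). -/

namespace Cfsg.Agent.Lib.Helper7.McLC

variable {G : Type*} [Group G]

theorem sq_of_orderOf_two {x : G} (h : orderOf x = 2) : x * x = 1 := by
  rw [← pow_two, ← h]
  exact pow_orderOf_eq_one x

theorem inv_of_orderOf_two {x : G} (h : orderOf x = 2) : x⁻¹ = x :=
  inv_eq_of_mul_eq_one_left (sq_of_orderOf_two h)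

theorem ne_one_of_orderOf_two {x : G} (h : orderOf x = 2) : x ≠ 1 := by
  rintro rfl
  rw [orderOf_one] at h
  omega

theorem orderOf_two_of_sq {x : G} (h : x * x = 1) (h1 : x ≠ 1) : orderOf x = 2 :=
  orderOf_eq_prime (by rw [pow_two]; exact h) h1

theorem orderOf_conj_two {x : G} (g : G) (h : orderOf x = 2) : orderOf (g * x * g⁻¹) = 2 := by
  have := MulEquiv.orderOf_eq (MulAut.conj g) x
  rw [MulAut.conj_apply] at this
  rw [this]
  exact h

/-- conjugation by an involution inverts the product -/
theorem invol_semiconj_left {x t : G} (hx : x * x = 1) (ht : t * t = 1) :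
    SemiconjBy x (x * t) (x * t)⁻¹ := by
  show x * (x * t) = (x * t)⁻¹ * x
  have hxi : x⁻¹ = x := inv_eq_of_mul_eq_one_left hx
  have hti : t⁻¹ = t := inv_eq_of_mul_eq_one_left ht
  rw [mul_inv_rev, hxi, hti, ← mul_assoc, hx, one_mul, mul_assoc, hx, mul_one]

theorem invol_semiconj_right {x t : G} (hx : x * x = 1) (ht : t * t = 1) :
    SemiconjBy t (x * t) (x * t)⁻¹ := by
  show t * (x * t) = (x * t)⁻¹ * t
  have hxi : x⁻¹ = x := inv_eq_of_mul_eq_one_left hx
  have hti : t⁻¹ = t := inv_eq_of_mul_eq_one_left ht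
  rw [mul_inv_rev, hxi, hti, mul_assoc]

/-- **conjugacy of involutions** -/
theorem involutions_conj [Finite G] (t : G) (ht : orderOf t = 2)
    (hK : ∀ u : G, orderOf u = 2 → u * t = t * u → IsConj u t) :
    ∀ x : G, orderOf x = 2 → IsConj x t := by
  intro x hx
  have hx2 := sq_of_orderOf_two hx
  have ht2 := sq_of_orderOf_two ht
  have hxi := inv_of_orderOf_two hx
  have hti := inv_of_orderOf_two ht
  set d := x * t with hd
  have hn : 0 < orderOf d := orderOf_pos d
  have hsx : SemiconjBy x d d⁻¹ := invol_semiconj_left hx2 ht2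
  have hst : SemiconjBy t d d⁻¹ := invol_semiconj_right hx2 ht2
  rcases Nat.even_or_odd' (orderOf d) with ⟨k, hk | hk⟩
  · -- even order: a central involution of the dihedral group
    have hk0 : 0 < k := by omega
    set u := d ^ k with hu
    have hu2 : u * u = 1 := by
      rw [hu, ← pow_add, ← two_mul, ← hk]
      exact pow_orderOf_eq_one d
    have hu1 : u ≠ 1 := pow_ne_one_of_lt_orderOf (by omega) (by omega)
    have huo : orderOf u = 2 := orderOf_two_of_sq hu2 hu1
    have hui : u⁻¹ = u := inv_of_orderOf_two huo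
    have hxu : x * u = u * x := by
      have := hsx.pow_right k
      rw [inv_pow, ← hu, hui] at this
      exact this
    have htu : t * u = u * t := by
      have := hst.pow_right k
      rw [inv_pow, ← hu, hui] at this
      exact this
    obtain ⟨g, hg⟩ := isConj_iff.mp (hK u huo htu.symm)
    -- the conjugate of `x` commutes with `t`
    have hx' : orderOf (g * x * g⁻¹) = 2 := orderOf_conj_two g hx
    have hcomm : g * x * g⁻¹ * t = t * (g * x * g⁻¹) := by
      rw [← hg]
      calc g * x * g⁻¹ * (g * u * g⁻¹) = g * (x * u) * g⁻¹ := by group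
        _ = g * (u * x) * g⁻¹ := by rw [hxu]
        _ = g * u * g⁻¹ * (g * x * g⁻¹) := by group
    have h1 : IsConj (g * x * g⁻¹) t := hK _ hx' hcomm
    have h2 : IsConj x (g * x * g⁻¹) := isConj_iff.mpr ⟨g, rfl⟩
    exact h2.trans h1
  · -- odd order: conjugate in the dihedral group
    apply isConj_iff.mpr
    refine ⟨d ^ k, ?_⟩
    have h1 : d ^ k * x = x * (d⁻¹) ^ k := by
      have h2 : SemiconjBy x d⁻¹ d := by
        have := hsx.inv_right
        rwa [inv_inv] at this
      exact (h2.pow_right k).eq.symm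
    have h3 : d ^ (2 * k + 1) = 1 := by
      rw [← hk]
      exact pow_orderOf_eq_one d
    have h4 : (d⁻¹) ^ k * (d ^ k)⁻¹ = d := by
      have : d ^ (2 * k + 1) = d ^ k * d ^ k * d := by
        rw [pow_succ, two_mul, pow_add]
      rw [this] at h3
      rw [inv_pow, ← mul_inv_rev]
      exact (eq_inv_of_mul_eq_one_right h3).symm
    calc d ^ k * x * (d ^ k)⁻¹ = x * ((d⁻¹) ^ k * (d ^ k)⁻¹) := by rw [h1, mul_assoc]
      _ = x * d := by rw [h4]
      _ = t := by rw [hd, ← mul_assoc, hx2, one_mul]

end Cfsg.Agent.Lib.Helper7.McLC
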