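import Mathlib
import Cfsg.Agent.Lib.Helper7.McLB9
import Cfsg.Agent.Lib.Helper7.McLC4
import Cfsg.Agent.Lib.Helper7.McLC5

set_option autoImplicit false
set_option maxRecDepth 100000

/-! The involution centralizer of the McLaughlin group: the model with the new letters and the
kernel checks. -/

namespace Cfsg.Agent.Lib.Helper7.McLC

open Cfsg
open Cfsg.Agent.Lib.Helper6.TC Cfsg.Agent.Lib.Helper6.PM Cfsg.Agent.Lib.Helper2.PMS
open Cfsg.Agent.Lib.Helper5.Chain Cfsg.Agent.Lib.Helper7.McLB

theorem chk_slp2' : chkSLP pm 275 19 ds2 pm2 = true := by decide +kernel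

theorem chk_slp2 : chkSLP mclS.px mclS.n mclS.nl ds2 pm2 = true := by
  rw [mclS_nl]
  exact chk_slp2'

/-- the model of the McLaughlin group with 36 letters -/
noncomputable def mclT : PModel := slpModel mclS ds2 pm2 chk_slp2

theorem mclT_G : mclT.G = ↥Cfsg.Spor.McL := rfl

theorem mclT_n : mclT.n = 275 := rfl

theorem mclT_nl : mclT.nl = 36 := by
  have := slpModel_nl mclS ds2 pm2 chk_slp2
  rw [mclS_nl] at this
  exact this

theorem mclT_px : mclT.px = pm2 := rfl

theorem chk_inv2' : ((List.range 36).all fun c => Nat.blt (ivL2.getD c 0) 36 &&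
    (List.range 275).all fun q => Nat.beq (pm2 (ivL2.getD c 0) (pm2 c q)) q) = true := by
  decide +kernel

theorem invMap2 : InvMap mclT (fun c => ivL2.getD c 0) := by
  apply invMap_of_chkInvL
  unfold chkInvL
  rw [mclT_nl]
  exact chk_inv2'

end Cfsg.Agent.Lib.Helper7.McLC
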