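import Mathlib
import Cfsg.Agent.Lib.Helper7.McLC6

set_option autoImplicit false
set_option maxRecDepth 100000

/-! The involution centralizer of the McLaughlin group: the kernel checks of the conjugacy class
of the involution (22275 conjugates with different keys). -/

namespace Cfsg.Agent.Lib.Helper7.McLC

open Cfsg
open Cfsg.Agent.Lib.Helper6.TC Cfsg.Agent.Lib.Helper6.PM Cfsg.Agent.Lib.Helper2.PMS
open Cfsg.Agent.Lib.Helper5.Chain Cfsg.Agent.Lib.Helper7.McLB

/-- the inverse letters -/
def iv2 (c : ℕ) : ℕ := ivL2.getD c 0

/-- the points of the keys -/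
def bsC : List ℕ := [0, 1, 2, 3, 4]

theorem piece0 : chkPiece iv2 [19] bsC pm2 36 wsP0 ksP0 = true := by decide +kernel

theorem piece1 : chkPiece iv2 [19] bsC pm2 36 wsP1 ksP1 = true := by decide +kernel

theorem piece2 : chkPiece iv2 [19] bsC pm2 36 wsP2 ksP2 = true := by decide +kernel

theorem piece3 : chkPiece iv2 [19] bsC pm2 36 wsP3 ksP3 = true := by decide +kernel

theorem piece4 : chkPiece iv2 [19] bsC pm2 36 wsP4 ksP4 = true := by decide +kernel

theorem piece5 : chkPiece iv2 [19] bsC pm2 36 wsP5 ksP5 = true := by decide +kernel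

theorem piece6 : chkPiece iv2 [19] bsC pm2 36 wsP6 ksP6 = true := by decide +kernel

theorem piece7 : chkPiece iv2 [19] bsC pm2 36 wsP7 ksP7 = true := by decide +kernel

theorem piece8 : chkPiece iv2 [19] bsC pm2 36 wsP8 ksP8 = true := by decide +kernel

theorem piece9 : chkPiece iv2 [19] bsC pm2 36 wsP9 ksP9 = true := by decide +kernel

theorem piece10 : chkPiece iv2 [19] bsC pm2 36 wsP10 ksP10 = true := by decide +kernel

theorem piece11 : chkPiece iv2 [19] bsC pm2 36 wsP11 ksP11 = true := by decide +kernel

theorem piece12 : chkPiece iv2 [19] bsC pm2 36 wsP12 ksP12 = true := by decide +kernel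

theorem piece13 : chkPiece iv2 [19] bsC pm2 36 wsP13 ksP13 = true := by decide +kernel

theorem piece14 : chkPiece iv2 [19] bsC pm2 36 wsP14 ksP14 = true := by decide +kernel

theorem piece15 : chkPiece iv2 [19] bsC pm2 36 wsP15 ksP15 = true := by decide +kernel

theorem piece16 : chkPiece iv2 [19] bsC pm2 36 wsP16 ksP16 = true := by decide +kernel

theorem piece17 : chkPiece iv2 [19] bsC pm2 36 wsP17 ksP17 = true := by decide +kernel

theorem piece18 : chkPiece iv2 [19] bsC pm2 36 wsP18 ksP18 = true := by decide +kernel

theorem piece19 : chkPiece iv2 [19] bsC pm2 36 wsP19 ksP19 = true := by decide +kernel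

theorem piece20 : chkPiece iv2 [19] bsC pm2 36 wsP20 ksP20 = true := by decide +kernel

theorem piece21 : chkPiece iv2 [19] bsC pm2 36 wsP21 ksP21 = true := by decide +kernel

theorem piece22 : chkPiece iv2 [19] bsC pm2 36 wsP22 ksP22 = true := by decide +kernel

theorem pieces_ok : ∀ p ∈ wsA.zip ksA, chkPiece iv2 [19] bsC pm2 36 p.1 p.2 = true := by
  intro p hp
  simp only [wsA, ksA, List.zip_cons_cons, List.zip_nil_right, List.mem_cons, List.not_mem_nil,
    or_false] at hp
  rcases hp with rfl | rfl | rfl | rfl | rfl | rfl | rfl | rfl | rfl | rfl | rfl | rfl | rfl | rfl | rfl | rfl | rfl | rfl | rfl | rfl | rfl | rfl | rfl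
  · exact piece0
  · exact piece1
  · exact piece2
  · exact piece3
  · exact piece4
  · exact piece5
  · exact piece6
  · exact piece7
  · exact piece8
  · exact piece9
  · exact piece10
  · exact piece11
  · exact piece12
  · exact piece13
  · exact piece14
  · exact piece15
  · exact piece16
  · exact piece17
  · exact piece18
  · exact piece19
  · exact piece20
  · exact piece21
  · exact piece22

theorem ksA_incr : isIncr ksA.flatten = true := by decide +kernel

theorem ksA_length : ksA.flatten.length = 22275 := by decide +kernel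

theorem wsA_length : wsA.length = ksA.length := by decide

end Cfsg.Agent.Lib.Helper7.McLC
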