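import Mathlib
import Cfsg.Agent.Lib.Helper7.McLC2
import Cfsg.Agent.Lib.Helper7.McLC3
import Cfsg.Agent.Lib.Helper7.McLC7
import Cfsg.Agent.Lib.Helper6.TT1

set_option autoImplicit false
set_option maxRecDepth 100000

/-! The involution centralizer of the McLaughlin group: the centralizer of the involution `t`
is the presented double cover of `A_8`, and all involutions are conjugate. -/

namespace Cfsg.Agent.Lib.Helper7.McLC

open Cfsg
open Cfsg.Agent.Lib.Helper6.TC Cfsg.Agent.Lib.Helper6.PM Cfsg.Agent.Lib.Helper2.PMS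
open Cfsg.Agent.Lib.Helper5.Chain Cfsg.Agent.Lib.Helper7.McLB
open Cfsg.Agent.Lib.Helper7.DCov

/-! ### numeric checks of equalities of words -/

/-- two words act in the same way (numeric version) -/
noncomputable def chkEqN (px : ℕ → ℕ → ℕ) (n nl : ℕ) (w w' : List ℕ) : Bool :=
  (w.all fun c => Nat.blt c nl) && (w'.all fun c => Nat.blt c nl) &&
    (List.range n).all fun q => Nat.beq (wappS px w q) (wappS px w' q)

theorem elt_eq_of_chkN (M : PModel) (w w' : List ℕ) (h : chkEqN M.px M.n M.nl w w' = true) :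
    M.elt w = M.elt w' := by
  unfold chkEqN at h
  simp only [Bool.and_eq_true, List.all_eq_true, List.mem_range, Nat.blt_eq, Nat.beq_eq] at h
  apply M.elt_eq_of_wapp w w' h.1.1 h.1.2
  intro q hq
  rw [← wappS_eq, ← wappS_eq]
  exact h.2 q hq

/-- two words act differently at a point (numeric version) -/
noncomputable def chkNeN (px : ℕ → ℕ → ℕ) (n nl : ℕ) (w w' : List ℕ) (q : ℕ) : Bool :=
  (w.all fun c => Nat.blt c nl) && (w'.all fun c => Nat.blt c nl) && Nat.blt q n &&
    !(Nat.beq (wappS px w q) (wappS px w' q))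

theorem elt_ne_of_chkN (M : PModel) (w w' : List ℕ) (q : ℕ)
    (h : chkNeN M.px M.n M.nl w w' q = true) : M.elt w ≠ M.elt w' := by
  unfold chkNeN at h
  simp only [Bool.and_eq_true, List.all_eq_true, Nat.blt_eq, Bool.not_eq_true'] at h
  obtain ⟨⟨⟨h1, h2⟩, h3⟩, h4⟩ := h
  rw [wappS_eq, wappS_eq] at h4
  refine elt_ne_of_wapp M w w' h1 h2 q h3 (fun e => ?_)
  rw [e, Nat.beq_refl] at h4
  exact Bool.noConfusion h4

theorem eqT (w w' : List ℕ) (h : chkEqN pm2 275 36 w w' = true) : mclT.elt w = mclT.elt w' := by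
  apply elt_eq_of_chkN
  rw [mclT_nl]
  exact h

theorem neT (w w' : List ℕ) (q : ℕ) (h : chkNeN pm2 275 36 w w' q = true) :
    mclT.elt w ≠ mclT.elt w' := by
  apply elt_ne_of_chkN mclT w w' q
  rw [mclT_nl]
  exact h

/-! ### the involution and the generators of its centralizer -/

/-- the involution -/
noncomputable def tT : mclT.G := mclT.elt [19]

/-- the generators of the centralizer -/
noncomputable def yT (i : Fin 6) : mclT.G := mclT.elt [20 + i.val]

theorem tT_sq : tT ^ 2 = 1 := by
  unfold tT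
  rw [pow_two, ← mclT.elt_append, ← mclT.elt_nil]
  exact eqT _ _ (by decide +kernel)

theorem tT_ne_one : tT ≠ 1 := by
  unfold tT
  rw [← mclT.elt_nil]
  exact neT _ _ 0 (by decide +kernel)

theorem orderOf_tT : orderOf tT = 2 := orderOf_eq_prime tT_sq tT_ne_one

theorem chk_rels : ((List.range 6).all fun i =>
    chkEqN pm2 275 36 [19, 20 + i] [20 + i, 19] &&
    chkEqN pm2 275 36 [20 + i, 20 + i, 20 + i] [] &&
    (List.range 6).all fun j => Nat.beq i j ||
      chkEqN pm2 275 36 [20 + i, 20 + j, 20 + i, 20 + j] [19]) = true := by decide +kernel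

theorem rels_spec (i : ℕ) (hi : i < 6) :
    chkEqN pm2 275 36 [19, 20 + i] [20 + i, 19] = true ∧
    chkEqN pm2 275 36 [20 + i, 20 + i, 20 + i] [] = true ∧
    ∀ j < 6, i ≠ j → chkEqN pm2 275 36 [20 + i, 20 + j, 20 + i, 20 + j] [19] = true := by
  have h := chk_rels
  rw [List.all_eq_true] at h
  have h1 := h i (List.mem_range.mpr hi)
  rw [Bool.and_eq_true, Bool.and_eq_true, List.all_eq_true] at h1
  refine ⟨h1.1.1, h1.1.2, ?_⟩
  intro j hj hij
  have h2 := h1.2 j (List.mem_range.mpr hj)
  rw [Bool.or_eq_true] at h2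
  rcases h2 with h2 | h2
  · exact absurd (Nat.eq_of_beq_eq_true h2) hij
  · exact h2

theorem tT_comm (i : Fin 6) : tT * yT i = yT i * tT := by
  unfold tT yT
  rw [← mclT.elt_append, ← mclT.elt_append]
  exact eqT _ _ (rels_spec i.val i.isLt).1

theorem yT_cube (i : Fin 6) : yT i ^ 3 = 1 := by
  unfold yT
  rw [pow_succ, pow_two, ← mclT.elt_append, ← mclT.elt_append, ← mclT.elt_nil]
  exact eqT _ _ (rels_spec i.val i.isLt).2.1

theorem yT_mul_sq (i j : Fin 6) (hij : i ≠ j) : (yT i * yT j) ^ 2 = tT := by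
  unfold yT tT
  rw [pow_two, ← mclT.elt_append, ← mclT.elt_append]
  exact eqT _ _ ((rels_spec i.val i.isLt).2.2 j.val j.isLt (fun h => hij (Fin.ext h)))

/-- the homomorphism from the presented double cover -/
noncomputable def psi : DCov.DC →* mclT.G := dlift tT yT tT_sq tT_comm yT_cube yT_mul_sq

theorem psi_hz : psi hz = tT := dlift_hz _ _ _ _ _ _

theorem psi_hy (i : Fin 6) : psi (hy i) = yT i := dlift_hy _ _ _ _ _ _ i

theorem psi_injective : Function.Injective psi :=
  dc_hom_injective psi (by rw [psi_hz]; exact tT_ne_one)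

theorem psi_mem (g : DCov.DC) : psi g ∈ Subgroup.centralizer ({tT} : Set mclT.G) := by
  rw [Subgroup.mem_centralizer_iff]
  intro h hh
  rw [Set.mem_singleton_iff] at hh
  rw [hh, ← psi_hz, ← map_mul, ← map_mul, hz_mul_comm]

/-! ### the order of the centralizer -/

theorem card_mclT : Nat.card mclT.G = 898128000 := card_McL

theorem card_centralizer_tT : Nat.card (Subgroup.centralizer ({tT} : Set mclT.G)) ≤ 40320 := by
  have h := card_centralizer_le mclT iv2 [19] bsC invMap2
    (by intro c hc; rw [List.mem_singleton] at hc; rw [hc, mclT_nl]; norm_num)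
    (by intro b hb; rw [mclT_n]; revert b; decide)
    wsA ksA wsA_length (by rw [mclT_nl]; exact pieces_ok) ksA_incr
  rw [ksA_length, card_mclT] at h
  show Nat.card (Subgroup.centralizer ({mclT.elt [19]} : Set mclT.G)) ≤ 40320
  omega

/-- the homomorphism onto the centralizer -/
noncomputable def psiC : DCov.DC →* Subgroup.centralizer ({tT} : Set mclT.G) :=
  psi.codRestrict _ psi_mem

theorem psiC_bijective : Function.Bijective psiC := by
  have hinj : Function.Injective psiC := by
    intro a b hab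
    apply psi_injective
    exact congrArg Subtype.val hab
  apply hinj.bijective_of_nat_card_le
  rw [card_DC]
  exact card_centralizer_tT

/-- the centralizer of the involution is the presented double cover -/
noncomputable def psiE : DCov.DC ≃* Subgroup.centralizer ({tT} : Set mclT.G) :=
  MulEquiv.ofBijective psiC psiC_bijective

theorem centralizer_nonsplit :
    Cfsg.IsNonsplitDoubleCover (Subgroup.centralizer ({tT} : Set mclT.G))
      (alternatingGroup (Fin 8)) :=
  Cfsg.Agent.Lib.Helper6.TT.nonsplit_of_equiv psiE isNonsplitDoubleCover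

/-! ### the involutions of the centralizer -/

theorem psi_hw : psi hw = mclT.elt [20, 22, 21, 23, 20, 22, 25, 24] := by
  unfold hw
  simp only [map_mul, psi_hy]
  unfold yT
  simp only [← mclT.elt_append]
  rfl

theorem elt33 : mclT.elt [33] = (mclT.elt [32])⁻¹ := by
  apply eq_inv_of_mul_eq_one_left
  rw [← mclT.elt_append, ← mclT.elt_nil]
  exact eqT _ _ (by decide +kernel)

theorem elt35 : mclT.elt [35] = (mclT.elt [34])⁻¹ := by
  apply eq_inv_of_mul_eq_one_left
  rw [← mclT.elt_append, ← mclT.elt_nil]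
  exact eqT _ _ (by decide +kernel)

theorem isConj_psi_hw : IsConj (psi hw) tT := by
  have h : mclT.elt [20, 22, 21, 23, 20, 22, 25, 24] = mclT.elt [33, 19, 32] :=
    eqT _ _ (by decide +kernel)
  have h2 : mclT.elt [33, 19, 32] = (mclT.elt [32])⁻¹ * tT * mclT.elt [32] := by
    rw [← elt33]
    unfold tT
    rw [← mclT.elt_append, ← mclT.elt_append]
    rfl
  rw [psi_hw, h, h2]
  apply isConj_iff.mpr
  refine ⟨mclT.elt [32], ?_⟩
  group

theorem isConj_psi_hw_hz : IsConj (psi (hw * hz)) tT := by
  have h : mclT.elt [20, 22, 21, 23, 20, 22, 25, 24, 19] = mclT.elt [35, 19, 34] :=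
    eqT _ _ (by decide +kernel)
  have h2 : mclT.elt [35, 19, 34] = (mclT.elt [34])⁻¹ * tT * mclT.elt [34] := by
    rw [← elt35]
    unfold tT
    rw [← mclT.elt_append, ← mclT.elt_append]
    rfl
  have h3 : psi (hw * hz) = mclT.elt [20, 22, 21, 23, 20, 22, 25, 24, 19] := by
    rw [map_mul, psi_hw, psi_hz]
    unfold tT
    rw [← mclT.elt_append]
    rfl
  rw [h3, h, h2]
  apply isConj_iff.mpr
  refine ⟨mclT.elt [34], ?_⟩
  group

theorem isConj_of_comm (u : mclT.G) (hu : orderOf u = 2) (hc : u * tT = tT * u) :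
    IsConj u tT := by
  have hmem : u ∈ Subgroup.centralizer ({tT} : Set mclT.G) := by
    rw [Subgroup.mem_centralizer_iff]
    intro h hh
    rw [Set.mem_singleton_iff] at hh
    rw [hh, hc]
  obtain ⟨d, hd⟩ := psiC_bijective.2 ⟨u, hmem⟩
  have hd' : psi d = u := congrArg Subtype.val hd
  have hd2 : d ^ 2 = 1 := by
    apply psi_injective
    rw [map_pow, hd', map_one, pow_two]
    exact sq_of_orderOf_two hu
  have hd1 : d ≠ 1 := by
    rintro rfl
    rw [map_one] at hd'
    exact ne_one_of_orderOf_two hu hd'.symm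
  rcases dc_involution d hd2 hd1 with rfl | ⟨g, rfl | rfl⟩
  · rw [← hd', psi_hz]
  · rw [← hd', map_mul, map_mul, map_inv]
    exact (isConj_iff.mpr ⟨psi g, rfl⟩ : IsConj (psi hw) _).symm.trans isConj_psi_hw
  · rw [← hd', map_mul (f := psi) (g * (hw * hz)), map_mul (f := psi) g, map_inv]
    exact (isConj_iff.mpr ⟨psi g, rfl⟩ : IsConj (psi (hw * hz)) _).symm.trans isConj_psi_hw_hz

/-- all involutions of the McLaughlin group are conjugate -/
theorem involutions_isConj (x y : mclT.G) (hx : orderOf x = 2) (hy : orderOf y = 2) :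
    IsConj x y :=
  (involutions_conj tT orderOf_tT isConj_of_comm x hx).trans
    (involutions_conj tT orderOf_tT isConj_of_comm y hy).symm

/-- **the involutions of the McLaughlin group** -/
theorem mcl_involutions :
    (∀ x y : ↥Cfsg.Spor.McL, orderOf x = 2 → orderOf y = 2 → IsConj x y) ∧
      ∃ t : ↥Cfsg.Spor.McL, orderOf t = 2 ∧
        Cfsg.IsNonsplitDoubleCover ↥(Subgroup.centralizer ({t} : Set ↥Cfsg.Spor.McL))
          ↥(alternatingGroup (Fin 8)) :=
  ⟨involutions_isConj, tT, orderOf_tT, centralizer_nonsplit⟩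

end Cfsg.Agent.Lib.Helper7.McLC
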