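import Mathlib
import Cfsg.Agent.Lib.Helper7.Co2C5
import Cfsg.Agent.Lib.Helper7.McLC8
import Cfsg.Agent.Lib.Helper1.Sp6Dat

set_option autoImplicit false
set_option maxRecDepth 100000

/-! The involution centralizer of the second Conway group: the kernel checks of the relations of the
generators of the centralizer, of their action on the blocks and of the 512 elements of the normal
subgroup. -/

namespace Cfsg.Agent.Lib.Helper7.Co2C

open Cfsg
open Cfsg.Agent.Lib.Helper6.TC Cfsg.Agent.Lib.Helper6.PM Cfsg.Agent.Lib.Helper2.PMS
open Cfsg.Agent.Lib.Helper5.Chain Cfsg.Agent.Lib.Helper7.McLC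
open Cfsg.Agent.Lib.Helper1.Sp6

/-- the code of the block of a point -/
def blkN (q : ℕ) : ℕ := blkL.getD q 0

theorem chk_blk_lt : (blkL.all fun v => Nat.blt v 64) = true := by decide +kernel

theorem chk_rep : ((List.range 64).all fun i =>
    Nat.blt (repL.getD i 0) 2300 && Nat.beq (blkN (repL.getD i 0)) i) = true := by decide +kernel

/-- the letters `20..28` fix all blocks -/
theorem chk_blk_q : ((List.range 9).all fun i => (List.range 2300).all fun q =>
    Nat.beq (blkN (pm2 (iv2 (20 + i)) q)) (blkN q)) = true := by decide +kernel

/-- the letter `29` acts on the blocks as the first generator of the symplectic group -/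
theorem chk_blk_x : ((List.range 2300).all fun q =>
    Nat.beq (blkN (pm2 (iv2 29) q)) (tA.getD (blkN q) 0)) = true := by decide +kernel

/-- the letter `31` acts on the blocks as the second generator of the symplectic group -/
theorem chk_blk_y : ((List.range 2300).all fun q =>
    Nat.beq (blkN (pm2 (iv2 31) q)) (tB.getD (blkN q) 0)) = true := by decide +kernel

/-- the involution -/
theorem chk_t_sq : chkEqN pm2 2300 33 [20, 20] [] = true := by decide +kernel

theorem chk_t_ne : chkNeN pm2 2300 33 [20] [] 0 = true := by decide +kernel

/-- the generators commute with the involution -/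
theorem chk_comm_t : ((List.range 12).all fun i =>
    chkEqN pm2 2300 33 [20, 20 + i] [20 + i, 20]) = true := by decide +kernel

/-- the letters `20..28` are involutions or trivial -/
theorem chk_q_sq : ((List.range 9).all fun i =>
    chkEqN pm2 2300 33 [20 + i, 20 + i] []) = true := by decide +kernel

/-- the letters `20..28` commute up to the involution -/
theorem chk_q_comm : ((List.range 9).all fun i => (List.range 9).all fun j =>
    chkEqN pm2 2300 33 [20 + i, 20 + j] [20 + j, 20 + i] ||
    chkEqN pm2 2300 33 [20 + i, 20 + j] [20 + j, 20 + i, 20]) = true := by decide +kernel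

theorem chk_q_na : chkNeN pm2 2300 33 [21, 22] [22, 21] 0 = true := by decide +kernel

/-- the words of the 512 elements -/
def qW : List (List ℕ) := qL.map decW

theorem chk_qW_letters : (qW.all fun w => w.all fun c => Nat.ble 20 c && Nat.ble c 28) = true := by
  decide +kernel

theorem chk_qW_keys : (qW.map fun w => packL (bsC.map (wappS pm2 w))) = qK := by decide +kernel

theorem chk_qK_incr : isIncr qK = true := by decide +kernel

theorem qK_length : qK.length = 512 := by decide +kernel

/-- the elements of the normal subgroup are not central, except two of them -/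
theorem chk_cen : ((List.range 512).all fun i =>
    Nat.beq (qL.getD i 0) 1 || Nat.beq (qL.getD i 0) 52 ||
    (Nat.ble 21 (qCen.getD i (0, 0)).1 && Nat.ble (qCen.getD i (0, 0)).1 28 &&
      chkNeN pm2 2300 33 (decW (qL.getD i 0) ++ [(qCen.getD i (0, 0)).1])
        ((qCen.getD i (0, 0)).1 :: decW (qL.getD i 0)) (qCen.getD i (0, 0)).2)) = true := by
  decide +kernel

end Cfsg.Agent.Lib.Helper7.Co2C
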