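import Mathlib
import Cfsg.Agent.Lib.Helper7.Co2C1
import Cfsg.Agent.Lib.Helper7.Co2C2
import Cfsg.Agent.Lib.Helper7.Co2C6
import Cfsg.Agent.Lib.Helper1.Sp6B
import Cfsg.Agent.Lib.Helper1.Sp6Z
import Cfsg.Agent.Lib.Helper9.ExtraTransport

set_option autoImplicit false
set_option maxRecDepth 100000

/-! The involution centralizer of the second Conway group: the elements of the checks. -/

namespace Cfsg.Agent.Lib.Helper7.Co2C

open Cfsg
open Cfsg.Agent.Lib.Helper6.TC Cfsg.Agent.Lib.Helper6.PM Cfsg.Agent.Lib.Helper2.PMS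
open Cfsg.Agent.Lib.Helper5.Chain Cfsg.Agent.Lib.Helper7.McLC
open Cfsg.Agent.Lib.Helper1.Sp6 Cfsg.Agent.Lib.Helper1.Co2B

theorem eqT (w w' : List ℕ) (h : chkEqN pm2 2300 33 w w' = true) : co2T.elt w = co2T.elt w' := by
  apply elt_eq_of_chkN
  rw [co2T_nl]
  exact h

theorem neT (w w' : List ℕ) (q : ℕ) (h : chkNeN pm2 2300 33 w w' q = true) :
    co2T.elt w ≠ co2T.elt w' := by
  apply elt_ne_of_chkN co2T w w' q
  rw [co2T_nl]
  exact h

/-- the involution -/
noncomputable def tT : co2T.G := co2T.elt [20]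

theorem tT_mul_self : tT * tT = 1 := by
  unfold tT
  rw [← co2T.elt_append, ← co2T.elt_nil]
  exact eqT _ _ chk_t_sq

theorem tT_ne_one : tT ≠ 1 := by
  unfold tT
  rw [← co2T.elt_nil]
  exact neT _ _ 0 chk_t_ne

theorem orderOf_tT : orderOf tT = 2 :=
  orderOf_eq_prime (by rw [pow_two]; exact tT_mul_self) tT_ne_one

/-! ### the blocks -/

theorem blkN_lt (q : ℕ) : blkN q < 64 := by
  unfold blkN
  have h := chk_blk_lt
  rw [List.all_eq_true] at h
  by_cases hq : q < blkL.length
  · rw [List.getD_eq_getElem _ _ hq]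
    have := h _ (List.getElem_mem hq)
    rwa [Nat.blt_eq] at this
  · rw [List.getD_eq_default _ _ (by omega)]
    norm_num

/-- the block of a point -/
def blk (p : Fin co2T.n) : Fin 64 := ⟨blkN p.val, blkN_lt p.val⟩

theorem blk_val (p : Fin co2T.n) : (blk p).val = blkN p.val := rfl

theorem blk_surjective : Function.Surjective blk := by
  intro i
  have h := chk_rep
  rw [List.all_eq_true] at h
  have h1 := h i.val (List.mem_range.mpr i.isLt)
  rw [Bool.and_eq_true, Nat.blt_eq] at h1
  exact ⟨⟨repL.getD i.val 0, h1.1⟩, Fin.ext (Nat.eq_of_beq_eq_true h1.2)⟩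

/-- the elements permuting the blocks -/
noncomputable abbrev PSb : Subgroup co2T.G := PS co2T blk

theorem q_mem_PS (i : ℕ) (hi : i < 9) :
    ∃ h : co2T.elt [20 + i] ∈ PSb, theta blk_surjective ⟨co2T.elt [20 + i], h⟩ = 1 := by
  apply letter_mem_PS co2T iv2 invMap2 blk_surjective blkN blk_val (20 + i)
    (by rw [co2T_nl]; omega) 1 id (fun _ => rfl)
  intro q hq
  have h := chk_blk_q
  rw [List.all_eq_true] at h
  have h1 := h i (List.mem_range.mpr hi)
  rw [List.all_eq_true] at h1
  exact Nat.eq_of_beq_eq_true (h1 q (List.mem_range.mpr hq))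

theorem x_mem_PS :
    ∃ h : co2T.elt [29] ∈ PSb, theta blk_surjective ⟨co2T.elt [29], h⟩ = φ gA := by
  apply letter_mem_PS co2T iv2 invMap2 blk_surjective blkN blk_val 29
    (by rw [co2T_nl]; norm_num) (φ gA) (fun i => tA.getD i 0) φ_gA
  intro q hq
  have h := chk_blk_x
  rw [List.all_eq_true] at h
  exact Nat.eq_of_beq_eq_true (h q (List.mem_range.mpr hq))

theorem y_mem_PS :
    ∃ h : co2T.elt [31] ∈ PSb, theta blk_surjective ⟨co2T.elt [31], h⟩ = φ gB := by
  apply letter_mem_PS co2T iv2 invMap2 blk_surjective blkN blk_val 31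
    (by rw [co2T_nl]; norm_num) (φ gB) (fun i => tB.getD i 0) φ_gB
  intro q hq
  have h := chk_blk_y
  rw [List.all_eq_true] at h
  exact Nat.eq_of_beq_eq_true (h q (List.mem_range.mpr hq))

/-! ### the centralizer -/

/-- the centralizer of the involution -/
noncomputable abbrev Cc : Subgroup co2T.G := Subgroup.centralizer ({tT} : Set co2T.G)

theorem comm_t (i : ℕ) (hi : i < 12) : tT * co2T.elt [20 + i] = co2T.elt [20 + i] * tT := by
  unfold tT
  rw [← co2T.elt_append, ← co2T.elt_append]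
  have h := chk_comm_t
  rw [List.all_eq_true] at h
  exact eqT _ _ (h i (List.mem_range.mpr hi))

theorem letter_mem_Cc (i : ℕ) (hi : i < 12) : co2T.elt [20 + i] ∈ Cc := by
  rw [Subgroup.mem_centralizer_iff]
  intro h hh
  rw [Set.mem_singleton_iff] at hh
  rw [hh]
  exact comm_t i hi

theorem card_co2T : Nat.card co2T.G = 42305421312000 := card_Co2

theorem card_Cc_le : Nat.card Cc ≤ 743178240 := by
  have h := card_centralizer_le co2T iv2 [20] bsC invMap2
    (by intro c hc; rw [List.mem_singleton] at hc; rw [hc, co2T_nl]; norm_num)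
    (by intro b hb; rw [co2T_n]; revert b; decide)
    wsA2 ksA wsA2_length (by rw [co2T_nl]; exact pieces_ok) ksA_incr
  rw [ksA_length, card_co2T] at h
  show Nat.card (Subgroup.centralizer ({co2T.elt [20]} : Set co2T.G)) ≤ 743178240
  omega

end Cfsg.Agent.Lib.Helper7.Co2C
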