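import Mathlib
import Cfsg.Agent.Lib.Helper7.Co2C7

set_option autoImplicit false
set_option maxRecDepth 100000

/-! The involution centralizer of the second Conway group: the normal subgroup of order `2^9` and
the action on the 63 blocks. -/

namespace Cfsg.Agent.Lib.Helper7.Co2C

open Cfsg
open Cfsg.Agent.Lib.Helper6.TC Cfsg.Agent.Lib.Helper6.PM Cfsg.Agent.Lib.Helper2.PMS
open Cfsg.Agent.Lib.Helper5.Chain Cfsg.Agent.Lib.Helper7.McLC
open Cfsg.Agent.Lib.Helper1.Sp6 Cfsg.Agent.Lib.Helper1.Co2B

/-- a subgroup containing the elements of a list without repetitions has at least as many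
elements -/
theorem length_le_card {G : Type*} [Group G] [Finite G] (H : Subgroup G) (T : List G)
    (hT : T.Nodup) (hmem : ∀ t ∈ T, t ∈ H) : T.length ≤ Nat.card H := by
  classical
  have hsub : (↑T.toFinset : Set G) ⊆ (H : Set G) := by
    intro t ht
    rw [Finset.mem_coe, List.mem_toFinset] at ht
    exact hmem t ht
  have h := Set.ncard_le_ncard hsub (Set.toFinite _)
  rw [Set.ncard_coe_finset, List.toFinset_card_of_nodup hT] at h
  have e : (H : Set G).ncard = Nat.card H := (Nat.card_coe_set_eq (H : Set G)).symm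
  rwa [e] at h

/-! ### the 512 elements -/

/-- the generators of the normal subgroup -/
def SQ : Set co2T.G := {g | ∃ i < 9, g = co2T.elt [20 + i]}

/-- the normal subgroup, as a subgroup of the whole group -/
noncomputable def QG : Subgroup co2T.G := Subgroup.closure SQ

/-- the 512 elements -/
noncomputable def qE : List co2T.G := qW.map co2T.elt

theorem qW_letters (w : List ℕ) (hw : w ∈ qW) (c : ℕ) (hc : c ∈ w) : 20 ≤ c ∧ c ≤ 28 := by
  have h := chk_qW_letters
  rw [List.all_eq_true] at h
  have h1 := h w hw
  rw [List.all_eq_true] at h1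
  have h2 := h1 c hc
  rw [Bool.and_eq_true, Nat.ble_eq, Nat.ble_eq] at h2
  exact h2

theorem qW_length : qW.length = 512 := by
  have h := congrArg List.length chk_qW_keys
  rw [List.length_map, qK_length] at h
  exact h

theorem qL_length : qL.length = 512 := by
  have h := qW_length
  unfold qW at h
  rwa [List.length_map] at h

theorem qE_length : qE.length = 512 := by
  unfold qE
  rw [List.length_map, qW_length]

theorem qE_nodup : qE.Nodup := by
  have h1 : qE.map (keyG co2T bsC) = qK := by
    unfold qE
    rw [List.map_map, ← chk_qW_keys]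
    apply List.map_congr_left
    intro w hw
    simp only [Function.comp]
    unfold keyG
    congr 1
    apply List.map_congr_left
    intro b hb
    have hl : ∀ c ∈ w, c < co2T.nl := by
      intro c hc
      rw [co2T_nl]
      have := (qW_letters w hw c hc).2
      omega
    have hb' : b < co2T.n := by
      rw [co2T_n]
      revert b
      decide
    rw [wappS_eq, ract_elt co2T w hl b hb']
    rfl
  apply List.Nodup.of_map (keyG co2T bsC)
  rw [h1]
  exact nodup_of_isIncr _ chk_qK_incr

theorem qE_mem_QG : ∀ g ∈ qE, g ∈ QG := by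
  intro g hg
  unfold qE at hg
  rw [List.mem_map] at hg
  obtain ⟨w, hw, rfl⟩ := hg
  apply elt_mem_of_letters
  intro c hc
  obtain ⟨h1, h2⟩ := qW_letters w hw c hc
  apply Subgroup.subset_closure
  refine ⟨c - 20, by omega, ?_⟩
  rw [show 20 + (c - 20) = c by omega]

theorem card_QG_ge : 512 ≤ Nat.card QG := by
  have := length_le_card QG qE qE_nodup qE_mem_QG
  rwa [qE_length] at this

/-! ### subgroups containing the generators and permuting the blocks -/

theorem card_phi_range : Nat.card φ.range = 1451520 := by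
  rw [← card_G6]
  exact (Nat.card_congr (MonoidHom.ofInjective φ_injective).toEquiv).symm

section sub

variable (D : Subgroup co2T.G) (hD : D ≤ PSb) (hgen : ∀ i < 12, co2T.elt [20 + i] ∈ D)
include hgen

theorem QG_le_ker : QG ≤ (thetaD blk_surjective D hD).ker.map D.subtype := by
  unfold QG
  rw [Subgroup.closure_le]
  rintro g ⟨i, hi, rfl⟩
  refine ⟨⟨co2T.elt [20 + i], hgen i (by omega)⟩, ?_, rfl⟩
  rw [SetLike.mem_coe, MonoidHom.mem_ker, thetaD_apply]
  obtain ⟨h, hh⟩ := q_mem_PS i hi
  exact hh

theorem card_ker_ge : 512 ≤ Nat.card (thetaD blk_surjective D hD).ker := by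
  have h1 := Subgroup.card_le_of_le (QG_le_ker D hD hgen)
  rw [Subgroup.card_map_of_injective D.subtype_injective] at h1
  exact le_trans card_QG_ge h1

theorem range_ge : φ.range ≤ (thetaD blk_surjective D hD).range := by
  rw [MonoidHom.range_eq_map, ← closure_GG, MonoidHom.map_closure, Subgroup.closure_le]
  rintro τ ⟨g, hg, rfl⟩
  rcases hg with rfl | hg
  · obtain ⟨h, hh⟩ := x_mem_PS
    refine ⟨⟨co2T.elt [29], hgen 9 (by norm_num)⟩, ?_⟩
    rw [thetaD_apply]
    exact hh
  · rw [Set.mem_singleton_iff] at hg
    subst hg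
    obtain ⟨h, hh⟩ := y_mem_PS
    refine ⟨⟨co2T.elt [31], hgen 11 (by norm_num)⟩, ?_⟩
    rw [thetaD_apply]
    exact hh

theorem card_range_ge : 1451520 ≤ Nat.card (thetaD blk_surjective D hD).range := by
  have h1 := Subgroup.card_le_of_le (range_ge D hD hgen)
  rwa [card_phi_range] at h1

include hD in
theorem card_ge : 743178240 ≤ Nat.card D := by
  rw [card_eq_ker_mul_range blk_surjective D hD]
  calc 743178240 = 512 * 1451520 := by norm_num
    _ ≤ _ := Nat.mul_le_mul (card_ker_ge D hD hgen) (card_range_ge D hD hgen)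

end sub

/-! ### the centralizer permutes the blocks -/

theorem Cc_le_PSb : Cc ≤ PSb := by
  have hgen : ∀ i < 12, co2T.elt [20 + i] ∈ Cc ⊓ PSb := by
    intro i hi
    refine ⟨letter_mem_Cc i hi, ?_⟩
    have h9 : i < 9 ∨ i = 9 ∨ i = 10 ∨ i = 11 := by omega
    rcases h9 with h | rfl | rfl | rfl
    · exact (q_mem_PS i h).1
    · exact x_mem_PS.1
    · -- the letter `30` is the inverse of the letter `29`
      have e : co2T.elt [30] = (co2T.elt [29])⁻¹ := by
        apply eq_inv_of_mul_eq_one_left
        rw [← co2T.elt_append, ← co2T.elt_nil]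
        exact eqT _ _ (by decide +kernel)
      show co2T.elt [30] ∈ PSb
      rw [e]
      exact PSb.inv_mem x_mem_PS.1
    · exact y_mem_PS.1
  have h1 := card_ge (Cc ⊓ PSb) inf_le_right hgen
  have h2 : Cc ⊓ PSb = Cc :=
    Subgroup.eq_of_le_of_card_ge inf_le_left (le_trans card_Cc_le h1)
  rw [← h2]
  exact inf_le_right

/-- the action of the centralizer on the blocks -/
noncomputable def psi : Cc →* Equiv.Perm (Fin 64) := thetaD blk_surjective Cc Cc_le_PSb

theorem card_psi : Nat.card psi.ker = 512 ∧ Nat.card psi.range = 1451520 := by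
  have h1 := card_eq_ker_mul_range blk_surjective Cc Cc_le_PSb
  have h2 := card_ker_ge Cc Cc_le_PSb letter_mem_Cc
  have h3 := card_range_ge Cc Cc_le_PSb letter_mem_Cc
  have h4 := card_Cc_le
  rw [h1] at h4
  change 512 ≤ Nat.card psi.ker at h2
  change 1451520 ≤ Nat.card psi.range at h3
  change Nat.card psi.ker * Nat.card psi.range ≤ 743178240 at h4
  constructor
  · apply le_antisymm _ h2
    have : Nat.card psi.ker * 1451520 ≤ 512 * 1451520 :=
      le_trans (Nat.mul_le_mul_left _ h3) (by norm_num at h4 ⊢; exact h4)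
    exact Nat.le_of_mul_le_mul_right this (by norm_num)
  · apply le_antisymm _ h3
    have : 512 * Nat.card psi.range ≤ 512 * 1451520 :=
      le_trans (Nat.mul_le_mul_right _ h2) (by norm_num at h4 ⊢; exact h4)
    exact Nat.le_of_mul_le_mul_left this (by norm_num)

theorem psi_range : psi.range = φ.range := by
  symm
  apply Subgroup.eq_of_le_of_card_ge (range_ge Cc Cc_le_PSb letter_mem_Cc)
  rw [card_phi_range]
  exact le_of_eq card_psi.2

theorem QG_eq : QG = psi.ker.map Cc.subtype := by
  apply Subgroup.eq_of_le_of_card_ge (QG_le_ker Cc Cc_le_PSb letter_mem_Cc)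
  rw [Subgroup.card_map_of_injective Cc.subtype_injective]
  exact le_trans (le_of_eq card_psi.1) card_QG_ge

theorem card_QG : Nat.card QG = 512 := by
  rw [QG_eq, Subgroup.card_map_of_injective Cc.subtype_injective]
  exact card_psi.1

end Cfsg.Agent.Lib.Helper7.Co2C
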