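import Mathlib
import Cfsg.Agent.Lib.Helper7.Co2C8

set_option autoImplicit false
set_option maxRecDepth 100000

/-! The involution centralizer of the second Conway group: the normal subgroup of order `2^9` is
extraspecial, it is the largest normal 2-subgroup, and the quotient is the symplectic group. -/

namespace Cfsg.Agent.Lib.Helper7.Co2C

open Cfsg
open Cfsg.Agent.Lib.Helper6.TC Cfsg.Agent.Lib.Helper6.PM Cfsg.Agent.Lib.Helper2.PMS
open Cfsg.Agent.Lib.Helper5.Chain Cfsg.Agent.Lib.Helper7.McLC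
open Cfsg.Agent.Lib.Helper1.Sp6 Cfsg.Agent.Lib.Helper1.Co2B

theorem q_sq (i : ℕ) (hi : i < 9) : co2T.elt [20 + i] * co2T.elt [20 + i] = 1 := by
  rw [← co2T.elt_append, ← co2T.elt_nil]
  have h := chk_q_sq
  rw [List.all_eq_true] at h
  exact eqT _ _ (h i (List.mem_range.mpr hi))

theorem q_comm (i : ℕ) (hi : i < 9) (j : ℕ) (hj : j < 9) :
    Cz tT (co2T.elt [20 + i]) (co2T.elt [20 + j]) := by
  have h := chk_q_comm
  rw [List.all_eq_true] at h
  have h1 := h i (List.mem_range.mpr hi)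
  rw [List.all_eq_true] at h1
  have h2 := h1 j (List.mem_range.mpr hj)
  rw [Bool.or_eq_true] at h2
  rcases h2 with h2 | h2
  · refine ⟨0, ?_⟩
    rw [pow_zero, mul_one, ← co2T.elt_append, ← co2T.elt_append]
    exact eqT _ _ h2
  · refine ⟨1, ?_⟩
    unfold tT
    rw [pow_one, ← co2T.elt_append, ← co2T.elt_append, ← co2T.elt_append]
    exact eqT _ _ h2

theorem mem_qE_of_mem_QG (x : co2T.G) (hx : x ∈ QG) : x ∈ qE :=
  mem_of_card_le QG qE qE_nodup qE_mem_QG (by rw [card_QG, qE_length]) x hx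

theorem decW_one : decW 1 = [] := by decide

theorem decW_52 : decW 52 = [20] := by decide

theorem QG_central (x : co2T.G) (hx : x ∈ QG) (hc : ∀ s ∈ SQ, x * s = s * x) :
    x = 1 ∨ x = tT := by
  have hx' := mem_qE_of_mem_QG x hx
  unfold qE qW at hx'
  rw [List.map_map, List.mem_map] at hx'
  obtain ⟨n, hn, rfl⟩ := hx'
  obtain ⟨i, hi, rfl⟩ := List.getElem_of_mem hn
  have hi' : i < 512 := by rwa [qL_length] at hi
  have h := chk_cen
  rw [List.all_eq_true] at h
  have h1 := h i (List.mem_range.mpr hi')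
  rw [List.getD_eq_getElem _ _ hi, Bool.or_eq_true, Bool.or_eq_true] at h1
  simp only [Function.comp_apply] at hc ⊢
  rcases h1 with (h1 | h1) | h1
  · left
    rw [Nat.eq_of_beq_eq_true h1, decW_one, co2T.elt_nil]
  · right
    rw [Nat.eq_of_beq_eq_true h1, decW_52]
    rfl
  · exfalso
    rw [Bool.and_eq_true, Bool.and_eq_true, Nat.ble_eq, Nat.ble_eq] at h1
    obtain ⟨⟨h21, h28⟩, hne⟩ := h1
    set c := (qCen.getD i (0, 0)).1 with hcdef
    have hne' := neT _ _ _ hne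
    rw [co2T.elt_append, co2T.elt_cons c (decW qL[i])] at hne'
    apply hne'
    apply hc
    refine ⟨c - 20, by omega, ?_⟩
    rw [show 20 + (c - 20) = c by omega]

/-- the normal subgroup is extraspecial -/
theorem isExtraspecial_QG : Cfsg.IsExtraspecial 2 ↥QG := by
  unfold QG
  apply isExtraspecial_closure SQ tT tT_mul_self tT_ne_one
  · exact Subgroup.subset_closure ⟨0, by norm_num, rfl⟩
  · rintro s ⟨i, hi, rfl⟩
    exact comm_t i (by omega)
  · rintro s ⟨i, hi, rfl⟩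
    exact ⟨0, by rw [pow_zero]; exact q_sq i hi⟩
  · rintro s ⟨i, hi, rfl⟩ s' ⟨j, hj, rfl⟩
    exact q_comm i hi j hj
  · exact ⟨9, by rw [← QG, card_QG]; norm_num⟩
  · exact QG_central
  · refine ⟨co2T.elt [21], ⟨1, by norm_num, rfl⟩, co2T.elt [22], ⟨2, by norm_num, rfl⟩, ?_⟩
    rw [← co2T.elt_append, ← co2T.elt_append]
    exact neT _ _ 0 chk_q_na

/-- the kernel of the action on the blocks is extraspecial -/
theorem isExtraspecial_ker : Cfsg.IsExtraspecial 2 ↥psi.ker := by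
  have e1 : ↥psi.ker ≃* ↥(psi.ker.map Cc.subtype) :=
    Subgroup.equivMapOfInjective psi.ker Cc.subtype Cc.subtype_injective
  have e2 : ↥QG ≃* ↥(psi.ker.map Cc.subtype) := MulEquiv.subgroupCongr QG_eq
  exact Cfsg.Agent.Lib.Helper9.isExtraspecial_of_mulEquiv (e2.trans e1.symm) isExtraspecial_QG

theorem not_isPGroup_G6 : ¬ IsPGroup 2 G6 := by
  intro h
  haveI : Fact (Nat.Prime 2) := ⟨Nat.prime_two⟩
  obtain ⟨n, hn⟩ := IsPGroup.iff_card.mp h
  rw [card_G6] at hn
  have h3 : 3 ∣ 2 ^ n := by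
    rw [← hn]
    norm_num
  have := (Nat.Prime.dvd_of_dvd_pow Nat.prime_three h3)
  omega

/-- the quotient of the centralizer by the kernel of the action on the blocks -/
noncomputable def quotEquiv : ↥Cc ⧸ psi.ker ≃* G6 :=
  (QuotientGroup.quotientKerEquivRange psi).trans
    ((MulEquiv.subgroupCongr psi_range).trans (MonoidHom.ofInjective φ_injective).symm)

theorem pCore_Cc : Cfsg.pCore 2 ↥Cc = psi.ker := by
  haveI : Fact (Nat.Prime 2) := ⟨Nat.prime_two⟩
  apply pCore_eq_of_quotient_simple psi.ker (IsPGroup.of_card (n := 9) (by rw [card_psi.1]; norm_num))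
    isSimpleGroup_G6 not_isPGroup_G6 quotEquiv

/-- **the involution centralizer of the second Conway group** -/
theorem co2_involution_centralizer :
    ∃ t : ↥Cfsg.Spor.Co2, orderOf t = 2 ∧
      Cfsg.IsExtraspecial 2 (Cfsg.pCore 2 ↥(Subgroup.centralizer ({t} : Set ↥Cfsg.Spor.Co2))) ∧
      Nat.card (Cfsg.pCore 2 ↥(Subgroup.centralizer ({t} : Set ↥Cfsg.Spor.Co2))) = 2 ^ 9 ∧
      Nonempty (↥(Subgroup.centralizer ({t} : Set ↥Cfsg.Spor.Co2)) ⧸
        Cfsg.pCore 2 ↥(Subgroup.centralizer ({t} : Set ↥Cfsg.Spor.Co2)) ≃*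
          Matrix.symplecticGroup (Fin 3) (ZMod 2)) := by
  have h1 : Cfsg.IsExtraspecial 2 (Cfsg.pCore 2 ↥Cc) := by
    rw [pCore_Cc]
    exact isExtraspecial_ker
  have h2 : Nat.card (Cfsg.pCore 2 ↥Cc) = 2 ^ 9 := by
    rw [pCore_Cc, card_psi.1]
    norm_num
  have h3 : Nonempty (↥Cc ⧸ Cfsg.pCore 2 ↥Cc ≃* Matrix.symplecticGroup (Fin 3) (ZMod 2)) :=
    ⟨(QuotientGroup.quotientMulEquivOfEq pCore_Cc).trans quotEquiv⟩
  exact ⟨tT, orderOf_tT, h1, h2, h3⟩

end Cfsg.Agent.Lib.Helper7.Co2C
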