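import Mathlib
import Cfsg.Agent.Lib.Helper5.Chain2
import Cfsg.Agent.Lib.Helper1.LeechEnum10

set_option autoImplicit false
set_option maxRecDepth 100000

/-! Generic lemmas for the permutation models of the stabilizers of vectors of the rank-24
lattice: transport of a model along an isomorphism, the lower bound of the order from a chain,
injectivity of the unpacking of vectors. -/

namespace Cfsg.Agent.Lib.Helper7.LBridge

open Cfsg Cfsg.Agent.Lib.Helper1 Cfsg.Agent.Lib.Helper1.MatCode
  Cfsg.Agent.Lib.Helper1.LeechEnum Cfsg.Agent.Lib.Helper1.LeechConn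
open Cfsg.Agent.Lib.Helper6.TC Cfsg.Agent.Lib.Helper6.PM Cfsg.Agent.Lib.Helper2.PMS
open Cfsg.Agent.Lib.Helper5.Chain

/-- transport of a model along an isomorphism -/
noncomputable def transportM (M : PModel) {H : Type} [Group H] (e : H ≃* M.G) : PModel where
  G := H
  fin := Finite.of_equiv _ e.symm.toEquiv
  n := M.n
  nl := M.nl
  px := M.px
  elt := fun w => e.symm (M.elt w)
  phi := M.phi.comp e.toMonoidHom
  elt_nil := by rw [M.elt_nil, map_one]
  elt_append := fun u v => by rw [M.elt_append, map_mul]
  px_lt := M.px_lt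
  phi_inv_val := by
    intro w hw p
    rw [MonoidHom.comp_apply, MulEquiv.coe_toMonoidHom, MulEquiv.apply_symm_apply]
    exact M.phi_inv_val w hw p
  phi_injective := M.phi_injective.comp e.injective
  closure_letters := by
    have h := M.closure_letters
    have himg : e.symm.toMonoidHom '' {g : M.G | ∃ c < M.nl, g = M.elt [c]} =
        {g : H | ∃ c < M.nl, g = e.symm (M.elt [c])} := by
      ext g
      constructor
      · rintro ⟨_, ⟨c, hc, rfl⟩, rfl⟩
        exact ⟨c, hc, rfl⟩
      · rintro ⟨c, hc, rfl⟩
        exact ⟨_, ⟨c, hc, rfl⟩, rfl⟩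
    rw [← himg, ← MonoidHom.map_closure, h, ← MonoidHom.range_eq_map]
    exact MonoidHom.range_eq_top.mpr e.symm.surjective

/-- a chain gives a lower bound for the order -/
theorem card_ge_of_chainM (M : PModel) (bs : List ℕ) (Ls : List (List (List ℕ)))
    (hc : IsChain M.px bs Ls) (hb : ∀ b ∈ bs, b < M.n)
    (hl : ∀ Lj ∈ Ls, ∀ w ∈ Lj, ∀ c ∈ w, c < M.nl) :
    (Ls.map List.length).prod ≤ Nat.card M.G := by
  classical
  haveI : Fintype M.G := Fintype.ofFinite M.G
  have hnd := prods_nodup M bs Ls hc
  have hinj : ∀ u ∈ prods Ls, ∀ u' ∈ prods Ls, M.elt u = M.elt u' → u = u' := by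
    intro u hu u' hu' h
    apply prods_inj M bs Ls hc hb hl u hu u' hu'
    intro b hb'
    have hlu := letters_prods M.nl Ls hl u hu
    have hlu' := letters_prods M.nl Ls hl u' hu'
    have h1 := M.phi_inv_val u hlu ⟨b, hb b hb'⟩
    have h2 := M.phi_inv_val u' hlu' ⟨b, hb b hb'⟩
    rw [h] at h1
    exact h1.symm.trans h2
  have hnd2 : ((prods Ls).map M.elt).Nodup := by
    rw [List.nodup_map_iff_inj_on hnd]
    exact hinj
  have := hnd2.length_le_card
  rw [List.length_map, length_prods] at this
  rw [Nat.card_eq_fintype_card]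
  exact this

/-- the unpacking of vectors is injective -/
theorem vec_injM {v w : ℕ} (hv : v < 65536 ^ 24) (hw : w < 65536 ^ 24) (h : vec v = vec w) :
    v = w := by
  have hf : ∀ k < 24, fld k v = fld k w := by
    intro k hk
    have := congrFun h (gUnidx k)
    rw [vec_apply, vec_apply, gIdx_gUnidx k hk] at this
    have h3 : (fld k v : ℤ) = (fld k w : ℤ) := by linarith
    exact_mod_cast h3
  have h1 : pkr 24 (fun k => fld k v) = v := by
    rw [pkr_flds]
    exact Nat.mod_eq_of_lt hv
  have h2 : pkr 24 (fun k => fld k w) = w := by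
    rw [pkr_flds]
    exact Nat.mod_eq_of_lt hw
  have h3 : (List.range 24).map (fun k => fld k v) = (List.range 24).map (fun k => fld k w) := by
    apply List.map_congr_left
    intro k hk
    exact hf k (List.mem_range.mp hk)
  have h4 : pkr 24 (fun k => fld k v) = pkr 24 (fun k => fld k w) := by
    unfold pkr
    rw [h3]
  rw [← h1, h4, h2]

/-- strictly increasing lists -/
def incrL : List ℕ → Bool
  | [] => true
  | [_] => true
  | a :: b :: l => Nat.blt a b && incrL (b :: l)

theorem incrL_aux : ∀ (l : List ℕ) (a : ℕ), incrL (a :: l) = true →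
    (∀ x ∈ l, a < x) ∧ (a :: l).Nodup
  | [], a, _ => ⟨fun x hx => absurd hx (List.not_mem_nil), List.nodup_singleton a⟩
  | b :: l, a, h => by
    have h' : (Nat.blt a b && incrL (b :: l)) = true := h
    rw [Bool.and_eq_true, Nat.blt_eq] at h'
    obtain ⟨h1, h2⟩ := incrL_aux l b h'.2
    have hall : ∀ x ∈ b :: l, a < x := by
      intro x hx
      rcases List.mem_cons.mp hx with rfl | hx
      · exact h'.1
      · exact lt_trans h'.1 (h1 x hx)
    refine ⟨hall, ?_⟩
    rw [List.nodup_cons]
    refine ⟨fun hmem => ?_, h2⟩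
    exact absurd (hall a hmem) (lt_irrefl a)

theorem nodup_of_incrL (l : List ℕ) (h : incrL l = true) : l.Nodup := by
  cases l with
  | nil => exact List.nodup_nil
  | cons a l => exact (incrL_aux l a h).2

end Cfsg.Agent.Lib.Helper7.LBridge
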