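import Mathlib
import Cfsg.Agent.Lib.Helper7.Co3B1
import Cfsg.Agent.Lib.Helper7.LBridge0

set_option autoImplicit false
set_option maxRecDepth 100000

/-! The third Conway group as a permutation group on 552 points: the checks of the data. -/

namespace Cfsg.Agent.Lib.Helper7.Co3B

open Cfsg Cfsg.Agent.Lib.Helper1.LeechEnum

/-- the packed vector of an index -/
def vL (i : ℕ) : ℕ := LV.getD i 0

/-- the generator of a code -/
def gOf (c : ℕ) : List (List ℕ) := Nat.rec (motive := fun _ => List (List ℕ)) ga (fun _ _ => gb) c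

theorem ga_ok : genOK [pD0] ga = true := by decide +kernel

theorem gb_ok : genOK [pD0] gb = true := by decide +kernel

theorem tree_ok : allB (fun i => Nat.beq i rootI ||
    (Nat.beq (applyGen (gOf (pargL.getD i 0)) (vL (parL.getD i 0))) (vL i) &&
      Nat.blt (parL.getD i 0) 552 &&
      Nat.blt (depL.getD (parL.getD i 0) 0) (depL.getD i 0))) 552 = true := by decide +kernel

theorem actA_ok : allB (fun i => Nat.beq (applyGen ga (vL i)) (vL (tA.getD i 0))) 552 = true := by
  decide +kernel

theorem actB_ok : allB (fun i => Nat.beq (applyGen gb (vL i)) (vL (tB.getD i 0))) 552 = true := by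
  decide +kernel

theorem inv_ok : allB (fun i =>
    Nat.blt (tA.getD i 0) 552 && Nat.blt (tB.getD i 0) 552 &&
    Nat.blt (tAi.getD i 0) 552 && Nat.blt (tBi.getD i 0) 552 &&
    Nat.beq (tA.getD (tAi.getD i 0) 0) i && Nat.beq (tAi.getD (tA.getD i 0) 0) i &&
    Nat.beq (tB.getD (tBi.getD i 0) 0) i && Nat.beq (tBi.getD (tB.getD i 0) 0) i) 552 = true := by
  decide +kernel

theorem LV_incr : Cfsg.Agent.Lib.Helper7.LBridge.incrL LV = true := by decide +kernel

theorem LV_nodup : LV.Nodup := Cfsg.Agent.Lib.Helper7.LBridge.nodup_of_incrL LV LV_incr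

theorem LV_length : LV.length = 552 := by decide +kernel

theorem LV_lt : allB (fun i => Nat.blt (vL i) (65536 ^ 24)) 552 = true := by decide +kernel

theorem vL_root : vL rootI = pU := by decide +kernel

end Cfsg.Agent.Lib.Helper7.Co3B
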