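import Mathlib
import Cfsg.Agent.Lib.Helper7.Co3B2
import Cfsg.Agent.Lib.Helper1.EnC1
import Cfsg.Agent.Lib.Helper1.LeechEnum10

set_option autoImplicit false
set_option maxRecDepth 100000

/-! The third Conway group as a permutation group on 552 points: the vectors. -/

namespace Cfsg.Agent.Lib.Helper7.Co3B

open Cfsg MulAction Cfsg.Agent.Lib.Helper1 Cfsg.Agent.Lib.Helper1.LeechEnum
  Cfsg.Agent.Lib.Helper1.LeechConn Cfsg.Agent.Lib.Helper1.LeechAut

/-- the condition defining the 552 vectors -/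
def CC (z : GolayPt → ℤ) : Prop := dotInt d₀ z = 24

/-- the 552 vectors -/
def OmF : Set (GolayPt → ℤ) := {z | z ∈ leechLattice ∧ sqNorm z = 32 ∧ CC z}

theorem OmF_ncard : OmF.ncard = 552 := by
  apply EnC1.census (fun z => dotInt d₀ z = 24)
  intro v hv hg
  have h2 := dot_d0 v
  rw [sum_flds hv hg] at h2
  show Nat.beq (v % 65535 + 4 * fld 23 v) 7192 = true ↔ _
  rw [nbeq_iff, h2]
  omega

theorem hY : ∀ y ∈ [pD0], Good y := by
  intro y hy
  have : y = pD0 := by simpa using hy
  rw [this]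
  exact good_pD0

/-- the fixed lattice vector -/
def D0L : leechLattice := ⟨d₀, d0_mem⟩

/-- what is preserved by the generators -/
theorem tracks_step {f : ℕ → ℕ} (hf : TracksFix [pD0] f) {v : ℕ} (hv : Good v) :
    Good (f v) ∧ sqNorm (vec (f v)) = sqNorm (vec v) ∧
      dotInt d₀ (vec (f v)) = dotInt d₀ (vec v) := by
  obtain ⟨F, hF, hFY, hFv⟩ := hf
  have h1 := hFv v hv
  have hd : F d₀ = d₀ := by
    have := hFY pD0 (by simp)
    rwa [vec_pD0] at this
  obtain ⟨g, hg⟩ := hF
  have e0 := hg ⟨vec v, hv.1⟩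
  have e1 := hg D0L
  refine ⟨IsAct.good ⟨g, hg⟩ hv h1, ?_, ?_⟩
  · rw [h1]
    exact IsAct.sqNorm ⟨g, hg⟩ hv.1
  · have := smul_dot g D0L ⟨vec v, hv.1⟩
    rw [e0, e1] at this
    rw [h1]
    show dotInt d₀ (F (vec v)) = dotInt d₀ (vec v)
    have hd' : F (D0L : GolayPt → ℤ) = d₀ := hd
    rw [hd'] at this
    exact this

theorem tracks_gOf (c : ℕ) : TracksFix [pD0] (applyGen (gOf c)) := by
  cases c with
  | zero => exact genOK_sound hY ga_ok
  | succ n => exact genOK_sound hY gb_ok

theorem CC_root : CC Cfsg.Spor.vecU := by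
  unfold CC
  decide +kernel

/-- the vectors of the list are among the 552 vectors -/
theorem vL_props_aux : ∀ d, ∀ i < 552, depL.getD i 0 = d →
    Good (vL i) ∧ sqNorm (vec (vL i)) = 32 ∧ CC (vec (vL i)) := by
  intro d
  induction d using Nat.strong_induction_on with
  | _ d ih =>
    intro i hi hd
    have h := (allB_iff _ _).mp tree_ok i hi
    rw [Bool.or_eq_true] at h
    rcases h with h | h
    · have hi0 : i = rootI := (nbeq_iff _ _).mp h
      rw [hi0, vL_root]
      refine ⟨good_pU, ?_, ?_⟩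
      · rw [vec_pU]; exact vecU_norm
      · rw [vec_pU]; exact CC_root
    · rw [Bool.and_eq_true, Bool.and_eq_true] at h
      have h1 := (nbeq_iff _ _).mp h.1.1
      have h2 : parL.getD i 0 < 552 := by
        have := h.1.2
        rwa [Nat.blt_eq] at this
      have h3 : depL.getD (parL.getD i 0) 0 < d := by
        have := h.2
        rwa [Nat.blt_eq, hd] at this
      obtain ⟨hg, hn, hc⟩ := ih _ h3 _ h2 rfl
      obtain ⟨a, b, c⟩ := tracks_step (tracks_gOf (pargL.getD i 0)) hg
      rw [h1] at a b c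
      refine ⟨a, by rw [b, hn], ?_⟩
      show dotInt d₀ (vec (vL i)) = 24
      rw [c]; exact hc

theorem vL_props : ∀ i < 552, Good (vL i) ∧ sqNorm (vec (vL i)) = 32 ∧ CC (vec (vL i)) :=
  fun i hi => vL_props_aux _ i hi rfl

end Cfsg.Agent.Lib.Helper7.Co3B
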