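import Mathlib
import Cfsg.Agent.Lib.Helper7.Co3B3
import Cfsg.Agent.Lib.Helper7.LBridge0
import Cfsg.Agent.S0403

set_option autoImplicit false
set_option maxRecDepth 100000

/-! The third Conway group as a permutation group on 552 points: the action. -/

namespace Cfsg.Agent.Lib.Helper7.Co3B

open Cfsg MulAction Cfsg.Agent.Lib.Helper1 Cfsg.Agent.Lib.Helper1.LeechEnum
  Cfsg.Agent.Lib.Helper1.LeechConn Cfsg.Agent.Lib.Helper1.LeechAut

theorem vL_lt (i : ℕ) (hi : i < 552) : vL i < 65536 ^ 24 := by
  have := (allB_iff _ _).mp LV_lt i hi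
  rwa [Nat.blt_eq] at this

theorem vL_inj (i j : ℕ) (hi : i < 552) (hj : j < 552) (h : vL i = vL j) : i = j := by
  unfold vL at h
  rw [List.getD_eq_getElem _ _ (by rw [LV_length]; exact hi),
    List.getD_eq_getElem _ _ (by rw [LV_length]; exact hj)] at h
  exact (List.Nodup.getElem_inj_iff LV_nodup).mp h

/-- the 552 vectors as lattice vectors -/
def OmL : Set leechLattice :=
  {x | sqNorm (x : GolayPt → ℤ) = 32 ∧ CC (x : GolayPt → ℤ)}

theorem OmL_ncard : OmL.ncard = 552 := by
  have := ncard_subtype (fun z => sqNorm z = 32 ∧ CC z)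
  rw [← OmF_ncard]
  exact this

/-- the lattice vector of an index -/
def xL (i : Fin 552) : leechLattice := ⟨vec (vL i), (vL_props i i.isLt).1.1⟩

theorem xL_mem (i : Fin 552) : xL i ∈ OmL := (vL_props i i.isLt).2

theorem xL_injective : Function.Injective xL := by
  intro i j h
  have h1 : vec (vL i) = vec (vL j) := congrArg Subtype.val h
  exact Fin.ext (vL_inj i j i.isLt j.isLt (Cfsg.Agent.Lib.Helper7.LBridge.vec_injM (vL_lt i i.isLt) (vL_lt j j.isLt) h1))

theorem range_xL : Set.range xL = OmL := by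
  have hfin : OmL.Finite := Set.finite_of_ncard_ne_zero (by rw [OmL_ncard]; norm_num)
  apply Set.eq_of_subset_of_ncard_le _ _ hfin
  · rintro _ ⟨i, rfl⟩
    exact xL_mem i
  · rw [OmL_ncard, Set.ncard_range_of_injective xL_injective, Nat.card_eq_fintype_card,
      Fintype.card_fin]

/-- the index of one of the 552 vectors -/
theorem exists_index (x : leechLattice) (hx : x ∈ OmL) : ∃ i : Fin 552, xL i = x := by
  rw [← range_xL] at hx
  exact hx

/-- the stabilizer of the vector -/
def M0 : Subgroup Co0 := stabilizer Co0 D0L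

theorem mem_M0 (g : Co0) : g ∈ M0 ↔ g • D0L = D0L := by
  unfold M0
  rw [mem_stabilizer_iff]

theorem smul_mem_OmL (g : Co0) (hg : g ∈ M0) (x : leechLattice) (hx : x ∈ OmL) : g • x ∈ OmL := by
  have h1 := (mem_M0 g).mp hg
  obtain ⟨hn, hc1⟩ := hx
  refine ⟨(smul_norm g x).trans hn, ?_⟩
  have := smul_dot g D0L x
  rw [h1] at this
  exact this.trans hc1

/-- the equivalence with the indices -/
noncomputable def eqv : Fin 552 ≃ OmL :=
  Equiv.ofBijective (fun i => ⟨xL i, xL_mem i⟩)
    ⟨fun i j h => xL_injective (congrArg Subtype.val h),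
      fun x => by
        obtain ⟨i, hi⟩ := exists_index x.1 x.2
        exact ⟨i, Subtype.ext hi⟩⟩

theorem eqv_apply (i : Fin 552) : ((eqv i : OmL) : leechLattice) = xL i := rfl

/-- the action on the 552 vectors -/
def rho : M0 →* Equiv.Perm OmL where
  toFun g :=
    { toFun := fun x => ⟨g.1 • x.1, smul_mem_OmL g.1 g.2 x.1 x.2⟩
      invFun := fun x => ⟨g.1⁻¹ • x.1, smul_mem_OmL g.1⁻¹ (M0.inv_mem g.2) x.1 x.2⟩
      left_inv := fun x => Subtype.ext (inv_smul_smul g.1 x.1)
      right_inv := fun x => Subtype.ext (smul_inv_smul g.1 x.1) }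
  map_one' := by
    apply Equiv.ext
    intro x
    apply Subtype.ext
    show ((1 : M0).1 • x.1 : leechLattice) = x.1
    exact one_smul _ _
  map_mul' := by
    intro g h
    apply Equiv.ext
    intro x
    apply Subtype.ext
    show ((g * h).1 • x.1 : leechLattice) = g.1 • (h.1 • x.1)
    exact mul_smul _ _ _

theorem rho_apply (g : M0) (x : OmL) : ((rho g x : OmL) : leechLattice) = g.1 • x.1 := rfl

/-- the permutation representation -/
noncomputable def phi : M0 →* Equiv.Perm (Fin 552) :=
  (eqv.symm.permCongrHom.toMonoidHom).comp rho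

theorem phi_apply (g : M0) (i : Fin 552) : phi g i = eqv.symm (rho g (eqv i)) := rfl

theorem phi_eq_iff (g : M0) (i j : Fin 552) : phi g i = j ↔ g.1 • xL i = xL j := by
  rw [phi_apply, Equiv.symm_apply_eq]
  constructor
  · intro h
    have := congrArg Subtype.val h
    rwa [rho_apply, eqv_apply, eqv_apply] at this
  · intro h
    apply Subtype.ext
    rw [rho_apply, eqv_apply, eqv_apply]
    exact h

end Cfsg.Agent.Lib.Helper7.Co3B
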