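import Mathlib
import Cfsg.Agent.Lib.Helper7.Co3B5
import Cfsg.Agent.Lib.Helper7.Co3B6

set_option autoImplicit false
set_option maxRecDepth 100000

/-! The third Conway group as a permutation group on 552 points: the two generators generate. -/

namespace Cfsg.Agent.Lib.Helper7.Co3B

open Cfsg Cfsg.Agent.Lib.Helper1 Cfsg.Agent.Lib.Helper1.MatCode
open Cfsg.Agent.Lib.Helper6.TC Cfsg.Agent.Lib.Helper6.PM Cfsg.Agent.Lib.Helper2.PMS
open Cfsg.Agent.Lib.Helper5.Chain

/-- the subgroup generated by the two generators -/
def CS : Subgroup M0 := Subgroup.closure {gA, gB}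

/-- the letters -/
noncomputable def LT : List M0 := [gA, gB, gA⁻¹, gB⁻¹]

theorem LT_mem : ∀ g ∈ LT, g ∈ CS := by
  intro g hg
  have : g = gA ∨ g = gB ∨ g = gA⁻¹ ∨ g = gB⁻¹ := by simpa [LT] using hg
  rcases this with rfl | rfl | rfl | rfl
  · exact Subgroup.subset_closure (by simp)
  · exact Subgroup.subset_closure (by simp)
  · exact CS.inv_mem (Subgroup.subset_closure (by simp))
  · exact CS.inv_mem (Subgroup.subset_closure (by simp))

/-- the right action of the letters -/
def px (c q : ℕ) : ℕ := tb ([tAi, tBi, tA, tB].getD c []) q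

theorem px_lt : ∀ c < 4, ∀ q < 552, px c q < 552 := by
  intro c hc q hq
  obtain ⟨h1, h2, h3, h4⟩ := tb_lt q hq
  interval_cases c
  · exact h3
  · exact h4
  · exact h1
  · exact h2

theorem phi_inv_letter (c : ℕ) (hc : c < 4) (x : Fin 552) :
    ((phi (LT.getD c 1))⁻¹ x).val = px c x.val := by
  interval_cases c
  · exact phi_gA_inv x
  · exact phi_gB_inv x
  · show ((phi gA⁻¹)⁻¹ x).val = _
    rw [map_inv, inv_inv]
    exact phi_gA x
  · show ((phi gB⁻¹)⁻¹ x).val = _
    rw [map_inv, inv_inv]
    exact phi_gB x

theorem phi_inv_word (w : List ℕ) (hw : ∀ c ∈ w, c < 4) (x : Fin 552) :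
    ((phi (wordProd LT w))⁻¹ x).val = wapp px w x.val := by
  induction w generalizing x with
  | nil =>
    rw [wordProd_nil, map_one, inv_one]
    rfl
  | cons c w ih =>
    rw [wordProd_cons, map_mul, mul_inv_rev, Equiv.Perm.mul_apply, wapp_cons]
    have hc : c < 4 := hw c List.mem_cons_self
    have h1 := ih (fun c' hc' => hw c' (List.mem_cons_of_mem _ hc')) ((phi (LT.getD c 1))⁻¹ x)
    rw [phi_inv_letter c hc x] at h1
    exact h1

/-- the element of a word, in the subgroup -/
noncomputable def eltC (w : List ℕ) : CS := ⟨wordProd LT w, wordProd_mem LT CS LT_mem w⟩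

theorem closure_eltC : Subgroup.closure {g : CS | ∃ c < 4, g = eltC [c]} = ⊤ := by
  rw [eq_top_iff]
  rintro ⟨g, hg⟩ -
  have key : ∀ g (hg : g ∈ CS),
      (⟨g, hg⟩ : CS) ∈ Subgroup.closure {g : CS | ∃ c < 4, g = eltC [c]} := by
    intro g hg
    induction hg using Subgroup.closure_induction with
    | mem x hx =>
      apply Subgroup.subset_closure
      have : x = gA ∨ x = gB := by simpa using hx
      rcases this with rfl | rfl
      · refine ⟨0, by norm_num, ?_⟩
        apply Subtype.ext
        show _ = wordProd LT [0]
        rw [wordProd_cons, wordProd_nil, mul_one]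
        rfl
      · refine ⟨1, by norm_num, ?_⟩
        apply Subtype.ext
        show _ = wordProd LT [1]
        rw [wordProd_cons, wordProd_nil, mul_one]
        rfl
    | one => exact Subgroup.one_mem _
    | mul x y hx hy ihx ihy => exact Subgroup.mul_mem _ ihx ihy
    | inv x hx ih => exact Subgroup.inv_mem _ ih
  exact key g hg

/-- the model of the subgroup generated by the two generators -/
noncomputable def co3C : PModel where
  G := CS
  n := 552
  nl := 4
  px := px
  elt := eltC
  phi := phi.comp CS.subtype
  elt_nil := Subtype.ext (wordProd_nil LT)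
  elt_append := fun u v => Subtype.ext (wordProd_append LT u v)
  px_lt := px_lt
  phi_inv_val := fun w hw p => phi_inv_word w hw p
  phi_injective := phi_injective.comp CS.subtype_injective
  closure_letters := closure_eltC

theorem chk_slp : chkSLP co3C.px co3C.n co3C.nl ds pm = true := by decide +kernel

/-- the model with the strong generators as letters -/
noncomputable def co3C' : PModel := slpModel co3C ds pm chk_slp

theorem chk_chain : chkChain pm baseC levelsC = true := by decide +kernel

theorem chk_let : chkLet 25 levelsC = true := by decide +kernel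

theorem levels_prod : (levelsC.map List.length).prod = 495766656000 := by decide +kernel

theorem card_CS_ge : 495766656000 ≤ Nat.card CS := by
  have h := Cfsg.Agent.Lib.Helper7.LBridge.card_ge_of_chainM co3C' baseC levelsC (isChain_of_chk pm baseC levelsC chk_chain)
    (by decide) (letters_of_chkLet 25 levelsC chk_let)
  rw [levels_prod] at h
  exact h

theorem CS_eq_top : CS = ⊤ := by
  apply Subgroup.eq_top_of_card_eq
  apply le_antisymm
  · exact Subgroup.card_le_card_group CS
  · rw [card_M0]
    exact card_CS_ge

end Cfsg.Agent.Lib.Helper7.Co3B
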