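import Mathlib
import Cfsg.Agent.Lib.Helper7.Co3B7
import Cfsg.Prelude.Def_Spor_Conway

set_option autoImplicit false
set_option maxRecDepth 100000

/-! The third Conway group of the definitions as a permutation group on 552 points. -/

namespace Cfsg.Agent.Lib.Helper7.Co3B

open Cfsg MulAction Cfsg.Agent.Lib.Helper1 Cfsg.Agent.Lib.Helper1.MatCode
  Cfsg.Agent.Lib.Helper1.LeechEnum Cfsg.Agent.Lib.Helper1.LeechConn
open Cfsg.Agent.Lib.Helper6.TC Cfsg.Agent.Lib.Helper6.PM Cfsg.Agent.Lib.Helper2.PMS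
open Cfsg.Agent.Lib.Helper5.Chain Cfsg.Agent.Lib.Helper7.LBridge

/-- the element of a word -/
noncomputable def eltM (w : List ℕ) : M0 := wordProd LT w

theorem closure_eltM : Subgroup.closure {g : M0 | ∃ c < 4, g = eltM [c]} = ⊤ := by
  rw [eq_top_iff, ← CS_eq_top]
  show Subgroup.closure {gA, gB} ≤ _
  rw [Subgroup.closure_le]
  intro x hx
  have : x = gA ∨ x = gB := by simpa using hx
  apply Subgroup.subset_closure
  rcases this with rfl | rfl
  · refine ⟨0, by norm_num, ?_⟩
    show _ = wordProd LT [0]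
    rw [wordProd_cons, wordProd_nil, mul_one]
    rfl
  · refine ⟨1, by norm_num, ?_⟩
    show _ = wordProd LT [1]
    rw [wordProd_cons, wordProd_nil, mul_one]
    rfl

/-- the model of the stabilizer of the vector -/
noncomputable def co3M0 : PModel where
  G := M0
  n := 552
  nl := 4
  px := px
  elt := eltM
  phi := phi
  elt_nil := wordProd_nil LT
  elt_append := wordProd_append LT
  px_lt := px_lt
  phi_inv_val := phi_inv_word
  phi_injective := phi_injective
  closure_letters := closure_eltM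

theorem D0L_eq : D0L = -Cfsg.Spor.leechV := by
  apply Subtype.ext
  show d₀ = -Cfsg.Spor.vecV
  funext p
  unfold d₀ Cfsg.Spor.vecV
  simp only [Pi.neg_apply]
  split_ifs <;> norm_num

theorem mem_Co3_iff (g : Equiv.Perm leechLattice) : g ∈ Cfsg.Spor.Co3 ↔
    g ∈ Co0 ∧ g Cfsg.Spor.leechV = Cfsg.Spor.leechV := by
  unfold Cfsg.Spor.Co3
  rw [Subgroup.mem_inf, mem_stabilizer_iff]
  rfl

theorem mem_M0_iff (g : Co0) : g ∈ M0 ↔ g.1 Cfsg.Spor.leechV = Cfsg.Spor.leechV := by
  rw [mem_M0, D0L_eq]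
  constructor
  · intro h1
    rw [smul_neg', neg_inj] at h1
    exact h1
  · intro h1
    have h1' : g • Cfsg.Spor.leechV = Cfsg.Spor.leechV := h1
    rw [smul_neg', h1']

/-- the group of the definitions as the stabilizer -/
def toM0 : ↥Cfsg.Spor.Co3 ≃* ↥M0 where
  toFun g := ⟨⟨g.1, ((mem_Co3_iff g.1).mp g.2).1⟩,
    (mem_M0_iff _).mpr ((mem_Co3_iff g.1).mp g.2).2⟩
  invFun h := ⟨h.1.1, (mem_Co3_iff _).mpr ⟨h.1.2, (mem_M0_iff h.1).mp h.2⟩⟩
  left_inv _ := rfl
  right_inv _ := rfl
  map_mul' _ _ := rfl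

/-- **the permutation model of the third Conway group of the definitions** on 552 points, with
letters `a, b, a⁻¹, b⁻¹` -/
noncomputable def co3M : PModel := transportM co3M0 toM0

theorem co3M_G : co3M.G = ↥Cfsg.Spor.Co3 := rfl

theorem co3M_n : co3M.n = 552 := rfl

theorem co3M_nl : co3M.nl = 4 := rfl

theorem co3M_px : co3M.px = px := rfl

theorem card_Co3 : Nat.card ↥Cfsg.Spor.Co3 = 495766656000 := by
  rw [Nat.card_congr toM0.toEquiv]
  exact card_M0

theorem isSimpleGroup_Co3 : IsSimpleGroup ↥Cfsg.Spor.Co3 := toM0.isSimpleGroup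

end Cfsg.Agent.Lib.Helper7.Co3B
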