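import Mathlib
import Cfsg.Agent.Lib.Helper7.Co3B8

set_option autoImplicit false
set_option maxRecDepth 100000

/-! The third Conway group of the definitions as a permutation group on 552 points: the model
with strong generators and its stabilizer chain. -/

namespace Cfsg.Agent.Lib.Helper7.Co3B

open Cfsg
open Cfsg.Agent.Lib.Helper6.TC Cfsg.Agent.Lib.Helper6.PM Cfsg.Agent.Lib.Helper2.PMS
open Cfsg.Agent.Lib.Helper5.Chain

theorem chk_slpM : chkSLP co3M.px co3M.n co3M.nl ds pm = true := chk_slp

/-- the model of the third Conway group with the strong generators as letters (25 letters) -/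
noncomputable def co3S : PModel := slpModel co3M ds pm chk_slpM

theorem co3S_G : co3S.G = ↥Cfsg.Spor.Co3 := rfl

theorem co3S_n : co3S.n = 552 := rfl

theorem co3S_nl : co3S.nl = 25 := slpModel_nl co3M ds pm chk_slpM

theorem co3S_px : co3S.px = pm := rfl

/-- the stabilizer chain -/
def DC : ChainData where
  base := baseC
  levels := levelsC

theorem factsC : ChainFacts co3S DC where
  hbase := by
    intro b hb
    have : b < 552 := by
      revert b
      decide
    exact this
  hlet := by
    rw [co3S_nl]
    exact letters_of_chkLet 25 levelsC chk_let
  hchain := isChain_of_chk pm baseC levelsC chk_chain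
  hcard := by
    show Nat.card ↥Cfsg.Spor.Co3 = _
    rw [card_Co3]
    exact levels_prod.symm

end Cfsg.Agent.Lib.Helper7.Co3B
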