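import Mathlib
import Cfsg.Agent.Lib.Helper7.ClassSize1

set_option autoImplicit false

/-!
# Covering a group by conjugates of Sylow centralizers
-/

namespace Cfsg.Agent.Lib.Helper7.ConjCover

open Cfsg.Agent.Lib.Helper7.ClassSize

variable {G : Type*} [Group G] [Finite G]

/-- the union of the conjugates of `C` has at most `|G : N| * |C|` elements, for `N ≤ N_G(C)` -/
theorem ncard_conj_union_le (C N : Subgroup G) (hN : N ≤ Subgroup.normalizer (C : Set G)) :
    Set.ncard {x : G | ∃ g : G, ∃ c ∈ C, x = g * c * g⁻¹} ≤ N.index * Nat.card C := by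
  classical
  let f : (G ⧸ N) × C → G := fun qc => (Quotient.out qc.1) * (qc.2 : G) * (Quotient.out qc.1)⁻¹
  have hsub : {x : G | ∃ g : G, ∃ c ∈ C, x = g * c * g⁻¹} ⊆ f '' Set.univ := by
    rintro x ⟨g, c, hc, rfl⟩
    set g' := Quotient.out (QuotientGroup.mk g : G ⧸ N) with hg'
    have h1 : (QuotientGroup.mk g' : G ⧸ N) = QuotientGroup.mk g := Quotient.out_eq' _
    have h2 : g'⁻¹ * g ∈ N := QuotientGroup.eq.mp h1
    have h3 : (g'⁻¹ * g) * c * (g'⁻¹ * g)⁻¹ ∈ C :=
      (Subgroup.mem_normalizer_iff.mp (hN h2) c).mp hc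
    refine ⟨(QuotientGroup.mk g, ⟨(g'⁻¹ * g) * c * (g'⁻¹ * g)⁻¹, h3⟩), Set.mem_univ _, ?_⟩
    show g' * ((g'⁻¹ * g) * c * (g'⁻¹ * g)⁻¹) * g'⁻¹ = g * c * g⁻¹
    group
  calc Set.ncard {x : G | ∃ g : G, ∃ c ∈ C, x = g * c * g⁻¹}
      ≤ (f '' Set.univ).ncard := Set.ncard_le_ncard hsub (Set.toFinite _)
    _ ≤ (Set.univ : Set ((G ⧸ N) × C)).ncard := Set.ncard_image_le (Set.toFinite _)
    _ = Nat.card ((G ⧸ N) × C) := Set.ncard_univ _
    _ = N.index * Nat.card C := by rw [Nat.card_prod, Subgroup.index_eq_card]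

/-- elements whose class size is prime to `p` lie in a conjugate of `C_G(P)` -/
theorem ncard_coprime_index_le {p : ℕ} [Fact p.Prime] (P : Sylow p G) :
    Set.ncard {x : G | ¬ p ∣ (Subgroup.centralizer ({x} : Set G)).index} ≤
      (Subgroup.normalizer ((P : Subgroup G) : Set G)).index *
        Nat.card (Subgroup.centralizer ((P : Subgroup G) : Set G)) := by
  have hp : p.Prime := Fact.out
  refine le_trans (Set.ncard_le_ncard ?_ (Set.toFinite _))
    (ncard_conj_union_le (Subgroup.centralizer ((P : Subgroup G) : Set G))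
      (Subgroup.normalizer ((P : Subgroup G) : Set G)) ?_)
  · intro x hx
    have hcop : ((Subgroup.centralizer ({x} : Set G)).index).Coprime p :=
      ((Nat.Prime.coprime_iff_not_dvd hp).mpr hx).symm
    obtain ⟨g, hg⟩ := exists_conj_le_of_coprime_index p (Subgroup.centralizer ({x} : Set G)) hcop
      (P : Subgroup G) P.2
    refine ⟨g⁻¹, g * x * g⁻¹, ?_, by group⟩
    rw [Subgroup.mem_centralizer_iff]
    intro z hz
    have h1 := hg z hz
    rw [Subgroup.mem_centralizer_iff] at h1
    have h2 := h1 x rfl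
    calc z * (g * x * g⁻¹) = g * ((g⁻¹ * z * g) * x) * g⁻¹ := by group
      _ = g * (x * (g⁻¹ * z * g)) * g⁻¹ := by rw [h2]
      _ = g * x * g⁻¹ * z := by group
  · intro n hn
    rw [Subgroup.mem_normalizer_iff]
    intro c
    have key : ∀ (m : G), m ∈ Subgroup.normalizer ((P : Subgroup G) : Set G) →
        ∀ c ∈ Subgroup.centralizer ((P : Subgroup G) : Set G),
        m * c * m⁻¹ ∈ Subgroup.centralizer ((P : Subgroup G) : Set G) := by
      intro m hm c hc
      rw [Subgroup.mem_centralizer_iff] at hc ⊢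
      intro z hz
      have hz' : m⁻¹ * z * m ∈ (P : Subgroup G) := by
        have := (Subgroup.mem_normalizer_iff.mp (Subgroup.inv_mem _ hm) z).mp hz
        simpa using this
      have h1 := hc _ hz'
      calc z * (m * c * m⁻¹) = m * ((m⁻¹ * z * m) * c) * m⁻¹ := by group
        _ = m * (c * (m⁻¹ * z * m)) * m⁻¹ := by rw [h1]
        _ = m * c * m⁻¹ * z := by group
    constructor
    · exact key n hn c
    · intro h
      have := key n⁻¹ (Subgroup.inv_mem _ hn) _ h
      simpa [mul_assoc] using this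

/-- if `N_G(P) ≠ C_G(P)` then twice the bound is at most `|G|` -/
theorem two_mul_le {p : ℕ} [Fact p.Prime] (P : Sylow p G)
    (h : ¬ Subgroup.normalizer ((P : Subgroup G) : Set G) ≤
      Subgroup.centralizer ((P : Subgroup G) : Set G)) :
    2 * ((Subgroup.normalizer ((P : Subgroup G) : Set G)).index *
        Nat.card (Subgroup.centralizer ((P : Subgroup G) : Set G))) ≤ Nat.card G := by
  have hle : Subgroup.centralizer ((P : Subgroup G) : Set G) ≤
      Subgroup.normalizer ((P : Subgroup G) : Set G) := Subgroup.centralizer_le_normalizer _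
  have h1 := Subgroup.relIndex_mul_index hle
  have h2 := Subgroup.card_mul_index (Subgroup.centralizer ((P : Subgroup G) : Set G))
  have h3 : (Subgroup.centralizer ((P : Subgroup G) : Set G)).relIndex
      (Subgroup.normalizer ((P : Subgroup G) : Set G)) ≠ 1 := fun h4 =>
    h (Subgroup.relIndex_eq_one.mp h4)
  have h4 : (Subgroup.centralizer ((P : Subgroup G) : Set G)).relIndex
      (Subgroup.normalizer ((P : Subgroup G) : Set G)) ≠ 0 := by
    unfold Subgroup.relIndex
    exact Subgroup.index_ne_zero_of_finite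
  have h5 : 2 ≤ (Subgroup.centralizer ((P : Subgroup G) : Set G)).relIndex
      (Subgroup.normalizer ((P : Subgroup G) : Set G)) := by omega
  rw [← h2, ← h1]
  calc 2 * ((Subgroup.normalizer ((P : Subgroup G) : Set G)).index *
        Nat.card (Subgroup.centralizer ((P : Subgroup G) : Set G)))
      ≤ (Subgroup.centralizer ((P : Subgroup G) : Set G)).relIndex
          (Subgroup.normalizer ((P : Subgroup G) : Set G)) *
        ((Subgroup.normalizer ((P : Subgroup G) : Set G)).index *
        Nat.card (Subgroup.centralizer ((P : Subgroup G) : Set G))) :=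
        Nat.mul_le_mul_right _ h5
    _ = _ := by ring

end Cfsg.Agent.Lib.Helper7.ConjCover
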