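import Mathlib

set_option autoImplicit false

/-! A wreath-type group: pairs `(x, f)` with `x : H` and `f : Ω → X`, where `H` permutes `Ω`. -/

namespace Cfsg.Agent.Lib.Helper7.Cores

universe u v w

/-- the underlying type of the wreath-type group -/
@[ext] structure Wr {H : Type u} {Ω : Type v} [Group H] (act : H →* Equiv.Perm Ω) (X : Type w) where
  fst : H
  snd : Ω → X

namespace Wr

variable {H : Type u} {Ω : Type v} [Group H] {act : H →* Equiv.Perm Ω} {X : Type w} [Group X]

instance : Mul (Wr act X) := ⟨fun a b => ⟨a.fst * b.fst, fun ω => a.snd (act b.fst ω) * b.snd ω⟩⟩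
instance : One (Wr act X) := ⟨⟨1, fun _ => 1⟩⟩
instance : Inv (Wr act X) := ⟨fun a => ⟨a.fst⁻¹, fun ω => (a.snd (act a.fst⁻¹ ω))⁻¹⟩⟩

@[simp] theorem mul_fst (a b : Wr act X) : (a * b).fst = a.fst * b.fst := rfl
@[simp] theorem mul_snd (a b : Wr act X) (ω : Ω) :
    (a * b).snd ω = a.snd (act b.fst ω) * b.snd ω := rfl
@[simp] theorem one_fst : (1 : Wr act X).fst = 1 := rfl
@[simp] theorem one_snd (ω : Ω) : (1 : Wr act X).snd ω = 1 := rfl
@[simp] theorem inv_fst (a : Wr act X) : (a⁻¹).fst = a.fst⁻¹ := rfl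
@[simp] theorem inv_snd (a : Wr act X) (ω : Ω) :
    (a⁻¹).snd ω = (a.snd (act a.fst⁻¹ ω))⁻¹ := rfl

instance : Group (Wr act X) :=
  Group.ofLeftAxioms
    (by
      intro a b c
      ext ω
      · simp only [mul_fst, mul_assoc]
      · simp only [mul_snd, mul_fst, map_mul, Equiv.Perm.mul_apply, mul_assoc])
    (by
      intro a
      ext ω
      · simp
      · simp)
    (by
      intro a
      ext ω
      · simp
      · simp only [mul_snd, inv_snd, one_snd]
        rw [← Equiv.Perm.mul_apply, ← map_mul, inv_mul_cancel, map_one, Equiv.Perm.one_apply,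
          inv_mul_cancel])

/-- projection to `H` -/
def fstHom : Wr act X →* H where
  toFun a := a.fst
  map_one' := rfl
  map_mul' _ _ := rfl

@[simp] theorem fstHom_apply (a : Wr act X) : fstHom a = a.fst := rfl

instance [Finite H] [Finite Ω] [Finite X] : Finite (Wr act X) :=
  Finite.of_injective (fun a : Wr act X => (a.fst, a.snd)) (by
    intro a b h
    simp only [Prod.mk.injEq] at h
    exact Wr.ext h.1 h.2)

end Wr

end Cfsg.Agent.Lib.Helper7.Cores
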