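import Mathlib
import Cfsg.Agent.Lib.Helper7.Cores1

set_option autoImplicit false

/-! The corestriction construction: the setting. `U ≤ G`, `σ : Γ → G` and `ρ : Δ → U` central
extensions; the subgroup `Y0` of the wreath-type group `Wr (act σ) Δ` lying over the monomial
embedding of `G`. -/

namespace Cfsg.Agent.Lib.Helper7.Cores

universe u v w

section setting

variable {G : Type u} [Group G] (U : Subgroup G)

/-- coset representatives -/
noncomputable def sec (ω : G ⧸ U) : G := Quotient.out ω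

theorem mk_sec (ω : G ⧸ U) : ((sec U ω : G) : G ⧸ U) = ω := QuotientGroup.out_eq' ω

/-- the cocycle of the monomial embedding -/
noncomputable def coc (g : G) (ω : G ⧸ U) : G := (sec U (g • ω))⁻¹ * g * sec U ω

theorem coc_mem (g : G) (ω : G ⧸ U) : coc U g ω ∈ U := by
  unfold coc
  rw [mul_assoc, ← QuotientGroup.eq, mk_sec]
  conv_lhs => rw [← mk_sec U ω]
  rfl

theorem coc_one (ω : G ⧸ U) : coc U 1 ω = 1 := by
  unfold coc
  rw [one_smul, mul_one, inv_mul_cancel]

theorem coc_mul (g h : G) (ω : G ⧸ U) : coc U (g * h) ω = coc U g (h • ω) * coc U h ω := by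
  unfold coc
  rw [mul_smul]
  group

theorem coc_inv (g : G) (ω : G ⧸ U) : coc U g⁻¹ ω = (coc U g (g⁻¹ • ω))⁻¹ := by
  have h := coc_mul U g g⁻¹ ω
  rw [mul_inv_cancel, coc_one] at h
  exact eq_inv_of_mul_eq_one_right h.symm

variable {Γ : Type v} [Group Γ] (σ : Γ →* G)

/-- the action of `Γ` on the cosets of `U` through `σ` -/
def act : Γ →* Equiv.Perm (G ⧸ U) := (MulAction.toPermHom G (G ⧸ U)).comp σ

theorem act_apply (x : Γ) (ω : G ⧸ U) : act U σ x ω = σ x • ω := rfl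

theorem act_of_mem_ker {x : Γ} (hx : σ x = 1) (ω : G ⧸ U) : act U σ x ω = ω := by
  rw [act_apply, hx, one_smul]

variable {Δ : Type w} [Group Δ] (ρ : Δ →* U)

/-- the subgroup over the monomial embedding -/
def Y0 : Subgroup (Wr (act U σ) Δ) where
  carrier := {a | ∀ ω, ((ρ (a.snd ω) : U) : G) = coc U (σ a.fst) ω}
  mul_mem' := by
    intro a b ha hb ω
    rw [Wr.mul_snd, Wr.mul_fst, map_mul, map_mul, coc_mul, Subgroup.coe_mul, ha, hb, act_apply]
  one_mem' := by
    intro ω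
    rw [Wr.one_snd, Wr.one_fst, map_one, map_one, coc_one]
    rfl
  inv_mem' := by
    intro a ha ω
    show ((ρ ((a.snd (act U σ a.fst⁻¹ ω))⁻¹) : U) : G) = coc U (σ a.fst⁻¹) ω
    rw [map_inv ρ, map_inv σ, coc_inv, Subgroup.coe_inv, ha, act_apply, map_inv σ]

theorem mem_Y0 (a : Wr (act U σ) Δ) :
    a ∈ Y0 U σ ρ ↔ ∀ ω, ((ρ (a.snd ω) : U) : G) = coc U (σ a.fst) ω := Iff.rfl

/-- the projection to `Γ` -/
def pi0 : Y0 U σ ρ →* Γ := (Wr.fstHom).comp (Y0 U σ ρ).subtype

theorem pi0_apply (y : Y0 U σ ρ) : pi0 U σ ρ y = y.1.fst := rfl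

theorem pi0_surjective (hρ : Function.Surjective ρ) : Function.Surjective (pi0 U σ ρ) := by
  intro x
  refine ⟨⟨⟨x, fun ω => Classical.choose (hρ ⟨coc U (σ x) ω, coc_mem U _ _⟩)⟩, ?_⟩, rfl⟩
  intro ω
  show ((ρ (Classical.choose (hρ ⟨coc U (σ x) ω, coc_mem U _ _⟩)) : U) : G) = coc U (σ x) ω
  rw [Classical.choose_spec (hρ ⟨coc U (σ x) ω, coc_mem U _ _⟩)]

instance Y0_finite [Finite Γ] [Finite (G ⧸ U)] [Finite Δ] : Finite (Y0 U σ ρ) :=
  inferInstance

end setting

end Cfsg.Agent.Lib.Helper7.Cores
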