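import Mathlib
import Cfsg.Agent.Lib.Helper7.Cores2

set_option autoImplicit false

/-! The corestriction construction: the kernel `B^Ω`, its product-one subgroup `K0`, and the
quotient `Y0 ⧸ K0`, a central extension of `G`. -/

namespace Cfsg.Agent.Lib.Helper7.Cores

universe u v w x

section kernel

variable {G : Type u} [Group G] (U : Subgroup G) [Fintype (G ⧸ U)]
variable {Γ : Type v} [Group Γ] (σ : Γ →* G)
variable {Δ : Type w} [Group Δ] (ρ : Δ →* U)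
variable {B : Type x} [CommGroup B] (j : B →* Δ)

/-- product of a family -/
def prodHom (B : Type x) [CommGroup B] : ((G ⧸ U) → B) →* B where
  toFun φ := ∏ ω, φ ω
  map_one' := by simp
  map_mul' _ _ := Finset.prod_mul_distrib

theorem prodHom_apply (φ : (G ⧸ U) → B) : prodHom U B φ = ∏ ω, φ ω := rfl

theorem rho_j (hjr : j.range = ρ.ker) (b : B) : ρ (j b) = 1 := by
  have : j b ∈ ρ.ker := by rw [← hjr]; exact ⟨b, rfl⟩
  exact this

/-- embedding of `ker σ × B^Ω` -/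
def JJ (hjr : j.range = ρ.ker) : σ.ker × ((G ⧸ U) → B) →* Y0 U σ ρ where
  toFun z := ⟨⟨z.1, fun ω => j (z.2 ω)⟩, by
    intro ω
    show ((ρ (j (z.2 ω)) : U) : G) = coc U (σ z.1) ω
    rw [rho_j U ρ j hjr, MonoidHom.mem_ker.mp z.1.2, coc_one]
    rfl⟩
  map_one' := Subtype.ext (Wr.ext rfl (funext fun _ => map_one j))
  map_mul' z z' := Subtype.ext (Wr.ext rfl (funext fun ω => by
    show j ((z.2 * z'.2) ω) = j (z.2 (act U σ z'.1 ω)) * j (z'.2 ω)
    rw [act_of_mem_ker U σ (MonoidHom.mem_ker.mp z'.1.2), Pi.mul_apply, map_mul]))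

theorem JJ_fst (hjr : j.range = ρ.ker) (z : σ.ker × ((G ⧸ U) → B)) :
    (JJ U σ ρ j hjr z).1.fst = z.1 := rfl

theorem JJ_snd (hjr : j.range = ρ.ker) (z : σ.ker × ((G ⧸ U) → B)) (ω : G ⧸ U) :
    (JJ U σ ρ j hjr z).1.snd ω = j (z.2 ω) := rfl

theorem JJ_injective (hj : Function.Injective j) (hjr : j.range = ρ.ker) :
    Function.Injective (JJ U σ ρ j hjr) := by
  intro z z' h
  have h1 : (z.1 : Γ) = z'.1 := congrArg (fun y : Y0 U σ ρ => y.1.fst) h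
  have h2 : ∀ ω, j (z.2 ω) = j (z'.2 ω) := fun ω =>
    congrArg (fun y : Y0 U σ ρ => y.1.snd ω) h
  exact Prod.ext (Subtype.ext h1) (funext fun ω => hj (h2 ω))

/-- an element of `Y0` lying over `ker σ` comes from `ker σ × B^Ω` -/
theorem exists_JJ_eq (hjr : j.range = ρ.ker) (y : Y0 U σ ρ) (hy : σ y.1.fst = 1) :
    ∃ z, JJ U σ ρ j hjr z = y := by
  have h1 : ∀ ω, ∃ b : B, j b = y.1.snd ω := by
    intro ω
    have h2 := y.2 ω
    rw [hy, coc_one] at h2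
    have h3 : y.1.snd ω ∈ ρ.ker := by
      rw [MonoidHom.mem_ker]
      exact Subtype.ext h2
    rw [← hjr] at h3
    exact h3
  refine ⟨(⟨y.1.fst, hy⟩, fun ω => Classical.choose (h1 ω)), ?_⟩
  apply Subtype.ext
  apply Wr.ext
  · rfl
  · funext ω
    exact Classical.choose_spec (h1 ω)

/-- the product-one part of the kernel -/
def K0 (hjr : j.range = ρ.ker) : Subgroup (Y0 U σ ρ) :=
  (Subgroup.prod ⊥ (prodHom U B).ker).map (JJ U σ ρ j hjr)

theorem mem_K0 (hjr : j.range = ρ.ker) (y : Y0 U σ ρ) :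
    y ∈ K0 U σ ρ j hjr ↔ ∃ φ : (G ⧸ U) → B, ∏ ω, φ ω = 1 ∧ JJ U σ ρ j hjr (1, φ) = y := by
  constructor
  · rintro ⟨z, hz, rfl⟩
    rw [SetLike.mem_coe, Subgroup.mem_prod] at hz
    refine ⟨z.2, hz.2, ?_⟩
    have : z.1 = 1 := hz.1
    rw [← this]
  · rintro ⟨φ, hφ, rfl⟩
    refine ⟨(1, φ), ?_, rfl⟩
    rw [SetLike.mem_coe, Subgroup.mem_prod]
    exact ⟨Subgroup.mem_bot.mpr rfl, hφ⟩

theorem K0_normal (hjr : j.range = ρ.ker) (hρc : ρ.ker ≤ Subgroup.center Δ) :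
    (K0 U σ ρ j hjr).Normal := by
  refine ⟨fun k hk y => ?_⟩
  rw [mem_K0] at hk ⊢
  obtain ⟨φ, hφ, rfl⟩ := hk
  refine ⟨fun ω => φ (act U σ y.1.fst⁻¹ ω), ?_, ?_⟩
  · rw [Equiv.prod_comp (act U σ y.1.fst⁻¹) φ]
    exact hφ
  · apply Subtype.ext
    apply Wr.ext
    · show ((1 : σ.ker) : Γ) = y.1.fst * ((1 : σ.ker) : Γ) * y.1.fst⁻¹
      rw [Subgroup.coe_one, mul_one, mul_inv_cancel]
    · funext ω
      show j (φ (act U σ y.1.fst⁻¹ ω)) =
        (y.1.snd (act U σ ((1 : σ.ker) : Γ) (act U σ y.1.fst⁻¹ ω)) *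
          j (φ (act U σ y.1.fst⁻¹ ω))) * (y.1.snd (act U σ y.1.fst⁻¹ ω))⁻¹
      rw [Subgroup.coe_one, map_one, Equiv.Perm.one_apply]
      have hc : j (φ (act U σ y.1.fst⁻¹ ω)) ∈ Subgroup.center Δ := by
        apply hρc
        rw [← hjr]
        exact ⟨_, rfl⟩
      rw [Subgroup.mem_center_iff.mp hc, mul_assoc, mul_inv_cancel, mul_one]

end kernel

end Cfsg.Agent.Lib.Helper7.Cores
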