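import Mathlib
import Cfsg.Prelude.Def_KGroupFacts
import Cfsg.Agent.Lib.Helper7.StemCore

set_option autoImplicit false

namespace Cfsg.Agent.Lib.Helper7.Schur

open scoped commutatorElement

universe u v w

section basics

variable {G : Type u} {H : Type v} [Group G] [Group H]

/-- The image of the commutator subgroup under a surjection. -/
theorem map_commutator_eq (f : G →* H) (hf : Function.Surjective f) :
    (commutator G).map f = commutator H := by
  rw [commutator_def, Subgroup.map_commutator, ← MonoidHom.range_eq_map,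
    MonoidHom.range_eq_top.mpr hf, commutator_def]

theorem exists_mem_commutator_map (f : G →* H) (hf : Function.Surjective f) {y : H}
    (hy : y ∈ commutator H) : ∃ x ∈ commutator G, f x = y := by
  rw [← map_commutator_eq f hf] at hy
  exact hy

theorem map_mem_commutator (f : G →* H) {x : G} (hx : x ∈ commutator G) :
    f x ∈ commutator H := by
  have h1 : (commutator G).map f ≤ commutator H := by
    rw [commutator_def, Subgroup.map_commutator, commutator_def]
    exact Subgroup.commutator_mono le_top le_top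
  exact h1 (Subgroup.mem_map_of_mem f hx)

/-- A homomorphism to a commutative group kills commutators. -/
theorem hom_commutator_eq_one {A : Type w} [Group A] (hA : ∀ a b : A, a * b = b * a)
    (f : G →* A) {g : G} (hg : g ∈ commutator G) : f g = 1 := by
  let _ : CommGroup A := { ‹Group A› with mul_comm := hA }
  exact Abelianization.commutator_subset_ker f hg

/-- A homomorphism from a perfect group to a commutative group is trivial. -/
theorem hom_eq_one_of_perfect {A : Type w} [Group A] (hA : ∀ a b : A, a * b = b * a)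
    (hG : commutator G = ⊤) (f : G →* A) (g : G) : f g = 1 :=
  hom_commutator_eq_one hA f (hG ▸ Subgroup.mem_top g)

theorem center_comm (a b : Subgroup.center G) : a * b = b * a := by
  apply Subtype.ext
  exact (Subgroup.mem_center_iff.1 a.2 b).symm

/-- The quotient of two homomorphisms that agree modulo the centre is a homomorphism to the
centre. -/
def divHom (f₁ f₂ : G →* H) (h : ∀ g, f₁ g * (f₂ g)⁻¹ ∈ Subgroup.center H) :
    G →* Subgroup.center H where
  toFun g := ⟨f₁ g * (f₂ g)⁻¹, h g⟩
  map_one' := by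
    apply Subtype.ext
    simp
  map_mul' a b := by
    apply Subtype.ext
    show f₁ (a * b) * (f₂ (a * b))⁻¹ = f₁ a * (f₂ a)⁻¹ * (f₁ b * (f₂ b)⁻¹)
    have hb := Subgroup.mem_center_iff.1 (h b)
    rw [map_mul, map_mul, mul_inv_rev]
    calc f₁ a * f₁ b * ((f₂ b)⁻¹ * (f₂ a)⁻¹) = f₁ a * (f₁ b * (f₂ b)⁻¹) * (f₂ a)⁻¹ := by group
      _ = f₁ a * ((f₂ a)⁻¹ * (f₁ b * (f₂ b)⁻¹)) := by rw [mul_assoc, hb (f₂ a)⁻¹]
      _ = _ := by group

theorem divHom_apply (f₁ f₂ : G →* H) (h : ∀ g, f₁ g * (f₂ g)⁻¹ ∈ Subgroup.center H) (g : G) :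
    ((divHom f₁ f₂ h g : Subgroup.center H) : H) = f₁ g * (f₂ g)⁻¹ := rfl

/-- Two lifts of the same map from a perfect group through a central extension agree. -/
theorem lift_unique_of_perfect {Q : Type w} [Group Q] (hG : commutator G = ⊤) (ξ : H →* Q)
    (hξ : ξ.ker ≤ Subgroup.center H) (f₁ f₂ : G →* H) (h : ξ.comp f₁ = ξ.comp f₂) : f₁ = f₂ := by
  have hc : ∀ g, f₁ g * (f₂ g)⁻¹ ∈ Subgroup.center H := by
    intro g
    apply hξ
    rw [MonoidHom.mem_ker, map_mul, map_inv]
    have := DFunLike.congr_fun h g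
    simp only [MonoidHom.comp_apply] at this
    rw [this, mul_inv_cancel]
  ext g
  have h1 := hom_eq_one_of_perfect center_comm hG (divHom f₁ f₂ hc) g
  have h2 := congrArg (fun z : Subgroup.center H => (z : H)) h1
  simp only [divHom_apply, Subgroup.coe_one] at h2
  exact mul_inv_eq_one.1 h2

/-- A surjection onto a perfect group whose kernel lies in the commutator subgroup has perfect
source. -/
theorem perfect_of_stem (τ : G →* H) (hτ : Function.Surjective τ) (hk : τ.ker ≤ commutator G)
    (hH : commutator H = ⊤) : commutator G = ⊤ := by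
  rw [eq_top_iff]
  intro d _
  obtain ⟨c, hc, hcd⟩ := exists_mem_commutator_map τ hτ (y := τ d) (hH ▸ Subgroup.mem_top _)
  have h1 : d * c⁻¹ ∈ τ.ker := by
    rw [MonoidHom.mem_ker, map_mul, map_inv, hcd, mul_inv_cancel]
  have h2 := Subgroup.mul_mem _ (hk h1) hc
  simpa using h2

/-- For `k` with all `⁅k, d⁆` central, `d ↦ ⁅k, d⁆` is a homomorphism. -/
def commHom (k : G) (h : ∀ d, ⁅k, d⁆ ∈ Subgroup.center G) : G →* Subgroup.center G where
  toFun d := ⟨⁅k, d⁆, h d⟩
  map_one' := by
    apply Subtype.ext
    simp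
  map_mul' a b := by
    apply Subtype.ext
    show ⁅k, a * b⁆ = ⁅k, a⁆ * ⁅k, b⁆
    have hb := Subgroup.mem_center_iff.1 (h b)
    rw [commutatorElement_def, commutatorElement_def] at *
    calc k * (a * b) * k⁻¹ * (a * b)⁻¹ = k * a * k⁻¹ * (k * b * k⁻¹ * b⁻¹) * a⁻¹ := by group
      _ = k * a * k⁻¹ * (a⁻¹ * (k * b * k⁻¹ * b⁻¹)) := by rw [mul_assoc, hb a⁻¹]
      _ = _ := by rw [commutatorElement_def]; group

/-- A central extension of a central extension, with perfect top group, is central. -/
theorem ker_comp_le_center_of_perfect {Q : Type w} [Group Q] (τ : G →* H)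
    (hτ : τ.ker ≤ Subgroup.center G) (hG : commutator G = ⊤) (π : H →* Q)
    (hπ : π.ker ≤ Subgroup.center H) : (π.comp τ).ker ≤ Subgroup.center G := by
  intro k hk
  have hk' : τ k ∈ Subgroup.center H := hπ (by simpa [MonoidHom.mem_ker] using hk)
  have hc : ∀ d, ⁅k, d⁆ ∈ Subgroup.center G := by
    intro d
    apply hτ
    rw [MonoidHom.mem_ker, map_commutatorElement, commutatorElement_eq_one_iff_mul_comm]
    exact (Subgroup.mem_center_iff.1 hk' (τ d)).symm
  rw [Subgroup.mem_center_iff]
  intro d
  have h1 := hom_eq_one_of_perfect center_comm hG (commHom k hc) d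
  have h2 : ⁅k, d⁆ = 1 := congrArg (fun z : Subgroup.center G => (z : G)) h1
  exact (commutatorElement_eq_one_iff_mul_comm.1 h2).symm

end basics

section mult

/-- With trivial multiplier every finite stem extension (in the same universe) has trivial
kernel. -/
theorem ker_eq_bot_of_trivial_multiplier {Q : Type u} [Group Q]
    (h : Cfsg.HasCyclicSchurMultiplier Q 1) (Γ : Type u) [Group Γ] [Finite Γ] (σ : Γ →* Q)
    (hσ : Cfsg.IsStemExtension σ) : σ.ker = ⊥ := by
  obtain ⟨π, hπ⟩ := h.2 Γ σ hσ
  rw [eq_bot_iff]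
  intro x hx
  obtain ⟨a, ha⟩ := hπ ⟨x, hx⟩
  have h1 : a = 1 := by
    have : Subsingleton (Multiplicative (ZMod 1)) := by
      show Subsingleton (Multiplicative (Fin 1))
      infer_instance
    exact Subsingleton.elim _ _
  rw [h1, map_one] at ha
  rw [Subgroup.mem_bot]
  exact (congrArg Subtype.val ha).symm

end mult

end Cfsg.Agent.Lib.Helper7.Schur
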