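import Mathlib
import Cfsg.Prelude.Def_KGroupFacts
import Cfsg.Agent.Lib.Helper7.Schur1

set_option autoImplicit false

namespace Cfsg.Agent.Lib.Helper7.Schur

open scoped commutatorElement

universe u v w

section fp

variable {G : Type u} {H : Type v} {Q : Type w} [Group G] [Group H] [Group Q]

/-- The fibre product of `σ : G → Q` and `τ : H → Q`. -/
def fp (σ : G →* Q) (τ : H →* Q) : Subgroup (G × H) :=
  (σ.comp (MonoidHom.fst G H)).eqLocus (τ.comp (MonoidHom.snd G H))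

theorem mem_fp (σ : G →* Q) (τ : H →* Q) (x : G × H) : x ∈ fp σ τ ↔ σ x.1 = τ x.2 := Iff.rfl

/-- The projection of the fibre product to `G`. -/
def fpFst (σ : G →* Q) (τ : H →* Q) : fp σ τ →* G := (MonoidHom.fst G H).comp (fp σ τ).subtype

/-- The projection of the fibre product to `H`. -/
def fpSnd (σ : G →* Q) (τ : H →* Q) : fp σ τ →* H := (MonoidHom.snd G H).comp (fp σ τ).subtype

theorem fpFst_apply (σ : G →* Q) (τ : H →* Q) (x : fp σ τ) : fpFst σ τ x = x.1.1 := rfl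

theorem fpSnd_apply (σ : G →* Q) (τ : H →* Q) (x : fp σ τ) : fpSnd σ τ x = x.1.2 := rfl

theorem fp_comm (σ : G →* Q) (τ : H →* Q) (x : fp σ τ) : σ (fpFst σ τ x) = τ (fpSnd σ τ x) := x.2

theorem fpFst_surjective (σ : G →* Q) (τ : H →* Q) (hτ : Function.Surjective τ) :
    Function.Surjective (fpFst σ τ) := by
  intro g
  obtain ⟨h, hh⟩ := hτ (σ g)
  exact ⟨⟨(g, h), hh.symm⟩, rfl⟩

theorem fpSnd_surjective (σ : G →* Q) (τ : H →* Q) (hσ : Function.Surjective σ) :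
    Function.Surjective (fpSnd σ τ) := by
  intro h
  obtain ⟨g, hg⟩ := hσ (τ h)
  exact ⟨⟨(g, h), hg⟩, rfl⟩

theorem mem_ker_fpFst (σ : G →* Q) (τ : H →* Q) (x : fp σ τ) :
    x ∈ (fpFst σ τ).ker ↔ x.1.1 = 1 := Iff.rfl

theorem mem_ker_fpSnd (σ : G →* Q) (τ : H →* Q) (x : fp σ τ) :
    x ∈ (fpSnd σ τ).ker ↔ x.1.2 = 1 := Iff.rfl

theorem snd_mem_ker_of_mem_ker_fpFst (σ : G →* Q) (τ : H →* Q) {x : fp σ τ}
    (hx : x ∈ (fpFst σ τ).ker) : x.1.2 ∈ τ.ker := by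
  rw [MonoidHom.mem_ker, ← (mem_fp σ τ x.1).1 x.2, (mem_ker_fpFst σ τ x).1 hx, map_one]

theorem fst_mem_ker_of_mem_ker_fpSnd (σ : G →* Q) (τ : H →* Q) {x : fp σ τ}
    (hx : x ∈ (fpSnd σ τ).ker) : x.1.1 ∈ σ.ker := by
  rw [MonoidHom.mem_ker, (mem_fp σ τ x.1).1 x.2, (mem_ker_fpSnd σ τ x).1 hx, map_one]

theorem fp_ext (σ : G →* Q) (τ : H →* Q) {x y : fp σ τ} (h1 : x.1.1 = y.1.1)
    (h2 : x.1.2 = y.1.2) : x = y :=
  Subtype.ext (Prod.ext h1 h2)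

/-- An element of the fibre product with both coordinates central is central. -/
theorem mem_center_fp (σ : G →* Q) (τ : H →* Q) {x : fp σ τ}
    (h1 : x.1.1 ∈ Subgroup.center G) (h2 : x.1.2 ∈ Subgroup.center H) :
    x ∈ Subgroup.center (fp σ τ) := by
  rw [Subgroup.mem_center_iff]
  intro y
  apply fp_ext
  · exact Subgroup.mem_center_iff.1 h1 _
  · exact Subgroup.mem_center_iff.1 h2 _

theorem ker_fpFst_le_center (σ : G →* Q) (τ : H →* Q) (hτ : τ.ker ≤ Subgroup.center H) :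
    (fpFst σ τ).ker ≤ Subgroup.center (fp σ τ) := by
  intro x hx
  apply mem_center_fp
  · rw [(mem_ker_fpFst σ τ x).1 hx]; exact Subgroup.one_mem _
  · exact hτ (snd_mem_ker_of_mem_ker_fpFst σ τ hx)

theorem ker_fpSnd_le_center (σ : G →* Q) (τ : H →* Q) (hσ : σ.ker ≤ Subgroup.center G) :
    (fpSnd σ τ).ker ≤ Subgroup.center (fp σ τ) := by
  intro x hx
  apply mem_center_fp
  · exact hσ (fst_mem_ker_of_mem_ker_fpSnd σ τ hx)
  · rw [(mem_ker_fpSnd σ τ x).1 hx]; exact Subgroup.one_mem _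

/-- The total map of the fibre product to `Q`. -/
def fpTot (σ : G →* Q) (τ : H →* Q) : fp σ τ →* Q := σ.comp (fpFst σ τ)

theorem fpTot_apply (σ : G →* Q) (τ : H →* Q) (x : fp σ τ) : fpTot σ τ x = σ x.1.1 := rfl

theorem fpTot_apply' (σ : G →* Q) (τ : H →* Q) (x : fp σ τ) : fpTot σ τ x = τ x.1.2 := x.2

theorem ker_fpTot_le_center (σ : G →* Q) (τ : H →* Q) (hσ : σ.ker ≤ Subgroup.center G)
    (hτ : τ.ker ≤ Subgroup.center H) : (fpTot σ τ).ker ≤ Subgroup.center (fp σ τ) := by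
  intro x hx
  apply mem_center_fp
  · exact hσ hx
  · apply hτ
    rw [MonoidHom.mem_ker, ← fpTot_apply']
    exact hx

instance fp_finite [Finite G] [Finite H] (σ : G →* Q) (τ : H →* Q) : Finite (fp σ τ) :=
  inferInstance

end fp

section central

variable {P : Type u} [Group P]

theorem commutatorElement_mul_central (g h z₁ z₂ : P) (h1 : z₁ ∈ Subgroup.center P)
    (h2 : z₂ ∈ Subgroup.center P) : ⁅g * z₁, h * z₂⁆ = ⁅g, h⁆ := by
  have c1 := Subgroup.mem_center_iff.1 h1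
  have c2 := Subgroup.mem_center_iff.1 h2
  rw [commutatorElement_def, commutatorElement_def]
  have e1 : g * z₁ = z₁ * g := c1 g
  have e2 : h * z₂ = z₂ * h := c2 h
  rw [e1, e2]
  calc z₁ * g * (z₂ * h) * (z₁ * g)⁻¹ * (z₂ * h)⁻¹
      = z₁ * (g * z₂) * h * g⁻¹ * z₁⁻¹ * h⁻¹ * z₂⁻¹ := by group
    _ = z₁ * (z₂ * g) * h * g⁻¹ * z₁⁻¹ * h⁻¹ * z₂⁻¹ := by rw [c2 g]
    _ = z₁ * (z₂ * (g * h * g⁻¹ * z₁⁻¹ * h⁻¹)) * z₂⁻¹ := by group
    _ = z₁ * ((g * h * g⁻¹ * z₁⁻¹ * h⁻¹) * z₂) * z₂⁻¹ := by rw [c2 (g * h * g⁻¹ * z₁⁻¹ * h⁻¹)]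
    _ = z₁ * (g * h * g⁻¹ * z₁⁻¹) * h⁻¹ := by group
    _ = (g * h * g⁻¹ * z₁⁻¹) * z₁ * h⁻¹ := by rw [c1 (g * h * g⁻¹ * z₁⁻¹)]
    _ = g * h * g⁻¹ * h⁻¹ := by group

/-- If a central subgroup has finite index, there are finitely many commutators. -/
theorem finite_commutatorSet_of_central (Z : Subgroup P) (hZ : Z ≤ Subgroup.center P)
    [Finite (P ⧸ Z)] : Finite (commutatorSet P) := by
  have hsub : commutatorSet P ⊆
      Set.range (fun x : (P ⧸ Z) × (P ⧸ Z) => ⁅x.1.out, x.2.out⁆) := by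
    rintro _ ⟨g, h, rfl⟩
    refine ⟨((g : P ⧸ Z), (h : P ⧸ Z)), ?_⟩
    obtain ⟨z₁, hz₁⟩ := QuotientGroup.mk_out_eq_mul Z g
    obtain ⟨z₂, hz₂⟩ := QuotientGroup.mk_out_eq_mul Z h
    show ⁅(g : P ⧸ Z).out, (h : P ⧸ Z).out⁆ = ⁅g, h⁆
    rw [hz₁, hz₂]
    exact commutatorElement_mul_central g h _ _ (hZ z₁.2) (hZ z₂.2)
  exact ((Set.finite_range _).subset hsub).to_subtype

end central

end Cfsg.Agent.Lib.Helper7.Schur
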