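import Mathlib
import Cfsg.Prelude.Def_KGroupFacts
import Cfsg.Agent.Lib.Helper7.Schur2

set_option autoImplicit false

namespace Cfsg.Agent.Lib.Helper7.Schur

open scoped commutatorElement

universe u v w

/-- If the finite perfect group `G` has trivial multiplier, any map `π : G → Q` lifts through any
central extension `ξ : X → Q` (with `X` in the universe of `G`, possibly infinite). -/
theorem exists_lift_of_trivial_multiplier {G : Type u} {Q : Type v} {X : Type u} [Group G]
    [Finite G] [Group Q] [Group X] (hG : commutator G = ⊤)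
    (hM : Cfsg.HasCyclicSchurMultiplier G 1) (π : G →* Q) (ξ : X →* Q)
    (hξ : Function.Surjective ξ) (hξZ : ξ.ker ≤ Subgroup.center X) :
    ∃ η : G →* X, ξ.comp η = π := by
  have hK : (fpFst π ξ).ker ≤ Subgroup.center (fp π ξ) := ker_fpFst_le_center π ξ hξZ
  have hsurj : Function.Surjective (fpFst π ξ) := fpFst_surjective π ξ hξ
  have hfinq : Finite (fp π ξ ⧸ (fpFst π ξ).ker) :=
    Finite.of_equiv G (QuotientGroup.quotientKerEquivOfSurjective (fpFst π ξ) hsurj).symm.toEquiv
  have hfinc : Finite (commutatorSet (fp π ξ)) :=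
    finite_commutatorSet_of_central (fpFst π ξ).ker hK
  have hfinD : Finite (commutator (fp π ξ)) := inferInstance
  let D : Subgroup (fp π ξ) := commutator (fp π ξ)
  let τ : D →* G := (fpFst π ξ).comp D.subtype
  have hτsurj : Function.Surjective τ := by
    intro g
    obtain ⟨x, hx, hxg⟩ := exists_mem_commutator_map (fpFst π ξ) hsurj
      (y := g) (hG ▸ Subgroup.mem_top g)
    exact ⟨⟨x, hx⟩, hxg⟩
  -- every element is a commutator element times a central element
  have hdec : ∀ a : fp π ξ, ∃ c ∈ D, ∃ z ∈ Subgroup.center (fp π ξ), a = c * z := by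
    intro a
    obtain ⟨c, hc⟩ := hτsurj (fpFst π ξ a)
    refine ⟨c.1, c.2, c.1⁻¹ * a, ?_, by group⟩
    apply hK
    rw [MonoidHom.mem_ker, map_mul, map_inv]
    have : fpFst π ξ c.1 = fpFst π ξ a := hc
    rw [this, inv_mul_cancel]
  have hDD : ⁅D, D⁆ = D := by
    apply le_antisymm
    · exact Subgroup.commutator_le_right D D
    · show commutator (fp π ξ) ≤ ⁅D, D⁆
      rw [commutator_def, Subgroup.commutator_le]
      intro a _ b _
      obtain ⟨ca, hca, za, hza, rfl⟩ := hdec a
      obtain ⟨cb, hcb, zb, hzb, rfl⟩ := hdec b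
      rw [commutatorElement_mul_central ca cb za zb hza hzb]
      exact Subgroup.commutator_mem_commutator hca hcb
  have hDperf : commutator D = ⊤ := by
    have : Group.IsPerfect D := Subgroup.isPerfect_iff.2 hDD
    exact this.commutator_eq_top
  have hτZ : τ.ker ≤ Subgroup.center D := by
    intro x hx
    have h1 : (x : fp π ξ) ∈ Subgroup.center (fp π ξ) := hK hx
    rw [Subgroup.mem_center_iff]
    intro y
    apply Subtype.ext
    exact Subgroup.mem_center_iff.1 h1 y
  have hstem : Cfsg.IsStemExtension τ := ⟨hτsurj, hτZ, by rw [hDperf]; exact le_top⟩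
  have hker : τ.ker = ⊥ := ker_eq_bot_of_trivial_multiplier hM D τ hstem
  have hbij : Function.Bijective τ := ⟨(MonoidHom.ker_eq_bot_iff τ).1 hker, hτsurj⟩
  let e : D ≃* G := MulEquiv.ofBijective τ hbij
  refine ⟨(fpSnd π ξ).comp (D.subtype.comp e.symm.toMonoidHom), ?_⟩
  ext g
  show ξ (fpSnd π ξ ((e.symm g : D) : fp π ξ)) = π g
  rw [← fp_comm]
  have : τ (e.symm g) = g := e.apply_symm_apply g
  show π (τ (e.symm g)) = π g
  rw [this]

end Cfsg.Agent.Lib.Helper7.Schur
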