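import Mathlib
import Cfsg.Prelude.Def_KGroupFacts
import Cfsg.Agent.Lib.Helper7.Schur3

set_option autoImplicit false

namespace Cfsg.Agent.Lib.Helper7.Schur

open scoped commutatorElement

universe u v w

theorem card_commutatorSet_le {P : Type u} [Group P] (Z : Subgroup P)
    (hZ : Z ≤ Subgroup.center P) [Finite (P ⧸ Z)] :
    Nat.card (commutatorSet P) ≤ Nat.card (P ⧸ Z) ^ 2 := by
  let f : (P ⧸ Z) × (P ⧸ Z) → commutatorSet P :=
    fun x => ⟨⁅x.1.out, x.2.out⁆, ⟨_, _, rfl⟩⟩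
  have hf : Function.Surjective f := by
    rintro ⟨_, ⟨g, h, rfl⟩⟩
    refine ⟨((g : P ⧸ Z), (h : P ⧸ Z)), ?_⟩
    apply Subtype.ext
    obtain ⟨z₁, hz₁⟩ := QuotientGroup.mk_out_eq_mul Z g
    obtain ⟨z₂, hz₂⟩ := QuotientGroup.mk_out_eq_mul Z h
    show ⁅(g : P ⧸ Z).out, (h : P ⧸ Z).out⁆ = ⁅g, h⁆
    rw [hz₁, hz₂]
    exact commutatorElement_mul_central g h _ _ (hZ z₁.2) (hZ z₂.2)
  calc Nat.card (commutatorSet P) ≤ Nat.card ((P ⧸ Z) × (P ⧸ Z)) :=
        Nat.card_le_card_of_surjective f hf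
    _ = _ := by rw [Nat.card_prod, sq]

/-- The order of a finite stem extension of `Q` is bounded in terms of `|Q|`. -/
theorem card_le_of_stem {Γ : Type u} {Q : Type v} [Group Γ] [Finite Γ] [Group Q] [Finite Q]
    (σ : Γ →* Q) (hσ : Cfsg.IsStemExtension σ) :
    Nat.card Γ ≤ Nat.card Q * (Nat.card Q) ^ (Nat.card Q * Nat.card Q ^ 2 + 1) := by
  obtain ⟨hsurj, hcen, hcomm⟩ := hσ
  have hidx : σ.ker.index = Nat.card Q := by
    rw [Subgroup.index_ker, MonoidHom.range_eq_top.2 hsurj, Subgroup.card_top]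
  have hm : 0 < Nat.card Q := Nat.card_pos
  have h1 : Nat.card Γ = Nat.card σ.ker * Nat.card Q := by
    rw [← hidx, Subgroup.card_mul_index]
  have h2 : Nat.card σ.ker ≤ Nat.card (commutator Γ) := Subgroup.card_le_of_le hcomm
  have hfinc : Finite (commutatorSet Γ) := Set.toFinite _ |>.to_subtype
  have h3 := Subgroup.card_commutator_dvd_index_center_pow Γ
  have hi : (Subgroup.center Γ).index ∣ Nat.card Q := by
    rw [← hidx]; exact Subgroup.index_dvd_of_le hcen
  have hi1 : (Subgroup.center Γ).index ≤ Nat.card Q := Nat.le_of_dvd hm hi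
  have hi0 : 0 < (Subgroup.center Γ).index := Nat.pos_of_dvd_of_pos hi hm
  have hn : Nat.card (commutatorSet Γ) ≤ Nat.card Q ^ 2 := by
    have := card_commutatorSet_le σ.ker hcen
    rwa [← Subgroup.index_eq_card, hidx] at this
  have h4 : Nat.card (commutator Γ) ≤
      (Subgroup.center Γ).index ^ ((Subgroup.center Γ).index * Nat.card (commutatorSet Γ) + 1) :=
    Nat.le_of_dvd (pow_pos hi0 _) h3
  have h5 : (Subgroup.center Γ).index ^ ((Subgroup.center Γ).index * Nat.card (commutatorSet Γ) + 1)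
      ≤ Nat.card Q ^ (Nat.card Q * Nat.card Q ^ 2 + 1) := by
    calc _ ≤ Nat.card Q ^ ((Subgroup.center Γ).index * Nat.card (commutatorSet Γ) + 1) :=
          Nat.pow_le_pow_left hi1 _
      _ ≤ _ := by
          apply Nat.pow_le_pow_right hm
          exact Nat.succ_le_succ (Nat.mul_le_mul hi1 hn)
  rw [h1, mul_comm]
  exact Nat.mul_le_mul_left _ (h2.trans (h4.trans h5))

/-- A finite group has a finite stem extension of largest order. -/
theorem exists_maximal_stem (Q : Type u) [Group Q] [Finite Q] :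
    ∃ (G : Type u) (_ : Group G) (_ : Finite G) (π : G →* Q), Cfsg.IsStemExtension π ∧
      ∀ (Δ : Type u) [Group Δ] [Finite Δ] (τ : Δ →* Q), Cfsg.IsStemExtension τ →
        Nat.card Δ ≤ Nat.card G := by
  let S : Set ℕ := {n | ∃ (Γ : Type u) (_ : Group Γ) (_ : Finite Γ) (σ : Γ →* Q),
    Cfsg.IsStemExtension σ ∧ Nat.card Γ = n}
  have hne : S.Nonempty := by
    refine ⟨Nat.card Q, Q, inferInstance, inferInstance, MonoidHom.id Q, ⟨Function.surjective_id, ?_, ?_⟩, rfl⟩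
    · rw [MonoidHom.ker_id]; exact bot_le
    · rw [MonoidHom.ker_id]; exact bot_le
  have hbdd : BddAbove S := by
    refine ⟨Nat.card Q * (Nat.card Q) ^ (Nat.card Q * Nat.card Q ^ 2 + 1), ?_⟩
    rintro n ⟨Γ, hΓ, hfin, σ, hσ, rfl⟩
    exact card_le_of_stem σ hσ
  obtain ⟨G, hG, hfin, π, hπ, hcard⟩ := Nat.sSup_mem hne hbdd
  refine ⟨G, hG, hfin, π, hπ, ?_⟩
  intro Δ _ _ τ hτ
  rw [hcard]
  exact le_csSup hbdd ⟨Δ, inferInstance, inferInstance, τ, hτ, rfl⟩

end Cfsg.Agent.Lib.Helper7.Schur
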