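import Mathlib
import Cfsg.Prelude.Def_KGroupFacts
import Cfsg.Agent.Lib.Helper1.CharFound5
import Cfsg.Agent.Lib.Helper1.CharCenter
import Cfsg.Agent.Lib.Helper4.Characters
import Cfsg.Agent.Lib.Helper7.Schur4

set_option autoImplicit false

namespace Cfsg.Agent.Lib.Helper7.Schur

open Cfsg Cfsg.Agent.Lib.Helper1 Cfsg.Agent.Lib.Helper4
open scoped ComplexConjugate

universe u v w

/-- Over every linear character of a central subgroup lies an irreducible representation. -/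
theorem exists_irr_over {Γ : Type u} [Group Γ] [Finite Γ] (K : Subgroup Γ)
    (hKZ : K ≤ Subgroup.center Γ) (l : K →* ℂˣ) :
    ∃ (n : ℕ) (ρ : Representation ℂ Γ (Fin n → ℂ)), ρ.IsIrreducible ∧
      ∀ k : K, ρ (k : Γ) = ((l k : ℂˣ) : ℂ) • LinearMap.id := by
  classical
  have hfinG : Fintype Γ := Fintype.ofFinite Γ
  have hfinI : Fintype (IrrCharacter Γ) := Fintype.ofFinite _
  have hfinK : Fintype K := Fintype.ofFinite _
  let _ : CommGroup K := { (inferInstance : Group K) with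
    mul_comm := fun a b => by
      apply Subtype.ext
      exact ((Subgroup.mem_center_iff.1 (hKZ a.2)) b).symm }
  have hch : ∀ χ : IrrCharacter Γ, ∃ (n : ℕ) (ρ : Representation ℂ Γ (Fin n → ℂ)),
      ρ.IsIrreducible ∧ ρ.character = χ.1 := fun χ => χ.2
  choose n ρ hirr hchar using hch
  have hirr' : ∀ χ, (ρ χ).IsIrreducible := hirr
  let ω : IrrCharacter Γ → K →* ℂ := fun χ =>
    haveI := hirr' χ
    (centralHom (ρ χ)).comp (Subgroup.inclusion hKZ)
  have hn0 : ∀ χ, (n χ : ℂ) ≠ 0 := by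
    intro χ
    haveI := hirr' χ
    have := finrank_ne_zero_of_irreducible (ρ χ)
    simpa using this
  have hχ1 : ∀ χ : IrrCharacter Γ, χ.1 1 = n χ := by
    intro χ
    rw [← hchar χ, Representation.char_one]
    simp
  have hχk : ∀ (χ : IrrCharacter Γ) (k : K), χ.1 (k : Γ) = n χ * ω χ k := by
    intro χ k
    haveI := hirr' χ
    show χ.1 (k : Γ) = n χ * centralHom (ρ χ) (Subgroup.inclusion hKZ k)
    rw [centralHom_apply, ← hchar χ]
    have : (Module.finrank ℂ (Fin (n χ) → ℂ) : ℂ) = n χ := by simp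
    rw [this]
    have h0 := hn0 χ
    field_simp
    rfl
  let S : Finset (IrrCharacter Γ) := Finset.univ.filter fun χ => ∀ k : K, ω χ k = (l k : ℂ)
  have hcol : ∀ k : K, ∑ χ : IrrCharacter Γ, (n χ : ℂ) ^ 2 * ω χ k
      = if k = 1 then (Nat.card Γ : ℂ) else 0 := by
    intro k
    have h1 := column_orthogonality (G := Γ) (1 : Γ) (k : Γ)
    have h2 : ∀ χ : IrrCharacter Γ, (χ : Γ → ℂ) (k : Γ) * conj ((χ : Γ → ℂ) 1)
        = (n χ : ℂ) ^ 2 * ω χ k := by
      intro χ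
      rw [hχ1 χ, hχk χ k]
      simp only [Complex.conj_natCast]
      ring
    rw [Finset.sum_congr rfl (fun χ _ => h2 χ)] at h1
    rw [h1]
    have h3 : Subgroup.centralizer ({(1 : Γ)} : Set Γ) = ⊤ := by
      ext x
      simp [Subgroup.mem_centralizer_iff]
    rw [h3, Subgroup.card_top]
    unfold classIndicator
    by_cases hk : k = 1
    · rw [if_pos hk, if_pos (by rw [hk]; exact IsConj.refl _), mul_one]
    · rw [if_neg hk, if_neg, mul_zero]
      intro hc
      apply hk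
      apply Subtype.ext
      exact isConj_one_right.1 hc
  have hsum1 : ∑ k : K, ((l k)⁻¹ : ℂˣ) * ∑ χ : IrrCharacter Γ, (n χ : ℂ) ^ 2 * ω χ k
      = (Nat.card Γ : ℂ) := by
    rw [Finset.sum_congr rfl (fun k _ => by rw [hcol k])]
    rw [Finset.sum_eq_single (1 : K)]
    · simp
    · intro k _ hk
      rw [if_neg hk, mul_zero]
    · intro h
      exact absurd (Finset.mem_univ _) h
  have hsum2 : ∑ k : K, ((l k)⁻¹ : ℂˣ) * ∑ χ : IrrCharacter Γ, (n χ : ℂ) ^ 2 * ω χ k
      = ∑ χ : IrrCharacter Γ, (n χ : ℂ) ^ 2 * ∑ k : K, ((l k)⁻¹ : ℂˣ) * ω χ k := by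
    simp_rw [Finset.mul_sum]
    rw [Finset.sum_comm]
    refine Finset.sum_congr rfl fun χ _ => Finset.sum_congr rfl fun k _ => ?_
    ring
  have hinner : ∀ χ : IrrCharacter Γ, χ ∉ S → ∑ k : K, (((l k)⁻¹ : ℂˣ) : ℂ) * ω χ k = 0 := by
    intro χ hχ
    let μ : K →* ℂ := ((Units.coeHom ℂ).comp (l⁻¹)) * ω χ
    have hμ : ∀ k : K, μ k = (((l k)⁻¹ : ℂˣ) : ℂ) * ω χ k := fun k => rfl
    rw [Finset.sum_congr rfl (fun k _ => (hμ k).symm)]
    apply sum_hom_units_eq_zero
    intro h1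
    apply hχ
    refine Finset.mem_filter.2 ⟨Finset.mem_univ _, fun k => ?_⟩
    have h2 : μ k = 1 := by rw [h1]; rfl
    rw [hμ k] at h2
    have h3 : ((l k : ℂˣ) : ℂ) * ((((l k)⁻¹ : ℂˣ) : ℂ) * ω χ k) = (l k : ℂ) * 1 := by rw [h2]
    rw [← mul_assoc, ← Units.val_mul, mul_inv_cancel, Units.val_one, one_mul, mul_one] at h3
    exact h3
  have hSne : S.Nonempty := by
    by_contra hS
    rw [Finset.not_nonempty_iff_eq_empty] at hS
    have h0 : (Nat.card Γ : ℂ) = 0 := by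
      rw [← hsum1, hsum2]
      apply Finset.sum_eq_zero
      intro χ _
      rw [hinner χ (by rw [hS]; exact Finset.notMem_empty _), mul_zero]
    have : (Nat.card Γ : ℂ) ≠ 0 := Nat.cast_ne_zero.2 Nat.card_pos.ne'
    exact this h0
  obtain ⟨χ, hχ⟩ := hSne
  have hχ' : ∀ k : K, ω χ k = (l k : ℂ) := (Finset.mem_filter.1 hχ).2
  refine ⟨n χ, ρ χ, hirr' χ, fun k => ?_⟩
  haveI := hirr' χ
  have h1 := rho_central (ρ χ) (Subgroup.inclusion hKZ k)
  rw [← hχ' k]
  exact h1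

section ToGL

variable {Γ : Type u} [Group Γ] {n : ℕ}

theorem toMat_mul (ρ : Representation ℂ Γ (Fin n → ℂ)) (g h : Γ) :
    LinearMap.toMatrix' (ρ (g * h)) = LinearMap.toMatrix' (ρ g) * LinearMap.toMatrix' (ρ h) := by
  rw [map_mul, Module.End.mul_eq_comp, LinearMap.toMatrix'_comp]

theorem toMat_one (ρ : Representation ℂ Γ (Fin n → ℂ)) :
    LinearMap.toMatrix' (ρ 1) = 1 := by
  rw [map_one, Module.End.one_eq_id, LinearMap.toMatrix'_id]

/-- A matrix representation as a homomorphism to the general linear group. -/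
noncomputable def repToGL (ρ : Representation ℂ Γ (Fin n → ℂ)) : Γ →* GL (Fin n) ℂ where
  toFun g := ⟨LinearMap.toMatrix' (ρ g), LinearMap.toMatrix' (ρ g⁻¹),
    by rw [← toMat_mul, mul_inv_cancel, toMat_one],
    by rw [← toMat_mul, inv_mul_cancel, toMat_one]⟩
  map_one' := by
    apply Units.ext
    exact toMat_one ρ
  map_mul' a b := by
    apply Units.ext
    exact toMat_mul ρ a b

theorem repToGL_val (ρ : Representation ℂ Γ (Fin n → ℂ)) (g : Γ) :
    ((repToGL ρ g : GL (Fin n) ℂ) : Matrix (Fin n) (Fin n) ℂ) = LinearMap.toMatrix' (ρ g) := rfl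

theorem scalar_val (c : ℂˣ) :
    ((Matrix.GeneralLinearGroup.scalar (Fin n) c : GL (Fin n) ℂ) : Matrix (Fin n) (Fin n) ℂ)
      = (c : ℂ) • (1 : Matrix (Fin n) (Fin n) ℂ) := by
  ext i j
  by_cases hij : i = j
  · subst hij
    simp [Matrix.GeneralLinearGroup.scalar]
  · simp [Matrix.GeneralLinearGroup.scalar, hij]

theorem repToGL_scalar (ρ : Representation ℂ Γ (Fin n → ℂ)) (g : Γ) (c : ℂˣ)
    (h : ρ g = (c : ℂ) • LinearMap.id) :
    repToGL ρ g = Matrix.GeneralLinearGroup.scalar (Fin n) c := by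
  apply Units.ext
  rw [repToGL_val, h, scalar_val, map_smul, LinearMap.toMatrix'_id]

theorem scalar_mem_center (c : ℂˣ) :
    Matrix.GeneralLinearGroup.scalar (Fin n) c ∈ Subgroup.center (GL (Fin n) ℂ) := by
  rw [Matrix.GeneralLinearGroup.center_eq_range_scalar]
  exact ⟨c, rfl⟩

theorem scalar_eq_one (hn : 0 < n) (c : ℂˣ)
    (h : Matrix.GeneralLinearGroup.scalar (Fin n) c = 1) : c = 1 := by
  have h1 := congrArg (fun A : GL (Fin n) ℂ => (A : Matrix (Fin n) (Fin n) ℂ) ⟨0, hn⟩ ⟨0, hn⟩) h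
  simp only [scalar_val] at h1
  simp at h1
  exact h1

end ToGL

end Cfsg.Agent.Lib.Helper7.Schur
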