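import Mathlib
import Cfsg.Prelude.Def_KGroupFacts
import Cfsg.Agent.Lib.Helper7.Schur5

set_option autoImplicit false

namespace Cfsg.Agent.Lib.Helper7.Schur

open Cfsg

universe u v w

/-- A finite commutative group (given as a group with commuting elements) has a linear character
not vanishing at a given nontrivial element. -/
theorem exists_char_ne_one {K : Type u} [Group K] [Finite K] (hK : ∀ a b : K, a * b = b * a)
    {a : K} (ha : a ≠ 1) : ∃ l : K →* ℂˣ, l a ≠ 1 := by
  let _ : CommGroup K := { ‹Group K› with mul_comm := hK }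
  exact CommGroup.exists_apply_ne_one_of_hasEnoughRootsOfUnity K ℂ ha

theorem subgroup_center_comm {G : Type u} [Group G] (K : Subgroup G)
    (hK : K ≤ Subgroup.center G) (a b : K) : a * b = b * a := by
  apply Subtype.ext
  exact (Subgroup.mem_center_iff.1 (hK a.2) b).symm

/-- If all projective representations of `Q` lift along `σ`, then in the fibre product with a
finite central extension `τ`, an element of the commutator subgroup with trivial first
coordinate is trivial. -/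
theorem snd_eq_one_of_lifting {Q : Type u} {Γ : Type v} {Δ : Type w} [Group Q] [Group Γ]
    [Group Δ] [Finite Δ] (σ : Γ →* Q) (τ : Δ →* Q) (hτs : Function.Surjective τ)
    (hτZ : τ.ker ≤ Subgroup.center Δ)
    (hlift : ∀ (n : ℕ) (γ : Q →* (GL (Fin n) ℂ ⧸ Subgroup.center (GL (Fin n) ℂ))),
      ∃ ρ : Γ →* GL (Fin n) ℂ,
        (QuotientGroup.mk' (Subgroup.center (GL (Fin n) ℂ))).comp ρ = γ.comp σ)
    (x : fp σ τ) (hx : x ∈ commutator (fp σ τ)) (hx1 : x.1.1 = 1) : x.1.2 = 1 := by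
  by_contra hne
  have hxk : x.1.2 ∈ τ.ker := by
    rw [MonoidHom.mem_ker, ← (mem_fp σ τ x.1).1 x.2, hx1, map_one]
  have hne' : (⟨x.1.2, hxk⟩ : τ.ker) ≠ 1 := by
    intro h
    exact hne (congrArg Subtype.val h)
  obtain ⟨l, hl⟩ := exists_char_ne_one (subgroup_center_comm τ.ker hτZ) hne'
  obtain ⟨n, ρ, hirr, hρ⟩ := exists_irr_over τ.ker hτZ l
  have hn : 0 < n := by
    haveI := hirr
    have := Cfsg.Agent.Lib.Helper1.finrank_ne_zero_of_irreducible ρ
    have h2 : (n : ℂ) ≠ 0 := by simpa using this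
    exact Nat.pos_of_ne_zero (fun h => h2 (by rw [h]; simp))
  let R : Δ →* GL (Fin n) ℂ := repToGL ρ
  have hR : ∀ k : τ.ker, R (k : Δ) = Matrix.GeneralLinearGroup.scalar (Fin n) (l k) :=
    fun k => repToGL_scalar ρ _ _ (hρ k)
  let Z := Subgroup.center (GL (Fin n) ℂ)
  have hker : τ.ker ≤ ((QuotientGroup.mk' Z).comp R).ker := by
    intro k hk
    rw [MonoidHom.mem_ker, MonoidHom.comp_apply, QuotientGroup.mk'_apply,
      QuotientGroup.eq_one_iff, hR ⟨k, hk⟩]
    exact scalar_mem_center _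
  let γ : Q →* (GL (Fin n) ℂ ⧸ Z) := τ.liftOfSurjective hτs ⟨(QuotientGroup.mk' Z).comp R, hker⟩
  have hγ : ∀ d : Δ, γ (τ d) = QuotientGroup.mk' Z (R d) := by
    intro d
    exact MonoidHom.liftOfRightInverse_comp_apply _ _ _ _ d
  obtain ⟨ρ', hρ'⟩ := hlift n γ
  have hdiv : ∀ p : fp σ τ, (ρ'.comp (fpFst σ τ)) p * ((R.comp (fpSnd σ τ)) p)⁻¹ ∈ Z := by
    intro p
    have h1 : QuotientGroup.mk' Z (ρ' p.1.1) = QuotientGroup.mk' Z (R p.1.2) := by
      have h2 := DFunLike.congr_fun hρ' p.1.1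
      simp only [MonoidHom.comp_apply] at h2
      rw [h2, (mem_fp σ τ p.1).1 p.2, hγ]
    rw [← QuotientGroup.eq_one_iff]
    show QuotientGroup.mk' Z (ρ' p.1.1 * (R p.1.2)⁻¹) = 1
    rw [map_mul, map_inv, h1, mul_inv_cancel]
  have h3 := hom_commutator_eq_one center_comm
    (divHom (ρ'.comp (fpFst σ τ)) (R.comp (fpSnd σ τ)) hdiv) hx
  have h4 := congrArg (fun z : Subgroup.center (GL (Fin n) ℂ) => (z : GL (Fin n) ℂ)) h3
  simp only [divHom_apply, Subgroup.coe_one, MonoidHom.comp_apply, fpFst_apply, fpSnd_apply] at h4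
  rw [hx1, map_one, one_mul, inv_eq_one] at h4
  have h5 := hR ⟨x.1.2, hxk⟩
  simp only at h5
  rw [h4] at h5
  exact hl (scalar_eq_one hn _ h5.symm)

/-- If the commutator subgroup of the fibre product of two stem extensions meets the kernel of
the first projection trivially, the kernel of the first extension maps onto that of the second. -/
theorem ker_surjection_of_fp {Q : Type u} {Γ : Type v} {Δ : Type w} [Group Q] [Group Γ]
    [Group Δ] (σ : Γ →* Q) (τ : Δ →* Q) (hσs : Function.Surjective σ)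
    (hτs : Function.Surjective τ) (hσc : σ.ker ≤ commutator Γ) (hτc : τ.ker ≤ commutator Δ)
    (hkey : ∀ x : fp σ τ, x ∈ commutator (fp σ τ) → x.1.1 = 1 → x.1.2 = 1) :
    ∃ π : σ.ker →* τ.ker, Function.Surjective π := by
  let T : Subgroup (fp σ τ) := commutator (fp σ τ) ⊓ (fpTot σ τ).ker
  let φ₁ : T →* σ.ker := ((fpFst σ τ).comp T.subtype).codRestrict σ.ker (fun x => x.2.2)
  let φ₂ : T →* τ.ker := ((fpSnd σ τ).comp T.subtype).codRestrict τ.ker (fun x => by
    have h : (x : fp σ τ) ∈ (fpTot σ τ).ker := x.2.2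
    rw [MonoidHom.mem_ker, fpTot_apply'] at h
    exact h)
  have h1inj : Function.Injective φ₁ := by
    rw [injective_iff_map_eq_one]
    intro x hx
    have hx1 : x.1.1.1 = 1 := congrArg Subtype.val hx
    have hx2 : x.1.1.2 = 1 := hkey x.1 x.2.1 hx1
    apply Subtype.ext
    exact fp_ext σ τ hx1 hx2
  have h1surj : Function.Surjective φ₁ := by
    rintro ⟨a, ha⟩
    obtain ⟨x, hx, hxa⟩ := exists_mem_commutator_map (fpFst σ τ) (fpFst_surjective σ τ hτs)
      (hσc ha)
    refine ⟨⟨x, hx, ?_⟩, Subtype.ext hxa⟩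
    show x ∈ (fpTot σ τ).ker
    rw [MonoidHom.mem_ker, fpTot_apply]
    have : x.1.1 = a := hxa
    rw [this]
    exact ha
  have h2surj : Function.Surjective φ₂ := by
    rintro ⟨b, hb⟩
    obtain ⟨x, hx, hxb⟩ := exists_mem_commutator_map (fpSnd σ τ) (fpSnd_surjective σ τ hσs)
      (hτc hb)
    refine ⟨⟨x, hx, ?_⟩, Subtype.ext hxb⟩
    show x ∈ (fpTot σ τ).ker
    rw [MonoidHom.mem_ker, fpTot_apply']
    have : x.1.2 = b := hxb
    rw [this]
    exact hb
  let e : T ≃* σ.ker := MulEquiv.ofBijective φ₁ ⟨h1inj, h1surj⟩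
  refine ⟨φ₂.comp e.symm.toMonoidHom, ?_⟩
  exact h2surj.comp e.symm.surjective

end Cfsg.Agent.Lib.Helper7.Schur
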