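import Mathlib
import Cfsg.Prelude.Def_KGroupFacts
import Cfsg.Agent.Lib.Helper7.Schur6

set_option autoImplicit false

namespace Cfsg.Agent.Lib.Helper7.Schur

open Cfsg

universe u v w

theorem normal_of_le_center {G : Type u} [Group G] (N : Subgroup G)
    (h : N ≤ Subgroup.center G) : N.Normal := by
  refine ⟨fun n hn g => ?_⟩
  have h1 := Subgroup.mem_center_iff.1 (h hn) g
  rw [h1, mul_assoc, mul_inv_cancel, mul_one]
  exact hn

/-- A linear character of a subgroup that is trivial on the part inside the commutator subgroup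
extends to the whole (finite) group. -/
theorem exists_hom_extending {P : Type u} [Group P] [Finite P] (Z : Subgroup P) (g : Z →* ℂˣ)
    (hg : ∀ z : Z, (z : P) ∈ commutator P → g z = 1) : ∃ θ : P →* ℂˣ, ∀ z : Z, θ z = g z := by
  let f : Z →* Abelianization P := (Abelianization.of).comp Z.subtype
  have hsurj : Function.Surjective f.rangeRestrict := f.rangeRestrict_surjective
  have hle : f.rangeRestrict.ker ≤ g.ker := by
    intro z hz
    rw [MonoidHom.mem_ker] at hz ⊢
    apply hg
    have h1 : f z = 1 := congrArg Subtype.val hz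
    rw [← Abelianization.ker_of]
    exact h1
  let ψ : f.range →* ℂˣ := f.rangeRestrict.liftOfSurjective hsurj ⟨g, hle⟩
  obtain ⟨θ', hθ'⟩ := MonoidHom.domRestrict_surjective (G := Abelianization P) (M := ℂ) f.range ψ
  refine ⟨θ'.comp Abelianization.of, fun z => ?_⟩
  have h1 : ψ (f.rangeRestrict z) = g z := MonoidHom.liftOfRightInverse_comp_apply _ _ _ _ z
  rw [← h1, ← hθ']
  rfl

section construction

variable {P : Type u} {G : Type v} [Group P] [Group G]

/-- The subgroup `{(p, d) | d ^ t = θ p}` of `P × ℂˣ`. -/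
def bigC (θ : P →* ℂˣ) (t : ℕ) : Subgroup (P × ℂˣ) :=
  ((powMonoidHom t : ℂˣ →* ℂˣ).comp (MonoidHom.snd P ℂˣ)).eqLocus (θ.comp (MonoidHom.fst P ℂˣ))

theorem mem_bigC (θ : P →* ℂˣ) (t : ℕ) (x : P × ℂˣ) : x ∈ bigC θ t ↔ x.2 ^ t = θ x.1 := Iff.rfl

/-- first projection -/
def bigFst (θ : P →* ℂˣ) (t : ℕ) : bigC θ t →* P :=
  (MonoidHom.fst P ℂˣ).comp (bigC θ t).subtype

/-- second projection -/
def bigSnd (θ : P →* ℂˣ) (t : ℕ) : bigC θ t →* ℂˣ :=
  (MonoidHom.snd P ℂˣ).comp (bigC θ t).subtype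

theorem exists_units_root {t : ℕ} (ht : 0 < t) (a : ℂˣ) : ∃ d : ℂˣ, d ^ t = a := by
  obtain ⟨z, hz⟩ := IsAlgClosed.exists_pow_nat_eq (a : ℂ) ht
  have hz0 : z ≠ 0 := by
    intro h
    rw [h, zero_pow ht.ne'] at hz
    exact a.ne_zero hz.symm
  refine ⟨Units.mk0 z hz0, ?_⟩
  apply Units.ext
  rw [Units.val_pow_eq_pow_val, Units.val_mk0, hz]

theorem bigFst_surjective (θ : P →* ℂˣ) {t : ℕ} (ht : 0 < t) :
    Function.Surjective (bigFst θ t) := by
  intro p
  obtain ⟨d, hd⟩ := exists_units_root ht (θ p)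
  exact ⟨⟨(p, d), hd⟩, rfl⟩

theorem bigC_finite [Finite P] (θ : P →* ℂˣ) {t : ℕ} (ht : 0 < t) : Finite (bigC θ t) := by
  haveI : NeZero t := ⟨ht.ne'⟩
  rw [(bigFst θ t).finite_iff_finite_ker_range]
  refine ⟨?_, inferInstance⟩
  let j : (bigFst θ t).ker → rootsOfUnity t ℂ := fun x => ⟨x.1.1.2, by
      rw [mem_rootsOfUnity]
      have h1 : x.1.1.1 = 1 := x.2
      have h2 := (mem_bigC θ t x.1.1).1 x.1.2
      rw [h2, h1, map_one]⟩
  have hj : Function.Injective j := by
    intro x y hxy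
    apply Subtype.ext
    apply Subtype.ext
    apply Prod.ext
    · rw [show x.1.1.1 = 1 from x.2, show y.1.1.1 = 1 from y.2]
    · exact congrArg Subtype.val hxy
  exact Finite.of_injective j hj

/-- The embedding of the kernel, twisted by `l`. -/
def kerEmb (π : P →* G) (θ : P →* ℂˣ) (t : ℕ) (l : π.ker →* ℂˣ)
    (hl : ∀ z : π.ker, l z ^ t = θ z) : π.ker →* bigC θ t where
  toFun z := ⟨((z : P), l z), hl z⟩
  map_one' := by
    apply Subtype.ext
    simp
  map_mul' a b := by
    apply Subtype.ext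
    simp

theorem mem_center_bigC (θ : P →* ℂˣ) (t : ℕ) (x : bigC θ t)
    (hx : x.1.1 ∈ Subgroup.center P) : x ∈ Subgroup.center (bigC θ t) := by
  rw [Subgroup.mem_center_iff]
  intro y
  apply Subtype.ext
  apply Prod.ext
  · exact Subgroup.mem_center_iff.1 hx y.1.1
  · exact mul_comm _ _

theorem exists_commutator_lift (θ : P →* ℂˣ) {t : ℕ} (ht : 0 < t) {y : P}
    (hy : y ∈ commutator P) : ∃ c ∈ commutator (bigC θ t), c.1 = (y, 1) := by
  obtain ⟨c, hc, hcy⟩ := exists_mem_commutator_map (bigFst θ t) (bigFst_surjective θ ht) hy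
  refine ⟨c, hc, Prod.ext hcy ?_⟩
  exact hom_commutator_eq_one (fun a b => mul_comm a b) (bigSnd θ t) hc

end construction

/-- From a finite central extension `π : P → G` whose kernel meets the commutator subgroup
nontrivially, a finite stem extension of `G` with nontrivial kernel. Elements over the image of
the centre of `P` are central. -/
theorem exists_stem_of_central {P : Type u} {G : Type v} [Group P] [Finite P] [Group G]
    (π : P →* G) (hπ : Function.Surjective π) (hZ : π.ker ≤ Subgroup.center P) (x : P)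
    (hx1 : x ∈ π.ker) (hx2 : x ∈ commutator P) (hx : x ≠ 1) :
    ∃ (C : Type u) (_ : Group C) (_ : Finite C) (β : C →* G), Cfsg.IsStemExtension β ∧
      β.ker ≠ ⊥ ∧ ∀ (c : C) (p : P), p ∈ Subgroup.center P → β c = π p →
        c ∈ Subgroup.center C := by
  classical
  obtain ⟨l, hl⟩ := exists_char_ne_one (subgroup_center_comm π.ker hZ) (a := ⟨x, hx1⟩)
    (by intro h; exact hx (congrArg Subtype.val h))
  let T : Subgroup π.ker := (commutator P).subgroupOf π.ker
  let lT : Subgroup ℂˣ := T.map l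
  haveI : Finite lT := by
    have h0 : (lT : Set ℂˣ) = l '' (T : Set π.ker) := Subgroup.coe_map l T
    have h1 : (lT : Set ℂˣ).Finite := by
      rw [h0]
      exact (Set.toFinite _).image l
    exact h1.to_subtype
  let t := Nat.card lT
  have ht : 0 < t := Nat.card_pos
  haveI : NeZero t := ⟨ht.ne'⟩
  have hlT1 : ∀ z : π.ker, (z : P) ∈ commutator P → l z ^ t = 1 := by
    intro z hz
    have hmem : l z ∈ lT := Subgroup.mem_map_of_mem l (Subgroup.mem_subgroupOf.2 hz)
    have h1 := pow_card_eq_one' (G := lT) (x := ⟨l z, hmem⟩)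
    exact congrArg Subtype.val h1
  have hlT2 : ∀ ζ : ℂˣ, ζ ^ t = 1 → ∃ z : π.ker, (z : P) ∈ commutator P ∧ l z = ζ := by
    have hle : lT ≤ rootsOfUnity t ℂ := by
      rintro _ ⟨z, hz, rfl⟩
      rw [mem_rootsOfUnity]
      exact hlT1 z (Subgroup.mem_subgroupOf.1 hz)
    have heq : lT = rootsOfUnity t ℂ :=
      Subgroup.eq_of_le_of_card_ge hle (by rw [Complex.card_rootsOfUnity])
    intro ζ hζ
    have hmem : ζ ∈ lT := by rw [heq, mem_rootsOfUnity]; exact hζ
    obtain ⟨z, hz, rfl⟩ := hmem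
    exact ⟨z, Subgroup.mem_subgroupOf.1 hz, rfl⟩
  obtain ⟨θ, hθ⟩ := exists_hom_extending π.ker ((powMonoidHom t).comp l)
    (fun z hz => hlT1 z hz)
  have hlθ : ∀ z : π.ker, l z ^ t = θ z := fun z => (hθ z).symm
  let N : Subgroup (bigC θ t) := (kerEmb π θ t l hlθ).range
  have hNZ : N ≤ Subgroup.center (bigC θ t) := by
    rintro _ ⟨z, rfl⟩
    exact mem_center_bigC θ t _ (hZ z.2)
  haveI : N.Normal := normal_of_le_center N hNZ
  haveI : Finite (bigC θ t) := bigC_finite θ ht
  let β₀ : bigC θ t →* G := π.comp (bigFst θ t)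
  have hN : N ≤ β₀.ker := by
    rintro _ ⟨z, rfl⟩
    rw [MonoidHom.mem_ker]
    exact z.2
  let β : bigC θ t ⧸ N →* G := QuotientGroup.lift N β₀ hN
  have hβ : ∀ c : bigC θ t, β (QuotientGroup.mk c) = π c.1.1 := fun c => rfl
  have hmkN : ∀ z : π.ker, (QuotientGroup.mk (kerEmb π θ t l hlθ z) : bigC θ t ⧸ N) = 1 := by
    intro z
    rw [QuotientGroup.eq_one_iff]
    exact ⟨z, rfl⟩
  -- centrality
  have hext : ∀ (c : bigC θ t ⧸ N) (p : P), p ∈ Subgroup.center P → β c = π p →
      c ∈ Subgroup.center (bigC θ t ⧸ N) := by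
    intro c p hp hcp
    induction c using QuotientGroup.induction_on with
    | H c =>
      rw [hβ] at hcp
      have h1 : p⁻¹ * c.1.1 ∈ π.ker := by
        rw [MonoidHom.mem_ker, map_mul, map_inv, hcp, inv_mul_cancel]
      have h2 : c.1.1 ∈ Subgroup.center P := by
        have := Subgroup.mul_mem _ hp (hZ h1)
        simpa using this
      have h3 := mem_center_bigC θ t c h2
      rw [Subgroup.mem_center_iff] at h3 ⊢
      intro y
      induction y using QuotientGroup.induction_on with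
      | H y =>
        rw [← QuotientGroup.mk_mul, ← QuotientGroup.mk_mul, h3 y]
  have hsurj : Function.Surjective β := by
    intro g
    obtain ⟨p, rfl⟩ := hπ g
    obtain ⟨c, hc⟩ := bigFst_surjective θ ht p
    refine ⟨QuotientGroup.mk c, ?_⟩
    rw [hβ]
    have : c.1.1 = p := hc
    rw [this]
  have hcen : β.ker ≤ Subgroup.center (bigC θ t ⧸ N) := by
    intro c hc
    apply hext c 1 (Subgroup.one_mem _)
    rw [map_one]
    exact hc
  have hcomm : β.ker ≤ commutator (bigC θ t ⧸ N) := by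
    intro c hc
    induction c using QuotientGroup.induction_on with
    | H c =>
      rw [MonoidHom.mem_ker, hβ] at hc
      let z : π.ker := ⟨c.1.1, hc⟩
      have hd : c.1.2 ^ t = l z ^ t := by
        rw [hlθ z]
        exact (mem_bigC θ t c.1).1 c.2
      have hζ : (c.1.2 * (l z)⁻¹) ^ t = 1 := by
        rw [mul_pow, inv_pow, hd, mul_inv_cancel]
      obtain ⟨w, hw, hlw⟩ := hlT2 _ hζ
      obtain ⟨c', hc', hc'w⟩ := exists_commutator_lift θ ht
        (Subgroup.inv_mem _ hw)
      have hdec : c = kerEmb π θ t l hlθ z * kerEmb π θ t l hlθ w * c' := by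
        apply Subtype.ext
        apply Prod.ext
        · show c.1.1 = (z : P) * (w : P) * c'.1.1
          rw [hc'w]
          show c.1.1 = c.1.1 * (w : P) * (w : P)⁻¹
          group
        · show c.1.2 = l z * l w * c'.1.2
          rw [hc'w, hlw]
          show c.1.2 = l z * (c.1.2 * (l z)⁻¹) * 1
          rw [mul_one, mul_comm (c.1.2), ← mul_assoc, mul_inv_cancel, one_mul]
      rw [hdec, QuotientGroup.mk_mul, QuotientGroup.mk_mul, hmkN, hmkN, one_mul, one_mul]
      exact map_mem_commutator (QuotientGroup.mk' N) hc'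
  have hne : β.ker ≠ ⊥ := by
    intro hbot
    let x₀ : π.ker := ⟨x, hx1⟩
    have hmem : ((1 : P), l x₀) ∈ bigC θ t := by
      rw [mem_bigC]
      show l x₀ ^ t = θ 1
      rw [map_one]
      exact hlT1 x₀ hx2
    have h1 : (QuotientGroup.mk (⟨((1 : P), l x₀), hmem⟩ : bigC θ t) : bigC θ t ⧸ N) ∈ β.ker := by
      rw [MonoidHom.mem_ker, hβ]
      exact map_one π
    rw [hbot, Subgroup.mem_bot, QuotientGroup.eq_one_iff] at h1
    obtain ⟨z, hz⟩ := h1
    have h2 := congrArg (fun e : bigC θ t => e.1.1) hz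
    have h3 := congrArg (fun e : bigC θ t => e.1.2) hz
    have h4 : (z : P) = 1 := h2
    have h5 : l z = l x₀ := h3
    have h6 : z = 1 := Subtype.ext h4
    rw [h6, map_one] at h5
    exact hl h5.symm
  exact ⟨bigC θ t ⧸ N, inferInstance, inferInstance, β, ⟨hsurj, hcen, hcomm⟩, hne, hext⟩

end Cfsg.Agent.Lib.Helper7.Schur
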