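import Mathlib
import Cfsg.Prelude.Def_KGroupFacts
import Cfsg.Agent.Lib.Helper7.Schur7

set_option autoImplicit false

namespace Cfsg.Agent.Lib.Helper7.Schur

open Cfsg

universe u v w

/-- A finite group has an isomorphic copy in every universe. -/
theorem exists_mulEquiv_univ (C : Type u) [Group C] [Finite C] :
    ∃ (C' : Type v) (_ : Group C') (_ : Finite C'), Nonempty (C' ≃* C) := by
  obtain ⟨n, ⟨e⟩⟩ := Finite.exists_equiv_fin C
  let e' : ULift.{v} (Fin n) ≃ C := Equiv.ulift.trans e.symm
  let _ : Group (ULift.{v} (Fin n)) := e'.group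
  exact ⟨ULift.{v} (Fin n), inferInstance, inferInstance, ⟨e'.mulEquiv⟩⟩

/-- Precomposing a stem extension with an isomorphism. -/
theorem isStemExtension_comp_mulEquiv {C : Type u} {C' : Type v} {G : Type w} [Group C]
    [Group C'] [Group G] (β : C →* G) (hβ : Cfsg.IsStemExtension β) (e : C' ≃* C) :
    Cfsg.IsStemExtension (β.comp e.toMonoidHom) := by
  obtain ⟨hs, hz, hc⟩ := hβ
  refine ⟨hs.comp e.surjective, ?_, ?_⟩
  · intro k hk
    have h1 : e k ∈ Subgroup.center C := hz hk
    rw [Subgroup.mem_center_iff] at h1 ⊢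
    intro y
    apply e.injective
    rw [map_mul, map_mul]
    exact h1 (e y)
  · intro k hk
    have h1 : e k ∈ commutator C := hc hk
    obtain ⟨c, hc', hce⟩ := exists_mem_commutator_map e.toMonoidHom e.surjective h1
    have : c = k := e.injective hce
    rw [← this]
    exact hc'

/-- A stem extension can be moved to any universe. -/
theorem stem_transport {C : Type u} {G : Type w} [Group C] [Finite C] [Group G] (β : C →* G)
    (hβ : Cfsg.IsStemExtension β) :
    ∃ (C' : Type v) (_ : Group C') (_ : Finite C') (e : C' ≃* C),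
      Cfsg.IsStemExtension (β.comp e.toMonoidHom) := by
  obtain ⟨C', hG, hF, ⟨e⟩⟩ := exists_mulEquiv_univ.{u, v} C
  exact ⟨C', hG, hF, e, isStemExtension_comp_mulEquiv β hβ e⟩

/-- The composite of two stem extensions is a stem extension as soon as its kernel is central. -/
theorem isStemExtension_comp {C : Type u} {Γ : Type v} {Q : Type w} [Group C] [Group Γ]
    [Group Q] (β : C →* Γ) (hβ : Cfsg.IsStemExtension β) (σ : Γ →* Q)
    (hσ : Cfsg.IsStemExtension σ) (hcen : (σ.comp β).ker ≤ Subgroup.center C) :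
    Cfsg.IsStemExtension (σ.comp β) := by
  refine ⟨hσ.1.comp hβ.1, hcen, ?_⟩
  intro c hc
  have h1 : β c ∈ commutator Γ := hσ.2.2 hc
  obtain ⟨c', hc', hcc⟩ := exists_mem_commutator_map β hβ.1 h1
  have h2 : c * c'⁻¹ ∈ β.ker := by
    rw [MonoidHom.mem_ker, map_mul, map_inv, hcc, mul_inv_cancel]
  have h3 := Subgroup.mul_mem _ (hβ.2.2 h2) hc'
  simpa using h3

/-- With trivial multiplier, the kernel of a finite central extension meets the commutator
subgroup trivially. -/
theorem eq_one_of_trivial_multiplier {Γ : Type v} {P : Type w} [Group Γ] [Group P] [Finite P]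
    (hM : Cfsg.HasCyclicSchurMultiplier Γ 1) (π : P →* Γ) (hπ : Function.Surjective π)
    (hZ : π.ker ≤ Subgroup.center P) (x : P) (hx1 : x ∈ π.ker) (hx2 : x ∈ commutator P) :
    x = 1 := by
  by_contra hx
  obtain ⟨C, hCg, hCf, β, hβ, hne, -⟩ := exists_stem_of_central π hπ hZ x hx1 hx2 hx
  obtain ⟨C', hG, hF, e, hst⟩ := stem_transport.{w, v} β hβ
  have h1 := ker_eq_bot_of_trivial_multiplier hM C' (β.comp e.toMonoidHom) hst
  apply hne
  rw [eq_bot_iff]
  intro c hc
  have h2 : e.symm c ∈ (β.comp e.toMonoidHom).ker := by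
    rw [MonoidHom.mem_ker, MonoidHom.comp_apply]
    show β (e (e.symm c)) = 1
    rw [e.apply_symm_apply]
    exact hc
  rw [h1, Subgroup.mem_bot] at h2
  rw [Subgroup.mem_bot]
  have := congrArg e h2
  rwa [e.apply_symm_apply, map_one] at this

theorem card_ker_mul_card {C : Type u} {G : Type v} [Group C] [Group G] (β : C →* G)
    (hβ : Function.Surjective β) : Nat.card β.ker * Nat.card G = Nat.card C := by
  rw [← Subgroup.card_mul_index β.ker, Subgroup.index_ker, MonoidHom.range_eq_top.2 hβ,
    Subgroup.card_top]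

/-- If `σ : Γ → Q` is a Schur cover (a finite stem extension whose kernel is at least as large
as the multiplier `A`), and `π : P → Γ` is a finite extension with `σ ∘ π` central, then the
kernel of `π` meets the commutator subgroup of `P` trivially. -/
theorem eq_one_of_cover {Q : Type u} {A : Type*} [Group Q] [CommGroup A] [Finite A]
    (hA : Cfsg.HasSchurMultiplier Q A) {Γ : Type v} {P : Type w} [Group Γ] [Finite Γ] [Group P]
    [Finite P] (σ : Γ →* Q) (hσ : Cfsg.IsStemExtension σ) (hcard : Nat.card A ≤ Nat.card σ.ker)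
    (π : P →* Γ) (hπ : Function.Surjective π) (hZ : (σ.comp π).ker ≤ Subgroup.center P) (x : P)
    (hx1 : x ∈ π.ker) (hx2 : x ∈ commutator P) : x = 1 := by
  by_contra hx
  have hZ' : π.ker ≤ Subgroup.center P := by
    intro k hk
    apply hZ
    rw [MonoidHom.mem_ker, MonoidHom.comp_apply, MonoidHom.mem_ker.1 hk, map_one]
  obtain ⟨C, hCg, hCf, β, hβ, hne, hext⟩ := exists_stem_of_central π hπ hZ' x hx1 hx2 hx
  have hcen : (σ.comp β).ker ≤ Subgroup.center C := by
    intro c hc
    obtain ⟨p, hp⟩ := hπ (β c)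
    apply hext c p _ hp.symm
    apply hZ
    rw [MonoidHom.mem_ker, MonoidHom.comp_apply, hp]
    exact hc
  have hst := isStemExtension_comp β hβ σ hσ hcen
  obtain ⟨C', hG, hF, e, hst'⟩ := stem_transport.{w, u} (σ.comp β) hst
  obtain ⟨f, hf⟩ := hA.2 C' ((σ.comp β).comp e.toMonoidHom) hst'
  have h1 : Nat.card ((σ.comp β).comp e.toMonoidHom).ker ≤ Nat.card A :=
    Nat.card_le_card_of_surjective f hf
  have hQfin : Finite Q := Finite.of_surjective σ hσ.1
  -- count
  have h2 := card_ker_mul_card ((σ.comp β).comp e.toMonoidHom) hst'.1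
  have h3 := card_ker_mul_card β hβ.1
  have h4 := card_ker_mul_card σ hσ.1
  have h5 : Nat.card C' = Nat.card C := Nat.card_congr e.toEquiv
  have h6 : 1 < Nat.card β.ker := by
    rw [Finite.one_lt_card_iff_nontrivial]
    exact (Subgroup.nontrivial_iff_ne_bot _).2 hne
  have hQpos : 0 < Nat.card Q := Nat.card_pos
  have h7 : Nat.card ((σ.comp β).comp e.toMonoidHom).ker = Nat.card β.ker * Nat.card σ.ker := by
    apply Nat.eq_of_mul_eq_mul_right hQpos
    rw [h2, h5, ← h3, ← h4]
    ring
  have hσpos : 0 < Nat.card σ.ker := Nat.card_pos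
  have h8 : Nat.card σ.ker < Nat.card β.ker * Nat.card σ.ker := by
    calc Nat.card σ.ker = 1 * Nat.card σ.ker := (one_mul _).symm
      _ < Nat.card β.ker * Nat.card σ.ker := Nat.mul_lt_mul_of_pos_right h6 hσpos
  omega

end Cfsg.Agent.Lib.Helper7.Schur
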