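import Mathlib
import Cfsg.Agent.Lib.Helper7.Cores3
import Cfsg.Agent.Lib.Helper7.Schur8

set_option autoImplicit false

/-! The corestriction construction: the quotient `Y0 ⧸ K0` is a central extension of `G` through
`Γ`; for a Schur cover `Γ` its kernel over `Γ` meets the commutator subgroup trivially. -/

namespace Cfsg.Agent.Lib.Helper7.Cores

open Cfsg.Agent.Lib.Helper7.Schur

universe u v w x

section quot

variable {G : Type u} [Group G] (U : Subgroup G) [Fintype (G ⧸ U)]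
variable {Γ : Type v} [Group Γ] (σ : Γ →* G)
variable {Δ : Type w} [Group Δ] (ρ : Δ →* U)
variable {B : Type x} [CommGroup B] (j : B →* Δ)

theorem K0_le_ker (hjr : j.range = ρ.ker) : K0 U σ ρ j hjr ≤ (pi0 U σ ρ).ker := by
  intro y hy
  rw [mem_K0] at hy
  obtain ⟨φ, _, rfl⟩ := hy
  rw [MonoidHom.mem_ker, pi0_apply, JJ_fst]
  rfl

/-- elements over `ker σ` commute with everything modulo `K0` -/
theorem comm_mod_K0 (hjr : j.range = ρ.ker) (hρc : ρ.ker ≤ Subgroup.center Δ)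
    (hσc : σ.ker ≤ Subgroup.center Γ) (z : σ.ker × ((G ⧸ U) → B)) (y : Y0 U σ ρ) :
    ∃ k ∈ K0 U σ ρ j hjr, JJ U σ ρ j hjr z * y = y * JJ U σ ρ j hjr z * k := by
  refine ⟨JJ U σ ρ j hjr (1, fun ω => z.2 (act U σ y.1.fst ω) * (z.2 ω)⁻¹), ?_, ?_⟩
  · rw [mem_K0]
    refine ⟨_, ?_, rfl⟩
    rw [Finset.prod_mul_distrib, Finset.prod_inv_distrib, Equiv.prod_comp (act U σ y.1.fst) z.2,
      mul_inv_cancel]
  · apply Subtype.ext
    apply Wr.ext
    · show (z.1 : Γ) * y.1.fst = y.1.fst * (z.1 : Γ) * ((1 : σ.ker) : Γ)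
      rw [Subgroup.coe_one, mul_one]
      exact (Subgroup.mem_center_iff.mp (hσc z.1.2) y.1.fst).symm
    · funext ω
      show j (z.2 (act U σ y.1.fst ω)) * y.1.snd ω =
        (y.1.snd (act U σ (z.1 : Γ) (act U σ ((1 : σ.ker) : Γ) ω)) *
          j (z.2 (act U σ ((1 : σ.ker) : Γ) ω))) *
          j (z.2 (act U σ y.1.fst ω) * (z.2 ω)⁻¹)
      rw [Subgroup.coe_one, map_one, Equiv.Perm.one_apply,
        act_of_mem_ker U σ (MonoidHom.mem_ker.mp z.1.2), mul_assoc, ← map_mul,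
        mul_comm (z.2 (act U σ y.1.fst ω)), mul_inv_cancel_left]
      have hc : j (z.2 (act U σ y.1.fst ω)) ∈ Subgroup.center Δ := by
        apply hρc
        rw [← hjr]
        exact ⟨_, rfl⟩
      exact (Subgroup.mem_center_iff.mp hc _).symm

theorem comm_ker_le_K0 {A : Type*} [CommGroup A] [Finite A] (hA : Cfsg.HasSchurMultiplier G A)
    [Finite Γ] [Finite Δ] (hσ : Cfsg.IsStemExtension σ) (hcard : Nat.card A ≤ Nat.card σ.ker)
    (hρ : Function.Surjective ρ) (hjr : j.range = ρ.ker) (hρc : ρ.ker ≤ Subgroup.center Δ)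
    (y : Y0 U σ ρ) (hy : y ∈ commutator (Y0 U σ ρ)) (hy1 : pi0 U σ ρ y = 1) :
    y ∈ K0 U σ ρ j hjr := by
  haveI := K0_normal U σ ρ j hjr hρc
  let π : Y0 U σ ρ ⧸ K0 U σ ρ j hjr →* Γ :=
    QuotientGroup.lift (K0 U σ ρ j hjr) (pi0 U σ ρ) (K0_le_ker U σ ρ j hjr)
  have hπmk : ∀ y : Y0 U σ ρ, π (QuotientGroup.mk y) = pi0 U σ ρ y := fun _ => rfl
  have hπ : Function.Surjective π := by
    intro x
    obtain ⟨y, hy⟩ := pi0_surjective U σ ρ hρ x
    exact ⟨QuotientGroup.mk y, hy⟩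
  have hZ : (σ.comp π).ker ≤ Subgroup.center (Y0 U σ ρ ⧸ K0 U σ ρ j hjr) := by
    intro q hq
    induction q using QuotientGroup.induction_on with
    | H y₀ =>
      rw [MonoidHom.mem_ker, MonoidHom.comp_apply, hπmk, pi0_apply] at hq
      obtain ⟨z, rfl⟩ := exists_JJ_eq U σ ρ j hjr y₀ hq
      rw [Subgroup.mem_center_iff]
      intro g
      induction g using QuotientGroup.induction_on with
      | H g₀ =>
        obtain ⟨k, hk, hkeq⟩ := comm_mod_K0 U σ ρ j hjr hρc hσ.2.1 z g₀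
        rw [← QuotientGroup.mk_mul, ← QuotientGroup.mk_mul, hkeq, QuotientGroup.mk_mul _ _ k,
          (QuotientGroup.eq_one_iff k).mpr hk, mul_one]
  have h1 := eq_one_of_cover hA σ hσ hcard π hπ hZ (QuotientGroup.mk y)
    (by rw [MonoidHom.mem_ker, hπmk]; exact hy1)
    (map_mem_commutator (QuotientGroup.mk' (K0 U σ ρ j hjr)) hy)
  exact (QuotientGroup.eq_one_iff y).mp h1

end quot

end Cfsg.Agent.Lib.Helper7.Cores
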