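import Mathlib
import Cfsg.Agent.Lib.Helper7.Cores4

set_option autoImplicit false

/-! The corestriction construction: the homomorphism to the abelianization of the fibre product
`Δ ×_G Γ`, and the resulting map `ker σ → B`. -/

namespace Cfsg.Agent.Lib.Helper7.Cores

open Cfsg.Agent.Lib.Helper7.Schur

universe u v w x

section psi

variable {G : Type u} [Group G] (U : Subgroup G) [Fintype (G ⧸ U)]
variable {Γ : Type v} [Group Γ] (σ : Γ →* G)
variable {Δ : Type w} [Group Δ] (ρ : Δ →* U)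
variable {B : Type x} [CommGroup B] (j : B →* Δ)

/-- lifts of the coset representatives -/
noncomputable def lsec (hσs : Function.Surjective σ) (ω : G ⧸ U) : Γ :=
  Classical.choose (hσs (sec U ω))

theorem sigma_lsec (hσs : Function.Surjective σ) (ω : G ⧸ U) :
    σ (lsec U σ hσs ω) = sec U ω := Classical.choose_spec (hσs (sec U ω))

/-- the fibre product `Δ ×_G Γ` -/
abbrev XX : Subgroup (Δ × Γ) := fp ((U.subtype).comp ρ) σ

/-- the element of the fibre product attached to `y` and a coset -/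
noncomputable def el (hσs : Function.Surjective σ) (y : Y0 U σ ρ) (ω : G ⧸ U) : XX U σ ρ :=
  ⟨(y.1.snd ω, (lsec U σ hσs (σ y.1.fst • ω))⁻¹ * y.1.fst * lsec U σ hσs ω), by
    rw [mem_fp]
    show ((ρ (y.1.snd ω) : U) : G) =
      σ ((lsec U σ hσs (σ y.1.fst • ω))⁻¹ * y.1.fst * lsec U σ hσs ω)
    rw [y.2 ω, map_mul, map_mul, map_inv, sigma_lsec, sigma_lsec]
    rfl⟩

theorem el_mul (hσs : Function.Surjective σ) (y y' : Y0 U σ ρ) (ω : G ⧸ U) :
    el U σ ρ hσs (y * y') ω = el U σ ρ hσs y (act U σ y'.1.fst ω) * el U σ ρ hσs y' ω := by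
  apply Subtype.ext
  apply Prod.ext
  · rfl
  · show (lsec U σ hσs (σ (y.1.fst * y'.1.fst) • ω))⁻¹ * (y.1.fst * y'.1.fst) * lsec U σ hσs ω =
      ((lsec U σ hσs (σ y.1.fst • (act U σ y'.1.fst ω)))⁻¹ * y.1.fst *
        lsec U σ hσs (act U σ y'.1.fst ω)) *
      ((lsec U σ hσs (σ y'.1.fst • ω))⁻¹ * y'.1.fst * lsec U σ hσs ω)
    rw [act_apply, map_mul, mul_smul]
    group

/-- the homomorphism to the abelianization of the fibre product -/
noncomputable def Psi (hσs : Function.Surjective σ) :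
    Y0 U σ ρ →* Abelianization (XX U σ ρ) :=
  MonoidHom.mk' (fun y => ∏ ω, Abelianization.of (el U σ ρ hσs y ω)) (by
    intro y y'
    show ∏ ω, Abelianization.of (el U σ ρ hσs (y * y') ω) =
      (∏ ω, Abelianization.of (el U σ ρ hσs y ω)) * ∏ ω, Abelianization.of (el U σ ρ hσs y' ω)
    rw [← Equiv.prod_comp (act U σ y'.1.fst) (fun ω => Abelianization.of (el U σ ρ hσs y ω)),
      ← Finset.prod_mul_distrib]
    apply Finset.prod_congr rfl
    intro ω _
    rw [el_mul, map_mul])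

theorem Psi_apply (hσs : Function.Surjective σ) (y : Y0 U σ ρ) :
    Psi U σ ρ hσs y = ∏ ω, Abelianization.of (el U σ ρ hσs y ω) := rfl

/-- `B` inside the fibre product -/
def inB (hjr : j.range = ρ.ker) : B →* XX U σ ρ where
  toFun b := ⟨(j b, 1), by
    rw [mem_fp]
    show ((ρ (j b) : U) : G) = σ 1
    rw [rho_j U ρ j hjr, map_one]
    rfl⟩
  map_one' := Subtype.ext (Prod.ext (map_one j) rfl)
  map_mul' b b' := Subtype.ext (Prod.ext (map_mul j b b') (one_mul 1).symm)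

/-- `ker σ` inside the fibre product -/
def inA : σ.ker →* XX U σ ρ where
  toFun a := ⟨(1, a), by
    rw [mem_fp]
    show ((U.subtype).comp ρ) 1 = σ a
    rw [map_one, MonoidHom.mem_ker.mp a.2]⟩
  map_one' := rfl
  map_mul' a a' := Subtype.ext (Prod.ext (one_mul 1).symm rfl)

theorem el_JJ (hσs : Function.Surjective σ) (hjr : j.range = ρ.ker)
    (hσc : σ.ker ≤ Subgroup.center Γ) (z : σ.ker × ((G ⧸ U) → B)) (ω : G ⧸ U) :
    el U σ ρ hσs (JJ U σ ρ j hjr z) ω = inB U σ ρ j hjr (z.2 ω) * inA U σ ρ z.1 := by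
  apply Subtype.ext
  apply Prod.ext
  · show j (z.2 ω) = j (z.2 ω) * 1
    rw [mul_one]
  · show (lsec U σ hσs (σ (z.1 : Γ) • ω))⁻¹ * (z.1 : Γ) * lsec U σ hσs ω = 1 * (z.1 : Γ)
    rw [MonoidHom.mem_ker.mp z.1.2, one_smul, one_mul, mul_assoc,
      ← Subgroup.mem_center_iff.mp (hσc z.1.2), inv_mul_cancel_left]

theorem Psi_JJ (hσs : Function.Surjective σ) (hjr : j.range = ρ.ker)
    (hσc : σ.ker ≤ Subgroup.center Γ) (z : σ.ker × ((G ⧸ U) → B)) :
    Psi U σ ρ hσs (JJ U σ ρ j hjr z) =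
      Abelianization.of (inB U σ ρ j hjr (∏ ω, z.2 ω) *
        inA U σ ρ (z.1 ^ Fintype.card (G ⧸ U))) := by
  rw [Psi_apply]
  simp only [el_JJ U σ ρ j hσs hjr hσc, map_mul]
  rw [Finset.prod_mul_distrib, Finset.prod_const, Finset.card_univ]
  have h1 : ∏ ω, Abelianization.of (inB U σ ρ j hjr (z.2 ω)) =
      Abelianization.of (inB U σ ρ j hjr (∏ ω, z.2 ω)) :=
    (map_prod ((Abelianization.of).comp (inB U σ ρ j hjr)) z.2 Finset.univ).symm
  rw [h1, map_pow (inA U σ ρ), map_pow (Abelianization.of)]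

/-- the corestriction on multipliers, with its compatibility -/
theorem exists_cores {A : Type*} [CommGroup A] [Finite A] (hA : Cfsg.HasSchurMultiplier G A)
    [Finite Γ] [Finite Δ] (hσ : Cfsg.IsStemExtension σ) (hcard : Nat.card A ≤ Nat.card σ.ker)
    (hρ : Function.Surjective ρ) (hj : Function.Injective j) (hjr : j.range = ρ.ker)
    (hρc : ρ.ker ≤ Subgroup.center Δ) :
    ∃ i : σ.ker →* B, ∀ a : σ.ker,
      inB U σ ρ j hjr (i a) * inA U σ ρ (a ^ Fintype.card (G ⧸ U)) ∈ commutator (XX U σ ρ) := by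
  let T : Subgroup (σ.ker × ((G ⧸ U) → B)) := (commutator (Y0 U σ ρ)).comap (JJ U σ ρ j hjr)
  let f1 : T →* σ.ker := (MonoidHom.fst _ _).comp T.subtype
  let f2 : T →* B := (prodHom U B).comp ((MonoidHom.snd _ _).comp T.subtype)
  have hsurj : Function.Surjective f1 := by
    intro a
    have ha : (a : Γ) ∈ commutator Γ := hσ.2.2 a.2
    obtain ⟨y, hy, hya⟩ := exists_mem_commutator_map (pi0 U σ ρ) (pi0_surjective U σ ρ hρ) ha
    have hy1 : σ y.1.fst = 1 := by
      rw [← pi0_apply, hya]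
      exact a.2
    obtain ⟨z, hz⟩ := exists_JJ_eq U σ ρ j hjr y hy1
    have hzT : z ∈ T := by
      show JJ U σ ρ j hjr z ∈ commutator (Y0 U σ ρ)
      rw [hz]
      exact hy
    refine ⟨⟨z, hzT⟩, ?_⟩
    apply Subtype.ext
    show (z.1 : Γ) = a
    rw [← hya, ← hz]
    rfl
  have hker : f1.ker ≤ f2.ker := by
    intro t ht
    have ht1 : t.1.1 = 1 := ht
    have h1 : JJ U σ ρ j hjr t.1 ∈ K0 U σ ρ j hjr := by
      apply comm_ker_le_K0 U σ ρ j hA hσ hcard hρ hjr hρc _ t.2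
      rw [pi0_apply, JJ_fst, ht1]
      rfl
    rw [mem_K0] at h1
    obtain ⟨φ, hφ, hφt⟩ := h1
    have h2 : ((1 : σ.ker), φ) = t.1 := JJ_injective U σ ρ j hj hjr hφt
    rw [MonoidHom.mem_ker]
    show ∏ ω, t.1.2 ω = 1
    rw [← h2]
    exact hφ
  let i : σ.ker →* B := MonoidHom.liftOfRightInverse f1 (Function.surjInv hsurj)
    (Function.rightInverse_surjInv hsurj) ⟨f2, hker⟩
  have hi : ∀ t : T, i (f1 t) = f2 t := fun t =>
    MonoidHom.liftOfRightInverse_comp_apply f1 (Function.surjInv hsurj)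
      (Function.rightInverse_surjInv hsurj) ⟨f2, hker⟩ t
  refine ⟨i, ?_⟩
  intro a
  obtain ⟨t, rfl⟩ := hsurj a
  rw [hi t]
  have h1 : Psi U σ ρ hσ.1 (JJ U σ ρ j hjr t.1) = 1 :=
    Abelianization.commutator_subset_ker (Psi U σ ρ hσ.1) t.2
  rw [Psi_JJ U σ ρ j hσ.1 hjr hσ.2.1] at h1
  rw [← Abelianization.ker_of]
  exact h1

end psi

end Cfsg.Agent.Lib.Helper7.Cores
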