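import Mathlib

set_option autoImplicit false

/-! A splitting criterion for abelian groups, used for the `p`-part of the multiplier. -/

namespace Cfsg.Agent.Lib.Helper7.Cores

theorem mem_primary_iff {A : Type*} [CommGroup A] (p : ℕ) [Fact p.Prime] (a : A) :
    a ∈ CommGroup.primaryComponent A p ↔ ∃ n : ℕ, orderOf a = p ^ n :=
  CommGroup.mem_primaryComponent_iff_orderOf

theorem split_of_relation {A : Type*} {B : Type*} [CommGroup A] [CommGroup B] (p : ℕ)
    [hp : Fact p.Prime] (m t : ℕ) (hm : ¬ p ∣ m) (hB : ∀ b : B, b ^ p ^ t = 1)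
    (L : Subgroup (B × A)) (i : A →* B) (h1 : ∀ a : A, (i a, a ^ m) ∈ L)
    (h2 : ∀ b : B, ∃ a : A, (b, a) ∈ L) (h3 : ∀ a : A, ((1 : B), a) ∈ L → a = 1) :
    ∃ C D : Subgroup B, C ⊓ D = ⊥ ∧ C ⊔ D = ⊤ ∧
      Nonempty (CommGroup.primaryComponent A p ≃* C) := by
  have hcop : ∀ n : ℕ, Nat.Coprime m (p ^ n) := fun n =>
    Nat.Coprime.pow_right n ((Nat.Prime.coprime_iff_not_dvd hp.out).mpr hm).symm
  -- an element of the primary component killed by `m` is trivial
  have hkill : ∀ a : A, a ∈ CommGroup.primaryComponent A p → a ^ m = 1 → a = 1 := by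
    intro a ha ham
    obtain ⟨n, hn⟩ := (mem_primary_iff p a).mp ha
    have h4 : orderOf a ∣ m := orderOf_dvd_of_pow_eq_one ham
    have h5 : orderOf a ∣ Nat.gcd m (p ^ n) := Nat.dvd_gcd h4 (by rw [hn])
    rw [(hcop n), Nat.dvd_one] at h5
    exact orderOf_eq_one_iff.mp h5
  let iA : CommGroup.primaryComponent A p →* B := i.comp (Subgroup.subtype _)
  have hinj : Function.Injective iA := by
    rw [injective_iff_map_eq_one]
    intro a ha
    have h4 := h1 a.1
    have h5 : i a.1 = 1 := ha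
    rw [h5] at h4
    have h6 := hkill a.1 a.2 (h3 _ h4)
    exact Subtype.ext h6
  refine ⟨iA.range, L.comap (MonoidHom.inl B A), ?_, ?_, ⟨MonoidHom.ofInjective hinj⟩⟩
  · rw [eq_bot_iff]
    rintro b ⟨⟨a, rfl⟩, hbD⟩
    have hbD : iA a ∈ L.comap (MonoidHom.inl B A) := hbD
    rw [Subgroup.mem_comap] at hbD
    have h4 : (i a.1, a.1 ^ m) ∈ L := h1 a.1
    have h5 : (i a.1, (1 : A)) ∈ L := hbD
    have h6 : ((1 : B), a.1 ^ m) ∈ L := by
      have := L.mul_mem (L.inv_mem h5) h4
      simpa using this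
    have h7 := hkill a.1 a.2 (h3 _ h6)
    rw [Subgroup.mem_bot]
    show i a.1 = 1
    rw [h7, map_one]
  · rw [eq_top_iff]
    intro b _
    obtain ⟨a, hba⟩ := h2 b
    have h4 : ((1 : B), a ^ p ^ t) ∈ L := by
      have := L.pow_mem hba (p ^ t)
      rw [Prod.pow_mk, hB b] at this
      exact this
    have h5 : a ^ p ^ t = 1 := h3 _ h4
    have h6 : (orderOf a).Coprime m := by
      have : orderOf a ∣ p ^ t := orderOf_dvd_of_pow_eq_one h5
      exact Nat.Coprime.coprime_dvd_left this (hcop t).symm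
    obtain ⟨u, hu⟩ := exists_pow_eq_self_of_coprime h6.symm
    have ha' : a ^ u ∈ CommGroup.primaryComponent A p := by
      have h7 : a ∈ CommGroup.primaryComponent A p :=
        CommGroup.mem_primaryComponent.mpr ⟨t, h5⟩
      exact Subgroup.pow_mem _ h7 u
    have h8 : (i (a ^ u), a) ∈ L := by
      have := h1 (a ^ u)
      rw [← pow_mul, mul_comm, pow_mul, hu] at this
      exact this
    have h9 : (b * (i (a ^ u))⁻¹, (1 : A)) ∈ L := by
      have := L.mul_mem hba (L.inv_mem h8)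
      simpa using this
    have h10 : b = (iA ⟨a ^ u, ha'⟩) * (b * (i (a ^ u))⁻¹) := by
      show b = i (a ^ u) * (b * (i (a ^ u))⁻¹)
      rw [mul_comm b, ← mul_assoc, mul_inv_cancel, one_mul]
    rw [h10]
    exact Subgroup.mul_mem _ (Subgroup.mem_sup_left ⟨_, rfl⟩) (Subgroup.mem_sup_right h9)

end Cfsg.Agent.Lib.Helper7.Cores
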