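import Mathlib

set_option autoImplicit false

/-!
# Abstract minimal Frobenius groups `q^k : r`

`MinFrob q r k V`: `V` is a normal subgroup of order `q ^ k`, exponent `q`, index `r`, on which the
elements outside `V` act without fixed points, and `k` is the least exponent with `r ∣ q ^ k - 1`.
-/

namespace Cfsg.Agent.Lib.Helper7.Crit

structure MinFrob (q r k : ℕ) {F : Type*} [Group F] (V : Subgroup F) : Prop where
  hq : q.Prime
  hr : r.Prime
  hqr : q ≠ r
  kpos : 0 < k
  normal : V.Normal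
  cardV : Nat.card V = q ^ k
  index : V.index = r
  exp : ∀ v ∈ V, v ^ q = 1
  fpf : ∀ x, x ∉ V → ∀ v ∈ V, x * v = v * x → v = 1
  mini : ∀ d, 0 < d → d ≤ k → r ∣ q ^ d - 1 → d = k

variable {q r k : ℕ} {F : Type*} [Group F] [Finite F] {V : Subgroup F}

theorem MinFrob.orderOf_of_not_mem (h : MinFrob q r k V) {x : F} (hx : x ∉ V) : orderOf x = r := by
  haveI := h.normal
  have h1 : x ^ r ∈ V := by
    have := Subgroup.pow_index_mem V x
    rwa [h.index] at this
  have h2 : x ^ r = 1 := h.fpf x hx _ h1 (by rw [← pow_succ', ← pow_succ])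
  have h3 : orderOf x ∣ r := orderOf_dvd_of_pow_eq_one h2
  rcases (Nat.dvd_prime h.hr).mp h3 with h4 | h4
  · exfalso; rw [orderOf_eq_one_iff] at h4; exact hx (h4 ▸ V.one_mem)
  · exact h4

theorem MinFrob.orderOf_of_mem (h : MinFrob q r k V) {v : F} (hv : v ∈ V) (hv1 : v ≠ 1) :
    orderOf v = q := by
  have h3 : orderOf v ∣ q := orderOf_dvd_of_pow_eq_one (h.exp v hv)
  rcases (Nat.dvd_prime h.hq).mp h3 with h4 | h4
  · exfalso; rw [orderOf_eq_one_iff] at h4; exact hv1 h4
  · exact h4

theorem MinFrob.orderOf_mem (h : MinFrob q r k V) (x : F) :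
    orderOf x = 1 ∨ orderOf x = q ∨ orderOf x = r := by
  by_cases hx : x ∈ V
  · by_cases h1 : x = 1
    · left; rw [h1, orderOf_one]
    · right; left; exact h.orderOf_of_mem hx h1
  · right; right; exact h.orderOf_of_not_mem hx

theorem MinFrob.exists_not_mem (h : MinFrob q r k V) : ∃ x : F, x ∉ V := by
  by_contra hcon
  push Not at hcon
  have : V = ⊤ := by rw [eq_top_iff]; intro x _; exact hcon x
  have h1 := h.index
  rw [this, Subgroup.index_top] at h1
  exact h.hr.one_lt.ne h1

theorem MinFrob.exists_mem_ne_one (h : MinFrob q r k V) : ∃ v ∈ V, v ≠ (1 : F) := by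
  by_contra hcon
  push Not at hcon
  have : V = ⊥ := by rw [eq_bot_iff]; intro x hx; exact Subgroup.mem_bot.mpr (hcon x hx)
  have h1 := h.cardV
  rw [this, Subgroup.card_bot] at h1
  have : 1 < q ^ k := Nat.one_lt_pow h.kpos.ne' h.hq.one_lt
  omega

theorem MinFrob.exists_orderOf_eq_r (h : MinFrob q r k V) : ∃ x : F, orderOf x = r := by
  obtain ⟨x, hx⟩ := h.exists_not_mem
  exact ⟨x, h.orderOf_of_not_mem hx⟩

theorem MinFrob.exists_orderOf_eq_q (h : MinFrob q r k V) : ∃ x : F, orderOf x = q := by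
  obtain ⟨x, hx, hx1⟩ := h.exists_mem_ne_one
  exact ⟨x, h.orderOf_of_mem hx hx1⟩

theorem MinFrob.card (h : MinFrob q r k V) : Nat.card F = q ^ k * r := by
  rw [← h.cardV, ← h.index, Subgroup.card_mul_index]

/-- a nontrivial subgroup of `V` normalized by an element outside `V` is all of `V` -/
theorem MinFrob.eq_of_invariant (h : MinFrob q r k V) {W : Subgroup F} (hWV : W ≤ V)
    (hW : W ≠ ⊥) {x : F} (hx : x ∉ V) (hxW : ∀ w ∈ W, x * w * x⁻¹ ∈ W) : W = V := by
  classical
  haveI : Fact r.Prime := ⟨h.hr⟩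
  have hcd : Nat.card W ∣ q ^ k := by rw [← h.cardV]; exact Subgroup.card_dvd_of_le hWV
  obtain ⟨d, hdk, hd⟩ := (Nat.dvd_prime_pow h.hq).mp hcd
  have hd0 : 0 < d := by
    rcases Nat.eq_zero_or_pos d with h0 | h0
    · exfalso; rw [h0, pow_zero] at hd
      exact hW (Subgroup.card_eq_one.mp hd)
    · exact h0
  -- the permutation of `W` induced by `x`
  let f : Function.End W := fun w => ⟨x * w * x⁻¹, hxW w w.2⟩
  have hxr : x ^ r = 1 := by rw [← h.orderOf_of_not_mem hx]; exact pow_orderOf_eq_one x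
  have hfn : ∀ n : ℕ, ∀ w : W, ((f ^ n) w : F) = x ^ n * w * (x ^ n)⁻¹ := by
    intro n
    induction n with
    | zero => intro w; rw [pow_zero, pow_zero]; show (w : F) = 1 * w * 1⁻¹; group
    | succ n ih =>
      intro w
      rw [pow_succ']
      show x * ((f ^ n) w : F) * x⁻¹ = _
      rw [ih, pow_succ']; group
  have hf : f ^ (r ^ 1) = 1 := by
    funext w
    apply Subtype.ext
    rw [pow_one, hfn, hxr]; show _ = (w : F); group
  haveI : Fintype W := Fintype.ofFinite W
  have hmod := Equiv.Perm.card_fixedPoints_modEq (p := r) (n := 1) (f := f) hf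
  have hfix : Fintype.card (Function.fixedPoints f) = 1 := by
    rw [Fintype.card_eq_one_iff]
    refine ⟨⟨1, ?_⟩, ?_⟩
    · show f 1 = 1
      apply Subtype.ext; show x * ((1 : W) : F) * x⁻¹ = 1; simp
    · rintro ⟨w, hw⟩
      apply Subtype.ext
      apply Subtype.ext
      have hw' : f w = w := hw
      have h1 : x * (w : F) * x⁻¹ = w := congrArg Subtype.val hw'
      have h2 : x * (w : F) = w * x := by
        calc x * (w : F) = x * w * x⁻¹ * x := by group
          _ = w * x := by rw [h1]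
      exact h.fpf x hx w (hWV w.2) h2
  rw [hfix, Fintype.card_eq_nat_card, hd] at hmod
  have hdvd : r ∣ q ^ d - 1 := by
    have h1 : 1 ≤ q ^ d := Nat.one_le_pow _ _ h.hq.pos
    exact (Nat.modEq_iff_dvd' h1).mp hmod.symm
  have hdk' : d = k := h.mini d hd0 hdk hdvd
  apply Subgroup.eq_of_le_of_card_ge hWV
  rw [h.cardV, hd, hdk']

end Cfsg.Agent.Lib.Helper7.Crit
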