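import Mathlib
import Cfsg.Agent.Lib.Helper7.Crit1

set_option autoImplicit false

namespace Cfsg.Agent.Lib.Helper7.Crit

variable {q r k : ℕ} {F : Type*} [Group F] [Finite F] {V : Subgroup F}

theorem MinFrob.pow_mem (h : MinFrob q r k V) (g : F) : g ^ r ∈ V := by
  haveI := h.normal
  have := Subgroup.pow_index_mem V g
  rwa [h.index] at this

theorem MinFrob.one_lt_k_pow (h : MinFrob q r k V) : 1 < q ^ k :=
  Nat.one_lt_pow h.kpos.ne' h.hq.one_lt

/-- a subgroup properly containing `V` is everything -/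
theorem MinFrob.eq_top_of_le (h : MinFrob q r k V) {T : Subgroup F} (hVT : V ≤ T) {x : F}
    (hxT : x ∈ T) (hxV : x ∉ V) : T = ⊤ := by
  have h1 := Subgroup.relIndex_mul_index hVT
  rw [h.index] at h1
  have h2 : T.index ∣ r := Dvd.intro_left _ h1
  rcases (Nat.dvd_prime h.hr).mp h2 with h3 | h3
  · exact Subgroup.index_eq_one.mp h3
  · exfalso
    rw [h3] at h1
    have h4 : V.relIndex T = 1 := by
      have hr0 : 0 < r := h.hr.pos
      exact Nat.eq_of_mul_eq_mul_right hr0 (by rw [h1, one_mul])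
    have h5 : T ≤ V := Subgroup.relIndex_eq_one.mp h4
    exact hxV (h5 hxT)

/-- elements of orders `r` and `q` generate -/
theorem MinFrob.closure_eq_top (h : MinFrob q r k V) {x y : F} (hx : orderOf x = r)
    (hy : orderOf y = q) : Subgroup.closure ({x, y} : Set F) = ⊤ := by
  haveI := h.normal
  have hyV : y ∈ V := by
    by_contra hcon
    have := h.orderOf_of_not_mem hcon
    rw [hy] at this; exact h.hqr this
  have hxV : x ∉ V := by
    intro hcon
    by_cases hx1 : x = 1
    · rw [hx1, orderOf_one] at hx; exact h.hr.one_lt.ne hx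
    · have := h.orderOf_of_mem hcon hx1
      rw [hx] at this; exact h.hqr this.symm
  have hy1 : y ≠ 1 := by
    intro hcon; rw [hcon, orderOf_one] at hy; exact h.hq.one_lt.ne hy
  set T := Subgroup.closure ({x, y} : Set F) with hT
  have hxT : x ∈ T := Subgroup.subset_closure (by simp)
  have hyT : y ∈ T := Subgroup.subset_closure (by simp)
  have hW : V ⊓ T = V := by
    apply h.eq_of_invariant inf_le_left _ hxV
    · intro w hw
      refine ⟨?_, ?_⟩
      · exact h.normal.conj_mem w hw.1 x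
      · exact T.mul_mem (T.mul_mem hxT hw.2) (T.inv_mem hxT)
    · intro hcon
      have : y ∈ V ⊓ T := ⟨hyV, hyT⟩
      rw [hcon, Subgroup.mem_bot] at this
      exact hy1 this
  have hVT : V ≤ T := by rw [← hW]; exact inf_le_right
  exact h.eq_top_of_le hVT hxT hxV

/-- `V` is the unique minimal normal subgroup -/
theorem MinFrob.le_of_normal (h : MinFrob q r k V) {M : Subgroup F} (hM : M.Normal)
    (hM1 : M ≠ ⊥) : V ≤ M := by
  haveI := h.normal
  obtain ⟨x, hxV⟩ := h.exists_not_mem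
  have hWne : V ⊓ M ≠ ⊥ := by
    intro hcon
    obtain ⟨m, hmM, hm1⟩ := (Subgroup.ne_bot_iff_exists_ne_one).mp hM1 |>.imp
      (fun m hm => hm) |> fun ⟨m, hm⟩ => (⟨(m : F), m.2, fun h0 => hm (Subtype.ext h0)⟩ :
        ∃ m : F, m ∈ M ∧ m ≠ 1)
    have hmV : m ∉ V := by
      intro hmV
      have : m ∈ V ⊓ M := ⟨hmV, hmM⟩
      rw [hcon, Subgroup.mem_bot] at this
      exact hm1 this
    obtain ⟨v, hvV, hv1⟩ := h.exists_mem_ne_one
    apply hv1
    apply h.fpf m hmV v hvV
    have hc : m * v * m⁻¹ * v⁻¹ ∈ V ⊓ M := by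
      refine ⟨?_, ?_⟩
      · exact V.mul_mem (h.normal.conj_mem v hvV m) (V.inv_mem hvV)
      · have h1 : v * m⁻¹ * v⁻¹ ∈ M := hM.conj_mem _ (M.inv_mem hmM) v
        have h2 : m * (v * m⁻¹ * v⁻¹) ∈ M := M.mul_mem hmM h1
        have e : m * v * m⁻¹ * v⁻¹ = m * (v * m⁻¹ * v⁻¹) := by group
        rw [e]; exact h2
    rw [hcon, Subgroup.mem_bot] at hc
    calc m * v = m * v * m⁻¹ * v⁻¹ * (v * m) := by group
      _ = v * m := by rw [hc, one_mul]
  have hW : V ⊓ M = V := by
    apply h.eq_of_invariant inf_le_left hWne hxV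
    intro w hw
    exact ⟨h.normal.conj_mem w hw.1 x, hM.conj_mem w hw.2 x⟩
  rw [← hW]; exact inf_le_right

end Cfsg.Agent.Lib.Helper7.Crit
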