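import Mathlib
import Cfsg.Agent.Lib.Helper7.Crit2

set_option autoImplicit false

/-!
# The concrete minimal Frobenius group `q^k : r`
-/

namespace Cfsg.Agent.Lib.Helper7.Crit

open SemidirectProduct

/-- the multiplicative order of `q` modulo `r` -/
noncomputable def kOrd (q r : ℕ) : ℕ := orderOf (q : ZMod r)

theorem kOrd_pos {q r : ℕ} (hq : q.Prime) (hr : r.Prime) (hqr : q ≠ r) : 0 < kOrd q r := by
  haveI : Fact r.Prime := ⟨hr⟩
  unfold kOrd
  rw [orderOf_pos_iff, isOfFinOrder_iff_pow_eq_one]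
  refine ⟨r - 1, Nat.sub_pos_of_lt hr.one_lt, ?_⟩
  apply ZMod.pow_card_sub_one_eq_one
  intro h0
  rw [ZMod.natCast_eq_zero_iff] at h0
  exact hqr ((Nat.prime_dvd_prime_iff_eq hr hq).mp h0).symm

theorem pow_eq_one_iff_dvd {q r : ℕ} (hq : q.Prime) (d : ℕ) :
    ((q : ZMod r) ^ d = 1) ↔ r ∣ q ^ d - 1 := by
  have h1 : 1 ≤ q ^ d := Nat.one_le_pow _ _ hq.pos
  rw [← Nat.cast_pow, ← Nat.cast_one (R := ZMod r), ZMod.natCast_eq_natCast_iff]
  constructor
  · intro h; exact (Nat.modEq_iff_dvd' h1).mp h.symm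
  · intro h; exact ((Nat.modEq_iff_dvd' h1).mpr h).symm

theorem kOrd_dvd {q r : ℕ} (hq : q.Prime) : r ∣ q ^ (kOrd q r) - 1 := by
  rw [← pow_eq_one_iff_dvd hq]
  exact pow_orderOf_eq_one _

theorem kOrd_mini {q r : ℕ} (hq : q.Prime) (d : ℕ) (hd : 0 < d) (hdk : d ≤ kOrd q r)
    (h : r ∣ q ^ d - 1) : d = kOrd q r := by
  rw [← pow_eq_one_iff_dvd hq] at h
  have h1 : kOrd q r ∣ d := orderOf_dvd_of_pow_eq_one h
  exact le_antisymm hdk (Nat.le_of_dvd hd h1)

section

variable (q r : ℕ) [Fact q.Prime]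

/-- the field with `q ^ k` elements -/
abbrev FK : Type := GaloisField q (kOrd q r)

/-- the `r`-torsion of its unit group -/
noncomputable def CC : Subgroup (FK q r)ˣ := (powMonoidHom r : (FK q r)ˣ →* (FK q r)ˣ).ker

/-- the multiplication action -/
noncomputable def phiK : CC q r →* MulAut (Multiplicative (FK q r)) :=
  (MulAutMultiplicative (FK q r)).symm.toMonoidHom.comp
    (DistribMulAction.toAddAut (CC q r) (FK q r))

theorem phiK_apply (c : CC q r) (v : Multiplicative (FK q r)) :
    phiK q r c v = Multiplicative.ofAdd (((c : (FK q r)ˣ) : FK q r) * Multiplicative.toAdd v) := rfl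

/-- the group `q^k : r` -/
abbrev FrobGrp : Type := Multiplicative (FK q r) ⋊[phiK q r] CC q r

instance : Finite (FrobGrp q r) :=
  Finite.of_equiv _ (SemidirectProduct.equivProd (φ := phiK q r)).symm

/-- the kernel -/
noncomputable def VV : Subgroup (FrobGrp q r) := (inl : Multiplicative (FK q r) →* FrobGrp q r).range

end

theorem card_FK {q r : ℕ} [Fact q.Prime] (hr : r.Prime) (hqr : q ≠ r) :
    Nat.card (FK q r) = q ^ kOrd q r :=
  GaloisField.card q _ (kOrd_pos (Fact.out) hr hqr).ne'

theorem card_CC {q r : ℕ} [Fact q.Prime] (hr : r.Prime) (hqr : q ≠ r) :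
    Nat.card (CC q r) = r := by
  classical
  haveI : Fintype (FK q r) := Fintype.ofFinite _
  unfold CC
  rw [IsCyclic.card_powMonoidHom_ker]
  have h1 : Nat.card (FK q r)ˣ = q ^ kOrd q r - 1 := by
    rw [Nat.card_eq_fintype_card, Fintype.card_units, ← Nat.card_eq_fintype_card,
      card_FK hr hqr]
  rw [h1]
  exact Nat.gcd_eq_right (kOrd_dvd Fact.out)

theorem minFrob_frobGrp {q r : ℕ} [Fact q.Prime] (hr : r.Prime) (hqr : q ≠ r) :
    MinFrob q r (kOrd q r) (VV q r) := by
  have hq : q.Prime := Fact.out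
  have hVker : VV q r = (rightHom : FrobGrp q r →* CC q r).ker := range_inl_eq_ker_rightHom
  refine ⟨hq, hr, hqr, kOrd_pos hq hr hqr, ?_, ?_, ?_, ?_, ?_, kOrd_mini hq⟩
  · rw [hVker]; infer_instance
  · have e : Multiplicative (FK q r) ≃ VV q r :=
      (MonoidHom.ofInjective (f := (inl : Multiplicative (FK q r) →* FrobGrp q r))
        inl_injective).toEquiv
    rw [← Nat.card_congr e]
    show Nat.card (FK q r) = _
    exact card_FK hr hqr
  · rw [hVker, Subgroup.index_ker, MonoidHom.range_eq_top.mpr rightHom_surjective,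
      Subgroup.card_top, card_CC hr hqr]
  · rintro v ⟨w, rfl⟩
    rw [← map_pow]
    have : w ^ q = 1 := by
      have h1 : w ^ q = Multiplicative.ofAdd (q • Multiplicative.toAdd w) := rfl
      rw [h1, nsmul_eq_mul, CharP.cast_eq_zero (FK q r) q, zero_mul]; rfl
    rw [this, map_one]
  · rintro x hx v ⟨w, rfl⟩ hcomm
    have hxr : x.right ≠ 1 := by
      intro h1
      apply hx
      rw [hVker, MonoidHom.mem_ker]; exact h1
    have h1 := congrArg SemidirectProduct.left hcomm
    rw [mul_left, mul_left, left_inl, right_inl, map_one, MulAut.one_apply] at h1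
    have h2 : phiK q r x.right w = w := by
      have h3 : x.left * phiK q r x.right w = x.left * w := by rw [h1, mul_comm]
      exact mul_left_cancel h3
    rw [phiK_apply] at h2
    have h3 : (((x.right : (FK q r)ˣ) : FK q r)) * Multiplicative.toAdd w = Multiplicative.toAdd w :=
      congrArg Multiplicative.toAdd h2
    have h4 : ((((x.right : (FK q r)ˣ) : FK q r)) - 1) * Multiplicative.toAdd w = 0 := by
      rw [sub_mul, one_mul, h3, sub_self]
    rcases mul_eq_zero.mp h4 with h5 | h5
    · exfalso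
      apply hxr
      apply Subtype.ext
      apply Units.ext
      rw [sub_eq_zero] at h5
      rw [h5]; rfl
    · have : w = 1 := by
        have : w = Multiplicative.ofAdd (Multiplicative.toAdd w) := rfl
        rw [this, h5]; rfl
      rw [this, map_one]

end Cfsg.Agent.Lib.Helper7.Crit
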