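import Mathlib
import Cfsg.Agent.Lib.Helper7.Crit2

set_option autoImplicit false

/-!
# Direct products of minimal Frobenius groups of pairwise coprime orders
-/

namespace Cfsg.Agent.Lib.Helper7.Crit

section pi

variable {ι : Type*} [Fintype ι] [DecidableEq ι] {F : ι → Type*} [∀ j, Group (F j)]
  [∀ j, Finite (F j)]

theorem orderOf_pi_eq_prod
    (hcop : ∀ j j', j ≠ j' → (Nat.card (F j)).Coprime (Nat.card (F j')))
    (x : ∀ j, F j) : orderOf x = ∏ j, orderOf (x j) := by
  apply Nat.dvd_antisymm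
  · apply orderOf_dvd_of_pow_eq_one
    funext j
    rw [Pi.pow_apply, Pi.one_apply]
    apply orderOf_dvd_iff_pow_eq_one.mp
    exact Finset.dvd_prod_of_mem _ (Finset.mem_univ j)
  · have hl : (Finset.univ : Finset ι).lcm (fun j => orderOf (x j)) =
        ∏ j, orderOf (x j) := by
      apply Finset.lcm_eq_prod
      intro j _ j' _ hjj'
      show Nat.Coprime (orderOf (x j)) (orderOf (x j'))
      exact Nat.Coprime.coprime_dvd_left (orderOf_dvd_natCard _)
        (Nat.Coprime.coprime_dvd_right (orderOf_dvd_natCard _) (hcop j j' hjj'))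
    rw [← hl]
    apply Finset.lcm_dvd
    intro j _
    apply orderOf_dvd_of_pow_eq_one
    have := congrFun (pow_orderOf_eq_one x) j
    rwa [Pi.pow_apply, Pi.one_apply] at this

/-- an element of prime order `t` dividing `|F j|` lives in the `j`-th factor -/
theorem eq_mulSingle_of_prime_order
    (hcop : ∀ j j', j ≠ j' → (Nat.card (F j)).Coprime (Nat.card (F j')))
    {x : ∀ j, F j} {t : ℕ} (ht : t.Prime) (hx : orderOf x = t) {j : ι}
    (htj : t ∣ Nat.card (F j)) : x = Pi.mulSingle j (x j) := by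
  funext j'
  by_cases hjj' : j' = j
  · subst hjj'; rw [Pi.mulSingle_eq_same]
  · rw [Pi.mulSingle_eq_of_ne hjj']
    have h1 : orderOf (x j') ∣ t := by
      apply orderOf_dvd_of_pow_eq_one
      have := congrFun (pow_orderOf_eq_one x) j'
      rwa [Pi.pow_apply, Pi.one_apply, hx] at this
    have h2 : orderOf (x j') ∣ Nat.card (F j') := orderOf_dvd_natCard _
    have h3 : Nat.Coprime t (Nat.card (F j')) :=
      Nat.Coprime.coprime_dvd_left htj (hcop j j' (Ne.symm hjj'))
    have h4 : orderOf (x j') = 1 := Nat.eq_one_of_dvd_coprimes h3 h1 h2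
    exact orderOf_eq_one_iff.mp h4

end pi

/-- lifting an element of prime order from a section -/
theorem exists_orderOf_eq_of_quotient {G : Type*} [Group G] [Finite G] (H : Subgroup G)
    (N : Subgroup H) [N.Normal] {t : ℕ} (xb : H ⧸ N) (hx : orderOf xb = t) :
    ∃ g : G, g ∈ H ∧ orderOf g = t := by
  obtain ⟨x, rfl⟩ := QuotientGroup.mk_surjective xb
  have h1 : t ∣ orderOf x := by
    rw [← hx]
    apply orderOf_dvd_of_pow_eq_one
    rw [← QuotientGroup.mk_pow, pow_orderOf_eq_one]; rfl
  refine ⟨(x : G) ^ (orderOf x / t), H.pow_mem x.2 _, ?_⟩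
  have h2 : orderOf (x : G) = orderOf x := Subgroup.orderOf_coe x
  rw [← h2] at h1 ⊢
  exact orderOf_pow_orderOf_div (orderOf_pos _).ne' h1

/-- the set of products -/
def Omega {ι : Type*} [Fintype ι] (q r : ι → ℕ) : Set ℕ :=
  {m | ∃ c : ι → ℕ, (∀ j, c j = 1 ∨ c j = q j ∨ c j = r j) ∧ m = ∏ j, c j}

section main

variable {ι : Type*} [Fintype ι] [DecidableEq ι] {F : ι → Type*} [∀ j, Group (F j)]
  [∀ j, Finite (F j)] {q r k : ι → ℕ} {V : ∀ j, Subgroup (F j)}

theorem q_mem_Omega (j : ι) : q j ∈ Omega q r := by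
  refine ⟨fun j' => if j' = j then q j else 1, ?_, ?_⟩
  · intro j'
    by_cases h : j' = j
    · subst h; right; left; simp
    · left; simp [h]
  · rw [Finset.prod_ite_eq' Finset.univ j (fun _ => q j)]; simp

theorem r_mem_Omega (j : ι) : r j ∈ Omega q r := by
  refine ⟨fun j' => if j' = j then r j else 1, ?_, ?_⟩
  · intro j'
    by_cases h : j' = j
    · subst h; right; right; simp
    · left; simp [h]
  · rw [Finset.prod_ite_eq' Finset.univ j (fun _ => r j)]; simp

theorem range_orderOf_pi (h : ∀ j, MinFrob (q j) (r j) (k j) (V j))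
    (hcop : ∀ j j', j ≠ j' → (Nat.card (F j)).Coprime (Nat.card (F j'))) :
    Set.range (orderOf : (∀ j, F j) → ℕ) = Omega q r := by
  ext m
  constructor
  · rintro ⟨x, rfl⟩
    exact ⟨fun j => orderOf (x j), fun j => (h j).orderOf_mem (x j), orderOf_pi_eq_prod hcop x⟩
  · rintro ⟨c, hc, rfl⟩
    have hex : ∀ j, ∃ y : F j, orderOf y = c j := by
      intro j
      rcases hc j with h1 | h1 | h1
      · exact ⟨1, by rw [h1, orderOf_one]⟩
      · rw [h1]; exact (h j).exists_orderOf_eq_q
      · rw [h1]; exact (h j).exists_orderOf_eq_r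
    choose y hy using hex
    refine ⟨y, ?_⟩
    rw [orderOf_pi_eq_prod hcop]
    exact Finset.prod_congr rfl fun j _ => hy j

end main

end Cfsg.Agent.Lib.Helper7.Crit
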