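import Mathlib
import Cfsg.Agent.Lib.Helper7.Crit4

set_option autoImplicit false

/-!
# Criticality of direct products of minimal Frobenius groups of pairwise coprime orders
-/

namespace Cfsg.Agent.Lib.Helper7.Crit

section main

variable {ι : Type*} [Fintype ι] [DecidableEq ι] {F : ι → Type*} [∀ j, Group (F j)]
  [∀ j, Finite (F j)] {q r k : ι → ℕ} {V : ∀ j, Subgroup (F j)}

theorem MinFrob.q_dvd_card {q r k : ℕ} {F : Type*} [Group F] [Finite F] {V : Subgroup F}
    (h : MinFrob q r k V) : q ∣ Nat.card F := by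
  rw [h.card]; exact Dvd.dvd.mul_right (dvd_pow_self _ h.kpos.ne') _

theorem MinFrob.r_dvd_card {q r k : ℕ} {F : Type*} [Group F] [Finite F] {V : Subgroup F}
    (h : MinFrob q r k V) : r ∣ Nat.card F := by
  rw [h.card]; exact Dvd.intro_left _ rfl

/-- away from the `j`-th coordinate a suitable power vanishes -/
theorem mulSingle_pow_eq {j : ι} {m : ℕ} (hmdvd : ∀ j', j' ≠ j → Nat.card (F j') ∣ m)
    (x : ∀ j, F j) : Pi.mulSingle j ((x j) ^ m) = x ^ m := by
  funext j'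
  by_cases hjj' : j' = j
  · subst hjj'; rw [Pi.mulSingle_eq_same, Pi.pow_apply]
  · rw [Pi.mulSingle_eq_of_ne hjj', Pi.pow_apply]
    obtain ⟨c, hc⟩ := hmdvd j' hjj'
    rw [hc, pow_mul, pow_card_eq_one', one_pow]

theorem top_of_spectrum (h : ∀ j, MinFrob (q j) (r j) (k j) (V j))
    (hcop : ∀ j j', j ≠ j' → (Nat.card (F j)).Coprime (Nat.card (F j')))
    (H : Subgroup (∀ j, F j)) (N : Subgroup H) [N.Normal]
    (hsp : Set.range (orderOf : (H ⧸ N) → ℕ) = Omega q r) : H = ⊤ := by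
  have hsingle : ∀ j (y : F j), Pi.mulSingle j y ∈ H := by
    intro j
    have hq : q j ∈ Set.range (orderOf : (H ⧸ N) → ℕ) := by rw [hsp]; exact q_mem_Omega j
    have hr : r j ∈ Set.range (orderOf : (H ⧸ N) → ℕ) := by rw [hsp]; exact r_mem_Omega j
    obtain ⟨xb, hxb⟩ := hq
    obtain ⟨g, hgH, hg⟩ := exists_orderOf_eq_of_quotient H N xb hxb
    obtain ⟨xb', hxb'⟩ := hr
    obtain ⟨g', hgH', hg'⟩ := exists_orderOf_eq_of_quotient H N xb' hxb'
    have e1 := eq_mulSingle_of_prime_order hcop (h j).hq hg (h j).q_dvd_card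
    have e2 := eq_mulSingle_of_prime_order hcop (h j).hr hg' (h j).r_dvd_card
    have o1 : orderOf (g j) = q j := by
      have := hg; rw [e1, orderOf_piMulSingle] at this; exact this
    have o2 : orderOf (g' j) = r j := by
      have := hg'; rw [e2, orderOf_piMulSingle] at this; exact this
    have hcl := (h j).closure_eq_top o2 o1
    have hle : (⊤ : Subgroup (F j)) ≤ H.comap (MonoidHom.mulSingle F j) := by
      rw [← hcl, Subgroup.closure_le]
      rintro y (rfl | rfl)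
      · show Pi.mulSingle j (g' j) ∈ H
        rw [← e2]; exact hgH'
      · show Pi.mulSingle j (g j) ∈ H
        rw [← e1]; exact hgH
    intro y; exact hle (Subgroup.mem_top y)
  rw [eq_top_iff, ← Subgroup.pi_top Set.univ, Subgroup.pi_le_iff]
  intro j
  rintro _ ⟨y, _, rfl⟩
  exact hsingle j y

theorem bot_of_spectrum (h : ∀ j, MinFrob (q j) (r j) (k j) (V j))
    (hcop : ∀ j j', j ≠ j' → (Nat.card (F j)).Coprime (Nat.card (F j')))
    (H : Subgroup (∀ j, F j)) (N : Subgroup H) [N.Normal] (hH : H = ⊤)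
    (hsp : Set.range (orderOf : (H ⧸ N) → ℕ) = Omega q r) : N = ⊥ := by
  by_contra hNne
  obtain ⟨n, hnN, hn1⟩ : ∃ n : H, n ∈ N ∧ n ≠ 1 := by
    by_contra hcon
    push Not at hcon
    apply hNne
    rw [eq_bot_iff]
    intro n hn
    exact Subgroup.mem_bot.mpr (hcon n hn)
  have hg1 : (n : ∀ j, F j) ≠ 1 := fun h0 => hn1 (Subtype.ext h0)
  obtain ⟨j, hj⟩ : ∃ j, (n : ∀ j, F j) j ≠ 1 := by
    by_contra hcon
    push Not at hcon
    exact hg1 (funext hcon)
  set m := ∏ j' ∈ Finset.univ.erase j, Nat.card (F j') with hm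
  have hmcop : Nat.Coprime (Nat.card (F j)) m :=
    Nat.Coprime.prod_right fun j' hj' => hcop j j' (Finset.ne_of_mem_erase hj').symm
  have hmdvd : ∀ j', j' ≠ j → Nat.card (F j') ∣ m := fun j' hj' =>
    Finset.dvd_prod_of_mem _ (Finset.mem_erase.mpr ⟨hj', Finset.mem_univ _⟩)
  have hmdvd' : ∀ j', j' ≠ j → Nat.card (F j') ∣ r j * m := fun j' hj' =>
    Dvd.dvd.mul_left (hmdvd j' hj') _
  let N' : Subgroup (∀ j, F j) := N.map H.subtype
  have hN'normal : N'.Normal := by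
    constructor
    rintro _ ⟨y, hyN, rfl⟩ g
    have hgH : g ∈ H := by rw [hH]; exact Subgroup.mem_top g
    refine ⟨⟨g, hgH⟩ * y * ⟨g, hgH⟩⁻¹, ?_, rfl⟩
    exact (inferInstance : N.Normal).conj_mem y hyN ⟨g, hgH⟩
  let M : Subgroup (F j) := N'.comap (MonoidHom.mulSingle F j)
  have hMn : M.Normal := hN'normal.comap _
  have hMne : M ≠ ⊥ := by
    intro hM
    have hz : ((n : ∀ j, F j) j) ^ m ∈ M := by
      show Pi.mulSingle j (((n : ∀ j, F j) j) ^ m) ∈ N'
      rw [mulSingle_pow_eq hmdvd]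
      exact ⟨n ^ m, N.pow_mem hnN m, rfl⟩
    rw [hM, Subgroup.mem_bot] at hz
    have h1 : orderOf ((n : ∀ j, F j) j) ∣ m := orderOf_dvd_of_pow_eq_one hz
    have h2 := orderOf_dvd_natCard ((n : ∀ j, F j) j)
    have h3 := Nat.eq_one_of_dvd_coprimes hmcop h2 h1
    exact hj (orderOf_eq_one_iff.mp h3)
  have hVM : V j ≤ M := (h j).le_of_normal hMn hMne
  have hall : ∀ xb : H ⧸ N, orderOf xb ∣ r j * m := by
    intro xb
    obtain ⟨x, rfl⟩ := QuotientGroup.mk_surjective xb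
    apply orderOf_dvd_of_pow_eq_one
    rw [← QuotientGroup.mk_pow, QuotientGroup.eq_one_iff]
    have hv : ((x : ∀ j, F j) j) ^ (r j * m) ∈ V j := by
      rw [pow_mul]; exact (V j).pow_mem ((h j).pow_mem _) m
    have hmem : Pi.mulSingle j (((x : ∀ j, F j) j) ^ (r j * m)) ∈ N' := hVM hv
    rw [mulSingle_pow_eq hmdvd'] at hmem
    obtain ⟨y, hyN, hy⟩ := hmem
    have : y = x ^ (r j * m) := Subtype.ext hy
    rw [← this]; exact hyN
  obtain ⟨xb, hxb⟩ : q j ∈ Set.range (orderOf : (H ⧸ N) → ℕ) := by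
    rw [hsp]; exact q_mem_Omega j
  have hdvd : q j ∣ r j * m := hxb ▸ hall xb
  rcases (Nat.Prime.dvd_mul (h j).hq).mp hdvd with h1 | h1
  · exact (h j).hqr ((Nat.prime_dvd_prime_iff_eq (h j).hq (h j).hr).mp h1)
  · have := Nat.eq_one_of_dvd_coprimes hmcop (h j).q_dvd_card h1
    exact (h j).hq.one_lt.ne' this

end main

end Cfsg.Agent.Lib.Helper7.Crit
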