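import Mathlib
import Cfsg.Agent.Lib.Helper7.Crit3
import Cfsg.Agent.Lib.Helper7.Crit5

set_option autoImplicit false

namespace Cfsg.Agent.Lib.Helper7.Crit

theorem card_frobGrp {q r : ℕ} [Fact q.Prime] (hr : r.Prime) (hqr : q ≠ r) :
    Nat.card (FrobGrp q r) = q ^ kOrd q r * r :=
  (minFrob_frobGrp hr hqr).card

theorem coprime_card_frobGrp {x q r : ℕ} (hx : x.Prime) [Fact q.Prime] (hr : r.Prime)
    (hqr : q ≠ r) (hxq : x ≠ q) (hxr : x ≠ r) : Nat.Coprime x (Nat.card (FrobGrp q r)) := by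
  rw [card_frobGrp hr hqr]
  apply Nat.Coprime.mul_right
  · exact Nat.Coprime.pow_right _ ((Nat.coprime_primes hx Fact.out).mpr hxq)
  · exact (Nat.coprime_primes hx hr).mpr hxr

theorem coprime_card_frobGrp' {q r q' r' : ℕ} [Fact q.Prime] [Fact q'.Prime] (hr : r.Prime)
    (hr' : r'.Prime) (hqr : q ≠ r) (hqr' : q' ≠ r') (h1 : q ≠ q') (h2 : q ≠ r') (h3 : r ≠ q')
    (h4 : r ≠ r') : Nat.Coprime (Nat.card (FrobGrp q r)) (Nat.card (FrobGrp q' r')) := by
  rw [card_frobGrp hr hqr]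
  apply Nat.Coprime.mul_left
  · exact Nat.Coprime.pow_left _ (coprime_card_frobGrp Fact.out hr' hqr' h1 h2)
  · exact coprime_card_frobGrp hr hr' hqr' h3 h4

/-- the two orders `x^K₁·y` and `y^K₂·x` cannot have exponents both one -/
theorem kOrd_not_both_one {x y : ℕ} (hx : x.Prime) (hy : y.Prime) (h1 : kOrd x y = 1)
    (h2 : kOrd y x = 1) : False := by
  have d1 : y ∣ x ^ 1 - 1 := h1 ▸ kOrd_dvd (q := x) (r := y) hx
  have d2 : x ∣ y ^ 1 - 1 := h2 ▸ kOrd_dvd (q := y) (r := x) hy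
  rw [pow_one] at d1 d2
  have hx2 := hx.two_le
  have hy2 := hy.two_le
  have l1 : y ≤ x - 1 := Nat.le_of_dvd (by omega) d1
  have l2 : x ≤ y - 1 := Nat.le_of_dvd (by omega) d2
  omega

theorem fin2_add_one_ne (i : Fin 2) : i + 1 ≠ i := by
  fin_cases i <;> decide

theorem fin2_add_one_add_one (i : Fin 2) : i + 1 + 1 = i := by
  fin_cases i <;> decide

theorem fin2_eq_add_one_of_ne {i i' : Fin 2} (h : i ≠ i') : i' = i + 1 := by
  fin_cases i <;> fin_cases i' <;> first | (exfalso; exact h rfl) | decide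

theorem fin2_cases_iff (f : Fin 2 → ℕ) (i : Fin 2) (x : ℕ) :
    (x = 1 ∨ x = f 0 ∨ x = f 1) ↔ (x = 1 ∨ x = f i ∨ x = f (i + 1)) := by
  fin_cases i
  · simp
  · simp only [Fin.mk_one, Fin.isValue]
    have : (1 : Fin 2) + 1 = 0 := by decide
    rw [this]; tauto

end Cfsg.Agent.Lib.Helper7.Crit
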