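import Mathlib
import Cfsg.Agent.Lib.Helper7.CycAb12

set_option autoImplicit false

/-!
# Case E: the embedding of `Q` into `Aut(Z) × Aut(Z)` and the count giving `(p, q) = (3, 2)`
-/

namespace Cfsg.Agent.Lib.Helper7.CycAb

universe u

/-- abstract counting lemma -/
theorem count_lemma {A Q : Type*} [Group A] [Finite A] [IsCyclic A] [Group Q] (Φ : Q →* A × A)
    (hΦ : Function.Injective Φ) {p q : ℕ} (hq : 0 < q)
    (F : Option (Fin p × Fin (q - 1)) → Q) (hF : Function.Injective F)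
    (hFq : ∀ x, (F x) ^ q = 1) : p * (q - 1) + 1 ≤ q * q := by
  classical
  haveI := Fintype.ofFinite A
  have hT : (Finset.univ.filter (fun a : A => a ^ q = 1)).card ≤ q := by
    convert IsCyclic.card_pow_eq_one_le (α := A) hq
  have h1 : (Finset.univ : Finset (Option (Fin p × Fin (q - 1)))).card ≤
      ((Finset.univ.filter (fun a : A => a ^ q = 1)) ×ˢ
        (Finset.univ.filter (fun a : A => a ^ q = 1))).card := by
    apply Finset.card_le_card_of_injOn (fun x => Φ (F x))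
    · intro x _
      have h2 : (Φ (F x)) ^ q = 1 := by rw [← map_pow, hFq, map_one]
      have h3 : (Φ (F x)).1 ^ q = 1 := by rw [← Prod.pow_fst, h2]; rfl
      have h4 : (Φ (F x)).2 ^ q = 1 := by rw [← Prod.pow_snd, h2]; rfl
      rw [Finset.mem_coe, Finset.mem_product, Finset.mem_filter, Finset.mem_filter]
      exact ⟨⟨Finset.mem_univ _, h3⟩, ⟨Finset.mem_univ _, h4⟩⟩
    · intro x _ x' _ h
      exact hF (hΦ h)
  rw [Finset.card_univ, Fintype.card_option, Fintype.card_prod, Fintype.card_fin,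
    Fintype.card_fin, Finset.card_product] at h1
  exact h1.trans (Nat.mul_le_mul hT hT)

/-- arithmetic: the count forces `(p, q) = (3, 2)` -/
theorem three_two {p q : ℕ} (hp : p.Prime) (hq : q.Prime) (hdvd : q ∣ p - 1)
    (hcount : p * (q - 1) + 1 ≤ q * q) : p = 3 ∧ q = 2 := by
  have hq2 := hq.two_le
  have hp2 := hp.two_le
  have h1 : q ≤ p - 1 := Nat.le_of_dvd (by omega) hdvd
  obtain ⟨r, rfl⟩ : ∃ r, q = r + 1 := ⟨q - 1, by omega⟩
  have h2 : p * r ≤ r * (r + 2) := by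
    have : p * (r + 1 - 1) = p * r := by rw [Nat.add_sub_cancel]
    rw [this] at hcount
    nlinarith
  have hr : 0 < r := by omega
  have h3 : p ≤ r + 2 := by
    by_contra hcon
    push Not at hcon
    have : r * (r + 2) < p * r := by
      rw [mul_comm p r]
      exact Nat.mul_lt_mul_of_pos_left hcon hr
    omega
  have h4 : p = r + 2 := by omega
  subst h4
  rcases hq.eq_two_or_odd with h5 | h5
  · constructor <;> omega
  · exfalso
    rcases hp.eq_two_or_odd with h6 | h6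
    · omega
    · omega

variable {G : Type u} [Group G] [Finite G] {p : ℕ} [hp : Fact p.Prime]

/-- the configuration: a Sylow `q`-subgroup `Q ≤ N_G(P)`, an element `y` of order `p` normalizing
`Q`, an element `κ ∈ Q ∩ C_G(Z)` of order `q` -/
structure Ctx3 (p : ℕ) (G : Type u) [Group G] where
  toCtx2 : Ctx2 p G
  q : ℕ
  hq : q.Prime
  hqp : q ≠ p
  Q : Sylow q G
  hQN : (Q : Subgroup G) ≤ Subgroup.normalizer ((toCtx2.P : Subgroup G) : Set G)
  y : G
  hyQ : y ∈ Subgroup.normalizer ((Q : Subgroup G) : Set G)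
  hy : orderOf y = p
  hyN : ∀ j : ℕ, ¬ p ∣ j → y ^ j ∉ Subgroup.normalizer ((toCtx2.P : Subgroup G) : Set G)
  κ : G
  hκQ : κ ∈ (Q : Subgroup G)
  hκ : toCtx2.IsK κ
  hκo : orderOf κ = q

namespace Ctx3

abbrev c (d : Ctx3 p G) : Ctx2 p G := d.toCtx2

theorem hQZ (d : Ctx3 p G) : (d.Q : Subgroup G) ≤ Subgroup.normalizer (d.c.Z : Set G) := by
  rw [d.c.hNZ]; exact d.hQN

include hp in
theorem isK_of_mem (d : Ctx3 p G) {u : G} (hu : u ∈ (d.Q : Subgroup G))
    (h : u ∈ Subgroup.centralizer (d.c.Z : Set G)) : d.c.IsK u := by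
  haveI : Fact d.q.Prime := ⟨d.hq⟩
  exact ⟨h, coprime_of_mem_sylow d.hqp d.Q hu⟩

include hp in
theorem inj (d : Ctx3 p G) {j : ℕ} (hj : ¬ p ∣ j) {u : G} (hu : u ∈ (d.Q : Subgroup G))
    (h1 : u ∈ Subgroup.centralizer (d.c.Z : Set G))
    (h2 : d.y ^ j * u * (d.y ^ j)⁻¹ ∈ Subgroup.centralizer (d.c.Z : Set G)) : u = 1 := by
  have hyj : d.y ^ j ∈ Subgroup.normalizer ((d.Q : Subgroup G) : Set G) :=
    Subgroup.pow_mem _ d.hyQ j
  have hu' : d.y ^ j * u * (d.y ^ j)⁻¹ ∈ (d.Q : Subgroup G) :=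
    (Subgroup.mem_normalizer_iff.mp hyj u).mp hu
  exact d.c.ti (d.hyN j hj) (d.isK_of_mem hu h1) (d.isK_of_mem hu' h2)

/-- the action of `Q` on `Z` -/
noncomputable def ψ (d : Ctx3 p G) : ↥(d.Q : Subgroup G) →* MulAut ↥d.c.Z :=
  (d.c.Z.normalizerMonoidHom).comp (Subgroup.inclusion d.hQZ)

/-- conjugation by `y` on `Q` -/
noncomputable def cy (d : Ctx3 p G) : MulAut ↥(d.Q : Subgroup G) :=
  (d.Q : Subgroup G).normalizerMonoidHom ⟨d.y, d.hyQ⟩

theorem coe_cy_pow (d : Ctx3 p G) (j : ℕ) (u : ↥(d.Q : Subgroup G)) :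
    (((d.cy ^ j) u : ↥(d.Q : Subgroup G)) : G) = d.y ^ j * u * (d.y ^ j)⁻¹ := by
  unfold cy
  rw [← map_pow]
  rfl

theorem coe_cy (d : Ctx3 p G) (u : ↥(d.Q : Subgroup G)) :
    ((d.cy u : ↥(d.Q : Subgroup G)) : G) = d.y * u * d.y⁻¹ := rfl

theorem ψ_eq_one_iff (d : Ctx3 p G) (u : ↥(d.Q : Subgroup G)) :
    d.ψ u = 1 ↔ (u : G) ∈ Subgroup.centralizer (d.c.Z : Set G) := by
  unfold ψ
  rw [MonoidHom.comp_apply, ← MonoidHom.mem_ker, Subgroup.normalizerMonoidHom_ker,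
    Subgroup.mem_subgroupOf]
  rfl

/-- the embedding `Q → Aut(Z) × Aut(Z)` -/
noncomputable def Φ (d : Ctx3 p G) : ↥(d.Q : Subgroup G) →* MulAut ↥d.c.Z × MulAut ↥d.c.Z :=
  d.ψ.prod (d.ψ.comp d.cy.toMonoidHom)

include hp in
theorem Φ_injective (d : Ctx3 p G) : Function.Injective d.Φ := by
  rw [injective_iff_map_eq_one]
  intro u hu
  have h1 : d.ψ u = 1 := congrArg Prod.fst hu
  have h2 : d.ψ (d.cy u) = 1 := congrArg Prod.snd hu
  rw [ψ_eq_one_iff] at h1 h2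
  rw [coe_cy] at h2
  apply Subtype.ext
  have := d.inj (j := 1) (by
    intro h; exact hp.out.one_lt.ne' (Nat.dvd_one.mp h)) u.2 h1 (by simpa using h2)
  exact this

include hp in
theorem isCyclic_mulAut (d : Ctx3 p G) : IsCyclic (MulAut ↥d.c.Z) := by
  haveI : Fact (Nat.card d.c.Z).Prime := by rw [d.c.toCtx.hZcard]; exact hp
  haveI : IsCyclic d.c.Z := isCyclic_of_prime_card rfl
  have e := IsCyclic.mulAutMulEquiv d.c.Z
  haveI : IsCyclic (ZMod (Nat.card d.c.Z))ˣ := inferInstance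
  exact isCyclic_of_surjective e.symm.toMonoidHom e.symm.surjective

include hp in
theorem card_mulAut (d : Ctx3 p G) : Nat.card (MulAut ↥d.c.Z) = p - 1 := by
  haveI : Fact (Nat.card d.c.Z).Prime := by rw [d.c.toCtx.hZcard]; exact hp
  haveI : IsCyclic d.c.Z := isCyclic_of_prime_card rfl
  rw [IsCyclic.card_mulAut, d.c.toCtx.hZcard, Nat.totient_prime hp.out]

theorem κ_ne_one (d : Ctx3 p G) : d.κ ≠ 1 := by
  intro h
  have := d.hκo
  rw [h, orderOf_one] at this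
  exact d.hq.one_lt.ne this

include hp in
/-- `q ∣ p - 1` -/
theorem q_dvd (d : Ctx3 p G) : d.q ∣ p - 1 := by
  set a : MulAut ↥d.c.Z := d.ψ (d.cy ⟨d.κ, d.hκQ⟩) with ha
  have h1 : a ≠ 1 := by
    intro h
    rw [ha, ψ_eq_one_iff, coe_cy] at h
    apply d.κ_ne_one
    exact d.inj (j := 1) (by
      intro h; exact hp.out.one_lt.ne' (Nat.dvd_one.mp h)) d.hκQ d.hκ.1 (by simpa using h)
  have h2 : a ^ d.q = 1 := by
    rw [ha, ← map_pow, ← map_pow]
    have : (⟨d.κ, d.hκQ⟩ : ↥(d.Q : Subgroup G)) ^ d.q = 1 := by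
      apply Subtype.ext
      rw [Subgroup.coe_pow, Subgroup.coe_one]
      show d.κ ^ d.q = 1
      rw [← d.hκo]; exact pow_orderOf_eq_one _
    rw [this, map_one, map_one]
  haveI : Fact d.q.Prime := ⟨d.hq⟩
  have h3 : orderOf a = d.q := orderOf_eq_prime h2 h1
  have h4 : orderOf a ∣ Nat.card (MulAut ↥d.c.Z) := orderOf_dvd_natCard a
  rw [h3, d.card_mulAut] at h4
  exact h4

include hp in
theorem pow_κ_ne_one (d : Ctx3 p G) (a : Fin (d.q - 1)) : d.κ ^ ((a : ℕ) + 1) ≠ 1 := by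
  intro h
  have h1 := orderOf_dvd_of_pow_eq_one h
  rw [d.hκo] at h1
  have h2 := Nat.le_of_dvd (Nat.succ_pos _) h1
  have := a.2
  omega

include hp in
/-- the key injectivity: distinct conjugates by powers of `y` -/
theorem conj_pow_inj (d : Ctx3 p G) {j j' : ℕ} (hjj' : j < j') (hj' : j' < p) {v v' : G}
    (hv : d.c.IsK v) (hv' : d.c.IsK v') (hv'1 : v' ≠ 1)
    (h : d.y ^ j * v * (d.y ^ j)⁻¹ = d.y ^ j' * v' * (d.y ^ j')⁻¹) : False := by
  have h1 : v = d.y ^ (j' - j) * v' * (d.y ^ (j' - j))⁻¹ := by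
    have e1 : d.y ^ j' = d.y ^ j * d.y ^ (j' - j) := by
      rw [← pow_add]; congr 1; omega
    rw [e1] at h
    have e2 : d.y ^ j * d.y ^ (j' - j) * v' * (d.y ^ j * d.y ^ (j' - j))⁻¹ =
        d.y ^ j * (d.y ^ (j' - j) * v' * (d.y ^ (j' - j))⁻¹) * (d.y ^ j)⁻¹ := by group
    rw [e2] at h
    have h3 := mul_right_cancel h
    exact mul_left_cancel h3
  have hnd : ¬ p ∣ (j' - j) := by
    intro hd
    have := Nat.le_of_dvd (by omega) hd
    omega
  apply hv'1
  exact d.c.ti (d.hyN _ hnd) hv' (h1 ▸ hv)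

/-- the map used in the count -/
noncomputable def F (d : Ctx3 p G) : Option (Fin p × Fin (d.q - 1)) → ↥(d.Q : Subgroup G)
  | none => 1
  | some (j, a) => (d.cy ^ (j : ℕ)) ((⟨d.κ, d.hκQ⟩ : ↥(d.Q : Subgroup G)) ^ ((a : ℕ) + 1))

theorem coe_F_some (d : Ctx3 p G) (j : Fin p) (a : Fin (d.q - 1)) :
    ((d.F (some (j, a)) : ↥(d.Q : Subgroup G)) : G) =
      d.y ^ (j : ℕ) * d.κ ^ ((a : ℕ) + 1) * (d.y ^ (j : ℕ))⁻¹ := by
  unfold F
  rw [coe_cy_pow]
  rfl

include hp in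
theorem F_injective (d : Ctx3 p G) : Function.Injective d.F := by
  have hne : ∀ (j : Fin p) (a : Fin (d.q - 1)), d.F (some (j, a)) ≠ 1 := by
    intro j a h
    have h1 := congrArg (fun t : ↥(d.Q : Subgroup G) => (t : G)) h
    simp only [coe_F_some, Subgroup.coe_one] at h1
    apply d.pow_κ_ne_one a
    have : d.κ ^ ((a : ℕ) + 1) = (d.y ^ (j : ℕ))⁻¹ *
        (d.y ^ (j : ℕ) * d.κ ^ ((a : ℕ) + 1) * (d.y ^ (j : ℕ))⁻¹) * d.y ^ (j : ℕ) := by group
    rw [this, h1, mul_one, inv_mul_cancel]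
  intro x x' hxx'
  rcases x with _ | ⟨j, a⟩ <;> rcases x' with _ | ⟨j', a'⟩
  · rfl
  · exact absurd hxx'.symm (hne j' a')
  · exact absurd hxx' (hne j a)
  · have h1 := congrArg (fun t : ↥(d.Q : Subgroup G) => (t : G)) hxx'
    simp only [coe_F_some] at h1
    have hK : ∀ a : Fin (d.q - 1), d.c.IsK (d.κ ^ ((a : ℕ) + 1)) := fun a => d.hκ.pow _ _
    have hjj' : (j : ℕ) = j' := by
      rcases lt_trichotomy (j : ℕ) (j' : ℕ) with hlt | heq | hgt
      · exact (d.conj_pow_inj hlt j'.2 (hK a) (hK a') (d.pow_κ_ne_one a') h1).elim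
      · exact heq
      · exact (d.conj_pow_inj hgt j.2 (hK a') (hK a) (d.pow_κ_ne_one a) h1.symm).elim
    have hj : j = j' := Fin.ext hjj'
    subst hj
    have h2 : d.κ ^ ((a : ℕ) + 1) = d.κ ^ ((a' : ℕ) + 1) := by
      have h3 := mul_right_cancel h1
      exact mul_left_cancel h3
    rw [pow_eq_pow_iff_modEq, d.hκo] at h2
    have ha := a.2
    have ha' := a'.2
    have h4 : (a : ℕ) + 1 = (a' : ℕ) + 1 := by
      unfold Nat.ModEq at h2
      rwa [Nat.mod_eq_of_lt (by omega), Nat.mod_eq_of_lt (by omega)] at h2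
    have : a = a' := Fin.ext (by omega)
    rw [this]

include hp in
theorem F_pow (d : Ctx3 p G) (x : Option (Fin p × Fin (d.q - 1))) : (d.F x) ^ d.q = 1 := by
  rcases x with _ | ⟨j, a⟩
  · exact one_pow _
  · unfold F
    rw [← map_pow, ← pow_mul, mul_comm, pow_mul]
    have : (⟨d.κ, d.hκQ⟩ : ↥(d.Q : Subgroup G)) ^ d.q = 1 := by
      apply Subtype.ext
      rw [Subgroup.coe_pow, Subgroup.coe_one]
      show d.κ ^ d.q = 1
      rw [← d.hκo]; exact pow_orderOf_eq_one _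
    rw [this, one_pow, map_one]

include hp in
/-- the first main consequence: `p = 3` and `q = 2` -/
theorem p_q (d : Ctx3 p G) : p = 3 ∧ d.q = 2 := by
  haveI := d.isCyclic_mulAut
  have h1 := count_lemma d.Φ d.Φ_injective d.hq.pos d.F d.F_injective d.F_pow
  exact three_two hp.out d.hq d.q_dvd h1

end Ctx3

end Cfsg.Agent.Lib.Helper7.CycAb
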