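import Mathlib
import Cfsg.Agent.Lib.Helper7.CycAb13

set_option autoImplicit false

/-!
# Case E with `(p, q) = (3, 2)`: the structure of `Q`, `C_G(Z)` and `N_G(Z)`
-/

namespace Cfsg.Agent.Lib.Helper7.CycAb

universe u

variable {G : Type u} [Group G] [Finite G] {p : ℕ} [hp : Fact p.Prime]

namespace Ctx3

include hp in
theorem card_mulAut_two (d : Ctx3 p G) (hp3 : p = 3) : Nat.card (MulAut ↥d.c.Z) = 2 := by
  rw [d.card_mulAut]
  omega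

include hp in
theorem eq_of_ne_one (d : Ctx3 p G) (hp3 : p = 3) {a b : MulAut ↥d.c.Z} (ha : a ≠ 1)
    (hb : b ≠ 1) : a = b := by
  obtain ⟨x, -, hx⟩ := (Nat.card_eq_two_iff' (1 : MulAut ↥d.c.Z)).mp (d.card_mulAut_two hp3)
  rw [hx a ha, hx b hb]

theorem y_pow_three (d : Ctx3 p G) (hp3 : p = 3) : d.y ^ 3 = 1 := by
  have h1 : d.y ^ p = 1 := by
    have := pow_orderOf_eq_one d.y
    rwa [d.hy] at this
  rw [show (3 : ℕ) = p from hp3.symm]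
  exact h1

theorem κ_sq (d : Ctx3 p G) (hq2 : d.q = 2) : d.κ ^ 2 = 1 := by
  have h1 : d.κ ^ d.q = 1 := by
    have := pow_orderOf_eq_one d.κ
    rwa [d.hκo] at this
  rwa [hq2] at h1

/-- `κ` as an element of `Q` -/
def κ' (d : Ctx3 p G) : ↥(d.Q : Subgroup G) := ⟨d.κ, d.hκQ⟩

theorem ψ_κ' (d : Ctx3 p G) : d.ψ d.κ' = 1 := by
  rw [ψ_eq_one_iff]; exact d.hκ.1

include hp in
theorem ψ_cy_ne (d : Ctx3 p G) {j : ℕ} (hj : ¬ p ∣ j) : d.ψ ((d.cy ^ j) d.κ') ≠ 1 := by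
  intro h
  rw [ψ_eq_one_iff, coe_cy_pow] at h
  exact d.κ_ne_one (d.inj hj d.hκQ d.hκ.1 h)

theorem Φ_apply (d : Ctx3 p G) (u : ↥(d.Q : Subgroup G)) : d.Φ u = (d.ψ u, d.ψ (d.cy u)) := rfl

theorem cy_cy_sq (d : Ctx3 p G) (hp3 : p = 3) (u : ↥(d.Q : Subgroup G)) :
    d.cy ((d.cy ^ 2) u) = u := by
  apply Subtype.ext
  rw [coe_cy, coe_cy_pow]
  have h3 := d.y_pow_three hp3
  have e : d.y * (d.y ^ 2 * ↑u * (d.y ^ 2)⁻¹) * d.y⁻¹ = d.y ^ 3 * u * (d.y ^ 3)⁻¹ := by group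
  rw [e, h3, one_mul, inv_one, mul_one]

include hp in
/-- the nonidentity elements of `Q` -/
theorem mem_Q_cases (d : Ctx3 p G) (hp3 : p = 3) {u : G} (hu : u ∈ (d.Q : Subgroup G))
    (hu1 : u ≠ 1) : u = d.κ ∨ u = d.y * d.κ * d.y⁻¹ ∨ u = d.y ^ 2 * d.κ * (d.y ^ 2)⁻¹ := by
  have hn1 : ¬ p ∣ 1 := by rw [hp3]; decide
  have hn2 : ¬ p ∣ 2 := by rw [hp3]; decide
  have he1 : d.ψ (d.cy d.κ') ≠ 1 := by
    have := d.ψ_cy_ne hn1
    rwa [pow_one] at this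
  have he2 : d.ψ ((d.cy ^ 2) d.κ') ≠ 1 := d.ψ_cy_ne hn2
  by_cases ha : d.ψ ⟨u, hu⟩ = 1
  · by_cases hb : d.ψ (d.cy ⟨u, hu⟩) = 1
    · exfalso
      apply hu1
      have h1 : d.Φ ⟨u, hu⟩ = d.Φ 1 := by
        rw [Φ_apply, Φ_apply, ha, hb, map_one, map_one, map_one]
      exact congrArg (fun t : ↥(d.Q : Subgroup G) => (t : G)) (d.Φ_injective h1)
    · left
      have h1 : d.Φ ⟨u, hu⟩ = d.Φ d.κ' := by
        rw [Φ_apply, Φ_apply, ha, d.ψ_κ', d.eq_of_ne_one hp3 hb he1]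
      exact congrArg (fun t : ↥(d.Q : Subgroup G) => (t : G)) (d.Φ_injective h1)
  · by_cases hb : d.ψ (d.cy ⟨u, hu⟩) = 1
    · right; right
      have h1 : d.Φ ⟨u, hu⟩ = d.Φ ((d.cy ^ 2) d.κ') := by
        rw [Φ_apply, Φ_apply, hb, d.cy_cy_sq hp3, d.ψ_κ', d.eq_of_ne_one hp3 ha he2]
      have h2 := congrArg (fun t : ↥(d.Q : Subgroup G) => (t : G)) (d.Φ_injective h1)
      simp only [coe_cy_pow] at h2
      exact h2
    · right; left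
      have h1 : d.Φ ⟨u, hu⟩ = d.Φ (d.cy d.κ') := by
        have e : d.cy (d.cy d.κ') = (d.cy ^ 2) d.κ' := by rw [pow_two]; rfl
        rw [Φ_apply, Φ_apply, e, d.eq_of_ne_one hp3 ha he1, d.eq_of_ne_one hp3 hb he2]
      have h2 := congrArg (fun t : ↥(d.Q : Subgroup G) => (t : G)) (d.Φ_injective h1)
      simp only [coe_cy] at h2
      exact h2

include hp in
/-- every nonidentity element of `Q` is conjugate to `κ` -/
theorem mem_Q_conj (d : Ctx3 p G) (hp3 : p = 3) {u : G} (hu : u ∈ (d.Q : Subgroup G))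
    (hu1 : u ≠ 1) : ∃ g : G, u = g * d.κ * g⁻¹ := by
  rcases d.mem_Q_cases hp3 hu hu1 with h | h | h
  · exact ⟨1, by simpa using h⟩
  · exact ⟨d.y, h⟩
  · exact ⟨d.y ^ 2, h⟩

include hp in
/-- a conjugate of `κ` which is a `p'`-element of `C_G(Z)` equals `κ` -/
theorem conj_isK (d : Ctx3 p G) {g : G} (h : d.c.IsK (g * d.κ * g⁻¹)) : g * d.κ * g⁻¹ = d.κ := by
  have hgN : g ∈ Subgroup.normalizer ((d.c.P : Subgroup G) : Set G) := by
    by_contra hg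
    exact d.κ_ne_one (d.c.ti hg d.hκ h)
  rw [d.c.normalizer_comm hgN d.hκ, mul_inv_cancel_right]

end Ctx3

end Cfsg.Agent.Lib.Helper7.CycAb
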