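import Mathlib
import Cfsg.Agent.Lib.Helper7.CycAb14

set_option autoImplicit false

/-!
# Case E with `(p, q) = (3, 2)`: involutions
-/

namespace Cfsg.Agent.Lib.Helper7.CycAb

universe u

variable {G : Type u} [Group G] [Finite G] {p : ℕ} [hp : Fact p.Prime]

namespace Ctx2

include hp in
/-- from a `p'`-element of `C_G(Z)` and a prime divisor of its order to the configuration
`Ctx3` -/
theorem exists_ctx3 (c : Ctx2 p G) (hcon : ¬ Concl p G) {x : G} (hx : c.IsK x) {r : ℕ}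
    (hr : r.Prime) (hdvd : r ∣ orderOf x) : ∃ d : Ctx3 p G, d.toCtx2 = c ∧ d.q = r := by
  have ho : orderOf (x ^ (orderOf x / r)) = r :=
    orderOf_pow_orderOf_div (orderOf_pos x).ne' hdvd
  have hκ : c.IsK (x ^ (orderOf x / r)) := hx.pow c _
  have hκ1 : x ^ (orderOf x / r) ≠ 1 := by
    intro h
    rw [h, orderOf_one] at ho
    exact hr.one_lt.ne ho
  have hrp : r ≠ p := by
    rintro rfl
    have := Nat.Coprime.eq_one_of_dvd hx.2.symm hdvd
    exact hr.one_lt.ne' this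
  haveI : Fact r.Prime := ⟨hr⟩
  have hpg : IsPGroup r (Subgroup.zpowers (x ^ (orderOf x / r))) := by
    rw [IsPGroup.iff_card]
    exact ⟨1, by rw [Nat.card_zpowers, pow_one, ho]⟩
  obtain ⟨Q, hQ⟩ := hpg.exists_le_sylow
  have hκQ : x ^ (orderOf x / r) ∈ (Q : Subgroup G) := hQ (Subgroup.mem_zpowers _)
  obtain ⟨y, hyQ, hy, hyN⟩ := c.exists_y hcon hrp Q hκQ hκ hκ1
  exact ⟨⟨c, r, hr, hrp, Q, c.sylow_le_normalizer hrp Q hκQ hκ hκ1, y, hyQ, hy, hyN, _, hκQ, hκ,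
    ho⟩, rfl, rfl⟩

include hp in
theorem prime_eq_two (c : Ctx2 p G) (hcon : ¬ Concl p G) {x : G} (hx : c.IsK x) {r : ℕ}
    (hr : r.Prime) (hdvd : r ∣ orderOf x) : r = 2 := by
  obtain ⟨d, -, rfl⟩ := c.exists_ctx3 hcon hx hr hdvd
  exact d.p_q.2

end Ctx2

namespace Ctx3

include hp in
/-- `κ` is the only nontrivial `p'`-element of `C_G(Z)` -/
theorem isK_eq (d : Ctx3 p G) (hcon : ¬ Concl p G) (hp3 : p = 3) (hq2 : d.q = 2) {x : G}
    (hx : d.c.IsK x) (hx1 : x ≠ 1) : x = d.κ := by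
  have ho : orderOf x = 2 ^ (orderOf x).primeFactorsList.length := by
    apply Nat.eq_prime_pow_of_unique_prime_dvd (orderOf_pos x).ne'
    intro r hr hdvd
    exact d.c.prime_eq_two hcon hx hr hdvd
  haveI : Fact d.q.Prime := ⟨d.hq⟩
  obtain ⟨h, hh⟩ := exists_conj_mem_sylow d.Q (y := x)
    ⟨(orderOf x).primeFactorsList.length, by rw [hq2]; exact ho⟩
  have hne : h⁻¹ * x * h ≠ 1 := by
    intro h0
    apply hx1
    have : x = h * (h⁻¹ * x * h) * h⁻¹ := by group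
    rw [this, h0, mul_one, mul_inv_cancel]
  obtain ⟨g, hg⟩ := d.mem_Q_conj hp3 hh hne
  have h1 : x = (h * g) * d.κ * (h * g)⁻¹ := by
    have : x = h * (h⁻¹ * x * h) * h⁻¹ := by group
    rw [this, hg]; group
  rw [h1] at hx ⊢
  exact d.conj_isK hx

include hp in
/-- the only involution of `C_G(Z)` is `κ` -/
theorem invol_centZ (d : Ctx3 p G) (hcon : ¬ Concl p G) (hp3 : p = 3) (hq2 : d.q = 2) {s : G}
    (hs2 : s ^ 2 = 1) (hs1 : s ≠ 1) (hsX : s ∈ Subgroup.centralizer (d.c.Z : Set G)) :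
    s = d.κ := by
  have ho : orderOf s = 2 := orderOf_eq_prime hs2 hs1
  apply d.isK_eq hcon hp3 hq2 ⟨hsX, ?_⟩ hs1
  rw [ho, hp3]
  decide

include hp in
/-- every involution is conjugate to `κ` -/
theorem invol_conj (d : Ctx3 p G) (hp3 : p = 3) (hq2 : d.q = 2) {s : G}
    (hs2 : s ^ 2 = 1) (hs1 : s ≠ 1) : ∃ h : G, s = h * d.κ * h⁻¹ := by
  have ho : orderOf s = 2 := orderOf_eq_prime hs2 hs1
  haveI : Fact d.q.Prime := ⟨d.hq⟩
  obtain ⟨h, hh⟩ := exists_conj_mem_sylow d.Q (y := s) ⟨1, by rw [pow_one, hq2]; exact ho⟩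
  have hne : h⁻¹ * s * h ≠ 1 := by
    intro h0
    apply hs1
    have : s = h * (h⁻¹ * s * h) * h⁻¹ := by group
    rw [this, h0, mul_one, mul_inv_cancel]
  obtain ⟨g, hg⟩ := d.mem_Q_conj hp3 hh hne
  refine ⟨h * g, ?_⟩
  have : s = h * (h⁻¹ * s * h) * h⁻¹ := by group
  rw [this, hg]; group

include hp in
/-- elements of `N_G(Z)` outside `C_G(Z)` invert `Z` -/
theorem inverts (d : Ctx3 p G) (hp3 : p = 3) {g : G}
    (hgN : g ∈ Subgroup.normalizer ((d.c.P : Subgroup G) : Set G))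
    (hgX : g ∉ Subgroup.centralizer (d.c.Z : Set G)) {z : G} (hz : z ∈ d.c.Z) :
    g * z * g⁻¹ = z⁻¹ := by
  by_cases hz1 : z = 1
  · rw [hz1]; simp
  have hzP : z ∈ (d.c.P : Subgroup G) := d.c.hZP hz
  have h1 : g * z * g⁻¹ ∈ d.c.Z := d.c.toCtx.conj_mem_Z hgN hz
  obtain ⟨i, hi⟩ := Subgroup.mem_zpowers_iff.mp (d.c.toCtx.hZle z hzP hz1 h1)
  have hz3 : z ^ 3 = 1 := by
    have := d.c.toCtx.pow_p_eq_one hz
    rwa [hp3] at this
  have hi2 : z ^ (i % ((3 : ℕ) : ℤ)) = g * z * g⁻¹ := by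
    rw [← zpow_eq_zpow_emod' i hz3]; exact hi
  have hr0 : 0 ≤ i % ((3 : ℕ) : ℤ) := Int.emod_nonneg _ (by norm_num)
  have hr3 : i % ((3 : ℕ) : ℤ) < 3 := Int.emod_lt_of_pos _ (by norm_num)
  obtain ⟨r, hr⟩ : ∃ r : ℕ, i % ((3 : ℕ) : ℤ) = r := ⟨(i % ((3 : ℕ) : ℤ)).toNat, by omega⟩
  rw [hr, zpow_natCast] at hi2
  have hr3' : r < 3 := by omega
  interval_cases r
  · exfalso
    apply hz1
    rw [pow_zero] at hi2
    have : z = g⁻¹ * (g * z * g⁻¹) * g := by group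
    rw [this, ← hi2, mul_one, inv_mul_cancel]
  · exfalso
    apply hgX
    apply d.c.toCtx.cent_le hzP hz1
    rw [pow_one] at hi2
    have : g * z = (g * z * g⁻¹) * g := by group
    rw [this, ← hi2]
  · rw [← hi2]
    apply eq_inv_of_mul_eq_one_left
    rw [← pow_succ]
    exact hz3

include hp in
/-- `C_G(Z)` has index two in `N_G(Z)` -/
theorem mul_mem_centZ (d : Ctx3 p G) (hp3 : p = 3) {g g' : G}
    (hgN : g ∈ Subgroup.normalizer ((d.c.P : Subgroup G) : Set G))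
    (hgX : g ∉ Subgroup.centralizer (d.c.Z : Set G))
    (hgN' : g' ∈ Subgroup.normalizer ((d.c.P : Subgroup G) : Set G))
    (hgX' : g' ∉ Subgroup.centralizer (d.c.Z : Set G)) :
    g * g' ∈ Subgroup.centralizer (d.c.Z : Set G) := by
  rw [Subgroup.mem_centralizer_iff]
  intro z hz
  have h1 := d.inverts hp3 hgN' hgX' hz
  have h2 := d.inverts hp3 hgN hgX (Subgroup.inv_mem _ hz)
  rw [inv_inv] at h2
  have h3 : (g * g') * z * (g * g')⁻¹ = z := by
    have : (g * g') * z * (g * g')⁻¹ = g * (g' * z * g'⁻¹) * g⁻¹ := by group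
    rw [this, h1, h2]
  have : g * g' * z = (g * g' * z * (g * g')⁻¹) * (g * g') := by group
  rw [this, h3]

end Ctx3

end Cfsg.Agent.Lib.Helper7.CycAb
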