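import Mathlib

set_option autoImplicit false

/-!
# The friendship theorem for regular graphs

A finite regular graph of degree `d ≥ 3` in which any two distinct vertices have exactly one common
neighbour does not exist.  The proof computes the trace of a power of the adjacency matrix over
`ZMod ℓ`, `ℓ` a prime divisor of `d - 1`.
-/

namespace Cfsg.Agent.Lib.Helper7.Friend

open Matrix

theorem friendship_false {V : Type*} [Fintype V] [DecidableEq V] [Nonempty V]
    (adj : V → V → Prop) [DecidableRel adj]
    (hsymm : ∀ u v, adj u v → adj v u) (hirr : ∀ v, ¬ adj v v) (d : ℕ)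
    (hreg : ∀ v, (Finset.univ.filter (fun w => adj v w)).card = d)
    (hfr : ∀ u v, u ≠ v → (Finset.univ.filter (fun w => adj u w ∧ adj w v)).card = 1)
    (hd : 3 ≤ d) : False := by
  have hd1 : d - 1 ≠ 1 := by omega
  haveI : Fact (Nat.minFac (d - 1)).Prime := ⟨Nat.minFac_prime hd1⟩
  set ℓ := Nat.minFac (d - 1) with hℓ
  have hℓd : ℓ ∣ d - 1 := Nat.minFac_dvd _
  have hdone : (d : ZMod ℓ) = 1 := by
    have h1 : ((d - 1 : ℕ) : ZMod ℓ) = 0 := (ZMod.natCast_eq_zero_iff _ _).mpr hℓd
    have h2 : d = (d - 1) + 1 := by omega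
    rw [h2, Nat.cast_add, h1, zero_add, Nat.cast_one]
  let A : Matrix V V (ZMod ℓ) := Matrix.of fun u v => if adj u v then 1 else 0
  let J : Matrix V V (ZMod ℓ) := Matrix.of fun _ _ => 1
  have hAA : A * A = J := by
    ext u v
    rw [Matrix.mul_apply]
    have h1 : ∀ w, A u w * A w v = if adj u w ∧ adj w v then (1 : ZMod ℓ) else 0 := by
      intro w
      simp only [A, Matrix.of_apply]
      by_cases h1 : adj u w <;> by_cases h2 : adj w v <;> simp [h1, h2]
    rw [Finset.sum_congr rfl (fun w _ => h1 w), Finset.sum_boole]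
    show _ = (1 : ZMod ℓ)
    by_cases huv : u = v
    · subst huv
      have : (Finset.univ.filter (fun w => adj u w ∧ adj w u)) =
          (Finset.univ.filter (fun w => adj u w)) := by
        ext w
        simp only [Finset.mem_filter, Finset.mem_univ, true_and]
        exact ⟨fun h => h.1, fun h => ⟨h, hsymm _ _ h⟩⟩
      rw [this, hreg, hdone]
    · rw [hfr u v huv, Nat.cast_one]
  have hAJ : A * J = J := by
    ext u v
    rw [Matrix.mul_apply]
    have h1 : ∀ w, A u w * J w v = if adj u w then (1 : ZMod ℓ) else 0 := by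
      intro w
      simp only [A, J, Matrix.of_apply, mul_one]
    rw [Finset.sum_congr rfl (fun w _ => h1 w), Finset.sum_boole, hreg, hdone]
    rfl
  have hpow : ∀ n : ℕ, A ^ (n + 2) = J := by
    intro n
    induction n with
    | zero => rw [zero_add, pow_two, hAA]
    | succ n ih => rw [show n + 1 + 2 = (n + 2) + 1 by ring, pow_succ', ih, hAJ]
  have hJJ : J * J = (Fintype.card V : ZMod ℓ) • J := by
    ext u v
    rw [Matrix.mul_apply]
    simp only [J, Matrix.of_apply, mul_one, Finset.sum_const, Finset.card_univ, Matrix.smul_apply,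
      nsmul_eq_mul, smul_eq_mul]
  have hcard : (Fintype.card V : ZMod ℓ) = 1 := by
    have h1 : J * J = J := by
      calc J * J = (A * A) * J := by rw [hAA]
        _ = A * (A * J) := Matrix.mul_assoc _ _ _
        _ = J := by rw [hAJ, hAJ]
    rw [hJJ] at h1
    obtain ⟨v⟩ : Nonempty V := inferInstance
    have := congrFun (congrFun h1 v) v
    simpa [J] using this
  have htrJ : Matrix.trace J = 1 := by
    rw [Matrix.trace]
    simp only [J, Matrix.diag_apply, Matrix.of_apply, Finset.sum_const, Finset.card_univ,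
      nsmul_eq_mul, mul_one]
    exact hcard
  have htrA : Matrix.trace A = 0 := by
    rw [Matrix.trace]
    apply Finset.sum_eq_zero
    intro v _
    simp only [A, Matrix.diag_apply, Matrix.of_apply, hirr v, if_false]
  have hℓ2 : 2 ≤ ℓ := (Nat.minFac_prime hd1).two_le
  have hpow' : ∀ n : ℕ, 2 ≤ n → A ^ n = J := by
    intro n hn
    obtain ⟨m, rfl⟩ := Nat.exists_eq_add_of_le' hn
    exact hpow m
  have h1 := ZMod.trace_pow_card A
  rw [hpow' ℓ hℓ2, htrJ, htrA, zero_pow (by omega)] at h1
  exact one_ne_zero h1

end Cfsg.Agent.Lib.Helper7.Friend
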