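import Mathlib
import Cfsg.Agent.Lib.Helper7.Friend1
import Cfsg.Agent.Lib.Helper7.CycAb12

set_option autoImplicit false

/-!
# Groups whose commuting graph of involutions would be a regular friendship graph
-/

namespace Cfsg.Agent.Lib.Helper7.Friend

universe u

open Cfsg.Agent.Lib.Helper7.CycAb

/-- the data producing a regular friendship graph on the involutions of `G` -/
structure FrData (G : Type u) [Group G] : Prop where
  hab : ∀ H : Subgroup G, ¬ 3 ∣ Nat.card H → IsMulCommutative H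
  I2 : ∀ w : G, orderOf w = 3 → ∃ r : G, r ^ 2 = 1 ∧ r ≠ 1 ∧ r * w = w * r ∧
    (∀ r' : G, r' ^ 2 = 1 → r' ≠ 1 → r' * w = w * r' → r' = r) ∧
    (∀ s : G, s * w * s⁻¹ = w⁻¹ → s * r = r * s)
  I3 : ∀ r s t : G, r ^ 2 = 1 → r ≠ 1 → s ^ 2 = 1 → s ≠ 1 → t ^ 2 = 1 → t ≠ 1 → s ≠ t →
    s * t = t * s → r ≠ s → r ≠ t → r * s = s * r → r * t = t * r → r = s * t
  I4 : ∀ s t : G, s ^ 2 = 1 → s ≠ 1 → t ^ 2 = 1 → t ≠ 1 → ∃ h : G, t = h * s * h⁻¹
  I5 : ∃ k t₁ t₂ t₃ : G, k ^ 2 = 1 ∧ k ≠ 1 ∧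
    (t₁ ^ 2 = 1 ∧ t₁ ≠ 1 ∧ t₁ ≠ k ∧ t₁ * k = k * t₁) ∧
    (t₂ ^ 2 = 1 ∧ t₂ ≠ 1 ∧ t₂ ≠ k ∧ t₂ * k = k * t₂) ∧
    (t₃ ^ 2 = 1 ∧ t₃ ≠ 1 ∧ t₃ ≠ k ∧ t₃ * k = k * t₃) ∧ t₁ ≠ t₂ ∧ t₁ ≠ t₃ ∧ t₂ ≠ t₃

variable {G : Type u} [Group G]

theorem inv_eq_self_of_sq {s : G} (hs : s ^ 2 = 1) : s⁻¹ = s := by
  rw [pow_two] at hs
  exact (eq_inv_of_mul_eq_one_left hs).symm

theorem conj_mul_of_sq {s t : G} (hs : s ^ 2 = 1) (ht : t ^ 2 = 1) :
    s * (s * t) * s⁻¹ = (s * t)⁻¹ := by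
  rw [mul_inv_rev, inv_eq_self_of_sq hs, inv_eq_self_of_sq ht, ← mul_assoc, ← pow_two, hs, one_mul]

theorem conj_mul_of_sq' {s t : G} (hs : s ^ 2 = 1) (ht : t ^ 2 = 1) :
    t * (s * t) * t⁻¹ = (s * t)⁻¹ := by
  rw [mul_inv_rev, inv_eq_self_of_sq hs, inv_eq_self_of_sq ht, mul_assoc, mul_assoc, ← pow_two, ht,
    mul_one]

theorem conj_pow_of_inv {s x : G} (h : s * x * s⁻¹ = x⁻¹) (m : ℕ) :
    s * x ^ m * s⁻¹ = (x ^ m)⁻¹ := by
  rw [← conj_pow, h, inv_pow]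

/-- two non-commuting involutions have a product of order divisible by `3` -/
theorem FrData.three_dvd [Finite G] (h : FrData G) {s t : G} (hs : s ^ 2 = 1) (ht : t ^ 2 = 1)
    (hne : s * t ≠ t * s) : 3 ∣ orderOf (s * t) := by
  by_contra h3
  have hsN : s ∈ Subgroup.normalizer ((Subgroup.zpowers (s * t) : Subgroup G) : Set G) := by
    apply mem_normalizer_of_conj_mem
    intro x hx
    obtain ⟨i, rfl⟩ := Subgroup.mem_zpowers_iff.mp hx
    have : s * (s * t) ^ i * s⁻¹ = ((s * t)⁻¹) ^ i := by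
      rw [← conj_mul_of_sq hs ht, conj_zpow]
    rw [this]
    exact Subgroup.zpow_mem _ (Subgroup.inv_mem _ (Subgroup.mem_zpowers _)) i
  have hLE : Subgroup.zpowers s ≤
      Subgroup.normalizer ((Subgroup.zpowers (s * t) : Subgroup G) : Set G) :=
    Subgroup.zpowers_le.mpr hsN
  have hN : ¬ 3 ∣ Nat.card (Subgroup.zpowers (s * t)) := by rwa [Nat.card_zpowers]
  have hH : ¬ 3 ∣ Nat.card (Subgroup.zpowers s) := by
    rw [Nat.card_zpowers]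
    intro h1
    have h2 : orderOf s ∣ 2 := orderOf_dvd_of_pow_eq_one hs
    have := Nat.le_of_dvd (by norm_num) (h1.trans h2)
    omega
  have hc := h.hab _ (not_dvd_card_sup (p := 3) _ _ hLE hN hH)
  have h1 : s * (s * t) = (s * t) * s :=
    comm_of hc (Subgroup.mem_sup_left (Subgroup.mem_zpowers s))
      (Subgroup.mem_sup_right (Subgroup.mem_zpowers (s * t)))
  apply hne
  rw [mul_assoc] at h1
  exact mul_left_cancel h1

/-- the involutions of `G` -/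
abbrev Inv (G : Type u) [Group G] : Type u := {s : G // s ^ 2 = 1 ∧ s ≠ 1}

/-- adjacency: distinct commuting involutions -/
def adj (s t : Inv G) : Prop := s ≠ t ∧ s.1 * t.1 = t.1 * s.1

theorem adj_symm (s t : Inv G) (h : adj s t) : adj t s := ⟨h.1.symm, h.2.symm⟩

theorem adj_irrefl (s : Inv G) : ¬ adj s s := fun h => h.1 rfl

/-- conjugation on the involutions -/
def conjV (h : G) : Inv G ≃ Inv G where
  toFun s := ⟨h * s.1 * h⁻¹, by rw [conj_pow, s.2.1, mul_one, mul_inv_cancel], by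
    intro h0
    apply s.2.2
    have : s.1 = h⁻¹ * (h * s.1 * h⁻¹) * h := by group
    rw [this, h0, mul_one, inv_mul_cancel]⟩
  invFun s := ⟨h⁻¹ * s.1 * h, by
    have : h⁻¹ * s.1 * h = h⁻¹ * s.1 * h⁻¹⁻¹ := by rw [inv_inv]
    rw [this, conj_pow, s.2.1, mul_one, mul_inv_cancel], by
    intro h0
    apply s.2.2
    have : s.1 = h * (h⁻¹ * s.1 * h) * h⁻¹ := by group
    rw [this, h0, mul_one, mul_inv_cancel]⟩
  left_inv s := by
    apply Subtype.ext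
    show h⁻¹ * (h * s.1 * h⁻¹) * h = s.1
    group
  right_inv s := by
    apply Subtype.ext
    show h * (h⁻¹ * s.1 * h) * h⁻¹ = s.1
    group

theorem coe_conjV (h : G) (s : Inv G) : (conjV h s).1 = h * s.1 * h⁻¹ := rfl

theorem adj_conjV (h : G) (s t : Inv G) : adj (conjV h s) (conjV h t) ↔ adj s t := by
  unfold adj
  rw [(conjV h).injective.ne_iff, coe_conjV, coe_conjV]
  constructor
  · rintro ⟨h1, h2⟩
    refine ⟨h1, ?_⟩
    have e1 : s.1 * t.1 = h⁻¹ * (h * s.1 * h⁻¹ * (h * t.1 * h⁻¹)) * h := by group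
    have e2 : t.1 * s.1 = h⁻¹ * (h * t.1 * h⁻¹ * (h * s.1 * h⁻¹)) * h := by group
    rw [e1, e2, h2]
  · rintro ⟨h1, h2⟩
    refine ⟨h1, ?_⟩
    have e1 : h * s.1 * h⁻¹ * (h * t.1 * h⁻¹) = h * (s.1 * t.1) * h⁻¹ := by group
    have e2 : h * t.1 * h⁻¹ * (h * s.1 * h⁻¹) = h * (t.1 * s.1) * h⁻¹ := by group
    rw [e1, e2, h2]

end Cfsg.Agent.Lib.Helper7.Friend
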