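import Mathlib
import Cfsg.Agent.Lib.Helper7.Friend2

set_option autoImplicit false

/-!
# `FrData` is contradictory
-/

namespace Cfsg.Agent.Lib.Helper7.Friend

universe u

variable {G : Type u} [Group G]

theorem FrData.exists_common [Finite G] (h : FrData G) (u v : Inv G) (huv : u ≠ v) :
    ∃ r : Inv G, ∀ w : Inv G, (adj u w ∧ adj w v) ↔ w = r := by
  have huv' : u.1 ≠ v.1 := fun h0 => huv (Subtype.ext h0)
  by_cases hc : u.1 * v.1 = v.1 * u.1
  · have hcomm : Commute u.1 v.1 := hc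
    have hr2 : (u.1 * v.1) ^ 2 = 1 := by rw [hcomm.mul_pow, u.2.1, v.2.1, mul_one]
    have hr1 : u.1 * v.1 ≠ 1 := by
      intro h0
      apply huv'
      have := eq_inv_of_mul_eq_one_left h0
      rwa [inv_eq_self_of_sq v.2.1] at this
    refine ⟨⟨u.1 * v.1, hr2, hr1⟩, fun w => ⟨?_, ?_⟩⟩
    · rintro ⟨⟨h1, h2⟩, ⟨h3, h4⟩⟩
      apply Subtype.ext
      exact h.I3 w.1 u.1 v.1 w.2.1 w.2.2 u.2.1 u.2.2 v.2.1 v.2.2 huv' hc
        (fun h0 => h1 (Subtype.ext h0.symm)) (fun h0 => h3 (Subtype.ext h0)) h2.symm h4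
    · rintro rfl
      refine ⟨⟨?_, ?_⟩, ⟨?_, ?_⟩⟩
      · intro h0
        have h1 : u.1 = u.1 * v.1 := congrArg Subtype.val h0
        exact v.2.2 (by simpa using h1.symm)
      · show u.1 * (u.1 * v.1) = u.1 * v.1 * u.1
        rw [hc, ← mul_assoc, hc]
      · intro h0
        have h1 : u.1 * v.1 = v.1 := congrArg Subtype.val h0
        exact u.2.2 (by simpa using h1)
      · show u.1 * v.1 * v.1 = v.1 * (u.1 * v.1)
        rw [← mul_assoc, hc]
  · have h3 := h.three_dvd u.2.1 v.2.1 hc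
    have ho : orderOf ((u.1 * v.1) ^ (orderOf (u.1 * v.1) / 3)) = 3 :=
      orderOf_pow_orderOf_div (orderOf_pos _).ne' h3
    set w₀ := (u.1 * v.1) ^ (orderOf (u.1 * v.1) / 3) with hw₀
    have hu : u.1 * w₀ * u.1⁻¹ = w₀⁻¹ := conj_pow_of_inv (conj_mul_of_sq u.2.1 v.2.1) _
    have hv : v.1 * w₀ * v.1⁻¹ = w₀⁻¹ := conj_pow_of_inv (conj_mul_of_sq' u.2.1 v.2.1) _
    obtain ⟨r, hr2, hr1, hrw, huniq, hinv⟩ := h.I2 w₀ ho
    have hne : ∀ s : G, s * w₀ * s⁻¹ = w₀⁻¹ → s ≠ r := by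
      rintro s hs rfl
      have h1 : s * w₀ * s⁻¹ = w₀ := by rw [hrw, mul_inv_cancel_right]
      rw [h1] at hs
      have h2 : w₀ ^ 2 = 1 := by
        rw [pow_two]
        nth_rewrite 1 [hs]
        exact inv_mul_cancel _
      have h4 := orderOf_dvd_of_pow_eq_one h2
      rw [ho] at h4
      omega
    refine ⟨⟨r, hr2, hr1⟩, fun w => ⟨?_, ?_⟩⟩
    · rintro ⟨⟨h1, h2⟩, ⟨h3, h4⟩⟩
      apply Subtype.ext
      apply huniq w.1 w.2.1 w.2.2
      have c1 : Commute w.1 u.1 := h2.symm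
      have c2 : Commute w.1 v.1 := h4
      exact ((c1.mul_right c2).pow_right _).eq
    · rintro rfl
      refine ⟨⟨?_, ?_⟩, ⟨?_, ?_⟩⟩
      · intro h0
        exact hne u.1 hu (congrArg Subtype.val h0)
      · exact hinv u.1 hu
      · intro h0
        exact hne v.1 hv (congrArg Subtype.val h0).symm
      · exact (hinv v.1 hv).symm

theorem FrData.false [Finite G] (h : FrData G) : False := by
  classical
  obtain ⟨k, t₁, t₂, t₃, hk2, hk1, ⟨a1, a2, a3, a4⟩, ⟨b1, b2, b3, b4⟩, ⟨c1, c2, c3, c4⟩, h12, h13,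
    h23⟩ := h.I5
  haveI : Fintype (Inv G) := by
    unfold Inv
    exact Fintype.ofFinite _
  haveI : Nonempty (Inv G) := ⟨⟨k, hk2, hk1⟩⟩
  apply friendship_false (V := Inv G) adj adj_symm adj_irrefl
    (Finset.univ.filter (fun w => adj (⟨k, hk2, hk1⟩ : Inv G) w)).card
  · intro v
    obtain ⟨g, hg⟩ := h.I4 k v.1 hk2 hk1 v.2.1 v.2.2
    have hv : v = conjV g ⟨k, hk2, hk1⟩ := Subtype.ext hg
    rw [hv]
    symm
    apply Finset.card_equiv (conjV g)
    intro i
    simp only [Finset.mem_filter, Finset.mem_univ, true_and]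
    exact (adj_conjV g _ i).symm
  · intro u v huv
    obtain ⟨r, hr⟩ := h.exists_common u v huv
    rw [Finset.card_eq_one]
    refine ⟨r, ?_⟩
    ext w
    simp only [Finset.mem_filter, Finset.mem_univ, true_and, Finset.mem_singleton]
    exact hr w
  · have hsub : ({(⟨t₁, a1, a2⟩ : Inv G), ⟨t₂, b1, b2⟩, ⟨t₃, c1, c2⟩} : Finset (Inv G)) ⊆
        Finset.univ.filter (fun w => adj (⟨k, hk2, hk1⟩ : Inv G) w) := by
      intro w hw
      simp only [Finset.mem_insert, Finset.mem_singleton] at hw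
      simp only [Finset.mem_filter, Finset.mem_univ, true_and]
      rcases hw with rfl | rfl | rfl
      · exact ⟨fun h0 => a3 (congrArg Subtype.val h0).symm, a4.symm⟩
      · exact ⟨fun h0 => b3 (congrArg Subtype.val h0).symm, b4.symm⟩
      · exact ⟨fun h0 => c3 (congrArg Subtype.val h0).symm, c4.symm⟩
    have hcard : ({(⟨t₁, a1, a2⟩ : Inv G), ⟨t₂, b1, b2⟩, ⟨t₃, c1, c2⟩} : Finset (Inv G)).card = 3 := by
      rw [Finset.card_eq_three]
      exact ⟨_, _, _, fun h0 => h12 (congrArg Subtype.val h0),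
        fun h0 => h13 (congrArg Subtype.val h0), fun h0 => h23 (congrArg Subtype.val h0), rfl⟩
    rw [← hcard]
    exact Finset.card_le_card hsub

end Cfsg.Agent.Lib.Helper7.Friend
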