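import Mathlib
import Cfsg.Agent.Lib.Helper7.CycAb15
import Cfsg.Agent.Lib.Helper7.Friend3

set_option autoImplicit false

/-!
# Case E with `(p, q) = (3, 2)`: the friendship data, and the end of Case E
-/

namespace Cfsg.Agent.Lib.Helper7.CycAb

universe u

open Cfsg.Agent.Lib.Helper7.Friend

variable {G : Type u} [Group G]

theorem conj_comm_iff (h a b : G) :
    (h * a * h⁻¹) * (h * b * h⁻¹) = (h * b * h⁻¹) * (h * a * h⁻¹) ↔ a * b = b * a := by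
  constructor
  · intro h2
    have e1 : a * b = h⁻¹ * (h * a * h⁻¹ * (h * b * h⁻¹)) * h := by group
    have e2 : b * a = h⁻¹ * (h * b * h⁻¹ * (h * a * h⁻¹)) * h := by group
    rw [e1, e2, h2]
  · intro h2
    have e1 : h * a * h⁻¹ * (h * b * h⁻¹) = h * (a * b) * h⁻¹ := by group
    have e2 : h * b * h⁻¹ * (h * a * h⁻¹) = h * (b * a) * h⁻¹ := by group
    rw [e1, e2, h2]

theorem conj_eq_one_iff (h a : G) : h * a * h⁻¹ = 1 ↔ a = 1 := by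
  constructor
  · intro h0
    have : a = h⁻¹ * (h * a * h⁻¹) * h := by group
    rw [this, h0, mul_one, inv_mul_cancel]
  · rintro rfl; simp

theorem conj_inv_conj (h a : G) : a = h * (h⁻¹ * a * h) * h⁻¹ := by group

theorem inv_conj_sq {h a : G} (ha : a ^ 2 = 1) : (h⁻¹ * a * h) ^ 2 = 1 := by
  have : h⁻¹ * a * h = h⁻¹ * a * h⁻¹⁻¹ := by rw [inv_inv]
  rw [this, conj_pow, ha, mul_one, inv_inv, inv_mul_cancel]

theorem inv_conj_ne_one {h a : G} (ha : a ≠ 1) : h⁻¹ * a * h ≠ 1 := by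
  intro h0
  apply ha
  rw [conj_inv_conj h a, h0, mul_one, mul_inv_cancel]

variable [Finite G] {p : ℕ} [hp : Fact p.Prime]

namespace Ctx3

include hp in
theorem I2 (d : Ctx3 p G) (hcon : ¬ Concl p G) (hp3 : p = 3) (hq2 : d.q = 2) (w : G)
    (ho : orderOf w = 3) : ∃ r : G, r ^ 2 = 1 ∧ r ≠ 1 ∧ r * w = w * r ∧
      (∀ r' : G, r' ^ 2 = 1 → r' ≠ 1 → r' * w = w * r' → r' = r) ∧
      (∀ s : G, s * w * s⁻¹ = w⁻¹ → s * r = r * s) := by
  obtain ⟨h, hh⟩ := exists_conj_mem_sylow d.c.P (y := w) ⟨1, by rw [pow_one, ho]; exact hp3.symm⟩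
  have hw : w = h * (h⁻¹ * w * h) * h⁻¹ := conj_inv_conj h w
  have hoz : orderOf (h⁻¹ * w * h) = 3 := by
    have := orderOf_conj' h⁻¹ w
    rw [inv_inv] at this
    rw [this, ho]
  set z' := h⁻¹ * w * h with hz'
  have hz'1 : z' ≠ 1 := by
    intro h0
    rw [h0, orderOf_one] at hoz
    omega
  have hz'3 : z' ^ 3 = 1 := by rw [← hoz]; exact pow_orderOf_eq_one _
  have hz'Z : z' ∈ d.c.Z := by
    apply d.c.toCtx.hZmem z' hh
    rw [show p = 3 from hp3]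
    exact hz'3
  have hκz : z' * d.κ = d.κ * z' := Subgroup.mem_centralizer_iff.mp d.hκ.1 z' hz'Z
  refine ⟨h * d.κ * h⁻¹, ?_, ?_, ?_, ?_, ?_⟩
  · rw [conj_pow, d.κ_sq hq2, mul_one, mul_inv_cancel]
  · rw [Ne, conj_eq_one_iff]; exact d.κ_ne_one
  · rw [hw, conj_comm_iff]; exact hκz.symm
  · intro r' hr2 hr1 hc
    rw [conj_inv_conj h r', hw, conj_comm_iff] at hc
    have h1 : h⁻¹ * r' * h ∈ Subgroup.centralizer (d.c.Z : Set G) :=
      d.c.toCtx.cent_le hh hz'1 hc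
    have h2 := d.invol_centZ hcon hp3 hq2 (inv_conj_sq hr2) (inv_conj_ne_one hr1) h1
    rw [conj_inv_conj h r', h2]
  · intro s hs
    rw [conj_inv_conj h s, conj_comm_iff]
    have h1 : (h⁻¹ * s * h) * z' * (h⁻¹ * s * h)⁻¹ = z'⁻¹ := by
      have e1 : (h⁻¹ * s * h) * z' * (h⁻¹ * s * h)⁻¹ = h⁻¹ * (s * (h * z' * h⁻¹) * s⁻¹) * h := by
        group
      rw [e1, ← hw, hs, hw]
      group
    have h2 : h⁻¹ * s * h ∈ Subgroup.normalizer (d.c.Z : Set G) := by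
      apply mem_normalizer_of_conj_mem
      intro x hx
      obtain ⟨i, rfl⟩ := Subgroup.mem_zpowers_iff.mp (d.c.toCtx.hZle z' hh hz'1 hx)
      rw [← conj_zpow, h1]
      exact Subgroup.zpow_mem _ (Subgroup.inv_mem _ hz'Z) i
    rw [d.c.hNZ] at h2
    exact d.c.normalizer_comm h2 d.hκ

include hp in
theorem I3 (d : Ctx3 p G) (hcon : ¬ Concl p G) (hp3 : p = 3) (hq2 : d.q = 2) (r s t : G)
    (hr2 : r ^ 2 = 1) (hr1 : r ≠ 1) (hs2 : s ^ 2 = 1) (hs1 : s ≠ 1) (ht2 : t ^ 2 = 1)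
    (ht1 : t ≠ 1) (hst : s ≠ t) (hc : s * t = t * s) (hrs : r ≠ s) (hrt : r ≠ t)
    (hcs : r * s = s * r) (hct : r * t = t * r) : r = s * t := by
  obtain ⟨h, hr⟩ := d.invol_conj hp3 hq2 hr2 hr1
  rw [hr, conj_inv_conj h s, conj_comm_iff] at hcs
  rw [hr, conj_inv_conj h t, conj_comm_iff] at hct
  rw [conj_inv_conj h s, conj_inv_conj h t, conj_comm_iff] at hc
  have key : ∀ x : G, x ^ 2 = 1 → x ≠ 1 → r ≠ x → d.κ * (h⁻¹ * x * h) = (h⁻¹ * x * h) * d.κ →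
      h⁻¹ * x * h ∈ Subgroup.normalizer ((d.c.P : Subgroup G) : Set G) ∧
        h⁻¹ * x * h ∉ Subgroup.centralizer (d.c.Z : Set G) := by
    intro x hx2 hx1 hrx hcx
    refine ⟨d.c.cent_le_normalizer d.hκ d.κ_ne_one hcx.symm, ?_⟩
    intro hX
    have := d.invol_centZ hcon hp3 hq2 (inv_conj_sq hx2) (inv_conj_ne_one hx1) hX
    apply hrx
    rw [hr, conj_inv_conj h x, this]
  obtain ⟨hsN, hsX⟩ := key s hs2 hs1 hrs hcs
  obtain ⟨htN, htX⟩ := key t ht2 ht1 hrt hct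
  have h1 := d.mul_mem_centZ hp3 hsN hsX htN htX
  have hcomm : Commute (h⁻¹ * s * h) (h⁻¹ * t * h) := hc
  have h2 : ((h⁻¹ * s * h) * (h⁻¹ * t * h)) ^ 2 = 1 := by
    rw [hcomm.mul_pow, inv_conj_sq hs2, inv_conj_sq ht2, mul_one]
  have h3 : (h⁻¹ * s * h) * (h⁻¹ * t * h) ≠ 1 := by
    intro h0
    apply hst
    have h4 : h⁻¹ * s * h = (h⁻¹ * t * h)⁻¹ := eq_inv_of_mul_eq_one_left h0
    rw [inv_eq_self_of_sq (inv_conj_sq ht2)] at h4
    rw [conj_inv_conj h s, h4]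
    group
  have h4 := d.invol_centZ hcon hp3 hq2 h2 h3 h1
  rw [hr, ← h4]
  group

include hp in
theorem I4 (d : Ctx3 p G) (hp3 : p = 3) (hq2 : d.q = 2) (s t : G)
    (hs2 : s ^ 2 = 1) (hs1 : s ≠ 1) (ht2 : t ^ 2 = 1) (ht1 : t ≠ 1) :
    ∃ h : G, t = h * s * h⁻¹ := by
  obtain ⟨a, ha⟩ := d.invol_conj hp3 hq2 hs2 hs1
  obtain ⟨b, hb⟩ := d.invol_conj hp3 hq2 ht2 ht1
  refine ⟨b * a⁻¹, ?_⟩
  rw [ha, hb]
  group

include hp in
theorem I5 (d : Ctx3 p G) (hp3 : p = 3) (hq2 : d.q = 2) :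
    ∃ k t₁ t₂ t₃ : G, k ^ 2 = 1 ∧ k ≠ 1 ∧
      (t₁ ^ 2 = 1 ∧ t₁ ≠ 1 ∧ t₁ ≠ k ∧ t₁ * k = k * t₁) ∧
      (t₂ ^ 2 = 1 ∧ t₂ ≠ 1 ∧ t₂ ≠ k ∧ t₂ * k = k * t₂) ∧
      (t₃ ^ 2 = 1 ∧ t₃ ≠ 1 ∧ t₃ ≠ k ∧ t₃ * k = k * t₃) ∧ t₁ ≠ t₂ ∧ t₁ ≠ t₃ ∧ t₂ ≠ t₃ := by
  obtain ⟨z, hz, hz1⟩ := d.c.toCtx.exists_z
  have hn1 : ¬ p ∣ 1 := by rw [hp3]; decide
  set t := d.y * d.κ * d.y⁻¹ with ht
  have ht2 : t ^ 2 = 1 := by rw [ht, conj_pow, d.κ_sq hq2, mul_one, mul_inv_cancel]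
  have htt : t * t = 1 := by rw [← pow_two]; exact ht2
  have htQ : t ∈ (d.Q : Subgroup G) := (Subgroup.mem_normalizer_iff.mp d.hyQ _).mp d.hκQ
  have htN : t ∈ Subgroup.normalizer ((d.c.P : Subgroup G) : Set G) := d.hQN htQ
  have htX : t ∉ Subgroup.centralizer (d.c.Z : Set G) := by
    intro h
    apply d.κ_ne_one
    apply d.inj hn1 d.hκQ d.hκ.1
    rw [pow_one]
    exact h
  have htκ : t * d.κ = d.κ * t := d.c.normalizer_comm htN d.hκ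
  have hzX : z ∈ Subgroup.centralizer (d.c.Z : Set G) := d.c.toCtx.P_le_centZ (d.c.hZP hz)
  have hz3 : z ^ 3 = 1 := by
    have := d.c.toCtx.pow_p_eq_one hz
    rwa [hp3] at this
  have hzz : z ≠ z⁻¹ := by
    intro h
    apply hz1
    have h2 : z ^ 2 = 1 := by
      rw [pow_two]
      nth_rewrite 1 [h]
      exact inv_mul_cancel _
    have : z = z ^ 3 * (z ^ 2)⁻¹ := by group
    rw [this, hz3, h2]; simp
  have gen : ∀ x ∈ d.c.Z, (t * x) ^ 2 = 1 ∧ t * x ≠ 1 ∧ t * x ≠ d.κ ∧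
      (t * x) * d.κ = d.κ * (t * x) := by
    intro x hx
    have hxX : x ∈ Subgroup.centralizer (d.c.Z : Set G) := d.c.toCtx.P_le_centZ (d.c.hZP hx)
    have hinv := d.inverts hp3 htN htX hx
    have hnX : t * x ∉ Subgroup.centralizer (d.c.Z : Set G) := by
      intro h
      apply htX
      have : t = (t * x) * x⁻¹ := by group
      rw [this]
      exact Subgroup.mul_mem _ h (Subgroup.inv_mem _ hxX)
    have hxκ : x * d.κ = d.κ * x := Subgroup.mem_centralizer_iff.mp d.hκ.1 x hx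
    refine ⟨?_, ?_, ?_, ?_⟩
    · have e : (t * x) ^ 2 = (t * x * t⁻¹) * (t * t) * x := by rw [pow_two]; group
      rw [e, hinv, htt, mul_one, inv_mul_cancel]
    · intro h; apply hnX; rw [h]; exact Subgroup.one_mem _
    · intro h; apply hnX; rw [h]; exact d.hκ.1
    · rw [mul_assoc, hxκ, ← mul_assoc, htκ, mul_assoc]
  have g1 := gen 1 (Subgroup.one_mem _)
  rw [mul_one] at g1
  have g2 := gen z hz
  have g3 := gen z⁻¹ (Subgroup.inv_mem _ hz)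
  refine ⟨d.κ, t, t * z, t * z⁻¹, d.κ_sq hq2, d.κ_ne_one, g1, g2, g3, ?_, ?_, ?_⟩
  · intro h
    apply hz1
    have : t * 1 = t * z := by rw [mul_one]; exact h
    exact (mul_left_cancel this).symm
  · intro h
    apply hz1
    have : t * 1 = t * z⁻¹ := by rw [mul_one]; exact h
    have := mul_left_cancel this
    rw [eq_comm, inv_eq_one] at this
    exact this
  · intro h
    exact hzz (mul_left_cancel h)

include hp in
theorem frData (d : Ctx3 p G) (hcon : ¬ Concl p G) (hp3 : p = 3) (hq2 : d.q = 2) : FrData G where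
  hab := fun H hH => d.c.hyp.2 H (by rw [hp3]; exact hH)
  I2 := d.I2 hcon hp3 hq2
  I3 := d.I3 hcon hp3 hq2
  I4 := d.I4 hp3 hq2
  I5 := d.I5 hp3 hq2

end Ctx3

namespace Ctx2

include hp in
/-- Case E: a nontrivial `p'`-element in `C_G(Z)` -/
theorem caseE (c : Ctx2 p G) {x : G} (hx : c.IsK x) (hx1 : x ≠ 1) : Concl p G := by
  by_contra hcon
  have ho : orderOf x ≠ 1 := by rwa [Ne, orderOf_eq_one_iff]
  obtain ⟨r, hr, hdvd⟩ := Nat.exists_prime_and_dvd ho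
  obtain ⟨d, hd, rfl⟩ := c.exists_ctx3 hcon hx hr hdvd
  obtain ⟨hp3, hq2⟩ := d.p_q
  exact (d.frData hcon hp3 hq2).false

end Ctx2

end Cfsg.Agent.Lib.Helper7.CycAb
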