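import Mathlib
import Cfsg.Agent.Lib.Helper7.CycAb16

set_option autoImplicit false

/-!
# Cyclic Sylow `p`-subgroups and abelian `p'`-subgroups: the main theorem
-/

namespace Cfsg.Agent.Lib.Helper7.CycAb

universe u

theorem main_aux : ∀ n : ℕ, ∀ (G : Type u) [Group G] [Finite G], Nat.card G = n →
    ∀ (p : ℕ) [Fact p.Prime], Hyp p G → Concl p G := by
  intro n
  induction n using Nat.strong_induction_on with
  | _ n ih =>
    intro G _ _ hn p hp hyp
    by_cases hA : ∃ N : Subgroup G, N.Normal ∧ ¬ p ∣ Nat.card N ∧ N ≠ ⊥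
    · obtain ⟨N, hNn, hNp, hNb⟩ := hA
      haveI := hNn
      apply stepA hyp N hNp
      apply ih (Nat.card (G ⧸ N)) _ (G ⧸ N) rfl p (hyp.quotient N hNp)
      rw [← hn, ← Subgroup.index_eq_card, ← Subgroup.card_mul_index N]
      have h1 : 1 < Nat.card N := by
        rw [Subgroup.one_lt_card_iff_ne_bot]; exact hNb
      have h2 : 0 < N.index := Nat.pos_of_ne_zero Subgroup.index_ne_zero_of_finite
      nlinarith
    · push Not at hA
      have H1 : ∀ N : Subgroup G, N.Normal → ¬ p ∣ Nat.card N → N = ⊥ := hA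
      have IHs : ∀ X : Subgroup G, X ≠ ⊤ → Concl p X := by
        intro X hX
        apply ih (Nat.card X) _ X rfl p (hyp.subgroup X)
        rw [← hn]
        apply lt_of_le_of_ne (Subgroup.card_le_card_group X)
        intro h
        exact hX (Subgroup.eq_top_of_card_eq X h)
      obtain ⟨P⟩ : Nonempty (Sylow p G) := inferInstance
      by_cases hPb : (P : Subgroup G) = ⊥
      · apply concl_of_normal P
        rw [hPb]
        infer_instance
      obtain ⟨Z, hZP, hZcard, hZle, hZmem⟩ := exists_omega (hyp.1 P) P.isPGroup' hPb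
      let c : Ctx p G := ⟨hyp, IHs, H1, P, Z, hZP, hZcard, hZle, hZmem⟩
      rcases c.stepB with h | ⟨hNZ, g₀, hg₀N, hg₀cop, hg₀C⟩
      · exact h
      let c2 : Ctx2 p G := ⟨c, hNZ, g₀, hg₀N, hg₀cop, hg₀C⟩
      by_cases hK : ∀ x ∈ Subgroup.centralizer (c2.Z : Set G), (orderOf x).Coprime p → x = 1
      · exact c2.caseD hK
      · push Not at hK
        obtain ⟨x, hxX, hxcop, hx1⟩ := hK
        exact c2.caseE ⟨hxX, hxcop⟩ hx1

/-- the main theorem -/
theorem main {G : Type u} [Group G] [Finite G] {p : ℕ} [Fact p.Prime] (hyp : Hyp p G) :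
    Concl p G :=
  main_aux (Nat.card G) G rfl p hyp

end Cfsg.Agent.Lib.Helper7.CycAb
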