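import Mathlib

set_option autoImplicit false

/-! Elementary lemmas for the theorem "a cyclic normal subgroup of a Sylow `p`-subgroup of a
`p`-soluble group lies in `O_{p',p}`" (S3788): conjugation-power formulas and stability groups. -/

namespace Cfsg.Agent.Lib.Helper7.CycNorm

variable {G : Type*} [Group G]

/-- if `h` commutes with `u = [h, v]`, then `h^n v h^-n = u^n v` -/
theorem conj_pow_formula (h v : G)
    (hu : h * (h * v * h⁻¹ * v⁻¹) = (h * v * h⁻¹ * v⁻¹) * h) (n : ℕ) :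
    h ^ n * v * (h ^ n)⁻¹ = (h * v * h⁻¹ * v⁻¹) ^ n * v := by
  induction n with
  | zero => simp
  | succ n ih =>
    obtain ⟨u, hudef⟩ : ∃ u, u = h * v * h⁻¹ * v⁻¹ := ⟨_, rfl⟩
    rw [← hudef] at ih hu ⊢
    have h1 : h ^ (n + 1) * v * (h ^ (n + 1))⁻¹ = h * (h ^ n * v * (h ^ n)⁻¹) * h⁻¹ := by
      rw [pow_succ']; group
    rw [h1, ih]
    have h2 : h * u ^ n = u ^ n * h := (Commute.pow_right (show Commute h u from hu) n).eq
    have h3 : h * v * h⁻¹ = u * v := by rw [hudef]; group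
    calc h * (u ^ n * v) * h⁻¹ = (h * u ^ n) * v * h⁻¹ := by group
      _ = u ^ n * (h * v * h⁻¹) := by rw [h2]; group
      _ = u ^ (n + 1) * v := by rw [h3, pow_succ]; group

/-- two-step chains: if `h` commutes with `u = [h, v]` and `u^p = 1` then `h^p` commutes with `v` -/
theorem chain2 (h v : G) (p : ℕ)
    (hu : h * (h * v * h⁻¹ * v⁻¹) = (h * v * h⁻¹ * v⁻¹) * h)
    (hup : (h * v * h⁻¹ * v⁻¹) ^ p = 1) : h ^ p * v = v * h ^ p := by
  have := conj_pow_formula h v hu p
  rw [hup, one_mul] at this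
  calc h ^ p * v = (h ^ p * v * (h ^ p)⁻¹) * h ^ p := by group
    _ = v * h ^ p := by rw [this]

/-- `(v x)^n = c^(n choose 2) v^n x^n` when `c = [x, v]` commutes with `x` and `v` -/
theorem mul_pow_formula (x v c : G) (hc : x * v * x⁻¹ * v⁻¹ = c) (hxc : x * c = c * x)
    (hvc : v * c = c * v) (n : ℕ) :
    (v * x) ^ n = c ^ (n.choose 2) * v ^ n * x ^ n := by
  have hxv : x * v = c * v * x := by rw [← hc]; group
  have hxn : ∀ n : ℕ, x ^ n * v = c ^ n * v * x ^ n := by
    intro n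
    induction n with
    | zero => simp
    | succ n ih =>
      have hxcn : x * c ^ n = c ^ n * x := (Commute.pow_right (show Commute x c from hxc) n).eq
      calc x ^ (n + 1) * v = x * (x ^ n * v) := by rw [pow_succ']; group
        _ = x * (c ^ n * v * x ^ n) := by rw [ih]
        _ = (x * c ^ n) * v * x ^ n := by group
        _ = c ^ n * (x * v) * x ^ n := by rw [hxcn]; group
        _ = c ^ n * (c * v * x) * x ^ n := by rw [hxv]
        _ = c ^ (n + 1) * v * x ^ (n + 1) := by rw [pow_succ, pow_succ' x]; group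
  induction n with
  | zero => simp
  | succ n ih =>
    have hch : (n + 1).choose 2 = n + n.choose 2 := by
      rw [Nat.choose_succ_succ, Nat.choose_one_right]
    have hvcn : ∀ m : ℕ, v ^ m * c ^ n = c ^ n * v ^ m := by
      intro m
      exact ((Commute.pow_right (show Commute v c from hvc) n).pow_left m).eq
    calc (v * x) ^ (n + 1) = (v * x) ^ n * (v * x) := pow_succ _ _
      _ = c ^ (n.choose 2) * v ^ n * x ^ n * (v * x) := by rw [ih]
      _ = c ^ (n.choose 2) * v ^ n * (x ^ n * v) * x := by group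
      _ = c ^ (n.choose 2) * v ^ n * (c ^ n * v * x ^ n) * x := by rw [hxn]
      _ = c ^ (n.choose 2) * (v ^ n * c ^ n) * v * x ^ n * x := by group
      _ = c ^ (n.choose 2) * (c ^ n * v ^ n) * v * x ^ n * x := by rw [hvcn]
      _ = c ^ ((n + 1).choose 2) * v ^ (n + 1) * x ^ (n + 1) := by
        rw [hch, pow_add, pow_succ v, pow_succ x]
        have : c ^ n * c ^ n.choose 2 = c ^ n.choose 2 * c ^ n := by
          rw [← pow_add, ← pow_add, add_comm]
        calc c ^ n.choose 2 * (c ^ n * v ^ n) * v * x ^ n * x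
            = (c ^ n.choose 2 * c ^ n) * v ^ n * v * x ^ n * x := by group
          _ = c ^ n * c ^ n.choose 2 * (v ^ n * v) * (x ^ n * x) := by rw [← this]; group

/-- the elements of `G` acting trivially on `V/W` -/
def stab (V W : Subgroup G) [hV : V.Normal] (hWV : W ≤ V) : Subgroup G where
  carrier := {h | ∀ v ∈ V, h * v * h⁻¹ * v⁻¹ ∈ W}
  one_mem' := by
    intro v _
    simp
  mul_mem' := by
    intro a b ha hb v hv
    have h1 := hb v hv
    have h2 := ha _ (hWV h1)
    have h3 := ha v hv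
    have : a * b * v * (a * b)⁻¹ * v⁻¹ =
        (a * (b * v * b⁻¹ * v⁻¹) * a⁻¹ * (b * v * b⁻¹ * v⁻¹)⁻¹) * (b * v * b⁻¹ * v⁻¹) *
          (a * v * a⁻¹ * v⁻¹) := by group
    rw [this]
    exact W.mul_mem (W.mul_mem h2 h1) h3
  inv_mem' := by
    intro a ha v hv
    have hv' : a⁻¹ * v * a ∈ V := by
      have := hV.conj_mem v hv a⁻¹
      simpa using this
    have h1 := ha _ hv'
    have : a⁻¹ * v * a⁻¹⁻¹ * v⁻¹ = (a * (a⁻¹ * v * a) * a⁻¹ * (a⁻¹ * v * a)⁻¹)⁻¹ := by group
    rw [this]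
    exact W.inv_mem h1

theorem mem_stab {V W : Subgroup G} [V.Normal] (hWV : W ≤ V) (h : G) :
    h ∈ stab V W hWV ↔ ∀ v ∈ V, h * v * h⁻¹ * v⁻¹ ∈ W := Iff.rfl

theorem stab_mono {V W W' : Subgroup G} [V.Normal] (hWV : W ≤ V) (hWV' : W' ≤ V) (hWW' : W ≤ W') :
    stab V W hWV ≤ stab V W' hWV' := by
  intro h hh v hv
  exact hWW' (hh v hv)

/-- an element of the stability group normalizes every subgroup between `W` and `V` -/
theorem conj_mem_of_mem_stab {V W : Subgroup G} [V.Normal] (hWV : W ≤ V) {h : G}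
    (hh : h ∈ stab V W hWV) (W' : Subgroup G) (hWW' : W ≤ W') (hW'V : W' ≤ V) {t : G}
    (ht : t ∈ W') : h * t * h⁻¹ ∈ W' := by
  have h1 := hWW' (hh t (hW'V ht))
  have : h * t * h⁻¹ = (h * t * h⁻¹ * t⁻¹) * t := by group
  rw [this]
  exact W'.mul_mem h1 ht

end Cfsg.Agent.Lib.Helper7.CycNorm
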