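import Mathlib
import Cfsg.Agent.Lib.Helper7.CycNorm1

set_option autoImplicit false

/-! Three-step chains and the "unipotent" case for S3788. -/

namespace Cfsg.Agent.Lib.Helper7.CycNorm

variable {G : Type*} [Group G]

/-- three-step chains: `c` trivial on `W₁`, on `W/W₁` (`W = ⟨S⟩`) and on `V/W` implies `c^(p^2)`
centralizes `V`. -/
theorem chain3 {p : ℕ} (V : Subgroup G) [V.Normal] (hVp : ∀ a ∈ V, a ^ p = 1)
    (hVc : ∀ a ∈ V, ∀ b ∈ V, a * b = b * a) (W₁ : Subgroup G) (hW₁ : W₁ ≤ V) (S : Set G)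
    (hS : S ⊆ V) (c : G) (h1 : ∀ u ∈ W₁, c * u = u * c)
    (h2 : ∀ s ∈ S, c * s * c⁻¹ * s⁻¹ ∈ W₁)
    (h3 : ∀ v ∈ V, c * v * c⁻¹ * v⁻¹ ∈ Subgroup.closure S) :
    ∀ v ∈ V, c ^ (p * p) * v = v * c ^ (p * p) := by
  have hWV : Subgroup.closure S ≤ V := (Subgroup.closure_le V).mpr hS
  -- step 1
  have s1 : ∀ w ∈ Subgroup.closure S, c * w * c⁻¹ * w⁻¹ ∈ W₁ := by
    intro w hw
    induction hw using Subgroup.closure_induction with
    | mem s hs => exact h2 s hs
    | one => simp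
    | mul a b ha hb iha ihb =>
      have haV := hWV ha
      have hbV := hWV hb
      have e : c * (a * b) * c⁻¹ * (a * b)⁻¹ =
          (c * a * c⁻¹ * a⁻¹) * (a * (c * b * c⁻¹ * b⁻¹) * a⁻¹) := by group
      rw [e]
      have e2 : a * (c * b * c⁻¹ * b⁻¹) * a⁻¹ = c * b * c⁻¹ * b⁻¹ := by
        rw [hVc a haV _ (hW₁ ihb)]; group
      rw [e2]
      exact W₁.mul_mem iha ihb
    | inv a ha iha =>
      have haV := hWV ha
      have e : c * a⁻¹ * c⁻¹ * a⁻¹⁻¹ = a⁻¹ * (c * a * c⁻¹ * a⁻¹)⁻¹ * a := by group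
      rw [e, ← hVc _ (hW₁ (W₁.inv_mem iha)) a⁻¹ (V.inv_mem haV)]
      have : (c * a * c⁻¹ * a⁻¹)⁻¹ * a⁻¹ * a = (c * a * c⁻¹ * a⁻¹)⁻¹ := by group
      rw [this]
      exact W₁.inv_mem iha
  -- step 2
  have s2 : ∀ w ∈ Subgroup.closure S, c ^ p * w = w * c ^ p := by
    intro w hw
    apply chain2
    · exact h1 _ (s1 w hw)
    · exact hVp _ (hW₁ (s1 w hw))
  -- step 3
  have s3 : c ^ p ∈ stab V (Subgroup.closure S) hWV :=
    Subgroup.pow_mem _ (show c ∈ stab V (Subgroup.closure S) hWV from h3) p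
  intro v hv
  rw [pow_mul]
  apply chain2
  · exact s2 _ (s3 v hv)
  · exact hVp _ (hWV (s3 v hv))

/-- `x` acts as a "transvection" on `V` with centre `⟨y⟩` -/
structure TV (V : Subgroup G) (x y : G) : Prop where
  mem : y ∈ V
  comm : x * y = y * x
  act : ∀ v ∈ V, x * v * x⁻¹ * v⁻¹ ∈ Subgroup.zpowers y

theorem TV.conj {V : Subgroup G} [hV : V.Normal] {x y : G} (h : TV V x y) (g : G) :
    TV V (g * x * g⁻¹) (g * y * g⁻¹) := by
  refine ⟨hV.conj_mem y h.mem g, ?_, ?_⟩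
  · calc g * x * g⁻¹ * (g * y * g⁻¹) = g * (x * y) * g⁻¹ := by group
      _ = g * (y * x) * g⁻¹ := by rw [h.comm]
      _ = g * y * g⁻¹ * (g * x * g⁻¹) := by group
  · intro v hv
    have hv' : g⁻¹ * v * g ∈ V := by
      have := hV.conj_mem v hv g⁻¹
      simpa using this
    obtain ⟨k, hk⟩ := Subgroup.mem_zpowers_iff.mp (h.act _ hv')
    refine Subgroup.mem_zpowers_iff.mpr ⟨k, ?_⟩
    have e : g * x * g⁻¹ * v * (g * x * g⁻¹)⁻¹ * v⁻¹ =
        g * (x * (g⁻¹ * v * g) * x⁻¹ * (g⁻¹ * v * g)⁻¹) * g⁻¹ := by group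
    rw [e, ← hk]
    have : ∀ k : ℤ, (g * y * g⁻¹) ^ k = g * y ^ k * g⁻¹ := by
      intro k
      have := map_zpow (MulAut.conj g) y k
      simpa [MulAut.conj_apply] using this
    exact this k

theorem TV.mem_stab {V : Subgroup G} [V.Normal] {x y : G} (h : TV V x y) (W : Subgroup G)
    (hWV : W ≤ V) (hy : y ∈ W) : x ∈ stab V W hWV := by
  intro v hv
  exact (Subgroup.zpowers_le.mpr hy) (h.act v hv)

/-- `x` commutes with every power of `y` -/
theorem TV.comm_zpowers {V : Subgroup G} {x y : G} (h : TV V x y) {t : G}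
    (ht : t ∈ Subgroup.zpowers y) : x * t = t * x := by
  obtain ⟨k, rfl⟩ := Subgroup.mem_zpowers_iff.mp ht
  exact ((show Commute x y from h.comm).zpow_right k).eq

/-- Case A: two transvections `x`, `x'` with centres `y`, `y'` such that `x` centralizes `y'`:
then `x⁻¹ x'` is unipotent. -/
theorem caseA {p : ℕ} (V : Subgroup G) [V.Normal] (hVp : ∀ a ∈ V, a ^ p = 1)
    (hVc : ∀ a ∈ V, ∀ b ∈ V, a * b = b * a) {x x' y y' : G} (hx : TV V x y) (hx' : TV V x' y')
    (hA : x * y' = y' * x) :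
    ∀ v ∈ V, (x⁻¹ * x') ^ (p * p) * v = v * (x⁻¹ * x') ^ (p * p) := by
  have hS : ({y, y'} : Set G) ⊆ V := by
    intro s hs
    rcases hs with rfl | rfl
    · exact hx.mem
    · exact hx'.mem
  have hWV : Subgroup.closure ({y, y'} : Set G) ≤ V := (Subgroup.closure_le V).mpr hS
  have hyW : y ∈ Subgroup.closure ({y, y'} : Set G) := Subgroup.subset_closure (by simp)
  have hy'W : y' ∈ Subgroup.closure ({y, y'} : Set G) := Subgroup.subset_closure (by simp)
  apply chain3 V hVp hVc (Subgroup.zpowers y') (Subgroup.zpowers_le.mpr hx'.mem) {y, y'} hS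
  · -- c centralizes ⟨y'⟩
    intro u hu
    have e1 : x' * u = u * x' := hx'.comm_zpowers hu
    have e2 : x * u = u * x := by
      obtain ⟨k, rfl⟩ := Subgroup.mem_zpowers_iff.mp hu
      exact ((show Commute x y' from hA).zpow_right k).eq
    have e3 : x⁻¹ * u = u * x⁻¹ := by
      calc x⁻¹ * u = x⁻¹ * (u * x) * x⁻¹ := by group
        _ = x⁻¹ * (x * u) * x⁻¹ := by rw [e2]
        _ = u * x⁻¹ := by group
    calc x⁻¹ * x' * u = x⁻¹ * (x' * u) := by group
      _ = x⁻¹ * (u * x') := by rw [e1]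
      _ = (x⁻¹ * u) * x' := by group
      _ = u * (x⁻¹ * x') := by rw [e3]; group
  · intro s hs
    rcases hs with hs | hs
    · -- s = y
      have hs' : s = y := hs
      subst hs'
      have ht := hx'.act s hx.mem
      obtain ⟨t, htdef⟩ : ∃ t, t = x' * s * x'⁻¹ * s⁻¹ := ⟨_, rfl⟩
      rw [← htdef] at ht
      have e2 : x * t = t * x := by
        obtain ⟨k, rfl⟩ := Subgroup.mem_zpowers_iff.mp ht
        exact ((show Commute x y' from hA).zpow_right k).eq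
      have e3 : x⁻¹ * t = t * x⁻¹ := by
        calc x⁻¹ * t = x⁻¹ * (t * x) * x⁻¹ := by group
          _ = x⁻¹ * (x * t) * x⁻¹ := by rw [e2]
          _ = t * x⁻¹ := by group
      have e4 : x⁻¹ * s = s * x⁻¹ := by
        calc x⁻¹ * s = x⁻¹ * (s * x) * x⁻¹ := by group
          _ = x⁻¹ * (x * s) * x⁻¹ := by rw [hx.comm]
          _ = s * x⁻¹ := by group
      have e5 : x⁻¹ * x' * s * (x⁻¹ * x')⁻¹ * s⁻¹ = t := by
        calc x⁻¹ * x' * s * (x⁻¹ * x')⁻¹ * s⁻¹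
            = x⁻¹ * (x' * s * x'⁻¹ * s⁻¹) * s * x * s⁻¹ := by group
          _ = (x⁻¹ * t) * s * x * s⁻¹ := by rw [← htdef]
          _ = t * (x⁻¹ * s) * x * s⁻¹ := by rw [e3]; group
          _ = t := by rw [e4]; group
      rw [e5]
      exact ht
    · -- s = y'
      have hs' : s = y' := hs
      subst hs'
      have e1 : x' * s = s * x' := hx'.comm
      have e4 : x⁻¹ * s = s * x⁻¹ := by
        calc x⁻¹ * s = x⁻¹ * (s * x) * x⁻¹ := by group
          _ = x⁻¹ * (x * s) * x⁻¹ := by rw [hA]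
          _ = s * x⁻¹ := by group
      have e5 : x⁻¹ * x' * s * (x⁻¹ * x')⁻¹ * s⁻¹ = 1 := by
        calc x⁻¹ * x' * s * (x⁻¹ * x')⁻¹ * s⁻¹
            = x⁻¹ * (x' * s) * x'⁻¹ * x * s⁻¹ := by group
          _ = (x⁻¹ * s) * x * s⁻¹ := by rw [e1]; group
          _ = 1 := by rw [e4]; group
      rw [e5]
      exact Subgroup.one_mem _
  · have h1 : x ∈ stab V _ hWV := hx.mem_stab _ hWV hyW
    have h2 : x' ∈ stab V _ hWV := hx'.mem_stab _ hWV hy'W
    exact (stab V _ hWV).mul_mem ((stab V _ hWV).inv_mem h1) h2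

end Cfsg.Agent.Lib.Helper7.CycNorm
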