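import Mathlib
import Cfsg.Agent.Lib.Helper7.CycNorm2

set_option autoImplicit false

/-! The "SL₂" case for odd `p` in S3788: two opposite transvections generate an element inverting
their centres, contradicting the key lemma `(v x)^p = x^p`. -/

namespace Cfsg.Agent.Lib.Helper7.CycNorm

variable {G : Type*} [Group G]

/-- if `n` inverts `W` elementwise and `x` normalizes `W`, then `[x, n]` centralizes `W` -/
theorem comm_of_inverts (W : Subgroup G) (n x : G) (hn : ∀ t ∈ W, n * t * n⁻¹ = t⁻¹)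
    (hx : ∀ t ∈ W, x⁻¹ * t * x ∈ W) :
    ∀ t ∈ W, (x * n * x⁻¹ * n⁻¹) * t = t * (x * n * x⁻¹ * n⁻¹) := by
  intro t ht
  have h1 : n⁻¹ * t * n = t⁻¹ := by
    have := hn t⁻¹ (W.inv_mem ht)
    rw [inv_inv] at this
    calc n⁻¹ * t * n = n⁻¹ * (n * t⁻¹ * n⁻¹) * n := by rw [this]
      _ = t⁻¹ := by group
  have hs : x⁻¹ * t⁻¹ * x ∈ W := hx _ (W.inv_mem ht)
  have h2 := hn _ hs
  have h3 : (x * n * x⁻¹ * n⁻¹) * t * (x * n * x⁻¹ * n⁻¹)⁻¹ = t := by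
    calc (x * n * x⁻¹ * n⁻¹) * t * (x * n * x⁻¹ * n⁻¹)⁻¹
        = x * n * x⁻¹ * (n⁻¹ * t * n) * x * n⁻¹ * x⁻¹ := by group
      _ = x * (n * (x⁻¹ * t⁻¹ * x) * n⁻¹) * x⁻¹ := by rw [h1]; group
      _ = x * (x⁻¹ * t⁻¹ * x)⁻¹ * x⁻¹ := by rw [h2]
      _ = t := by group
  calc (x * n * x⁻¹ * n⁻¹) * t
      = ((x * n * x⁻¹ * n⁻¹) * t * (x * n * x⁻¹ * n⁻¹)⁻¹) * (x * n * x⁻¹ * n⁻¹) := by group
    _ = t * (x * n * x⁻¹ * n⁻¹) := by rw [h3]

/-- odd powers of an inverting element invert -/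
theorem inverts_pow_odd (W : Subgroup G) (n : G) (hn : ∀ t ∈ W, n * t * n⁻¹ = t⁻¹) (q : ℕ) :
    ∀ t ∈ W, n ^ (2 * q + 1) * t * (n ^ (2 * q + 1))⁻¹ = t⁻¹ := by
  induction q with
  | zero => simpa using hn
  | succ q ih =>
    intro t ht
    have e : n ^ (2 * (q + 1) + 1) = n * n * n ^ (2 * q + 1) := by
      rw [show 2 * (q + 1) + 1 = 2 + (2 * q + 1) by ring, pow_add, pow_two]
    rw [e]
    calc n * n * n ^ (2 * q + 1) * t * (n * n * n ^ (2 * q + 1))⁻¹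
        = n * (n * (n ^ (2 * q + 1) * t * (n ^ (2 * q + 1))⁻¹) * n⁻¹) * n⁻¹ := by group
      _ = n * (n * t⁻¹ * n⁻¹) * n⁻¹ := by rw [ih t ht]
      _ = n * t⁻¹⁻¹ * n⁻¹ := by rw [hn _ (W.inv_mem ht)]
      _ = t⁻¹ := by rw [inv_inv, hn t ht]

/-- if `x` does not centralize `y' ∈ V`, some power `u = x^a` has `u y' u⁻¹ = y y'` -/
theorem exists_pow_conj {p : ℕ} [hp : Fact p.Prime] [Finite G] {V : Subgroup G} {x y : G}
    (hx : TV V x y) (hyp : y ^ p = 1) {y' : G} (hy' : y' ∈ V) (hne : x * y' ≠ y' * x) :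
    ∃ a : ℕ, x ^ a * y' * (x ^ a)⁻¹ = y * y' := by
  have h1 := hx.act y' hy'
  rw [← mem_powers_iff_mem_zpowers] at h1
  obtain ⟨α, hα⟩ := (Submonoid.mem_powers_iff _ _).mp h1
  have hα1 : y ^ α ≠ 1 := by
    intro h
    rw [h] at hα
    apply hne
    calc x * y' = (x * y' * x⁻¹ * y'⁻¹) * y' * x := by group
      _ = y' * x := by rw [← hα]; group
  have hcop : Nat.Coprime α p := by
    rw [Nat.coprime_comm, Nat.Prime.coprime_iff_not_dvd hp.out]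
    rintro ⟨k, rfl⟩
    apply hα1
    rw [pow_mul, hyp, one_pow]
  obtain ⟨a, -, ha⟩ := Nat.exists_mul_mod_eq_one_of_coprime hcop hp.out.one_lt
  refine ⟨a, ?_⟩
  have hcomm : x * (x * y' * x⁻¹ * y'⁻¹) = (x * y' * x⁻¹ * y'⁻¹) * x := by
    rw [← hα]
    exact ((show Commute x y from hx.comm).pow_right α).eq
  rw [conj_pow_formula x y' hcomm a, ← hα, ← pow_mul]
  have : y ^ (α * a) = y := by
    conv_lhs => rw [← Nat.div_add_mod (α * a) p, ha, pow_add, pow_mul, hyp, one_pow, one_mul,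
      pow_one]
  rw [this]

/-- Case C for odd `p`: impossible. -/
theorem caseC_odd {p : ℕ} [hp : Fact p.Prime] [Finite G] (hp2 : p ≠ 2) (V K : Subgroup G)
    [hV : V.Normal] [hK : K.Normal] (hVK : V ≤ K) (hVp : ∀ a ∈ V, a ^ p = 1)
    (hVc : ∀ a ∈ V, ∀ b ∈ V, a * b = b * a)
    (hCV : ∀ z : G, (∀ v ∈ V, z * v = v * z) → z ∈ V)
    (hKp : ∀ k ∈ K, ∀ n : ℕ, k ^ p ^ n = 1 → k ∈ V)
    {x : G} (hx : TV V x (x ^ p)) {g : G} (hg : g ∈ K)
    (hnA : x * (g * x ^ p * g⁻¹) ≠ (g * x ^ p * g⁻¹) * x)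
    (hnB : (g * x * g⁻¹) * x ^ p ≠ x ^ p * (g * x * g⁻¹)) : False := by
  obtain ⟨y, hydef⟩ : ∃ y, y = x ^ p := ⟨_, rfl⟩
  obtain ⟨x', hx'def⟩ : ∃ x', x' = g * x * g⁻¹ := ⟨_, rfl⟩
  obtain ⟨y', hy'def⟩ : ∃ y', y' = g * y * g⁻¹ := ⟨_, rfl⟩
  rw [← hydef] at hx hnA hnB
  have hx' : TV V x' y' := by rw [hx'def, hy'def]; exact hx.conj g
  rw [← hy'def] at hnA
  rw [← hx'def] at hnB
  have hyp : y ^ p = 1 := hVp y hx.mem
  have hy'p : y' ^ p = 1 := hVp y' hx'.mem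
  have hyy' : y * y' = y' * y := hVc y hx.mem y' hx'.mem
  obtain ⟨q, hq⟩ : ∃ q, p = 2 * q + 1 := by
    rcases hp.out.eq_two_or_odd' with h | h
    · exact absurd h hp2
    · exact h
  obtain ⟨a, ha⟩ := exists_pow_conj hx hyp hx'.mem hnA
  obtain ⟨b, hb⟩ := exists_pow_conj hx' hy'p hx.mem hnB
  obtain ⟨u, hudef⟩ : ∃ u, u = x ^ a := ⟨_, rfl⟩
  obtain ⟨L, hLdef⟩ : ∃ L, L = x' ^ b := ⟨_, rfl⟩
  rw [← hudef] at ha
  rw [← hLdef] at hb
  have hu1 : u * y * u⁻¹ = y := by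
    have : u * y = y * u := by
      rw [hudef]; exact ((show Commute x y from hx.comm).pow_left a).eq
    rw [this]; group
  have hL1 : L * y' * L⁻¹ = y' := by
    have : L * y' = y' * L := by
      rw [hLdef]; exact ((show Commute x' y' from hx'.comm).pow_left b).eq
    rw [this]; group
  have hl1 : L⁻¹ * y' * L = y' := by
    calc L⁻¹ * y' * L = L⁻¹ * (L * y' * L⁻¹) * L := by rw [hL1]
      _ = y' := by group
  have hl2 : L⁻¹ * y * L = y'⁻¹ * y := by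
    have : L * (y'⁻¹ * y) * L⁻¹ = y := by
      calc L * (y'⁻¹ * y) * L⁻¹ = (L * y' * L⁻¹)⁻¹ * (L * y * L⁻¹) := by group
        _ = y'⁻¹ * (y' * y) := by rw [hL1, hb]
        _ = y := by group
    calc L⁻¹ * y * L = L⁻¹ * (L * (y'⁻¹ * y) * L⁻¹) * L := by rw [this]
      _ = y'⁻¹ * y := by group
  obtain ⟨w, hwdef⟩ : ∃ w, w = u * L⁻¹ * u := ⟨_, rfl⟩
  have hw1 : w * y * w⁻¹ = y'⁻¹ := by
    calc w * y * w⁻¹ = u * (L⁻¹ * (u * y * u⁻¹) * L) * u⁻¹ := by rw [hwdef]; group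
      _ = u * (L⁻¹ * y * L) * u⁻¹ := by rw [hu1]
      _ = u * (y'⁻¹ * y) * u⁻¹ := by rw [hl2]
      _ = (u * y' * u⁻¹)⁻¹ * (u * y * u⁻¹) := by group
      _ = (y * y')⁻¹ * y := by rw [ha, hu1]
      _ = y'⁻¹ := by group
  have hw2 : w * y' * w⁻¹ = y := by
    have e : y'⁻¹ * y * y' = y := by rw [mul_assoc, hyy']; group
    calc w * y' * w⁻¹ = u * (L⁻¹ * (u * y' * u⁻¹) * L) * u⁻¹ := by rw [hwdef]; group
      _ = u * (L⁻¹ * (y * y') * L) * u⁻¹ := by rw [ha]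
      _ = u * ((L⁻¹ * y * L) * (L⁻¹ * y' * L)) * u⁻¹ := by group
      _ = u * (y'⁻¹ * y * y') * u⁻¹ := by rw [hl2, hl1]
      _ = u * y * u⁻¹ := by rw [e]
      _ = y := hu1
  obtain ⟨n, hndef⟩ : ∃ n, n = w * w := ⟨_, rfl⟩
  have hn1 : n * y * n⁻¹ = y⁻¹ := by
    calc n * y * n⁻¹ = w * (w * y * w⁻¹) * w⁻¹ := by rw [hndef]; group
      _ = w * y'⁻¹ * w⁻¹ := by rw [hw1]
      _ = (w * y' * w⁻¹)⁻¹ := by group
      _ = y⁻¹ := by rw [hw2]
  have hn2 : n * y' * n⁻¹ = y'⁻¹ := by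
    calc n * y' * n⁻¹ = w * (w * y' * w⁻¹) * w⁻¹ := by rw [hndef]; group
      _ = w * y * w⁻¹ := by rw [hw2]
      _ = y'⁻¹ := hw1
  have hS : ({y, y'} : Set G) ⊆ V := by
    intro s hs
    rcases hs with hs | hs
    · rw [show s = y from hs]; exact hx.mem
    · rw [show s = y' from hs]; exact hx'.mem
  obtain ⟨W, hWdef⟩ : ∃ W, W = Subgroup.closure ({y, y'} : Set G) := ⟨_, rfl⟩
  have hWV : W ≤ V := by rw [hWdef]; exact (Subgroup.closure_le V).mpr hS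
  have hyW : y ∈ W := by rw [hWdef]; exact Subgroup.subset_closure (by simp)
  have hy'W : y' ∈ W := by rw [hWdef]; exact Subgroup.subset_closure (by simp)
  have hnW : ∀ t ∈ W, n * t * n⁻¹ = t⁻¹ := by
    intro t ht
    rw [hWdef] at ht
    induction ht using Subgroup.closure_induction with
    | mem s hs =>
      rcases hs with hs | hs
      · rw [show s = y from hs]; exact hn1
      · rw [show s = y' from hs]; exact hn2
    | one => simp
    | mul a b ha hb iha ihb =>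
      rw [← hWdef] at ha hb
      calc n * (a * b) * n⁻¹ = (n * a * n⁻¹) * (n * b * n⁻¹) := by group
        _ = a⁻¹ * b⁻¹ := by rw [iha, ihb]
        _ = (a * b)⁻¹ := by
          rw [mul_inv_rev, hVc _ (V.inv_mem (hWV ha)) _ (V.inv_mem (hWV hb))]
    | inv a ha iha =>
      calc n * a⁻¹ * n⁻¹ = (n * a * n⁻¹)⁻¹ := by group
        _ = a⁻¹⁻¹ := by rw [iha]
  -- z = n^p
  obtain ⟨z, hzdef⟩ : ∃ z, z = n ^ p := ⟨_, rfl⟩
  have hzW : ∀ t ∈ W, z * t * z⁻¹ = t⁻¹ := by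
    rw [hzdef, hq]; exact inverts_pow_odd W n hnW q
  have hzK : z ∈ K := by
    have hπg : (QuotientGroup.mk' K) g = 1 := (QuotientGroup.eq_one_iff g).mpr hg
    have hπx' : (QuotientGroup.mk' K) x' = (QuotientGroup.mk' K) x := by
      rw [hx'def, map_mul, map_mul, map_inv, hπg]; simp
    have hπy : ((QuotientGroup.mk' K) x) ^ p = 1 := by
      rw [← map_pow, ← hydef]
      exact (QuotientGroup.eq_one_iff y).mpr (hVK hx.mem)
    have hπn : (QuotientGroup.mk' K) n =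
        ((QuotientGroup.mk' K) x) ^ (2 * (2 * (a : ℤ) - b)) := by
      rw [hndef, hwdef, hudef, hLdef]
      simp only [map_mul, map_pow, map_inv, hπx']
      group
    have : (QuotientGroup.mk' K) z = 1 := by
      rw [hzdef, map_pow, hπn, ← zpow_natCast, ← zpow_mul, mul_comm, zpow_mul, zpow_natCast, hπy,
        one_zpow]
    exact (QuotientGroup.eq_one_iff z).mp this
  have hxS : x ∈ stab V W hWV := hx.mem_stab W hWV hyW
  have hx'S : x' ∈ stab V W hWV := hx'.mem_stab W hWV hy'W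
  have hzS : z ∈ stab V W hWV := by
    rw [hzdef, hndef, hwdef, hudef, hLdef]
    have h1 : x ^ a ∈ stab V W hWV := Subgroup.pow_mem _ hxS a
    have h2 : (x' ^ b)⁻¹ ∈ stab V W hWV := Subgroup.inv_mem _ (Subgroup.pow_mem _ hx'S b)
    have h3 : x ^ a * (x' ^ b)⁻¹ * x ^ a ∈ stab V W hWV :=
      Subgroup.mul_mem _ (Subgroup.mul_mem _ h1 h2) h1
    exact Subgroup.pow_mem _ (Subgroup.mul_mem _ h3 h3) p
  -- d = [x, z]
  obtain ⟨d, hddef⟩ : ∃ d, d = x * z * x⁻¹ * z⁻¹ := ⟨_, rfl⟩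
  have hdK : d ∈ K := by
    rw [hddef]
    exact K.mul_mem (hK.conj_mem z hzK x) (K.inv_mem hzK)
  have hdS : d ∈ stab V W hWV := by
    rw [hddef]
    exact Subgroup.mul_mem _ (Subgroup.mul_mem _ (Subgroup.mul_mem _ hxS hzS)
      (Subgroup.inv_mem _ hxS)) (Subgroup.inv_mem _ hzS)
  have hxW : ∀ t ∈ W, x⁻¹ * t * x ∈ W := by
    intro t ht
    have := conj_mem_of_mem_stab hWV (Subgroup.inv_mem _ hxS) W le_rfl hWV ht
    simpa using this
  have hdW : ∀ t ∈ W, d * t = t * d := by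
    rw [hddef]; exact comm_of_inverts W z x hzW hxW
  have hdp : ∀ v ∈ V, d ^ p * v = v * d ^ p := by
    intro v hv
    exact chain2 d v p (hdW _ (hdS v hv)) (hVp _ (hWV (hdS v hv)))
  have hdpV : d ^ p ∈ V := hCV _ hdp
  have hdV : d ∈ V := by
    apply hKp d hdK 2
    rw [pow_two, pow_mul]
    exact hVp _ hdpV
  -- key lemma
  have hzx : z * x * z⁻¹ = d⁻¹ * x := by rw [hddef]; group
  obtain ⟨c, hcdef⟩ : ∃ c, c = x * d⁻¹ * x⁻¹ * d⁻¹⁻¹ := ⟨_, rfl⟩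
  have hcY : c ∈ Subgroup.zpowers y := by rw [hcdef]; exact hx.act _ (V.inv_mem hdV)
  have hcV : c ∈ V := (Subgroup.zpowers_le.mpr hx.mem) hcY
  have hxc : x * c = c * x := hx.comm_zpowers hcY
  have hvc : d⁻¹ * c = c * d⁻¹ := hVc _ (V.inv_mem hdV) _ hcV
  have hform := mul_pow_formula x d⁻¹ c hcdef.symm hxc hvc p
  have hch : c ^ (p.choose 2) = 1 := by
    have h2p : 2 < p := by
      have := hp.out.two_le
      omega
    obtain ⟨k, hk⟩ := Nat.Prime.dvd_choose_self hp.out (by norm_num : (2 : ℕ) ≠ 0) h2p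
    rw [hk, pow_mul, hVp c hcV, one_pow]
  have hzy : z * y * z⁻¹ = y := by
    calc z * y * z⁻¹ = z * x ^ p * z⁻¹ := by rw [hydef]
      _ = (z * x * z⁻¹) ^ p := (conj_pow).symm
      _ = (d⁻¹ * x) ^ p := by rw [hzx]
      _ = x ^ p := by rw [hform, hch, hVp _ (V.inv_mem hdV)]; group
      _ = y := hydef.symm
  have hyinv : y = y⁻¹ := by rw [← hzW y hyW]; exact hzy.symm
  have hy2 : y ^ 2 = 1 := by
    rw [pow_two]
    nth_rewrite 2 [hyinv]
    group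
  have hy1 : y = 1 := by
    have := hyp
    rw [hq, pow_add, pow_mul, hy2, one_pow, one_mul, pow_one] at this
    exact this
  apply hnA
  rw [hy'def, hy1]
  group

end Cfsg.Agent.Lib.Helper7.CycNorm
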