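import Mathlib
import Cfsg.Prelude.Def_LocalEven
import Cfsg.Agent.Lib.Helper7.CycNorm3
import Cfsg.Agent.Lib.Lead.S4e

set_option autoImplicit false

/-! The "SL₂" case for `p = 2` in S3788 (a section `S₄` appears), and the combined core lemma. -/

namespace Cfsg.Agent.Lib.Helper7.CycNorm

variable {G : Type*} [Group G]

/-- the four-group generated by two commuting involutions -/
theorem four_group (a b : G) (ha : a * a = 1) (hb : b * b = 1) (hab : a * b = b * a)
    (ha1 : a ≠ 1) (hb1 : b ≠ 1) (hne : a ≠ b) :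
    ∃ W : Subgroup G, Nat.card W = 4 ∧ ∀ w, w ∈ W ↔ w = 1 ∨ w = a ∨ w = b ∨ w = a * b := by
  have e1 : a * (a * b) = b := by rw [← mul_assoc, ha, one_mul]
  have e2 : b * (a * b) = a := by rw [← mul_assoc, ← hab, mul_assoc, hb, mul_one]
  have e3 : a * b * a = b := by rw [mul_assoc, ← hab, e1]
  have e4 : a * b * b = a := by rw [mul_assoc, hb, mul_one]
  have e5 : a * b * (a * b) = 1 := by rw [mul_assoc, e2, ha]
  have hai : a⁻¹ = a := inv_eq_of_mul_eq_one_right ha
  have hbi : b⁻¹ = b := inv_eq_of_mul_eq_one_right hb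
  have habi : (a * b)⁻¹ = a * b := inv_eq_of_mul_eq_one_right e5
  let W : Subgroup G :=
    { carrier := {1, a, b, a * b}
      one_mem' := by simp
      mul_mem' := by
        intro u v hu hv
        simp only [Set.mem_insert_iff, Set.mem_singleton_iff] at hu hv ⊢
        rcases hu with hu | hu | hu | hu <;> rcases hv with hv | hv | hv | hv <;> rw [hu, hv]
        · left; rw [one_mul]
        · right; left; rw [one_mul]
        · right; right; left; rw [one_mul]
        · right; right; right; rw [one_mul]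
        · right; left; rw [mul_one]
        · left; exact ha
        · right; right; right; rfl
        · right; right; left; exact e1
        · right; right; left; rw [mul_one]
        · right; right; right; exact hab.symm
        · left; exact hb
        · right; left; exact e2
        · right; right; right; rw [mul_one]
        · right; right; left; exact e3
        · right; left; exact e4
        · left; exact e5
      inv_mem' := by
        intro u hu
        simp only [Set.mem_insert_iff, Set.mem_singleton_iff] at hu ⊢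
        rcases hu with hu | hu | hu | hu <;> rw [hu]
        · left; exact inv_one
        · right; left; exact hai
        · right; right; left; exact hbi
        · right; right; right; exact habi }
  have hmem : ∀ w, w ∈ W ↔ w = 1 ∨ w = a ∨ w = b ∨ w = a * b := by
    intro w
    show w ∈ ({1, a, b, a * b} : Set G) ↔ _
    simp only [Set.mem_insert_iff, Set.mem_singleton_iff]
  refine ⟨W, ?_, hmem⟩
  have hcoe : (W : Set G) = {1, a, b, a * b} := rfl
  have h1 : Nat.card W = (W : Set G).ncard := by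
    rw [← Nat.card_coe_set_eq]; rfl
  rw [h1, hcoe]
  have hn3 : b ∉ ({a * b} : Set G) := by
    simp only [Set.mem_singleton_iff]
    intro h
    apply ha1
    calc a = a * b * b⁻¹ := by group
      _ = b * b⁻¹ := by rw [← h]
      _ = 1 := by group
  have hn2 : a ∉ ({b, a * b} : Set G) := by
    simp only [Set.mem_insert_iff, Set.mem_singleton_iff]
    rintro (h | h)
    · exact hne h
    · apply hb1
      calc b = a⁻¹ * (a * b) := by group
        _ = a⁻¹ * a := by rw [← h]
        _ = 1 := by group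
  have hn1 : (1 : G) ∉ ({a, b, a * b} : Set G) := by
    simp only [Set.mem_insert_iff, Set.mem_singleton_iff]
    rintro (h | h | h)
    · exact ha1 h.symm
    · exact hb1 h.symm
    · apply hne
      calc a = a * b * b := e4.symm
        _ = 1 * b := by rw [← h]
        _ = b := one_mul b
  rw [Set.ncard_insert_of_notMem hn1 (Set.toFinite _), Set.ncard_insert_of_notMem hn2 (Set.toFinite _),
    Set.ncard_insert_of_notMem hn3 (Set.toFinite _), Set.ncard_singleton]

/-- for an involution `y`, the powers of `y` are `1` and `y` -/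
theorem zpowers_of_sq {y t : G} (hy : y * y = 1) (ht : t ∈ Subgroup.zpowers y) : t = 1 ∨ t = y := by
  obtain ⟨k, rfl⟩ := Subgroup.mem_zpowers_iff.mp ht
  have hy2 : y ^ (2 : ℤ) = 1 := by
    rw [zpow_two]; exact hy
  rcases Int.even_or_odd' k with ⟨m, rfl | rfl⟩
  · left; rw [zpow_mul, hy2, one_zpow]
  · right; rw [zpow_add, zpow_mul, hy2, one_zpow, one_mul, zpow_one]

/-- Case C for `p = 2`: a section `S₄` appears. -/
theorem caseC_two [Finite G] (V : Subgroup G) [V.Normal] (hV2 : ∀ a ∈ V, a ^ 2 = 1)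
    (hVc : ∀ a ∈ V, ∀ b ∈ V, a * b = b * a) {x x' y y' : G} (hx : TV V x y)
    (hx' : TV V x' y') (hxx : x ^ 2 ∈ V) (hnA : x * y' ≠ y' * x) (hnB : x' * y ≠ y * x') :
    Cfsg.Involves (Equiv.Perm (Fin 4)) G := by
  have hy2 : y * y = 1 := by rw [← pow_two]; exact hV2 y hx.mem
  have hy'2 : y' * y' = 1 := by rw [← pow_two]; exact hV2 y' hx'.mem
  have hyy' : y * y' = y' * y := hVc y hx.mem y' hx'.mem
  have e1 : x * y' * x⁻¹ = y * y' := by
    rcases zpowers_of_sq hy2 (hx.act y' hx'.mem) with h | h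
    · exfalso; apply hnA
      calc x * y' = (x * y' * x⁻¹ * y'⁻¹) * y' * x := by group
        _ = y' * x := by rw [h]; group
    · calc x * y' * x⁻¹ = (x * y' * x⁻¹ * y'⁻¹) * y' := by group
        _ = y * y' := by rw [h]
  have e2 : x' * y * x'⁻¹ = y' * y := by
    rcases zpowers_of_sq hy'2 (hx'.act y hx.mem) with h | h
    · exfalso; apply hnB
      calc x' * y = (x' * y * x'⁻¹ * y⁻¹) * y * x' := by group
        _ = y * x' := by rw [h]; group
    · calc x' * y * x'⁻¹ = (x' * y * x'⁻¹ * y⁻¹) * y := by group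
        _ = y' * y := by rw [h]
  have e0 : x * y * x⁻¹ = y := by rw [hx.comm]; group
  have e0' : x' * y' * x'⁻¹ = y' := by rw [hx'.comm]; group
  have hy1 : y ≠ 1 := by
    intro h
    apply hnA
    have : x * y' * x⁻¹ = y' := by rw [e1, h, one_mul]
    calc x * y' = (x * y' * x⁻¹) * x := by group
      _ = y' * x := by rw [this]
  have hy'1 : y' ≠ 1 := by
    intro h
    apply hnB
    have : x' * y * x'⁻¹ = y := by rw [e2, h, one_mul]
    calc x' * y = (x' * y * x'⁻¹) * x' := by group
      _ = y * x' := by rw [this]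
  have hne : y ≠ y' := by
    intro h
    apply hnA
    rw [← h]; exact hx.comm
  obtain ⟨W, hW4, hWmem⟩ := four_group y y' hy2 hy'2 hyy' hy1 hy'1 hne
  have hWV : W ≤ V := by
    intro w hw
    rcases (hWmem w).mp hw with h | h | h | h <;> rw [h]
    · exact V.one_mem
    · exact hx.mem
    · exact hx'.mem
    · exact V.mul_mem hx.mem hx'.mem
  have hyW : y ∈ W := (hWmem y).mpr (Or.inr (Or.inl rfl))
  have hy'W : y' ∈ W := (hWmem y').mpr (Or.inr (Or.inr (Or.inl rfl)))
  have hyy'W : y * y' ∈ W := (hWmem _).mpr (Or.inr (Or.inr (Or.inr rfl)))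
  -- action of x and x' on y y'
  have e3 : x * (y * y') * x⁻¹ = y' := by
    calc x * (y * y') * x⁻¹ = (x * y * x⁻¹) * (x * y' * x⁻¹) := by group
      _ = y * (y * y') := by rw [e0, e1]
      _ = y' := by rw [← mul_assoc, hy2, one_mul]
  have e3' : x' * (y * y') * x'⁻¹ = y := by
    calc x' * (y * y') * x'⁻¹ = (x' * y * x'⁻¹) * (x' * y' * x'⁻¹) := by group
      _ = y' * y * y' := by rw [e2, e0']
      _ = y := by rw [← hyy', mul_assoc, hy'2, mul_one]
  have hxN : x ∈ Subgroup.normalizer (W : Set G) := by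
    apply Subgroup.mem_normalizer_fintype
    intro t ht
    rcases (hWmem t).mp ht with h | h | h | h <;> rw [h]
    · simp only [mul_one, mul_inv_cancel]; exact W.one_mem
    · rw [e0]; exact hyW
    · rw [e1]; exact hyy'W
    · rw [e3]; exact hy'W
  have hx'N : x' ∈ Subgroup.normalizer (W : Set G) := by
    apply Subgroup.mem_normalizer_fintype
    intro t ht
    rcases (hWmem t).mp ht with h | h | h | h <;> rw [h]
    · simp only [mul_one, mul_inv_cancel]; exact W.one_mem
    · rw [e2, ← hyy']; exact hyy'W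
    · rw [e0']; exact hy'W
    · rw [e3']; exact hyW
  -- the 3-cycle k = x x'
  have c1 : (x * x') * y * (x * x')⁻¹ = y' := by
    calc (x * x') * y * (x * x')⁻¹ = x * (x' * y * x'⁻¹) * x⁻¹ := by group
      _ = x * (y * y') * x⁻¹ := by rw [e2, hyy']
      _ = y' := e3
  have c2 : (x * x') * y' * (x * x')⁻¹ = y * y' := by
    calc (x * x') * y' * (x * x')⁻¹ = x * (x' * y' * x'⁻¹) * x⁻¹ := by group
      _ = x * y' * x⁻¹ := by rw [e0']
      _ = y * y' := e1
  have c3 : (x * x') * (y * y') * (x * x')⁻¹ = y := by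
    calc (x * x') * (y * y') * (x * x')⁻¹ = x * (x' * (y * y') * x'⁻¹) * x⁻¹ := by group
      _ = x * y * x⁻¹ := by rw [e3']
      _ = y := e0
  have hk3 : ∀ t : G, (x * x') ^ 3 * t * ((x * x') ^ 3)⁻¹ =
      (x * x') * ((x * x') * ((x * x') * t * (x * x')⁻¹) * (x * x')⁻¹) * (x * x')⁻¹ := by
    intro t
    rw [pow_succ, pow_two]; group
  apply Cfsg.Agent.Lib.Lead.S4.involves_S4 W hW4 ?_ (x * x') x
    (Subgroup.mul_mem _ hxN hx'N) hxN ?_ ⟨3, by decide, ?_⟩ ?_ ⟨1, ?_⟩
  · intro u hu
    rw [← pow_two]; exact hV2 u (hWV hu)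
  · intro u hu hfix
    rcases (hWmem u).mp hu with h | h | h | h
    · exact h
    · exfalso
      rw [h, c1] at hfix
      exact hne hfix.symm
    · exfalso
      rw [h, c2] at hfix
      apply hy1
      calc y = y * y' * y'⁻¹ := by group
        _ = y' * y'⁻¹ := by rw [hfix]
        _ = 1 := by group
    · exfalso
      rw [h, c3] at hfix
      apply hy'1
      calc y' = y⁻¹ * (y * y') := by group
        _ = y⁻¹ * y := by rw [← hfix]
        _ = 1 := by group
  · rw [Subgroup.mem_centralizer_iff]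
    intro t ht
    have hfix : (x * x') ^ 3 * t * ((x * x') ^ 3)⁻¹ = t := by
      rw [hk3]
      rcases (hWmem t).mp ht with h | h | h | h <;> rw [h]
      · group
      · rw [c1, c2, c3]
      · rw [c2, c3, c1]
      · rw [c3, c1, c2]
    calc t * (x * x') ^ 3 = ((x * x') ^ 3 * t * ((x * x') ^ 3)⁻¹) * (x * x') ^ 3 := by rw [hfix]
      _ = (x * x') ^ 3 * t := by group
  · intro hc
    rw [Subgroup.mem_centralizer_iff] at hc
    exact hnA (hc y' hy'W).symm
  · rw [Subgroup.mem_centralizer_iff]
    intro t ht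
    rw [pow_one]
    exact hVc t (hWV ht) _ hxx

/-- The core lemma. -/
theorem core {p : ℕ} [hp : Fact p.Prime] [Finite G] (V K : Subgroup G)
    [hV : V.Normal] [hK : K.Normal] (hVK : V ≤ K) (hVp : ∀ a ∈ V, a ^ p = 1)
    (hVc : ∀ a ∈ V, ∀ b ∈ V, a * b = b * a)
    (hCV : ∀ z : G, (∀ v ∈ V, z * v = v * z) → z ∈ V)
    (hKp : ∀ k ∈ K, ∀ n : ℕ, k ^ p ^ n = 1 → k ∈ V)
    {x : G} (hx : TV V x (x ^ p)) {g : G} (hg : g ∈ K) :
    x⁻¹ * (g * x * g⁻¹) ∈ V ∨ (p = 2 ∧ Cfsg.Involves (Equiv.Perm (Fin 4)) G) := by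
  have hx' : TV V (g * x * g⁻¹) (g * x ^ p * g⁻¹) := hx.conj g
  have hcK : x⁻¹ * (g * x * g⁻¹) ∈ K := by
    have h1 : x⁻¹ * g * x ∈ K := by
      have := hK.conj_mem g hg x⁻¹
      simpa using this
    have : x⁻¹ * (g * x * g⁻¹) = (x⁻¹ * g * x) * g⁻¹ := by group
    rw [this]
    exact K.mul_mem h1 (K.inv_mem hg)
  have hfin : ∀ c ∈ K, (∀ v ∈ V, c ^ (p * p) * v = v * c ^ (p * p)) → c ∈ V := by
    intro c hc hcent
    have h1 : c ^ (p * p) ∈ V := hCV _ hcent
    apply hKp c hc 3
    have : p ^ 3 = p * p * p := by ring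
    rw [this, pow_mul]
    exact hVp _ h1
  by_cases hA : x * (g * x ^ p * g⁻¹) = (g * x ^ p * g⁻¹) * x
  · left
    exact hfin _ hcK (caseA V hVp hVc hx hx' hA)
  · by_cases hB : (g * x * g⁻¹) * x ^ p = x ^ p * (g * x * g⁻¹)
    · left
      have h1 := caseA V hVp hVc hx' hx hB
      have h2 : (g * x * g⁻¹)⁻¹ * x ∈ K := by
        have : (g * x * g⁻¹)⁻¹ * x = (x⁻¹ * (g * x * g⁻¹))⁻¹ := by group
        rw [this]; exact K.inv_mem hcK
      have h3 := hfin _ h2 h1
      have : x⁻¹ * (g * x * g⁻¹) = ((g * x * g⁻¹)⁻¹ * x)⁻¹ := by group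
      rw [this]; exact V.inv_mem h3
    · by_cases hp2 : p = 2
      · right
        refine ⟨hp2, ?_⟩
        subst hp2
        exact caseC_two V hVp hVc hx hx' hx.mem hA hB
      · exfalso
        exact caseC_odd hp2 V K hVK hVp hVc hCV hKp hx hg hA hB

end Cfsg.Agent.Lib.Helper7.CycNorm
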