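import Mathlib
import Cfsg.Prelude.Def_Local
import Cfsg.Agent.Lib.Helper7.CycNorm4
import Cfsg.Agent.Lib.Lead.HHDual
import Cfsg.Agent.Lib.Lead.Core
import Cfsg.Agent.Lib.Helper6.PRes
import Cfsg.Agent.Lib.Helper6.PCore
import Cfsg.Agent.Lib.Helper6.PPrimeCore
import Cfsg.Agent.Lib.Helper7.PSolvable

set_option autoImplicit false

/-! S3788 when `O_p(G)` is elementary abelian and self-centralizing. -/

namespace Cfsg.Agent.Lib.Helper7.CycNorm

open Cfsg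

variable {G : Type*} [Group G]

/-- `x` lies in a Sylow `p`-subgroup normalizing `⟨x⟩` -/
def Hyp (p : ℕ) (x : G) : Prop :=
  ∃ P : Sylow p G, x ∈ P ∧ ∀ t ∈ P, t * x * t⁻¹ ∈ Subgroup.zpowers x

theorem Hyp.pow {p : ℕ} {x : G} (h : Hyp p x) (n : ℕ) : Hyp p (x ^ n) := by
  obtain ⟨P, hxP, hP⟩ := h
  refine ⟨P, Subgroup.pow_mem _ hxP n, ?_⟩
  intro t ht
  obtain ⟨k, hk⟩ := Subgroup.mem_zpowers_iff.mp (hP t ht)
  have e : (x ^ k) ^ n = (x ^ n) ^ k := by
    rw [← zpow_natCast (x ^ k) n, ← zpow_mul, mul_comm, zpow_mul, zpow_natCast]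
  rw [← conj_pow, ← hk, e]
  exact Subgroup.zpow_mem _ (Subgroup.mem_zpowers _) k

theorem Hyp.map {p : ℕ} [Fact p.Prime] [Finite G] {G' : Type*} [Group G'] {x : G} (h : Hyp p x)
    (f : G →* G') (hf : Function.Surjective f) : Hyp p (f x) := by
  obtain ⟨P, hxP, hP⟩ := h
  have hcoe : ((P.mapSurjective hf : Sylow p G') : Subgroup G') = (P : Subgroup G).map f :=
    Sylow.coe_mapSurjective hf P
  refine ⟨P.mapSurjective hf, ?_, ?_⟩
  · show f x ∈ ((P.mapSurjective hf : Sylow p G') : Subgroup G')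
    rw [hcoe]
    exact Subgroup.mem_map_of_mem f hxP
  · intro t ht
    have ht' : t ∈ ((P.mapSurjective hf : Sylow p G') : Subgroup G') := ht
    rw [hcoe] at ht'
    obtain ⟨s, hs, rfl⟩ := Subgroup.mem_map.mp ht'
    obtain ⟨k, hk⟩ := Subgroup.mem_zpowers_iff.mp (hP s hs)
    refine Subgroup.mem_zpowers_iff.mpr ⟨k, ?_⟩
    rw [← map_zpow, hk, map_mul, map_mul, map_inv]

/-- the single step: `x^p ∈ V` implies `x ∈ V`. -/
theorem step_elemAb [Finite G] {p : ℕ} [hp : Fact p.Prime] (hG : IsPSolvable p G)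
    (hVp : ∀ a ∈ pCore p G, a ^ p = 1)
    (hVc : ∀ a ∈ pCore p G, ∀ b ∈ pCore p G, a * b = b * a)
    (hCV : ∀ z : G, (∀ v ∈ pCore p G, z * v = v * z) → z ∈ pCore p G)
    (h : p ≠ 2 ∨ ¬ Involves (Equiv.Perm (Fin 4)) G) (x : G) (hx : Hyp p x)
    (hxp : x ^ p ∈ pCore p G) : x ∈ pCore p G := by
  classical
  obtain ⟨V, hVdef⟩ : ∃ V : Subgroup G, V = pCore p G := ⟨_, rfl⟩
  rw [← hVdef] at hVp hVc hCV hxp ⊢
  haveI hVn : V.Normal := by rw [hVdef]; exact Cfsg.Agent.Lib.Lead.pCore_normal p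
  have hVpg : IsPGroup p V := by rw [hVdef]; exact Cfsg.Agent.Lib.Lead.pCore_isPGroup p
  have hOp : pCore p (G ⧸ V) = ⊥ := by
    rw [Cfsg.Agent.Lib.Helper6.pCore_quotient_of_isPGroup V hVpg, ← hVdef]
    exact QuotientGroup.map_mk'_self V
  have hGq : IsPSolvable p (G ⧸ V) := Cfsg.Agent.Lib.Helper7.isPSolvable_quotient hG V
  have hCK := Cfsg.Agent.Lib.Lead.centralizer_pPrimeCore_le_of_isPSolvable hGq hOp
  obtain ⟨Kb, hKbdef⟩ : ∃ Kb : Subgroup (G ⧸ V), Kb = pPrimeCore p (G ⧸ V) := ⟨_, rfl⟩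
  rw [← hKbdef] at hCK
  haveI hKbn : Kb.Normal := by
    rw [hKbdef]; exact (Cfsg.Agent.Lib.Helper6.pPrimeCore_mem_set p).1
  have hKbc : (Nat.card Kb).Coprime p := by
    rw [hKbdef]; exact Cfsg.Agent.Lib.Helper6.pPrimeCore_coprime p
  obtain ⟨K, hKdef⟩ : ∃ K : Subgroup G, K = Kb.comap (QuotientGroup.mk' V) := ⟨_, rfl⟩
  haveI hKn : K.Normal := by rw [hKdef]; exact hKbn.comap _
  have hVK : V ≤ K := by
    intro v hv
    rw [hKdef, Subgroup.mem_comap]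
    have : (QuotientGroup.mk' V) v = 1 := (QuotientGroup.eq_one_iff v).mpr hv
    rw [this]; exact Kb.one_mem
  have hKp : ∀ k ∈ K, ∀ n : ℕ, k ^ p ^ n = 1 → k ∈ V := by
    intro k hk n hkn
    rw [hKdef, Subgroup.mem_comap] at hk
    have h1 : ((QuotientGroup.mk' V) k) ^ p ^ n = 1 := by rw [← map_pow, hkn, map_one]
    have h2 : orderOf ((QuotientGroup.mk' V) k) ∣ p ^ n := orderOf_dvd_of_pow_eq_one h1
    obtain ⟨j, -, hj⟩ := (Nat.dvd_prime_pow hp.out).mp h2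
    have h3 := Cfsg.Agent.Lib.Helper6.eq_one_of_pElement_of_coprime_card hKbc hk ⟨j, hj⟩
    exact (QuotientGroup.eq_one_iff k).mp h3
  by_contra hxV
  obtain ⟨P, hxP, hP⟩ := hx
  have hVP : V ≤ (P : Subgroup G) := by rw [hVdef]; exact Cfsg.Agent.Lib.Helper6.pCore_le_sylow P
  -- x acts as a transvection
  have hTV : TV V x (x ^ p) := by
    refine ⟨hxp, ((Commute.refl x).pow_right p).eq, ?_⟩
    intro v hv
    obtain ⟨j, hj⟩ := Subgroup.mem_zpowers_iff.mp (hP v (hVP hv))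
    have h1 : x ^ (j - 1) ∈ V := by
      have : x ^ (j - 1) = v * (x * v⁻¹ * x⁻¹) := by
        rw [zpow_sub, zpow_one, hj]; group
      rw [this]
      exact V.mul_mem hv (hVn.conj_mem _ (V.inv_mem hv) x)
    have h2 : (p : ℤ) ∣ j - 1 := by
      by_contra hnd
      have hpi : Prime (p : ℤ) := Nat.prime_iff_prime_int.mp hp.out
      obtain ⟨s, t, hst⟩ := (Prime.coprime_iff_not_dvd hpi).mpr hnd
      apply hxV
      have : x = (x ^ p) ^ s * (x ^ (j - 1)) ^ t := by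
        rw [← zpow_natCast x p, ← zpow_mul, ← zpow_mul, ← zpow_add]
        have : (p : ℤ) * s + (j - 1) * t = 1 := by linear_combination hst
        rw [this, zpow_one]
      rw [this]
      exact V.mul_mem (V.zpow_mem hxp s) (V.zpow_mem h1 t)
    obtain ⟨e, he⟩ := h2
    refine Subgroup.mem_zpowers_iff.mpr ⟨-e, ?_⟩
    have h3 : x * v * x⁻¹ * v⁻¹ = (x ^ (j - 1))⁻¹ := by
      rw [zpow_sub, zpow_one, hj]; group
    rw [h3, he, zpow_neg, ← zpow_natCast x p, ← zpow_mul]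
  have hxK : x ∉ K := by
    intro hxK
    obtain ⟨n, hn⟩ := P.2 ⟨x, hxP⟩
    have hn' : x ^ p ^ n = 1 := by
      have := congrArg Subtype.val hn
      simpa using this
    exact hxV (hKp x hxK n hn')
  have hπx : (QuotientGroup.mk' V) x ∉ Subgroup.centralizer (Kb : Set (G ⧸ V)) := by
    intro hc
    apply hxK
    rw [hKdef, Subgroup.mem_comap]
    exact hCK hc
  rw [Subgroup.mem_centralizer_iff] at hπx
  push Not at hπx
  obtain ⟨gb, hgb, hne⟩ := hπx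
  obtain ⟨g, rfl⟩ := QuotientGroup.mk'_surjective V gb
  have hgK : g ∈ K := by rw [hKdef, Subgroup.mem_comap]; exact hgb
  rcases core V K hVK hVp hVc hCV hKp hTV hgK with hc | ⟨hp2, hinv⟩
  · apply hne
    have h1 : (QuotientGroup.mk' V) (x⁻¹ * (g * x * g⁻¹)) = 1 :=
      (QuotientGroup.eq_one_iff _).mpr hc
    rw [map_mul, map_mul, map_mul, map_inv, map_inv] at h1
    obtain ⟨ξ, hξ⟩ : ∃ ξ, ξ = (QuotientGroup.mk' V) x := ⟨_, rfl⟩
    obtain ⟨γ, hγ⟩ : ∃ γ, γ = (QuotientGroup.mk' V) g := ⟨_, rfl⟩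
    rw [← hξ, ← hγ] at h1 ⊢
    calc γ * ξ = ξ * (ξ⁻¹ * (γ * ξ * γ⁻¹)) * γ := by group
      _ = ξ * γ := by rw [h1, mul_one]
  · rcases h with h | h
    · exact h hp2
    · exact h hinv

/-- S3788 when `O_p(G)` is elementary abelian and self-centralizing. -/
theorem mem_of_elemAb [Finite G] {p : ℕ} [hp : Fact p.Prime] (hG : IsPSolvable p G)
    (hVp : ∀ a ∈ pCore p G, a ^ p = 1)
    (hVc : ∀ a ∈ pCore p G, ∀ b ∈ pCore p G, a * b = b * a)
    (hCV : ∀ z : G, (∀ v ∈ pCore p G, z * v = v * z) → z ∈ pCore p G)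
    (h : p ≠ 2 ∨ ¬ Involves (Equiv.Perm (Fin 4)) G) (x : G) (hx : Hyp p x) :
    x ∈ pCore p G := by
  have key : ∀ n : ℕ, ∀ x : G, Hyp p x → x ^ p ^ n ∈ pCore p G → x ∈ pCore p G := by
    intro n
    induction n with
    | zero =>
      intro x _ hx
      simpa using hx
    | succ n ih =>
      intro x hx hxn
      apply step_elemAb hG hVp hVc hCV h x hx
      apply ih (x ^ p) (hx.pow p)
      rw [← pow_mul, ← pow_succ']
      exact hxn
  obtain ⟨P, hxP, hP⟩ := hx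
  obtain ⟨n, hn⟩ := P.2 ⟨x, hxP⟩
  have hn' : x ^ p ^ n = 1 := by
    have := congrArg Subtype.val hn
    simpa using this
  apply key n x ⟨P, hxP, hP⟩
  rw [hn']
  exact Subgroup.one_mem _

end Cfsg.Agent.Lib.Helper7.CycNorm
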