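import Mathlib
import Cfsg.Prelude.Def_Local
import Cfsg.Agent.Lib.Helper7.CycNorm5
import Cfsg.Agent.Lib.Lead.FrattFaith
import Cfsg.Agent.Lib.Lead.Frattini
import Cfsg.Agent.Lib.Lead.Thom11
import Cfsg.Agent.Lib.Helper4.FStarQuot2

set_option autoImplicit false

/-! S3788 when `O_{p'}(G) = 1`: pass to `G/Φ(O_p(G))`. -/

namespace Cfsg.Agent.Lib.Helper7.CycNorm

open Cfsg
open scoped commutatorElement

universe u

variable {G : Type u} [Group G]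

theorem mem_pCore_of_pPrimeCore_bot [Finite G] {p : ℕ} [hp : Fact p.Prime]
    (hG : IsPSolvable p G) (hO : pPrimeCore p G = ⊥)
    (h : p ≠ 2 ∨ ¬ Involves (Equiv.Perm (Fin 4)) G) (x : G) (hx : Hyp p x) :
    x ∈ pCore p G := by
  classical
  obtain ⟨R, hRdef⟩ : ∃ R : Subgroup G, R = pCore p G := ⟨_, rfl⟩
  haveI hRn : R.Normal := by rw [hRdef]; exact Cfsg.Agent.Lib.Lead.pCore_normal p
  have hRp : IsPGroup p R := by rw [hRdef]; exact Cfsg.Agent.Lib.Lead.pCore_isPGroup p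
  obtain ⟨Φ, hΦdef⟩ : ∃ Φ : Subgroup G, Φ = (frattini ↥R).map R.subtype := ⟨_, rfl⟩
  haveI hΦn : Φ.Normal := by
    rw [hΦdef]; exact Cfsg.Agent.Lib.Helper4.FStarQuot.frattini_map_subtype_normal R
  have hΦR : Φ ≤ R := by
    rw [hΦdef]; intro t ht
    obtain ⟨s, _, rfl⟩ := Subgroup.mem_map.mp ht
    exact s.2
  have hΦp : IsPGroup p Φ := hRp.to_le hΦR
  have hcore : pCore p (G ⧸ Φ) = R.map (QuotientGroup.mk' Φ) := by
    rw [Cfsg.Agent.Lib.Helper6.pCore_quotient_of_isPGroup Φ hΦp, hRdef]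
  have hpowΦ : ∀ r ∈ R, r ^ p ∈ Φ := by
    intro r hr
    have := Cfsg.Agent.Lib.Lead.pow_mem_frattini_of_isPGroup hRp (⟨r, hr⟩ : ↥R)
    rw [hΦdef]
    exact ⟨_, this, by simp⟩
  have hcommΦ : ∀ r ∈ R, ∀ s ∈ R, r * s * r⁻¹ * s⁻¹ ∈ Φ := by
    intro r hr s hs
    have h1 : ⁅(⟨r, hr⟩ : ↥R), (⟨s, hs⟩ : ↥R)⁆ ∈ commutator ↥R := by
      rw [commutator_def]
      exact Subgroup.commutator_mem_commutator (Subgroup.mem_top _) (Subgroup.mem_top _)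
    have h2 := Cfsg.Agent.Lib.Lead.commutator_le_frattini_of_isPGroup hRp h1
    rw [hΦdef]
    refine ⟨_, h2, ?_⟩
    simp [commutatorElement_def]
  have hG2 : IsPSolvable p (G ⧸ Φ) := Cfsg.Agent.Lib.Helper7.isPSolvable_quotient hG Φ
  have h2 : p ≠ 2 ∨ ¬ Involves (Equiv.Perm (Fin 4)) (G ⧸ Φ) := by
    rcases h with h | h
    · exact Or.inl h
    · exact Or.inr (fun hi => h (Cfsg.Agent.Lib.Lead.Thom.involves_of_quotient Φ hi))
  have hmem := mem_of_elemAb (G := G ⧸ Φ) hG2 ?_ ?_ ?_ h2 ((QuotientGroup.mk' Φ) x)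
    (hx.map _ (QuotientGroup.mk'_surjective Φ))
  · rw [hcore] at hmem
    obtain ⟨r, hr, hrx⟩ := Subgroup.mem_map.mp hmem
    have h3 : r⁻¹ * x ∈ Φ := by
      rw [← QuotientGroup.eq_one_iff (N := Φ)]
      have : ((r⁻¹ * x : G) : G ⧸ Φ) = ((QuotientGroup.mk' Φ) r)⁻¹ * (QuotientGroup.mk' Φ) x := by
        simp
      rw [this, hrx]; group
    have : x = r * (r⁻¹ * x) := by group
    rw [this, ← hRdef]
    exact R.mul_mem hr (hΦR h3)
  · -- exponent p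
    intro a ha
    rw [hcore] at ha
    obtain ⟨r, hr, rfl⟩ := Subgroup.mem_map.mp ha
    rw [← map_pow]
    exact (QuotientGroup.eq_one_iff _).mpr (hpowΦ r hr)
  · -- commutative
    intro a ha b hb
    rw [hcore] at ha hb
    obtain ⟨r, hr, rfl⟩ := Subgroup.mem_map.mp ha
    obtain ⟨s, hs, rfl⟩ := Subgroup.mem_map.mp hb
    have h1 : (QuotientGroup.mk' Φ) (r * s * r⁻¹ * s⁻¹) = 1 :=
      (QuotientGroup.eq_one_iff _).mpr (hcommΦ r hr s hs)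
    rw [map_mul, map_mul, map_mul, map_inv, map_inv] at h1
    obtain ⟨ρ, hρ⟩ : ∃ ρ, ρ = (QuotientGroup.mk' Φ) r := ⟨_, rfl⟩
    obtain ⟨σ, hσ⟩ : ∃ σ, σ = (QuotientGroup.mk' Φ) s := ⟨_, rfl⟩
    rw [← hρ, ← hσ] at h1 ⊢
    calc ρ * σ = (ρ * σ * ρ⁻¹ * σ⁻¹) * σ * ρ := by group
      _ = σ * ρ := by rw [h1, one_mul]
  · -- self-centralizing
    intro zb hzb
    obtain ⟨z, rfl⟩ := QuotientGroup.mk'_surjective Φ zb
    rw [hcore]
    apply Subgroup.mem_map_of_mem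
    rw [hRdef]
    apply Cfsg.Agent.Lib.Lead.FrattFaith.mem_pCore_of_trivial_on_frattini_quotient hG hO z
    intro r hr
    rw [← hRdef] at hr ⊢
    rw [← hΦdef, ← QuotientGroup.eq_one_iff (N := Φ)]
    have h1 := hzb ((QuotientGroup.mk' Φ) r) (by rw [hcore]; exact Subgroup.mem_map_of_mem _ hr)
    have : ((z * r * z⁻¹ * r⁻¹ : G) : G ⧸ Φ) =
        (QuotientGroup.mk' Φ) z * (QuotientGroup.mk' Φ) r * ((QuotientGroup.mk' Φ) z)⁻¹ *
          ((QuotientGroup.mk' Φ) r)⁻¹ := by simp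
    rw [this, h1]; group

end Cfsg.Agent.Lib.Helper7.CycNorm
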