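import Mathlib

set_option autoImplicit false

/-!
An operator `T` on an `n`-dimensional complex space with `T ^ n = 1` and `tr (T ^ k) = 0` for
`0 < k < n` has `n` distinct eigenvalues; its commutant is commutative, and an operator `S`
commuting with `T` with `tr (S T ^ k) = 0` for all `k < n` vanishes.
-/

namespace Cfsg.Agent.Lib.Helper7.CycComm

open Finset

variable {V : Type*} [AddCommGroup V] [Module ℂ V] [FiniteDimensional ℂ V]

/-- hypotheses on the operator -/
structure Hyp (n : ℕ) (T : Module.End ℂ V) : Prop where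
  pos : 0 < n
  pow : T ^ n = 1
  tr_zero : LinearMap.trace ℂ V (1 : Module.End ℂ V) = n
  tr : ∀ k, 0 < k → k < n → LinearMap.trace ℂ V (T ^ k) = 0

/-- a primitive `n`-th root of unity -/
noncomputable def zeta (n : ℕ) : ℂ := Complex.exp (2 * Real.pi * Complex.I / n)

theorem zeta_prim {n : ℕ} (hn : 0 < n) : IsPrimitiveRoot (zeta n) n :=
  Complex.isPrimitiveRoot_exp n hn.ne'

/-- the spectral idempotents -/
noncomputable def e (n : ℕ) (T : Module.End ℂ V) (j : ℕ) : Module.End ℂ V :=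
  (n : ℂ)⁻¹ • ∑ k ∈ range n, ((zeta n) ^ (j * k))⁻¹ • T ^ k

variable {n : ℕ} {T : Module.End ℂ V}

theorem zeta_ne_zero (hn : 0 < n) : zeta n ≠ 0 := (zeta_prim hn).ne_zero hn.ne'

theorem T_mul_e (h : Hyp n T) (j : ℕ) : T * e n T j = (zeta n) ^ j • e n T j := by
  have hz := zeta_ne_zero h.pos
  unfold e
  rw [mul_smul_comm, smul_comm, Finset.mul_sum]
  congr 1
  have hstep : ∀ k, T * (((zeta n) ^ (j * k))⁻¹ • T ^ k)
      = (zeta n) ^ j • (((zeta n) ^ (j * (k + 1)))⁻¹ • T ^ (k + 1)) := by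
    intro k
    rw [mul_smul_comm, ← pow_succ', smul_smul]
    congr 1
    rw [mul_add, mul_one, pow_add]
    field_simp
  rw [Finset.sum_congr rfl (fun k _ => hstep k), ← Finset.smul_sum]
  congr 1
  have h1 := Finset.sum_range_succ (fun k => ((zeta n) ^ (j * k))⁻¹ • T ^ k) n
  have h2 := Finset.sum_range_succ' (fun k => ((zeta n) ^ (j * k))⁻¹ • T ^ k) n
  rw [h1] at h2
  have h3 : ((zeta n) ^ (j * n))⁻¹ • T ^ n = ((zeta n) ^ (j * 0))⁻¹ • T ^ 0 := by
    rw [h.pow, mul_comm j n, pow_mul, (zeta_prim h.pos).pow_eq_one, one_pow, mul_zero, pow_zero,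
      pow_zero]
  rw [h3] at h2
  exact (add_right_cancel h2).symm

theorem T_pow_mul_e (h : Hyp n T) (j k : ℕ) :
    T ^ k * e n T j = ((zeta n) ^ j) ^ k • e n T j := by
  induction k with
  | zero => simp
  | succ k ih =>
    rw [pow_succ, mul_assoc, T_mul_e h, mul_smul_comm, ih, smul_smul, pow_succ, mul_comm]

theorem e_idem (h : Hyp n T) (j : ℕ) : e n T j * e n T j = e n T j := by
  have hz := zeta_ne_zero h.pos
  have hn : (n : ℂ) ≠ 0 := Nat.cast_ne_zero.mpr h.pos.ne'
  have hdef : e n T j = (n : ℂ)⁻¹ • ∑ k ∈ range n, ((zeta n) ^ (j * k))⁻¹ • T ^ k := rfl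
  nth_rewrite 1 [hdef]
  rw [smul_mul_assoc, Finset.sum_mul]
  have hstep : ∀ k ∈ range n, (((zeta n) ^ (j * k))⁻¹ • T ^ k) * e n T j = e n T j := by
    intro k _
    rw [smul_mul_assoc, T_pow_mul_e h, smul_smul, ← pow_mul, inv_mul_cancel₀ (pow_ne_zero _ hz),
      one_smul]
  rw [Finset.sum_congr rfl hstep, Finset.sum_const, card_range, ← Nat.cast_smul_eq_nsmul ℂ,
    smul_smul, inv_mul_cancel₀ hn, one_smul]

theorem trace_e (h : Hyp n T) (j : ℕ) : LinearMap.trace ℂ V (e n T j) = 1 := by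
  have hn : (n : ℂ) ≠ 0 := Nat.cast_ne_zero.mpr h.pos.ne'
  unfold e
  rw [map_smul, map_sum]
  have hstep : ∀ k ∈ range n, LinearMap.trace ℂ V (((zeta n) ^ (j * k))⁻¹ • T ^ k)
      = if k = 0 then (n : ℂ) else 0 := by
    intro k hk
    rw [map_smul]
    split_ifs with hk0
    · subst hk0
      rw [mul_zero, pow_zero, pow_zero, inv_one, one_smul, h.tr_zero]
    · rw [h.tr k (Nat.pos_of_ne_zero hk0) (mem_range.mp hk), smul_zero]
  rw [Finset.sum_congr rfl hstep, Finset.sum_ite_eq' (range n) 0, if_pos (mem_range.mpr h.pos),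
    smul_eq_mul, inv_mul_cancel₀ hn]

theorem geom_zero (h : Hyp n T) (k : ℕ) (hk0 : 0 < k) (hkn : k < n) :
    ∑ j ∈ range n, ((zeta n) ^ (j * k))⁻¹ = 0 := by
  have hp := zeta_prim h.pos
  have hx : ((zeta n) ^ k)⁻¹ ≠ 1 := by
    intro hx
    rw [inv_eq_one] at hx
    exact hp.pow_ne_one_of_pos_of_lt hk0.ne' hkn hx
  have h1 : ∀ j ∈ range n, ((zeta n) ^ (j * k))⁻¹ = (((zeta n) ^ k)⁻¹) ^ j := by
    intro j _
    rw [mul_comm, pow_mul, inv_pow]
  rw [Finset.sum_congr rfl h1]
  have h2 := geom_sum_mul (((zeta n) ^ k)⁻¹) n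
  have h3 : (((zeta n) ^ k)⁻¹) ^ n = 1 := by
    rw [inv_pow, ← pow_mul, mul_comm, pow_mul, hp.pow_eq_one, one_pow, inv_one]
  rw [h3, sub_self] at h2
  rcases mul_eq_zero.mp h2 with h4 | h4
  · exact h4
  · exact absurd (sub_eq_zero.mp h4) hx

theorem sum_e (h : Hyp n T) : ∑ j ∈ range n, e n T j = 1 := by
  have hn : (n : ℂ) ≠ 0 := Nat.cast_ne_zero.mpr h.pos.ne'
  unfold e
  rw [← Finset.smul_sum, Finset.sum_comm]
  have hstep : ∀ k ∈ range n, ∑ j ∈ range n, ((zeta n) ^ (j * k))⁻¹ • T ^ k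
      = if k = 0 then (n : ℂ) • (1 : Module.End ℂ V) else 0 := by
    intro k hk
    rw [← Finset.sum_smul]
    split_ifs with hk0
    · subst hk0
      simp
    · rw [geom_zero h k (Nat.pos_of_ne_zero hk0) (mem_range.mp hk), zero_smul]
  rw [Finset.sum_congr rfl hstep, Finset.sum_ite_eq' (range n) 0, if_pos (mem_range.mpr h.pos),
    smul_smul, inv_mul_cancel₀ hn, one_smul]

theorem commute_e {S : Module.End ℂ V} (hS : Commute S T) (j : ℕ) : Commute S (e n T j) := by
  unfold e
  apply Commute.smul_right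
  apply Commute.sum_right
  intro k _
  apply Commute.smul_right
  exact hS.pow_right k

theorem finrank_range_e (h : Hyp n T) (j : ℕ) :
    Module.finrank ℂ (LinearMap.range (e n T j)) = 1 := by
  have hid : IsIdempotentElem (e n T j) := e_idem h j
  have h1 := ((LinearMap.isProj_range_iff_isIdempotentElem _).mpr hid).trace
  rw [trace_e h j] at h1
  exact_mod_cast h1.symm

/-- an operator commuting with `T` acts as a scalar on each spectral idempotent -/
theorem exists_scalar (h : Hyp n T) {S : Module.End ℂ V} (hS : Commute S T) (j : ℕ) :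
    ∃ c : ℂ, S * e n T j = c • e n T j := by
  obtain ⟨v, hv0, hv⟩ := finrank_eq_one_iff'.mp (finrank_range_e h j)
  have hSe := commute_e (n := n) hS j
  have hid : e n T j * e n T j = e n T j := e_idem h j
  -- S v ∈ range
  have hSv : S (v : V) ∈ LinearMap.range (e n T j) := by
    obtain ⟨w, hw⟩ := v.2
    refine ⟨S w, ?_⟩
    rw [← hw]
    have := congrArg (fun f : Module.End ℂ V => f w) hSe.eq
    simpa [Module.End.mul_apply] using this.symm
  obtain ⟨c, hc⟩ := hv ⟨S (v : V), hSv⟩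
  have hc' : c • (v : V) = S (v : V) := congrArg Subtype.val hc
  refine ⟨c, ?_⟩
  apply LinearMap.ext
  intro w
  obtain ⟨a, ha⟩ := hv ⟨e n T j w, LinearMap.mem_range_self _ w⟩
  have ha' : a • (v : V) = e n T j w := congrArg Subtype.val ha
  rw [Module.End.mul_apply, LinearMap.smul_apply, ← ha', map_smul, ← hc', smul_comm]

theorem commute_of_commute (h : Hyp n T) {S S' : Module.End ℂ V} (hS : Commute S T)
    (hS' : Commute S' T) : S * S' = S' * S := by
  choose c hc using exists_scalar h hS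
  choose c' hc' using exists_scalar h hS'
  have e1 : S * S' = ∑ j ∈ range n, (c' j * c j) • e n T j := by
    conv_lhs => rw [← mul_one (S * S'), ← sum_e h, Finset.mul_sum]
    apply Finset.sum_congr rfl
    intro j _
    rw [mul_assoc, hc', mul_smul_comm, hc, smul_smul]
  have e2 : S' * S = ∑ j ∈ range n, (c' j * c j) • e n T j := by
    conv_lhs => rw [← mul_one (S' * S), ← sum_e h, Finset.mul_sum]
    apply Finset.sum_congr rfl
    intro j _
    rw [mul_assoc, hc, mul_smul_comm, hc', smul_smul, mul_comm]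
  rw [e1, e2]

theorem eq_zero_of_trace (h : Hyp n T) {S : Module.End ℂ V} (hS : Commute S T)
    (htr : ∀ k, k < n → LinearMap.trace ℂ V (S * T ^ k) = 0) : S = 0 := by
  choose c hc using exists_scalar h hS
  have hcz : ∀ j, c j = 0 := by
    intro j
    have h1 : LinearMap.trace ℂ V (S * e n T j) = c j := by
      rw [hc, map_smul, trace_e h, smul_eq_mul, mul_one]
    rw [← h1]
    unfold e
    rw [mul_smul_comm, map_smul, Finset.mul_sum, map_sum]
    have : ∀ k ∈ range n, LinearMap.trace ℂ V (S * (((zeta n) ^ (j * k))⁻¹ • T ^ k)) = 0 := by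
      intro k hk
      rw [mul_smul_comm, map_smul, htr k (mem_range.mp hk), smul_zero]
    rw [Finset.sum_congr rfl this, Finset.sum_const_zero, smul_zero]
  have : S = ∑ j ∈ range n, S * e n T j := by
    rw [← Finset.mul_sum, sum_e h, mul_one]
  rw [this]
  apply Finset.sum_eq_zero
  intro j _
  rw [hc, hcz, zero_smul]

end Cfsg.Agent.Lib.Helper7.CycComm
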