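import Mathlib
import Cfsg.Agent.Lib.Helper3.Di6
import Cfsg.Agent.Lib.Helper6.PPrimeCore
import Cfsg.Agent.Lib.Helper7.ABSW41

/-! Groups with an involution whose centralizer is dihedral of order 8 (S3035), part 1:
the structure of `C = C(z)`, which is a self-normalizing Sylow 2-subgroup. -/

set_option autoImplicit false

namespace Cfsg.Agent.Lib.Helper7.D8Cent

open Cfsg.Agent.Lib.Helper3

variable {G : Type*} [Group G] {z : G}
  (e : ↥(Subgroup.centralizer ({z} : Set G)) ≃* DihedralGroup 4)

theorem z_mem : z ∈ Subgroup.centralizer ({z} : Set G) :=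
  Subgroup.mem_centralizer_singleton_iff.2 rfl

theorem zmod4_two_mul : ∀ i : ZMod 4, 2 * i = 0 → i ≠ 0 → i = 2 := by decide

theorem zmod4_sub_ne : ∀ i : ZMod 4, i - 1 ≠ i + 1 := by decide

theorem zmod4_neg_eq : ∀ i : ZMod 4, -i = i → i = 0 ∨ i = 2 := by decide

/-- central elements of `C` -/
theorem central_cases {y : G} (hy : y ∈ Subgroup.centralizer ({z} : Set G))
    (hc : ∀ c ∈ Subgroup.centralizer ({z} : Set G), y * c = c * y) : y = 1 ∨ y = diR e 2 := by
  rcases di_cases e y hy with ⟨i, rfl⟩ | ⟨i, rfl⟩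
  · have h1 := hc _ (diS_mem e 0)
    rw [diR_mul_diS, diS_mul_diR, diS_inj] at h1
    have h2 : -i = i := by
      have : (0 : ZMod 4) - i = 0 + i := h1
      simpa using this
    rcases zmod4_neg_eq i h2 with rfl | rfl
    · left; exact diR_zero e
    · right; rfl
  · exfalso
    have h1 := hc _ (diR_mem e 1)
    rw [diS_mul_diR, diR_mul_diS, diS_inj] at h1
    exact zmod4_sub_ne i h1.symm

include e in
theorem z_eq (hz : orderOf z = 2) : z = diR e 2 := by
  have h1 : ∀ c ∈ Subgroup.centralizer ({z} : Set G), z * c = c * z := by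
    intro c hc
    exact (Subgroup.mem_centralizer_singleton_iff.1 hc).symm
  rcases central_cases e z_mem h1 with h | h
  · rw [h, orderOf_one] at hz; omega
  · exact h

theorem diR_two_mul_self : diR e 2 * diR e 2 = 1 := by
  rw [diR_mul_diR]
  have : (2 : ZMod 4) + 2 = 0 := by decide
  rw [this, diR_zero]

/-- involutions of `C` -/
theorem involution_cases (hz : orderOf z = 2) {w : G}
    (hw : w ∈ Subgroup.centralizer ({z} : Set G)) (hww : w * w = 1) (hw1 : w ≠ 1) :
    w = z ∨ ∃ i, w = diS e i := by
  have h := di_involution_cases e 2 (by decide) (by decide) w hw hww hw1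
  rw [← z_eq e hz] at h
  exact h

include e in
theorem card_C : Nat.card (Subgroup.centralizer ({z} : Set G)) = 8 := by
  rw [Nat.card_congr e.toEquiv, DihedralGroup.nat_card]

/-- every element of `C` is a product of at most two involutions `diS`. -/
theorem mem_of_diS_mem {N : Subgroup G} (h : ∀ i, diS e i ∈ N) :
    Subgroup.centralizer ({z} : Set G) ≤ N := by
  intro x hx
  rcases di_cases e x hx with ⟨i, rfl⟩ | ⟨i, rfl⟩
  · have : diR e i = diS e 0 * diS e i := by rw [diS_mul_diS, sub_zero]
    rw [this]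
    exact N.mul_mem (h 0) (h i)
  · exact h i

include e in
/-- `C` is self-normalizing -/
theorem normalizer_eq (hz : orderOf z = 2) :
    Subgroup.normalizer ((Subgroup.centralizer ({z} : Set G) : Subgroup G) : Set G) =
      Subgroup.centralizer ({z} : Set G) := by
  apply le_antisymm _ Subgroup.le_normalizer
  intro n hn
  rw [Subgroup.mem_normalizer_iff] at hn
  have h1 : n * z * n⁻¹ ∈ Subgroup.centralizer ({z} : Set G) := (hn z).1 z_mem
  have h2 : ∀ c ∈ Subgroup.centralizer ({z} : Set G), (n * z * n⁻¹) * c = c * (n * z * n⁻¹) := by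
    intro c hc
    have h3 : n⁻¹ * c * n ∈ Subgroup.centralizer ({z} : Set G) := by
      rw [hn]
      have : n * (n⁻¹ * c * n) * n⁻¹ = c := by group
      rw [this]; exact hc
    rw [Subgroup.mem_centralizer_singleton_iff] at h3
    calc n * z * n⁻¹ * c = n * (z * (n⁻¹ * c * n)) * n⁻¹ := by group
      _ = n * ((n⁻¹ * c * n) * z) * n⁻¹ := by rw [h3]
      _ = c * (n * z * n⁻¹) := by group
  rcases central_cases e h1 h2 with h | h
  · exfalso
    have : z = 1 := by
      calc z = n⁻¹ * (n * z * n⁻¹) * n := by group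
        _ = 1 := by rw [h]; group
    rw [this, orderOf_one] at hz; omega
  · rw [← z_eq e hz] at h
    rw [Subgroup.mem_centralizer_singleton_iff]
    calc n * z = (n * z * n⁻¹) * n := by group
      _ = z * n := by rw [h]

variable [Finite G]

include e in
/-- `C` is a Sylow 2-subgroup -/
theorem exists_sylow (hz : orderOf z = 2) :
    ∃ P : Sylow 2 G, (P : Subgroup G) = Subgroup.centralizer ({z} : Set G) := by
  haveI : Fact (Nat.Prime 2) := ⟨Nat.prime_two⟩
  have hC : IsPGroup 2 (Subgroup.centralizer ({z} : Set G)) :=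
    IsPGroup.of_card (n := 3) (by rw [card_C e]; norm_num)
  obtain ⟨P, hCP⟩ := hC.exists_le_sylow
  refine ⟨P, le_antisymm ?_ hCP⟩
  -- the centre of `P` is nontrivial and lies in the centre of `C`
  have hzP : z ∈ (P : Subgroup G) := hCP z_mem
  haveI : Nontrivial (P : Subgroup G) := ⟨⟨⟨z, hzP⟩, 1, by
    intro h
    have : z = 1 := congrArg Subtype.val h
    rw [this, orderOf_one] at hz; omega⟩⟩
  haveI := P.isPGroup'.center_nontrivial
  obtain ⟨y, hy1⟩ := exists_ne (1 : Subgroup.center (P : Subgroup G))
  have hycomm : ∀ p ∈ (P : Subgroup G), (y : G) * p = p * (y : G) := by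
    intro p hp
    have := Subgroup.mem_center_iff.1 y.2 ⟨p, hp⟩
    exact (congrArg Subtype.val this).symm
  have hyC : ((y : (P : Subgroup G)) : G) ∈ Subgroup.centralizer ({z} : Set G) := by
    rw [Subgroup.mem_centralizer_singleton_iff]
    exact hycomm z hzP
  rcases central_cases e hyC (fun c hc => hycomm c (hCP hc)) with h | h
  · exfalso
    apply hy1
    apply Subtype.ext
    apply Subtype.ext
    exact h
  · rw [← z_eq e hz] at h
    intro p hp
    rw [Subgroup.mem_centralizer_singleton_iff]
    have := hycomm p hp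
    rw [h] at this
    exact this.symm

end Cfsg.Agent.Lib.Helper7.D8Cent
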