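import Mathlib
import Cfsg.Agent.S0215
import Cfsg.Agent.Lib.Helper7.D8Cent1

/-! Groups with an involution whose centralizer is dihedral of order 8 (S3035), part 2:
the isolated case (Glauberman's Z*-theorem) and the triviality of the core otherwise. -/

set_option autoImplicit false

namespace Cfsg.Agent.Lib.Helper7.D8Cent

open Cfsg.Agent.Lib.Helper3

variable {G : Type*} [Group G] {z : G}

/-- an involution inverting an element of odd order is conjugate to its product with it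
(by an element of the cyclic group generated) -/
theorem conj_of_inverts {n : G} (hzz : z * z = 1) (hinv : z * n * z⁻¹ = n⁻¹)
    (hodd : Odd (orderOf n)) : ∃ k ∈ Subgroup.zpowers n, k * z * k⁻¹ = n * z := by
  obtain ⟨j, hj⟩ := hodd
  refine ⟨n ^ (j + 1), Subgroup.pow_mem _ (Subgroup.mem_zpowers n) _, ?_⟩
  have hzinv : z⁻¹ = z := inv_eq_of_mul_eq_one_right hzz
  have h1 : z * n ^ (j + 1) * z⁻¹ = (n ^ (j + 1))⁻¹ := by
    have : z * n ^ (j + 1) * z⁻¹ = (z * n * z⁻¹) ^ (j + 1) := by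
      rw [conj_pow]
    rw [this, hinv, inv_pow]
  have h2 : n ^ (j + 1) * n ^ (j + 1) = n := by
    rw [← pow_add]
    have : j + 1 + (j + 1) = orderOf n + 1 := by omega
    rw [this, pow_succ, pow_orderOf_eq_one, one_mul]
  have h3 : z * (n ^ (j + 1))⁻¹ * z⁻¹ = n ^ (j + 1) := by
    have : z * (n ^ (j + 1))⁻¹ * z⁻¹ = (z * n ^ (j + 1) * z⁻¹)⁻¹ := by group
    rw [this, h1, inv_inv]
  calc n ^ (j + 1) * z * (n ^ (j + 1))⁻¹
      = n ^ (j + 1) * (z * (n ^ (j + 1))⁻¹ * z⁻¹) * z := by group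
    _ = n ^ (j + 1) * n ^ (j + 1) * z := by rw [h3]
    _ = n * z := by rw [h2]

variable [Finite G]

theorem odd_orderOf_of_mem {N : Subgroup G} (hN : Odd (Nat.card N)) {n : G} (hn : n ∈ N) :
    Odd (orderOf n) := by
  have h1 : orderOf n ∣ Nat.card N := by
    have := orderOf_dvd_natCard (⟨n, hn⟩ : N)
    rwa [Subgroup.orderOf_mk] at this
  exact Odd.of_dvd_nat hN h1

theorem oddCore_odd : Odd (Nat.card (Cfsg.oddCore G)) :=
  Nat.coprime_two_right.1 (Cfsg.Agent.Lib.Helper6.pPrimeCore_coprime 2)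

instance oddCore_normal : (Cfsg.oddCore G).Normal :=
  (Cfsg.Agent.Lib.Helper6.pPrimeCore_mem_set 2).1

/-- the isolated case -/
theorem sup_oddCore_eq_top (e : ↥(Subgroup.centralizer ({z} : Set G)) ≃* DihedralGroup 4)
    (hz : orderOf z = 2)
    (hiso : ∀ g : G, g * z * g⁻¹ ∈ Subgroup.centralizer ({z} : Set G) → g * z * g⁻¹ = z) :
    Subgroup.centralizer ({z} : Set G) ⊔ Cfsg.oddCore G = ⊤ := by
  obtain ⟨P, hP⟩ := exists_sylow e hz
  have hzP : z ∈ P := by
    show z ∈ (P : Subgroup G)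
    rw [hP]; exact z_mem
  obtain ⟨N, hNn, hNodd, hN⟩ := Cfsg.Agent.S0215.result P z hz hzP (by
    intro g hg
    apply hiso g
    rw [← hP]; exact hg)
  have hNO : N ≤ Cfsg.oddCore G :=
    Cfsg.Agent.Lib.Helper6.le_pPrimeCore hNn (Nat.coprime_two_right.2 hNodd)
  have hzz : z * z = 1 := by rw [← pow_two, ← hz, pow_orderOf_eq_one]
  have hzinv : z⁻¹ = z := inv_eq_of_mul_eq_one_right hzz
  rw [eq_top_iff]
  intro g _
  -- `n = g⁻¹ z g z⁻¹` lies in `N` and is inverted by `z`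
  have hn : g⁻¹ * z * g * z⁻¹ ∈ N := by
    have h1 := hN g⁻¹
    have h2 := N.inv_mem h1
    have : (z * g⁻¹ * z⁻¹ * g⁻¹⁻¹)⁻¹ = g⁻¹ * z * g * z⁻¹ := by group
    rw [this] at h2
    exact h2
  have hinv : z * (g⁻¹ * z * g * z⁻¹) * z⁻¹ = (g⁻¹ * z * g * z⁻¹)⁻¹ := by
    have e1 : z * (g⁻¹ * z * g * z⁻¹) * z⁻¹ = z * g⁻¹ * z * g * (z⁻¹ * z⁻¹) := by group
    have e2 : (g⁻¹ * z * g * z⁻¹)⁻¹ = z * g⁻¹ * z⁻¹ * g := by group
    rw [e1, e2, hzinv, hzz, mul_one]
  obtain ⟨k, hk, hkz⟩ := conj_of_inverts hzz hinv (odd_orderOf_of_mem hNodd hn)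
  have hkN : k ∈ N := by
    have : Subgroup.zpowers (g⁻¹ * z * g * z⁻¹) ≤ N := by
      rw [Subgroup.zpowers_le]; exact hn
    exact this hk
  have hkz' : k * z * k⁻¹ = g⁻¹ * z * g := by
    rw [hkz]; group
  have hgk : g * k ∈ Subgroup.centralizer ({z} : Set G) := by
    rw [Subgroup.mem_centralizer_singleton_iff]
    calc g * k * z = g * (k * z * k⁻¹) * k := by group
      _ = g * (g⁻¹ * z * g) * k := by rw [hkz']
      _ = z * (g * k) := by group
  have : g = (g * k) * k⁻¹ := by group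
  rw [this]
  exact Subgroup.mul_mem _ ((le_sup_left : _ ≤ Subgroup.centralizer ({z} : Set G) ⊔ Cfsg.oddCore G) hgk)
    ((le_sup_right : Cfsg.oddCore G ≤ _) (Subgroup.inv_mem _ (hNO hkN)))

/-- an involution with centralizer of `2`-power order inverts the core -/
theorem inverts_oddCore {w : G} (hw : orderOf w = 2)
    (hC : IsPGroup 2 (Subgroup.centralizer ({w} : Set G))) :
    ∀ x ∈ Cfsg.oddCore G, w * x * w⁻¹ = x⁻¹ := by
  haveI : Fact (Nat.Prime 2) := ⟨Nat.prime_two⟩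
  have hww : w * w = 1 := by rw [← pow_two, ← hw, pow_orderOf_eq_one]
  have hwinv : w⁻¹ = w := inv_eq_of_mul_eq_one_right hww
  have hinf : Subgroup.centralizer ({w} : Set G) ⊓ Cfsg.oddCore G = ⊥ :=
    Cfsg.Agent.Lib.Helper6.isPGroup_inf_coprime_eq_bot
      (Cfsg.Agent.Lib.Helper6.pPrimeCore_coprime 2) hC
  let φ : MulAut (Cfsg.oddCore G) := MulAut.conjNormal w
  have hφ : ∀ x : Cfsg.oddCore G, ((φ x : Cfsg.oddCore G) : G) = w * x * w⁻¹ := fun x => rfl
  have hfix : MonoidHom.FixedPointFree φ := by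
    intro x hx
    have h1 : w * (x : G) * w⁻¹ = x := by rw [← hφ, hx]
    have h2 : (x : G) ∈ Subgroup.centralizer ({w} : Set G) ⊓ Cfsg.oddCore G := by
      refine Subgroup.mem_inf.2 ⟨?_, x.2⟩
      rw [Subgroup.mem_centralizer_singleton_iff]
      calc (x : G) * w = (w * (x : G) * w⁻¹) * w := by rw [h1]
        _ = w * x := by group
    rw [hinf, Subgroup.mem_bot] at h2
    exact Subtype.ext h2
  have hinvol : Function.Involutive φ := by
    intro x
    apply Subtype.ext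
    rw [hφ, hφ]
    have : w * (w * (x : G) * w⁻¹) * w⁻¹ = (w * w) * x * (w * w)⁻¹ := by group
    rw [this, hww]; group
  have key := MonoidHom.FixedPointFree.coe_eq_inv_of_involutive hfix hinvol
  intro x hx
  have := congrFun key ⟨x, hx⟩
  have h3 := congrArg Subtype.val this
  rw [hφ] at h3
  exact h3

/-- in the non-isolated case the core is trivial -/
theorem oddCore_eq_bot (e : ↥(Subgroup.centralizer ({z} : Set G)) ≃* DihedralGroup 4)
    (hz : orderOf z = 2) (g : G)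
    (hg : g * z * g⁻¹ ∈ Subgroup.centralizer ({z} : Set G)) (hgz : g * z * g⁻¹ ≠ z) :
    Cfsg.oddCore G = ⊥ := by
  haveI : Fact (Nat.Prime 2) := ⟨Nat.prime_two⟩
  have hC : IsPGroup 2 (Subgroup.centralizer ({z} : Set G)) :=
    IsPGroup.of_card (n := 3) (by rw [card_C e]; norm_num)
  have hzz : z * z = 1 := by rw [← pow_two, ← hz, pow_orderOf_eq_one]
  -- every conjugate of `z` inverts the core
  have hconj : ∀ h : G, ∀ x ∈ Cfsg.oddCore G, (h * z * h⁻¹) * x * (h * z * h⁻¹)⁻¹ = x⁻¹ := by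
    intro h x hx
    have hx' : h⁻¹ * x * h ∈ Cfsg.oddCore G := by
      have := (oddCore_normal (G := G)).conj_mem x hx h⁻¹
      simpa using this
    have h1 := inverts_oddCore hz hC _ hx'
    calc (h * z * h⁻¹) * x * (h * z * h⁻¹)⁻¹ = h * (z * (h⁻¹ * x * h) * z⁻¹) * h⁻¹ := by group
      _ = h * (h⁻¹ * x * h)⁻¹ * h⁻¹ := by rw [h1]
      _ = x⁻¹ := by group
  -- `u = g z g⁻¹ = diS i`
  have hu1 : g * z * g⁻¹ ≠ 1 := by
    intro h
    have : z = 1 := by
      calc z = g⁻¹ * (g * z * g⁻¹) * g := by group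
        _ = 1 := by rw [h]; group
    rw [this, orderOf_one] at hz; omega
  have huu : (g * z * g⁻¹) * (g * z * g⁻¹) = 1 := by
    have : (g * z * g⁻¹) * (g * z * g⁻¹) = g * (z * z) * g⁻¹ := by group
    rw [this, hzz]; group
  rcases involution_cases e hz hg huu hu1 with h | ⟨i, hi⟩
  · exact absurd h hgz
  · -- `z u = r u r⁻¹` is also a conjugate of `z`
    have hr : diR e 1 * (g * z * g⁻¹) * (diR e 1)⁻¹ = z * (g * z * g⁻¹) := by
      rw [hi, diR_conj_diS]
      nth_rewrite 2 [z_eq e hz]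
      rw [diR_mul_diS, mul_one]
    rw [Subgroup.eq_bot_iff_forall]
    intro x hx
    have h1 := hconj 1 x hx
    have h2 := hconj g x hx
    have h3 := hconj (diR e 1 * g) x hx
    have e3 : diR e 1 * g * z * (diR e 1 * g)⁻¹ = z * (g * z * g⁻¹) := by
      rw [← hr]; group
    rw [e3] at h3
    simp only [one_mul, inv_one, mul_one] at h1
    have h4 : z * (g * z * g⁻¹) * x * (z * (g * z * g⁻¹))⁻¹ = x := by
      calc z * (g * z * g⁻¹) * x * (z * (g * z * g⁻¹))⁻¹
          = z * ((g * z * g⁻¹) * x * (g * z * g⁻¹)⁻¹) * z⁻¹ := by group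
        _ = z * x⁻¹ * z⁻¹ := by rw [h2]
        _ = (z * x * z⁻¹)⁻¹ := by group
        _ = x := by rw [h1, inv_inv]
    rw [h4] at h3
    have hxx : x ^ 2 = 1 := by
      rw [pow_two]
      nth_rewrite 1 [h3]
      exact inv_mul_cancel x
    have hodd := odd_orderOf_of_mem oddCore_odd hx
    have h5 : orderOf x ∣ 2 := orderOf_dvd_of_pow_eq_one hxx
    have h6 : orderOf x = 1 := by
      rcases (Nat.dvd_prime Nat.prime_two).1 h5 with h | h
      · exact h
      · rw [h] at hodd; exact absurd hodd (by decide)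
    exact orderOf_eq_one_iff.1 h6

end Cfsg.Agent.Lib.Helper7.D8Cent
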