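import Mathlib
import Cfsg.Agent.S0848
import Cfsg.Agent.S0495
import Cfsg.Agent.S0497
import Cfsg.Agent.S0255
import Cfsg.Agent.Lib.Helper7.D8Cent2

/-! Groups with an involution whose centralizer is dihedral of order 8 (S3035), part 3:
the non-isolated case without subgroups of index two: `SL₃(2)` or `A₆`. -/

set_option autoImplicit false

namespace Cfsg.Agent.Lib.Helper7.D8Cent

open Cfsg.Agent.Lib.Helper3
open scoped commutatorElement

variable {G : Type*} [Group G] [Finite G] {z : G}
  (e : ↥(Subgroup.centralizer ({z} : Set G)) ≃* DihedralGroup 4)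

include e in
/-- involutions are conjugate into `C` -/
theorem exists_conj_mem_C (hz : orderOf z = 2) {w : G} (hw : orderOf w = 2) :
    ∃ g : G, g * w * g⁻¹ ∈ Subgroup.centralizer ({z} : Set G) := by
  haveI : Fact (Nat.Prime 2) := ⟨Nat.prime_two⟩
  obtain ⟨P, hP⟩ := exists_sylow e hz
  obtain ⟨g, hg⟩ := exists_conj_mem_sylow P w 1 (by rw [hw, pow_one])
  exact ⟨g, by rw [← hP]; exact hg⟩

theorem conj_involution {w g : G} (hw : orderOf w = 2) :
    (g * w * g⁻¹) * (g * w * g⁻¹) = 1 ∧ g * w * g⁻¹ ≠ 1 := by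
  have hww : w * w = 1 := by rw [← pow_two, ← hw, pow_orderOf_eq_one]
  constructor
  · have : (g * w * g⁻¹) * (g * w * g⁻¹) = g * (w * w) * g⁻¹ := by group
    rw [this, hww]; group
  · intro h
    have : w = 1 := by
      calc w = g⁻¹ * (g * w * g⁻¹) * g := by group
        _ = 1 := by rw [h]; group
    rw [this, orderOf_one] at hw; omega

include e in
/-- a normal subgroup containing an involution contains `z` -/
theorem z_mem_of_normal (hz : orderOf z = 2) (N : Subgroup G) [hN : N.Normal] {w : G}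
    (hwN : w ∈ N) (hw : orderOf w = 2) : z ∈ N := by
  obtain ⟨g, hg⟩ := exists_conj_mem_C e hz hw
  obtain ⟨h1, h2⟩ := conj_involution (g := g) hw
  have hN' : g * w * g⁻¹ ∈ N := hN.conj_mem w hwN g
  rcases involution_cases e hz hg h1 h2 with h | ⟨i, hi⟩
  · rw [← h]; exact hN'
  · rw [hi] at hN'
    have h3 : diR e 1 * diS e i * (diR e 1)⁻¹ ∈ N := hN.conj_mem _ hN' _
    rw [diR_conj_diS] at h3
    have h4 := N.mul_mem hN' h3
    rw [diS_mul_diS] at h4
    have h5 : i - 2 * 1 - i = (2 : ZMod 4) := by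
      have : ∀ i : ZMod 4, i - 2 * 1 - i = 2 := by decide
      exact this i
    rw [h5, ← z_eq e hz] at h4
    exact h4

include e in
/-- a normal subgroup containing `C` is everything (Frattini) -/
theorem eq_top_of_normal_of_le (hz : orderOf z = 2) (N : Subgroup G) [N.Normal]
    (hCN : Subgroup.centralizer ({z} : Set G) ≤ N) : N = ⊤ := by
  haveI : Fact (Nat.Prime 2) := ⟨Nat.prime_two⟩
  obtain ⟨P, hP⟩ := exists_sylow e hz
  have hPN : (P : Subgroup G) ≤ N := by rw [hP]; exact hCN
  have h1 := Sylow.normalizer_sup_eq_top' P hPN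
  have h2 : Subgroup.normalizer ((Subgroup.centralizer ({z} : Set G) : Subgroup G) : Set G) ⊔ N
      = ⊤ := by
    rw [← hP]; exact h1
  rw [normalizer_eq e hz] at h2
  rw [← h2]
  exact (sup_of_le_right hCN).symm

include e in
/-- a nontrivial normal subgroup contains `z` when the core is trivial -/
theorem z_mem_of_normal_of_ne_bot (hz : orderOf z = 2) (hO : Cfsg.oddCore G = ⊥)
    (N : Subgroup G) [hN : N.Normal] (hN1 : N ≠ ⊥) : z ∈ N := by
  haveI : Fact (Nat.Prime 2) := ⟨Nat.prime_two⟩
  have heven : 2 ∣ Nat.card N := by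
    by_contra h2
    apply hN1
    have hc : (Nat.card N).Coprime 2 := by
      rw [Nat.coprime_comm]
      exact (Nat.Prime.coprime_iff_not_dvd Nat.prime_two).2 h2
    have := Cfsg.Agent.Lib.Helper6.le_pPrimeCore hN hc
    rw [show Cfsg.pPrimeCore 2 G = Cfsg.oddCore G from rfl, hO] at this
    exact le_bot_iff.1 this
  obtain ⟨w, hw⟩ := exists_prime_orderOf_dvd_card' 2 heven
  have hw' : orderOf (w : G) = 2 := by rw [Subgroup.orderOf_coe]; exact hw
  exact z_mem_of_normal e hz N w.2 hw'

include e in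
/-- the case without subgroups of index two: `G` is simple -/
theorem simple_of_no_index_two (hz : orderOf z = 2) (hO : Cfsg.oddCore G = ⊥)
    (hconj : ∀ x y : G, orderOf x = 2 → orderOf y = 2 → IsConj x y) : IsSimpleGroup G := by
  haveI : Nontrivial G := ⟨⟨z, 1, by
    intro h
    rw [h, orderOf_one] at hz; omega⟩⟩
  refine ⟨fun N hN => ?_⟩
  by_cases hN1 : N = ⊥
  · exact Or.inl hN1
  · right
    have hzN := z_mem_of_normal_of_ne_bot e hz hO N hN1
    apply eq_top_of_normal_of_le e hz N
    apply mem_of_diS_mem e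
    intro i
    obtain ⟨c, hc⟩ := isConj_iff.1 (hconj z (diS e i) hz (orderOf_diS e i))
    rw [← hc]
    exact hN.conj_mem z hzN c

include e in
theorem not_comm : diR e 1 * diS e 0 ≠ diS e 0 * diR e 1 := by
  rw [diR_mul_diS, diS_mul_diR, Ne, diS_inj]
  decide

/-- `PSL₃(2) ≃ SL₃(2)` -/
theorem psl32_equiv : Nonempty (Matrix.ProjectiveSpecialLinearGroup (Fin 3) (ZMod 2) ≃*
    Matrix.SpecialLinearGroup (Fin 3) (ZMod 2)) := by
  have h : Subgroup.center (Matrix.SpecialLinearGroup (Fin 3) (ZMod 2)) = ⊥ := by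
    rw [Subgroup.eq_bot_iff_forall]
    exact fun x hx => Cfsg.Agent.Lib.Helper2.PSL27.center_SL3 x hx
  exact ⟨(QuotientGroup.quotientMulEquivOfEq h).trans QuotientGroup.quotientBot⟩

include e in
/-- the case without subgroups of index two -/
theorem iso_of_no_index_two (hz : orderOf z = 2) (hO : Cfsg.oddCore G = ⊥)
    (hno : ∀ H : Subgroup G, H.index ≠ 2) :
    Nonempty (G ≃* Matrix.SpecialLinearGroup (Fin 3) (ZMod 2)) ∨
      Nonempty (G ≃* ↥(alternatingGroup (Fin 6))) := by
  obtain ⟨P, hP⟩ := exists_sylow e hz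
  have e' : ↥(P : Subgroup G) ≃* DihedralGroup 4 := (MulEquiv.subgroupCongr hP).trans e
  have hconj : ∀ x y : G, orderOf x = 2 → orderOf y = 2 → IsConj x y :=
    di_all_conj P e' 2 (by decide) (by decide)
      (di_conj_of_no_index_two P e' 2 (by decide) (by decide) hno)
  haveI := simple_of_no_index_two e hz hO hconj
  have hperf : commutator G = ⊤ := by
    rcases (inferInstance : (commutator G).Normal).eq_bot_or_eq_top with h | h
    · exfalso
      apply not_comm e
      have h1 : ⁅diR e 1, diS e 0⁆ ∈ commutator G :=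
        Subgroup.commutator_mem_commutator (Subgroup.mem_top _) (Subgroup.mem_top _)
      rw [h, Subgroup.mem_bot, commutatorElement_eq_one_iff_mul_comm] at h1
      exact h1
    · exact h
  rcases Cfsg.Agent.S0848.result hperf z hz e with h168 | h360
  · left
    obtain ⟨f1⟩ := Cfsg.Agent.S0495.result h168 (F := ZMod 7) (ZMod.card 7)
    obtain ⟨f2⟩ := Cfsg.Agent.S0255.result (F := ZMod 7) (K := ZMod 2) (ZMod.card 7) (ZMod.card 2)
    obtain ⟨f3⟩ := psl32_equiv
    exact ⟨(f1.trans f2).trans f3⟩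
  · right
    exact Cfsg.Agent.S0497.result h360

end Cfsg.Agent.Lib.Helper7.D8Cent
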