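import Mathlib
import Cfsg.Agent.Lib.Helper7.D8Cent3

/-! Groups with an involution whose centralizer is dihedral of order 8 (S3035), part 4:
the non-isolated case with a subgroup `G₀` of index two: `|G₀| ∈ {12, 60}`. -/

set_option autoImplicit false

namespace Cfsg.Agent.Lib.Helper7.D8Cent

open Cfsg.Agent.Lib.Helper3 Cfsg.Agent.Lib.Helper7.ABSW

variable {G : Type*} [Group G] [Finite G] {z : G}
  (e : ↥(Subgroup.centralizer ({z} : Set G)) ≃* DihedralGroup 4)

theorem zmod4_cases : ∀ i : ZMod 4, i = 0 ∨ i = 1 ∨ i = 2 ∨ i = 3 := by decide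

/-- data for the index two case -/
structure IdxTwo (G₀ : Subgroup G) (g : G) (i₀ : ZMod 4) : Prop where
  hz : orderOf z = 2
  hidx : G₀.index = 2
  hu : g * z * g⁻¹ = diS e i₀

namespace IdxTwo

variable {e} {G₀ : Subgroup G} {g : G} {i₀ : ZMod 4}

theorem normal (h : IdxTwo e G₀ g i₀) : G₀.Normal := Subgroup.normal_of_index_eq_two h.hidx

theorem z_mem (h : IdxTwo e G₀ g i₀) : z ∈ G₀ := by
  have h1 := Subgroup.mul_self_mem_of_index_two h.hidx (diR e 1)
  rw [diR_mul_diR] at h1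
  have : (1 : ZMod 4) + 1 = 2 := by decide
  rw [this, ← z_eq e h.hz] at h1
  exact h1

theorem u_mem (h : IdxTwo e G₀ g i₀) : diS e i₀ ∈ G₀ := by
  rw [← h.hu]
  exact h.normal.conj_mem z h.z_mem g

theorem not_le (h : IdxTwo e G₀ g i₀) : ¬ Subgroup.centralizer ({z} : Set G) ≤ G₀ := by
  haveI : Fact (Nat.Prime 2) := ⟨Nat.prime_two⟩
  intro hle
  obtain ⟨P, hP⟩ := exists_sylow e h.hz
  have h1 := P.not_dvd_index
  rw [hP] at h1
  apply h1
  rw [← Subgroup.relIndex_mul_index hle, h.hidx]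
  exact Dvd.intro_left _ rfl

theorem r_not_mem (h : IdxTwo e G₀ g i₀) : diR e 1 ∉ G₀ := by
  intro hr
  apply h.not_le
  apply mem_of_diS_mem e
  intro j
  have h1 : ∀ k : ℕ, diS e (i₀ + k) ∈ G₀ := by
    intro k
    induction k with
    | zero => simpa using h.u_mem
    | succ k ih =>
      have := G₀.mul_mem ih hr
      rw [diS_mul_diR] at this
      have e1 : i₀ + (k : ZMod 4) + 1 = i₀ + ((k + 1 : ℕ) : ZMod 4) := by push_cast; ring
      rw [e1] at this
      exact this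
  have h2 := h1 (j - i₀).val
  have e2 : i₀ + (((j - i₀).val : ℕ) : ZMod 4) = j := by
    rw [ZMod.natCast_zmod_val]; ring
  rw [e2] at h2
  exact h2

theorem diR_mem_iff (h : IdxTwo e G₀ g i₀) (i : ZMod 4) : diR e i ∈ G₀ ↔ i = 0 ∨ i = 2 := by
  have hr3 : diR e 3 ∉ G₀ := by
    intro h3
    apply h.r_not_mem
    have := G₀.inv_mem h3
    rw [diR_inv] at this
    have e1 : -(3 : ZMod 4) = 1 := by decide
    rw [e1] at this
    exact this
  rcases zmod4_cases i with rfl | rfl | rfl | rfl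
  · simp [diR_zero]
  · constructor
    · intro h1; exact absurd h1 h.r_not_mem
    · intro h1; exact absurd h1 (by decide)
  · constructor
    · intro _; right; rfl
    · intro _; rw [← z_eq e h.hz]; exact h.z_mem
  · constructor
    · intro h1; exact absurd h1 hr3
    · intro h1; exact absurd h1 (by decide)

theorem diS_mem_iff (h : IdxTwo e G₀ g i₀) (i : ZMod 4) :
    diS e i ∈ G₀ ↔ i = i₀ ∨ i = i₀ + 2 := by
  have key : diS e i ∈ G₀ ↔ diR e (i - i₀) ∈ G₀ := by
    constructor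
    · intro h1
      have := G₀.mul_mem h.u_mem h1
      rwa [diS_mul_diS] at this
    · intro h1
      have := G₀.mul_mem h.u_mem h1
      rw [diS_mul_diR] at this
      have e1 : i₀ + (i - i₀) = i := by ring
      rwa [e1] at this
  rw [key, h.diR_mem_iff]
  constructor
  · rintro (h1 | h1)
    · left
      have : i = (i - i₀) + i₀ := by ring
      rw [this, h1, zero_add]
    · right
      have : i = (i - i₀) + i₀ := by ring
      rw [this, h1, add_comm]
  · rintro (rfl | rfl)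
    · left; ring
    · right; ring

/-- the elements of `C ∩ G₀` -/
theorem z_mul_diS (h : IdxTwo e G₀ g i₀) (i : ZMod 4) : z * diS e i = diS e (i - 2) := by
  have h1 : z * diS e i = diR e 2 * diS e i := congrArg (· * diS e i) (z_eq e h.hz)
  rw [h1, diR_mul_diS]

theorem mem_inf_cases (h : IdxTwo e G₀ g i₀) {x : G}
    (hxC : x ∈ Subgroup.centralizer ({z} : Set G)) (hx : x ∈ G₀) :
    x = 1 ∨ x = z ∨ x = diS e i₀ ∨ x = z * diS e i₀ := by
  rcases di_cases e x hxC with ⟨i, rfl⟩ | ⟨i, rfl⟩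
  · rcases (h.diR_mem_iff i).1 hx with rfl | rfl
    · left; exact diR_zero e
    · right; left; exact (z_eq e h.hz).symm
  · rcases (h.diS_mem_iff i).1 hx with rfl | rfl
    · right; right; left; rfl
    · right; right; right
      rw [h.z_mul_diS]
      congr 1
      have : ∀ a : ZMod 4, a + 2 = a - 2 := by decide
      exact this i₀

/-- every conjugate of `z` is a conjugate by an element of `G₀` -/
theorem conj_eq (h : IdxTwo e G₀ g i₀) (a : G) : ∃ b ∈ G₀, a * z * a⁻¹ = b * z * b⁻¹ := by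
  by_cases ha : a ∈ G₀
  · exact ⟨a, ha, rfl⟩
  · refine ⟨a * diR e 1, ?_, ?_⟩
    · rw [Subgroup.mul_mem_iff_of_index_two h.hidx]
      exact ⟨fun h1 => absurd h1 ha, fun h1 => absurd h1 h.r_not_mem⟩
    · have h1 : diR e 1 * z = z * diR e 1 :=
        Subgroup.mem_centralizer_singleton_iff.1 (diR_mem e 1)
      calc a * z * a⁻¹ = a * (z * diR e 1) * (diR e 1)⁻¹ * a⁻¹ := by group
        _ = a * (diR e 1 * z) * (diR e 1)⁻¹ * a⁻¹ := by rw [h1]
        _ = a * diR e 1 * z * (a * diR e 1)⁻¹ := by group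

/-- the three involutions of `C ∩ G₀` are conjugates of `z` -/
theorem zu_conj (h : IdxTwo e G₀ g i₀) :
    z * diS e i₀ = (diR e 1 * g) * z * (diR e 1 * g)⁻¹ := by
  have h1 : (diR e 1 * g) * z * (diR e 1 * g)⁻¹ = diR e 1 * (g * z * g⁻¹) * (diR e 1)⁻¹ := by
    group
  rw [h1, h.hu, diR_conj_diS, h.z_mul_diS, mul_one]

/-- every involution of `G₀` is a `G₀`-conjugate of `z` -/
theorem invol_conj (h : IdxTwo e G₀ g i₀) {w : G} (hw : w ∈ G₀) (hw2 : orderOf w = 2) :
    ∃ b ∈ G₀, w = b * z * b⁻¹ := by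
  obtain ⟨a, ha⟩ := exists_conj_mem_C e h.hz hw2
  obtain ⟨h1, h2⟩ := conj_involution (g := a) hw2
  have ha0 : a * w * a⁻¹ ∈ G₀ := h.normal.conj_mem w hw a
  -- `a w a⁻¹` is a conjugate of `z`
  have h3 : ∃ c : G, a * w * a⁻¹ = c * z * c⁻¹ := by
    rcases h.mem_inf_cases ha ha0 with h4 | h4 | h4 | h4
    · exact absurd h4 h2
    · exact ⟨1, by rw [h4]; group⟩
    · exact ⟨g, by rw [h4, h.hu]⟩
    · exact ⟨diR e 1 * g, by rw [h4, h.zu_conj]⟩
  obtain ⟨c, hc⟩ := h3
  have h5 : w = (a⁻¹ * c) * z * (a⁻¹ * c)⁻¹ := by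
    calc w = a⁻¹ * (a * w * a⁻¹) * a := by group
      _ = a⁻¹ * (c * z * c⁻¹) * a := by rw [hc]
      _ = (a⁻¹ * c) * z * (a⁻¹ * c)⁻¹ := by group
  obtain ⟨b, hb, hb'⟩ := h.conj_eq (a⁻¹ * c)
  exact ⟨b, hb, by rw [h5, hb']⟩

end IdxTwo

end Cfsg.Agent.Lib.Helper7.D8Cent
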