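import Mathlib
import Cfsg.Agent.Lib.Helper7.D8Cent4

/-! Groups with an involution whose centralizer is dihedral of order 8 (S3035), part 5:
the subgroup `G₀` of index two has order `12` or `60`. -/

set_option autoImplicit false

namespace Cfsg.Agent.Lib.Helper7.D8Cent

open Cfsg.Agent.Lib.Helper3 Cfsg.Agent.Lib.Helper7.ABSW

variable {G : Type*} [Group G] [Finite G] {z : G}
  {e : ↥(Subgroup.centralizer ({z} : Set G)) ≃* DihedralGroup 4}

namespace IdxTwo

variable {G₀ : Subgroup G} {g : G} {i₀ : ZMod 4}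

/-- the hypotheses of the abstract Brauer–Suzuki–Wall theorem hold in `G₀` with `K = ⟨z⟩` -/
theorem hyp (h : IdxTwo e G₀ g i₀) :
    Hyp (Subgroup.zpowers (⟨z, h.z_mem⟩ : G₀)) (⟨z, h.z_mem⟩ : G₀) (⟨diS e i₀, h.u_mem⟩ : G₀) := by
  have hzz : z * z = 1 := by rw [← pow_two, ← h.hz, pow_orderOf_eq_one]
  have htt : (⟨z, h.z_mem⟩ : G₀) * ⟨z, h.z_mem⟩ = 1 := Subtype.ext hzz
  have hcomm : (⟨diS e i₀, h.u_mem⟩ : G₀) * ⟨z, h.z_mem⟩ = ⟨z, h.z_mem⟩ * ⟨diS e i₀, h.u_mem⟩ :=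
    Subtype.ext (Subgroup.mem_centralizer_singleton_iff.1 (diS_mem e i₀))
  have hsH : (⟨diS e i₀, h.u_mem⟩ : G₀) ∈
      Subgroup.centralizer ({(⟨z, h.z_mem⟩ : G₀)} : Set G₀) := by
    rw [Subgroup.mem_centralizer_singleton_iff]; exact hcomm
  have hKH : Subgroup.zpowers (⟨z, h.z_mem⟩ : G₀) ≤
      Subgroup.centralizer ({(⟨z, h.z_mem⟩ : G₀)} : Set G₀) := by
    rw [Subgroup.zpowers_le, Subgroup.mem_centralizer_singleton_iff]
  have ht1 : (⟨z, h.z_mem⟩ : G₀) ≠ 1 := by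
    intro h1
    have : z = 1 := congrArg Subtype.val h1
    have hz := h.hz
    rw [this, orderOf_one] at hz; omega
  have hKcases : ∀ x ∈ Subgroup.zpowers (⟨z, h.z_mem⟩ : G₀), x = 1 ∨ x = ⟨z, h.z_mem⟩ :=
    fun x hx => mem_zpowers_of_sq htt hx
  refine ⟨?_, ?_, hKH, Subgroup.mem_zpowers _, ?_, hsH, ?_, ?_, ?_, ?_, ?_, ?_⟩
  · rw [Subgroup.orderOf_mk]; exact h.hz
  · intro a ha b hb
    obtain ⟨i, rfl⟩ := Subgroup.mem_zpowers_iff.1 ha
    obtain ⟨j, rfl⟩ := Subgroup.mem_zpowers_iff.1 hb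
    rw [← zpow_add, ← zpow_add, add_comm]
  · rw [Subgroup.orderOf_mk]; exact orderOf_diS e i₀
  · intro hs
    rcases hKcases _ hs with h1 | h1
    · exact diS_ne_one e i₀ (congrArg Subtype.val h1)
    · have h2 : diS e i₀ = z := congrArg Subtype.val h1
      have h3 : diS e i₀ = diR e 2 := h2.trans (z_eq e h.hz)
      exact diR_ne_diS e 2 i₀ h3.symm
  · apply le_antisymm (sup_le hKH (by rw [Subgroup.zpowers_le]; exact hsH))
    intro x hx
    rw [Subgroup.mem_centralizer_singleton_iff] at hx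
    have hxC : (x : G) ∈ Subgroup.centralizer ({z} : Set G) := by
      rw [Subgroup.mem_centralizer_singleton_iff]
      exact congrArg Subtype.val hx
    rcases h.mem_inf_cases hxC x.2 with h1 | h1 | h1 | h1
    · have : x = 1 := Subtype.ext h1
      rw [this]; exact Subgroup.one_mem _
    · have : x = ⟨z, h.z_mem⟩ := Subtype.ext h1
      rw [this]
      exact (le_sup_left : Subgroup.zpowers (⟨z, h.z_mem⟩ : G₀) ≤ _) (Subgroup.mem_zpowers _)
    · have : x = ⟨diS e i₀, h.u_mem⟩ := Subtype.ext h1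
      rw [this]
      exact (le_sup_right : Subgroup.zpowers (⟨diS e i₀, h.u_mem⟩ : G₀) ≤ _)
        (Subgroup.mem_zpowers _)
    · have : x = ⟨z, h.z_mem⟩ * ⟨diS e i₀, h.u_mem⟩ := Subtype.ext h1
      rw [this]
      exact Subgroup.mul_mem _
        ((le_sup_left : Subgroup.zpowers (⟨z, h.z_mem⟩ : G₀) ≤ _) (Subgroup.mem_zpowers _))
        ((le_sup_right : Subgroup.zpowers (⟨diS e i₀, h.u_mem⟩ : G₀) ≤ _)
          (Subgroup.mem_zpowers _))
  · rw [inf_eq_left, Subgroup.zpowers_le, Subgroup.mem_centralizer_singleton_iff]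
    exact hcomm.symm
  · intro x hx
    rcases hKcases x hx with rfl | rfl
    · simp
    · rw [hcomm, mul_inv_cancel_right]
      exact (inv_eq_of_mul_eq_one_right htt).symm
  · intro a ha
    rw [Subgroup.eq_bot_iff_forall]
    intro x hx
    obtain ⟨hx1, hx2⟩ := Subgroup.mem_inf.1 hx
    rcases hKcases x hx1 with h1 | h1
    · exact h1
    · exfalso
      obtain ⟨k, hk, hkx⟩ := Subgroup.mem_map.1 hx2
      have hkx' : a * k * a⁻¹ = x := hkx
      rcases hKcases k hk with h2 | h2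
      · rw [h2] at hkx'
        apply ht1
        rw [← h1, ← hkx']; group
      · apply ha
        rw [Subgroup.mem_centralizer_singleton_iff]
        rw [h2, h1] at hkx'
        calc a * ⟨z, h.z_mem⟩ = (a * ⟨z, h.z_mem⟩ * a⁻¹) * a := by group
          _ = ⟨z, h.z_mem⟩ * a := by rw [hkx']
  · have key : ∀ x : G₀, orderOf x = 2 → IsConj (⟨z, h.z_mem⟩ : G₀) x := by
      intro x hx
      have hx' : orderOf (x : G) = 2 := by rw [Subgroup.orderOf_coe]; exact hx
      obtain ⟨b, hb, hb'⟩ := h.invol_conj x.2 hx'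
      rw [isConj_iff]
      exact ⟨⟨b, hb⟩, Subtype.ext hb'.symm⟩
    intro x y hx hy
    exact (key x hx).symm.trans (key y hy)

/-- the order of `G₀` -/
theorem card (h : IdxTwo e G₀ g i₀) : Nat.card G₀ = 12 ∨ Nat.card G₀ = 60 := by
  classical
  haveI : Fintype G₀ := Fintype.ofFinite G₀
  have hyp := h.hyp
  have hK2 : Nat.card (Subgroup.zpowers (⟨z, h.z_mem⟩ : G₀)) = 2 := by
    rw [Nat.card_zpowers, Subgroup.orderOf_mk]; exact h.hz
  have hG := hyp.card_G
  rw [hK2] at hG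
  rcases hyp.card_two_cases hK2 with ⟨h3, -⟩ | ⟨h15, -⟩
  · left; rw [hG, h3]
  · right; rw [hG, h15]

theorem card_G (h : IdxTwo e G₀ g i₀) : Nat.card G = 24 ∨ Nat.card G = 120 := by
  have h1 := G₀.card_mul_index
  rw [h.hidx] at h1
  rcases h.card with h2 | h2
  · left; omega
  · right; omega

end IdxTwo

end Cfsg.Agent.Lib.Helper7.D8Cent
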