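import Mathlib
import Cfsg.Agent.Lib.Helper7.ClassCount
import Cfsg.Agent.Lib.Helper7.D8Cent5

/-! Groups with an involution whose centralizer is dihedral of order 8 (S3035), part 6:
recognition of symmetric groups by a faithful coset action; the case `|G| = 24`. -/

set_option autoImplicit false

namespace Cfsg.Agent.Lib.Helper7.D8Cent

open Cfsg.Agent.Lib.Helper3 Cfsg.Agent.Lib.Helper7.ABSW

/-- a group of order `n!` acting faithfully on the `n` cosets of a subgroup is symmetric -/
theorem perm_iso {G : Type*} [Group G] [Finite G] (H : Subgroup G) (n : ℕ) (hidx : H.index = n)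
    (hcore : H.normalCore = ⊥) (hcard : Nat.card G = n.factorial) :
    Nonempty (G ≃* Equiv.Perm (Fin n)) := by
  classical
  have hn0 : n ≠ 0 := by
    rw [← hidx]; exact Subgroup.index_ne_zero_of_finite
  have hinj : Function.Injective (MulAction.toPermHom G (G ⧸ H)) := by
    rw [← MonoidHom.ker_eq_bot_iff, ← Subgroup.normalCore_eq_ker, hcore]
  have hc : Nat.card (G ⧸ H) = n := by rw [← Subgroup.index_eq_card, hidx]
  have hcard' : Nat.card (Equiv.Perm (G ⧸ H)) = Nat.card G := by
    rw [Nat.card_perm, hc, hcard]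
  have hbij : Function.Bijective (MulAction.toPermHom G (G ⧸ H)) := by
    rw [Nat.bijective_iff_injective_and_card]
    exact ⟨hinj, hcard'.symm⟩
  have e1 : G ≃* Equiv.Perm (G ⧸ H) := MulEquiv.ofBijective _ hbij
  have e2 : (G ⧸ H) ≃ Fin n := by
    haveI : Fintype (G ⧸ H) := Fintype.ofFinite _
    apply Fintype.equivFinOfCardEq
    rw [← Nat.card_eq_fintype_card, hc]
  exact ⟨e1.trans e2.permCongrHom⟩

variable {G : Type*} [Group G] [Finite G] {z : G}
  {e : ↥(Subgroup.centralizer ({z} : Set G)) ≃* DihedralGroup 4}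

namespace IdxTwo

variable {G₀ : Subgroup G} {g : G} {i₀ : ZMod 4}

/-- the four-group `V = C ∩ G₀` -/
theorem card_V (h : IdxTwo e G₀ g i₀) :
    Nat.card (Subgroup.centralizer ({z} : Set G) ⊓ G₀ : Subgroup G) = 4 := by
  have h1 : (Subgroup.centralizer ({z} : Set G) ⊓ G₀).relIndex (Subgroup.centralizer ({z} : Set G))
      = 2 := by
    rw [Subgroup.inf_relIndex_left]
    haveI := h.normal
    have h2 : G₀.relIndex (Subgroup.centralizer ({z} : Set G)) ∣ 2 := by
      rw [← h.hidx]; exact Subgroup.relIndex_dvd_index_of_normal _ _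
    rcases (Nat.dvd_prime Nat.prime_two).1 h2 with h3 | h3
    · exfalso
      rw [Subgroup.relIndex_eq_one] at h3
      exact h.not_le h3
    · exact h3
  have h4 := card_mul_relIndex_of_le
    (inf_le_left : Subgroup.centralizer ({z} : Set G) ⊓ G₀ ≤ Subgroup.centralizer ({z} : Set G))
  rw [h1, card_C e] at h4
  omega

/-- a normal subgroup containing `z` contains `V` -/
theorem V_le_of_normal (h : IdxTwo e G₀ g i₀) (K : Subgroup G) [hK : K.Normal] (hzK : z ∈ K) :
    Subgroup.centralizer ({z} : Set G) ⊓ G₀ ≤ K := by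
  intro x hx
  obtain ⟨hxC, hx0⟩ := Subgroup.mem_inf.1 hx
  have hu : diS e i₀ ∈ K := by
    rw [← h.hu]; exact hK.conj_mem z hzK g
  rcases h.mem_inf_cases hxC hx0 with rfl | rfl | rfl | rfl
  · exact K.one_mem
  · exact hzK
  · exact hu
  · exact K.mul_mem hzK hu

/-- the case `|G| = 24` -/
theorem iso_perm_four (h : IdxTwo e G₀ g i₀) (hO : Cfsg.oddCore G = ⊥)
    (hG : Nat.card G = 24) : Nonempty (G ≃* Equiv.Perm (Fin 4)) := by
  haveI : Fact (Nat.Prime 3) := ⟨Nat.prime_three⟩
  obtain ⟨P⟩ : Nonempty (Sylow 3 G) := inferInstance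
  have h1 : Nat.card (Sylow 3 G) ≡ 1 [MOD 3] := card_sylow_modEq_one 3 G
  have h2 : Nat.card (Sylow 3 G) ∣ (P : Subgroup G).index := P.card_dvd_index
  have h3 : Nat.card (Sylow 3 G) = (Subgroup.normalizer ((P : Subgroup G) : Set G)).index :=
    P.card_eq_index_normalizer
  have h4 : ¬ 3 ∣ (P : Subgroup G).index := P.not_dvd_index
  have h5 : (P : Subgroup G).index ∣ 8 := by
    have : (P : Subgroup G).index ∣ 3 * 8 := by
      rw [show 3 * 8 = 24 from rfl, ← hG]; exact Subgroup.index_dvd_card _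
    exact Nat.Coprime.dvd_of_dvd_mul_left
      ((Nat.Prime.coprime_iff_not_dvd Nat.prime_three).2 h4).symm this
  have h6 : Nat.card (Sylow 3 G) ∣ 8 := h2.trans h5
  have h7 : Nat.card (Sylow 3 G) ≤ 8 := Nat.le_of_dvd (by norm_num) h6
  have h8 : Nat.card (Sylow 3 G) = 1 ∨ Nat.card (Sylow 3 G) = 4 := by
    have key : ∀ n : ℕ, n ≤ 8 → n ∣ 8 → n % 3 = 1 % 3 → n = 1 ∨ n = 4 := by decide
    exact key _ h7 h6 h1
  have hidx : (Subgroup.normalizer ((P : Subgroup G) : Set G)).index = 4 := by
    rcases h8 with h9 | h9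
    · exfalso
      rw [h3, Subgroup.index_eq_one, Subgroup.normalizer_eq_top_iff] at h9
      -- `P` is normal of odd order, hence trivial
      have hPc : (Nat.card (P : Subgroup G)).Coprime 2 := by
        obtain ⟨k, hk⟩ := IsPGroup.iff_card.mp P.isPGroup'
        rw [hk]
        exact Nat.Coprime.pow_left k (by norm_num)
      have hle := Cfsg.Agent.Lib.Helper6.le_pPrimeCore h9 hPc
      rw [show Cfsg.pPrimeCore 2 G = Cfsg.oddCore G from rfl, hO, le_bot_iff] at hle
      apply h4
      rw [hle, Subgroup.index_bot, hG]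
      norm_num
    · rw [← h3]; exact h9
  apply perm_iso _ 4 hidx _ (by rw [hG]; rfl)
  -- the core is trivial
  by_contra hK
  have hzK := z_mem_of_normal_of_ne_bot e h.hz hO _ hK
  have hV := h.V_le_of_normal _ hzK
  have h10 : 4 ∣ Nat.card (Subgroup.normalizer ((P : Subgroup G) : Set G)) := by
    rw [← h.card_V]
    exact Subgroup.card_dvd_of_le (hV.trans (Subgroup.normalCore_le _))
  have h11 := (Subgroup.normalizer ((P : Subgroup G) : Set G)).card_mul_index
  rw [hidx, hG] at h11
  omega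

end IdxTwo

end Cfsg.Agent.Lib.Helper7.D8Cent
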