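import Mathlib
import Cfsg.Agent.Lib.Helper7.D8Cent6

/-! Groups with an involution whose centralizer is dihedral of order 8 (S3035), part 7:
the case `|G| = 120`. -/

set_option autoImplicit false

namespace Cfsg.Agent.Lib.Helper7.D8Cent

open Cfsg.Agent.Lib.Helper3 Cfsg.Agent.Lib.Helper7.ABSW

theorem mem_normalizer_of_le_map {G : Type*} [Group G] [Finite G] {V : Subgroup G} {g : G}
    (h : V ≤ V.map (MulAut.conj g).toMonoidHom) : g ∈ Subgroup.normalizer (V : Set G) := by
  have hcard : Nat.card (V.map (MulAut.conj g).toMonoidHom) = Nat.card V :=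
    Subgroup.card_map_of_injective (MulAut.conj g).injective
  have heq : V = V.map (MulAut.conj g).toMonoidHom :=
    Subgroup.eq_of_le_of_card_ge h (le_of_eq hcard)
  rw [Subgroup.mem_normalizer_iff]
  intro n
  constructor
  · intro hn
    rw [heq]
    exact Subgroup.mem_map.2 ⟨n, hn, rfl⟩
  · intro hn
    rw [heq] at hn
    obtain ⟨m, hm, hmn⟩ := Subgroup.mem_map.1 hn
    have : g * m * g⁻¹ = g * n * g⁻¹ := hmn
    have : m = n := by
      calc m = g⁻¹ * (g * m * g⁻¹) * g := by group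
        _ = g⁻¹ * (g * n * g⁻¹) * g := by rw [this]
        _ = n := by group
    rw [← this]; exact hm

variable {G : Type*} [Group G] [Finite G] {z : G}
  {e : ↥(Subgroup.centralizer ({z} : Set G)) ≃* DihedralGroup 4}

namespace IdxTwo

variable {G₀ : Subgroup G} {g : G} {i₀ : ZMod 4}

theorem C_le_normalizer (h : IdxTwo e G₀ g i₀) :
    Subgroup.centralizer ({z} : Set G) ≤
      Subgroup.normalizer ((Subgroup.centralizer ({z} : Set G) ⊓ G₀ : Subgroup G) : Set G) := by
  intro c hc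
  have hN := h.normal
  rw [Subgroup.mem_normalizer_iff]
  intro n
  constructor
  · intro hn
    obtain ⟨h1, h2⟩ := Subgroup.mem_inf.1 hn
    exact Subgroup.mem_inf.2 ⟨Subgroup.mul_mem _ (Subgroup.mul_mem _ hc h1) (Subgroup.inv_mem _ hc),
      hN.conj_mem n h2 c⟩
  · intro hn
    obtain ⟨h1, h2⟩ := Subgroup.mem_inf.1 hn
    have e1 : n = c⁻¹ * (c * n * c⁻¹) * c := by group
    refine Subgroup.mem_inf.2 ⟨?_, ?_⟩
    · rw [e1]
      exact Subgroup.mul_mem _ (Subgroup.mul_mem _ (Subgroup.inv_mem _ hc) h1) hc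
    · have := hN.conj_mem _ h2 c⁻¹
      rw [inv_inv] at this
      rw [e1]; exact this

/-- elements of `V` commute with `u` -/
theorem V_comm_u (h : IdxTwo e G₀ g i₀) {x : G}
    (hx : x ∈ (Subgroup.centralizer ({z} : Set G) ⊓ G₀ : Subgroup G)) :
    x * diS e i₀ = diS e i₀ * x := by
  obtain ⟨hxC, hx0⟩ := Subgroup.mem_inf.1 hx
  have hzu : z * diS e i₀ = diS e i₀ * z :=
    (Subgroup.mem_centralizer_singleton_iff.1 (diS_mem e i₀)).symm
  rcases h.mem_inf_cases hxC hx0 with rfl | rfl | rfl | rfl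
  · simp
  · exact hzu
  · rfl
  · rw [mul_assoc, diS_mul_self, mul_one, ← mul_assoc, ← hzu, mul_assoc, diS_mul_self, mul_one]

theorem g_mem_normalizer (h : IdxTwo e G₀ g i₀) :
    g ∈ Subgroup.normalizer ((Subgroup.centralizer ({z} : Set G) ⊓ G₀ : Subgroup G) : Set G) := by
  apply mem_normalizer_of_le_map
  intro x hx
  have hN := h.normal
  obtain ⟨hxC, hx0⟩ := Subgroup.mem_inf.1 hx
  refine Subgroup.mem_map.2 ⟨g⁻¹ * x * g, Subgroup.mem_inf.2 ⟨?_, ?_⟩, ?_⟩
  · rw [Subgroup.mem_centralizer_singleton_iff]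
    have h1 := h.V_comm_u hx
    rw [← h.hu] at h1
    calc g⁻¹ * x * g * z = g⁻¹ * (x * (g * z * g⁻¹)) * g := by group
      _ = g⁻¹ * ((g * z * g⁻¹) * x) * g := by rw [h1]
      _ = z * (g⁻¹ * x * g) := by group
  · have := hN.conj_mem x hx0 g⁻¹
    rw [inv_inv] at this
    exact this
  · show g * (g⁻¹ * x * g) * g⁻¹ = x
    group

theorem g_not_mem (h : IdxTwo e G₀ g i₀) : g ∉ Subgroup.centralizer ({z} : Set G) := by
  intro hg
  rw [Subgroup.mem_centralizer_singleton_iff] at hg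
  have h1 : g * z * g⁻¹ = z := by rw [hg]; group
  rw [h.hu] at h1
  have h2 : diS e i₀ = diR e 2 := h1.trans (z_eq e h.hz)
  exact diR_ne_diS e 2 i₀ h2.symm

/-- the normalizer of `V` has order `24` when `|G| = 120` -/
theorem card_normalizer (h : IdxTwo e G₀ g i₀) (hG : Nat.card G = 120) :
    Nat.card (Subgroup.normalizer
      ((Subgroup.centralizer ({z} : Set G) ⊓ G₀ : Subgroup G) : Set G)) = 24 := by
  obtain ⟨H, hH⟩ : ∃ H : Subgroup G, H = Subgroup.normalizer
      ((Subgroup.centralizer ({z} : Set G) ⊓ G₀ : Subgroup G) : Set G) := ⟨_, rfl⟩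
  rw [← hH]
  have hCH : Subgroup.centralizer ({z} : Set G) ≤ H := by rw [hH]; exact h.C_le_normalizer
  have hgH : g ∈ H := by rw [hH]; exact h.g_mem_normalizer
  have hzH : z ∈ H := hCH D8Cent.z_mem
  have huH : diS e i₀ ∈ H := hCH (diS_mem e i₀)
  have hzuH : z * diS e i₀ ∈ H := H.mul_mem hzH huH
  -- the centralizer of `z` in `H`
  have hcent : Nat.card (Subgroup.centralizer ({(⟨z, hzH⟩ : H)} : Set H)) = 8 := by
    rw [← card_C e, ← Subgroup.card_map_of_injective H.subtype_injective]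
    congr 2
    ext x
    constructor
    · intro hx
      obtain ⟨y, hy, rfl⟩ := Subgroup.mem_map.1 hx
      rw [Subgroup.mem_centralizer_singleton_iff] at hy ⊢
      exact congrArg Subtype.val hy
    · intro hx
      refine Subgroup.mem_map.2 ⟨⟨x, hCH hx⟩, ?_, rfl⟩
      rw [Subgroup.mem_centralizer_singleton_iff] at hx ⊢
      exact Subtype.ext hx
  -- the class of `z` in `H`
  have hcls : Set.ncard {y : H | IsConj (⟨z, hzH⟩ : H) y} ≤ 3 := by
    have hsub : {y : H | IsConj (⟨z, hzH⟩ : H) y} ⊆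
        ({⟨z, hzH⟩, ⟨diS e i₀, huH⟩, ⟨z * diS e i₀, hzuH⟩} : Set H) := by
      intro y hy
      obtain ⟨a, ha⟩ := isConj_iff.1 hy
      have ha' : (a : G) * z * (a : G)⁻¹ = (y : G) := congrArg Subtype.val ha
      have haN : (a : G) ∈ Subgroup.normalizer
          ((Subgroup.centralizer ({z} : Set G) ⊓ G₀ : Subgroup G) : Set G) := by
        rw [← hH]; exact a.2
      have hzV : z ∈ (Subgroup.centralizer ({z} : Set G) ⊓ G₀ : Subgroup G) :=
        Subgroup.mem_inf.2 ⟨D8Cent.z_mem, h.z_mem⟩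
      have hyV := (Subgroup.mem_normalizer_iff.1 haN z).1 hzV
      rw [ha'] at hyV
      obtain ⟨h1, h2⟩ := Subgroup.mem_inf.1 hyV
      obtain ⟨-, h3⟩ := conj_involution (g := (a : G)) h.hz
      rw [ha'] at h3
      simp only [Set.mem_insert_iff, Set.mem_singleton_iff]
      rcases h.mem_inf_cases h1 h2 with h4 | h4 | h4 | h4
      · exact absurd h4 h3
      · left; exact Subtype.ext h4
      · right; left; exact Subtype.ext h4
      · right; right; exact Subtype.ext h4
    refine (Set.ncard_le_ncard hsub (Set.toFinite _)).trans ?_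
    refine (Set.ncard_insert_le _ _).trans ?_
    have := Set.ncard_insert_le (⟨diS e i₀, huH⟩ : H) ({⟨z * diS e i₀, hzuH⟩} : Set H)
    rw [Set.ncard_singleton] at this
    omega
  have hmul := Cfsg.Agent.Lib.Helper7.ncard_cls_mul_card_centralizer (⟨z, hzH⟩ : H)
  rw [hcent] at hmul
  have hdvd : Nat.card H ∣ 120 := by rw [← hG]; exact Subgroup.card_subgroup_dvd_card H
  have hne8 : Nat.card H ≠ 8 := by
    intro h8
    have : Subgroup.centralizer ({z} : Set G) = H :=
      Subgroup.eq_of_le_of_card_ge hCH (by rw [h8, card_C e])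
    apply h.g_not_mem
    rw [this]; exact hgH
  have hpos : 0 < Nat.card H := Nat.card_pos
  obtain ⟨k, hk⟩ : ∃ k, k = Set.ncard {y : H | IsConj (⟨z, hzH⟩ : H) y} := ⟨_, rfl⟩
  rw [← hk] at hmul hcls
  have hk3 : k = 3 := by
    interval_cases k
    · omega
    · omega
    · exfalso
      rw [← hmul] at hdvd
      revert hdvd; decide
    · rfl
  rw [← hmul, hk3]

/-- the case `|G| = 120` -/
theorem iso_perm_five (h : IdxTwo e G₀ g i₀) (hO : Cfsg.oddCore G = ⊥)
    (hG : Nat.card G = 120) : Nonempty (G ≃* Equiv.Perm (Fin 5)) := by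
  obtain ⟨H, hH⟩ : ∃ H : Subgroup G, H = Subgroup.normalizer
      ((Subgroup.centralizer ({z} : Set G) ⊓ G₀ : Subgroup G) : Set G) := ⟨_, rfl⟩
  have hcard : Nat.card H = 24 := by rw [hH]; exact h.card_normalizer hG
  have hCH : Subgroup.centralizer ({z} : Set G) ≤ H := by rw [hH]; exact h.C_le_normalizer
  have hidx : H.index = 5 := by
    have := H.card_mul_index
    rw [hcard, hG] at this
    omega
  apply perm_iso H 5 hidx _ (by rw [hG]; rfl)
  by_contra hK
  have hzK := z_mem_of_normal_of_ne_bot e h.hz hO _ hK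
  have hN := h.normal
  -- `|H ∩ G₀| = 12`
  have h1 : (H ⊓ G₀).relIndex H = 2 := by
    rw [Subgroup.inf_relIndex_left]
    have h2 : G₀.relIndex H ∣ 2 := by
      rw [← h.hidx]; exact Subgroup.relIndex_dvd_index_of_normal _ _
    rcases (Nat.dvd_prime Nat.prime_two).1 h2 with h3 | h3
    · exfalso
      rw [Subgroup.relIndex_eq_one] at h3
      exact h.not_le (hCH.trans h3)
    · exact h3
  have h4 := card_mul_relIndex_of_le (inf_le_left : H ⊓ G₀ ≤ H)
  rw [h1, hcard] at h4
  have h5 : Nat.card (H ⊓ G₀ : Subgroup G) = 12 := by omega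
  -- the class of `z` lies in `H ∩ G₀`
  have hsub : {y : G | IsConj z y} ⊆ ((H ⊓ G₀ : Subgroup G) : Set G) := by
    intro y hy
    obtain ⟨a, ha⟩ := isConj_iff.1 hy
    rw [← ha]
    refine Subgroup.mem_inf.2 ⟨?_, hN.conj_mem z h.z_mem a⟩
    exact Subgroup.normalCore_le H ((inferInstance : H.normalCore.Normal).conj_mem z hzK a)
  have h6 := Set.ncard_le_ncard hsub (Set.toFinite _)
  have h7 : Set.ncard ((H ⊓ G₀ : Subgroup G) : Set G) = 12 := by
    rw [← h5]
    exact (Nat.card_coe_set_eq _).symm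
  have h8 := Cfsg.Agent.Lib.Helper7.ncard_cls_mul_card_centralizer z
  rw [card_C e, hG] at h8
  omega

end IdxTwo

end Cfsg.Agent.Lib.Helper7.D8Cent
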