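import Mathlib
import Cfsg.Agent.Lib.Helper7.D8Cent7

/-! Groups with an involution whose centralizer is dihedral of order 8 (S3035): the theorem. -/

set_option autoImplicit false

namespace Cfsg.Agent.Lib.Helper7.D8Cent

open Cfsg.Agent.Lib.Helper3

theorem main {G : Type*} [Group G] [Finite G] (z : G) (hz : orderOf z = 2)
    (e : ↥(Subgroup.centralizer ({z} : Set G)) ≃* DihedralGroup 4) :
    Subgroup.centralizer ({z} : Set G) ⊔ Cfsg.oddCore G = ⊤ ∨
      Nonempty (G ≃* Equiv.Perm (Fin 4)) ∨ Nonempty (G ≃* Equiv.Perm (Fin 5)) ∨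
      Nonempty (G ≃* Matrix.SpecialLinearGroup (Fin 3) (ZMod 2)) ∨
      Nonempty (G ≃* ↥(alternatingGroup (Fin 6))) := by
  by_cases hiso : ∀ g : G, g * z * g⁻¹ ∈ Subgroup.centralizer ({z} : Set G) → g * z * g⁻¹ = z
  · left
    exact sup_oddCore_eq_top e hz hiso
  · right
    push_neg at hiso
    obtain ⟨g, hg, hgz⟩ := hiso
    have hO := oddCore_eq_bot e hz g hg hgz
    obtain ⟨h1, h2⟩ := conj_involution (g := g) hz
    rcases involution_cases e hz hg h1 h2 with h | ⟨i₀, hi⟩
    · exact absurd h hgz
    · by_cases hno : ∀ H : Subgroup G, H.index ≠ 2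
      · rcases iso_of_no_index_two e hz hO hno with h | h
        · right; right; left; exact h
        · right; right; right; exact h
      · push_neg at hno
        obtain ⟨G₀, hG₀⟩ := hno
        have hI : IdxTwo e G₀ g i₀ := ⟨hz, hG₀, hi⟩
        rcases hI.card_G with h24 | h120
        · left; exact hI.iso_perm_four hO h24
        · right; left; exact hI.iso_perm_five hO h120

end Cfsg.Agent.Lib.Helper7.D8Cent
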