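import Mathlib
import Cfsg.Agent.Lib.Helper1.DihedralIso

set_option autoImplicit false

/-! Tools for "`p`-by-cyclic subgroups are cyclic or dihedral" statements. -/

namespace Cfsg.Agent.Lib.Helper7.PByCyc

variable {G : Type*} [Group G]

/-- The hypothesis on a subgroup `H`: its Sylow `p`-subgroups are normal, with cyclic quotient. -/
def PC (p : ℕ) (H : Subgroup G) : Prop :=
  (∀ S : Sylow p ↥H, (S : Subgroup ↥H).Normal) ∧
  (∀ (S : Sylow p ↥H) [(S : Subgroup ↥H).Normal], IsCyclic (↥H ⧸ (S : Subgroup ↥H)))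

theorem pc_of_gen [Finite G] {p : ℕ} [Fact p.Prime] (H A : Subgroup G) (hAH : A ≤ H)
    (hA : IsPGroup p A) (hHN : H ≤ Subgroup.normalizer (A : Set G)) (x : G) (hx : x ∈ H)
    (hgen : ∀ h ∈ H, ∃ a ∈ A, ∃ k : ℤ, h = a * x ^ k) : PC p H := by
  haveI hn : (A.subgroupOf H).Normal := (Subgroup.normal_subgroupOf_iff_le_normalizer hAH).mpr hHN
  haveI hcyc : IsCyclic (↥H ⧸ A.subgroupOf H) := by
    refine ⟨⟨QuotientGroup.mk ⟨x, hx⟩, fun q => ?_⟩⟩
    obtain ⟨h, rfl⟩ := QuotientGroup.mk_surjective q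
    obtain ⟨a, ha, k, hk⟩ := hgen h h.2
    refine ⟨k, ?_⟩
    show (QuotientGroup.mk ⟨x, hx⟩ : ↥H ⧸ A.subgroupOf H) ^ k = QuotientGroup.mk h
    have h1 : h = (⟨a, hAH ha⟩ : ↥H) * (⟨x, hx⟩ : ↥H) ^ k := by
      apply Subtype.ext
      rw [Subgroup.coe_mul, Subgroup.coe_zpow]
      exact hk
    rw [h1, QuotientGroup.mk_mul, QuotientGroup.mk_zpow]
    have h2 : (QuotientGroup.mk (⟨a, hAH ha⟩ : ↥H) : ↥H ⧸ A.subgroupOf H) = 1 := by
      rw [QuotientGroup.eq_one_iff, Subgroup.mem_subgroupOf]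
      exact ha
    rw [h2, one_mul]
  have hA' : IsPGroup p (A.subgroupOf H) := hA.comap_subtype
  have hle : ∀ S : Sylow p ↥H, A.subgroupOf H ≤ (S : Subgroup ↥H) := fun S =>
    hA'.le_sylow_of_normal S
  letI : CommGroup (↥H ⧸ A.subgroupOf H) := IsCyclic.commGroup
  constructor
  · intro S
    refine ⟨fun s hs h => ?_⟩
    have h1 : h * s * h⁻¹ * s⁻¹ ∈ A.subgroupOf H := by
      rw [← QuotientGroup.eq_one_iff]
      rw [QuotientGroup.mk_mul, QuotientGroup.mk_mul, QuotientGroup.mk_mul, QuotientGroup.mk_inv,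
        QuotientGroup.mk_inv]
      rw [mul_comm (h : ↥H ⧸ A.subgroupOf H), mul_assoc, mul_assoc]
      simp
    have h2 := (S : Subgroup ↥H).mul_mem (hle S h1) hs
    simpa using h2
  · intro S _
    have hsurj : Function.Surjective (QuotientGroup.map (A.subgroupOf H) (S : Subgroup ↥H)
        (MonoidHom.id ↥H) (by
          intro a ha
          exact hle S ha)) := by
      intro q
      obtain ⟨h, rfl⟩ := QuotientGroup.mk_surjective q
      exact ⟨QuotientGroup.mk h, rfl⟩
    exact isCyclic_of_surjective _ hsurj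

/-- In a dihedral group, an element either commutes with all elements of odd order, or is an
involution inverting all of them. -/
theorem dih_cases {m : ℕ} {H : Type*} [Group H] (e : H ≃* DihedralGroup m) (x : H) :
    (∀ y : H, Odd (orderOf y) → x * y = y * x) ∨
    (orderOf x = 2 ∧ ∀ y : H, Odd (orderOf y) → x * y * x⁻¹ = y⁻¹) := by
  have hodd : ∀ y : H, Odd (orderOf y) → ∃ j, e y = DihedralGroup.r j := by
    intro y hy
    rcases hey : e y with j | j
    · exact ⟨j, rfl⟩
    · exfalso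
      have h1 : orderOf (e y) = 2 := by rw [hey]; exact DihedralGroup.orderOf_sr j
      rw [MulEquiv.orderOf_eq] at h1
      rw [h1] at hy
      exact absurd hy (by decide)
  rcases hex : e x with i | i
  · left
    intro y hy
    obtain ⟨j, hj⟩ := hodd y hy
    apply e.injective
    rw [map_mul, map_mul, hex, hj, DihedralGroup.r_mul_r, DihedralGroup.r_mul_r, add_comm]
  · right
    constructor
    · rw [← MulEquiv.orderOf_eq e, hex]
      exact DihedralGroup.orderOf_sr i
    · intro y hy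
      obtain ⟨j, hj⟩ := hodd y hy
      apply e.injective
      rw [map_mul, map_mul, map_inv, map_inv, hex, hj]
      simp
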