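import Mathlib
import Cfsg.Agent.Lib.Helper7.PByCyc1

set_option autoImplicit false

namespace Cfsg.Agent.Lib.Helper7.PByCyc

variable {G : Type*} [Group G]

/-- A finite group with a central cyclic normal subgroup `S` of order coprime to its index and with
cyclic quotient is cyclic. -/
theorem isCyclic_of_central {H : Type*} [Group H] [Finite H] (S : Subgroup H) [S.Normal]
    (hS : IsCyclic S) (hcop : (Nat.card S).Coprime S.index) (hq : IsCyclic (H ⧸ S))
    (hc : S ≤ Subgroup.center H) : IsCyclic H := by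
  have hcomm : ∀ a b : H, a * b = b * a :=
    commutative_of_cyclic_center_quotient (QuotientGroup.mk' S)
      (by rw [QuotientGroup.ker_mk']; exact hc)
  letI : CommGroup H := { (inferInstance : Group H) with mul_comm := hcomm }
  rw [IsCyclic.iff_exponent_eq_card]
  apply Nat.dvd_antisymm Group.exponent_dvd_nat_card
  rw [← S.card_mul_index]
  apply Nat.Coprime.mul_dvd_of_dvd_of_dvd hcop
  · obtain ⟨s, hs⟩ := isCyclic_iff_exists_orderOf_eq_natCard.mp hS
    rw [← hs, ← Subgroup.orderOf_coe]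
    exact Monoid.order_dvd_exponent _
  · obtain ⟨q, hq'⟩ := isCyclic_iff_exists_orderOf_eq_natCard.mp hq
    obtain ⟨y, rfl⟩ := QuotientGroup.mk_surjective q
    rw [Subgroup.index_eq_card, ← hq']
    exact dvd_trans (orderOf_map_dvd (QuotientGroup.mk' S) y) (Monoid.order_dvd_exponent _)

/-- A subgroup `H = ⟨s⟩ ∪ x⟨s⟩` with `x` an involution outside `⟨s⟩` inverting `s` is dihedral. -/
theorem dihedral_of_inv (H : Subgroup G) (s x : G) (hs : s ∈ H) (hxH : x ∈ H) (hx : orderOf x = 2)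
    (hxs : x ∉ Subgroup.zpowers s) (hinv : x * s * x⁻¹ = s⁻¹) (hn : orderOf s ≠ 0)
    (hH : ∀ h ∈ H, h ∈ Subgroup.zpowers s ∨ x * h ∈ Subgroup.zpowers s) :
    Nonempty (↥H ≃* DihedralGroup (orderOf s)) := by
  have hx2 : x * x = 1 := by
    have := pow_orderOf_eq_one x
    rwa [hx, pow_two] at this
  have hxinv : x⁻¹ = x := inv_eq_of_mul_eq_one_left hx2
  have hxs2 : (x * s) * (x * s) = 1 := by
    have h1 : x * s * x = s⁻¹ := by rw [← hinv, hxinv]
    calc (x * s) * (x * s) = (x * s * x) * s := by group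
      _ = 1 := by rw [h1, inv_mul_cancel]
  have hxs1 : x * s ≠ 1 := by
    intro h
    apply hxs
    have : x = s⁻¹ := eq_inv_of_mul_eq_one_left h
    rw [this]
    exact Subgroup.inv_mem _ (Subgroup.mem_zpowers s)
  have hoxs : orderOf (x * s) = 2 := by
    apply orderOf_eq_prime
    · rw [pow_two]; exact hxs2
    · exact hxs1
  have hprod : x * (x * s) = s := by rw [← mul_assoc, hx2, one_mul]
  have key := Cfsg.Agent.Lib.Helper1.DihedralIso.closure_equiv_dihedral x (x * s) hx hoxs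
    (by rw [hprod]; exact hn)
  rw [hprod] at key
  obtain ⟨e⟩ := key
  have hcl : Subgroup.closure ({x, x * s} : Set G) = H := by
    apply le_antisymm
    · rw [Subgroup.closure_le]
      rintro z (rfl | hz)
      · exact hxH
      · rw [Set.mem_singleton_iff] at hz
        subst hz
        exact H.mul_mem hxH hs
    · have hxm : x ∈ Subgroup.closure ({x, x * s} : Set G) := Subgroup.subset_closure (by simp)
      have hxsm : x * s ∈ Subgroup.closure ({x, x * s} : Set G) :=
        Subgroup.subset_closure (by simp)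
      have hsm : s ∈ Subgroup.closure ({x, x * s} : Set G) := by
        have := Subgroup.mul_mem _ hxm hxsm
        rwa [hprod] at this
      have hzp : Subgroup.zpowers s ≤ Subgroup.closure ({x, x * s} : Set G) := by
        rw [Subgroup.zpowers_le]; exact hsm
      intro h hh
      rcases hH h hh with h1 | h1
      · exact hzp h1
      · have := Subgroup.mul_mem _ hxm (hzp h1)
        rwa [← mul_assoc, hx2, one_mul] at this
  exact ⟨(MulEquiv.subgroupCongr hcl.symm).trans e⟩

/-- Number theory: if `k ≡ 1 mod p`, `k ^ m ≡ 1 mod p ^ a` and `m` is prime to `p`, then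
`k ≡ 1 mod p ^ a`. -/
theorem int_modEq_one {p : ℕ} (hp : p.Prime) (a m : ℕ) (hm : m.Coprime p) (k : ℤ)
    (h1 : (p : ℤ) ∣ k - 1) (h2 : ((p : ℤ) ^ a) ∣ k ^ m - 1) : ((p : ℤ) ^ a) ∣ k - 1 := by
  rcases Nat.eq_zero_or_pos a with rfl | ha
  · simp
  obtain ⟨b, rfl⟩ : ∃ b, a = b + 1 := ⟨a - 1, by omega⟩
  have h3 : ((p : ℤ) ^ (b + 1)) ∣ k ^ p ^ b - 1 ^ p ^ b := dvd_sub_pow_of_dvd_sub h1 b
  rw [one_pow] at h3
  -- work in ZMod (p ^ (b+1))
  have e1 : ((k : ZMod (p ^ (b + 1))) ^ m = 1) := by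
    have := (ZMod.intCast_zmod_eq_zero_iff_dvd (k ^ m - 1) (p ^ (b + 1))).mpr (by exact_mod_cast h2)
    push_cast at this
    exact sub_eq_zero.mp this
  have e2 : ((k : ZMod (p ^ (b + 1))) ^ (p ^ b) = 1) := by
    have := (ZMod.intCast_zmod_eq_zero_iff_dvd (k ^ p ^ b - 1) (p ^ (b + 1))).mpr
      (by exact_mod_cast h3)
    push_cast at this
    exact sub_eq_zero.mp this
  have d1 : orderOf (k : ZMod (p ^ (b + 1))) ∣ m := orderOf_dvd_of_pow_eq_one e1
  have d2 : orderOf (k : ZMod (p ^ (b + 1))) ∣ p ^ b := orderOf_dvd_of_pow_eq_one e2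
  have d3 : orderOf (k : ZMod (p ^ (b + 1))) ∣ Nat.gcd m (p ^ b) := Nat.dvd_gcd d1 d2
  have hg : Nat.gcd m (p ^ b) = 1 := Nat.Coprime.pow_right b hm
  rw [hg, Nat.dvd_one, orderOf_eq_one_iff] at d3
  have := (ZMod.intCast_zmod_eq_zero_iff_dvd (k - 1) (p ^ (b + 1))).mp (by
    push_cast
    rw [d3, sub_self])
  exact_mod_cast this
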