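import Mathlib
import Cfsg.Agent.Lib.Helper7.PByCyc2
import Cfsg.Agent.Lib.Helper7.D8Cent8

/-! The centralizer in `A₆` of a product of two disjoint transpositions is dihedral of order 8,
and the characterization of `A₆` and `PSL₂(7)` by this centralizer (S3261). -/

set_option autoImplicit false

namespace Cfsg.Agent.Lib.Helper7.D8Cent

open Equiv Cfsg.Agent.Lib.Helper3

/-- the standard double transposition -/
def a0 : Perm (Fin 6) := swap 0 1 * swap 2 3
/-- an element of order four with square `a0` -/
def s0 : Perm (Fin 6) := swap 0 2 * swap 2 1 * swap 1 3 * swap 4 5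
/-- an involution inverting `s0` -/
def x0 : Perm (Fin 6) := swap 0 2 * swap 1 3

set_option maxRecDepth 100000 in
theorem a0_sign : Perm.sign a0 = 1 := by decide
set_option maxRecDepth 100000 in
theorem s0_sign : Perm.sign s0 = 1 := by decide
set_option maxRecDepth 100000 in
theorem x0_sign : Perm.sign x0 = 1 := by decide
set_option maxRecDepth 100000 in
theorem s0_comm : s0 * a0 = a0 * s0 := by decide
set_option maxRecDepth 100000 in
theorem x0_comm : x0 * a0 = a0 * x0 := by decide
set_option maxRecDepth 100000 in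
theorem x0_sq : x0 * x0 = 1 := by decide
set_option maxRecDepth 100000 in
theorem x0_ne : x0 ≠ 1 := by decide
set_option maxRecDepth 100000 in
theorem s0_sq : s0 ^ 2 = a0 := by decide
set_option maxRecDepth 100000 in
theorem a0_ne : a0 ≠ 1 := by decide
set_option maxRecDepth 100000 in
theorem a0_sq : a0 * a0 = 1 := by decide
set_option maxRecDepth 100000 in
theorem s0_four : s0 ^ 4 = 1 := by decide
set_option maxRecDepth 100000 in
theorem x0_inv : x0 * s0 * x0⁻¹ = s0⁻¹ := by decide
set_option maxRecDepth 100000 in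
theorem a0_support : a0.support.card = 4 := by decide

set_option maxRecDepth 100000 in
set_option maxHeartbeats 4000000 in
theorem cent_cases : ∀ h : Perm (Fin 6), Perm.sign h = 1 → h * a0 = a0 * h →
    (h = 1 ∨ h = s0 ∨ h = s0 ^ 2 ∨ h = s0 ^ 3) ∨
      (x0 * h = 1 ∨ x0 * h = s0 ∨ x0 * h = s0 ^ 2 ∨ x0 * h = s0 ^ 3) := by
  decide

/-- the centralizer of the standard double transposition in `A₆` -/
theorem cent_a0 :
    Nonempty (↥(Subgroup.centralizer
      ({(⟨a0, Perm.mem_alternatingGroup.2 a0_sign⟩ : alternatingGroup (Fin 6))} :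
        Set (alternatingGroup (Fin 6)))) ≃* DihedralGroup 4) := by
  obtain ⟨a, ha⟩ : ∃ a : alternatingGroup (Fin 6), a = ⟨a0, Perm.mem_alternatingGroup.2 a0_sign⟩ :=
    ⟨_, rfl⟩
  obtain ⟨s, hs⟩ : ∃ s : alternatingGroup (Fin 6), s = ⟨s0, Perm.mem_alternatingGroup.2 s0_sign⟩ :=
    ⟨_, rfl⟩
  obtain ⟨x, hx⟩ : ∃ x : alternatingGroup (Fin 6), x = ⟨x0, Perm.mem_alternatingGroup.2 x0_sign⟩ :=
    ⟨_, rfl⟩
  rw [← ha]
  have hsa : s * a = a * s := by rw [hs, ha]; exact Subtype.ext s0_comm
  have hxa : x * a = a * x := by rw [hx, ha]; exact Subtype.ext x0_comm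
  have hxx : x * x = 1 := by rw [hx]; exact Subtype.ext x0_sq
  have hx1 : x ≠ 1 := by
    rw [hx]; intro h; exact x0_ne (congrArg Subtype.val h)
  have hs2 : s ^ 2 = a := by rw [hs, ha]; exact Subtype.ext s0_sq
  have ha1 : a ≠ 1 := by
    rw [ha]; intro h; exact a0_ne (congrArg Subtype.val h)
  have hs4 : s ^ 4 = 1 := by rw [hs]; exact Subtype.ext s0_four
  have hinv : x * s * x⁻¹ = s⁻¹ := by rw [hx, hs]; exact Subtype.ext x0_inv
  have hos : orderOf s = 4 := by
    have := orderOf_eq_prime_pow (x := s) (p := 2) (n := 1)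
      (by rw [pow_one, hs2]; exact ha1) (by rw [show 2 ^ (1 + 1) = 4 from rfl]; exact hs4)
    exact this.trans (by norm_num)
  have hox : orderOf x = 2 := orderOf_eq_prime (by rw [pow_two]; exact hxx) hx1
  have hxs : x ∉ Subgroup.zpowers s := by
    intro hmem
    obtain ⟨k, hk⟩ := Subgroup.mem_zpowers_iff.1 hmem
    have hc : x * s = s * x := by
      rw [← hk]
      exact ((Commute.refl s).zpow_left k).eq
    have h1 : s⁻¹ = s := by rw [← hinv, hc, mul_inv_cancel_right]
    apply ha1
    rw [← hs2, pow_two]
    nth_rewrite 1 [← h1]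
    exact inv_mul_cancel s
  have key := Cfsg.Agent.Lib.Helper7.PByCyc.dihedral_of_inv
    (Subgroup.centralizer ({a} : Set (alternatingGroup (Fin 6)))) s x
    (Subgroup.mem_centralizer_singleton_iff.2 hsa) (Subgroup.mem_centralizer_singleton_iff.2 hxa)
    hox hxs hinv (by rw [hos]; norm_num) (by
      intro h hh
      rw [Subgroup.mem_centralizer_singleton_iff] at hh
      have h1 : (h : Perm (Fin 6)) * a0 = a0 * (h : Perm (Fin 6)) := by
        have := congrArg Subtype.val hh
        rw [ha] at this
        exact this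
      have h2 := cent_cases h.1 (Perm.mem_alternatingGroup.1 h.2) h1
      have hmem : ∀ k : ℕ, s ^ k ∈ Subgroup.zpowers s := fun k =>
        Subgroup.pow_mem _ (Subgroup.mem_zpowers s) k
      rcases h2 with (h3 | h3 | h3 | h3) | (h3 | h3 | h3 | h3)
      · left
        have : h = s ^ 0 := by rw [pow_zero]; exact Subtype.ext h3
        rw [this]; exact hmem 0
      · left
        have : h = s ^ 1 := by rw [pow_one, hs]; exact Subtype.ext h3
        rw [this]; exact hmem 1
      · left
        have : h = s ^ 2 := by rw [hs]; exact Subtype.ext h3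
        rw [this]; exact hmem 2
      · left
        have : h = s ^ 3 := by rw [hs]; exact Subtype.ext h3
        rw [this]; exact hmem 3
      · right
        have : x * h = s ^ 0 := by rw [pow_zero, hx]; exact Subtype.ext h3
        rw [this]; exact hmem 0
      · right
        have : x * h = s ^ 1 := by rw [pow_one, hs, hx]; exact Subtype.ext h3
        rw [this]; exact hmem 1
      · right
        have : x * h = s ^ 2 := by rw [hs, hx]; exact Subtype.ext h3
        rw [this]; exact hmem 2
      · right
        have : x * h = s ^ 3 := by rw [hs, hx]; exact Subtype.ext h3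
        rw [this]; exact hmem 3)
  rw [hos] at key
  exact key

/-- cycle type of an involution of `S₆` moving four points -/
theorem cycleType_eq (σ : Perm (Fin 6)) (h2 : orderOf σ = 2) (h4 : σ.support.card = 4) :
    σ.cycleType = Multiset.replicate 2 2 := by
  have h1 : ∀ n ∈ σ.cycleType, n = 2 := by
    intro n hn
    have h5 := Perm.dvd_of_mem_cycleType hn
    rw [h2] at h5
    have h6 := Perm.two_le_of_mem_cycleType hn
    have := Nat.le_of_dvd (by norm_num) h5
    omega
  have h7 := Multiset.eq_replicate_card.2 h1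
  have h8 := Perm.sum_cycleType σ
  rw [h4, h7, Multiset.sum_replicate, smul_eq_mul] at h8
  have h9 : Multiset.card σ.cycleType = 2 := by omega
  rw [h7, h9]

/-- centralizers correspond under an isomorphism -/
def centEquiv {H H' : Type*} [Group H] [Group H'] (φ : H ≃* H') (a : H) :
    ↥(Subgroup.centralizer ({a} : Set H)) ≃* ↥(Subgroup.centralizer ({φ a} : Set H')) where
  toFun x := ⟨φ x, by
    rw [Subgroup.mem_centralizer_singleton_iff, ← map_mul, ← map_mul,
      Subgroup.mem_centralizer_singleton_iff.1 x.2]⟩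
  invFun y := ⟨φ.symm y, by
    rw [Subgroup.mem_centralizer_singleton_iff]
    apply φ.injective
    rw [map_mul, map_mul, MulEquiv.apply_symm_apply]
    exact Subgroup.mem_centralizer_singleton_iff.1 y.2⟩
  left_inv x := by
    apply Subtype.ext
    simp
  right_inv y := by
    apply Subtype.ext
    simp
  map_mul' x y := by
    apply Subtype.ext
    simp

/-- the centralizer in `A₆` of any product of two disjoint transpositions -/
theorem cent_double_transposition (αt : ↥(alternatingGroup (Fin 6))) (hαt : orderOf αt = 2)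
    (hsupp : (αt : Perm (Fin 6)).support.card = 4) :
    Nonempty (↥(Subgroup.centralizer ({αt} : Set ↥(alternatingGroup (Fin 6)))) ≃*
      DihedralGroup 4) := by
  have ho : orderOf (αt : Perm (Fin 6)) = 2 := by rw [Subgroup.orderOf_coe]; exact hαt
  have ho0 : orderOf a0 = 2 := orderOf_eq_prime (by rw [pow_two]; exact a0_sq) a0_ne
  have hct : a0.cycleType = (αt : Perm (Fin 6)).cycleType := by
    rw [cycleType_eq a0 ho0 a0_support, cycleType_eq _ ho hsupp]
  obtain ⟨σ, hσ⟩ := isConj_iff.1 (Perm.isConj_iff_cycleType_eq.2 hct)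
  let φ : ↥(alternatingGroup (Fin 6)) ≃* ↥(alternatingGroup (Fin 6)) := MulAut.conjNormal σ
  have hφ : φ ⟨a0, Perm.mem_alternatingGroup.2 a0_sign⟩ = αt := by
    apply Subtype.ext
    exact hσ
  obtain ⟨e0⟩ := cent_a0
  have e1 := centEquiv φ ⟨a0, Perm.mem_alternatingGroup.2 a0_sign⟩
  rw [hφ] at e1
  exact ⟨e1.symm.trans e0⟩

end Cfsg.Agent.Lib.Helper7.D8Cent
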