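import Mathlib
import Cfsg.Agent.Lib.Helper7.D8Cent9

/-! Groups without subgroups of index two with an involution whose centralizer is dihedral of
order 8 are `A₆` or `PSL₂(7)` (S3261). -/

set_option autoImplicit false

namespace Cfsg.Agent.Lib.Helper7.D8Cent

open Cfsg.Agent.Lib.Helper3
open scoped commutatorElement

variable {G : Type*} [Group G] [Finite G] {z : G}
  (e : ↥(Subgroup.centralizer ({z} : Set G)) ≃* DihedralGroup 4)

include e in
/-- all involutions are conjugate when there is no subgroup of index two -/
theorem all_conj_of_no_index_two (hz : orderOf z = 2)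
    (hno : ∀ H : Subgroup G, H.index ≠ 2) :
    ∀ x y : G, orderOf x = 2 → orderOf y = 2 → IsConj x y := by
  obtain ⟨P, hP⟩ := exists_sylow e hz
  have e' : ↥(P : Subgroup G) ≃* DihedralGroup 4 := (MulEquiv.subgroupCongr hP).trans e
  exact di_all_conj P e' 2 (by decide) (by decide)
    (di_conj_of_no_index_two P e' 2 (by decide) (by decide) hno)

include e in
/-- the core is trivial when there is no subgroup of index two -/
theorem oddCore_eq_bot_of_no_index_two (hz : orderOf z = 2)
    (hno : ∀ H : Subgroup G, H.index ≠ 2) : Cfsg.oddCore G = ⊥ := by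
  have hconj := all_conj_of_no_index_two e hz hno z (diS e 0) hz (orderOf_diS e 0)
  obtain ⟨c, hc⟩ := isConj_iff.1 hconj
  have hne : diS e 0 ≠ z := by
    intro h
    exact diR_ne_diS e 2 0 ((z_eq e hz).symm.trans h.symm)
  exact oddCore_eq_bot e hz c (by rw [hc]; exact diS_mem e 0) (by rw [hc]; exact hne)

include e in
/-- `G` is `A₆` or `PSL₂(7)` -/
theorem iso_alt_or_psl (hz : orderOf z = 2) (hno : ∀ H : Subgroup G, H.index ≠ 2) :
    Nonempty (G ≃* ↥(alternatingGroup (Fin 6))) ∨
      Nonempty (G ≃* Matrix.ProjectiveSpecialLinearGroup (Fin 2) (ZMod 7)) := by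
  have hO := oddCore_eq_bot_of_no_index_two e hz hno
  have hconj := all_conj_of_no_index_two e hz hno
  haveI := simple_of_no_index_two e hz hO hconj
  have hperf : commutator G = ⊤ := by
    rcases (inferInstance : (commutator G).Normal).eq_bot_or_eq_top with h | h
    · exfalso
      apply not_comm e
      have h1 : ⁅diR e 1, diS e 0⁆ ∈ commutator G :=
        Subgroup.commutator_mem_commutator (Subgroup.mem_top _) (Subgroup.mem_top _)
      rw [h, Subgroup.mem_bot, commutatorElement_eq_one_iff_mul_comm] at h1
      exact h1
    · exact h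
  rcases Cfsg.Agent.S0848.result hperf z hz e with h168 | h360
  · right
    exact Cfsg.Agent.S0495.result h168 (F := ZMod 7) (ZMod.card 7)
  · left
    exact Cfsg.Agent.S0497.result h360

end Cfsg.Agent.Lib.Helper7.D8Cent
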