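import Mathlib
import Cfsg.Agent.Lib.Helper7.DCov5

set_option autoImplicit false

/-! Involutions of the non-split double covers of the alternating groups of degree at most 7:
the transfer argument. -/

namespace Cfsg.Agent.Lib.Helper7.DCov

open Cfsg.Agent.Lib.Helper1.Stem Equiv
open scoped commutatorElement

section words

variable {H : Type*} [Group H]

theorem dih_word (α β : H) (hα : α * α = 1) (hβ : β * β = 1)
    (hc : (α * β * α * β) * (α * β * α * β) = 1) : α * β * α * β = β * α * β * α := by
  have hαi : α⁻¹ = α := inv_eq_of_mul_eq_one_right hα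
  have hβi : β⁻¹ = β := inv_eq_of_mul_eq_one_right hβ
  have := eq_inv_of_mul_eq_one_left hc
  rw [this]
  simp only [mul_inv_rev, hαi, hβi, mul_assoc]

theorem dih_comm_left (α β : H) (hα : α * α = 1) (hβ : β * β = 1)
    (hc : (α * β * α * β) * (α * β * α * β) = 1) :
    Commute α (α * β * α * β) := by
  have h1 := dih_word α β hα hβ hc
  show α * (α * β * α * β) = (α * β * α * β) * α
  calc α * (α * β * α * β) = (α * α) * β * α * β := by simp only [mul_assoc]
    _ = β * α * β := by rw [hα, one_mul]
    _ = β * α * β * (α * α) := by rw [hα, mul_one]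
    _ = (β * α * β * α) * α := by simp only [mul_assoc]
    _ = (α * β * α * β) * α := by rw [h1]

theorem dih_comm_right (α β : H) (hα : α * α = 1) (hβ : β * β = 1)
    (hc : (α * β * α * β) * (α * β * α * β) = 1) :
    Commute β (α * β * α * β) := by
  have h1 := dih_word α β hα hβ hc
  show β * (α * β * α * β) = (α * β * α * β) * β
  calc β * (α * β * α * β) = β * (β * α * β * α) := by rw [h1]
    _ = (β * β) * α * β * α := by simp only [mul_assoc]
    _ = α * β * α := by rw [hβ, one_mul]
    _ = α * β * α * (β * β) := by rw [hβ, mul_one]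
    _ = (α * β * α * β) * β := by simp only [mul_assoc]

theorem mem_zpowers_of_sq {c w : H} (hc : c * c = 1) (hw : w ∈ Subgroup.zpowers c) :
    w = 1 ∨ w = c := by
  obtain ⟨k, rfl⟩ := Subgroup.mem_zpowers_iff.mp hw
  have h2 : c ^ (2 : ℤ) = 1 := by
    rw [zpow_ofNat, pow_two, hc]
  obtain ⟨q, hq | hq⟩ := Int.even_or_odd' k
  · left
    rw [hq, zpow_mul, h2, one_zpow]
  · right
    rw [hq, zpow_add, zpow_mul, h2, one_zpow, one_mul, zpow_one]

end words

section cover

variable {n : ℕ} {H : Type*} [Group H] [Finite H]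

/-- if some non-central element is an involution, every lift of an involution is one -/
theorem lift_sq (hn : n ≤ 7) (σ : H →* alternatingGroup (Fin n))
    (hσ : Cfsg.IsStemExtension σ) (hk : Nat.card σ.ker = 2)
    (x : H) (hx : x ^ 2 = 1) (hxk : x ∉ σ.ker) (h : H) (hh : (σ h) ^ 2 = 1) : h ^ 2 = 1 := by
  have hker : ∀ w ∈ σ.ker, w ^ 2 = 1 := by
    intro w hw
    have := pow_card_eq_one' (G := σ.ker) (x := ⟨w, hw⟩)
    rw [hk] at this
    exact congrArg Subtype.val this
  by_cases h1 : σ h = 1
  · exact hker h h1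
  · have hx1 : σ x ≠ 1 := hxk
    have hx2 : (σ x) ^ 2 = 1 := by rw [← map_pow, hx, map_one]
    obtain ⟨g, hg⟩ := involution_conj hn (σ x) (σ h) hx2 hx1 hh h1
    obtain ⟨k, rfl⟩ := hσ.1 g
    have hz : (k * x * k⁻¹)⁻¹ * h ∈ σ.ker := by
      rw [MonoidHom.mem_ker, map_mul, map_inv, map_mul, map_mul, map_inv, hg, inv_mul_cancel]
    have hzc : Commute (k * x * k⁻¹) ((k * x * k⁻¹)⁻¹ * h) :=
      ((Subgroup.mem_center_iff.mp (hσ.2.1 hz)) _)
    have e : h = (k * x * k⁻¹) * ((k * x * k⁻¹)⁻¹ * h) := by group
    rw [e, hzc.mul_pow, hker _ hz, mul_one, conj_pow, hx, mul_one, mul_inv_cancel]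

/-- the transfer argument: every involution is central -/
theorem involution_mem_ker (hn : n ≤ 7) (σ : H →* alternatingGroup (Fin n))
    (hσ : Cfsg.IsStemExtension σ) (hk : Nat.card σ.ker = 2)
    (a b : alternatingGroup (Fin n)) (ha : a ^ 2 = 1) (hb : b ^ 2 = 1)
    (hab : ((a * b) ^ 2) ^ 2 = 1)
    (hidx : ¬ 2 ∣ (Subgroup.closure ({a, b} : Set (alternatingGroup (Fin n)))).index)
    (x : H) (hx : x ^ 2 = 1) : x ∈ σ.ker := by
  by_contra hxk
  have hC := lift_sq hn σ hσ hk x hx hxk
  obtain ⟨α, rfl⟩ := hσ.1 a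
  obtain ⟨β, rfl⟩ := hσ.1 b
  have hα : α * α = 1 := by rw [← pow_two]; exact hC α ha
  have hβ : β * β = 1 := by rw [← pow_two]; exact hC β hb
  have hcc : (α * β * α * β) * (α * β * α * β) = 1 := by
    have := hC ((α * β) ^ 2) (by rw [map_pow, map_mul]; exact hab)
    rw [pow_two, pow_two] at this
    simpa only [mul_assoc] using this
  have hword := dih_word α β hα hβ hcc
  have hαi : α⁻¹ = α := inv_eq_of_mul_eq_one_right hα
  have hβi : β⁻¹ = β := inv_eq_of_mul_eq_one_right hβ
  have hcomm : ∀ s ∈ ({α, β} : Set H), Commute s (α * β * α * β) := by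
    intro s hs
    rcases hs with rfl | rfl
    · exact dih_comm_left s β hα hβ hcc
    · exact dih_comm_right α s hα hβ hcc
  have hle := commutator_comap_le σ hσ.2.1 (Subgroup.zpowers (α * β * α * β)) ({α, β} : Set H)
    (by
      intro s hs c hc
      obtain ⟨k, rfl⟩ := Subgroup.mem_zpowers_iff.mp hc
      have h1 : Commute s ((α * β * α * β) ^ k) := (hcomm s hs).zpow_right k
      constructor
      · rw [h1.eq, mul_inv_cancel_right]
        exact Subgroup.zpow_mem_zpowers _ _
      · rw [mul_assoc s⁻¹, ← h1.eq, inv_mul_cancel_left]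
        exact Subgroup.zpow_mem_zpowers _ _)
    (by
      intro s hs t ht
      rcases hs with rfl | rfl <;> rcases ht with rfl | rfl
      · rw [commutatorElement_self]; exact Subgroup.one_mem _
      · rw [commutatorElement_def, hαi, hβi]
        exact Subgroup.mem_zpowers _
      · rw [commutatorElement_def, hαi, hβi, ← hword]
        exact Subgroup.mem_zpowers _
      · rw [commutatorElement_self]; exact Subgroup.one_mem _)
  rw [Set.image_pair] at hle
  have hkills : Kills σ 2 (Subgroup.closure ({σ α, σ β} : Set (alternatingGroup (Fin n)))) := by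
    intro w hw hwk _
    rcases mem_zpowers_of_sq hcc (hle hw) with h | h
    · exact h
    · rw [h]
      rw [h, MonoidHom.mem_ker] at hwk
      have := hC (α * β) (by
        rw [pow_two, ← map_mul, ← hwk]
        congr 1
        simp only [mul_assoc])
      rw [pow_two] at this
      simpa only [mul_assoc] using this
  have := not_dvd_card_ker_of_kills σ hσ 2 Nat.prime_two _ hidx hkills
  rw [hk] at this
  exact this (dvd_refl 2)

end cover

end Cfsg.Agent.Lib.Helper7.DCov
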