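import Mathlib
import Cfsg.Agent.Lib.Helper7.DCov6
import Cfsg.Agent.Lib.Helper7.AltMul7
import Cfsg.Agent.Lib.Helper7.AltMul3

set_option autoImplicit false

/-! Involutions of the non-split double covers of the alternating groups of degree at most 7:
the explicit Sylow `2`-subgroups, and the conclusion. -/

namespace Cfsg.Agent.Lib.Helper7.DCov

open Equiv Cfsg.Agent.Lib.Helper1.PermList Cfsg.Agent.Lib.Helper1.Stem
open Cfsg.Agent.Lib.Helper7.AltMul
open scoped commutatorElement

/-- the data needed in degree `n` -/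
def HasData (n : ℕ) : Prop :=
  (¬ 2 ∣ (commutator (alternatingGroup (Fin n))).index) ∧
    ∃ a b : alternatingGroup (Fin n), a ^ 2 = 1 ∧ b ^ 2 = 1 ∧ ((a * b) ^ 2) ^ 2 = 1 ∧
      ¬ 2 ∣ (Subgroup.closure ({a, b} : Set (alternatingGroup (Fin n)))).index

theorem hasData_of_odd (n : ℕ) (h : ¬ 2 ∣ Nat.card (alternatingGroup (Fin n))) : HasData n := by
  refine ⟨fun hd => h (hd.trans (Subgroup.index_dvd_card _)), 1, 1, one_pow _, one_pow _, ?_,
    fun hd => h (hd.trans (Subgroup.index_dvd_card _))⟩
  simp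

theorem hasData_zero : HasData 0 := by
  apply hasData_of_odd
  rw [Nat.card_unique]
  decide

theorem hasData_one : HasData 1 := by
  apply hasData_of_odd
  rw [Nat.card_unique]
  decide

theorem hasData_two : HasData 2 := by
  apply hasData_of_odd
  have h := card_alt 0
  have h2 : (0 + 2).factorial = 2 := by decide
  rw [h2] at h
  have : Nat.card (alternatingGroup (Fin 2)) = 1 := by
    have h' : 2 * Nat.card (alternatingGroup (Fin 2)) = 2 := h
    omega
  rw [this]
  decide

theorem hasData_three : HasData 3 := by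
  apply hasData_of_odd
  have h := card_alt 1
  have h2 : (1 + 2).factorial = 6 := by decide
  rw [h2] at h
  have : Nat.card (alternatingGroup (Fin 3)) = 3 := by
    have h' : 2 * Nat.card (alternatingGroup (Fin 3)) = 6 := h
    omega
  rw [this]
  decide

section four

def p4u : Perm (Fin 4) :=
  permOfNat 4 (fun x => [0,2,3,1].getD x 0) (fun x => [0,3,1,2].getD x 0) (by decide)

def p4v : Perm (Fin 4) :=
  permOfNat 4 (fun x => [2,0,1,3].getD x 0) (fun x => [1,2,0,3].getD x 0) (by decide)

def p4w : Perm (Fin 4) :=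
  permOfNat 4 (fun x => [3,0,2,1].getD x 0) (fun x => [1,3,2,0].getD x 0) (by decide)

theorem p4u_sign : Perm.sign p4u = 1 := by decide
theorem p4v_sign : Perm.sign p4v = 1 := by decide
theorem p4w_sign : Perm.sign p4w = 1 := by decide

def U4 : alternatingGroup (Fin 4) := ⟨p4u, Perm.mem_alternatingGroup.mpr p4u_sign⟩
def V4 : alternatingGroup (Fin 4) := ⟨p4v, Perm.mem_alternatingGroup.mpr p4v_sign⟩
def W4 : alternatingGroup (Fin 4) := ⟨p4w, Perm.mem_alternatingGroup.mpr p4w_sign⟩

theorem X4_comm : ⁅U4, V4⁆ = X4 := by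
  rw [commutatorElement_def]
  apply eq_of_val_pbeq4
  decide +kernel

theorem Y4_comm : ⁅U4, W4⁆ = Y4 := by
  rw [commutatorElement_def]
  apply eq_of_val_pbeq4
  decide +kernel

theorem relY4sq : Y4 ^ 2 = 1 := by
  apply eq_of_val_pbeq4
  decide +kernel

theorem relXY4sq : ((X4 * Y4) ^ 2) ^ 2 = 1 := by
  apply eq_of_val_pbeq4
  decide +kernel

theorem hasData_four : HasData 4 := by
  refine ⟨?_, X4, Y4, relX4sq, relY4sq, relXY4sq, ?_⟩
  · have hle : Q4 ≤ commutator (alternatingGroup (Fin 4)) := by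
      refine Q4_le.trans ?_
      rw [Subgroup.closure_le]
      rintro g (rfl | rfl)
      · rw [← X4_comm]
        exact Subgroup.commutator_mem_commutator (Subgroup.mem_top _) (Subgroup.mem_top _)
      · rw [← Y4_comm]
        exact Subgroup.commutator_mem_commutator (Subgroup.mem_top _) (Subgroup.mem_top _)
    intro hd
    exact index_Q4 (hd.trans (Subgroup.index_dvd_of_le hle))
  · intro hd
    exact index_Q4 (hd.trans (Subgroup.index_dvd_of_le Q4_le))

end four

section five

theorem relY5sq : Y5 ^ 2 = 1 := by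
  apply eq_of_val_pbeq5
  decide +kernel

theorem relXY5sq : ((X5 * Y5) ^ 2) ^ 2 = 1 := by
  apply eq_of_val_pbeq5
  decide +kernel

theorem hasData_five : HasData 5 := by
  refine ⟨?_, X5, Y5, relX5sq, relY5sq, relXY5sq, ?_⟩
  · rw [alt_perfect 3 le_rfl, Subgroup.index_top]
    decide
  · intro hd
    exact index_Q5 (hd.trans (Subgroup.index_dvd_of_le Q5_le))

end five

section six

def p6a : Perm (Fin 6) :=
  permOfNat 6 (fun x => [1,0,3,2,4,5].getD x 0) (fun x => [1,0,3,2,4,5].getD x 0) (by decide)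

def p6b : Perm (Fin 6) :=
  permOfNat 6 (fun x => [0,3,2,1,5,4].getD x 0) (fun x => [0,3,2,1,5,4].getD x 0) (by decide)

theorem p6a_sign : Perm.sign p6a = 1 := by decide +kernel
theorem p6b_sign : Perm.sign p6b = 1 := by decide +kernel

def A6 : alternatingGroup (Fin 6) := ⟨p6a, Perm.mem_alternatingGroup.mpr p6a_sign⟩
def B6 : alternatingGroup (Fin 6) := ⟨p6b, Perm.mem_alternatingGroup.mpr p6b_sign⟩

theorem eq_of_val_pbeq6 (g h : alternatingGroup (Fin 6))
    (e : pbeq (g : Perm (Fin 6)) (h : Perm (Fin 6)) = true) : g = h :=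
  Subtype.ext (eq_of_pbeq _ _ e)

theorem relA6sq : A6 ^ 2 = 1 := by
  apply eq_of_val_pbeq6
  decide +kernel

theorem relB6sq : B6 ^ 2 = 1 := by
  apply eq_of_val_pbeq6
  decide +kernel

theorem relAB6 : ((A6 * B6) ^ 2) ^ 2 = 1 := by
  apply eq_of_val_pbeq6
  decide +kernel

def L6 : List (alternatingGroup (Fin 6)) :=
  [1, A6, B6, A6 * B6, B6 * A6, A6 * B6 * A6, B6 * A6 * B6, A6 * B6 * A6 * B6]

theorem L6_chk : (chkOne L6 && chkMul L6 && chkNodup L6) = true := by decide +kernel

theorem L6_one : (1 : alternatingGroup (Fin 6)) ∈ L6 := by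
  have := L6_chk
  simp only [Bool.and_eq_true] at this
  exact one_mem_of_chkOne L6 this.1.1

theorem L6_mul : ∀ a ∈ L6, ∀ b ∈ L6, a * b ∈ L6 := by
  have := L6_chk
  simp only [Bool.and_eq_true] at this
  exact mul_mem_of_chkMul L6 this.1.2

theorem L6_nodup : L6.Nodup := by
  have := L6_chk
  simp only [Bool.and_eq_true] at this
  exact nodup_of_chkNodup L6 this.2

def Q6 : Subgroup (alternatingGroup (Fin 6)) := listSubgroup L6 L6_one L6_mul

theorem card_Q6 : Nat.card Q6 = 8 := card_listSubgroup L6 L6_one L6_mul L6_nodup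

theorem card_alt6 : Nat.card (alternatingGroup (Fin 6)) = 360 := by
  have h : 2 * Nat.card (alternatingGroup (Fin 6)) = (4 + 2).factorial := card_alt 4
  have h2 : (4 + 2).factorial = 720 := by decide
  omega

theorem index_Q6 : ¬ 2 ∣ Q6.index := by
  have h := Subgroup.card_mul_index Q6
  rw [card_Q6, card_alt6] at h
  omega

theorem Q6_le : Q6 ≤ Subgroup.closure {A6, B6} := by
  intro g hg
  have hX : A6 ∈ Subgroup.closure ({A6, B6} : Set (alternatingGroup (Fin 6))) :=
    Subgroup.subset_closure (by simp)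
  have hY : B6 ∈ Subgroup.closure ({A6, B6} : Set (alternatingGroup (Fin 6))) :=
    Subgroup.subset_closure (by simp)
  have hg' : g ∈ L6 := hg
  simp only [L6, List.mem_cons, List.not_mem_nil, or_false] at hg'
  rcases hg' with rfl | rfl | rfl | rfl | rfl | rfl | rfl | rfl
  · exact Subgroup.one_mem _
  · exact hX
  · exact hY
  · exact Subgroup.mul_mem _ hX hY
  · exact Subgroup.mul_mem _ hY hX
  · exact Subgroup.mul_mem _ (Subgroup.mul_mem _ hX hY) hX
  · exact Subgroup.mul_mem _ (Subgroup.mul_mem _ hY hX) hY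
  · exact Subgroup.mul_mem _ (Subgroup.mul_mem _ (Subgroup.mul_mem _ hX hY) hX) hY

theorem hasData_six : HasData 6 := by
  refine ⟨?_, A6, B6, relA6sq, relB6sq, relAB6, ?_⟩
  · rw [alt_perfect 4 (by norm_num), Subgroup.index_top]
    decide
  · intro hd
    exact index_Q6 (hd.trans (Subgroup.index_dvd_of_le Q6_le))

end six

section seven

def p7a : Perm (Fin 7) :=
  permOfNat 7 (fun x => [1,0,3,2,4,5,6].getD x 0) (fun x => [1,0,3,2,4,5,6].getD x 0) (by decide)

def p7b : Perm (Fin 7) :=
  permOfNat 7 (fun x => [0,3,2,1,5,4,6].getD x 0) (fun x => [0,3,2,1,5,4,6].getD x 0) (by decide)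

theorem p7a_sign : Perm.sign p7a = 1 := by decide +kernel
theorem p7b_sign : Perm.sign p7b = 1 := by decide +kernel

def A7 : alternatingGroup (Fin 7) := ⟨p7a, Perm.mem_alternatingGroup.mpr p7a_sign⟩
def B7 : alternatingGroup (Fin 7) := ⟨p7b, Perm.mem_alternatingGroup.mpr p7b_sign⟩

theorem eq_of_val_pbeq7 (g h : alternatingGroup (Fin 7))
    (e : pbeq (g : Perm (Fin 7)) (h : Perm (Fin 7)) = true) : g = h :=
  Subtype.ext (eq_of_pbeq _ _ e)

theorem relA7sq : A7 ^ 2 = 1 := by
  apply eq_of_val_pbeq7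
  decide +kernel

theorem relB7sq : B7 ^ 2 = 1 := by
  apply eq_of_val_pbeq7
  decide +kernel

theorem relAB7 : ((A7 * B7) ^ 2) ^ 2 = 1 := by
  apply eq_of_val_pbeq7
  decide +kernel

def L7 : List (alternatingGroup (Fin 7)) :=
  [1, A7, B7, A7 * B7, B7 * A7, A7 * B7 * A7, B7 * A7 * B7, A7 * B7 * A7 * B7]

theorem L7_chk : (chkOne L7 && chkMul L7 && chkNodup L7) = true := by decide +kernel

theorem L7_one : (1 : alternatingGroup (Fin 7)) ∈ L7 := by
  have := L7_chk
  simp only [Bool.and_eq_true] at this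
  exact one_mem_of_chkOne L7 this.1.1

theorem L7_mul : ∀ a ∈ L7, ∀ b ∈ L7, a * b ∈ L7 := by
  have := L7_chk
  simp only [Bool.and_eq_true] at this
  exact mul_mem_of_chkMul L7 this.1.2

theorem L7_nodup : L7.Nodup := by
  have := L7_chk
  simp only [Bool.and_eq_true] at this
  exact nodup_of_chkNodup L7 this.2

def Q7 : Subgroup (alternatingGroup (Fin 7)) := listSubgroup L7 L7_one L7_mul

theorem card_Q7 : Nat.card Q7 = 8 := card_listSubgroup L7 L7_one L7_mul L7_nodup

theorem card_alt7 : Nat.card (alternatingGroup (Fin 7)) = 2520 := by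
  have h : 2 * Nat.card (alternatingGroup (Fin 7)) = (5 + 2).factorial := card_alt 5
  have h2 : (5 + 2).factorial = 5040 := by decide
  omega

theorem index_Q7 : ¬ 2 ∣ Q7.index := by
  have h := Subgroup.card_mul_index Q7
  rw [card_Q7, card_alt7] at h
  omega

theorem Q7_le : Q7 ≤ Subgroup.closure {A7, B7} := by
  intro g hg
  have hX : A7 ∈ Subgroup.closure ({A7, B7} : Set (alternatingGroup (Fin 7))) :=
    Subgroup.subset_closure (by simp)
  have hY : B7 ∈ Subgroup.closure ({A7, B7} : Set (alternatingGroup (Fin 7))) :=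
    Subgroup.subset_closure (by simp)
  have hg' : g ∈ L7 := hg
  simp only [L7, List.mem_cons, List.not_mem_nil, or_false] at hg'
  rcases hg' with rfl | rfl | rfl | rfl | rfl | rfl | rfl | rfl
  · exact Subgroup.one_mem _
  · exact hX
  · exact hY
  · exact Subgroup.mul_mem _ hX hY
  · exact Subgroup.mul_mem _ hY hX
  · exact Subgroup.mul_mem _ (Subgroup.mul_mem _ hX hY) hX
  · exact Subgroup.mul_mem _ (Subgroup.mul_mem _ hY hX) hY
  · exact Subgroup.mul_mem _ (Subgroup.mul_mem _ (Subgroup.mul_mem _ hX hY) hX) hY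

theorem hasData_seven : HasData 7 := by
  refine ⟨?_, A7, B7, relA7sq, relB7sq, relAB7, ?_⟩
  · rw [alt_perfect 5 (by norm_num), Subgroup.index_top]
    decide
  · intro hd
    exact index_Q7 (hd.trans (Subgroup.index_dvd_of_le Q7_le))

end seven

theorem hasData (n : ℕ) (hn : n ≤ 7) : HasData n := by
  interval_cases n
  · exact hasData_zero
  · exact hasData_one
  · exact hasData_two
  · exact hasData_three
  · exact hasData_four
  · exact hasData_five
  · exact hasData_six
  · exact hasData_seven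

/-- **Uniqueness of the involution** of a non-split double cover of `A_n`, `n ≤ 7`. -/
theorem unique_involution (n : ℕ) (H : Type*) [Group H] [Finite H] (hn : n ≤ 7)
    (hcov : Cfsg.IsNonsplitDoubleCover H (alternatingGroup (Fin n))) (x y : H)
    (hx : orderOf x = 2) (hy : orderOf y = 2) : x = y := by
  obtain ⟨hZ2, ⟨e⟩, hns⟩ := hcov
  obtain ⟨hcomm, a, b, ha, hb, hab, hidx⟩ := hasData n hn
  let σ : H →* alternatingGroup (Fin n) :=
    e.toMonoidHom.comp (QuotientGroup.mk' (Subgroup.center H))
  have hsurj : Function.Surjective σ :=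
    e.surjective.comp (QuotientGroup.mk'_surjective _)
  have hker : σ.ker = Subgroup.center H := by
    ext g
    rw [MonoidHom.mem_ker]
    show e (QuotientGroup.mk' _ g) = 1 ↔ _
    rw [MulEquiv.map_eq_one_iff, QuotientGroup.mk'_apply, QuotientGroup.eq_one_iff]
  -- the stem condition
  have hidx2 : (commutator H ⊔ Subgroup.center H).index =
      (commutator (alternatingGroup (Fin n))).index := by
    have h1 : (commutator (alternatingGroup (Fin n))).comap σ =
        commutator H ⊔ Subgroup.center H := by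
      have h2 : (commutator H).map σ = commutator (alternatingGroup (Fin n)) := by
        rw [commutator_def, commutator_def, Subgroup.map_commutator,
          ← MonoidHom.range_eq_map, MonoidHom.range_eq_top.mpr hsurj]
      rw [← h2, Subgroup.comap_map_eq, hker]
    rw [← h1, Subgroup.index_comap_of_surjective _ hsurj]
  have hstem : Subgroup.center H ≤ commutator H :=
    center_le_commutator_of_nonsplit hZ2 hns (by rw [hidx2]; exact hcomm)
  have hσ : Cfsg.IsStemExtension σ := ⟨hsurj, hker.le, hker.le.trans hstem⟩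
  have hk : Nat.card σ.ker = 2 := by rw [hker]; exact hZ2
  have hxc : x ∈ σ.ker :=
    involution_mem_ker hn σ hσ hk a b ha hb hab hidx x (by rw [← hx]; exact pow_orderOf_eq_one x)
  have hyc : y ∈ σ.ker :=
    involution_mem_ker hn σ hσ hk a b ha hb hab hidx y (by rw [← hy]; exact pow_orderOf_eq_one y)
  -- the kernel has a unique non-trivial element
  have hx1 : x ≠ 1 := by
    intro h
    rw [h, orderOf_one] at hx
    exact absurd hx (by decide)
  have hy1 : y ≠ 1 := by
    intro h
    rw [h, orderOf_one] at hy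
    exact absurd hy (by decide)
  obtain ⟨w, -, hw⟩ := (Nat.card_eq_two_iff' (1 : σ.ker)).mp hk
  have h1 := hw ⟨x, hxc⟩ (fun h => hx1 (congrArg Subtype.val h))
  have h2 := hw ⟨y, hyc⟩ (fun h => hy1 (congrArg Subtype.val h))
  exact congrArg Subtype.val (h1.trans h2.symm)

end Cfsg.Agent.Lib.Helper7.DCov
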