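import Mathlib
import Cfsg.Agent.Lib.Lead.AlperinOmega

set_option autoImplicit false

/-! Dedekind groups: a non-abelian finite Dedekind group contains a quaternion pair. -/

namespace Cfsg.Agent.Lib.Helper7.Ded

open scoped commutatorElement
open Cfsg.Agent.Lib.Lead

variable {G : Type*} [Group G]

/-- every subgroup is normal -/
def IsDed (G : Type*) [Group G] : Prop := ∀ H : Subgroup G, H.Normal

theorem IsDed.conj_mem (h : IsDed G) (g a : G) : g * a * g⁻¹ ∈ Subgroup.zpowers a :=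
  (h (Subgroup.zpowers a)).conj_mem a (Subgroup.mem_zpowers a) g

theorem IsDed.comm_mem_right (h : IsDed G) (x y : G) : ⁅x, y⁆ ∈ Subgroup.zpowers y := by
  rw [commutatorElement_def]
  exact Subgroup.mul_mem _ (h.conj_mem x y) (Subgroup.inv_mem _ (Subgroup.mem_zpowers y))

theorem IsDed.comm_mem_left (h : IsDed G) (x y : G) : ⁅x, y⁆ ∈ Subgroup.zpowers x := by
  have h1 : ⁅x, y⁆ = x * (y * x * y⁻¹)⁻¹ := by rw [commutatorElement_def]; group
  rw [h1]
  exact Subgroup.mul_mem _ (Subgroup.mem_zpowers x) (Subgroup.inv_mem _ (h.conj_mem y x))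

theorem commute_of_mem_zpowers {a b : G} (h : a ∈ Subgroup.zpowers b) : Commute a b := by
  obtain ⟨k, rfl⟩ := Subgroup.mem_zpowers_iff.mp h
  exact (Commute.refl b).zpow_left k

theorem IsDed.comm_commute_left (h : IsDed G) (x y : G) : Commute ⁅x, y⁆ x :=
  commute_of_mem_zpowers (h.comm_mem_left x y)

theorem IsDed.comm_commute_right (h : IsDed G) (x y : G) : Commute ⁅x, y⁆ y :=
  commute_of_mem_zpowers (h.comm_mem_right x y)

theorem pow_dvd_of_pow_mul_eq_one {p γ k : ℕ} (hp : p.Prime) (hγ : 1 ≤ γ) {z : G}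
    (hz : orderOf z = p ^ γ) (h : (z ^ k) ^ p = 1) : p ^ (γ - 1) ∣ k := by
  rw [← pow_mul] at h
  have h2 := orderOf_dvd_of_pow_eq_one h
  rw [hz] at h2
  have h3 : p ^ (γ - 1) * p ∣ k * p := by
    rw [← pow_succ]
    have : γ - 1 + 1 = γ := by omega
    rw [this]; exact h2
  exact Nat.dvd_of_mul_dvd_mul_right hp.pos h3

theorem key [Finite G] (h : IsDed G) {x y : G} (hxy : x * y ≠ y * x)
    (hmin : ∀ a b : G, a * b ≠ b * a → orderOf x + orderOf y ≤ orderOf a + orderOf b)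
    (hle : orderOf y ≤ orderOf x) :
    orderOf x = 4 ∧ y ^ 2 = x ^ 2 ∧ y * x * y⁻¹ = x⁻¹ := by
  obtain ⟨c, hc⟩ : ∃ c : G, c = ⁅x, y⁆ := ⟨_, rfl⟩
  have hc1 : c ≠ 1 := fun h0 => hxy (commutatorElement_eq_one_iff_mul_comm.mp (hc ▸ h0))
  have hcx : Commute ⁅x, y⁆ x := h.comm_commute_left x y
  have hminx : ∀ a : G, orderOf a < orderOf x → a * y = y * a := by
    intro a ha
    by_contra hne
    have := hmin a y hne
    omega
  have hminy : ∀ b : G, orderOf b < orderOf y → x * b = b * x := by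
    intro b hb
    by_contra hne
    have := hmin x b hne
    omega
  have hx1 : orderOf x ≠ 1 := by
    intro h0
    rw [orderOf_eq_one_iff] at h0
    exact hxy (by rw [h0, one_mul, mul_one])
  have hy1 : orderOf y ≠ 1 := by
    intro h0
    rw [orderOf_eq_one_iff] at h0
    exact hxy (by rw [h0, one_mul, mul_one])
  have hox : 0 < orderOf x := orderOf_pos x
  have hoy : 0 < orderOf y := orderOf_pos y
  have hpx : ∀ q : ℕ, q.Prime → q ∣ orderOf x → x ^ q * y = y * x ^ q := by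
    intro q hq hqx
    apply hminx
    rw [orderOf_pow_of_dvd hq.ne_zero hqx]
    exact Nat.div_lt_self hox hq.one_lt
  have hpy : ∀ q : ℕ, q.Prime → q ∣ orderOf y → x * y ^ q = y ^ q * x := by
    intro q hq hqy
    apply hminy
    rw [orderOf_pow_of_dvd hq.ne_zero hqy]
    exact Nat.div_lt_self hoy hq.one_lt
  have hcqx : ∀ q : ℕ, q.Prime → q ∣ orderOf x → c ^ q = 1 := by
    intro q hq hqx
    rw [hc, ← commutatorElement_pow_left x y hcx q, commutatorElement_eq_one_iff_mul_comm]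
    exact hpx q hq hqx
  have hcqy : ∀ q : ℕ, q.Prime → q ∣ orderOf y → c ^ q = 1 := by
    intro q hq hqy
    have h1 : ⁅y, x⁆ ^ q = 1 := by
      rw [← commutatorElement_pow_left y x (h.comm_commute_left y x) q,
        commutatorElement_eq_one_iff_mul_comm]
      exact (hpy q hq hqy).symm
    rw [hc, ← commutatorElement_inv y x, inv_pow, h1, inv_one]
  have hoc : ∀ q : ℕ, q.Prime → c ^ q = 1 → orderOf c = q := by
    intro q hq hcq
    have := orderOf_dvd_of_pow_eq_one hcq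
    rcases (Nat.dvd_prime hq).mp this with h0 | h0
    · exact absurd (orderOf_eq_one_iff.mp h0) hc1
    · exact h0
  obtain ⟨p, hp⟩ : ∃ p : ℕ, p = (orderOf x).minFac := ⟨_, rfl⟩
  have hpp : p.Prime := hp ▸ Nat.minFac_prime hx1
  have hpx' : p ∣ orderOf x := hp ▸ Nat.minFac_dvd _
  have hocp : orderOf c = p := hoc p hpp (hcqx p hpp hpx')
  obtain ⟨α, hα⟩ : ∃ α, orderOf x = p ^ α :=
    ⟨_, Nat.eq_prime_pow_of_unique_prime_dvd hox.ne' (fun {d} hd hdx => by
      rw [← hocp]; exact (hoc d hd (hcqx d hd hdx)).symm)⟩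
  obtain ⟨β, hβ⟩ : ∃ β, orderOf y = p ^ β :=
    ⟨_, Nat.eq_prime_pow_of_unique_prime_dvd hoy.ne' (fun {d} hd hdy => by
      rw [← hocp]; exact (hoc d hd (hcqy d hd hdy)).symm)⟩
  have hα1 : 1 ≤ α := by
    by_contra h0
    have : α = 0 := by omega
    rw [this, pow_zero] at hα
    exact hx1 hα
  have hβ1 : 1 ≤ β := by
    by_contra h0
    have : β = 0 := by omega
    rw [this, pow_zero] at hβ
    exact hy1 hβ
  have hβα : β ≤ α := by
    rw [hα, hβ] at hle
    exact (Nat.pow_le_pow_iff_right hpp.one_lt).mp hle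
  obtain ⟨t, ht⟩ : ∃ t : G, t = y ^ (p ^ (β - 1)) := ⟨_, rfl⟩
  have hto : orderOf t = p := by
    rw [ht, orderOf_pow_of_dvd (pow_ne_zero _ hpp.ne_zero) (hβ ▸ pow_dvd_pow p (Nat.sub_le _ _)),
      hβ, Nat.pow_div (Nat.sub_le _ _) hpp.pos]
    have : β - (β - 1) = 1 := by omega
    rw [this, pow_one]
  obtain ⟨s, hs⟩ : ∃ s : ℕ, y ^ s = c := by
    have h1 := h.comm_mem_right x y
    rw [← mem_powers_iff_mem_zpowers] at h1
    obtain ⟨s, hs⟩ := h1
    exact ⟨s, hs.trans hc.symm⟩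
  have hsdvd : p ^ (β - 1) ∣ s := by
    apply pow_dvd_of_pow_mul_eq_one hpp hβ1 hβ
    rw [hs, ← hocp, pow_orderOf_eq_one]
  obtain ⟨s', hs'⟩ := hsdvd
  have hcts : t ^ s' = c := by rw [ht, ← pow_mul, ← hs', hs]
  have hcop : s'.Coprime (orderOf t) := by
    rw [hto]
    apply Nat.Coprime.symm
    rw [Nat.Prime.coprime_iff_not_dvd hpp]
    intro hd
    obtain ⟨k, hk⟩ := hd
    apply hc1
    rw [← hcts, hk, pow_mul, ← hto, pow_orderOf_eq_one, one_pow]
  obtain ⟨m, hm⟩ := exists_pow_eq_self_of_coprime hcop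
  rw [hcts] at hm
  obtain ⟨k, hk⟩ : ∃ k : ℕ, x ^ k = t := by
    have h1 : t ∈ Subgroup.zpowers x := by
      rw [← hm, hc]; exact Subgroup.pow_mem _ (h.comm_mem_left x y) m
    rw [← mem_powers_iff_mem_zpowers] at h1
    exact h1
  have hkdvd : p ^ (α - 1) ∣ k := by
    apply pow_dvd_of_pow_mul_eq_one hpp hα1 hα
    rw [hk, ← hto, pow_orderOf_eq_one]
  obtain ⟨j, hj⟩ := hkdvd
  obtain ⟨u, hu⟩ : ∃ u : G, u = (x ^ (p ^ (α - β) * j))⁻¹ := ⟨_, rfl⟩
  have hut : u ^ (p ^ (β - 1)) = t⁻¹ := by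
    rw [hu, inv_pow, ← pow_mul, ← hk, hj]
    have h1 : p ^ (α - 1) = p ^ (α - β) * p ^ (β - 1) := by
      rw [← pow_add]; congr 1; omega
    rw [h1]
    congr 2
    ring
  have hux : Commute u x := by
    rw [hu]; exact ((Commute.refl x).pow_left _).inv_left
  obtain ⟨y₁, hy₁⟩ : ∃ y₁ : G, y₁ = u * y := ⟨_, rfl⟩
  have hxy₁ : x * y₁ ≠ y₁ * x := by
    intro h0
    apply hxy
    have h1 : u * (x * y) = u * (y * x) := by
      calc u * (x * y) = (u * x) * y := by group
        _ = (x * u) * y := by rw [hux.eq]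
        _ = x * y₁ := by rw [hy₁]; group
        _ = y₁ * x := h0
        _ = u * (y * x) := by rw [hy₁]; group
    exact mul_left_cancel h1
  have hy₁ord : orderOf y ≤ orderOf y₁ := by
    have := hmin x y₁ hxy₁
    omega
  have hdu : Commute ⁅y, u⁆ u := h.comm_commute_right y u
  have hdy : Commute ⁅y, u⁆ y := h.comm_commute_left y u
  have hpow : ∀ n : ℕ, y₁ ^ n = u ^ n * y ^ n * ⁅y, u⁆ ^ (n.choose 2) := fun n => by
    rw [hy₁]; exact mul_pow_of_commute u y hdu hdy n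
  have hy₁pow : y₁ ^ (p ^ (β - 1)) = ⁅y, u⁆ ^ ((p ^ (β - 1)).choose 2) := by
    rw [hpow, hut, ← ht, inv_mul_cancel, one_mul]
  have hxpy : Commute (x ^ p) y := hpx p hpp hpx'
  have hdp : ⁅y, u⁆ ^ p = 1 := by
    have h1 : ⁅y, u ^ p⁆ = ⁅y, u⁆ ^ p := by
      rw [← commutatorElement_inv (u ^ p) y,
        commutatorElement_pow_left u y (h.comm_commute_left u y) p, ← inv_pow,
        commutatorElement_inv]
    rw [← h1, commutatorElement_eq_one_iff_mul_comm]
    have h3 : u ^ p = ((x ^ p) ^ (p ^ (α - β) * j))⁻¹ := by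
      rw [hu, inv_pow, ← pow_mul, ← pow_mul, mul_comm]
    rw [h3]
    exact ((hxpy.pow_left _).inv_left).symm.eq
  have hcontra : y₁ ^ (p ^ (β - 1)) = 1 → False := by
    intro h0
    have h1 := orderOf_le_of_pow_eq_one (pow_pos hpp.pos _) h0
    have h2 : p ^ (β - 1) < p ^ β := Nat.pow_lt_pow_right hpp.one_lt (by omega)
    rw [hβ] at hy₁ord
    omega
  have h2pow : p ^ (β - 1) = 2 := by
    by_contra hne
    apply hcontra
    rw [hy₁pow]
    obtain ⟨e, he⟩ := Nat.Prime.dvd_choose_pow hpp (by norm_num : (2 : ℕ) ≠ 0) (Ne.symm hne)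
    rw [he, pow_mul, hdp, one_pow]
  have hp2 : p = 2 := by
    have hb : β - 1 ≠ 0 := by
      intro h0; rw [h0, pow_zero] at h2pow; omega
    have : p ∣ 2 := by rw [← h2pow]; exact dvd_pow_self p hb
    exact (Nat.prime_dvd_prime_iff_eq hpp Nat.prime_two).mp this
  have hβ2 : β = 2 := by
    rw [hp2] at h2pow
    have : β - 1 = 1 := Nat.pow_right_injective (le_refl 2) (by simpa using h2pow)
    omega
  have hα2 : α = 2 := by
    by_contra hne
    have hα3 : 3 ≤ α := by omega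
    apply hcontra
    rw [hy₁pow, h2pow]
    have hch : Nat.choose 2 2 = 1 := by decide
    rw [hch, pow_one, commutatorElement_eq_one_iff_mul_comm]
    -- `u` is a power of `x ^ 2`
    have h3 : u = ((x ^ p) ^ (p ^ (α - β - 1) * j))⁻¹ := by
      rw [hu, ← pow_mul, ← mul_assoc, ← pow_succ']
      have : α - β - 1 + 1 = α - β := by omega
      rw [this]
    rw [h3]
    exact ((hxpy.pow_left _).inv_left).symm.eq
  rw [hp2, hα2] at hα
  rw [hp2, hβ2] at hβ
  have hx4 : orderOf x = 4 := by rw [hα]; norm_num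
  have hy4 : orderOf y = 4 := by rw [hβ]; norm_num
  rw [hp2] at hocp
  -- an element of order two in a cyclic group of order four is the square of the generator
  have hsq : ∀ z : G, orderOf z = 4 → c ∈ Subgroup.zpowers z → c = z ^ 2 := by
    intro z hz hcz
    rw [← mem_powers_iff_mem_zpowers] at hcz
    obtain ⟨i, hi⟩ := hcz
    have hi : z ^ i = c := hi
    have h1 : z ^ (i * 2) = 1 := by rw [pow_mul, hi, ← hocp, pow_orderOf_eq_one]
    have h2 := orderOf_dvd_of_pow_eq_one h1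
    rw [hz] at h2
    have h3 : 2 ∣ i := by omega
    obtain ⟨i', hi'⟩ := h3
    have hz4 : z ^ 4 = 1 := by rw [← hz, pow_orderOf_eq_one]
    rcases Nat.even_or_odd i' with ⟨l, hl⟩ | ⟨l, hl⟩
    · exfalso; apply hc1
      rw [← hi, hi', hl]
      have : 2 * (l + l) = 4 * l := by ring
      rw [this, pow_mul, hz4, one_pow]
    · rw [← hi, hi', hl]
      have : 2 * (2 * l + 1) = 4 * l + 2 := by ring
      rw [this, pow_add, pow_mul, hz4, one_pow, one_mul]
  have hcx2 : c = x ^ 2 := hsq x hx4 (hc ▸ h.comm_mem_left x y)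
  have hcy2 : c = y ^ 2 := hsq y hy4 (hc ▸ h.comm_mem_right x y)
  refine ⟨hx4, hcy2.symm.trans hcx2, ?_⟩
  have h5 : x * y * x⁻¹ * y⁻¹ = x ^ 2 := by
    rw [← commutatorElement_def, ← hc, hcx2]
  have h6 : y * x⁻¹ * y⁻¹ = x := by
    have : x * (y * x⁻¹ * y⁻¹) = x * x := by rw [← pow_two, ← h5]; group
    exact mul_left_cancel this
  calc y * x * y⁻¹ = (y * x⁻¹ * y⁻¹)⁻¹ := by group
    _ = x⁻¹ := by rw [h6]

/-- a finite non-abelian Dedekind group contains a quaternion pair -/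
theorem exists_quat_pair [Finite G] (h : IsDed G) (hna : ∃ a b : G, a * b ≠ b * a) :
    ∃ x y : G, orderOf x = 4 ∧ y ^ 2 = x ^ 2 ∧ y * x * y⁻¹ = x⁻¹ := by
  classical
  have hex : ∃ n : ℕ, ∃ a b : G, a * b ≠ b * a ∧ orderOf a + orderOf b = n := by
    obtain ⟨a, b, hab⟩ := hna
    exact ⟨_, a, b, hab, rfl⟩
  obtain ⟨x, y, hxy, hn⟩ := Nat.find_spec hex
  have hmin : ∀ a b : G, a * b ≠ b * a → orderOf x + orderOf y ≤ orderOf a + orderOf b := by
    intro a b hab
    rw [hn]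
    exact Nat.find_min' hex ⟨a, b, hab, rfl⟩
  rcases le_total (orderOf y) (orderOf x) with hle | hle
  · exact ⟨x, y, key h hxy hmin hle⟩
  · refine ⟨y, x, key h (Ne.symm hxy) ?_ hle⟩
    intro a b hab
    have := hmin a b hab
    omega

end Cfsg.Agent.Lib.Helper7.Ded
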