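import Mathlib
import Cfsg.Agent.Lib.Helper7.Ded1

set_option autoImplicit false

/-! Dedekind groups: the quaternion pair and its centralizer. -/

namespace Cfsg.Agent.Lib.Helper7.Ded

variable {G : Type*} [Group G]

/-- a quaternion pair: `x` of order four, `y ^ 2 = x ^ 2`, `y` inverts `x` -/
structure QP (x y : G) : Prop where
  ox : orderOf x = 4
  sq : y ^ 2 = x ^ 2
  conj : y * x * y⁻¹ = x⁻¹

namespace QP

variable {x y : G}

theorem x4 (h : QP x y) : x ^ 4 = 1 := by rw [← h.ox]; exact pow_orderOf_eq_one x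

theorem x2_ne (h : QP x y) : x ^ 2 ≠ 1 := by
  intro h0
  have := orderOf_dvd_of_pow_eq_one h0
  rw [h.ox] at this
  omega

theorem y4 (h : QP x y) : y ^ 4 = 1 := by
  have : y ^ 4 = (y ^ 2) ^ 2 := by rw [← pow_mul]
  rw [this, h.sq, ← pow_mul]; exact h.x4

theorem y2_ne (h : QP x y) : y ^ 2 ≠ 1 := by rw [h.sq]; exact h.x2_ne

theorem x_ne_inv (h : QP x y) : x⁻¹ ≠ x := by
  intro h0
  apply h.x2_ne
  rw [pow_two]
  nth_rewrite 1 [← h0]
  exact inv_mul_cancel x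

theorem y_ne_inv (h : QP x y) : y⁻¹ ≠ y := by
  intro h0
  apply h.y2_ne
  rw [pow_two]
  nth_rewrite 1 [← h0]
  exact inv_mul_cancel y

theorem not_comm (h : QP x y) : y * x ≠ x * y := by
  intro h0
  apply h.x_ne_inv
  rw [← h.conj, h0, mul_inv_cancel_right]

/-- `x` inverts `y` -/
theorem conj' (h : QP x y) : x * y * x⁻¹ = y⁻¹ := by
  have h1 : y * x⁻¹ = x * y := by
    have : (y * x * y⁻¹)⁻¹ = x := by rw [h.conj, inv_inv]
    calc y * x⁻¹ = (y * x * y⁻¹)⁻¹ * y := by group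
      _ = x * y := by rw [this]
  have h2 : x⁻¹ * x⁻¹ = (y ^ 2)⁻¹ := by rw [h.sq, pow_two, mul_inv_rev]
  calc x * y * x⁻¹ = (y * x⁻¹) * x⁻¹ := by rw [h1]
    _ = y * (x⁻¹ * x⁻¹) := by group
    _ = y * (y ^ 2)⁻¹ := by rw [h2]
    _ = y⁻¹ := by rw [pow_two]; group

theorem conj_inv (h : QP x y) : y⁻¹ * x⁻¹ * y = x := by
  have := h.conj
  calc y⁻¹ * x⁻¹ * y = y⁻¹ * (y * x * y⁻¹) * y := by rw [this]
    _ = x := by group

theorem conj_inv' (h : QP x y) : x⁻¹ * y⁻¹ * x = y := by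
  have := h.conj'
  calc x⁻¹ * y⁻¹ * x = x⁻¹ * (x * y * x⁻¹) * x := by rw [this]
    _ = y := by group

/-- an element of `⟨x⟩` whose square is nontrivial is `x` or `x⁻¹` -/
theorem eq_or_eq_inv_of_mem {z w : G} (hz4 : z ^ 4 = 1) (hw : w ∈ Subgroup.zpowers z)
    (hw2 : w ^ 2 ≠ 1) : w = z ∨ w = z⁻¹ := by
  obtain ⟨k, rfl⟩ := Subgroup.mem_zpowers_iff.mp hw
  have hk : ∀ k : ℤ, z ^ k = z ^ (k % 4) := by
    intro k
    conv_lhs => rw [← Int.emod_add_mul_ediv k 4]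
    rw [zpow_add, zpow_mul]
    have : z ^ (4 : ℤ) = 1 := by
      have := hz4
      rw [← zpow_natCast] at this
      exact_mod_cast this
    rw [this, one_zpow, mul_one]
  rw [hk k] at hw2 ⊢
  have h1 : 0 ≤ k % 4 := Int.emod_nonneg k (by norm_num)
  have h2 : k % 4 < 4 := Int.emod_lt_of_pos k (by norm_num)
  obtain ⟨r, hr⟩ : ∃ r : ℤ, r = k % 4 := ⟨_, rfl⟩
  rw [← hr] at hw2 h1 h2 ⊢
  interval_cases r
  · exfalso; apply hw2; simp
  · left; simp
  · exfalso; apply hw2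
    have : (z ^ (2 : ℤ)) ^ 2 = z ^ 4 := by
      rw [← zpow_natCast z 4, ← zpow_natCast (z ^ (2:ℤ)) 2, ← zpow_mul]; norm_num
    rw [this, hz4]
  · right
    have : z ^ (3 : ℤ) * z = 1 := by
      have h3 : z ^ (3 : ℤ) * z = z ^ (4 : ℤ) := by
        rw [show (4 : ℤ) = 3 + 1 by norm_num, zpow_add, zpow_one]
      rw [h3]
      have := hz4
      rw [← zpow_natCast] at this
      exact_mod_cast this
    exact eq_inv_of_mul_eq_one_left this

end QP

/-- the centralizer of the pair -/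
abbrev Cxy (x y : G) : Subgroup G := Subgroup.centralizer ({x, y} : Set G)

theorem mem_Cxy {x y g : G} : g ∈ Cxy x y ↔ g * x = x * g ∧ g * y = y * g := by
  rw [Subgroup.mem_centralizer_iff]
  constructor
  · intro h
    exact ⟨(h x (by simp)).symm, (h y (by simp)).symm⟩
  · rintro ⟨h1, h2⟩ z hz
    rcases hz with rfl | hz
    · exact h1.symm
    · rw [Set.mem_singleton_iff] at hz
      rw [hz]; exact h2.symm

theorem mem_Cxy_of_conj {x y g : G} (h1 : g * x * g⁻¹ = x) (h2 : g * y * g⁻¹ = y) :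
    g ∈ Cxy x y := by
  rw [mem_Cxy]
  constructor
  · nth_rewrite 2 [← h1]; group
  · nth_rewrite 2 [← h2]; group

/-- `G = Q * C` -/
theorem exists_mul_Cxy (hd : IsDed G) {x y : G} (h : QP x y) (g : G) :
    ∃ q ∈ Subgroup.closure ({x, y} : Set G), ∃ c ∈ Cxy x y, g = q * c := by
  have hxQ : x ∈ Subgroup.closure ({x, y} : Set G) := Subgroup.subset_closure (by simp)
  have hyQ : y ∈ Subgroup.closure ({x, y} : Set G) := Subgroup.subset_closure (by simp)
  have h1 : g * x * g⁻¹ = x ∨ g * x * g⁻¹ = x⁻¹ := by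
    apply QP.eq_or_eq_inv_of_mem h.x4 (hd.conj_mem g x)
    intro h0
    apply h.x2_ne
    have : (g * x * g⁻¹) ^ 2 = g * x ^ 2 * g⁻¹ := by rw [pow_two, pow_two]; group
    rw [this] at h0
    calc x ^ 2 = g⁻¹ * (g * x ^ 2 * g⁻¹) * g := by group
      _ = 1 := by rw [h0]; group
  have h2 : g * y * g⁻¹ = y ∨ g * y * g⁻¹ = y⁻¹ := by
    apply QP.eq_or_eq_inv_of_mem h.y4 (hd.conj_mem g y)
    intro h0
    apply h.y2_ne
    have : (g * y * g⁻¹) ^ 2 = g * y ^ 2 * g⁻¹ := by rw [pow_two, pow_two]; group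
    rw [this] at h0
    calc y ^ 2 = g⁻¹ * (g * y ^ 2 * g⁻¹) * g := by group
      _ = 1 := by rw [h0]; group
  have hkey : ∀ q : G, q ∈ Subgroup.closure ({x, y} : Set G) →
      q⁻¹ * (g * x * g⁻¹) * q = x → q⁻¹ * (g * y * g⁻¹) * q = y →
      ∃ q ∈ Subgroup.closure ({x, y} : Set G), ∃ c ∈ Cxy x y, g = q * c := by
    intro q hq hq1 hq2
    refine ⟨q, hq, q⁻¹ * g, ?_, by group⟩
    apply mem_Cxy_of_conj
    · calc q⁻¹ * g * x * (q⁻¹ * g)⁻¹ = q⁻¹ * (g * x * g⁻¹) * q := by group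
        _ = x := hq1
    · calc q⁻¹ * g * y * (q⁻¹ * g)⁻¹ = q⁻¹ * (g * y * g⁻¹) * q := by group
        _ = y := hq2
  rcases h1 with h1 | h1 <;> rcases h2 with h2 | h2
  · exact hkey 1 (Subgroup.one_mem _) (by rw [h1]; group) (by rw [h2]; group)
  · refine hkey x hxQ (by rw [h1]; group) ?_
    rw [h2]; exact h.conj_inv'
  · refine hkey y hyQ ?_ (by rw [h2]; group)
    rw [h1]; exact h.conj_inv
  · refine hkey (x * y) (Subgroup.mul_mem _ hxQ hyQ) ?_ ?_
    · rw [h1]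
      calc (x * y)⁻¹ * x⁻¹ * (x * y) = y⁻¹ * x⁻¹ * y := by group
        _ = x := h.conj_inv
    · rw [h2]
      calc (x * y)⁻¹ * y⁻¹ * (x * y) = y⁻¹ * (x⁻¹ * y⁻¹ * x) * y := by group
        _ = y := by rw [h.conj_inv']; group

/-- elements of `C` of order dividing four have order dividing two -/
theorem sq_eq_one_of_pow_four (hd : IsDed G) {x y : G} (h : QP x y) {g : G} (hg : g ∈ Cxy x y)
    (hg4 : g ^ 4 = 1) : g ^ 2 = 1 := by
  obtain ⟨hgx, hgy⟩ := mem_Cxy.mp hg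
  have hgyc : Commute g y := hgy
  have hw4 : (g * y) ^ 4 = 1 := by rw [hgyc.mul_pow, hg4, h.y4, one_mul]
  have hconj : x * (g * y) * x⁻¹ = g * y⁻¹ := by
    calc x * (g * y) * x⁻¹ = (x * g) * y * x⁻¹ := by group
      _ = (g * x) * y * x⁻¹ := by rw [hgx]
      _ = g * (x * y * x⁻¹) := by group
      _ = g * y⁻¹ := by rw [h.conj']
  have hmem : g * y⁻¹ ∈ Subgroup.zpowers (g * y) := by
    rw [← hconj]; exact hd.conj_mem x (g * y)
  have hne : g ≠ y := by
    intro h0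
    apply h.not_comm
    rw [← h0]; exact hgx
  have hw2 : (g * y⁻¹) ^ 2 ≠ 1 ∨ g ^ 2 = 1 := by
    by_cases h0 : g ^ 2 = 1
    · right; exact h0
    · left
      intro h1
      have hc : Commute g y⁻¹ := hgyc.inv_right
      rw [hc.mul_pow, inv_pow] at h1
      -- g^2 = y^2
      have h2 : g ^ 2 = y ^ 2 := by
        calc g ^ 2 = g ^ 2 * (y ^ 2)⁻¹ * y ^ 2 := by group
          _ = y ^ 2 := by rw [h1, one_mul]
      -- then (g * y)^2 = y^4 = 1, and g * y⁻¹ ∈ ⟨g * y⟩ = {1, g * y}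
      have h3 : (g * y) ^ 2 = 1 := by
        rw [hgyc.mul_pow, h2, ← pow_add]; exact h.y4
      obtain ⟨k, hk⟩ := Subgroup.mem_zpowers_iff.mp hmem
      rcases Int.even_or_odd' k with ⟨l, hl | hl⟩
      · rw [hl, zpow_mul, zpow_ofNat, h3, one_zpow] at hk
        apply hne
        calc g = (g * y⁻¹) * y := by group
          _ = y := by rw [← hk, one_mul]
      · rw [hl, zpow_add, zpow_mul, zpow_ofNat, h3, one_zpow, one_mul, zpow_one] at hk
        apply h.y_ne_inv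
        exact (mul_left_cancel hk).symm
  rcases hw2 with hw2 | hw2
  · rcases QP.eq_or_eq_inv_of_mem hw4 hmem hw2 with h0 | h0
    · exfalso; apply h.y_ne_inv
      exact mul_left_cancel h0
    · -- g * y⁻¹ = (g * y)⁻¹ = y⁻¹ * g⁻¹ = g⁻¹ * y⁻¹
      have h1 : g * y⁻¹ = g⁻¹ * y⁻¹ := by
        rw [h0, mul_inv_rev]
        exact (hgyc.inv_left.inv_right).symm.eq
      have h2 : g = g⁻¹ := mul_right_cancel h1
      rw [pow_two]
      nth_rewrite 1 [h2]
      exact inv_mul_cancel g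
  · exact hw2

theorem sq_eq_one_of_two_pow (hd : IsDed G) {x y : G} (h : QP x y) (k : ℕ) :
    ∀ g ∈ Cxy x y, g ^ (2 ^ k) = 1 → g ^ 2 = 1 := by
  induction k using Nat.strong_induction_on with
  | _ k ih =>
    intro g hg hgk
    rcases k with _ | _ | k
    · rw [pow_zero, pow_one] at hgk
      rw [hgk, one_pow]
    · rwa [pow_one] at hgk
    · have h1 : (g ^ (2 ^ k)) ^ 4 = 1 := by
        rw [← pow_mul, ← hgk]; congr 1; rw [pow_succ, pow_succ]; ring
      have h2 := sq_eq_one_of_pow_four hd h (Subgroup.pow_mem _ hg _) h1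
      rw [← pow_mul, ← pow_succ] at h2
      exact ih (k + 1) (by omega) g hg h2

/-- Dedekind passes to subgroups -/
theorem IsDed.subgroup (hd : IsDed G) (C : Subgroup G) : IsDed C := by
  intro H
  constructor
  intro n hn g
  have h1 := (hd (H.map C.subtype)).conj_mem (n : G) ⟨n, hn, rfl⟩ (g : G)
  obtain ⟨m, hm, hm'⟩ := h1
  have : m = g * n * g⁻¹ := Subtype.ext (by rw [← Subgroup.coe_subtype, hm']; simp)
  rw [← this]; exact hm

/-- the centralizer of the quaternion pair is abelian -/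
theorem Cxy_comm [Finite G] (hd : IsDed G) {x y : G} (h : QP x y) :
    ∀ a ∈ Cxy x y, ∀ b ∈ Cxy x y, a * b = b * a := by
  by_contra hcon
  push_neg at hcon
  obtain ⟨a, ha, b, hb, hab⟩ := hcon
  have hdC := hd.subgroup (Cxy x y)
  have hna : ∃ a b : Cxy x y, a * b ≠ b * a :=
    ⟨⟨a, ha⟩, ⟨b, hb⟩, fun h0 => hab (congrArg Subtype.val h0)⟩
  obtain ⟨x', y', hx', -, -⟩ := exists_quat_pair hdC hna
  have h1 : (x' : G) ^ 4 = 1 := by
    have : x' ^ 4 = 1 := by rw [← hx']; exact pow_orderOf_eq_one x'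
    exact_mod_cast congrArg Subtype.val this
  have h2 := sq_eq_one_of_pow_four hd h x'.2 h1
  have h3 : x' ^ 2 = 1 := Subtype.ext (by simpa using h2)
  have := orderOf_dvd_of_pow_eq_one h3
  rw [hx'] at this
  omega

end Cfsg.Agent.Lib.Helper7.Ded
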