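import Mathlib
import Cfsg.Agent.Lib.Helper7.Ded2
import Cfsg.Agent.Lib.Lead.QuatRecog

set_option autoImplicit false

/-! Dedekind groups: the complementing subgroups and the quaternion subgroup. -/

namespace Cfsg.Agent.Lib.Helper7.Ded

open scoped Pointwise

variable {G : Type*} [Group G]

/-- odd part of an abelian subgroup -/
def oddPart (C : Subgroup G) (hab : ∀ a ∈ C, ∀ b ∈ C, a * b = b * a) : Subgroup G where
  carrier := {g | g ∈ C ∧ Odd (orderOf g)}
  one_mem' := ⟨C.one_mem, by simp⟩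
  mul_mem' := by
    rintro a b ⟨ha, hao⟩ ⟨hb, hbo⟩
    refine ⟨C.mul_mem ha hb, ?_⟩
    have hc : Commute a b := hab a ha b hb
    exact Odd.of_dvd_nat (hao.mul hbo) (hc.orderOf_mul_dvd_lcm.trans (Nat.lcm_dvd_mul _ _))
  inv_mem' := by
    rintro a ⟨ha, hao⟩
    exact ⟨C.inv_mem ha, by rw [orderOf_inv]; exact hao⟩

theorem mem_oddPart {C : Subgroup G} {hab : ∀ a ∈ C, ∀ b ∈ C, a * b = b * a} {g : G} :
    g ∈ oddPart C hab ↔ g ∈ C ∧ Odd (orderOf g) := Iff.rfl

theorem odd_card_oddPart [Finite G] (C : Subgroup G) (hab : ∀ a ∈ C, ∀ b ∈ C, a * b = b * a) :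
    Odd (Nat.card (oddPart C hab)) := by
  by_contra hne
  rw [Nat.not_odd_iff_even] at hne
  obtain ⟨g, hg⟩ := exists_prime_orderOf_dvd_card' 2 hne.two_dvd
  have h1 : orderOf (g : G) = 2 := by rw [Subgroup.orderOf_coe]; exact hg
  have h2 : Odd (orderOf (g : G)) := g.2.2
  rw [h1] at h2
  exact absurd h2 (by decide)

theorem eq_one_of_sq_of_odd {g : G} (h2 : g ^ 2 = 1) (ho : Odd (orderOf g)) : g = 1 := by
  have h1 := orderOf_dvd_of_pow_eq_one h2
  rcases (Nat.dvd_prime Nat.prime_two).mp h1 with h0 | h0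
  · exact orderOf_eq_one_iff.mp h0
  · rw [h0] at ho; exact absurd ho (by decide)

theorem exists_max_E [Finite G] (C : Subgroup G) {c : G} (hc : c ≠ 1) :
    ∃ E : Subgroup G, E ≤ C ∧ (∀ a ∈ E, a ^ 2 = 1) ∧ c ∉ E ∧
      ∀ E' : Subgroup G, E ≤ E' → E' ≤ C → (∀ a ∈ E', a ^ 2 = 1) → c ∉ E' → E' ≤ E := by
  have hfin : ({E : Subgroup G | E ≤ C ∧ (∀ a ∈ E, a ^ 2 = 1) ∧ c ∉ E}).Finite := Set.toFinite _
  have hne : ({E : Subgroup G | E ≤ C ∧ (∀ a ∈ E, a ^ 2 = 1) ∧ c ∉ E}).Nonempty := by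
    refine ⟨⊥, bot_le, ?_, ?_⟩
    · intro a ha; rw [Subgroup.mem_bot.mp ha, one_pow]
    · intro h0; exact hc (Subgroup.mem_bot.mp h0)
  obtain ⟨E, hE, hmax⟩ := hfin.exists_maximal hne
  refine ⟨E, hE.1, hE.2.1, hE.2.2, ?_⟩
  intro E' hEE' hE'C hE'2 hcE'
  exact hmax ⟨hE'C, hE'2, hcE'⟩ hEE'

theorem mem_sup_of_sq (hd : IsDed G) {C : Subgroup G} (hab : ∀ a ∈ C, ∀ b ∈ C, a * b = b * a)
    {c : G} {E : Subgroup G} (hEC : E ≤ C) (hE2 : ∀ a ∈ E, a ^ 2 = 1) (hcE : c ∉ E)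
    (hmax : ∀ E' : Subgroup G, E ≤ E' → E' ≤ C → (∀ a ∈ E', a ^ 2 = 1) → c ∉ E' → E' ≤ E)
    {g : G} (hg : g ∈ C) (hg2 : g ^ 2 = 1) : g ∈ Subgroup.zpowers c ⊔ E := by
  by_cases hgE : g ∈ E
  · exact (le_sup_right : E ≤ Subgroup.zpowers c ⊔ E) hgE
  have hE'C : E ⊔ Subgroup.zpowers g ≤ C := sup_le hEC (Subgroup.zpowers_le.mpr hg)
  have hmem : ∀ a ∈ E ⊔ Subgroup.zpowers g, ∃ e ∈ E, a = e ∨ a = e * g := by
    haveI := hd (Subgroup.zpowers g)
    intro a ha
    have h1 : a ∈ (E : Set G) * (Subgroup.zpowers g : Set G) := by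
      rw [← Subgroup.mul_normal]; exact ha
    obtain ⟨e, he, z, hz, rfl⟩ := Set.mem_mul.mp h1
    refine ⟨e, he, ?_⟩
    obtain ⟨k, rfl⟩ := Subgroup.mem_zpowers_iff.mp hz
    rcases Int.even_or_odd' k with ⟨l, hl | hl⟩
    · left; rw [hl, zpow_mul, zpow_ofNat, hg2, one_zpow, mul_one]
    · right; rw [hl, zpow_add, zpow_mul, zpow_ofNat, hg2, one_zpow, one_mul, zpow_one]
  have hE'2 : ∀ a ∈ E ⊔ Subgroup.zpowers g, a ^ 2 = 1 := by
    intro a ha
    obtain ⟨e, he, h1 | h1⟩ := hmem a ha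
    · rw [h1]; exact hE2 e he
    · have hc' : Commute e g := hab e (hEC he) g hg
      rw [h1, hc'.mul_pow, hE2 e he, hg2, one_mul]
  have hcE' : c ∈ E ⊔ Subgroup.zpowers g := by
    by_contra h0
    exact hgE (hmax _ le_sup_left hE'C hE'2 h0 ((le_sup_right : Subgroup.zpowers g ≤ _)
      (Subgroup.mem_zpowers g)))
  obtain ⟨e, he, h1 | h1⟩ := hmem c hcE'
  · exact absurd (h1 ▸ he) hcE
  · have h2 : g = e⁻¹ * c := by rw [h1]; group
    rw [h2]
    exact Subgroup.mul_mem _ ((le_sup_right : E ≤ Subgroup.zpowers c ⊔ E) (E.inv_mem he))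
      ((le_sup_left : Subgroup.zpowers c ≤ _) (Subgroup.mem_zpowers c))

theorem mem_zpowers_four {z w : G} (hz4 : z ^ 4 = 1) (hw : w ∈ Subgroup.zpowers z) :
    w = 1 ∨ w = z ∨ w = z ^ 2 ∨ w = z⁻¹ := by
  obtain ⟨k, rfl⟩ := Subgroup.mem_zpowers_iff.mp hw
  have hz4' : z ^ (4 : ℤ) = 1 := by
    have := hz4
    rw [← zpow_natCast] at this
    exact_mod_cast this
  have hk : ∀ k : ℤ, z ^ k = z ^ (k % 4) := by
    intro k
    conv_lhs => rw [← Int.emod_add_mul_ediv k 4]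
    rw [zpow_add, zpow_mul, hz4', one_zpow, mul_one]
  rw [hk k]
  have h1 : 0 ≤ k % 4 := Int.emod_nonneg k (by norm_num)
  have h2 : k % 4 < 4 := Int.emod_lt_of_pos k (by norm_num)
  obtain ⟨r, hr⟩ : ∃ r : ℤ, r = k % 4 := ⟨_, rfl⟩
  rw [← hr] at h1 h2 ⊢
  interval_cases r
  · left; simp
  · right; left; simp
  · right; right; left
    rw [← zpow_natCast]; norm_num
  · right; right; right
    have : z ^ (3 : ℤ) * z = 1 := by
      have h3 : z ^ (3 : ℤ) * z = z ^ (4 : ℤ) := by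
        rw [show (4 : ℤ) = 3 + 1 by norm_num, zpow_add, zpow_one]
      rw [h3, hz4']
    exact eq_inv_of_mul_eq_one_left this

theorem card_Q [Finite G] (hd : IsDed G) {x y : G} (h : QP x y) :
    Nat.card (Subgroup.closure ({x, y} : Set G)) = 8 := by
  haveI : (Subgroup.zpowers x).Normal := hd _
  have hNQ : Subgroup.zpowers x ≤ Subgroup.closure ({x, y} : Set G) := by
    rw [Subgroup.zpowers_le]; exact Subgroup.subset_closure (by simp)
  have h1 : Nat.card (Subgroup.zpowers x) = 4 := by rw [Nat.card_zpowers, h.ox]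
  have h2 : (Subgroup.zpowers x).relIndex (Subgroup.closure ({x, y} : Set G)) = 2 := by
    have h0 := Subgroup.relIndex_ker (QuotientGroup.mk' (Subgroup.zpowers x))
      (K := Subgroup.closure ({x, y} : Set G))
    rw [QuotientGroup.ker_mk'] at h0
    rw [h0, MonoidHom.map_closure, Set.image_pair]
    have hx1 : (QuotientGroup.mk' (Subgroup.zpowers x)) x = 1 :=
      (QuotientGroup.eq_one_iff x).mpr (Subgroup.mem_zpowers x)
    rw [hx1, Subgroup.closure_insert_one, ← Subgroup.zpowers_eq_closure, Nat.card_zpowers]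
    apply orderOf_eq_prime
    · rw [← map_pow, h.sq]
      exact (QuotientGroup.eq_one_iff _).mpr (Subgroup.pow_mem _ (Subgroup.mem_zpowers x) 2)
    · intro h0
      have hyN : y ∈ Subgroup.zpowers x := (QuotientGroup.eq_one_iff y).mp h0
      exact h.not_comm (commute_of_mem_zpowers hyN).eq
  have h3 := Subgroup.relIndex_mul_relIndex ⊥ _ _ bot_le hNQ
  rw [Subgroup.relIndex_bot_left, Subgroup.relIndex_bot_left, h1, h2] at h3
  omega

theorem Q_iso [Finite G] (hd : IsDed G) {x y : G} (h : QP x y) :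
    Nonempty (Subgroup.closure ({x, y} : Set G) ≃* QuaternionGroup 2) := by
  have hxQ : x ∈ Subgroup.closure ({x, y} : Set G) := Subgroup.subset_closure (by simp)
  have hyQ : y ∈ Subgroup.closure ({x, y} : Set G) := Subgroup.subset_closure (by simp)
  apply Cfsg.Agent.Lib.Lead.quaternion_recognition 2
    (⟨x, hxQ⟩ : Subgroup.closure ({x, y} : Set G)) ⟨y, hyQ⟩
  · rw [Subgroup.orderOf_mk, h.ox]
  · apply Subtype.ext
    simpa using h.sq
  · apply Subtype.ext
    simpa using h.conj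
  · intro hmem
    obtain ⟨k, hk⟩ := Subgroup.mem_zpowers_iff.mp hmem
    have h1 : x ^ k = y := by simpa using congrArg Subtype.val hk
    exact h.not_comm (commute_of_mem_zpowers (Subgroup.mem_zpowers_iff.mpr ⟨k, h1⟩)).eq
  · rw [card_Q hd h]

theorem mem_Q_inf_C (hd : IsDed G) {x y : G} (h : QP x y) {g : G}
    (hgQ : g ∈ Subgroup.closure ({x, y} : Set G)) (hgC : g ∈ Cxy x y) : g = 1 ∨ g = x ^ 2 := by
  haveI : (Subgroup.zpowers x).Normal := hd _
  have hQ : Subgroup.closure ({x, y} : Set G) = Subgroup.zpowers x ⊔ Subgroup.zpowers y := by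
    rw [Subgroup.zpowers_eq_closure, Subgroup.zpowers_eq_closure, ← Subgroup.closure_union]
    rfl
  rw [hQ] at hgQ
  have h1 : g ∈ (Subgroup.zpowers x : Set G) * (Subgroup.zpowers y : Set G) := by
    rw [← Subgroup.normal_mul]; exact hgQ
  obtain ⟨n, hn, z, hz, rfl⟩ := Set.mem_mul.mp h1
  obtain ⟨hgx, hgy⟩ := mem_Cxy.mp hgC
  have hnx : Commute n x := commute_of_mem_zpowers hn
  have hzx : z * x = x * z := by
    have h2 : n * (z * x) = n * (x * z) := by
      calc n * (z * x) = (n * z) * x := by group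
        _ = x * (n * z) := hgx
        _ = (x * n) * z := by group
        _ = (n * x) * z := by rw [hnx.eq]
        _ = n * (x * z) := by group
    exact mul_left_cancel h2
  obtain ⟨k, rfl⟩ := Subgroup.mem_zpowers_iff.mp hz
  rcases Int.even_or_odd' k with ⟨l, hl | hl⟩
  · have hzN : y ^ k ∈ Subgroup.zpowers x := by
      rw [hl, zpow_mul, zpow_ofNat, h.sq]
      exact Subgroup.zpow_mem _ (Subgroup.pow_mem _ (Subgroup.mem_zpowers x) 2) l
    have hgN : n * y ^ k ∈ Subgroup.zpowers x := Subgroup.mul_mem _ hn hzN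
    rcases mem_zpowers_four h.x4 hgN with h0 | h0 | h0 | h0
    · left; exact h0
    · exfalso; rw [h0] at hgy; exact h.not_comm hgy.symm
    · right; exact h0
    · exfalso; rw [h0] at hgy
      apply h.not_comm
      calc y * x = x * (x⁻¹ * y) * x := by group
        _ = x * (y * x⁻¹) * x := by rw [hgy]
        _ = x * y := by group
  · exfalso
    rw [hl, zpow_add, zpow_mul, zpow_ofNat, h.sq, zpow_one] at hzx
    have hc : Commute ((x ^ 2) ^ l) x := ((Commute.refl x).pow_left 2).zpow_left l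
    apply h.not_comm
    have h2 : (x ^ 2) ^ l * (y * x) = (x ^ 2) ^ l * (x * y) := by
      calc (x ^ 2) ^ l * (y * x) = ((x ^ 2) ^ l * y) * x := by group
        _ = x * ((x ^ 2) ^ l * y) := hzx
        _ = (x * (x ^ 2) ^ l) * y := by group
        _ = ((x ^ 2) ^ l * x) * y := by rw [hc.eq]
        _ = (x ^ 2) ^ l * (x * y) := by group
    exact mul_left_cancel h2

end Cfsg.Agent.Lib.Helper7.Ded
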