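import Mathlib
import Cfsg.Prelude.Def_Blocks
import Cfsg.Agent.Lib.Helper8.BlockLocal

/-!
# S4737 swarm, package C: a complex matrix congruent to `1` modulo the local ideal is invertible
-/

set_option autoImplicit false
open Cfsg

namespace Cfsg.Agent.Lib.Helper7.DefZ3C

open Cfsg.Agent.Lib.Helper8

/-- the entries of the identity matrix lie in the local ring -/
theorem memLocalRing_one_apply {n : Type*} [DecidableEq n] {M : Ideal AlgInt} (hM : M.IsPrime)
    (i j : n) : MemLocalRing M ((1 : Matrix n n ℂ) i j) := by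
  by_cases hij : i = j
  · rw [hij, Matrix.one_apply_eq]; exact memLocalRing_one hM.ne_top
  · rw [Matrix.one_apply_ne hij]; exact memLocalRing_zero hM.ne_top

theorem det_ne_zero_of_sub_one' {n : Type*} [Fintype n] [DecidableEq n] {M : Ideal AlgInt}
    (hM : M.IsPrime) (A : Matrix n n ℂ)
    (h : ∀ i j, MemLocalIdeal M (A i j - (1 : Matrix n n ℂ) i j)) : A.det ≠ 0 := by
  have hA : ∀ i j, A i j ∈ localRing M hM := by
    intro i j
    have := memLocalRing_add hM (memLocalRing_of_memLocalIdeal (h i j))
      (memLocalRing_one_apply hM i j)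
    rwa [sub_add_cancel] at this
  let B : Matrix n n (localRing M hM) := fun i j => ⟨A i j, hA i j⟩
  have hAB : A = (localRing M hM).subtype.mapMatrix B := by
    ext i j; rfl
  intro hdet
  rw [hAB, ← RingHom.map_det] at hdet
  have hB0 : B.det = 0 := Subtype.ext hdet
  have hq : (Ideal.Quotient.mk (localIdeal M hM)).mapMatrix B = 1 := by
    ext i j
    rw [RingHom.mapMatrix_apply, Matrix.map_apply]
    by_cases hij : i = j
    · subst hij
      rw [Matrix.one_apply_eq, ← map_one (Ideal.Quotient.mk (localIdeal M hM)), Ideal.Quotient.eq,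
        mem_localIdeal_iff]
      have := h i i
      rwa [Matrix.one_apply_eq] at this
    · rw [Matrix.one_apply_ne hij, Ideal.Quotient.eq_zero_iff_mem, mem_localIdeal_iff]
      have := h i j
      rwa [Matrix.one_apply_ne hij, sub_zero] at this
  have h1 : (Ideal.Quotient.mk (localIdeal M hM)) B.det = 1 := by
    rw [RingHom.map_det, hq, Matrix.det_one]
  rw [hB0, map_zero] at h1
  have : Nontrivial (localRing M hM ⧸ localIdeal M hM) :=
    Ideal.Quotient.nontrivial_iff.2 (localIdeal_ne_top hM)
  exact zero_ne_one h1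

end Cfsg.Agent.Lib.Helper7.DefZ3C

namespace Cfsg.Agent.Lib.DefZ3

/-- PACKAGE C.  A complex matrix congruent to `1` modulo the local ideal has nonzero determinant.
Proof: entries lie in `localRing M hM`; map to the quotient by `localIdeal M hM` (`RingHom.map_det`),
which is nontrivial by `localIdeal_ne_top`. -/
theorem det_ne_zero_of_sub_one {n : Type*} [Fintype n] [DecidableEq n] {M : Ideal AlgInt}
    (hM : M.IsPrime) (A : Matrix n n ℂ)
    (h : ∀ i j, MemLocalIdeal M (A i j - (1 : Matrix n n ℂ) i j)) : A.det ≠ 0 :=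
  Cfsg.Agent.Lib.Helper7.DefZ3C.det_ne_zero_of_sub_one' hM A h

end Cfsg.Agent.Lib.DefZ3
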