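import Mathlib
import Cfsg.Agent.Lib.Helper4.Deg11_Defs
import Cfsg.Agent.Lib.Helper2.PrimeDeg1

/-!
# S0679 swarm, package P10: transport from a type with 11 points to `Fin 11`
-/

set_option autoImplicit false
set_option linter.style.haveILetI false
set_option linter.unusedSectionVars false
open Equiv MulAction

namespace Cfsg.Agent.Lib.Helper7.Deg11P10

variable {α : Type*} [Fintype α] [DecidableEq α]

/-- the degree divides the order of a transitive group -/
theorem card_dvd_card (G : Subgroup (Perm α)) [IsPretransitive G α] (a : α) :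
    Fintype.card α ∣ Nat.card G := by
  have h := MulAction.index_stabilizer_of_transitive G a
  rw [← Nat.card_eq_fintype_card, ← h]
  exact Subgroup.index_dvd_card _

/-- a transitive group of degree 11 has an element of order 11 -/
theorem exists_order_eleven (hα : Fintype.card α = 11) (G : Subgroup (Perm α))
    [IsPretransitive G α] : ∃ σ : Perm α, σ ∈ G ∧ orderOf σ = 11 := by
  haveI : Fact (Nat.Prime 11) := ⟨by norm_num⟩
  haveI : Nonempty α := by
    rw [← Fintype.card_pos_iff, hα]; norm_num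
  obtain ⟨a⟩ := ‹Nonempty α›
  have hdvd : 11 ∣ Nat.card G := hα ▸ card_dvd_card G a
  obtain ⟨g, hg⟩ := exists_prime_orderOf_dvd_card' 11 hdvd
  exact ⟨(g : Perm α), g.2, by rw [Subgroup.orderOf_coe]; exact hg⟩

variable {β : Type*} [Fintype β] [DecidableEq β]

/-- the transport isomorphism `Perm α ≃* Perm β` along `e : β ≃ α` -/
def tr (e : β ≃ α) : Perm α ≃* Perm β := e.symm.permCongrHom

theorem tr_apply (e : β ≃ α) (g : Perm α) (x : β) : tr e g x = e.symm (g (e x)) := rfl

theorem tr_apply' (e : β ≃ α) (g : Perm α) (x : β) : e (tr e g x) = g (e x) := by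
  rw [tr_apply, Equiv.apply_symm_apply]

theorem sign_tr (e : β ≃ α) (g : Perm α) : Perm.sign (tr e g) = Perm.sign g := by
  unfold tr
  exact Equiv.Perm.sign_permCongr e.symm g

/-- the transported group -/
def trG (e : β ≃ α) (G : Subgroup (Perm α)) : Subgroup (Perm β) :=
  G.map (tr e).toMonoidHom

theorem mem_trG (e : β ≃ α) (G : Subgroup (Perm α)) (g : Perm α) :
    tr e g ∈ trG e G ↔ g ∈ G := by
  unfold trG
  constructor
  · rintro ⟨g', hg', h⟩
    have : g' = g := (tr e).injective h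
    exact this ▸ hg'
  · intro h
    exact ⟨g, h, rfl⟩

theorem exists_of_mem_trG (e : β ≃ α) (G : Subgroup (Perm α)) (g' : Perm β) (h : g' ∈ trG e G) :
    ∃ g ∈ G, tr e g = g' := h

/-- the group is isomorphic to its transport -/
noncomputable def trIso (e : β ≃ α) (G : Subgroup (Perm α)) : G ≃* trG e G :=
  G.equivMapOfInjective (tr e).toMonoidHom (tr e).injective

theorem not_solvable_trG (e : β ≃ α) (G : Subgroup (Perm α)) (hG : ¬ Group.IsSolvable G) :
    ¬ Group.IsSolvable (trG e G) := by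
  intro h
  haveI := h
  exact hG (Group.isSolvable_of_isSolvable_injective (f := (trIso e G).toMonoidHom) (trIso e G).injective)

theorem not_alt_le_trG (e : β ≃ α) (G : Subgroup (Perm α)) (hA : ¬ alternatingGroup α ≤ G) :
    ¬ alternatingGroup β ≤ trG e G := by
  intro h
  apply hA
  intro g hg
  rw [← mem_trG e G g]
  apply h
  rw [Equiv.Perm.mem_alternatingGroup] at hg ⊢
  rw [sign_tr, hg]

/-- transport of an embedding -/
def trEmb (e : β ≃ α) {n : ℕ} (x : Fin n ↪ α) : Fin n ↪ β := x.trans e.symm.toEmbedding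

theorem trEmb_apply (e : β ≃ α) {n : ℕ} (x : Fin n ↪ α) (i : Fin n) :
    trEmb e x i = e.symm (x i) := rfl

theorem pretransitive_of_trG (e : β ≃ α) (G : Subgroup (Perm α)) (n : ℕ)
    (h : IsMultiplyPretransitive (trG e G) β n) : IsMultiplyPretransitive G α n := by
  refine ⟨fun x y => ?_⟩
  obtain ⟨⟨g', hg'⟩, hgxy⟩ := h.exists_smul_eq (trEmb e x) (trEmb e y)
  obtain ⟨g, hg, rfl⟩ := exists_of_mem_trG e G g' hg'
  refine ⟨⟨g, hg⟩, ?_⟩
  ext i
  have h1 := DFunLike.congr_fun hgxy i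
  have h2 : tr e g (trEmb e x i) = trEmb e y i := h1
  rw [trEmb_apply, trEmb_apply, tr_apply, Equiv.apply_symm_apply] at h2
  exact e.symm.injective h2

theorem stabilizer_eq_bot_of_trG (e : β ≃ α) (G : Subgroup (Perm α)) (n : ℕ)
    (h : ∀ x : Fin n ↪ β, stabilizer (trG e G) x = ⊥) (x : Fin n ↪ α) : stabilizer G x = ⊥ := by
  rw [eq_bot_iff]
  rintro ⟨g, hg⟩ hgx
  rw [mem_stabilizer_iff] at hgx
  rw [Subgroup.mem_bot]
  have hmem : (⟨tr e g, (mem_trG e G g).2 hg⟩ : trG e G) ∈ stabilizer (trG e G) (trEmb e x) := by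
    rw [mem_stabilizer_iff]
    ext i
    have h1 := DFunLike.congr_fun hgx i
    have h2 : g (x i) = x i := h1
    show tr e g (trEmb e x i) = trEmb e x i
    rw [trEmb_apply, tr_apply, Equiv.apply_symm_apply, h2]
  rw [h, Subgroup.mem_bot] at hmem
  have h3 : tr e g = 1 := congrArg Subtype.val hmem
  have h4 : g = 1 := (tr e).injective (h3.trans (map_one (tr e)).symm)
  exact Subtype.ext h4

end Cfsg.Agent.Lib.Helper7.Deg11P10

namespace Cfsg.Agent.Lib.Deg11

open Cfsg.Agent.Lib.Helper7.Deg11P10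

/-- P10 TRANSPORT.  `11 ∣ |G|` (transitive), Cauchy gives `σ ∈ G` of order 11,
`PrimeDeg.exists_coord_of` gives `e : ZMod 11 ≃ α` (`ZMod 11` is `Fin 11` by `Iff.rfl`-level
unfolding) with `σ (e j) = e (j + 1)`; `G' = G.map (e.symm.permCongrHom ...)` contains `d11c`;
solvability, `alternatingGroup` (`Equiv.Perm.sign_permCongr`), multiple transitivity, stabilizers
and the isomorphism type transfer along `e`. -/
theorem d11_transport {α : Type*} [Fintype α] [DecidableEq α] (hα : Fintype.card α = 11)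
    (G : Subgroup (Perm α)) [IsPretransitive G α] (hG : ¬ Group.IsSolvable G)
    (hA : ¬ alternatingGroup α ≤ G)
    (main : ∀ G' : Subgroup (Perm (Fin 11)), d11c ∈ G' → ¬ Group.IsSolvable G' →
      ¬ alternatingGroup (Fin 11) ≤ G' →
      (IsMultiplyPretransitive G' (Fin 11) 4 ∧ ∀ x : Fin 4 ↪ Fin 11, stabilizer G' x = ⊥) ∨
        Nonempty (G' ≃* Matrix.ProjectiveSpecialLinearGroup (Fin 2) (ZMod 11))) :
    (IsMultiplyPretransitive G α 4 ∧ ∀ x : Fin 4 ↪ α, stabilizer G x = ⊥) ∨
      Nonempty (G ≃* Matrix.ProjectiveSpecialLinearGroup (Fin 2) (ZMod 11)) := by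
  haveI : Fact (Nat.Prime 11) := ⟨by norm_num⟩
  obtain ⟨σ, hσG, hσ⟩ := exists_order_eleven hα G
  haveI : Nonempty α := by
    rw [← Fintype.card_pos_iff, hα]; norm_num
  obtain ⟨a₀⟩ := ‹Nonempty α›
  obtain ⟨e, -, he⟩ := Cfsg.Agent.Lib.Helper2.PrimeDeg.exists_coord_of (p := 11) hα σ hσ a₀
  -- `ZMod 11` is `Fin 11`
  let e' : Fin 11 ≃ α := e
  have he' : ∀ j : Fin 11, σ (e' j) = e' (j + 1) := he
  have hc : d11c ∈ trG e' G := by
    have : tr e' σ = d11c := by
      ext x
      rw [tr_apply, he', Equiv.symm_apply_apply, d11c_apply]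
    rw [← this, mem_trG]
    exact hσG
  rcases main (trG e' G) hc (not_solvable_trG e' G hG) (not_alt_le_trG e' G hA) with ⟨h4, hst⟩ | ⟨⟨iso⟩⟩
  · exact Or.inl ⟨pretransitive_of_trG e' G 4 h4, stabilizer_eq_bot_of_trG e' G 4 hst⟩
  · exact Or.inr ⟨(trIso e' G).trans iso⟩

end Cfsg.Agent.Lib.Deg11
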