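import Mathlib
import Cfsg.Agent.Lib.Helper7.Burnside

set_option autoImplicit false

namespace Cfsg.Agent.Lib.Helper7

/-- Counting lemma: if all derangements are involutions in a transitive group, every element
with a fixed point fixes exactly one point or all points. -/
theorem derInvol_counting {G Ω : Type*} [Group G] [Finite G] [MulAction G Ω] [Finite Ω]
    [Nonempty Ω] (htrans : MulAction.IsPretransitive G Ω)
    (hinv : ∀ g : G, (∀ ω : Ω, g • ω ≠ ω) → g * g = 1) :
    ∀ g : G, (∃ ω : Ω, g • ω = ω) →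
      Nat.card (MulAction.fixedBy Ω g) = 1 ∨ Nat.card (MulAction.fixedBy Ω g) = Nat.card Ω := by
  classical
  haveI := Fintype.ofFinite G
  haveI := Fintype.ofFinite Ω
  set n := Fintype.card Ω with hn
  let fixF : G → Finset Ω := fun g => Finset.univ.filter (fun ω => g • ω = ω)
  let f : G → ℕ := fun g => (fixF g).card
  have hf : ∀ g, Nat.card (MulAction.fixedBy Ω g) = f g := by
    intro g
    rw [Nat.card_eq_fintype_card, Fintype.card_subtype]
    rfl
  let Δ : Finset G := Finset.univ.filter (fun g => ∀ ω : Ω, g • ω ≠ ω)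
  have hΔ : ∀ g, g ∈ Δ ↔ ∀ ω : Ω, g • ω ≠ ω := by
    intro g; simp [Δ]
  have hB : ∑ g : G, f g = Fintype.card G := by
    have := burnside_nat G Ω
    rw [card_orbits_of_pretransitive, one_mul] at this
    simp only [hf] at this
    rw [this, Nat.card_eq_fintype_card]
  let F₂ : Finset (Σ _ : G, Ω × Ω) := Finset.univ.sigma (fun g => (fixF g).offDiag)
  have hF₂ : F₂.card = ∑ g : G, (f g * f g - f g) := by
    rw [Finset.card_sigma]
    apply Finset.sum_congr rfl
    intro g _
    rw [Finset.offDiag_card]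
  have hτ : ∀ γ δ : Ω, ∃ τ : G, (∃ t ∈ Δ, t • γ = δ) → (τ ∈ Δ ∧ τ • γ = δ) := by
    intro γ δ
    by_cases h : ∃ t ∈ Δ, t • γ = δ
    · obtain ⟨t, ht, htγ⟩ := h
      exact ⟨t, fun _ => ⟨ht, htγ⟩⟩
    · exact ⟨1, fun h' => absurd h' h⟩
  choose τ hτ using hτ
  have hsq : ∀ t ∈ Δ, ∀ ω : Ω, t • t • ω = ω := by
    intro t ht ω
    rw [← mul_smul, hinv t ((hΔ t).mp ht), one_smul]
  have hle : Δ.card * n ≤ F₂.card := by
    rw [hn, ← Finset.card_univ (α := Ω), ← Finset.card_product]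
    apply Finset.card_le_card_of_injOn
      (fun p => (⟨τ p.2 (p.1 • p.2) * p.1, (p.2, p.1 • p.2)⟩ : Σ _ : G, Ω × Ω))
    · rintro ⟨t, γ⟩ hp
      have ht : t ∈ Δ := (Finset.mem_product.mp hp).1
      obtain ⟨hτΔ, hτγ⟩ := hτ γ (t • γ) ⟨t, ht, rfl⟩
      have hτδ : τ γ (t • γ) • (t • γ) = γ := by
        have := hsq _ hτΔ γ
        rw [hτγ] at this
        exact this
      simp only [Finset.coe_sigma, Finset.coe_univ, Set.mem_sigma_iff, Set.mem_univ, true_and,
        Finset.mem_coe, Finset.mem_offDiag, F₂, fixF, Finset.mem_filter, Finset.mem_univ]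
      refine ⟨?_, ?_, ?_⟩
      · rw [mul_smul, hτδ]
      · rw [mul_smul, hsq t ht, hτγ]
      · exact fun h => ((hΔ t).mp ht γ) h.symm
    · rintro ⟨t, γ⟩ hp ⟨t', γ'⟩ hp' heq
      simp only [Sigma.mk.injEq, heq_eq_eq, Prod.mk.injEq] at heq
      obtain ⟨h1, h2, h3⟩ := heq
      subst h2
      rw [h3] at h1
      have := mul_left_cancel h1
      rw [this]
  -- integer arithmetic
  have hfn : ∀ g, f g ≤ n := by
    intro g
    exact Finset.card_le_univ _
  have hfΔ : ∀ g, g ∈ Δ → f g = 0 := by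
    intro g hg
    rw [Finset.card_eq_zero, Finset.filter_eq_empty_iff]
    intro ω _
    exact (hΔ g).mp hg ω
  have hfpos : ∀ g, g ∉ Δ → 1 ≤ f g := by
    intro g hg
    rw [hΔ] at hg
    push Not at hg
    obtain ⟨ω, hω⟩ := hg
    exact Finset.card_pos.mpr ⟨ω, Finset.mem_filter.mpr ⟨Finset.mem_univ _, hω⟩⟩
  let e : G → ℤ := fun g => if g ∈ Δ then 0 else ((n : ℤ) - f g) * ((f g : ℤ) - 1)
  have he_nonneg : ∀ g ∈ (Finset.univ : Finset G), 0 ≤ e g := by
    intro g _
    simp only [e]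
    split_ifs with h
    · exact le_refl _
    · have h1 := hfn g
      have h2 := hfpos g h
      apply mul_nonneg
      · exact sub_nonneg.mpr (by exact_mod_cast h1)
      · exact sub_nonneg.mpr (by exact_mod_cast h2)
  have hterm : ∀ g : G, ((f g * f g - f g : ℕ) : ℤ) - (n : ℤ) * ((f g : ℤ) - 1) =
      (n : ℤ) * (if g ∈ Δ then 1 else 0) - e g := by
    intro g
    have hcast : ((f g * f g - f g : ℕ) : ℤ) = (f g : ℤ) * (f g : ℤ) - (f g : ℤ) := by
      rw [Nat.cast_sub (Nat.le_mul_self (f g))]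
      push_cast
      ring
    rw [hcast]
    simp only [e]
    split_ifs with h
    · rw [hfΔ g h]; simp
    · ring
  have hsum : (F₂.card : ℤ) = (n : ℤ) * (Δ.card : ℤ) - ∑ g : G, e g := by
    have h1 : ∑ g : G, (((f g * f g - f g : ℕ) : ℤ) - (n : ℤ) * ((f g : ℤ) - 1)) =
        ∑ g : G, ((n : ℤ) * (if g ∈ Δ then 1 else 0) - e g) :=
      Finset.sum_congr rfl (fun g _ => hterm g)
    rw [Finset.sum_sub_distrib, Finset.sum_sub_distrib, ← Finset.mul_sum, ← Finset.mul_sum,
      Finset.sum_sub_distrib] at h1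
    have h2 : ∑ g : G, (f g : ℤ) = (Fintype.card G : ℤ) := by exact_mod_cast hB
    have h3 : ∑ _g : G, (1 : ℤ) = (Fintype.card G : ℤ) := by simp
    have h4 : ∑ g : G, (if g ∈ Δ then (1 : ℤ) else 0) = (Δ.card : ℤ) := by
      rw [Finset.sum_ite_mem]; simp
    rw [h2, h3, h4, sub_self, mul_zero, sub_zero] at h1
    rw [hF₂]
    push_cast
    exact_mod_cast h1
  have hle' : ((Δ.card * n : ℕ) : ℤ) ≤ (F₂.card : ℤ) := by exact_mod_cast hle
  have hsum0 : ∑ g : G, e g = 0 := by
    apply le_antisymm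
    · push_cast at hle'
      linarith
    · exact Finset.sum_nonneg he_nonneg
  have hall := (Finset.sum_eq_zero_iff_of_nonneg he_nonneg).mp hsum0
  intro g ⟨ω, hω⟩
  have hgΔ : g ∉ Δ := by
    rw [hΔ]; push Not; exact ⟨ω, hω⟩
  have := hall g (Finset.mem_univ g)
  simp only [e, if_neg hgΔ] at this
  rw [hf, Nat.card_eq_fintype_card]
  rcases mul_eq_zero.mp this with h | h
  · right
    have : (n : ℤ) = f g := by linarith
    exact_mod_cast this.symm
  · left
    have : (f g : ℤ) = 1 := by linarith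
    exact_mod_cast this

end Cfsg.Agent.Lib.Helper7
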