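import Mathlib
import Cfsg.Agent.Lib.Helper7.Burnside

set_option autoImplicit false

namespace Cfsg.Agent.Lib.Helper7

/-- The subgroup generated by the derangements. -/
def derSub (G Ω : Type*) [Group G] [MulAction G Ω] : Subgroup G :=
  Subgroup.closure {g : G | ∀ ω : Ω, g • ω ≠ ω}

theorem derSub_facts {G Ω : Type*} [Group G] [Finite G] [MulAction G Ω] [Finite Ω] [Nonempty Ω]
    (htrans : MulAction.IsPretransitive G Ω) :
    MulAction.IsPretransitive ↥(derSub G Ω) Ω ∧
    ∀ g : G, g ∉ derSub G Ω → Nat.card (MulAction.fixedBy Ω g) = 1 := by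
  classical
  haveI := Fintype.ofFinite G
  set D := derSub G Ω with hD
  have hG := burnside_nat G Ω
  rw [card_orbits_of_pretransitive G Ω, one_mul] at hG
  have hDsum := burnside_nat D Ω
  set t := Nat.card (MulAction.orbitRel.Quotient D Ω) with ht
  have hfix : ∀ d : D, MulAction.fixedBy Ω d = MulAction.fixedBy Ω (d : G) := fun d => rfl
  simp only [hfix] at hDsum
  have hsub : ∑ g ∈ Finset.univ.filter (fun g : G => g ∈ D), Nat.card (MulAction.fixedBy Ω g) =
      ∑ d : D, Nat.card (MulAction.fixedBy Ω (d : G)) := by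
    apply Finset.sum_subtype
    intro x; simp
  have hsplit := Finset.sum_filter_add_sum_filter_not (Finset.univ : Finset G) (fun g : G => g ∈ D)
    (fun g => Nat.card (MulAction.fixedBy Ω g))
  rw [hG, hsub, hDsum] at hsplit
  -- each g ∉ D has at least one fixed point
  have hge : ∀ g : G, g ∉ D → 1 ≤ Nat.card (MulAction.fixedBy Ω g) := by
    intro g hg
    have : ¬ ∀ ω : Ω, g • ω ≠ ω := fun h => hg (Subgroup.subset_closure h)
    push Not at this
    obtain ⟨ω, hω⟩ := this
    haveI : Nonempty (MulAction.fixedBy Ω g) := ⟨⟨ω, hω⟩⟩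
    exact Nat.card_pos
  set s := Finset.univ.filter (fun g : G => ¬ g ∈ D) with hs
  have hdecomp : ∑ g ∈ s, Nat.card (MulAction.fixedBy Ω g) =
      s.card + ∑ g ∈ s, (Nat.card (MulAction.fixedBy Ω g) - 1) := by
    rw [Finset.card_eq_sum_ones, ← Finset.sum_add_distrib]
    apply Finset.sum_congr rfl
    intro g hg
    have := hge g (Finset.mem_filter.mp hg).2
    omega
  have hcount : (Finset.univ.filter (fun g : G => g ∈ D)).card + s.card = Nat.card G := by
    rw [hs, Finset.card_filter_add_card_filter_not, Finset.card_univ, Nat.card_eq_fintype_card]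
  have hDcard : (Finset.univ.filter (fun g : G => g ∈ D)).card = Nat.card D := by
    rw [Nat.card_eq_fintype_card, Fintype.card_subtype]
  have hDpos : 0 < Nat.card D := Nat.card_pos
  -- t ≥ 1
  have ht1 : 1 ≤ t := by
    haveI : Nonempty (MulAction.orbitRel.Quotient D Ω) := by
      obtain ⟨ω⟩ := (inferInstance : Nonempty Ω)
      exact ⟨Quotient.mk'' ω⟩
    exact Nat.card_pos
  rw [hdecomp] at hsplit
  rw [hDcard] at hcount
  -- t * |D| + (s.card + rest) = |D| + s.card
  have hkey : t * Nat.card D + ∑ g ∈ s, (Nat.card (MulAction.fixedBy Ω g) - 1) = Nat.card D := by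
    omega
  have ht_le : t * Nat.card D ≤ Nat.card D := by omega
  have ht_le1 : t ≤ 1 := by
    by_contra hlt
    push Not at hlt
    have : 2 * Nat.card D ≤ t * Nat.card D := Nat.mul_le_mul_right _ hlt
    omega
  have hteq : t = 1 := le_antisymm ht_le1 ht1
  have hrest : ∑ g ∈ s, (Nat.card (MulAction.fixedBy Ω g) - 1) = 0 := by
    rw [hteq, one_mul] at hkey
    omega
  constructor
  · rw [MulAction.pretransitive_iff_subsingleton_quotient]
    apply (Finite.card_le_one_iff_subsingleton).mp
    exact ht_le1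
  · intro g hg
    have hmem : g ∈ s := Finset.mem_filter.mpr ⟨Finset.mem_univ g, hg⟩
    have := (Finset.sum_eq_zero_iff.mp hrest) g hmem
    have := hge g hg
    omega

end Cfsg.Agent.Lib.Helper7

namespace Cfsg.Agent.Lib.Helper7

theorem card_fixedBy_prod {G Ω : Type*} [Group G] [MulAction G Ω] (g : G) :
    Nat.card (MulAction.fixedBy (Ω × Ω) g) = Nat.card (MulAction.fixedBy Ω g) ^ 2 := by
  have : MulAction.fixedBy (Ω × Ω) g = (MulAction.fixedBy Ω g) ×ˢ (MulAction.fixedBy Ω g) := by
    ext ⟨a, b⟩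
    simp [MulAction.mem_fixedBy, Prod.ext_iff]
  rw [this, Nat.card_congr (Equiv.Set.prod _ _), Nat.card_prod, pow_two]

/-- splitting a sum over a finite group along a subgroup -/
theorem sum_split_subgroup {G : Type*} [Group G] [Fintype G] [DecidableEq G] (D : Subgroup G)
    [DecidablePred (· ∈ D)] (F : G → ℕ) :
    ∑ g : G, F g = ∑ d : D, F (d : G) + ∑ g ∈ Finset.univ.filter (fun g : G => ¬ g ∈ D), F g := by
  have hsub : ∑ g ∈ Finset.univ.filter (fun g : G => g ∈ D), F g = ∑ d : D, F (d : G) := by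
    apply Finset.sum_subtype
    intro x; simp
  rw [← hsub, Finset.sum_filter_add_sum_filter_not]

theorem card_filter_not_mem_subgroup {G : Type*} [Group G] [Fintype G] [DecidableEq G]
    (D : Subgroup G) [DecidablePred (· ∈ D)] :
    Nat.card D + (Finset.univ.filter (fun g : G => ¬ g ∈ D)).card = Nat.card G := by
  have hDcard : (Finset.univ.filter (fun g : G => g ∈ D)).card = Nat.card D := by
    rw [Nat.card_eq_fintype_card, Fintype.card_subtype]
  rw [← hDcard, Finset.card_filter_add_card_filter_not, Finset.card_univ, Nat.card_eq_fintype_card]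

/-- ranks: `r_D - 1 = (r_G - 1) * [G : D]`. -/
theorem derSub_rank {G Ω : Type*} [Group G] [Finite G] [MulAction G Ω] [Finite Ω]
    (htrans : MulAction.IsPretransitive G Ω) :
    Nat.card (MulAction.orbitRel.Quotient ↥(derSub G Ω) (Ω × Ω)) - 1 =
      (Nat.card (MulAction.orbitRel.Quotient G (Ω × Ω)) - 1) * (derSub G Ω).index := by
  classical
  rcases isEmpty_or_nonempty Ω with hΩ | hΩ
  · haveI : IsEmpty (MulAction.orbitRel.Quotient ↥(derSub G Ω) (Ω × Ω)) := by
      refine ⟨fun q => ?_⟩
      induction q using Quotient.inductionOn with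
      | h a => exact isEmptyElim a.1
    haveI : IsEmpty (MulAction.orbitRel.Quotient G (Ω × Ω)) := by
      refine ⟨fun q => ?_⟩
      induction q using Quotient.inductionOn with
      | h a => exact isEmptyElim a.1
    simp
  haveI := Fintype.ofFinite G
  obtain ⟨-, h2⟩ := derSub_facts (G := G) (Ω := Ω) htrans
  set D := derSub G Ω with hD
  have hG := burnside_nat G (Ω × Ω)
  have hDsum := burnside_nat D (Ω × Ω)
  set rG := Nat.card (MulAction.orbitRel.Quotient G (Ω × Ω)) with hrG
  set rD := Nat.card (MulAction.orbitRel.Quotient D (Ω × Ω)) with hrD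
  have hfix : ∀ d : D, MulAction.fixedBy (Ω × Ω) d = MulAction.fixedBy (Ω × Ω) (d : G) :=
    fun d => rfl
  simp only [hfix] at hDsum
  rw [sum_split_subgroup D, hDsum] at hG
  have hrest : ∑ g ∈ Finset.univ.filter (fun g : G => ¬ g ∈ D),
      Nat.card (MulAction.fixedBy (Ω × Ω) g) = (Finset.univ.filter (fun g : G => ¬ g ∈ D)).card := by
    rw [Finset.card_eq_sum_ones]
    apply Finset.sum_congr rfl
    intro g hg
    rw [card_fixedBy_prod, h2 g (Finset.mem_filter.mp hg).2, one_pow]
  rw [hrest] at hG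
  have hcount := card_filter_not_mem_subgroup D
  have hidx : D.index * Nat.card D = Nat.card G := D.index_mul_card
  have hDpos : 0 < Nat.card D := Nat.card_pos
  have hrG1 : 1 ≤ rG := by
    haveI : Nonempty (MulAction.orbitRel.Quotient G (Ω × Ω)) := by
      obtain ⟨ω⟩ := (inferInstance : Nonempty Ω)
      exact ⟨Quotient.mk'' (ω, ω)⟩
    exact Nat.card_pos
  have hrD1 : 1 ≤ rD := by
    haveI : Nonempty (MulAction.orbitRel.Quotient D (Ω × Ω)) := by
      obtain ⟨ω⟩ := (inferInstance : Nonempty Ω)
      exact ⟨Quotient.mk'' (ω, ω)⟩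
    exact Nat.card_pos
  obtain ⟨a, ha⟩ := Nat.exists_eq_add_of_le hrG1
  obtain ⟨b, hb⟩ := Nat.exists_eq_add_of_le hrD1
  rw [ha, hb]
  rw [ha, hb] at hG
  simp only [Nat.add_sub_cancel_left]
  -- hG : (1+b) * |D| + cnt = (1+a) * |G|
  set cnt := (Finset.univ.filter (fun g : G => ¬ g ∈ D)).card
  set d := Nat.card D
  set i := D.index
  have : b * d = a * i * d := by
    have h1 : (1 + b) * d + cnt = (1 + a) * (i * d) := by rw [hidx]; exact hG
    have h2 : d + cnt = i * d := by rw [hidx]; exact hcount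
    nlinarith
  exact Nat.eq_of_mul_eq_mul_right hDpos this

end Cfsg.Agent.Lib.Helper7
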