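import Mathlib
import Cfsg.Agent.Lib.Helper7.Derangements

set_option autoImplicit false

namespace Cfsg.Agent.Lib.Helper7

theorem derSub_normal (G Ω : Type*) [Group G] [MulAction G Ω] : (derSub G Ω).Normal := by
  have hS : Group.conjugatesOfSet {g : G | ∀ ω : Ω, g • ω ≠ ω} = {g : G | ∀ ω : Ω, g • ω ≠ ω} := by
    apply Set.Subset.antisymm
    · intro x hx
      rw [Group.mem_conjugatesOfSet_iff] at hx
      obtain ⟨a, ha, hac⟩ := hx
      obtain ⟨c, hc⟩ := isConj_iff.mp hac
      intro ω hω
      apply ha (c⁻¹ • ω)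
      rw [← hc] at hω
      have h1 : c⁻¹ • ((c * a * c⁻¹) • ω) = c⁻¹ • ω := by rw [hω]
      calc a • c⁻¹ • ω = c⁻¹ • ((c * a * c⁻¹) • ω) := by
            rw [← mul_smul, ← mul_smul]; congr 1; group
        _ = c⁻¹ • ω := h1
    · exact Group.subset_conjugatesOfSet
  have : derSub G Ω = Subgroup.normalClosure {g : G | ∀ ω : Ω, g • ω ≠ ω} := by
    unfold derSub Subgroup.normalClosure
    rw [hS]
  rw [this]
  exact Subgroup.normalClosure_normal

theorem index_dvd_card_of_stabilizer_le {K X : Type*} [Group K] [MulAction K X] [Finite X]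
    [Finite K] (H : Subgroup K) (h : ∀ x : X, MulAction.stabilizer K x ≤ H) :
    H.index ∣ Nat.card X := by
  classical
  have := Fintype.ofFinite X
  haveI : Fintype (MulAction.orbitRel.Quotient K X) := Fintype.ofFinite _
  rw [Nat.card_congr (MulAction.selfEquivSigmaOrbits K X), Nat.card_sigma]
  apply Finset.dvd_sum
  intro ω _
  rw [Nat.card_coe_set_eq, ← MulAction.index_stabilizer, ← Subgroup.relIndex_mul_index (h _)]
  exact Dvd.intro_left _ rfl

end Cfsg.Agent.Lib.Helper7

namespace Cfsg.Agent.Lib.Helper7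

open MulAction in
theorem derSub_index {G Ω : Type*} [Group G] [Finite G] [MulAction G Ω] [FaithfulSMul G Ω]
    [Finite Ω] (htrans : IsPretransitive G Ω) (hΩ : 2 ≤ Nat.card Ω) :
    (derSub G Ω).index ∣ Nat.card Ω - 1 ∧
    ((derSub G Ω).index = Nat.card Ω - 1 → IsPrimePow (Nat.card Ω)) := by
  classical
  have hne : Nonempty Ω := by
    have : 0 < Nat.card Ω := by omega
    exact (Nat.card_pos_iff.mp this).1
  obtain ⟨α⟩ := hne
  haveI : Nonempty Ω := ⟨α⟩
  obtain ⟨hDtrans, hfix1⟩ := derSub_facts (G := G) (Ω := Ω) htrans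
  haveI hDn : (derSub G Ω).Normal := derSub_normal G Ω
  set D := derSub G Ω with hD
  set K := stabilizer G α with hK
  set X := SubMulAction.ofStabilizer G α with hX
  have hXcard : Nat.card X = Nat.card Ω - 1 := SubMulAction.nat_card_ofStabilizer_eq G α
  set H : Subgroup K := D.subgroupOf K with hH
  -- stabilizers lie in H
  have hstab : ∀ x : X, stabilizer K x ≤ H := by
    intro x k hk
    rw [hH, Subgroup.mem_subgroupOf]
    by_contra hkD
    have h1 := hfix1 (k : G) hkD
    rw [Nat.card_coe_set_eq, Set.ncard_eq_one] at h1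
    obtain ⟨a, ha⟩ := h1
    have hα : α ∈ fixedBy Ω (k : G) := k.2
    have hx : (x : Ω) ∈ fixedBy Ω (k : G) := by
      have : k • x = x := hk
      have := congrArg Subtype.val this
      exact this
    rw [ha] at hα hx
    have : (x : Ω) = α :=
      (Set.mem_singleton_iff.mp hx).trans (Set.mem_singleton_iff.mp hα).symm
    exact x.2 this
  -- index of H
  have hsup : K ⊔ D = ⊤ := by
    rw [eq_top_iff]
    intro g _
    obtain ⟨d, hd⟩ := hDtrans.exists_smul_eq α (g • α)
    have hd' : (d : G) • α = g • α := hd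
    have hmem : (d : G)⁻¹ * g ∈ K := by
      show ((d : G)⁻¹ * g) • α = α
      rw [mul_smul, ← hd', inv_smul_smul]
    have : g = ((d : G)) * ((d : G)⁻¹ * g) := by group
    rw [this]
    exact Subgroup.mul_mem _ (Subgroup.mem_sup_right d.2) (Subgroup.mem_sup_left hmem)
  have hidx : H.index = D.index := by
    have h1 : H.index = D.relIndex K := rfl
    rw [h1, ← Subgroup.relIndex_sup_left K D, sup_comm, hsup, Subgroup.relIndex_top_right]
  have hdvd : H.index ∣ Nat.card X := index_dvd_card_of_stabilizer_le H hstab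
  refine ⟨by rw [← hidx, ← hXcard]; exact hdvd, ?_⟩
  intro hindex
  have hHX : H.index = Nat.card X := by rw [hidx, hindex, hXcard]
  have hXpos : 0 < Nat.card X := by rw [hXcard]; omega
  -- each orbit is everything and H ≤ every stabilizer
  have horb : ∀ x : X, H ≤ stabilizer K x ∧ orbit K x = Set.univ := by
    intro x
    have h1 : Nat.card (orbit K x) = (stabilizer K x).relIndex H * H.index := by
      rw [Nat.card_coe_set_eq, ← index_stabilizer, Subgroup.relIndex_mul_index (hstab x)]
    have h2 : Nat.card (orbit K x) ≤ Nat.card X :=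
      Nat.card_le_card_of_injective Subtype.val Subtype.val_injective
    have h3 : (stabilizer K x).relIndex H ≠ 0 := Subgroup.index_ne_zero_of_finite
    have h4 : (stabilizer K x).relIndex H = 1 := by
      rw [h1, hHX] at h2
      by_contra hne1
      have : 2 ≤ (stabilizer K x).relIndex H := by omega
      have := Nat.mul_le_mul_right (Nat.card X) this
      omega
    refine ⟨Subgroup.relIndex_eq_one.mp h4, ?_⟩
    rw [h4, one_mul, hHX] at h1
    apply Set.eq_of_subset_of_ncard_le (Set.subset_univ _) _ (Set.toFinite _)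
    rw [Set.ncard_univ, ← Nat.card_coe_set_eq, h1]
  -- D ⊓ K = ⊥
  have hDK : ∀ g : G, g ∈ D → g ∈ K → g = 1 := by
    intro g hgD hgK
    apply FaithfulSMul.eq_of_smul_eq_smul (α := Ω)
    intro ω
    rw [one_smul]
    by_cases hω : ω = α
    · rw [hω]; exact hgK
    · have hmem : (⟨g, hgK⟩ : K) ∈ H := by rw [hH, Subgroup.mem_subgroupOf]; exact hgD
      have := (horb ⟨ω, hω⟩).1 hmem
      have h2 : (⟨g, hgK⟩ : K) • (⟨ω, hω⟩ : X) = ⟨ω, hω⟩ := this
      exact congrArg Subtype.val h2
  -- an element of prime order in D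
  obtain ⟨β, hβ⟩ : ∃ β : Ω, β ≠ α := by
    by_contra hall
    push Not at hall
    have : Subsingleton Ω := ⟨fun a b => by rw [hall a, hall b]⟩
    have := Finite.card_le_one_iff_subsingleton.mpr this
    omega
  obtain ⟨d, hd⟩ := hDtrans.exists_smul_eq α β
  have hd1 : (d : G) ≠ 1 := by
    intro h1
    have : (d : G) • α = β := hd
    rw [h1, one_smul] at this
    exact hβ this.symm
  have hord : orderOf (d : G) ≠ 1 := fun h => hd1 (orderOf_eq_one_iff.mp h)
  obtain ⟨p, hp, hpd⟩ := Nat.exists_prime_and_dvd hord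
  haveI := Fact.mk hp
  set x : G := (d : G) ^ (orderOf (d : G) / p) with hx
  have hxo : orderOf x = p := orderOf_pow_orderOf_div (orderOf_pos _).ne' hpd
  have hxD : x ∈ D := Subgroup.pow_mem _ d.2 _
  have hx1 : x ≠ 1 := by
    intro h; rw [h, orderOf_one] at hxo; exact hp.one_lt.ne hxo
  have hxα : x • α ≠ α := fun h => hx1 (hDK x hxD h)
  -- every element of D has p-th power 1
  have hpow : ∀ y : G, y ∈ D → y ^ p = 1 := by
    intro y hyD
    by_cases hy1 : y = 1
    · rw [hy1, one_pow]
    have hyα : y • α ≠ α := fun h => hy1 (hDK y hyD h)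
    have hmem : (⟨y • α, hyα⟩ : X) ∈ orbit K (⟨x • α, hxα⟩ : X) := by
      rw [(horb _).2]; exact Set.mem_univ _
    obtain ⟨k, hk⟩ := hmem
    have hk' : (k : G) • x • α = y • α := congrArg Subtype.val hk
    have hkα : (k : G)⁻¹ • α = α := by
      have : (k : G) • α = α := k.2
      rw [inv_smul_eq_iff, this]
    have hzD : y⁻¹ * ((k : G) * x * (k : G)⁻¹) ∈ D :=
      Subgroup.mul_mem _ (Subgroup.inv_mem _ hyD) (hDn.conj_mem x hxD k)
    have hzK : y⁻¹ * ((k : G) * x * (k : G)⁻¹) ∈ K := by
      show (y⁻¹ * ((k : G) * x * (k : G)⁻¹)) • α = α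
      rw [mul_smul, mul_smul, mul_smul, hkα, hk', inv_smul_smul]
    have hz := hDK _ hzD hzK
    have hy : y = (k : G) * x * (k : G)⁻¹ := by
      have := congrArg (fun t => y * t) hz
      simpa using this.symm
    rw [hy, conj_pow, ← hxo, pow_orderOf_eq_one]
    group
  have hDp : IsPGroup p D := by
    intro y
    refine ⟨1, ?_⟩
    rw [pow_one]
    exact Subtype.ext (hpow y y.2)
  obtain ⟨n, hn⟩ := hDp.card_orbit α
  have : orbit D α = Set.univ := orbit_eq_univ D α
  rw [this, Nat.card_coe_set_eq, Set.ncard_univ] at hn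
  rw [hn]
  have hn0 : n ≠ 0 := by
    rintro rfl
    rw [hn] at hΩ
    simp at hΩ
  exact IsPrimePow.pow hp.isPrimePow hn0

end Cfsg.Agent.Lib.Helper7
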