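import Mathlib
import Cfsg.Agent.Lib.Helper7.Derangements2

set_option autoImplicit false

namespace Cfsg.Agent.Lib.Helper7

open MulAction in
theorem derSub_index_dvd_card_sub {G Ω : Type*} [Group G] [Finite G] [MulAction G Ω] [Finite Ω]
    (htrans : IsPretransitive G Ω) (α : Ω) (Y : SubMulAction (stabilizer G α) Ω)
    (hY : ∀ y ∈ Y, y ≠ α) :
    (derSub G Ω).index ∣ Nat.card Y := by
  classical
  haveI : Nonempty Ω := ⟨α⟩
  obtain ⟨hDtrans, hfix1⟩ := derSub_facts (G := G) (Ω := Ω) htrans
  haveI hDn : (derSub G Ω).Normal := derSub_normal G Ω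
  set D := derSub G Ω with hD
  set H : Subgroup (stabilizer G α) := D.subgroupOf (stabilizer G α) with hH
  have hstab : ∀ y : Y, stabilizer (stabilizer G α) y ≤ H := by
    intro x k hk
    rw [hH, Subgroup.mem_subgroupOf]
    by_contra hkD
    have h1 := hfix1 (k : G) hkD
    rw [Nat.card_coe_set_eq, Set.ncard_eq_one] at h1
    obtain ⟨a, ha⟩ := h1
    have hα : α ∈ fixedBy Ω (k : G) := k.2
    have hx : (x : Ω) ∈ fixedBy Ω (k : G) := by
      have : k • x = x := hk
      have := congrArg Subtype.val this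
      exact this
    rw [ha] at hα hx
    have : (x : Ω) = α :=
      (Set.mem_singleton_iff.mp hx).trans (Set.mem_singleton_iff.mp hα).symm
    exact hY x x.2 this
  have hsup : stabilizer G α ⊔ D = ⊤ := by
    rw [eq_top_iff]
    intro g _
    obtain ⟨d, hd⟩ := hDtrans.exists_smul_eq α (g • α)
    have hd' : (d : G) • α = g • α := hd
    have hmem : (d : G)⁻¹ * g ∈ stabilizer G α := by
      show ((d : G)⁻¹ * g) • α = α
      rw [mul_smul, ← hd', inv_smul_smul]
    have : g = ((d : G)) * ((d : G)⁻¹ * g) := by group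
    rw [this]
    exact Subgroup.mul_mem _ (Subgroup.mem_sup_right d.2) (Subgroup.mem_sup_left hmem)
  have hidx : H.index = D.index := by
    have h1 : H.index = D.relIndex (stabilizer G α) := rfl
    rw [h1, ← Subgroup.relIndex_sup_left (stabilizer G α) D, sup_comm, hsup, Subgroup.relIndex_top_right]
  rw [← hidx]
  exact index_dvd_card_of_stabilizer_le H hstab

open MulAction in
open scoped Pointwise in
theorem derSub_index_imprimitive {G Ω : Type*} [Group G] [Finite G] [MulAction G Ω] [Finite Ω]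
    (htrans : IsPretransitive G Ω) (himp : ¬ IsPreprimitive G Ω) :
    ((derSub G Ω).index : ℝ) ≤ Real.sqrt (Nat.card Ω) - 1 := by
  classical
  have hex : ∃ B : Set Ω, IsBlock G B ∧ ¬ IsTrivialBlock B := by
    by_contra h
    push Not at h
    exact himp { toIsPretransitive := htrans, isTrivialBlock_of_isBlock := fun {B} hB => h B hB }
  obtain ⟨B, hB, hBnt⟩ := hex
  have hBns : ¬ B.Subsingleton := fun h => hBnt (Or.inl h)
  have hBne : B ≠ Set.univ := fun h => hBnt (Or.inr h)
  obtain ⟨α, hα, β, hβ, hαβ⟩ : ∃ α ∈ B, ∃ β ∈ B, α ≠ β := by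
    rw [Set.not_subsingleton_iff] at hBns; exact hBns
  set k := (derSub G Ω).index with hk
  set n := Nat.card Ω with hn
  set b := B.ncard with hb
  let Y : SubMulAction (stabilizer G α) Ω :=
    { carrier := B \ {α}
      smul_mem' := by
        intro g y hy
        have hgB : (g : G) • B = B := hB.smul_eq_of_mem hα (by rw [g.2]; exact hα)
        refine ⟨?_, ?_⟩
        · have : (g : G) • y ∈ (g : G) • B := Set.smul_mem_smul_set hy.1
          rw [hgB] at this
          exact this
        · intro h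
          have h1 : (g : G) • y = α := h
          have h2 : (g : G) • y = (g : G) • α := by rw [h1, g.2]
          exact hy.2 (MulAction.injective (g : G) h2) }
  have hYcard : Nat.card Y = b - 1 := by
    show Nat.card ↥(B \ {α} : Set Ω) = _
    rw [Nat.card_coe_set_eq, Set.ncard_sdiff_singleton_of_mem hα]
  have h1 : k ∣ b - 1 := hYcard ▸ derSub_index_dvd_card_sub htrans α Y (fun y hy => hy.2)
  have h2 : k ∣ n - 1 := by
    have := derSub_index_dvd_card_sub htrans α (SubMulAction.ofStabilizer G α) (fun y hy => hy)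
    rwa [SubMulAction.nat_card_ofStabilizer_eq] at this
  obtain ⟨m, hm⟩ : b ∣ n := hB.ncard_dvd_card ⟨α, hα⟩
  have hb2 : 2 ≤ b := by
    have := (Set.one_lt_ncard_iff (Set.toFinite B)).mpr ⟨α, β, hα, hβ, hαβ⟩
    omega
  have hbn : b < n := by
    rw [hn, ← Set.ncard_univ]
    apply Set.ncard_lt_ncard _ (Set.toFinite _)
    exact Set.ssubset_univ_iff.mpr hBne
  have hm2 : 2 ≤ m := by
    by_contra hlt
    push Not at hlt
    have : b * m ≤ b * 1 := Nat.mul_le_mul_left b (by omega)
    omega
  have hdecomp : n - 1 = b * (m - 1) + (b - 1) := by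
    rw [hm]
    obtain ⟨m', rfl⟩ : ∃ m', m = m' + 1 := ⟨m - 1, by omega⟩
    rw [Nat.add_sub_cancel, Nat.mul_succ]
    omega
  have h4 : k ∣ b * (m - 1) := by
    rw [hdecomp] at h2
    exact (Nat.dvd_add_left h1).mp h2
  have hcop : Nat.Coprime k b := by
    have hg1 : Nat.gcd k b ∣ b - 1 := dvd_trans (Nat.gcd_dvd_left k b) h1
    have hg2 : Nat.gcd k b ∣ b := Nat.gcd_dvd_right k b
    have hg3 : Nat.gcd k b ∣ b - (b - 1) := Nat.dvd_sub hg2 hg1
    have : b - (b - 1) = 1 := by omega
    rw [this] at hg3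
    exact Nat.dvd_one.mp hg3
  have h3 : k ∣ m - 1 := hcop.dvd_of_dvd_mul_left h4
  have hk1 : k ≤ b - 1 := Nat.le_of_dvd (by omega) h1
  have hk2 : k ≤ m - 1 := Nat.le_of_dvd (by omega) h3
  have hsq : (k + 1) * (k + 1) ≤ n := by
    rw [hm]; exact Nat.mul_le_mul (by omega) (by omega)
  have hreal : ((k : ℝ) + 1) ≤ Real.sqrt n := by
    apply Real.le_sqrt_of_sq_le
    have : (((k + 1) * (k + 1) : ℕ) : ℝ) ≤ (n : ℝ) := by exact_mod_cast hsq
    push_cast at this
    nlinarith
  linarith

end Cfsg.Agent.Lib.Helper7
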