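import Mathlib
import Cfsg.Agent.Lib.Helper3.Di4
import Cfsg.Agent.Lib.Helper3.Di8
import Cfsg.Agent.Lib.Helper3.Di12
import Cfsg.Agent.Lib.Helper1.DihedralNPC

set_option autoImplicit false

/-! # Dihedral Sylow 2-subgroups: the trichotomy on classes of involutions -/

namespace Cfsg.Agent.Lib.Helper7.DiTri

open Cfsg.Agent.Lib.Helper3

universe u

section
variable {X : Type u} [Group X] {S : Subgroup X} {m : ℕ} (e : ↥S ≃* DihedralGroup m)

/-- every reflection is `S`-conjugate to `diS 0` or `diS 1` -/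
theorem diS_conj_cases [NeZero m] (i : ZMod m) :
    IsConj (diS e i) (diS e 0) ∨ IsConj (diS e i) (diS e 1) := by
  obtain ⟨j, hj | hj⟩ := zmod_parity' i
  · left
    rw [isConj_iff]
    refine ⟨diR e j, ?_⟩
    rw [diR_conj_diS, hj]; congr 1; ring
  · right
    rw [isConj_iff]
    refine ⟨diR e j, ?_⟩
    rw [diR_conj_diS, hj]; congr 1; ring

end

section
variable {X : Type u} [Group X] [Finite X] (S : Sylow 2 X) {m : ℕ}
  (e : ↥(S : Subgroup X) ≃* DihedralGroup m)

/-- every involution is conjugate to the central involution or to one of two reflections -/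
theorem involution_conj_cases [NeZero m] (h : ZMod m) (hh0 : h ≠ 0) (hh2 : 2 * h = 0)
    (a : X) (ha : orderOf a = 2) :
    IsConj a (diR e h) ∨ IsConj a (diS e 0) ∨ IsConj a (diS e 1) := by
  have : Fact (Nat.Prime 2) := ⟨Nat.prime_two⟩
  obtain ⟨g, hg⟩ := exists_conj_mem_sylow S a 1 (by rw [ha, pow_one])
  have h1 : IsConj a (g * a * g⁻¹) := isConj_iff.mpr ⟨g, rfl⟩
  have haa : a * a = 1 := by rw [← pow_two, ← ha]; exact pow_orderOf_eq_one a
  have hsq : g * a * g⁻¹ * (g * a * g⁻¹) = 1 := by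
    calc g * a * g⁻¹ * (g * a * g⁻¹) = g * (a * a) * g⁻¹ := by group
      _ = 1 := by rw [haa]; group
  have hne : g * a * g⁻¹ ≠ 1 := by
    intro h'
    have : a = 1 := by
      calc a = g⁻¹ * (g * a * g⁻¹) * g := by group
        _ = 1 := by rw [h']; group
    rw [this, orderOf_one] at ha; omega
  rcases di_involution_cases e h hh0 hh2 _ hg hsq hne with h2 | ⟨i, h2⟩
  · left; rw [h2] at h1; exact h1
  · rw [h2] at h1
    rcases diS_conj_cases e i with h3 | h3
    · right; left; exact h1.trans h3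
    · right; right; exact h1.trans h3

/-- a conjugate of a reflection lying in the rotation subgroup is the central involution -/
theorem conj_diS_mem_diRot (h : ZMod m) (hh0 : h ≠ 0) (hh2 : 2 * h = 0) (i : ZMod m) (g : X)
    (hg : g * diS e i * g⁻¹ ∈ diRot e) : IsConj (diS e i) (diR e h) := by
  obtain ⟨j, hj⟩ := hg
  rw [isConj_iff]
  refine ⟨g, ?_⟩
  rw [hj]
  have hsq : diR e j * diR e j = 1 := by
    rw [← hj]
    calc g * diS e i * g⁻¹ * (g * diS e i * g⁻¹) = g * (diS e i * diS e i) * g⁻¹ := by group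
      _ = 1 := by rw [diS_mul_self]; group
  rw [diR_sq_eq_one_iff] at hsq
  have hj0 : j ≠ 0 := by
    rintro rfl
    rw [diR_zero] at hj
    apply diS_ne_one e i
    calc diS e i = g⁻¹ * (g * diS e i * g⁻¹) * g := by group
      _ = 1 := by rw [hj]; group
  rw [zmod_two_mul_unique j h hsq hh2 hj0 hh0]

/-- three classes of involutions force a normal 2-complement -/
theorem npc_of_three_classes [NeZero m] (h : ZMod m) (hh0 : h ≠ 0) (hh2 : 2 * h = 0)
    (h0 : ¬ IsConj (diS e 0) (diR e h)) (h1 : ¬ IsConj (diS e 1) (diR e h)) :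
    Cfsg.HasNormalPComplement 2 X := by
  apply Cfsg.Agent.Lib.Helper1.hasNormalPComplement_of_dihedralLike_aux _ X rfl S (diRot e)
    (diRot_le e) (isCyclic_diRot e)
  · intro x hx y hy hxR hyR
    rcases di_cases e x hx with ⟨i, rfl⟩ | ⟨i, rfl⟩
    · exact absurd ⟨i, rfl⟩ hxR
    rcases di_cases e y hy with ⟨j, rfl⟩ | ⟨j, rfl⟩
    · exact absurd ⟨j, rfl⟩ hyR
    rw [diS_mul_diS]; exact ⟨_, rfl⟩
  · intro x hx hxR
    rcases di_cases e x hx with ⟨i, rfl⟩ | ⟨i, rfl⟩
    · exact absurd ⟨i, rfl⟩ hxR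
    exact diS_mul_self e i
  · intro x hx hxR g hg
    rcases di_cases e x hx with ⟨i, rfl⟩ | ⟨i, rfl⟩
    · exact absurd ⟨i, rfl⟩ hxR
    have h2 := conj_diS_mem_diRot S e h hh0 hh2 i g hg
    rcases diS_conj_cases e i with h3 | h3
    · exact h0 (h3.symm.trans h2)
    · exact h1 (h3.symm.trans h2)

end

end Cfsg.Agent.Lib.Helper7.DiTri
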