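import Mathlib
import Cfsg.Agent.Lib.Helper7.DiTri1

set_option autoImplicit false

/-! # Dihedral Sylow 2-subgroups: a normal subgroup of index four separates the three classes -/

namespace Cfsg.Agent.Lib.Helper7.DiTri

open Cfsg.Agent.Lib.Helper3

universe u

section
variable {X : Type u} [Group X] [Finite X] (S : Sylow 2 X) {m : ℕ}
  (e : ↥(S : Subgroup X) ≃* DihedralGroup m)

theorem not_conj_of_index_four [NeZero m] (h q : ZMod m) (hq : 2 * q = h)
    (N : Subgroup X) [hNn : N.Normal] (hN : N.index = 4) :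
    ¬ IsConj (diS e 0) (diR e h) ∧ ¬ IsConj (diS e 1) (diR e h) ∧
      ¬ IsConj (diS e 0) (diS e 1) := by
  haveI : Fact (Nat.Prime 2) := ⟨Nat.prime_two⟩
  have hcard : Nat.card (X ⧸ N) = 4 := by rw [← Subgroup.index_eq_card]; exact hN
  have hcomm : ∀ x y : X ⧸ N, x * y = y * x :=
    (IsPGroup.isMulCommutative_of_card_eq_prime_sq (p := 2) (by rw [hcard]; norm_num)).is_comm.comm
  set φ := QuotientGroup.mk' N with hφ
  have hφN : ∀ n ∈ N, φ n = 1 := fun n hn => (QuotientGroup.eq_one_iff n).2 hn
  have hconj : ∀ a b : X, IsConj a b → φ a = φ b := by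
    intro a b hab
    obtain ⟨g, hg⟩ := isConj_iff.1 hab
    rw [← hg, map_mul, map_mul, hcomm (φ g), mul_assoc, ← map_mul, mul_inv_cancel, map_one, mul_one]
  -- S N = X
  have hsup : (S : Subgroup X) ⊔ N = ⊤ := by
    rw [← Subgroup.index_eq_one]
    have h1 : ((S : Subgroup X) ⊔ N).index ∣ (S : Subgroup X).index :=
      Subgroup.index_dvd_of_le le_sup_left
    have h2 : ((S : Subgroup X) ⊔ N).index ∣ 4 := hN ▸ Subgroup.index_dvd_of_le le_sup_right
    have h3 : Nat.Coprime (S : Subgroup X).index 4 := by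
      have : Nat.Coprime (S : Subgroup X).index 2 := by
        rw [Nat.coprime_comm]
        exact (Nat.Prime.coprime_iff_not_dvd Nat.prime_two).2 S.not_dvd_index
      exact Nat.Coprime.pow_right 2 this
    exact Nat.eq_one_of_dvd_coprimes h3 h1 h2
  have hsurj : ∀ x : X ⧸ N, ∃ s ∈ (S : Subgroup X), φ s = x := by
    intro x
    obtain ⟨g, rfl⟩ := QuotientGroup.mk'_surjective N x
    have hg : g ∈ (S : Subgroup X) ⊔ N := by rw [hsup]; exact Subgroup.mem_top g
    rw [← SetLike.mem_coe, Subgroup.mul_normal] at hg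
    obtain ⟨s, hs, n, hn, rfl⟩ := Set.mem_mul.1 hg
    exact ⟨s, hs, by rw [map_mul, hφN n hn, mul_one]⟩
  set a := φ (diR e 1) with ha
  set b := φ (diS e 0) with hb
  have heven : ∀ j : ZMod m, φ (diR e (2 * j)) = 1 := by
    intro j
    have h1 : diR e (2 * j) = diR e j * diS e 0 * (diR e j)⁻¹ * diS e 0 := by
      rw [diR_conj_diS, diS_mul_diS]; congr 1; ring
    rw [h1, map_mul, map_mul, map_mul, hcomm (φ (diR e j)), mul_assoc (φ (diS e 0)),
      ← map_mul, mul_inv_cancel, map_one, mul_one, ← map_mul, diS_mul_self, map_one]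
  have haa : a * a = 1 := by
    rw [ha, ← map_mul, diR_mul_diR]
    have : (1 : ZMod m) + 1 = 2 * 1 := by ring
    rw [this]; exact heven 1
  have hall : ∀ x : X ⧸ N, x = 1 ∨ x = a ∨ x = b ∨ x = b * a := by
    intro x
    obtain ⟨s, hs, rfl⟩ := hsurj x
    rcases di_cases e s hs with ⟨i, rfl⟩ | ⟨i, rfl⟩
    · obtain ⟨j, hj | hj⟩ := zmod_parity' i
      · left; rw [hj]; exact heven j
      · right; left
        rw [hj, ← diR_mul_diR, map_mul, heven j, one_mul]
    · obtain ⟨j, hj | hj⟩ := zmod_parity' i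
      · right; right; left
        have h1 : diS e i = diR e (-j) * diS e 0 * (diR e (-j))⁻¹ := by
          rw [diR_conj_diS, hj]; congr 1; ring
        rw [h1]
        exact hconj _ _ (isConj_iff.2 ⟨(diR e (-j))⁻¹, by group⟩)
      · right; right; right
        have h1 : diS e i = diR e (-j) * diS e 0 * (diR e (-j))⁻¹ * diR e 1 := by
          rw [diR_conj_diS, diS_mul_diR, hj]; congr 1; ring
        rw [h1, map_mul]
        congr 1
        exact hconj _ _ (isConj_iff.2 ⟨(diR e (-j))⁻¹, by group⟩)
  have hbound : ∀ c : X ⧸ N, (∀ x : X ⧸ N, x = 1 ∨ x = c) → False := by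
    intro c hc
    classical
    haveI := Fintype.ofFinite (X ⧸ N)
    have h1 : Nat.card (X ⧸ N) ≤ 2 := by
      rw [Nat.card_eq_fintype_card, ← Finset.card_univ]
      calc (Finset.univ : Finset (X ⧸ N)).card ≤ ({1, c} : Finset (X ⧸ N)).card := by
            apply Finset.card_le_card
            intro x _
            rcases hc x with h | h <;> simp [h]
        _ ≤ 2 := Finset.card_le_two
    omega
  have ha1 : a ≠ 1 := by
    intro h1
    apply hbound b
    intro x
    rcases hall x with h | h | h | h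
    · left; exact h
    · left; rw [h, h1]
    · right; exact h
    · right; rw [h, h1, mul_one]
  have hb1 : b ≠ 1 := by
    intro h1
    apply hbound a
    intro x
    rcases hall x with h | h | h | h
    · left; exact h
    · right; exact h
    · left; rw [h, h1]
    · right; rw [h, h1, one_mul]
  have hab : a ≠ b := by
    intro h1
    apply hbound a
    intro x
    rcases hall x with h | h | h | h
    · left; exact h
    · right; exact h
    · right; rw [h, h1]
    · left; rw [h, ← h1, haa]
  have hz : φ (diR e h) = 1 := by rw [← hq]; exact heven q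
  have hs1 : φ (diS e 1) = b * a := by
    have : diS e (1 : ZMod m) = diS e 0 * diR e 1 := by rw [diS_mul_diR, zero_add]
    rw [this, map_mul]
  refine ⟨fun hc => hb1 ?_, fun hc => hab ?_, fun hc => ha1 ?_⟩
  · rw [hb, hconj _ _ hc, hz]
  · have h1 := hconj _ _ hc
    rw [hs1, hz] at h1
    have : b = a⁻¹ := eq_inv_of_mul_eq_one_left h1
    rw [this]
    exact (eq_inv_of_mul_eq_one_left haa)
  · have h1 := hconj _ _ hc
    rw [hs1] at h1
    have : b * 1 = b * a := by rw [mul_one]; exact h1
    exact (mul_left_cancel this).symm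

end

end Cfsg.Agent.Lib.Helper7.DiTri
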