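import Mathlib

set_option autoImplicit false

/-!
Subgroups of dihedral groups: the subgroups `dihSub n d` (`d ∣ n`) of index `d`, and facts about
arbitrary subgroups containing reflections.
-/

namespace Cfsg.Agent.Lib.Helper7

open DihedralGroup

/-- the index of a dihedral group element -/
def didx {n : ℕ} : DihedralGroup n → ZMod n
  | r i => i
  | sr i => i

/-- the subgroup `⟨r^d, s⟩` of `D_n`, for `d ∣ n`. -/
def dihSub (n d : ℕ) (h : d ∣ n) : Subgroup (DihedralGroup n) where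
  carrier := {x | ZMod.castHom h (ZMod d) (didx x) = 0}
  one_mem' := by
    show ZMod.castHom h (ZMod d) (didx (1 : DihedralGroup n)) = 0
    rw [DihedralGroup.one_def]
    simp [didx]
  mul_mem' := by
    intro a b ha hb
    rw [Set.mem_setOf_eq] at ha hb ⊢
    rcases a with i | i <;> rcases b with j | j <;>
      simp only [didx, r_mul_r, r_mul_sr, sr_mul_r, sr_mul_sr, map_add, map_sub] at ha hb ⊢ <;>
      rw [ha, hb] <;> simp
  inv_mem' := by
    intro a ha
    rw [Set.mem_setOf_eq] at ha ⊢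
    rcases a with i | i <;> simp only [didx, inv_r, inv_sr, map_neg] at ha ⊢ <;> rw [ha] <;> simp

theorem r_mem_dihSub {n d : ℕ} (h : d ∣ n) (i : ZMod n) :
    r i ∈ dihSub n d h ↔ ZMod.castHom h (ZMod d) i = 0 := Iff.rfl

theorem sr_mem_dihSub {n d : ℕ} (h : d ∣ n) (i : ZMod n) :
    sr i ∈ dihSub n d h ↔ ZMod.castHom h (ZMod d) i = 0 := Iff.rfl

/-- if a subgroup of `D_n` consists of rotations, it is cyclic. -/
theorem isCyclic_of_forall_rot {n : ℕ} (H : Subgroup (DihedralGroup n))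
    (h : ∀ x ∈ H, ∃ i, x = r i) : IsCyclic ↥H := by
  have hle : H ≤ Subgroup.zpowers (r (1 : ZMod n)) := by
    intro x hx
    obtain ⟨i, rfl⟩ := h x hx
    rw [Subgroup.mem_zpowers_iff]
    refine ⟨(i.cast : ℤ), ?_⟩
    rw [r_one_zpow]
    congr 1
    simp
  have e : ↥(H.subgroupOf (Subgroup.zpowers (r (1 : ZMod n)))) ≃* ↥H :=
    Subgroup.subgroupOfEquivOfLe hle
  exact isCyclic_of_surjective e e.surjective

/-- a non-cyclic subgroup of `D_n` contains a reflection. -/
theorem exists_sr_mem_of_not_isCyclic {n : ℕ} (H : Subgroup (DihedralGroup n))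
    (h : ¬ IsCyclic ↥H) : ∃ i, sr i ∈ H := by
  by_contra hcon
  push Not at hcon
  apply h
  apply isCyclic_of_forall_rot
  intro x hx
  rcases x with i | i
  · exact ⟨i, rfl⟩
  · exact absurd hx (hcon i)

/-- a non-abelian subgroup of `D_n` contains a reflection. -/
theorem exists_sr_mem_of_not_comm {n : ℕ} (H : Subgroup (DihedralGroup n))
    (h : ¬ IsMulCommutative ↥H) : ∃ i, sr i ∈ H := by
  apply exists_sr_mem_of_not_isCyclic
  intro hc
  exact h inferInstance

theorem two_mul_eq_zero_of_odd {n : ℕ} (hn : Odd n) (j : ZMod n) (h : 2 * j = 0) : j = 0 := by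
  obtain ⟨k, hk⟩ := hn
  have h1 : ((n : ℕ) : ZMod n) = 0 := ZMod.natCast_self n
  have h2 : ((2 * k + 1 : ℕ) : ZMod n) = 0 := by rw [← hk]; exact h1
  push_cast at h2
  -- j = (2k+1) j - k (2 j)
  have : j = (2 * (k : ZMod n) + 1) * j - (k : ZMod n) * (2 * j) := by ring
  rw [this, h2, h]; ring

/-- for odd `n`, `r (2 t) ∈ H` implies `r t ∈ H`. -/
theorem r_mem_of_r_two_mul_mem {n : ℕ} (hn : Odd n) (H : Subgroup (DihedralGroup n)) (t : ZMod n)
    (h : r (2 * t) ∈ H) : r t ∈ H := by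
  obtain ⟨k, hk⟩ := hn
  have h1 : ((n : ℕ) : ZMod n) = 0 := ZMod.natCast_self n
  have h2 : ((2 * k + 1 : ℕ) : ZMod n) = 0 := by rw [← hk]; exact h1
  push_cast at h2
  have h3 : (r (2 * t)) ^ (k + 1) ∈ H := H.pow_mem h _
  rw [r_pow] at h3
  have : 2 * t * ((k + 1 : ℕ) : ZMod n) = t := by
    push_cast
    have : 2 * t * ((k : ZMod n) + 1) = (2 * (k : ZMod n) + 1) * t + t := by ring
    rw [this, h2]; ring
  rwa [this] at h3

theorem two_mul_eq_zero_of_even {n : ℕ} (hn : Even n) (hn0 : n ≠ 0) (u : ZMod n)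
    (h : 2 * u = 0) : u = 0 ∨ u = ((n / 2 : ℕ) : ZMod n) := by
  haveI : NeZero n := ⟨hn0⟩
  obtain ⟨m, hm⟩ := hn
  have hv : u.val < n := ZMod.val_lt u
  have h1 : ((2 * u.val : ℕ) : ZMod n) = 0 := by
    push_cast
    rw [ZMod.natCast_zmod_val]
    exact h
  rw [ZMod.natCast_eq_zero_iff] at h1
  obtain ⟨c, hc⟩ := h1
  have hc2 : c = 0 ∨ c = 1 := by
    rcases c with _ | _ | c
    · left; rfl
    · right; rfl
    · exfalso
      have h5 : 2 * u.val ≥ 2 * n := by rw [hc]; nlinarith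
      omega
  rcases hc2 with rfl | rfl
  · left
    have : u.val = 0 := by omega
    exact (ZMod.val_eq_zero u).mp this
  · right
    have : u.val = n / 2 := by omega
    rw [← this, ZMod.natCast_zmod_val]

end Cfsg.Agent.Lib.Helper7
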