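import Mathlib

set_option autoImplicit false

/-!
# Utilities on four-groups inside groups of 2-rank two
-/

namespace Cfsg.Agent.Lib.Helper7.E8Six

variable {G : Type*} [Group G]

/-- adjoin a commuting element of order at most two to a subgroup -/
def adjoin (W : Subgroup G) (t : G) (ht2 : t ^ 2 = 1) (htW : ∀ w ∈ W, t * w = w * t) :
    Subgroup G where
  carrier := {x | x ∈ W ∨ t * x ∈ W}
  one_mem' := Or.inl (one_mem W)
  mul_mem' := by
    rintro x y (hx | hx) (hy | hy)
    · exact Or.inl (mul_mem hx hy)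
    · right
      have : t * (x * y) = x * (t * y) := by rw [← mul_assoc, htW x hx, mul_assoc]
      rw [this]
      exact mul_mem hx hy
    · right
      rw [← mul_assoc]
      exact mul_mem hx hy
    · left
      have hx' : x = t * (t * x) := by rw [← mul_assoc, ← pow_two, ht2, one_mul]
      have : x * y = (t * x) * (t * y) := by
        conv_lhs => rw [hx']
        rw [htW _ hx, mul_assoc]
      rw [this]
      exact mul_mem hx hy
  inv_mem' := by
    rintro x (hx | hx)
    · exact Or.inl (inv_mem hx)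
    · right
      have hti : t⁻¹ = t := by rw [inv_eq_iff_mul_eq_one, ← pow_two, ht2]
      have h1 : t * x⁻¹ = (t * x)⁻¹ := by
        have hx' : x = t * (t * x) := by rw [← mul_assoc, ← pow_two, ht2, one_mul]
        have h2 := htW _ (inv_mem hx)
        conv_lhs => rw [hx']
        rw [mul_inv_rev, hti, ← mul_assoc, h2, mul_assoc, ← pow_two, ht2, mul_one]
      rw [h1]
      exact inv_mem hx

theorem mem_adjoin {W : Subgroup G} {t : G} {ht2 : t ^ 2 = 1} {htW : ∀ w ∈ W, t * w = w * t}
    {x : G} : x ∈ adjoin W t ht2 htW ↔ x ∈ W ∨ t * x ∈ W := Iff.rfl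

theorem le_adjoin (W : Subgroup G) (t : G) (ht2 : t ^ 2 = 1) (htW : ∀ w ∈ W, t * w = w * t) :
    W ≤ adjoin W t ht2 htW := fun _ hx => Or.inl hx

theorem self_mem_adjoin (W : Subgroup G) (t : G) (ht2 : t ^ 2 = 1)
    (htW : ∀ w ∈ W, t * w = w * t) : t ∈ adjoin W t ht2 htW := by
  right
  rw [← pow_two, ht2]
  exact one_mem W

theorem exists_of_mem_adjoin {W : Subgroup G} {t : G} {ht2 : t ^ 2 = 1}
    {htW : ∀ w ∈ W, t * w = w * t} {x : G} (hx : x ∈ adjoin W t ht2 htW) :
    ∃ w ∈ W, x = w ∨ x = t * w := by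
  rcases hx with hx | hx
  · exact ⟨x, hx, Or.inl rfl⟩
  · exact ⟨t * x, hx, Or.inr (by rw [← mul_assoc, ← pow_two, ht2, one_mul])⟩

theorem adjoin_sq {W : Subgroup G} {t : G} {ht2 : t ^ 2 = 1} {htW : ∀ w ∈ W, t * w = w * t}
    (hW2 : ∀ w ∈ W, w ^ 2 = 1) {x : G} (hx : x ∈ adjoin W t ht2 htW) : x ^ 2 = 1 := by
  obtain ⟨w, hw, hxw | hxw⟩ := exists_of_mem_adjoin hx
  · rw [hxw]
    exact hW2 w hw
  · rw [hxw, (show Commute t w from htW w hw).mul_pow, ht2, hW2 w hw, one_mul]

theorem adjoin_comm {W : Subgroup G} {t : G} {ht2 : t ^ 2 = 1} {htW : ∀ w ∈ W, t * w = w * t}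
    (hWc : ∀ x ∈ W, ∀ y ∈ W, x * y = y * x) {x y : G} (hx : x ∈ adjoin W t ht2 htW)
    (hy : y ∈ adjoin W t ht2 htW) : x * y = y * x := by
  obtain ⟨w, hw, hxw | hxw⟩ := exists_of_mem_adjoin hx <;>
  obtain ⟨v, hv, hyv | hyv⟩ := exists_of_mem_adjoin hy <;> rw [hxw, hyv]
  · exact hWc w hw v hv
  · have h1 := htW w hw
    have h2 := hWc w hw v hv
    calc w * (t * v) = (w * t) * v := by rw [mul_assoc]
      _ = t * (w * v) := by rw [← h1, mul_assoc]
      _ = t * v * w := by rw [h2, mul_assoc]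
  · have h1 := htW v hv
    have h2 := hWc w hw v hv
    calc t * w * v = t * (v * w) := by rw [mul_assoc, h2]
      _ = v * (t * w) := by rw [← mul_assoc, h1, mul_assoc]
  · have h1 := htW v hv
    have h2 := htW w hw
    have h3 := hWc w hw v hv
    calc t * w * (t * v) = t * (w * t) * v := by simp only [mul_assoc]
      _ = t * (t * w) * v := by rw [h2]
      _ = t * t * (v * w) := by rw [← h3]; simp only [mul_assoc]
      _ = t * (t * v) * w := by simp only [mul_assoc]
      _ = t * (v * t) * w := by rw [h1]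
      _ = t * v * (t * w) := by simp only [mul_assoc]

section
variable [Finite G]

/-- a subgroup with at most four elements, three of which are given -/
theorem four_elems (A : Subgroup G) (hA : Nat.card A ≤ 4) (a b c : G) (ha : a ∈ A) (hb : b ∈ A)
    (hc : c ∈ A) (h1 : a ≠ 1) (h2 : b ≠ 1) (h3 : c ≠ 1) (h4 : a ≠ b) (h5 : a ≠ c) (h6 : b ≠ c) :
    Nat.card A = 4 ∧ ∀ x ∈ A, x = 1 ∨ x = a ∨ x = b ∨ x = c := by
  classical
  have hcard : ({1, a, b, c} : Finset G).card = 4 := by
    rw [Finset.card_insert_of_notMem (by simp [h1.symm, h2.symm, h3.symm]),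
      Finset.card_insert_of_notMem (by simp [h4, h5]),
      Finset.card_insert_of_notMem (by simp [h6]), Finset.card_singleton]
  have hsub : ((({1, a, b, c} : Finset G) : Set G)) ⊆ (A : Set G) := by
    intro x hx
    simp only [Finset.coe_insert, Finset.coe_singleton, Set.mem_insert_iff,
      Set.mem_singleton_iff] at hx
    rcases hx with rfl | rfl | rfl | rfl
    · exact one_mem A
    · exact ha
    · exact hb
    · exact hc
  have hA' : (A : Set G).ncard ≤ 4 := hA
  have heq := Set.eq_of_subset_of_ncard_le hsub (by rw [Set.ncard_coe_finset, hcard]; exact hA')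
    (Set.toFinite _)
  constructor
  · have : (A : Set G).ncard = 4 := by rw [← heq, Set.ncard_coe_finset, hcard]
    exact this
  · intro x hx
    have : x ∈ (A : Set G) := hx
    rw [← heq] at this
    simpa using this

/-- in a group without `E₈`, an element of order at most two centralizing a four-group lies in
it -/
theorem absorb
    (hR : ∀ A : Subgroup G, (∀ x ∈ A, ∀ y ∈ A, x * y = y * x) → (∀ x ∈ A, x ^ 2 = 1) →
      Nat.card A ≤ 4)
    (W : Subgroup G) (hWc : ∀ x ∈ W, ∀ y ∈ W, x * y = y * x) (hW2 : ∀ w ∈ W, w ^ 2 = 1)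
    (hW4 : Nat.card W = 4) (t : G) (ht2 : t ^ 2 = 1) (htW : ∀ w ∈ W, t * w = w * t) : t ∈ W := by
  have hE := hR (adjoin W t ht2 htW) (fun x hx y hy => adjoin_comm hWc hx hy)
    (fun x hx => adjoin_sq hW2 hx)
  have heq := Subgroup.eq_of_le_of_card_ge (le_adjoin W t ht2 htW) (by rw [hW4]; exact hE)
  rw [heq]
  exact self_mem_adjoin W t ht2 htW

end

end Cfsg.Agent.Lib.Helper7.E8Six
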