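import Mathlib
import Cfsg.Agent.Lib.Helper7.E8Six1
import Cfsg.Agent.Lib.Lead.Core
import Cfsg.Agent.Lib.Lead.Nilpotent

set_option autoImplicit false

namespace Cfsg.Agent.Lib.Helper7.E8Six

open Cfsg.Agent.Lib.Lead

variable {G : Type*} [Group G]

/-- the standing hypotheses: no `E₈`, and `d` acts fixed-point-freely on the elementary abelian
2-group `W ≠ 1` -/
structure Ctx [Finite G] (W : Subgroup G) (d : G) : Prop where
  hR : ∀ A : Subgroup G, (∀ x ∈ A, ∀ y ∈ A, x * y = y * x) → (∀ x ∈ A, x ^ 2 = 1) →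
    Nat.card A ≤ 4
  hWc : ∀ x ∈ W, ∀ y ∈ W, x * y = y * x
  hW2 : ∀ w ∈ W, w ^ 2 = 1
  hW1 : W ≠ ⊥
  hdW : ∀ w ∈ W, d * w * d⁻¹ ∈ W
  hfpf : ∀ w ∈ W, d * w * d⁻¹ = w → w = 1

theorem conj_central {N : Subgroup G} [hN : N.Normal] {w : G}
    (hw : w ∈ N ∧ ∀ x ∈ N, x * w = w * x) (g : G) :
    g * w * g⁻¹ ∈ N ∧ ∀ x ∈ N, x * (g * w * g⁻¹) = (g * w * g⁻¹) * x := by
  refine ⟨hN.conj_mem w hw.1 g, ?_⟩
  intro x hx
  have h1 : g⁻¹ * x * g ∈ N := by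
    have := hN.conj_mem x hx g⁻¹
    rwa [inv_inv] at this
  have h2 := hw.2 _ h1
  calc x * (g * w * g⁻¹) = g * ((g⁻¹ * x * g) * w) * g⁻¹ := by group
    _ = g * (w * (g⁻¹ * x * g)) * g⁻¹ := by rw [h2]
    _ = g * w * g⁻¹ * x := by group

section
variable [Finite G] {W : Subgroup G} {d : G}

theorem Ctx.orbit (C : Ctx W d) (y : G) (hy : y ∈ W) (hy1 : y ≠ 1) :
    Nat.card W = 4 ∧ ∀ x ∈ W, x = 1 ∨ x = y ∨ x = d * y * d⁻¹ ∨
      x = d * (d * y * d⁻¹) * d⁻¹ := by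
  have hinj : ∀ a b : G, d * a * d⁻¹ = d * b * d⁻¹ → a = b := by
    intro a b h
    have := congrArg (fun z => d⁻¹ * z * d) h
    simpa [mul_assoc] using this
  have hy' := C.hdW y hy
  have hy'' := C.hdW _ hy'
  have h1 : d * y * d⁻¹ ≠ 1 := by
    intro h
    apply hy1
    apply hinj
    rw [h]; group
  have h2 : d * (d * y * d⁻¹) * d⁻¹ ≠ 1 := by
    intro h
    apply h1
    apply hinj
    rw [h]; group
  have h3 : y ≠ d * y * d⁻¹ := fun h => hy1 (C.hfpf y hy h.symm)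
  have h4 : d * y * d⁻¹ ≠ d * (d * y * d⁻¹) * d⁻¹ := fun h => h3 (hinj _ _ h)
  have h5 : y ≠ d * (d * y * d⁻¹) * d⁻¹ := by
    intro h
    apply h3
    have hu : d * (y * (d * y * d⁻¹)) * d⁻¹ = y * (d * y * d⁻¹) := by
      calc d * (y * (d * y * d⁻¹)) * d⁻¹ = (d * y * d⁻¹) * (d * (d * y * d⁻¹) * d⁻¹) := by group
        _ = (d * y * d⁻¹) * y := by rw [← h]
        _ = y * (d * y * d⁻¹) := C.hWc _ hy' _ hy
    have hu1 := C.hfpf _ (mul_mem hy hy') hu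
    have hyinv : y⁻¹ = y := by rw [inv_eq_iff_mul_eq_one, ← pow_two, C.hW2 y hy]
    calc y = y⁻¹ := hyinv.symm
      _ = d * y * d⁻¹ := by rw [inv_eq_iff_mul_eq_one]; exact hu1
  exact four_elems W (C.hR W C.hWc C.hW2) y _ _ hy hy' hy'' hy1 h1 h2 h3 h5 h4

theorem Ctx.card_eq (C : Ctx W d) : Nat.card W = 4 := by
  obtain ⟨⟨y, hy⟩, hy1⟩ := (Subgroup.ne_bot_iff_exists_ne_one).mp C.hW1
  exact (C.orbit y hy (fun h => hy1 (Subtype.ext h))).1

theorem Ctx.absorb (C : Ctx W d) (t : G) (ht2 : t ^ 2 = 1) (htW : ∀ w ∈ W, t * w = w * t) :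
    t ∈ W :=
  E8Six.absorb C.hR W C.hWc C.hW2 C.card_eq t ht2 htW

/-- a central involution of a Sylow 2-subgroup containing `W`, inside `O₂(G)` -/
theorem exists_central_involution (hQ : Cfsg.pCore 2 G ≠ ⊥) (W : Subgroup G)
    (hWp : IsPGroup 2 W) :
    ∃ y ∈ Cfsg.pCore 2 G, y ≠ 1 ∧ y ^ 2 = 1 ∧ (∀ x ∈ Cfsg.pCore 2 G, x * y = y * x) ∧
      (∀ w ∈ W, w * y = y * w) := by
  haveI : Fact (Nat.Prime 2) := ⟨Nat.prime_two⟩
  obtain ⟨S, hWS⟩ := hWp.exists_le_sylow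
  have hQS : Cfsg.pCore 2 G ≤ S := by
    rw [pCore_eq_iInf_sylow]
    exact iInf_le _ S
  haveI : Group.IsNilpotent S := S.isPGroup'.isNilpotent
  haveI hQn : (Cfsg.pCore 2 G).Normal := pCore_normal 2
  haveI : ((Cfsg.pCore 2 G).subgroupOf S).Normal := hQn.subgroupOf S
  have hN : (Cfsg.pCore 2 G).subgroupOf S ≠ ⊥ := by
    rw [Ne, Subgroup.subgroupOf_eq_bot, disjoint_iff, inf_of_le_left hQS]
    exact hQ
  have hM := inf_center_ne_bot ((Cfsg.pCore 2 G).subgroupOf S) hN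
  set M := (Cfsg.pCore 2 G).subgroupOf S ⊓ Subgroup.center S with hMdef
  obtain ⟨k, hk⟩ := IsPGroup.iff_card.mp (S.isPGroup'.to_subgroup M)
  have hk0 : k ≠ 0 := by
    rintro rfl
    rw [pow_zero] at hk
    exact hM (Subgroup.card_eq_one.mp hk)
  have h2 : 2 ∣ Nat.card M := by
    rw [hk]
    exact dvd_pow_self 2 hk0
  obtain ⟨m, hm⟩ := exists_prime_orderOf_dvd_card' 2 h2
  have hm2 : (((m : S) : G)) ^ 2 = 1 := by
    have := pow_orderOf_eq_one m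
    rw [hm] at this
    have h3 := congrArg (fun u : M => ((u : S) : G)) this
    simpa using h3
  have hm1 : ((m : S) : G) ≠ 1 := by
    intro h
    have : m = 1 := Subtype.ext (Subtype.ext h)
    rw [this, orderOf_one] at hm
    omega
  have hmN : ((m : S) : G) ∈ Cfsg.pCore 2 G := Subgroup.mem_subgroupOf.mp m.2.1
  have hmZ := Subgroup.mem_center_iff.mp m.2.2
  have hcomm : ∀ x ∈ (S : Subgroup G), x * ((m : S) : G) = ((m : S) : G) * x := by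
    intro x hx
    exact congrArg Subtype.val (hmZ ⟨x, hx⟩)
  exact ⟨_, hmN, hm1, hm2, fun x hx => hcomm x (hQS hx), fun w hw => hcomm w (hWS hw)⟩

/-- `W ≤ Z(O₂(G))` -/
theorem Ctx.le_center_core (C : Ctx W d) (hQ : Cfsg.pCore 2 G ≠ ⊥) :
    ∀ w ∈ W, w ∈ Cfsg.pCore 2 G ∧ ∀ x ∈ Cfsg.pCore 2 G, x * w = w * x := by
  haveI hQn : (Cfsg.pCore 2 G).Normal := pCore_normal 2
  have hWp : IsPGroup 2 W := by
    intro w
    refine ⟨1, ?_⟩
    rw [pow_one]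
    exact Subtype.ext (C.hW2 w w.2)
  obtain ⟨y, hyQ, hy1, hy2, hyc, hyW⟩ := exists_central_involution hQ W hWp
  have hyW' : y ∈ W := C.absorb y hy2 (fun w hw => (hyW w hw).symm)
  have hP : y ∈ Cfsg.pCore 2 G ∧ ∀ x ∈ Cfsg.pCore 2 G, x * y = y * x := ⟨hyQ, hyc⟩
  have hP' := conj_central hP d
  have hP'' := conj_central hP' d
  intro w hw
  rcases (C.orbit y hyW' hy1).2 w hw with rfl | rfl | rfl | rfl
  · exact ⟨one_mem _, fun x _ => by rw [mul_one, one_mul]⟩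
  · exact hP
  · exact hP'
  · exact hP''

theorem Ctx.normal (C : Ctx W d) (hQ : Cfsg.pCore 2 G ≠ ⊥) (g : G) (w : G) (hw : w ∈ W) :
    g * w * g⁻¹ ∈ W := by
  haveI hQn : (Cfsg.pCore 2 G).Normal := pCore_normal 2
  have hc := conj_central (C.le_center_core hQ w hw) g
  apply C.absorb
  · rw [conj_pow, C.hW2 w hw]
    group
  · intro v hv
    exact (hc.2 v (C.le_center_core hQ v hv).1).symm

end

end Cfsg.Agent.Lib.Helper7.E8Six
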