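import Mathlib
import Cfsg.Agent.Lib.Helper7.E8Six2

set_option autoImplicit false

namespace Cfsg.Agent.Lib.Helper7.E8Six

open Cfsg.Agent.Lib.Lead

variable {G : Type*} [Group G] [Finite G] {W : Subgroup G} {d : G}

/-- an element of order three commuting with an involution centralizes the normal four-group -/
theorem Ctx.centralizes (C : Ctx W d) (hQ : Cfsg.pCore 2 G ≠ ⊥) (s t : G) (hs3 : s ^ 3 = 1)
    (ht2 : t ^ 2 = 1) (ht1 : t ≠ 1) (hst : s * t = t * s) : ∀ w ∈ W, s * w * s⁻¹ = w := by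
  have hti : t⁻¹ = t := by rw [inv_eq_iff_mul_eq_one, ← pow_two, ht2]
  have hinv : ∀ w ∈ W, w⁻¹ = w := fun w hw => by
    rw [inv_eq_iff_mul_eq_one, ← pow_two, C.hW2 w hw]
  have hinj : ∀ a b : G, s * a * s⁻¹ = s * b * s⁻¹ → a = b := by
    intro a b h
    have := congrArg (fun z => s⁻¹ * z * s) h
    simpa [mul_assoc] using this
  -- an element of `W` commuting with `t`
  have hf : ∃ f ∈ W, f ≠ 1 ∧ t * f = f * t := by
    obtain ⟨⟨w₀, hw₀⟩, hw₀1⟩ := (Subgroup.ne_bot_iff_exists_ne_one).mp C.hW1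
    have hw₀1' : w₀ ≠ 1 := fun h => hw₀1 (Subtype.ext h)
    have hc := C.normal hQ t w₀ hw₀
    by_cases hu : w₀ * (t * w₀ * t⁻¹) = 1
    · refine ⟨w₀, hw₀, hw₀1', ?_⟩
      have h1 : t * w₀ * t⁻¹ = w₀ :=
        (eq_inv_of_mul_eq_one_right hu).trans (hinv w₀ hw₀)
      calc t * w₀ = t * w₀ * t⁻¹ * t := by group
        _ = w₀ * t := by rw [h1]
    · refine ⟨w₀ * (t * w₀ * t⁻¹), mul_mem hw₀ hc, hu, ?_⟩
      have h1 : t * (t * w₀ * t⁻¹) * t⁻¹ = w₀ := by
        rw [hti]
        calc t * (t * w₀ * t) * t = (t * t) * w₀ * (t * t) := by group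
          _ = w₀ := by rw [← pow_two, ht2, one_mul, mul_one]
      calc t * (w₀ * (t * w₀ * t⁻¹))
          = (t * w₀ * t⁻¹) * (t * (t * w₀ * t⁻¹) * t⁻¹) * t := by group
        _ = (t * w₀ * t⁻¹) * w₀ * t := by rw [h1]
        _ = w₀ * (t * w₀ * t⁻¹) * t := by rw [C.hWc _ hc _ hw₀]
  obtain ⟨f, hfW, hf1, hft⟩ := hf
  -- a non-trivial element of `W` centralized by `s`
  have hw1 : ∃ w₁ ∈ W, w₁ ≠ 1 ∧ s * w₁ * s⁻¹ = w₁ := by
    have hf' := C.normal hQ s f hfW
    have hst' : t * s⁻¹ = s⁻¹ * t := by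
      calc t * s⁻¹ = s⁻¹ * (s * t) * s⁻¹ := by group
        _ = s⁻¹ * (t * s) * s⁻¹ := by rw [hst]
        _ = s⁻¹ * t := by group
    have hft' : t * (s * f * s⁻¹) = (s * f * s⁻¹) * t := by
      calc t * (s * f * s⁻¹) = (t * s) * f * s⁻¹ := by group
        _ = s * (t * f) * s⁻¹ := by rw [← hst]; group
        _ = s * f * (t * s⁻¹) := by rw [hft]; group
        _ = s * f * s⁻¹ * t := by rw [hst']; group
    by_cases hff : s * f * s⁻¹ = f
    · exact ⟨f, hfW, hf1, hff⟩
    · have hf'1 : s * f * s⁻¹ ≠ 1 := by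
        intro h
        apply hf1
        apply hinj
        rw [h]; group
      have hprod1 : f * (s * f * s⁻¹) ≠ 1 := by
        intro h
        exact hff ((eq_inv_of_mul_eq_one_right h).trans (hinv f hfW))
      have h4 := four_elems W (C.hR W C.hWc C.hW2) f (s * f * s⁻¹) (f * (s * f * s⁻¹))
        hfW hf' (mul_mem hfW hf') hf1 hf'1 hprod1 (fun h => hff h.symm)
        (fun h => hf'1 (by
          have := mul_left_cancel (a := f) (b := 1) (c := s * f * s⁻¹) (by rw [mul_one]; exact h)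
          exact this.symm))
        (fun h => hf1 (by
          have := mul_right_cancel (a := 1) (b := s * f * s⁻¹) (c := f) (by rw [one_mul]; exact h)
          exact this.symm))
      have htW : ∀ w ∈ W, t * w = w * t := by
        intro w hw
        rcases h4.2 w hw with rfl | rfl | rfl | rfl
        · rw [mul_one, one_mul]
        · exact hft
        · exact hft'
        · calc t * (f * (s * f * s⁻¹)) = (t * f) * (s * f * s⁻¹) := (mul_assoc _ _ _).symm
            _ = (f * t) * (s * f * s⁻¹) := by rw [hft]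
            _ = f * (t * (s * f * s⁻¹)) := mul_assoc _ _ _
            _ = f * ((s * f * s⁻¹) * t) := by rw [hft']
            _ = f * (s * f * s⁻¹) * t := (mul_assoc _ _ _).symm
      have htW' := C.absorb t ht2 htW
      refine ⟨t, htW', ht1, ?_⟩
      rw [hst, mul_inv_cancel_right]
  obtain ⟨w₁, hw₁W, hw₁1, hw₁s⟩ := hw1
  intro a ha
  by_cases ha1 : a = 1
  · rw [ha1]; group
  by_cases haw : a = w₁
  · rw [haw]; exact hw₁s
  have hσa := C.normal hQ s a ha
  have hσa1 : s * a * s⁻¹ ≠ 1 := by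
    intro h
    apply ha1
    apply hinj
    rw [h]; group
  have hσaw : s * a * s⁻¹ ≠ w₁ := by
    intro h
    apply haw
    apply hinj
    rw [h, hw₁s]
  have hprod1 : w₁ * a ≠ 1 := by
    intro h
    exact haw ((eq_inv_of_mul_eq_one_right h).trans (hinv w₁ hw₁W))
  have h4 := four_elems W (C.hR W C.hWc C.hW2) w₁ a (w₁ * a) hw₁W ha (mul_mem hw₁W ha)
    hw₁1 ha1 hprod1 (fun h => haw h.symm)
    (fun h => ha1 (by
      have := mul_left_cancel (a := w₁) (b := 1) (c := a) (by rw [mul_one]; exact h)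
      exact this.symm))
    (fun h => hw₁1 (by
      have := mul_right_cancel (a := 1) (b := a) (c := w₁) (by rw [one_mul]; exact h)
      exact this.symm))
  rcases h4.2 _ hσa with h | h | h | h
  · exact absurd h hσa1
  · exact absurd h hσaw
  · exact h
  · exfalso
    have h2 : s * (s * a * s⁻¹) * s⁻¹ = a := by
      rw [h]
      calc s * (w₁ * a) * s⁻¹ = (s * w₁ * s⁻¹) * (s * a * s⁻¹) := by group
        _ = w₁ * (w₁ * a) := by rw [hw₁s, h]
        _ = a := by rw [← mul_assoc, ← pow_two, C.hW2 w₁ hw₁W, one_mul]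
    have h3 : s * (s * (s * a * s⁻¹) * s⁻¹) * s⁻¹ = a := by
      have hs3' : s * s * s = 1 := by rw [← hs3]; simp [pow_succ]
      calc s * (s * (s * a * s⁻¹) * s⁻¹) * s⁻¹ = (s * s * s) * a * (s * s * s)⁻¹ := by group
        _ = a := by rw [hs3']; group
    rw [h2] at h3
    rw [h3] at h
    apply hw₁1
    have := mul_right_cancel (a := 1) (b := a) (c := w₁) (by rw [one_mul]; exact h)
    exact this.symm

end Cfsg.Agent.Lib.Helper7.E8Six
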