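import Mathlib
import Cfsg.Agent.Lib.Helper7.FpfThree

set_option autoImplicit false

namespace Cfsg.Agent.Lib.Helper7.FpfThree

open scoped commutatorElement
open Cfsg.Agent.Lib.Lead Cfsg.Agent.Lib.Helper7.ClassTwoQuad Cfsg.Agent.Lib.Helper7.AutOrb

variable {Q : Type*} [Group Q]

/-- the case of class at most two with central squares -/
theorem Setup.core [Finite Q] {a : MulAut Q} {m : ℕ} (S : Setup a m)
    (hs : ∀ x : Q, x ^ 2 ∈ Subgroup.center Q) (hc : ∀ x y : Q, ⁅x, y⁆ ∈ Subgroup.center Q) :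
    ∀ x, (a ^ 3) x = x := by
  classical
  haveI : Fact (Nat.Prime 2) := ⟨Nat.prime_two⟩
  have hinv : ∀ t : Q, t ^ 2 = 1 → t ∈ Subgroup.center Q :=
    fun t ht => (S.involution_mem t ht).1
  have hidx : (Subgroup.center Q).index ≤ 16 := index_center_le hs hc hinv S.card_ker_le
  set U := fixModCenter (a ^ 3) with hU
  have hcomm : ∀ x, (a ^ 3) (a x) = a ((a ^ 3) x) := fun x => by
    rw [← MulAut.mul_apply, ← MulAut.mul_apply, ← pow_succ, ← pow_succ']
  have hZU : Subgroup.center Q ≤ U := by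
    intro z hz
    rw [mem_fixModCenter, S.pow_three_center z hz, inv_mul_cancel]
    exact one_mem _
  have h9 : 9 ∣ Nat.card {x : Q // x ∉ (U : Set Q)} := by
    apply nine_dvd_card_compl a m S.ham
    · intro x
      show a x ∈ U ↔ x ∈ U
      rw [mem_fixModCenter, mem_fixModCenter, hcomm, ← map_inv, ← map_mul, aut_mem_center_iff]
    · intro x hx
      show x ∈ U
      rw [mem_fixModCenter, hx, inv_mul_cancel]
      exact one_mem _
  have hsum : Nat.card Q = Nat.card U + Nat.card {x : Q // x ∉ (U : Set Q)} := by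
    rw [← Nat.card_sum]
    exact Nat.card_congr (Equiv.sumCompl (· ∈ U)).symm
  have hmul := Subgroup.card_mul_index U
  obtain ⟨j, hj⟩ := S.hQ.index U
  obtain ⟨i, hi⟩ := IsPGroup.iff_card.mp (S.hQ.to_subgroup U)
  have hj4 : j ≤ 4 := by
    have h1 : U.index ∣ (Subgroup.center Q).index := Subgroup.index_dvd_of_le hZU
    have h2 : U.index ≤ 16 :=
      (Nat.le_of_dvd (Nat.pos_of_ne_zero Subgroup.index_ne_zero_of_finite) h1).trans hidx
    rw [hj] at h2
    by_contra hcon
    have : 2 ^ 5 ≤ 2 ^ j := Nat.pow_le_pow_right (by norm_num) (by omega)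
    omega
  have hj0 : j = 0 := by
    obtain ⟨c, hc9⟩ := h9
    rw [hc9, ← hmul, hi, hj] at hsum
    have hpos : 1 ≤ 2 ^ j := Nat.one_le_two_pow
    have h1 : 9 ∣ 2 ^ i * (2 ^ j - 1) := ⟨c, by rw [Nat.mul_sub, mul_one]; omega⟩
    have h2 : Nat.Coprime 9 (2 ^ i) := Nat.Coprime.pow_right i (by norm_num)
    have h3 : 9 ∣ 2 ^ j - 1 := h2.dvd_of_dvd_mul_left h1
    interval_cases j <;> omega
  have hUtop : U = ⊤ := by
    rw [← Subgroup.index_eq_one, hj, hj0, pow_zero]
  intro x
  have hx : x ∈ U := hUtop ▸ Subgroup.mem_top x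
  rw [mem_fixModCenter] at hx
  have hb : (a ^ 3) ^ 3 ^ m = 1 := by rw [← pow_mul, mul_comm, pow_mul, S.ham, one_pow]
  have := eq_one_of_aut_pow (p := 2) (a ^ 3) (3 ^ m) hb (Nat.Coprime.pow_left m (by norm_num)) x
    (x⁻¹ * (a ^ 3) x) (by group) (S.pow_three_center _ hx) (S.hQ _)
  calc (a ^ 3) x = x * (x⁻¹ * (a ^ 3) x) := by group
    _ = x := by rw [this, mul_one]

/-- a fixed-point-free automorphism of 3-power order of a finite 2-group whose elementary abelian
subgroups have order at most four has order dividing three -/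
theorem Setup.pow_three_eq_one {P : Type*} [Group P] [Finite P] {a : MulAut P} {m : ℕ}
    (S : Setup a m) : ∀ x, (a ^ 3) x = x := by
  haveI : Fact (Nat.Prime 2) := ⟨Nat.prime_two⟩
  obtain ⟨H, hHc, hfr, hcomm, hself⟩ := exists_critical (p := 2) S.hQ
  haveI := hHc
  have h1 : ∀ x ∈ H, a x ∈ H := by
    intro x hx
    have := hHc.fixed a
    rw [← this] at hx
    exact Subgroup.mem_comap.mp hx
  have h2 : ∀ x ∈ H, a.symm x ∈ H := by
    intro x hx
    have := hHc.fixed a.symm
    rw [← this] at hx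
    exact Subgroup.mem_comap.mp hx
  have hHp : IsPGroup 2 H := S.hQ.to_subgroup H
  have SH : Setup (restrictAut a H h1 h2) m :=
    { hQ := hHp
      ham := by
        apply MulEquiv.ext
        intro x
        apply Subtype.ext
        rw [restrictAut_pow_apply, S.ham]
        rfl
      fpf := by
        intro x hx
        apply Subtype.ext
        exact S.fpf _ (congrArg Subtype.val hx)
      rank := by
        intro A hA hA2
        rw [← Subgroup.card_map_of_injective (Subgroup.subtype_injective H)]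
        apply S.rank
        · rintro _ ⟨x, hx, rfl⟩ _ ⟨y, hy, rfl⟩
          exact congrArg Subtype.val (hA x hx y hy)
        · rintro _ ⟨x, hx, rfl⟩
          exact congrArg Subtype.val (hA2 x hx) }
  have hsH : ∀ x : H, x ^ 2 ∈ Subgroup.center H := by
    intro x
    have h3 : x ^ 2 ∈ frattini H := pow_mem_frattini_of_isPGroup hHp x
    have h4 : ((x ^ 2 : H) : P) ∈ Subgroup.centralizer (H : Set P) :=
      hfr ⟨x ^ 2, h3, rfl⟩
    rw [Subgroup.mem_center_iff]
    intro g
    apply Subtype.ext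
    exact (Subgroup.mem_centralizer_iff.mp h4 g g.2)
  have hcH : ∀ x y : H, ⁅x, y⁆ ∈ Subgroup.center H := by
    intro x y
    have h3 : ⁅(x : P), (y : P)⁆ ∈ ⁅H, (⊤ : Subgroup P)⁆ :=
      Subgroup.commutator_mem_commutator x.2 (Subgroup.mem_top _)
    have h4 := (hcomm h3).2
    rw [Subgroup.mem_center_iff]
    intro g
    apply Subtype.ext
    exact (Subgroup.mem_centralizer_iff.mp h4 g g.2)
  have hcore := SH.core hsH hcH
  have hH3 : ∀ x ∈ H, (a ^ 3) x = x := by
    intro x hx
    have h := congrArg Subtype.val (hcore ⟨x, hx⟩)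
    rwa [restrictAut_pow_apply] at h
  have hb : (a ^ 3) ^ 3 ^ m = 1 := by rw [← pow_mul, mul_comm, pow_mul, S.ham, one_pow]
  exact aut_eq_one_of_trivial_on_self_centralizing (p := 2) S.hQ H hself (a ^ 3) (3 ^ m) hb
    (Nat.Coprime.pow_left m (by norm_num)) hH3

end Cfsg.Agent.Lib.Helper7.FpfThree
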