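import Mathlib

set_option autoImplicit false

/-!
# A counting lemma for an automorphism of order three preserving a four-valued invariant
-/

namespace Cfsg.Agent.Lib.Helper7.TwoAut

theorem card_modEq_fix {X : Type*} [Finite X] (g : X → X) (h3 : ∀ x, g (g (g x)) = x) :
    Nat.card X ≡ Nat.card {x // g x = x} [MOD 3] := by
  classical
  haveI : Fintype X := Fintype.ofFinite X
  haveI : Fact (Nat.Prime 3) := ⟨Nat.prime_three⟩
  let f : Function.End X := g
  have hf : f ^ 3 ^ 1 = 1 := by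
    funext x
    show (f ^ 3 ^ 1) x = x
    rw [pow_one, pow_succ, pow_succ, pow_one]
    exact h3 x
  have := Equiv.Perm.card_fixedPoints_modEq (f := f) (p := 3) (n := 1) hf
  rw [← Nat.card_eq_fintype_card, ← Nat.card_eq_fintype_card] at this
  exact this

theorem card_fiber_eq {V T : Type*} (θ : V → T) (δ : Equiv.Perm V) (δT : Equiv.Perm T)
    (hδθ : ∀ v, θ (δ v) = δT (θ v)) (t : T) :
    Nat.card {v // θ v = δT t} = Nat.card {v // θ v = t} := by
  apply Nat.card_congr
  refine (Equiv.subtypeEquiv δ ?_).symm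
  intro v
  rw [hδθ]
  exact ⟨fun h => by rw [h], fun h => δT.injective h⟩

end Cfsg.Agent.Lib.Helper7.TwoAut

namespace Cfsg.Agent.Lib.Helper7.TwoAut

theorem card_eq_sum_four {X T : Type*} [Finite X] (f : X → T) (a b c d : T)
    (h1 : a ≠ b) (h2 : a ≠ c) (h3 : a ≠ d) (h4 : b ≠ c) (h5 : b ≠ d) (h6 : c ≠ d)
    (hall : ∀ x, f x = a ∨ f x = b ∨ f x = c ∨ f x = d) :
    Nat.card X = Nat.card {x // f x = a} + Nat.card {x // f x = b} + Nat.card {x // f x = c}
      + Nat.card {x // f x = d} := by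
  classical
  haveI : Fintype X := Fintype.ofFinite X
  have key := Finset.card_eq_sum_card_fiberwise (f := f) (s := Finset.univ)
    (t := ({a, b, c, d} : Finset T)) (by
      intro x _
      simp only [Finset.coe_insert, Finset.coe_singleton, Set.mem_insert_iff,
        Set.mem_singleton_iff]
      exact hall x)
  rw [Finset.sum_insert (by simp [h1, h2, h3]), Finset.sum_insert (by simp [h4, h5]),
    Finset.sum_insert (by simp [h6]), Finset.sum_singleton] at key
  have hcard : ∀ t : T, (Finset.univ.filter (fun x => f x = t)).card = Nat.card {x // f x = t} := by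
    intro t
    rw [Nat.card_eq_fintype_card, Fintype.card_subtype]
  rw [hcard, hcard, hcard, hcard, Finset.card_univ, ← Nat.card_eq_fintype_card] at key
  omega

theorem fix_eq_univ {V T : Type*} [Finite V]
    (θ : V → T) (α : V → V) (δ : Equiv.Perm V) (δT : Equiv.Perm T) (one : T) (v1 : V)
    (hθ1 : ∀ v, θ v = one ↔ v = v1)
    (hα3 : ∀ v, α (α (α v)) = v) (hαθ : ∀ v, θ (α v) = θ v)
    (hδθ : ∀ v, θ (δ v) = δT (θ v))
    (τ : T) (hT : ∀ t : T, t = one ∨ t = τ ∨ t = δT τ ∨ t = δT (δT τ))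
    (h1 : one ≠ τ) (h2 : one ≠ δT τ) (h3 : one ≠ δT (δT τ)) (h4 : τ ≠ δT τ)
    (h5 : τ ≠ δT (δT τ)) (h6 : δT τ ≠ δT (δT τ))
    (j : ℕ) (hj : j ≤ 4) (hV : Nat.card V = 2 ^ j)
    (c : ℕ) (hc : Nat.card {v // α v = v} = 2 ^ c) :
    ∀ v, α v = v := by
  classical
  -- fibres
  have hn1 : Nat.card {v // θ v = one} = 1 := by
    rw [Nat.card_eq_one_iff_unique]
    refine ⟨⟨fun x y => Subtype.ext ?_⟩, ⟨⟨v1, (hθ1 v1).mpr rfl⟩⟩⟩
    rw [(hθ1 x.1).mp x.2, (hθ1 y.1).mp y.2]
  have hα1 : α v1 = v1 := (hθ1 _).mp (by rw [hαθ]; exact (hθ1 v1).mpr rfl)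
  have hF1 : Nat.card {x : {v // α v = v} // θ x.1 = one} = 1 := by
    rw [Nat.card_eq_one_iff_unique]
    refine ⟨⟨fun x y => Subtype.ext (Subtype.ext ?_)⟩, ⟨⟨⟨v1, hα1⟩, (hθ1 v1).mpr rfl⟩⟩⟩
    rw [(hθ1 x.1.1).mp x.2, (hθ1 y.1.1).mp y.2]
  have hsumV := card_eq_sum_four θ one τ (δT τ) (δT (δT τ)) h1 h2 h3 h4 h5 h6 (fun v => hT (θ v))
  have hsumF := card_eq_sum_four (fun x : {v // α v = v} => θ x.1) one τ (δT τ) (δT (δT τ))
    h1 h2 h3 h4 h5 h6 (fun x => hT (θ x.1))
  have e1 := card_fiber_eq θ δ δT hδθ τ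
  have e2 := card_fiber_eq θ δ δT hδθ (δT τ)
  -- fixed points in each fibre
  have hmod : ∀ t : T, Nat.card {v // θ v = t}
      ≡ Nat.card {x : {v // α v = v} // θ x.1 = t} [MOD 3] := by
    intro t
    have h := card_modEq_fix (X := {v // θ v = t})
      (fun x => ⟨α x.1, by rw [hαθ]; exact x.2⟩) (fun x => Subtype.ext (hα3 x.1))
    have e : {x : {v // θ v = t} // (⟨α x.1, by rw [hαθ]; exact x.2⟩ : {v // θ v = t}) = x}
        ≃ {x : {v // α v = v} // θ x.1 = t} :=
      { toFun := fun x => ⟨⟨x.1.1, congrArg Subtype.val x.2⟩, x.1.2⟩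
        invFun := fun x => ⟨⟨x.1.1, x.2⟩, Subtype.ext x.1.2⟩
        left_inv := fun x => rfl
        right_inv := fun x => rfl }
    rw [Nat.card_congr e] at h
    exact h
  have hle : ∀ t : T, Nat.card {x : {v // α v = v} // θ x.1 = t} ≤ Nat.card {v // θ v = t} := by
    intro t
    apply Nat.card_le_card_of_injective (fun x => (⟨x.1.1, x.2⟩ : {v // θ v = t}))
    intro x y hxy
    apply Subtype.ext
    apply Subtype.ext
    exact congrArg (fun u : {v // θ v = t} => (u : V)) hxy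
  have hmodV := card_modEq_fix α hα3
  have hcj : 2 ^ c ≤ 2 ^ j := by
    rw [← hc, ← hV]
    exact Nat.card_le_card_of_injective Subtype.val Subtype.val_injective
  have hm1 := hmod τ
  have hm2 := hmod (δT τ)
  have hm3 := hmod (δT (δT τ))
  have hl1 := hle τ
  have hl2 := hle (δT τ)
  have hl3 := hle (δT (δT τ))
  rw [hn1, e2, e1, hV] at hsumV
  rw [hF1, hc] at hsumF
  rw [e2, e1] at hm3 hl3
  rw [e1] at hm2 hl2
  rw [hV, hc] at hmodV
  unfold Nat.ModEq at hm1 hm2 hm3 hmodV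
  have hcj' : c ≤ j := (Nat.pow_le_pow_iff_right (by norm_num)).mp hcj
  have hfin : 2 ^ c = 2 ^ j := by
    generalize Nat.card {v // θ v = τ} = N at *
    generalize Nat.card {x : {v // α v = v} // θ x.1 = τ} = F1 at *
    generalize Nat.card {x : {v // α v = v} // θ x.1 = δT τ} = F2 at *
    generalize Nat.card {x : {v // α v = v} // θ x.1 = δT (δT τ)} = F3 at *
    interval_cases j <;> interval_cases c <;> simp at * <;> omega
  have hbij : Function.Bijective (Subtype.val : {v // α v = v} → V) :=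
    (Nat.bijective_iff_injective_and_card _).mpr ⟨Subtype.val_injective, by rw [hc, hV, hfin]⟩
  intro v
  obtain ⟨x, rfl⟩ := hbij.2 v
  exact x.2

end Cfsg.Agent.Lib.Helper7.TwoAut
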