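import Mathlib
import Cfsg.Agent.Lib.Helper7.TwoAut1
import Cfsg.Agent.Lib.Helper7.FpfThree2

set_option autoImplicit false

/-!
# Two automorphisms of a 2-group of class two and rank two

`δ` fixed-point-free of 3-power order, `α` of order three trivial on `Ω₁(Z(K))`: then `α = 1`.
-/

namespace Cfsg.Agent.Lib.Helper7.TwoAut

open scoped commutatorElement
open Cfsg.Agent.Lib.Lead Cfsg.Agent.Lib.Helper7.ClassTwoQuad Cfsg.Agent.Lib.Helper7.FpfThree

variable {K : Type*} [Group K]

theorem sqMap_eq_one (hs : ∀ x : K, x ^ 2 ∈ Subgroup.center K)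
    (hinv : ∀ t : K, t ^ 2 = 1 → t ∈ Subgroup.center K) (v : K ⧸ Subgroup.center K)
    (hv : sqMap hs v = 1) : v = 1 := by
  revert hv
  refine QuotientGroup.induction_on v fun x => ?_
  intro hu
  rw [sqMap_mk, QuotientGroup.eq_one_iff] at hu
  obtain ⟨z, hz⟩ := MonoidHom.mem_range.mp hu
  have hz2 : (z : K) ^ 2 = x ^ 2 := by
    have := congrArg Subtype.val hz
    simpa [sqHom_apply] using this
  have hzc := Subgroup.mem_center_iff.mp (inv_mem z.2)
  have ht : (x * (z : K)⁻¹) ^ 2 = 1 := by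
    rw [(show Commute x (z : K)⁻¹ from hzc x).mul_pow, inv_pow, hz2, mul_inv_cancel]
  have ht2 := hinv _ ht
  rw [QuotientGroup.eq_one_iff]
  have : x = x * (z : K)⁻¹ * z := by group
  rw [this]
  exact mul_mem ht2 z.2

theorem exists_sq_of_fix {A : Type*} [Group A] (hcomm : ∀ a b : A, a * b = b * a) (δ : A →* A)
    (hfpf : ∀ a, δ a = a → a = 1) (h3 : ∀ a, δ (δ (δ a)) = a) (z c : A)
    (h : δ z = z * c ^ 2) : ∃ e : A, z = e ^ 2 := by
  letI : CommGroup A := { (inferInstance : Group A) with mul_comm := hcomm }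
  have hN : z * δ z * δ (δ z) = 1 := by
    apply hfpf
    rw [map_mul, map_mul, h3]
    simp only [mul_comm, mul_left_comm]
  have h2 : δ (δ z) = z * c ^ 2 * (δ c) ^ 2 := by rw [h, map_mul, map_pow, h]
  rw [h2, h] at hN
  refine ⟨(c ^ 2 * δ c * z)⁻¹, ?_⟩
  rw [inv_pow, eq_inv_iff_mul_eq_one, ← hN]
  simp only [pow_two, mul_pow, mul_comm, mul_left_comm, mul_assoc]

theorem aut_fix_center [Finite K] (hK : IsPGroup 2 K) (b : MulAut K) (n : ℕ) (hb : b ^ n = 1)
    (hn : n.Coprime 2) (hΩ : ∀ w ∈ omegaCenter K, b w = w) :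
    ∀ z ∈ Subgroup.center K, b z = z := by
  have key : ∀ k : ℕ, ∀ z ∈ Subgroup.center K, z ^ 2 ^ k = 1 → b z = z := by
    intro k
    induction k with
    | zero =>
      intro z _ hz1
      rw [pow_zero, pow_one] at hz1
      rw [hz1, map_one]
    | succ k ih =>
      intro z hz hz1
      have h1 : b (z ^ 2) = z ^ 2 := by
        apply ih _ (Subgroup.pow_mem _ hz 2)
        rw [← pow_mul, ← pow_succ']
        exact hz1
      have hzc := Subgroup.mem_center_iff.mp (inv_mem hz)
      have hcO : z⁻¹ * b z ∈ omegaCenter K := by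
        refine ⟨mul_mem (inv_mem hz) (aut_mem_center _ hz), ?_⟩
        rw [(show Commute z⁻¹ (b z) from (hzc _).symm).mul_pow, ← map_pow, h1, inv_pow,
          inv_mul_cancel]
      have hc := hΩ _ hcO
      have := eq_one_of_aut_pow (p := 2) b n hb hn z (z⁻¹ * b z) (by group) hc
        ⟨1, by rw [pow_one]; exact hcO.2⟩
      calc b z = z * (z⁻¹ * b z) := by group
        _ = z := by rw [this, mul_one]
  intro z hz
  obtain ⟨k, hk⟩ := hK z
  exact key k z hz hk

theorem map_center_eq (a : MulAut K) :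
    (Subgroup.center K).map (a : K →* K) = Subgroup.center K := by
  ext x
  rw [Subgroup.mem_map]
  constructor
  · rintro ⟨y, hy, rfl⟩
    exact aut_mem_center a hy
  · intro hx
    exact ⟨a.symm x, aut_mem_center a.symm hx, by simp⟩

end Cfsg.Agent.Lib.Helper7.TwoAut
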