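import Mathlib
import Cfsg.Agent.Lib.Helper7.TwoAut2

set_option autoImplicit false

namespace Cfsg.Agent.Lib.Helper7.TwoAut

open scoped commutatorElement
open Cfsg.Agent.Lib.Lead Cfsg.Agent.Lib.Helper7.ClassTwoQuad Cfsg.Agent.Lib.Helper7.FpfThree

variable {K : Type*} [Group K]

/-- `δ` fixed-point-free of 3-power order on the 2-group `K` of class two with central squares and
rank at most two; `α` of order three trivial on `Ω₁(Z(K))`.  Then `α = 1`. -/
theorem aut_trivial [Finite K] {δ : MulAut K} {m : ℕ} (S : Setup δ m)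
    (hs : ∀ x : K, x ^ 2 ∈ Subgroup.center K) (hc : ∀ x y : K, ⁅x, y⁆ ∈ Subgroup.center K)
    (α : MulAut K) (hα3 : α ^ 3 = 1) (hαΩ : ∀ w ∈ omegaCenter K, α w = w) : ∀ x, α x = x := by
  classical
  haveI : Fact (Nat.Prime 2) := ⟨Nat.prime_two⟩
  rcases subsingleton_or_nontrivial K with hsub | hnt
  · intro x
    exact Subsingleton.elim _ _
  have hinv : ∀ t : K, t ^ 2 = 1 → t ∈ Subgroup.center K :=
    fun t ht => (S.involution_mem t ht).1
  have hidx : (Subgroup.center K).index ≤ 16 := index_center_le hs hc hinv S.card_ker_le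
  have hδ3 : ∀ x, (δ ^ 3) x = x := S.core hs hc
  have hδ3' : ∀ x, δ (δ (δ x)) = x := by
    intro x
    have := hδ3 x
    rwa [pow_succ, pow_succ, pow_one, MulAut.mul_apply, MulAut.mul_apply] at this
  have hα3' : ∀ x, α (α (α x)) = x := by
    intro x
    have : (α ^ 3) x = x := by rw [hα3]; rfl
    rwa [pow_succ, pow_succ, pow_one, MulAut.mul_apply, MulAut.mul_apply] at this
  have hαZ : ∀ z ∈ Subgroup.center K, α z = z :=
    aut_fix_center S.hQ α 3 hα3 (by norm_num) hαΩ
  -- induced maps
  let αV : K ⧸ Subgroup.center K ≃* K ⧸ Subgroup.center K :=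
    QuotientGroup.congr (Subgroup.center K) (Subgroup.center K) α (map_center_eq α)
  let δV : K ⧸ Subgroup.center K ≃* K ⧸ Subgroup.center K :=
    QuotientGroup.congr (Subgroup.center K) (Subgroup.center K) δ (map_center_eq δ)
  let δZ : MulAut (Subgroup.center K) := restrictAut δ (Subgroup.center K)
    (fun x hx => aut_mem_center δ hx) (fun x hx => aut_mem_center δ.symm hx)
  have hδZ_apply : ∀ z : Subgroup.center K, ((δZ z : Subgroup.center K) : K) = δ z := fun z => rfl
  have hδZmap : (sqRange K).map (δZ : Subgroup.center K →* Subgroup.center K) = sqRange K := by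
    ext x
    rw [Subgroup.mem_map]
    constructor
    · rintro ⟨y, ⟨c, rfl⟩, rfl⟩
      refine ⟨δZ c, ?_⟩
      rw [sqHom_apply, sqHom_apply]
      exact (map_pow δZ c 2).symm
    · rintro ⟨c, rfl⟩
      refine ⟨sqHom K (δZ.symm c), ⟨_, rfl⟩, ?_⟩
      rw [sqHom_apply, sqHom_apply]
      show δZ ((δZ.symm c) ^ 2) = c ^ 2
      rw [map_pow, MulEquiv.apply_symm_apply]
  let δT : (Subgroup.center K ⧸ sqRange K) ≃* (Subgroup.center K ⧸ sqRange K) :=
    QuotientGroup.congr (sqRange K) (sqRange K) δZ hδZmap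
  have hαV_mk : ∀ x : K, αV (QuotientGroup.mk x) = QuotientGroup.mk (α x) := fun x => rfl
  have hδV_mk : ∀ x : K, δV (QuotientGroup.mk x) = QuotientGroup.mk (δ x) := fun x => rfl
  have hδT_mk : ∀ z : Subgroup.center K, δT (QuotientGroup.mk z) = QuotientGroup.mk (δZ z) :=
    fun z => rfl
  -- properties of the induced maps
  have hθ1 : ∀ v, sqMap hs v = 1 ↔ v = 1 := by
    intro v
    refine ⟨sqMap_eq_one hs hinv v, ?_⟩
    rintro rfl
    have h1 : (⟨(1 : K) ^ 2, hs 1⟩ : Subgroup.center K) = 1 := Subtype.ext (one_pow 2)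
    show sqMap hs (QuotientGroup.mk 1) = 1
    rw [sqMap_mk, h1]
    rfl
  have hαV3 : ∀ v, αV (αV (αV v)) = v := by
    intro v
    refine QuotientGroup.induction_on v fun x => ?_
    rw [hαV_mk, hαV_mk, hαV_mk, hα3']
  have hαθ : ∀ v, sqMap hs (αV v) = sqMap hs v := by
    intro v
    refine QuotientGroup.induction_on v fun x => ?_
    rw [hαV_mk, sqMap_mk, sqMap_mk]
    congr 1
    apply Subtype.ext
    show (α x) ^ 2 = x ^ 2
    rw [← map_pow, hαZ _ (hs x)]
  have hδθ : ∀ v, sqMap hs (δV v) = δT (sqMap hs v) := by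
    intro v
    refine QuotientGroup.induction_on v fun x => ?_
    rw [hδV_mk, sqMap_mk, sqMap_mk, hδT_mk]
    congr 1
    apply Subtype.ext
    show (δ x) ^ 2 = δ (x ^ 2)
    rw [map_pow]
  have hδT3 : ∀ u, δT (δT (δT u)) = u := by
    intro u
    refine QuotientGroup.induction_on u fun z => ?_
    rw [hδT_mk, hδT_mk, hδT_mk]
    congr 1
    apply Subtype.ext
    show δ (δ (δ (z : K))) = z
    exact hδ3' z
  have hδTfpf : ∀ u, δT u = u → u = 1 := by
    intro u
    refine QuotientGroup.induction_on u fun z => ?_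
    intro h
    rw [hδT_mk, QuotientGroup.eq] at h
    obtain ⟨c, hc⟩ := MonoidHom.mem_range.mp h
    rw [sqHom_apply] at hc
    have h1 : δZ z = z * c⁻¹ ^ 2 := by
      rw [inv_pow, hc]
      group
    obtain ⟨e, he⟩ := exists_sq_of_fix (A := Subgroup.center K)
      (fun a b => Subtype.ext (Subgroup.mem_center_iff.mp b.2 a))
      (δZ : Subgroup.center K →* Subgroup.center K)
      (fun a ha => Subtype.ext (S.fpf _ (congrArg Subtype.val ha)))
      (fun a => Subtype.ext (hδ3' a)) z c⁻¹ h1
    rw [QuotientGroup.eq_one_iff]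
    exact ⟨e, by rw [sqHom_apply, he]⟩
  -- the size of the target
  have hTle : Nat.card (Subgroup.center K ⧸ sqRange K) ≤ 4 := by
    rw [card_quot_sqRange]
    exact S.card_ker_le
  have hTge : 3 ≤ Nat.card (Subgroup.center K ⧸ sqRange K) := by
    rw [card_quot_sqRange]
    refine le_trans S.three_le_card_omegaCenter ?_
    let f : omegaCenter K → (sqHom K).ker := fun w => ⟨⟨w, w.2.1⟩, by
      rw [MonoidHom.mem_ker, sqHom_apply]
      exact Subtype.ext w.2.2⟩
    apply Nat.card_le_card_of_injective f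
    intro x y hxy
    apply Subtype.ext
    exact congrArg (fun u : (sqHom K).ker => ((u : Subgroup.center K) : K)) hxy
  haveI : Nontrivial (Subgroup.center K ⧸ sqRange K) :=
    Finite.one_lt_card_iff_nontrivial.mp (by omega)
  obtain ⟨τ, hτ⟩ := exists_ne (1 : Subgroup.center K ⧸ sqRange K)
  have h1 : (1 : Subgroup.center K ⧸ sqRange K) ≠ τ := hτ.symm
  have h2 : (1 : Subgroup.center K ⧸ sqRange K) ≠ δT τ := by
    intro h
    apply hτ
    apply δT.injective
    rw [← h, map_one]
  have h3 : (1 : Subgroup.center K ⧸ sqRange K) ≠ δT (δT τ) := by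
    intro h
    apply h2
    apply δT.injective
    rw [← h, map_one]
  have h4 : τ ≠ δT τ := fun h => hτ (hδTfpf τ h.symm)
  have h6 : δT τ ≠ δT (δT τ) := fun h => h4 (δT.injective h)
  have h5 : τ ≠ δT (δT τ) := by
    intro h
    apply h4
    have := congrArg δT h
    rw [hδT3] at this
    exact this.symm
  have hT : ∀ t : Subgroup.center K ⧸ sqRange K,
      t = 1 ∨ t = τ ∨ t = δT τ ∨ t = δT (δT τ) := by
    haveI : Fintype (Subgroup.center K ⧸ sqRange K) := Fintype.ofFinite _
    have hcard : ({1, τ, δT τ, δT (δT τ)} : Finset (Subgroup.center K ⧸ sqRange K)).card = 4 := by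
      rw [Finset.card_insert_of_notMem (by simp [h1, h2, h3]),
        Finset.card_insert_of_notMem (by simp [h4, h5]),
        Finset.card_insert_of_notMem (by simp [h6]), Finset.card_singleton]
    have huniv : ({1, τ, δT τ, δT (δT τ)} : Finset (Subgroup.center K ⧸ sqRange K))
        = Finset.univ := by
      apply Finset.eq_univ_of_card
      rw [hcard]
      rw [Nat.card_eq_fintype_card] at hTle
      have := Finset.card_le_univ
        ({1, τ, δT τ, δT (δT τ)} : Finset (Subgroup.center K ⧸ sqRange K))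
      omega
    intro t
    have := Finset.mem_univ t
    rw [← huniv] at this
    simpa using this
  -- sizes
  obtain ⟨j, hj⟩ := S.hQ.index (Subgroup.center K)
  have hj4 : j ≤ 4 := by
    rw [hj] at hidx
    by_contra hcon
    have : 2 ^ 5 ≤ 2 ^ j := Nat.pow_le_pow_right (by norm_num) (by omega)
    omega
  let F : Subgroup (K ⧸ Subgroup.center K) :=
    { carrier := {v | αV v = v}
      one_mem' := map_one αV
      mul_mem' := by
        intro a b ha hb
        simp only [Set.mem_ofPred_eq] at *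
        rw [map_mul, ha, hb]
      inv_mem' := by
        intro a ha
        simp only [Set.mem_ofPred_eq] at *
        rw [map_inv, ha] }
  obtain ⟨c, hc'⟩ := IsPGroup.iff_card.mp ((S.hQ.to_quotient (Subgroup.center K)).to_subgroup F)
  have hfix := fix_eq_univ (sqMap hs) αV δV.toEquiv δT.toEquiv 1 1 hθ1 hαV3 hαθ hδθ τ hT
    h1 h2 h3 h4 h5 h6 j hj4 hj c hc'
  intro x
  have hx := hfix (QuotientGroup.mk x)
  rw [hαV_mk, QuotientGroup.eq] at hx
  have hx' : x⁻¹ * α x ∈ Subgroup.center K := by
    have := inv_mem hx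
    rwa [mul_inv_rev, inv_inv] at this
  have := eq_one_of_aut_pow (p := 2) α 3 hα3 (by norm_num) x (x⁻¹ * α x) (by group)
    (hαZ _ hx') (S.hQ _)
  calc α x = x * (x⁻¹ * α x) := by group
    _ = x := by rw [this, mul_one]

end Cfsg.Agent.Lib.Helper7.TwoAut
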