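import Mathlib
import Cfsg.Agent.Lib.Helper7.E8Six3
import Cfsg.Agent.Lib.Helper7.TwoAut3

set_option autoImplicit false

namespace Cfsg.Agent.Lib.Helper7.E8Six

open scoped commutatorElement
open Cfsg.Agent.Lib.Lead Cfsg.Agent.Lib.Helper7.FpfThree Cfsg.Agent.Lib.Helper7.TwoAut

variable {G : Type*} [Group G]

theorem exists_involution_power {x : G} (hx : ∃ k : ℕ, x ^ 2 ^ k = 1) (hx1 : x ≠ 1) :
    ∃ n : ℕ, (x ^ n) ^ 2 = 1 ∧ x ^ n ≠ 1 := by
  classical
  have hk0 : Nat.find hx ≠ 0 := by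
    intro h
    have := Nat.find_spec hx
    rw [h, pow_zero, pow_one] at this
    exact hx1 this
  obtain ⟨j, hj⟩ := Nat.exists_eq_succ_of_ne_zero hk0
  refine ⟨2 ^ j, ?_, ?_⟩
  · rw [← pow_mul, ← pow_succ]
    have := Nat.find_spec hx
    rw [hj] at this
    exact this
  · intro h
    have := Nat.find_min hx (m := j) (by omega)
    exact this h

variable [Finite G] {W : Subgroup G} {d : G}

theorem Ctx.false_of (C : Ctx W d)
    (hchar : Subgroup.centralizer (Cfsg.pCore 2 G : Set G) ≤ Cfsg.pCore 2 G)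
    (hdn : ∃ k : ℕ, d ^ 3 ^ k = 1) (s : G) (hs3 : s ^ 3 = 1) (hs1 : s ≠ 1)
    (hsW : ∀ w ∈ W, s * w * s⁻¹ = w) : False := by
  haveI : Fact (Nat.Prime 2) := ⟨Nat.prime_two⟩
  haveI hQn : (Cfsg.pCore 2 G).Normal := pCore_normal 2
  have hQ : Cfsg.pCore 2 G ≠ ⊥ := by
    intro h
    apply hs1
    have : s ∈ Cfsg.pCore 2 G := hchar (by
      rw [h, Subgroup.mem_centralizer_iff]
      intro x hx
      rw [Subgroup.coe_bot, Set.mem_singleton_iff] at hx
      rw [hx, one_mul, mul_one])
    rwa [h, Subgroup.mem_bot] at this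
  have hQp : IsPGroup 2 (Cfsg.pCore 2 G) := pCore_isPGroup 2
  have hWZ := C.le_center_core hQ
  obtain ⟨k, hk⟩ := hdn
  obtain ⟨H, hHc, hfr, hcomm, hself⟩ := exists_critical (p := 2) hQp
  haveI := hHc
  let cs : MulAut (Cfsg.pCore 2 G) := MulAut.conjNormal s
  let cd : MulAut (Cfsg.pCore 2 G) := MulAut.conjNormal d
  have hcs : ∀ x : Cfsg.pCore 2 G, ((cs x : Cfsg.pCore 2 G) : G) = s * x * s⁻¹ :=
    fun x => MulAut.conjNormal_apply s x
  have hcd : ∀ x : Cfsg.pCore 2 G, ((cd x : Cfsg.pCore 2 G) : G) = d * x * d⁻¹ :=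
    fun x => MulAut.conjNormal_apply d x
  have hinvar : ∀ a : MulAut (Cfsg.pCore 2 G), ∀ x ∈ H, a x ∈ H := by
    intro a x hx
    have := hHc.fixed a
    rw [← this] at hx
    exact Subgroup.mem_comap.mp hx
  have hHp : IsPGroup 2 H := hQp.to_subgroup H
  -- every element of `Q` of order at most two lies in `W`
  have hinvW : ∀ x : G, x ∈ Cfsg.pCore 2 G → x ^ 2 = 1 → x ∈ W := by
    intro x hx hx2
    apply C.absorb x hx2
    intro w hw
    exact (hWZ w hw).2 x hx
  have hSetup : Setup (restrictAut cd H (hinvar cd) (hinvar cd.symm)) k :=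
    { hQ := hHp
      ham := by
        apply MulEquiv.ext
        intro x
        apply Subtype.ext
        rw [restrictAut_pow_apply]
        have : cd ^ 3 ^ k = 1 := by
          show (MulAut.conjNormal d : MulAut (Cfsg.pCore 2 G)) ^ 3 ^ k = 1
          rw [← map_pow, hk, map_one]
        rw [this]
        rfl
      fpf := by
        intro x hx
        by_contra hx1
        have hxG : ((x : Cfsg.pCore 2 G) : G) ≠ 1 := fun h => hx1 (Subtype.ext (Subtype.ext h))
        have hdx : d * ((x : Cfsg.pCore 2 G) : G) * d⁻¹ = ((x : Cfsg.pCore 2 G) : G) := by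
          have := congrArg (fun u : H => ((u : Cfsg.pCore 2 G) : G)) hx
          simp only [restrictAut_apply] at this
          rw [hcd] at this
          exact this
        obtain ⟨n, hn2, hn1⟩ := exists_involution_power
          (x := ((x : Cfsg.pCore 2 G) : G)) (by
            obtain ⟨j, hj⟩ := hQp (x : Cfsg.pCore 2 G)
            exact ⟨j, by
              have := congrArg Subtype.val hj
              simpa using this⟩) hxG
        have hnQ : ((x : Cfsg.pCore 2 G) : G) ^ n ∈ Cfsg.pCore 2 G :=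
          Subgroup.pow_mem _ (x : Cfsg.pCore 2 G).2 n
        have hnW := hinvW _ hnQ hn2
        apply hn1
        apply C.hfpf _ hnW
        rw [← conj_pow, hdx]
      rank := by
        intro A hA hA2
        rw [← Subgroup.card_map_of_injective (Subgroup.subtype_injective H),
          ← Subgroup.card_map_of_injective (Subgroup.subtype_injective (Cfsg.pCore 2 G))]
        apply C.hR
        · rintro _ ⟨_, ⟨x, hx, rfl⟩, rfl⟩ _ ⟨_, ⟨y, hy, rfl⟩, rfl⟩
          exact congrArg (fun u : H => ((u : Cfsg.pCore 2 G) : G)) (hA x hx y hy)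
        · rintro _ ⟨_, ⟨x, hx, rfl⟩, rfl⟩
          exact congrArg (fun u : H => ((u : Cfsg.pCore 2 G) : G)) (hA2 x hx) }
  have hsH : ∀ x : H, x ^ 2 ∈ Subgroup.center H := by
    intro x
    have h3 : x ^ 2 ∈ frattini H := pow_mem_frattini_of_isPGroup hHp x
    have h4 : ((x ^ 2 : H) : Cfsg.pCore 2 G) ∈
        Subgroup.centralizer (H : Set (Cfsg.pCore 2 G)) := hfr ⟨x ^ 2, h3, rfl⟩
    rw [Subgroup.mem_center_iff]
    intro g
    apply Subtype.ext
    exact (Subgroup.mem_centralizer_iff.mp h4 g g.2)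
  have hcH : ∀ x y : H, ⁅x, y⁆ ∈ Subgroup.center H := by
    intro x y
    have h3 : ⁅(x : Cfsg.pCore 2 G), (y : Cfsg.pCore 2 G)⁆ ∈
        ⁅H, (⊤ : Subgroup (Cfsg.pCore 2 G))⁆ :=
      Subgroup.commutator_mem_commutator x.2 (Subgroup.mem_top _)
    have h4 := (hcomm h3).2
    rw [Subgroup.mem_center_iff]
    intro g
    apply Subtype.ext
    exact (Subgroup.mem_centralizer_iff.mp h4 g g.2)
  have hα3 : (restrictAut cs H (hinvar cs) (hinvar cs.symm)) ^ 3 = 1 := by
    apply MulEquiv.ext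
    intro x
    apply Subtype.ext
    rw [restrictAut_pow_apply]
    have : cs ^ 3 = 1 := by
      show (MulAut.conjNormal s : MulAut (Cfsg.pCore 2 G)) ^ 3 = 1
      rw [← map_pow, hs3, map_one]
    rw [this]
    rfl
  have hαΩ : ∀ w ∈ omegaCenter H, (restrictAut cs H (hinvar cs) (hinvar cs.symm)) w = w := by
    intro w hw
    have hw2 : ((w : Cfsg.pCore 2 G) : G) ^ 2 = 1 :=
      congrArg (fun u : H => ((u : Cfsg.pCore 2 G) : G)) hw.2
    have hwW := hinvW _ (w : Cfsg.pCore 2 G).2 hw2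
    apply Subtype.ext
    apply Subtype.ext
    rw [restrictAut_apply, hcs]
    exact hsW _ hwW
  have htriv := aut_trivial hSetup hsH hcH _ hα3 hαΩ
  have hH3 : ∀ x ∈ H, cs x = x := by
    intro x hx
    have h := congrArg Subtype.val (htriv ⟨x, hx⟩)
    rwa [restrictAut_apply] at h
  have hcs3 : cs ^ 3 = 1 := by
    show (MulAut.conjNormal s : MulAut (Cfsg.pCore 2 G)) ^ 3 = 1
    rw [← map_pow, hs3, map_one]
  have hall := aut_eq_one_of_trivial_on_self_centralizing (p := 2) hQp H hself cs 3 hcs3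
    (by norm_num) hH3
  have hsC : s ∈ Subgroup.centralizer (Cfsg.pCore 2 G : Set G) := by
    rw [Subgroup.mem_centralizer_iff]
    intro x hx
    have h := congrArg Subtype.val (hall ⟨x, hx⟩)
    rw [hcs] at h
    have h' : s * x * s⁻¹ = x := h
    calc x * s = s * x * s⁻¹ * s := by rw [h']
      _ = s * x := by group
  have hsQ := hchar hsC
  obtain ⟨j, hj⟩ := hQp ⟨s, hsQ⟩
  have hj' : s ^ 2 ^ j = 1 := by
    have := congrArg Subtype.val hj
    simpa using this
  have h1 : orderOf s ∣ 2 ^ j := orderOf_dvd_of_pow_eq_one hj'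
  have h2 : orderOf s ∣ 3 := orderOf_dvd_of_pow_eq_one hs3
  have h3 : (orderOf s).Coprime (2 ^ j) :=
    Nat.Coprime.pow_right j (Nat.Coprime.coprime_dvd_left h2 (by norm_num))
  have h4 : orderOf s = 1 := Nat.Coprime.eq_one_of_dvd h3 h1
  exact hs1 (orderOf_eq_one_iff.mp h4)

end Cfsg.Agent.Lib.Helper7.E8Six
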