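import Mathlib

set_option autoImplicit false

/-!
# Extremely primitive groups: actions by automorphisms and anti-automorphisms

Basic facts on a group `H` acting on (the underlying set of) a group `T` through permutations
each of which is an automorphism or an anti-automorphism.
-/

namespace Cfsg.Agent.Lib.Helper7.EP

variable {T : Type*} [Group T] {H : Type*} [Group H]

/-- each `ρ h` is an automorphism or an anti-automorphism of `T` -/
def AutoAnti (ρ : H →* Equiv.Perm T) : Prop :=
  ∀ h : H, (∀ a b : T, ρ h (a * b) = ρ h a * ρ h b) ∨ (∀ a b : T, ρ h (a * b) = ρ h b * ρ h a)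

/-- the stabilizer of a point of `T` -/
def St (ρ : H →* Equiv.Perm T) (x : T) : Subgroup H :=
  (MulAction.stabilizer (Equiv.Perm T) x).comap ρ

theorem mem_St {ρ : H →* Equiv.Perm T} {x : T} {h : H} : h ∈ St ρ x ↔ ρ h x = x := by
  unfold St
  rw [Subgroup.mem_comap, MulAction.mem_stabilizer_iff, Equiv.Perm.smul_def]

theorem rho_inv_apply (ρ : H →* Equiv.Perm T) (h : H) (x : T) : ρ h⁻¹ (ρ h x) = x := by
  rw [map_inv]; exact (ρ h).symm_apply_apply x

theorem rho_apply_inv (ρ : H →* Equiv.Perm T) (h : H) (x : T) : ρ h (ρ h⁻¹ x) = x := by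
  rw [map_inv]; exact (ρ h).apply_symm_apply x

theorem rho_mul_apply (ρ : H →* Equiv.Perm T) (h k : H) (x : T) : ρ (h * k) x = ρ h (ρ k x) := by
  rw [map_mul]; rfl

namespace AutoAnti

variable {ρ : H →* Equiv.Perm T} (hρ : AutoAnti ρ)
include hρ

theorem map_one (h : H) : ρ h 1 = 1 := by
  rcases hρ h with h1 | h1
  · have := h1 1 1
    rw [mul_one] at this
    exact mul_eq_left.mp this.symm
  · have := h1 1 1
    rw [mul_one] at this
    exact mul_eq_left.mp this.symm

theorem map_mul_of_commute (h : H) {a b : T} (hab : Commute a b) :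
    ρ h (a * b) = ρ h a * ρ h b := by
  rcases hρ h with h1 | h1
  · exact h1 a b
  · rw [hab.eq]; exact h1 b a

theorem commute_map (h : H) {a b : T} (hab : Commute a b) : Commute (ρ h a) (ρ h b) := by
  have h1 := hρ.map_mul_of_commute h hab
  have h2 := hρ.map_mul_of_commute h hab.symm
  rw [← hab.eq] at h2
  exact h1.symm.trans h2

theorem commute_map_iff (h : H) {a b : T} : Commute (ρ h a) (ρ h b) ↔ Commute a b := by
  constructor
  · intro hab
    have := hρ.commute_map h⁻¹ hab
    rwa [rho_inv_apply, rho_inv_apply] at this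
  · exact hρ.commute_map h

theorem map_pow (h : H) (x : T) (m : ℕ) : ρ h (x ^ m) = (ρ h x) ^ m := by
  induction m with
  | zero => rw [pow_zero, pow_zero]; exact hρ.map_one h
  | succ m ih =>
    rw [pow_succ, pow_succ, hρ.map_mul_of_commute h (Commute.pow_left (Commute.refl x) m), ih]

theorem map_inv (h : H) (x : T) : ρ h x⁻¹ = (ρ h x)⁻¹ := by
  have h1 := hρ.map_mul_of_commute h (Commute.inv_right (Commute.refl x))
  rw [mul_inv_cancel, hρ.map_one h] at h1
  exact eq_inv_of_mul_eq_one_right h1.symm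

theorem orderOf_map (h : H) (x : T) : orderOf (ρ h x) = orderOf x := by
  apply Nat.dvd_antisymm
  · apply orderOf_dvd_of_pow_eq_one
    rw [← hρ.map_pow, pow_orderOf_eq_one, hρ.map_one]
  · apply orderOf_dvd_of_pow_eq_one
    have : ρ h (x ^ orderOf (ρ h x)) = 1 := by rw [hρ.map_pow, pow_orderOf_eq_one]
    have h2 : ρ h (x ^ orderOf (ρ h x)) = ρ h 1 := by rw [this, hρ.map_one]
    exact (ρ h).injective h2

/-- stabilizers: powers -/
theorem St_le_St_pow (x : T) (m : ℕ) : St ρ x ≤ St ρ (x ^ m) := by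
  intro h hh
  rw [mem_St] at hh ⊢
  rw [hρ.map_pow, hh]

/-- stabilizers: products of commuting elements -/
theorem St_inf_le_St_mul {x y : T} (hxy : Commute x y) : St ρ x ⊓ St ρ y ≤ St ρ (x * y) := by
  intro h hh
  have h1 := mem_St.mp hh.1
  have h2 := mem_St.mp hh.2
  rw [mem_St, hρ.map_mul_of_commute h hxy, h1, h2]

end AutoAnti

end Cfsg.Agent.Lib.Helper7.EP
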