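import Mathlib
import Cfsg.Agent.Lib.Helper7.PUD2

set_option autoImplicit false

/-!
# Extremely primitive groups: normal subgroups with nontrivial point stabilizer
-/

namespace Cfsg.Agent.Lib.Helper7.EP

open MulAction Cfsg.Agent.Lib.Helper7 Cfsg.Agent.Lib.Helper7.PUD
open scoped Pointwise

variable {G : Type*} [Group G] {Ω : Type*} [MulAction G Ω]

theorem cj_inf_stabilizer (M : Subgroup G) [hM : M.Normal] (g : G) (α : Ω) :
    cj g (M ⊓ stabilizer G α) = M ⊓ stabilizer G (g • α) := by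
  ext x
  rw [mem_cj, Subgroup.mem_inf, Subgroup.mem_inf, mem_stabilizer_iff, mem_stabilizer_iff]
  constructor
  · rintro ⟨h1, h2⟩
    refine ⟨?_, ?_⟩
    · have := hM.conj_mem _ h1 g
      have e : g * (g⁻¹ * x * g) * g⁻¹ = x := by group
      rwa [e] at this
    · rw [mul_smul, mul_smul, inv_smul_eq_iff] at h2
      exact h2
  · rintro ⟨h1, h2⟩
    refine ⟨?_, ?_⟩
    · have := hM.conj_mem _ h1 g⁻¹
      simpa using this
    · rw [mul_smul, mul_smul, inv_smul_eq_iff]
      exact h2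

theorem card_cj [Finite G] (g : G) (K : Subgroup G) : Nat.card (cj g K) = Nat.card K :=
  Subgroup.card_map_of_injective (MulAut.conj g).injective

theorem stabilizer_smul_eq_cj (g : G) (α : Ω) : stabilizer G (g • α) = cj g (stabilizer G α) := by
  have := cj_inf_stabilizer (⊤ : Subgroup G) g α
  rw [top_inf_eq, top_inf_eq] at this
  exact this.symm

/-- a normal subgroup fixing a point is trivial -/
theorem eq_bot_of_normal_le_stabilizer [FaithfulSMul G Ω] (α : Ω)
    (htr : ∀ ω : Ω, ∃ g : G, g • α = ω) (K : Subgroup G) [hK : K.Normal]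
    (hle : K ≤ stabilizer G α) : K = ⊥ := by
  rw [eq_bot_iff]
  intro k hk
  rw [Subgroup.mem_bot]
  apply FaithfulSMul.eq_of_smul_eq_smul (α := Ω)
  intro ω
  rw [one_smul]
  obtain ⟨g, rfl⟩ := htr ω
  have h1 : g⁻¹ * k * g ∈ K := by
    have := hK.conj_mem k hk g⁻¹
    simpa using this
  have h2 := hle h1
  rw [mem_stabilizer_iff, mul_smul, mul_smul, inv_smul_eq_iff] at h2
  exact h2

/-- the point stabilizer of a normal subgroup `M` (if nontrivial) has the same orbits as the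
full point stabilizer -/
theorem normal_stab_orbit [Finite G] [FaithfulSMul G Ω] (α : Ω)
    (hHmax : IsCoatom (stabilizer G α))
    (htr : ∀ ω : Ω, ∃ g : G, g • α = ω)
    (hmax : ∀ ω : Ω, ω ≠ α → IsCoatom ((stabilizer G ω).subgroupOf (stabilizer G α)))
    (M : Subgroup G) [hM : M.Normal] (hMα : M ⊓ stabilizer G α ≠ ⊥)
    (ω : Ω) (h : G) (hh : h ∈ stabilizer G α) :
    ∃ m ∈ M ⊓ stabilizer G α, m • ω = h • ω := by
  set H := stabilizer G α with hH
  set K := M ⊓ H with hK
  by_cases hω : ω = α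
  · refine ⟨1, K.one_mem, ?_⟩
    rw [hω, one_smul]
    exact (mem_stabilizer_iff.mp hh).symm
  -- `K` does not fix `ω`
  have hKω : ¬ K ≤ stabilizer G ω := by
    intro hle
    obtain ⟨g, hg⟩ := htr ω
    have hconj : cj g K = M ⊓ stabilizer G ω := by
      rw [hK, hH, cj_inf_stabilizer, hg]
    have hKeq : K = M ⊓ stabilizer G ω := by
      apply Subgroup.eq_of_le_of_card_ge (le_inf inf_le_left hle)
      rw [← hconj, card_cj]
    have hn1 : stabilizer G ω ≤ Subgroup.normalizer (K : Set G) := by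
      apply le_normalizer_of_conj_mem
      intro x hx k hk
      rw [hKeq] at hk ⊢
      exact ⟨hM.conj_mem k hk.1 x, (stabilizer G ω).mul_mem
        ((stabilizer G ω).mul_mem hx hk.2) ((stabilizer G ω).inv_mem hx)⟩
    have hn2 : H ≤ Subgroup.normalizer (K : Set G) := by
      apply le_normalizer_of_conj_mem
      intro x hx k hk
      exact ⟨hM.conj_mem k hk.1 x, H.mul_mem (H.mul_mem hx hk.2) (H.inv_mem hx)⟩
    rcases hHmax.le_iff.mp hn2 with htop | heq
    · haveI : K.Normal := Subgroup.normalizer_eq_top_iff.mp htop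
      exact hMα (eq_bot_of_normal_le_stabilizer α htr K inf_le_right)
    · have h1 : stabilizer G ω ≤ H := heq ▸ hn1
      have h2 : stabilizer G ω = H := by
        apply Subgroup.eq_of_le_of_card_ge h1
        rw [← hg, stabilizer_smul_eq_cj, card_cj]
      apply (hmax ω hω).1
      rw [Subgroup.subgroupOf_eq_top, h2]
  -- hence `K * H_ω = H`
  obtain ⟨k₀, hk₀K, hk₀ω⟩ : ∃ k ∈ K, k ∉ stabilizer G ω := by
    by_contra hcon
    push Not at hcon
    exact hKω hcon
  haveI : (K.subgroupOf H).Normal := by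
    rw [hK, Subgroup.inf_subgroupOf_right]
    infer_instance
  set S := (stabilizer G ω).subgroupOf H with hS
  have hsup : K.subgroupOf H ⊔ S = ⊤ := by
    rcases (hmax ω hω).le_iff.mp (le_sup_right : S ≤ K.subgroupOf H ⊔ S) with htop | heq
    · exact htop
    · exfalso
      have h1 : (⟨k₀, (Subgroup.mem_inf.mp hk₀K).2⟩ : H) ∈ K.subgroupOf H ⊔ S :=
        (le_sup_left : K.subgroupOf H ≤ _) (Subgroup.mem_subgroupOf.mpr hk₀K)
      rw [heq, Subgroup.mem_subgroupOf] at h1
      exact hk₀ω h1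
  have hmem : (⟨h, hh⟩ : H) ∈ K.subgroupOf H ⊔ S := hsup ▸ Subgroup.mem_top _
  rw [← SetLike.mem_coe, Subgroup.normal_mul] at hmem
  obtain ⟨k, hk, s, hs, hks⟩ := Set.mem_mul.mp hmem
  refine ⟨(k : G), Subgroup.mem_subgroupOf.mp hk, ?_⟩
  have e1 : h = (k : G) * (s : G) := by
    have := congrArg Subtype.val hks
    exact this.symm
  have e2 : (s : G) • ω = ω := mem_stabilizer_iff.mp (Subgroup.mem_subgroupOf.mp hs)
  rw [e1, mul_smul, e2]

/-- a subgroup of `M` normalized by `M` is transitive (`M` normal with nontrivial stabilizer) -/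
theorem transitive_of_normal_in [Finite G] [Finite Ω] [FaithfulSMul G Ω] (α : Ω)
    (hHmax : IsCoatom (stabilizer G α))
    (htr : ∀ ω : Ω, ∃ g : G, g • α = ω)
    (hmax : ∀ ω : Ω, ω ≠ α → IsCoatom ((stabilizer G ω).subgroupOf (stabilizer G α)))
    (M : Subgroup G) [hM : M.Normal] (hMα : M ⊓ stabilizer G α ≠ ⊥)
    (hMtr : ∀ ω : Ω, ∃ m ∈ M, m • α = ω)
    (L : Subgroup G) (hLne : L ≠ ⊥) (hLn : M ≤ Subgroup.normalizer (L : Set G)) :
    ∀ ω : Ω, ∃ l ∈ L, l • α = ω := by
  set H := stabilizer G α with hH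
  set B : Set Ω := {ω | ∃ l ∈ L, l • α = ω} with hB
  have hHB : ∀ h ∈ H, ∀ ω ∈ B, h • ω ∈ B := by
    rintro h hh ω ⟨l, hl, rfl⟩
    obtain ⟨m, hm, hmω⟩ := normal_stab_orbit α hHmax htr hmax M hMα (l • α) h hh
    refine ⟨m * l * m⁻¹, conj_mem_of_norm hLn hm.1 hl, ?_⟩
    rw [← hmω, mul_smul, mul_smul]
    have : m⁻¹ • α = α := by
      rw [inv_smul_eq_iff]
      exact (mem_stabilizer_iff.mp hm.2).symm
    rw [this]
  have hLB : ∀ l' ∈ L, ∀ ω ∈ B, l' • ω ∈ B := by
    rintro l' hl' ω ⟨l, hl, rfl⟩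
    exact ⟨l' * l, L.mul_mem hl' hl, mul_smul _ _ _⟩
  have h1 : H ≤ stabilizer G B := by
    intro h hh
    rw [mem_stabilizer_set' (Set.toFinite B)]
    exact fun ω hω => hHB h hh ω hω
  have h2 : L ≤ stabilizer G B := by
    intro l hl
    rw [mem_stabilizer_set' (Set.toFinite B)]
    exact fun ω hω => hLB l hl ω hω
  have hαB : α ∈ B := ⟨1, L.one_mem, one_smul _ _⟩
  rcases hHmax.le_iff.mp h1 with htop | heq
  · intro ω
    obtain ⟨g, rfl⟩ := htr ω
    have hg : g ∈ stabilizer G B := htop ▸ Subgroup.mem_top g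
    rw [mem_stabilizer_set' (Set.toFinite B)] at hg
    exact hg hαB
  · exfalso
    apply hLne
    have hLH : L ≤ H := heq ▸ h2
    rw [eq_bot_iff]
    intro l hl
    rw [Subgroup.mem_bot]
    apply FaithfulSMul.eq_of_smul_eq_smul (α := Ω)
    intro ω
    rw [one_smul]
    obtain ⟨m, hm, rfl⟩ := hMtr ω
    have h3 : m⁻¹ * l * m ∈ L := conj_mem_of_norm' hLn hm hl
    have h4 := hLH h3
    rw [hH, mem_stabilizer_iff, mul_smul, mul_smul, inv_smul_eq_iff] at h4
    exact h4

end Cfsg.Agent.Lib.Helper7.EP
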