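import Mathlib
import Cfsg.Agent.Lib.Helper7.EP7

set_option autoImplicit false

/-!
# Extremely primitive groups: nontrivial normal subgroups of a point stabilizer fix only one point
-/

namespace Cfsg.Agent.Lib.Helper7.EP

open MulAction Cfsg.Agent.Lib.Helper7 Cfsg.Agent.Lib.Helper7.PUD
open scoped Pointwise

variable {G : Type*} [Group G] {Ω : Type*} [MulAction G Ω]

/-- a normal subgroup of the stabilizer moving a point has the same orbit on it -/
theorem normal_sub_orbit (α : Ω)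
    (hmax : ∀ ω : Ω, ω ≠ α → IsCoatom ((stabilizer G ω).subgroupOf (stabilizer G α)))
    (K : Subgroup G) (hKH : K ≤ stabilizer G α)
    (hKn : stabilizer G α ≤ Subgroup.normalizer (K : Set G))
    (γ : Ω) (hγ : γ ≠ α) (hmove : ∃ k ∈ K, k • γ ≠ γ) (h : G) (hh : h ∈ stabilizer G α) :
    ∃ k ∈ K, k • γ = h • γ := by
  set H := stabilizer G α with hH
  obtain ⟨k₀, hk₀K, hk₀γ⟩ := hmove
  haveI : (K.subgroupOf H).Normal := Subgroup.normal_subgroupOf_of_le_normalizer hKn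
  set S := (stabilizer G γ).subgroupOf H with hS
  have hsup : K.subgroupOf H ⊔ S = ⊤ := by
    rcases (hmax γ hγ).le_iff.mp (le_sup_right : S ≤ K.subgroupOf H ⊔ S) with htop | heq
    · exact htop
    · exfalso
      have h1 : (⟨k₀, hKH hk₀K⟩ : H) ∈ K.subgroupOf H ⊔ S :=
        (le_sup_left : K.subgroupOf H ≤ _) (Subgroup.mem_subgroupOf.mpr hk₀K)
      rw [heq, Subgroup.mem_subgroupOf, mem_stabilizer_iff] at h1
      exact hk₀γ h1
  have hmem : (⟨h, hh⟩ : H) ∈ K.subgroupOf H ⊔ S := hsup ▸ Subgroup.mem_top _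
  rw [← SetLike.mem_coe, Subgroup.normal_mul] at hmem
  obtain ⟨k, hk, s, hs, hks⟩ := Set.mem_mul.mp hmem
  refine ⟨(k : G), Subgroup.mem_subgroupOf.mp hk, ?_⟩
  have e1 : h = (k : G) * (s : G) := (congrArg Subtype.val hks).symm
  have e2 : (s : G) • γ = γ := mem_stabilizer_iff.mp (Subgroup.mem_subgroupOf.mp hs)
  rw [e1, mul_smul, e2]

/-- two distinct point stabilizers generate `G` -/
theorem eq_top_of_stabilizers_le [Finite G] (α : Ω)
    (hHmax : IsCoatom (stabilizer G α))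
    (htr : ∀ ω : Ω, ∃ g : G, g • α = ω)
    (hmax : ∀ ω : Ω, ω ≠ α → IsCoatom ((stabilizer G ω).subgroupOf (stabilizer G α)))
    (β : Ω) (hβ : β ≠ α) (L : Subgroup G) (h1 : stabilizer G α ≤ L) (h2 : stabilizer G β ≤ L) :
    L = ⊤ := by
  rcases hHmax.le_iff.mp h1 with htop | heq
  · exact htop
  · exfalso
    obtain ⟨g, hg⟩ := htr β
    have h3 : stabilizer G β = stabilizer G α := by
      apply Subgroup.eq_of_le_of_card_ge (heq ▸ h2)
      rw [← hg, stabilizer_smul_eq_cj, card_cj]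
    apply (hmax β hβ).1
    rw [Subgroup.subgroupOf_eq_top, h3]

/-- in an extremely primitive group a nontrivial normal subgroup of the point stabilizer `G_α`
fixes no point other than `α` -/
theorem fix_normal_false [Finite G] [Finite Ω] [FaithfulSMul G Ω] (α : Ω)
    (hHmax : IsCoatom (stabilizer G α))
    (htr : ∀ ω : Ω, ∃ g : G, g • α = ω)
    (hmax : ∀ ω : Ω, ω ≠ α → IsCoatom ((stabilizer G ω).subgroupOf (stabilizer G α)))
    (K : Subgroup G) (hKH : K ≤ stabilizer G α)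
    (hKn : stabilizer G α ≤ Subgroup.normalizer (K : Set G)) (hKne : K ≠ ⊥)
    (ω₁ : Ω) (hω₁ : ω₁ ≠ α) (hfix : ∀ k ∈ K, k • ω₁ = ω₁) : False := by
  classical
  set H := stabilizer G α with hH
  set F : Set Ω := {ω | ∀ k ∈ K, k • ω = ω} with hF
  have hαF : α ∈ F := fun k hk => mem_stabilizer_iff.mp (hKH hk)
  have hFinv : ∀ h ∈ H, ∀ ω ∈ F, h • ω ∈ F := by
    intro h hh ω hω k hk
    have h1 : h⁻¹ * k * h ∈ K := conj_mem_of_norm' hKn hh hk
    have h2 := hω _ h1
    rw [mul_smul, mul_smul, inv_smul_eq_iff] at h2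
    exact h2
  have hFne : ∃ γ : Ω, γ ∉ F := by
    by_contra hcon
    push Not at hcon
    apply hKne
    rw [eq_bot_iff]
    intro k hk
    rw [Subgroup.mem_bot]
    apply FaithfulSMul.eq_of_smul_eq_smul (α := Ω)
    intro ω
    rw [one_smul]
    exact hcon ω k hk
  obtain ⟨γ₀, hγ₀⟩ := hFne
  haveI : Nonempty {γ : Ω // γ ∉ F} := ⟨⟨γ₀, hγ₀⟩⟩
  obtain ⟨⟨γ, hγF⟩, hγmax⟩ := Finite.exists_max
    (fun x : {γ : Ω // γ ∉ F} => (orbit H (x : Ω)).ncard)
  have hγα : γ ≠ α := fun h => hγF (h ▸ hαF)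
  have hγmove : ∃ k ∈ K, k • γ ≠ γ := by
    by_contra hcon
    push Not at hcon
    exact hγF hcon
  -- the key step
  have key : ∀ b : G, b • α ∈ F → b • α ≠ α → b⁻¹ • γ ∈ F := by
    intro b hbF hbα
    by_contra hb
    have hle : (orbit H (b⁻¹ • γ)).ncard ≤ (orbit H γ).ncard := hγmax ⟨b⁻¹ • γ, hb⟩
    set Γ := orbit H γ with hΓ
    set Γ' : Set Ω := (fun ω => b • ω) '' orbit H (b⁻¹ • γ) with hΓ'
    have hΓ'inv : ∀ g ∈ stabilizer G (b • α), ∀ ω ∈ Γ', g • ω ∈ Γ' := by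
      rintro g hg _ ⟨ω, ⟨h', rfl⟩, rfl⟩
      have hmem : b⁻¹ * g * b ∈ H := by
        rw [hH, mem_stabilizer_iff, mul_smul, mul_smul, mem_stabilizer_iff.mp hg, inv_smul_smul]
      refine ⟨(⟨b⁻¹ * g * b, hmem⟩ * h' : H) • (b⁻¹ • γ), ⟨_, rfl⟩, ?_⟩
      show b • ((⟨b⁻¹ * g * b, hmem⟩ * h' : H) • (b⁻¹ • γ)) = g • b • (h' • (b⁻¹ • γ))
      rw [mul_smul]
      show b • ((b⁻¹ * g * b) • (h' • (b⁻¹ • γ))) = _
      rw [mul_smul, mul_smul, smul_inv_smul]
    have hγΓ' : γ ∈ Γ' := by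
      refine ⟨b⁻¹ • γ, mem_orbit_self _, ?_⟩
      show b • b⁻¹ • γ = γ
      rw [smul_inv_smul]
    have hsub : Γ ⊆ Γ' := by
      rintro _ ⟨h, rfl⟩
      obtain ⟨k, hk, hkγ⟩ := normal_sub_orbit α hmax K hKH hKn γ hγα hγmove (h : G) h.2
      have hkst : k ∈ stabilizer G (b • α) := mem_stabilizer_iff.mpr (hbF k hk)
      have := hΓ'inv k hkst γ hγΓ'
      rw [hkγ] at this
      exact this
    have hcard' : Γ'.ncard = (orbit H (b⁻¹ • γ)).ncard :=
      Set.ncard_image_of_injective _ (MulAction.injective b)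
    have heq : Γ = Γ' := Set.eq_of_subset_of_ncard_le hsub (hcard' ▸ hle) (Set.toFinite _)
    have hL := eq_top_of_stabilizers_le α hHmax htr hmax (b • α) hbα (stabilizer G Γ) ?_ ?_
    · obtain ⟨g, hg⟩ := htr γ
      have hg' : g⁻¹ ∈ stabilizer G Γ := hL ▸ Subgroup.mem_top _
      rw [mem_stabilizer_set' (Set.toFinite Γ)] at hg'
      have h1 : g⁻¹ • γ ∈ Γ := hg' (mem_orbit_self γ)
      rw [← hg, inv_smul_smul] at h1
      obtain ⟨h, hh⟩ := h1
      apply hγα
      have h2 : (h : G) • γ = α := hh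
      have h3 : (h : G)⁻¹ • α = α := by
        rw [inv_smul_eq_iff]; exact (mem_stabilizer_iff.mp h.2).symm
      rw [← h3, ← h2, inv_smul_smul]
    · intro h hh
      rw [mem_stabilizer_set' (Set.toFinite Γ)]
      rintro _ ⟨h', rfl⟩
      exact ⟨(⟨h, hh⟩ : H) * h', mul_smul _ _ _⟩
    · intro g hg
      rw [mem_stabilizer_set' (Set.toFinite Γ)]
      intro ω hω
      rw [heq] at hω ⊢
      exact hΓ'inv g hg ω hω
  -- counting in `G`
  obtain ⟨c, hc⟩ := htr γ
  set A : Set G := {b | b • α ∈ F} with hA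
  set B : Set G := {b | b⁻¹ • γ ∈ F} with hB
  set Hs : Set G := (H : Set G) with hHs
  set cH : Set G := (fun h => c * h) '' Hs with hcH
  have hHA : Hs ⊆ A := by
    intro h hh
    have : h • α = α := mem_stabilizer_iff.mp hh
    show h • α ∈ F
    rw [this]; exact hαF
  have hcHB : cH ⊆ B := by
    rintro _ ⟨h, hh, rfl⟩
    show (c * h)⁻¹ • γ ∈ F
    have h1 : h⁻¹ • α = α := by
      rw [inv_smul_eq_iff]; exact (mem_stabilizer_iff.mp hh).symm
    rw [mul_inv_rev, mul_smul, ← hc, inv_smul_smul, h1]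
    exact hαF
  have hsub : A \ Hs ⊆ B \ cH := by
    rintro b ⟨hbA, hbH⟩
    have hbα : b • α ≠ α := fun h => hbH (mem_stabilizer_iff.mpr h)
    refine ⟨key b hbA hbα, ?_⟩
    rintro ⟨h, hh, rfl⟩
    apply hγF
    have : (c * h) • α = γ := by
      rw [mul_smul, mem_stabilizer_iff.mp hh, hc]
    rw [← this]; exact hbA
  have hBA : B = (fun a => c * a⁻¹) '' A := by
    ext b
    constructor
    · intro hb
      refine ⟨b⁻¹ * c, ?_, ?_⟩
      · show (b⁻¹ * c) • α ∈ F
        rw [mul_smul, hc]; exact hb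
      · show c * (b⁻¹ * c)⁻¹ = b
        group
    · rintro ⟨a, ha, rfl⟩
      show (c * a⁻¹)⁻¹ • γ ∈ F
      rw [mul_inv_rev, inv_inv, mul_smul, ← hc, inv_smul_smul]
      exact ha
  have hcardAB : B.ncard = A.ncard := by
    rw [hBA]
    apply Set.ncard_image_of_injective
    intro a a' h
    have : c * a⁻¹ = c * a'⁻¹ := h
    exact inv_injective (mul_left_cancel this)
  have hcardH : cH.ncard = Hs.ncard :=
    Set.ncard_image_of_injective _ (mul_right_injective c)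
  have hle : (B \ cH).ncard ≤ (A \ Hs).ncard := by
    rw [Set.ncard_diff hcHB (Set.toFinite _), Set.ncard_diff hHA (Set.toFinite _), hcardAB, hcardH]
  have heq : A \ Hs = B \ cH := Set.eq_of_subset_of_ncard_le hsub hle (Set.toFinite _)
  -- invariance
  have hL := eq_top_of_stabilizers_le α hHmax htr hmax γ hγα (stabilizer G (A \ Hs)) ?_ ?_
  · obtain ⟨b₀, hb₀⟩ := htr ω₁
    have hb₀A : b₀ ∈ A \ Hs := by
      refine ⟨?_, ?_⟩
      · show b₀ • α ∈ F
        rw [hb₀]; exact hfix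
      · intro h
        exact hω₁ (hb₀.symm.trans (mem_stabilizer_iff.mp h))
    have hmem : b₀⁻¹ ∈ stabilizer G (A \ Hs) := hL ▸ Subgroup.mem_top _
    rw [mem_stabilizer_set' (Set.toFinite _)] at hmem
    have h1 := hmem hb₀A
    rw [smul_eq_mul, inv_mul_cancel] at h1
    exact h1.2 H.one_mem
  · intro g hg
    rw [mem_stabilizer_set' (Set.toFinite _)]
    rintro b ⟨hbA, hbH⟩
    rw [smul_eq_mul]
    refine ⟨?_, ?_⟩
    · show (g * b) • α ∈ F
      rw [mul_smul]
      exact hFinv g hg _ hbA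
    · intro h
      apply hbH
      have := H.mul_mem (H.inv_mem hg) h
      rwa [inv_mul_cancel_left] at this
  · intro g hg
    rw [mem_stabilizer_set' (Set.toFinite _)]
    intro b hb
    rw [heq] at hb ⊢
    obtain ⟨hbB, hbcH⟩ := hb
    rw [smul_eq_mul]
    refine ⟨?_, ?_⟩
    · show (g * b)⁻¹ • γ ∈ F
      have h1 : g⁻¹ • γ = γ := by
        rw [inv_smul_eq_iff]; exact (mem_stabilizer_iff.mp hg).symm
      rw [mul_inv_rev, mul_smul, h1]
      exact hbB
    · rintro ⟨h, hh, hgb⟩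
      apply hbcH
      have hgb' : c * h = g * b := hgb
      refine ⟨c⁻¹ * g⁻¹ * c * h, ?_, ?_⟩
      · apply H.mul_mem _ hh
        rw [hH, mem_stabilizer_iff, mul_smul, mul_smul, hc]
        have h1 : g⁻¹ • γ = γ := by
          rw [inv_smul_eq_iff]; exact (mem_stabilizer_iff.mp hg).symm
        rw [h1, ← hc, inv_smul_smul]
      · show c * (c⁻¹ * g⁻¹ * c * h) = b
        calc c * (c⁻¹ * g⁻¹ * c * h) = g⁻¹ * (c * h) := by group
          _ = g⁻¹ * (g * b) := by rw [hgb']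
          _ = b := by group

end Cfsg.Agent.Lib.Helper7.EP
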