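import Mathlib
import Cfsg.Agent.Lib.Lead.Core

set_option autoImplicit false

/-!
# Groups with a core-free maximal subgroup: centre and Fitting subgroup
-/

namespace Cfsg.Agent.Lib.Helper7.EP

variable {H : Type*} [Group H]

/-- a core-free maximal subgroup -/
structure CoreFreeMax (S : Subgroup H) : Prop where
  coatom : IsCoatom S
  core : ∀ K : Subgroup H, K.Normal → K ≤ S → K = ⊥

/-- if `⊥` is a maximal subgroup the group has prime order -/
theorem prime_card_of_isCoatom_bot [Finite H] (h : IsCoatom (⊥ : Subgroup H)) :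
    (Nat.card H).Prime := by
  have hne : Nat.card H ≠ 1 := by
    intro h1
    apply h.1
    haveI : Subsingleton H := (Nat.card_eq_one_iff_unique.mp h1).1
    exact Subsingleton.elim _ _
  obtain ⟨p, hp, hpd⟩ := Nat.exists_prime_and_dvd hne
  haveI : Fact p.Prime := ⟨hp⟩
  obtain ⟨x, hx⟩ := exists_prime_orderOf_dvd_card' p hpd
  have hlt : (⊥ : Subgroup H) < Subgroup.zpowers x := by
    rw [bot_lt_iff_ne_bot]
    intro hb
    have : x ∈ Subgroup.zpowers x := Subgroup.mem_zpowers x
    rw [hb, Subgroup.mem_bot] at this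
    rw [this, orderOf_one] at hx
    exact hp.one_lt.ne hx
  have htop := h.2 _ hlt
  have hcard : Nat.card (Subgroup.zpowers x) = p := by rw [Nat.card_zpowers, hx]
  rw [htop, Subgroup.card_top] at hcard
  rw [hcard]; exact hp

namespace CoreFreeMax

variable {S : Subgroup H} (hS : CoreFreeMax S)
include hS

theorem sup_eq_top {A : Subgroup H} (hA : A.Normal) (hAne : A ≠ ⊥) : A ⊔ S = ⊤ := by
  rcases hS.coatom.le_iff.mp (le_sup_right : S ≤ A ⊔ S) with h | h
  · exact h
  · exfalso
    apply hAne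
    apply hS.core A hA
    rw [← h]; exact le_sup_left

/-- a subgroup of `S` normalized by `S` and centralized by a nontrivial normal `A` is trivial -/
theorem eq_bot_of_centralized {A : Subgroup H} (hA : A.Normal) (hAne : A ≠ ⊥) (D : Subgroup H)
    (hDS : D ≤ S) (hSD : ∀ s ∈ S, ∀ d ∈ D, s * d * s⁻¹ ∈ D)
    (hAD : ∀ a ∈ A, ∀ d ∈ D, a * d = d * a) : D = ⊥ := by
  apply hS.core D _ hDS
  constructor
  intro d hd g
  have hg : g ∈ A ⊔ S := hS.sup_eq_top hA hAne ▸ Subgroup.mem_top g
  haveI := hA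
  rw [← SetLike.mem_coe, Subgroup.normal_mul] at hg
  obtain ⟨a, ha, s, hs, rfl⟩ := Set.mem_mul.mp hg
  have h1 := hSD s hs d hd
  have h2 := hAD a ha _ h1
  have e : a * s * d * (a * s)⁻¹ = a * (s * d * s⁻¹) * a⁻¹ := by group
  rw [e, h2, mul_inv_cancel_right]
  exact h1

/-- the centre of a group with a core-free maximal subgroup is trivial unless `|H|` is prime -/
theorem center_eq_bot [Finite H] (hp : ¬ (Nat.card H).Prime) : Subgroup.center H = ⊥ := by
  by_contra hZ
  have hSb : S = ⊥ := by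
    apply hS.eq_bot_of_centralized (inferInstance : (Subgroup.center H).Normal) hZ S le_rfl
    · intro s hs d hd
      exact S.mul_mem (S.mul_mem hs hd) (S.inv_mem hs)
    · intro a ha d _
      exact (Subgroup.mem_center_iff.mp ha d).symm
  exact hp (prime_card_of_isCoatom_bot (hSb ▸ hS.coatom))

theorem inf_eq_bot {A : Subgroup H} (hA : A.Normal) (hAne : A ≠ ⊥)
    (hAc : ∀ a ∈ A, ∀ b ∈ A, a * b = b * a) : A ⊓ S = ⊥ := by
  apply hS.eq_bot_of_centralized hA hAne (A ⊓ S) inf_le_right
  · intro s hs d hd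
    exact ⟨hA.conj_mem d hd.1 s, S.mul_mem (S.mul_mem hs hd.2) (S.inv_mem hs)⟩
  · intro a ha d hd
    exact hAc a ha d hd.1

theorem centralizer_eq {A : Subgroup H} (hA : A.Normal) (hAne : A ≠ ⊥)
    (hAc : ∀ a ∈ A, ∀ b ∈ A, a * b = b * a) : Subgroup.centralizer (A : Set H) = A := by
  haveI := hA
  have hle : A ≤ Subgroup.centralizer (A : Set H) := by
    intro a ha
    rw [Subgroup.mem_centralizer_iff]
    intro b hb
    exact hAc b hb a ha
  apply le_antisymm _ hle
  have hCS : Subgroup.centralizer (A : Set H) ⊓ S = ⊥ := by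
    apply hS.eq_bot_of_centralized hA hAne _ inf_le_right
    · intro s hs d hd
      exact ⟨(inferInstance : (Subgroup.centralizer (A : Set H)).Normal).conj_mem d hd.1 s,
        S.mul_mem (S.mul_mem hs hd.2) (S.inv_mem hs)⟩
    · intro a ha d hd
      exact (Subgroup.mem_centralizer_iff.mp hd.1) a ha
  intro c hc
  have hg : c ∈ A ⊔ S := hS.sup_eq_top hA hAne ▸ Subgroup.mem_top c
  rw [← SetLike.mem_coe, Subgroup.normal_mul] at hg
  obtain ⟨a, ha, s, hs, rfl⟩ := Set.mem_mul.mp hg
  have h1 : s ∈ Subgroup.centralizer (A : Set H) ⊓ S := by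
    refine ⟨?_, hs⟩
    have := (Subgroup.centralizer (A : Set H)).mul_mem
      ((Subgroup.centralizer (A : Set H)).inv_mem (hle ha)) hc
    rwa [inv_mul_cancel_left] at this
  rw [hCS, Subgroup.mem_bot] at h1
  rw [h1, mul_one]; exact ha

/-- a nontrivial nilpotent normal subgroup is abelian -/
theorem comm_of_nilpotent [Finite H] {N : Subgroup H} (hN : N.Normal) (hNne : N ≠ ⊥)
    (hnil : Group.IsNilpotent N) : ∀ a ∈ N, ∀ b ∈ N, a * b = b * a := by
  haveI := hN
  haveI : Nontrivial N := (Subgroup.nontrivial_iff_ne_bot N).mpr hNne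
  haveI := hnil
  have hZne : Subgroup.center N ≠ ⊥ := Group.IsNilpotent.center_ne_bot N
  set A := (Subgroup.center N).map N.subtype with hAdef
  have hAn : A.Normal := ConjAct.normal_of_characteristic_of_normal
  have hAne : A ≠ ⊥ := by
    intro h
    apply hZne
    exact (Subgroup.map_eq_bot_iff_of_injective _ N.subtype_injective).mp h
  have hAc : ∀ a ∈ A, ∀ b ∈ A, a * b = b * a := by
    rintro _ ⟨a, ha, rfl⟩ _ ⟨b, _, rfl⟩
    have := Subgroup.mem_center_iff.mp ha b
    exact (congrArg Subtype.val this).symm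
  have hcent := hS.centralizer_eq hAn hAne hAc
  have hNA : N ≤ A := by
    rw [← hcent]
    intro n hn
    rw [Subgroup.mem_centralizer_iff]
    rintro _ ⟨a, ha, rfl⟩
    have := Subgroup.mem_center_iff.mp ha ⟨n, hn⟩
    exact (congrArg Subtype.val this).symm
  intro a ha b hb
  exact hAc a (hNA ha) b (hNA hb)

/-- the structure of a nontrivial nilpotent normal subgroup `N`: elementary abelian and
self-centralizing -/
theorem nilpotent_structure [Finite H] {N : Subgroup H} (hN : N.Normal) (hNne : N ≠ ⊥)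
    (hnil : Group.IsNilpotent N) :
    (∀ a ∈ N, ∀ b ∈ N, a * b = b * a) ∧ Subgroup.centralizer (N : Set H) = N ∧
    ∃ p e : ℕ, p.Prime ∧ Nat.card N = p ^ e ∧ ∀ x ∈ N, x ^ p = 1 := by
  have hc := hS.comm_of_nilpotent hN hNne hnil
  refine ⟨hc, hS.centralizer_eq hN hNne hc, ?_⟩
  haveI : Nontrivial N := (Subgroup.nontrivial_iff_ne_bot N).mpr hNne
  have hcard1 : Nat.card N ≠ 1 := by
    intro h
    have := (Nat.card_eq_one_iff_unique.mp h).1
    exact not_subsingleton N this
  obtain ⟨p, hp, hpd⟩ := Nat.exists_prime_and_dvd hcard1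
  haveI : Fact p.Prime := ⟨hp⟩
  -- the `p`-torsion of `N`
  let A : Subgroup H :=
    { carrier := {x | x ∈ N ∧ x ^ p = 1}
      one_mem' := ⟨N.one_mem, one_pow p⟩
      mul_mem' := by
        rintro a b ⟨ha, hap⟩ ⟨hb, hbp⟩
        refine ⟨N.mul_mem ha hb, ?_⟩
        rw [(show Commute a b from hc a ha b hb).mul_pow, hap, hbp, one_mul]
      inv_mem' := by
        rintro a ⟨ha, hap⟩
        exact ⟨N.inv_mem ha, by rw [inv_pow, hap, inv_one]⟩ }
  have hAmem : ∀ x, x ∈ A ↔ x ∈ N ∧ x ^ p = 1 := fun x => Iff.rfl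
  have hAn : A.Normal := by
    constructor
    intro x hx g
    rw [hAmem] at hx ⊢
    refine ⟨hN.conj_mem x hx.1 g, ?_⟩
    rw [conj_pow, hx.2]; group
  have hAne : A ≠ ⊥ := by
    obtain ⟨x, hx⟩ := exists_prime_orderOf_dvd_card' p hpd
    intro h
    have hxA : (x : H) ∈ A := by
      rw [hAmem]
      refine ⟨x.2, ?_⟩
      have : x ^ p = 1 := by rw [← hx, pow_orderOf_eq_one]
      exact congrArg Subtype.val this
    rw [h, Subgroup.mem_bot] at hxA
    have : x = 1 := Subtype.ext hxA
    rw [this, orderOf_one] at hx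
    exact hp.one_lt.ne hx
  have hAc : ∀ a ∈ A, ∀ b ∈ A, a * b = b * a := fun a ha b hb => hc a ha.1 b hb.1
  have hcent := hS.centralizer_eq hAn hAne hAc
  have hNA : N ≤ A := by
    rw [← hcent]
    intro n hn
    rw [Subgroup.mem_centralizer_iff]
    intro a ha
    exact hc a ha.1 n hn
  have hexp : ∀ x ∈ N, x ^ p = 1 := fun x hx => (hNA hx).2
  have hpg : IsPGroup p N := by
    intro x
    refine ⟨1, ?_⟩
    rw [pow_one]
    exact Subtype.ext (hexp x x.2)
  obtain ⟨e, he⟩ := hpg.exists_card_eq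
  exact ⟨p, e, hp, he, hexp⟩

end CoreFreeMax

end Cfsg.Agent.Lib.Helper7.EP
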