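import Mathlib
import Cfsg.Agent.Lib.Helper7.EP10
import Cfsg.Agent.Lib.Helper7.EP11
import Cfsg.Agent.Lib.Helper9.ElemAbAut1

set_option autoImplicit false

/-!
# Extremely primitive groups: structure of the point stabilizer
-/

namespace Cfsg.Agent.Lib.Helper7.EP

open MulAction Cfsg.Agent.Lib.Helper7 Cfsg.Agent.Lib.Helper7.PUD Cfsg.Agent.Lib.Lead

/-- basic consequences of extreme primitivity with a nontrivial point stabilizer -/
theorem ep_basic {G : Type*} [Group G] [Finite G] {Ω : Type*} [Finite Ω] [MulAction G Ω]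
    [FaithfulSMul G Ω] (hprim : IsPreprimitive G Ω)
    (hep : ∀ (α ω : Ω), IsPreprimitive (stabilizer G α) (orbit (stabilizer G α) ω))
    (α : Ω) (hH1 : stabilizer G α ≠ ⊥) :
    IsCoatom (stabilizer G α) ∧ (∀ ω : Ω, ∃ g : G, g • α = ω) ∧
    ∀ ω : Ω, ω ≠ α → IsCoatom ((stabilizer G ω).subgroupOf (stabilizer G α)) := by
  classical
  haveI : IsPretransitive G Ω := hprim.toIsPretransitive
  have htr : ∀ ω : Ω, ∃ g : G, g • α = ω := fun ω => exists_smul_eq G α ω
  set H := stabilizer G α with hH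
  -- `Ω` is nontrivial
  haveI : Nontrivial Ω := by
    by_contra hnt
    rw [not_nontrivial_iff_subsingleton] at hnt
    apply hH1
    rw [eq_bot_iff]
    intro g _
    rw [Subgroup.mem_bot]
    apply FaithfulSMul.eq_of_smul_eq_smul (α := Ω)
    intro ω
    exact Subsingleton.elim _ _
  have hHmax : IsCoatom H := IsPreprimitive.isCoatom_stabilizer_of_isPreprimitive G α
  refine ⟨hHmax, htr, ?_⟩
  intro ω hω
  have hmove : ∃ h ∈ H, h • ω ≠ ω := by
    by_contra hcon
    push Not at hcon
    have hle : H ≤ stabilizer G ω := fun h hh => mem_stabilizer_iff.mpr (hcon h hh)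
    obtain ⟨g, hg⟩ := htr ω
    have heq : stabilizer G ω = H := by
      symm
      apply Subgroup.eq_of_le_of_card_ge hle
      rw [← hg, stabilizer_smul_eq_cj, card_cj]
    have hgn : g ∈ Subgroup.normalizer (H : Set G) := by
      rw [mem_normalizer_iff_cj, ← stabilizer_smul_eq_cj, hg, heq]
    rcases hHmax.le_iff.mp (Subgroup.le_normalizer : H ≤ Subgroup.normalizer (H : Set G))
      with htop' | heq'
    · haveI : H.Normal := Subgroup.normalizer_eq_top_iff.mp htop'
      exact hH1 (eq_bot_of_normal_le_stabilizer α htr H le_rfl)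
    · rw [heq'] at hgn
      exact hω (hg.symm.trans (mem_stabilizer_iff.mp hgn))
  obtain ⟨h₀, hh₀, hh₀ω⟩ := hmove
  haveI := hep α ω
  haveI : Nontrivial (orbit H ω) := by
    refine ⟨⟨⟨ω, mem_orbit_self ω⟩, ⟨(⟨h₀, hh₀⟩ : H) • ω, mem_orbit ω _⟩, ?_⟩⟩
    intro h
    apply hh₀ω
    exact (congrArg Subtype.val h).symm
  have hco := IsPreprimitive.isCoatom_stabilizer_of_isPreprimitive H
    (⟨ω, mem_orbit_self ω⟩ : orbit H ω)
  have heq : stabilizer H (⟨ω, mem_orbit_self ω⟩ : orbit H ω) =
      (stabilizer G ω).subgroupOf H := by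
    ext h
    rw [mem_stabilizer_iff, Subgroup.mem_subgroupOf, mem_stabilizer_iff]
    constructor
    · intro h1
      exact congrArg Subtype.val h1
    · intro h1
      exact Subtype.ext h1
  rw [heq] at hco
  exact hco

/-- two-point stabilizers are core-free maximal subgroups of the point stabilizer -/
theorem coreFreeMax_stabilizer {G : Type*} [Group G] [Finite G] {Ω : Type*} [Finite Ω]
    [MulAction G Ω] [FaithfulSMul G Ω] (α : Ω)
    (hHmax : IsCoatom (stabilizer G α))
    (htr : ∀ ω : Ω, ∃ g : G, g • α = ω)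
    (hmax : ∀ ω : Ω, ω ≠ α → IsCoatom ((stabilizer G ω).subgroupOf (stabilizer G α)))
    (ω : Ω) (hω : ω ≠ α) :
    CoreFreeMax ((stabilizer G ω).subgroupOf (stabilizer G α)) := by
  set H := stabilizer G α with hH
  refine ⟨hmax ω hω, ?_⟩
  intro K' hK'n hK'le
  by_contra hne
  set K := K'.map H.subtype with hK
  have hKH : K ≤ H := Subgroup.map_subtype_le K'
  have hKne : K ≠ ⊥ := by
    intro h
    apply hne
    exact (Subgroup.map_eq_bot_iff_of_injective _ H.subtype_injective).mp h
  have hKn : H ≤ Subgroup.normalizer (K : Set G) := by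
    apply le_normalizer_of_conj_mem
    rintro h hh _ ⟨k, hk, rfl⟩
    exact ⟨⟨h, hh⟩ * k * ⟨h, hh⟩⁻¹, hK'n.conj_mem k hk ⟨h, hh⟩, rfl⟩
  apply fix_normal_false α hHmax htr hmax K hKH hKn hKne ω hω
  rintro _ ⟨k, hk, rfl⟩
  have := hK'le hk
  rw [Subgroup.mem_subgroupOf, mem_stabilizer_iff] at this
  exact this

theorem stabilizer_structure {G : Type*} [Group G] [Finite G] {Ω : Type*} [Fintype Ω]
    [MulAction G Ω] [FaithfulSMul G Ω] (hprim : IsPreprimitive G Ω)
    (hep : ∀ (α ω : Ω), IsPreprimitive (stabilizer G α) (orbit (stabilizer G α) ω))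
    (α : Ω) (hH1 : stabilizer G α ≠ ⊥) (hHp : ¬ (Nat.card (stabilizer G α)).Prime) :
    Subgroup.center (stabilizer G α) = ⊥ ∧
    IsMulCommutative (Cfsg.fittingSubgroup (stabilizer G α)) ∧
    ∃ p e : ℕ, p.Prime ∧ Nat.card (Cfsg.fittingSubgroup (stabilizer G α)) = p ^ e ∧
      (∀ x ∈ Cfsg.fittingSubgroup (stabilizer G α), x ^ p = 1) ∧
      (Cfsg.fittingSubgroup (stabilizer G α) ≠ ⊥ →
        p ^ e ∣ Fintype.card Ω - 1 ∧
        ∃ φ : stabilizer G α →* GL (Fin e) (ZMod p),
          φ.ker = Cfsg.fittingSubgroup (stabilizer G α)) := by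
  classical
  obtain ⟨hHmax, htr, hmax⟩ := ep_basic hprim hep α hH1
  set H := stabilizer G α with hH
  -- a point different from `α`
  obtain ⟨ω₀, hω₀⟩ : ∃ ω : Ω, ω ≠ α := by
    by_contra hcon
    push Not at hcon
    apply hH1
    rw [eq_bot_iff]
    intro g _
    rw [Subgroup.mem_bot]
    apply FaithfulSMul.eq_of_smul_eq_smul (α := Ω)
    intro ω
    rw [hcon ω, one_smul, hcon (g • α)]
  have hcf := coreFreeMax_stabilizer α hHmax htr hmax
  refine ⟨(hcf ω₀ hω₀).center_eq_bot hHp, ?_⟩
  set F := Cfsg.fittingSubgroup H with hF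
  by_cases hFb : F = ⊥
  · refine ⟨?_, 2, 0, Nat.prime_two, ?_, ?_, fun h => (h hFb).elim⟩
    · rw [hFb]
      exact ⟨⟨fun a b => Subsingleton.elim _ _⟩⟩
    · rw [hFb, Subgroup.card_bot, pow_zero]
    · intro x hx
      rw [hFb, Subgroup.mem_bot] at hx
      rw [hx, one_pow]
  · have hFn : F.Normal := fittingSubgroup_normal
    have hFnil : Group.IsNilpotent F := fittingSubgroup_isNilpotent
    obtain ⟨hc, hcent, p, e, hp, hcard, hexp⟩ :=
      (hcf ω₀ hω₀).nilpotent_structure hFn hFb hFnil
    refine ⟨⟨⟨fun a b => Subtype.ext (hc a a.2 b b.2)⟩⟩, p, e, hp, hcard, hexp, fun _ => ⟨?_, ?_⟩⟩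
    · -- `F` acts freely on `Ω \ {α}`
      have hfree : ∀ x : SubMulAction.ofStabilizer G α, stabilizer F x = ⊥ := by
        intro x
        rw [eq_bot_iff]
        intro f hf
        rw [Subgroup.mem_bot]
        have hxα : (x : Ω) ≠ α := SubMulAction.neq_of_mem_ofStabilizer G α
        have h1 : (f : H) ∈ F ⊓ (stabilizer G (x : Ω)).subgroupOf H := by
          refine Subgroup.mem_inf.mpr ⟨f.2, ?_⟩
          rw [Subgroup.mem_subgroupOf, mem_stabilizer_iff]
          have := mem_stabilizer_iff.mp hf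
          exact congrArg Subtype.val this
        rw [(hcf _ hxα).inf_eq_bot hFn hFb hc, Subgroup.mem_bot] at h1
        exact Subtype.ext h1
      have hequiv := MulAction.selfEquivOrbitsQuotientProd hfree
      have h1 := Nat.card_congr hequiv
      rw [Nat.card_prod, SubMulAction.nat_card_ofStabilizer_eq, Nat.card_eq_fintype_card,
        hcard] at h1
      rw [h1]
      exact Dvd.intro_left _ rfl
    · haveI := hFn
      haveI : Fact p.Prime := ⟨hp⟩
      obtain ⟨e'⟩ := Cfsg.Agent.H9EA.nonempty_mulAut_equiv_GL (H := F) p e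
        (fun a b => Subtype.ext (hc a a.2 b b.2))
        (fun a => Subtype.ext (hexp a a.2)) hcard
      refine ⟨e'.toMonoidHom.comp (MulAut.conjNormal (H := F)), ?_⟩
      ext g
      rw [MonoidHom.mem_ker, MonoidHom.comp_apply]
      show e' (MulAut.conjNormal g) = 1 ↔ g ∈ F
      have hker : MulAut.conjNormal (H := F) g = 1 ↔ g ∈ Subgroup.centralizer (F : Set H) := by
        rw [Subgroup.mem_centralizer_iff]
        constructor
        · intro h1 f hf
          have := congrArg (fun σ : MulAut F => ((σ ⟨f, hf⟩ : F) : H)) h1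
          simp only [MulAut.conjNormal_apply, MulAut.one_apply] at this
          calc f * g = (g * f * g⁻¹) * g := by rw [this]
            _ = g * f := by group
        · intro h1
          ext f
          rw [MulAut.conjNormal_apply, MulAut.one_apply]
          have := h1 f f.2
          have e : g * (f : H) * g⁻¹ = (f : H) := by
            calc g * (f : H) * g⁻¹ = ((f : H) * g) * g⁻¹ := by rw [this]
              _ = f := by group
          exact congrArg Subtype.val e
      rw [MulEquiv.map_eq_one_iff, hker, hcent]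

end Cfsg.Agent.Lib.Helper7.EP
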