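import Mathlib
import Cfsg.Agent.Lib.Helper7.EP13

set_option autoImplicit false

/-!
# The Galois quotient of a group normalizing an irreducible abelian group of automorphisms
-/

namespace Cfsg.Agent.Lib.Helper7.EP

universe u v

/-- Let `V` be an elementary abelian group of order `p ^ d`, `ρ` an action of `H` on `V`, and `T` an
abelian normal subgroup of `H` acting irreducibly.  Then there is a normal subgroup `N` of `H`
acting on `V` commuting with `T`, with `H / N` cyclic of order dividing `d`. -/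
theorem galois_quotient {V : Type u} [AddCommGroup V] [Finite V] [Nontrivial V] (p d : ℕ)
    [Fact p.Prime] (hexp : ∀ v : V, p • v = 0) (hcard : Nat.card V = p ^ d)
    {H : Type v} [Group H] (ρ : H →* AddMonoid.End V) (T : Subgroup H) [hT : T.Normal]
    (hTc : ∀ a ∈ T, ∀ b ∈ T, a * b = b * a)
    (hirr : ∀ B : AddSubgroup V, (∀ t ∈ T, ∀ b ∈ B, ρ t b ∈ B) → B = ⊥ ∨ B = ⊤) :
    ∃ N : Subgroup H, N.Normal ∧ (∀ h ∈ N, ∀ t ∈ T, ρ (h * t) = ρ (t * h)) ∧ N.index ∣ d ∧
      ∃ h₀ : H, N ⊔ Subgroup.zpowers h₀ = ⊤ := by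
  classical
  haveI : Finite (AddMonoid.End V) := DFunLike.finite (V →+ V)
  let K : Subring (AddMonoid.End V) := Subring.centralizer (ρ '' (T : Set H))
  have hKmem : ∀ k : AddMonoid.End V, k ∈ K ↔ ∀ t ∈ T, ρ t * k = k * ρ t := by
    intro k
    rw [Subring.mem_centralizer_iff]
    constructor
    · intro h t ht
      exact h (ρ t) ⟨t, ht, rfl⟩
    · rintro h _ ⟨t, ht, rfl⟩
      exact h t ht
  have hρT : ∀ t ∈ T, ρ t ∈ K := by
    intro t ht
    rw [hKmem]
    intro s hs
    rw [← map_mul, ← map_mul, hTc s hs t ht]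
  -- Schur's lemma
  have hschur : ∀ k ∈ K, k ≠ 0 → Function.Injective k := by
    intro k hk hk0
    let k' : V →+ V := k
    have hker : ∀ t ∈ T, ∀ b ∈ AddMonoidHom.ker k', ρ t b ∈ AddMonoidHom.ker k' := by
      intro t ht b hb
      have hb' : k b = 0 := AddMonoidHom.mem_ker.mp hb
      apply AddMonoidHom.mem_ker.mpr
      show k (ρ t b) = 0
      have h1 := (hKmem k).mp hk t ht
      have h2 : k (ρ t b) = ρ t (k b) := by
        calc k (ρ t b) = (k * ρ t) b := rfl
          _ = (ρ t * k) b := by rw [h1]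
          _ = ρ t (k b) := rfl
      rw [h2, hb', map_zero]
    rcases hirr _ hker with h | h
    · exact (AddMonoidHom.ker_eq_bot_iff k').mp h
    · exfalso
      apply hk0
      ext v
      have : v ∈ AddMonoidHom.ker k' := h ▸ AddSubgroup.mem_top v
      exact AddMonoidHom.mem_ker.mp this
  obtain ⟨v₀, hv₀⟩ := exists_ne (0 : V)
  haveI : Nontrivial K := by
    refine ⟨⟨0, 1, ?_⟩⟩
    intro h
    have h1 : (0 : AddMonoid.End V) = 1 := congrArg Subtype.val h
    have h2 : (0 : AddMonoid.End V) v₀ = (1 : AddMonoid.End V) v₀ := by rw [h1]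
    exact hv₀ h2.symm
  haveI : NoZeroDivisors K := by
    refine ⟨?_⟩
    intro a b hab
    by_contra hcon
    push Not at hcon
    have ha : (a : AddMonoid.End V) ≠ 0 := fun h => hcon.1 (Subtype.ext h)
    have hinj := hschur a a.2 ha
    apply hcon.2
    apply Subtype.ext
    ext v
    have h1 : ((a * b : K) : AddMonoid.End V) v = 0 := by
      rw [hab]
      rfl
    have h2 : (b : AddMonoid.End V) v = 0 := by
      apply hinj
      rw [map_zero]
      exact h1
    exact h2
  haveI : IsDomain K := NoZeroDivisors.to_isDomain K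
  -- the cardinality of `K`
  have hcardK : Nat.card K = p ^ d := by
    rw [← hcard]
    let ev : K → V := fun k => (k : AddMonoid.End V) v₀
    have hinj : Function.Injective ev := by
      intro k k' hkk
      by_contra hne
      have h1 : ((k - k' : K) : AddMonoid.End V) ≠ 0 := by
        intro h
        apply hne
        have : k - k' = 0 := Subtype.ext h
        exact sub_eq_zero.mp this
      have h2 := hschur _ (k - k').2 h1
      apply hv₀
      apply h2
      rw [map_zero]
      show (k : AddMonoid.End V) v₀ - (k' : AddMonoid.End V) v₀ = 0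
      exact sub_eq_zero.mpr hkk
    have hsurj : Function.Surjective ev := by
      let B : AddSubgroup V :=
        { carrier := Set.range ev
          zero_mem' := ⟨0, rfl⟩
          add_mem' := by
            rintro _ _ ⟨a, rfl⟩ ⟨b, rfl⟩
            exact ⟨a + b, rfl⟩
          neg_mem' := by
            rintro _ ⟨a, rfl⟩
            refine ⟨-a, ?_⟩
            show (-(a : AddMonoid.End V)) v₀ = -((a : AddMonoid.End V) v₀)
            rfl }
      have hB : ∀ t ∈ T, ∀ b ∈ B, ρ t b ∈ B := by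
        rintro t ht _ ⟨a, rfl⟩
        exact ⟨⟨ρ t, hρT t ht⟩ * a, rfl⟩
      rcases hirr B hB with h | h
      · exfalso
        apply hv₀
        have : v₀ ∈ B := ⟨1, rfl⟩
        rw [h] at this
        exact this
      · intro v
        have : v ∈ B := h ▸ AddSubgroup.mem_top v
        exact this
    exact Nat.card_congr (Equiv.ofBijective ev ⟨hinj, hsurj⟩)
  have hp0 : ((p : ℕ) : K) = 0 := by
    apply Subtype.ext
    show ((p : ℕ) : AddMonoid.End V) = 0
    ext v
    rw [AddMonoid.End.natCast_apply]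
    exact hexp v
  obtain ⟨hcyc, hcardAut⟩ := ringAut_domain K p d hp0 hcardK
  -- conjugation
  have e1 : ∀ h : H, ρ h⁻¹ * ρ h = 1 := fun h => by rw [← map_mul, inv_mul_cancel, map_one]
  have e2 : ∀ h : H, ρ h * ρ h⁻¹ = 1 := fun h => by rw [← map_mul, mul_inv_cancel, map_one]
  have hconj : ∀ (h : H) (k : AddMonoid.End V), k ∈ K → ρ h * k * ρ h⁻¹ ∈ K := by
    intro h k hk
    rw [hKmem]
    intro t ht
    have ht' : h⁻¹ * t * h ∈ T := by
      have := hT.conj_mem t ht h⁻¹
      rwa [inv_inv] at this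
    have h1 : ρ t * ρ h = ρ h * ρ (h⁻¹ * t * h) := by
      rw [← map_mul, ← map_mul]
      congr 1
      group
    have h2 : ρ h⁻¹ * ρ t = ρ (h⁻¹ * t * h) * ρ h⁻¹ := by
      rw [← map_mul, ← map_mul]
      congr 1
      group
    have h3 := (hKmem k).mp hk _ ht'
    calc ρ t * (ρ h * k * ρ h⁻¹) = (ρ t * ρ h) * k * ρ h⁻¹ := by simp only [mul_assoc]
      _ = ρ h * (ρ (h⁻¹ * t * h) * k) * ρ h⁻¹ := by rw [h1]; simp only [mul_assoc]
      _ = ρ h * k * (ρ (h⁻¹ * t * h) * ρ h⁻¹) := by rw [h3]; simp only [mul_assoc]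
      _ = ρ h * k * ρ h⁻¹ * ρ t := by rw [← h2]; simp only [mul_assoc]
  let cfun : H → (K ≃+* K) := fun h =>
    { toFun := fun k => ⟨ρ h * k * ρ h⁻¹, hconj h k k.2⟩
      invFun := fun k => ⟨ρ h⁻¹ * k * ρ h, by
        have := hconj h⁻¹ k k.2
        rwa [inv_inv] at this⟩
      left_inv := fun k => by
        apply Subtype.ext
        show ρ h⁻¹ * (ρ h * k * ρ h⁻¹) * ρ h = k
        calc ρ h⁻¹ * (ρ h * k * ρ h⁻¹) * ρ h = (ρ h⁻¹ * ρ h) * k * (ρ h⁻¹ * ρ h) := by
              simp only [mul_assoc]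
          _ = k := by rw [e1, one_mul, mul_one]
      right_inv := fun k => by
        apply Subtype.ext
        show ρ h * (ρ h⁻¹ * k * ρ h) * ρ h⁻¹ = k
        calc ρ h * (ρ h⁻¹ * k * ρ h) * ρ h⁻¹ = (ρ h * ρ h⁻¹) * k * (ρ h * ρ h⁻¹) := by
              simp only [mul_assoc]
          _ = k := by rw [e2, one_mul, mul_one]
      map_mul' := fun a b => by
        apply Subtype.ext
        show ρ h * (a * b) * ρ h⁻¹ = (ρ h * a * ρ h⁻¹) * (ρ h * b * ρ h⁻¹)
        calc ρ h * (a * b) * ρ h⁻¹ = ρ h * a * 1 * b * ρ h⁻¹ := by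
              rw [mul_one]; simp only [mul_assoc]
          _ = (ρ h * a * ρ h⁻¹) * (ρ h * b * ρ h⁻¹) := by
              rw [← e1 h]; simp only [mul_assoc]
      map_add' := fun a b => by
        apply Subtype.ext
        show ρ h * (a + b) * ρ h⁻¹ = (ρ h * a * ρ h⁻¹) + (ρ h * b * ρ h⁻¹)
        rw [mul_add, add_mul] }
  have hcfun : ∀ (h : H) (k : K), ((cfun h k : K) : AddMonoid.End V) = ρ h * k * ρ h⁻¹ :=
    fun h k => rfl
  let c : H →* (K ≃+* K) :=
    { toFun := cfun
      map_one' := by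
        ext k : 2
        rw [hcfun, inv_one, map_one, one_mul, mul_one]
        rfl
      map_mul' := fun a b => by
        ext k : 2
        rw [hcfun]
        show _ = ((cfun a (cfun b k) : K) : AddMonoid.End V)
        rw [hcfun, hcfun, mul_inv_rev, map_mul, map_mul]
        simp only [mul_assoc] }
  refine ⟨c.ker, c.normal_ker, ?_, ?_, ?_⟩
  · intro h hh t ht
    rw [MonoidHom.mem_ker] at hh
    have h1 : cfun h ⟨ρ t, hρT t ht⟩ = ⟨ρ t, hρT t ht⟩ := by
      show c h ⟨ρ t, hρT t ht⟩ = ⟨ρ t, hρT t ht⟩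
      rw [hh]
      rfl
    have h2 : ρ h * ρ t * ρ h⁻¹ = ρ t := by
      have := congrArg (fun k : K => (k : AddMonoid.End V)) h1
      exact this
    rw [map_mul, map_mul]
    calc ρ h * ρ t = ρ h * ρ t * (ρ h⁻¹ * ρ h) := by rw [e1, mul_one]
      _ = (ρ h * ρ t * ρ h⁻¹) * ρ h := by simp only [mul_assoc]
      _ = ρ t * ρ h := by rw [h2]
  · rw [Subgroup.index_ker, ← hcardAut]
    exact Subgroup.card_subgroup_dvd_card c.range
  · obtain ⟨g, hg⟩ := IsCyclic.exists_generator (α := c.range)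
    obtain ⟨h₀, hh₀⟩ := g.2
    refine ⟨h₀, ?_⟩
    rw [eq_top_iff]
    intro x _
    have hx : (⟨c x, ⟨x, rfl⟩⟩ : c.range) ∈ Subgroup.zpowers g := hg _
    obtain ⟨n, hn⟩ := Subgroup.mem_zpowers_iff.mp hx
    have h1 : c (h₀ ^ n) = c x := by
      rw [map_zpow, hh₀]
      have := congrArg (fun y : c.range => (y : K ≃+* K)) hn
      simpa using this
    have h2 : x * (h₀ ^ n)⁻¹ ∈ c.ker := by
      rw [MonoidHom.mem_ker, map_mul, map_inv, h1, mul_inv_cancel]
    have h3 : x = (x * (h₀ ^ n)⁻¹) * h₀ ^ n := by group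
    rw [h3]
    exact Subgroup.mul_mem _ (Subgroup.mem_sup_left h2)
      (Subgroup.mem_sup_right (Subgroup.zpow_mem_zpowers h₀ n))

end Cfsg.Agent.Lib.Helper7.EP

namespace Cfsg.Agent.Lib.Helper7.EP

universe u v

/-- multiplicative version of `galois_quotient` -/
theorem galois_quotient' {V : Type u} [Group V] [Finite V] [Nontrivial V]
    (hcomm : ∀ a b : V, a * b = b * a) (p d : ℕ) [Fact p.Prime]
    (hexp : ∀ v : V, v ^ p = 1) (hcard : Nat.card V = p ^ d)
    {H : Type v} [Group H] (ρ : H →* MulAut V) (T : Subgroup H) [hT : T.Normal]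
    (hTc : ∀ a ∈ T, ∀ b ∈ T, a * b = b * a)
    (hirr : ∀ B : Subgroup V, (∀ t ∈ T, ∀ b ∈ B, ρ t b ∈ B) → B = ⊥ ∨ B = ⊤) :
    ∃ N : Subgroup H, N.Normal ∧ (∀ h ∈ N, ∀ t ∈ T, ρ (h * t) = ρ (t * h)) ∧ N.index ∣ d ∧
      ∃ h₀ : H, N ⊔ Subgroup.zpowers h₀ = ⊤ := by
  letI : CommGroup V := { ‹Group V› with mul_comm := hcomm }
  let ρ' : H →* AddMonoid.End (Additive V) :=
    { toFun := fun h => MonoidHom.toAdditive (ρ h).toMonoidHom
      map_one' := by
        ext a
        show Additive.ofMul (ρ 1 a.toMul) = a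
        rw [map_one]
        rfl
      map_mul' := fun a b => by
        ext x
        show Additive.ofMul (ρ (a * b) x.toMul) = Additive.ofMul (ρ a (ρ b x.toMul))
        rw [map_mul]
        rfl }
  have hρ' : ∀ (h : H) (v : V), ρ' h (Additive.ofMul v) = Additive.ofMul (ρ h v) := fun h v => rfl
  haveI : Finite (Additive V) := ‹Finite V›
  haveI : Nontrivial (Additive V) := ‹Nontrivial V›
  have hexp' : ∀ a : Additive V, p • a = 0 := by
    intro a
    show Additive.ofMul (a.toMul ^ p) = 0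
    rw [hexp]
    rfl
  have hcard' : Nat.card (Additive V) = p ^ d := hcard
  have hirr' : ∀ B : AddSubgroup (Additive V), (∀ t ∈ T, ∀ b ∈ B, ρ' t b ∈ B) → B = ⊥ ∨ B = ⊤ := by
    intro B hB
    have h1 := hirr (Subgroup.toAddSubgroup.symm B) (fun t ht b hb => hB t ht (Additive.ofMul b) hb)
    rcases h1 with h | h
    · left
      rw [← OrderIso.map_bot Subgroup.toAddSubgroup.symm] at h
      exact Subgroup.toAddSubgroup.symm.injective h
    · right
      rw [← OrderIso.map_top Subgroup.toAddSubgroup.symm] at h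
      exact Subgroup.toAddSubgroup.symm.injective h
  obtain ⟨N, hN, hNc, hidx, h₀, hh₀⟩ := galois_quotient p d hexp' hcard' ρ' T hTc hirr'
  refine ⟨N, hN, ?_, hidx, h₀, hh₀⟩
  intro h hh t ht
  ext v
  have h1 := hNc h hh t ht
  have h2 := congrArg (fun f : AddMonoid.End (Additive V) => (f (Additive.ofMul v)).toMul) h1
  exact h2

end Cfsg.Agent.Lib.Helper7.EP
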