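import Mathlib

set_option autoImplicit false

namespace Cfsg.Agent.Lib.Helper7

section
variable {M : Type*} [CommGroup M] [Finite M] {p q : ℕ} [hp : Fact p.Prime] [hq : Fact q.Prime]

/-- an automorphism of order dividing `p` without nontrivial fixed points: `|M| ≡ 1 (mod p)` -/
theorem card_modEq_one_of_fpf (σ : MulAut M) (hσ : σ ^ p = 1) (hfpf : ∀ a : M, σ a = a → a = 1) :
    Nat.card M ≡ 1 [MOD p] := by
  classical
  have hP : IsPGroup p (Subgroup.zpowers σ) := by
    rintro ⟨τ, hτ⟩
    refine ⟨1, Subtype.ext ?_⟩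
    obtain ⟨n, rfl⟩ := Subgroup.mem_zpowers_iff.mp hτ
    show (σ ^ n) ^ p ^ 1 = 1
    rw [pow_one, ← zpow_natCast, ← zpow_mul, mul_comm, zpow_mul, zpow_natCast, hσ, one_zpow]
  have h := hP.card_modEq_card_fixedPoints M
  have hfix : MulAction.fixedPoints (Subgroup.zpowers σ) M = {1} := by
    ext a
    simp only [MulAction.mem_fixedPoints, Set.mem_singleton_iff]
    constructor
    · intro ha
      exact hfpf a (ha ⟨σ, Subgroup.mem_zpowers σ⟩)
    · rintro rfl τ
      exact map_one (τ : MulAut M)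
  rw [hfix] at h
  have h1 : Nat.card ({1} : Set M) = 1 := by
    rw [Nat.card_coe_set_eq, Set.ncard_singleton]
  rw [h1] at h
  exact h

/-- **Irreducible modules for a group of prime order.**  An elementary abelian `q`-group with an
automorphism `σ`, `σ ^ p = 1`, without nontrivial fixed points and without proper nontrivial
invariant subgroups, has order `q ^ e` with `e` the order of `q` modulo `p`. -/
theorem card_eq_of_irreducible (hpq : p ≠ q) (hexp : ∀ a : M, a ^ q = 1) [hnt : Nontrivial M]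
    (σ : MulAut M) (hσ : σ ^ p = 1) (hfpf : ∀ a : M, σ a = a → a = 1)
    (hirr : ∀ B : Subgroup M, (∀ b ∈ B, σ b ∈ B) → B = ⊥ ∨ B = ⊤) :
    Nat.card M = q ^ orderOf (q : ZMod p) := by
  classical
  have hpp := hp.out
  have hqp := hq.out
  set e := orderOf (q : ZMod p) with he
  -- `M` is a `q`-group
  have hMq : IsPGroup q M := fun a => ⟨1, by rw [pow_one]; exact hexp a⟩
  obtain ⟨m, hm⟩ := IsPGroup.iff_card.mp hMq
  have hm0 : m ≠ 0 := by
    intro h0
    rw [h0, pow_zero] at hm
    have := Finite.one_lt_card_iff_nontrivial.mpr hnt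
    omega
  -- `e ∣ m`
  have hmod := card_modEq_one_of_fpf σ hσ hfpf
  rw [hm] at hmod
  have hqm : (q : ZMod p) ^ m = 1 := by
    have := (ZMod.natCast_eq_natCast_iff (q ^ m) 1 p).mpr hmod
    simpa using this
  have hem : e ∣ m := orderOf_dvd_of_pow_eq_one hqm
  have he0 : e ≠ 0 := by
    intro h0
    rw [h0, zero_dvd_iff] at hem
    exact hm0 hem
  -- the field with `q ^ e` elements
  let F := GaloisField q e
  haveI : Fintype F := Fintype.ofFinite F
  have hFcard : Nat.card F = q ^ e := GaloisField.card q e he0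
  -- a primitive `p`-th root of unity
  have hpdvd : p ∣ q ^ e - 1 := by
    have h1 : (q : ZMod p) ^ e = 1 := pow_orderOf_eq_one _
    have h2 : ((q ^ e : ℕ) : ZMod p) = ((1 : ℕ) : ZMod p) := by simpa using h1
    have h3 := (ZMod.natCast_eq_natCast_iff (q ^ e) 1 p).mp h2
    exact (Nat.modEq_iff_dvd' (Nat.one_le_pow _ _ hqp.pos)).mp h3.symm
  have hunits : Nat.card Fˣ = q ^ e - 1 := by
    rw [Nat.card_units, hFcard]
  obtain ⟨ζu, hζu⟩ := exists_prime_orderOf_dvd_card' (G := Fˣ) p (by rw [hunits]; exact hpdvd)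
  set ζ : F := (ζu : F) with hζ
  have hζord : orderOf ζ = p := by rw [hζ, orderOf_units]; exact hζu
  have hζp : ζ ^ p = 1 := by rw [← hζord]; exact pow_orderOf_eq_one ζ
  have hζ0 : ζ ≠ 0 := Units.ne_zero ζu
  -- a nonzero additive functional
  haveI : NeZero q := ⟨hqp.ne_zero⟩
  have hq0 : ∀ x : Additive M, q • x = 0 := by
    intro x
    show Additive.ofMul ((Additive.toMul x) ^ q) = 0
    rw [hexp]; rfl
  haveI : Module (ZMod q) (Additive M) := AddCommGroup.zmodModule hq0
  obtain ⟨a₀, ha₀⟩ := exists_ne (1 : M)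
  obtain ⟨f, hf⟩ : ∃ f : Additive M →ₗ[ZMod q] ZMod q, f (Additive.ofMul a₀) ≠ 0 := by
    by_contra hcon
    push Not at hcon
    have := (Module.forall_dual_apply_eq_zero_iff (ZMod q) (Additive.ofMul a₀)).mp hcon
    exact ha₀ this
  let ψ : M → F := fun a => algebraMap (ZMod q) F (f (Additive.ofMul a))
  have hψmul : ∀ a b, ψ (a * b) = ψ a + ψ b := by
    intro a b
    show algebraMap (ZMod q) F (f (Additive.ofMul (a * b))) = _
    rw [ofMul_mul, map_add, map_add]
  have hψa₀ : ψ a₀ ≠ 0 := by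
    show algebraMap (ZMod q) F (f (Additive.ofMul a₀)) ≠ 0
    rw [Ne, map_eq_zero]
    exact hf
  -- the eigen-projections
  let φ : ℕ → M → F := fun j a => ∑ i ∈ Finset.range p, ((ζ⁻¹) ^ j) ^ i * ψ ((σ ^ i) a)
  have hφmul : ∀ j a b, φ j (a * b) = φ j a + φ j b := by
    intro j a b
    simp only [φ]
    rw [← Finset.sum_add_distrib]
    refine Finset.sum_congr rfl fun i _ => ?_
    rw [map_mul, hψmul, mul_add]
  have hφone : ∀ j, φ j 1 = 0 := by
    intro j
    have := hφmul j 1 1
    rw [mul_one] at this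
    exact left_eq_add.mp this
  have hφσ : ∀ j a, φ j (σ a) = ζ ^ j * φ j a := by
    intro j a
    simp only [φ]
    set ω := (ζ⁻¹) ^ j with hω
    have hωp : ω ^ p = 1 := by
      rw [hω, ← pow_mul, mul_comm, pow_mul, inv_pow, hζp, inv_one, one_pow]
    have hωζ : ζ ^ j * ω = 1 := by
      rw [hω, inv_pow, mul_inv_cancel₀ (pow_ne_zero j hζ0)]
    have h1 : ∀ i, ω ^ i * ψ ((σ ^ i) (σ a)) = ζ ^ j * (ω ^ (i + 1) * ψ ((σ ^ (i + 1)) a)) := by
      intro i
      rw [pow_succ σ i, MulAut.mul_apply, pow_succ ω i]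
      calc ω ^ i * ψ ((σ ^ i) (σ a)) = (ζ ^ j * ω) * (ω ^ i * ψ ((σ ^ i) (σ a))) := by
            rw [hωζ, one_mul]
        _ = ζ ^ j * (ω ^ i * ω * ψ ((σ ^ i) (σ a))) := by ring
    have hshift : ∑ i ∈ Finset.range p, ω ^ (i + 1) * ψ ((σ ^ (i + 1)) a) =
        ∑ i ∈ Finset.range p, ω ^ i * ψ ((σ ^ i) a) := by
      have h2 := Finset.sum_range_succ (fun i => ω ^ i * ψ ((σ ^ i) a)) p
      have h3 := Finset.sum_range_succ' (fun i => ω ^ i * ψ ((σ ^ i) a)) p
      rw [h2] at h3
      simp only [hωp, hσ, pow_zero, MulAut.one_apply, one_mul] at h3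
      exact (add_right_cancel h3).symm
    rw [Finset.sum_congr rfl (fun i _ => h1 i), ← Finset.mul_sum, hshift]
  -- the sum of the projections
  have hsum : ∀ a, ∑ j ∈ Finset.range p, φ j a = (p : F) * ψ a := by
    intro a
    simp only [φ]
    rw [Finset.sum_comm]
    have h1 : ∀ i ∈ Finset.range p, ∑ j ∈ Finset.range p, ((ζ⁻¹) ^ j) ^ i * ψ ((σ ^ i) a) =
        if i = 0 then (p : F) * ψ a else 0 := by
      intro i hi
      have hip : i < p := Finset.mem_range.mp hi
      by_cases hi0 : i = 0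
      · subst hi0
        simp
      · rw [if_neg hi0, ← Finset.sum_mul]
        have h2 : ∀ j, ((ζ⁻¹) ^ j) ^ i = ((ζ⁻¹) ^ i) ^ j := by
          intro j; rw [← pow_mul, ← pow_mul, mul_comm]
        rw [Finset.sum_congr rfl (fun j _ => h2 j)]
        set η := (ζ⁻¹) ^ i with hη
        have hne : η ≠ 1 := by
          intro h
          rw [hη, inv_pow, inv_eq_one] at h
          have := orderOf_dvd_of_pow_eq_one h
          rw [hζord] at this
          have := Nat.le_of_dvd (Nat.pos_of_ne_zero hi0) this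
          omega
        have hηp : η ^ p = 1 := by
          rw [hη, ← pow_mul, mul_comm, pow_mul, inv_pow, hζp, inv_one, one_pow]
        rw [geom_sum_eq hne, hηp, sub_self, zero_div, zero_mul]
    rw [Finset.sum_congr rfl h1, Finset.sum_ite_eq' (Finset.range p) 0 (fun _ => (p : F) * ψ a)]
    rw [if_pos (Finset.mem_range.mpr hpp.pos)]
  -- some projection is nonzero at `a₀`
  have hpF : (p : F) ≠ 0 := by
    intro h
    have h1 : (q : ℕ) ∣ p := (CharP.cast_eq_zero_iff F q p).mp h
    exact hpq ((Nat.prime_dvd_prime_iff_eq hqp hpp).mp h1).symm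
  obtain ⟨j, hj⟩ : ∃ j, φ j a₀ ≠ 0 := by
    by_contra hcon
    push Not at hcon
    have := hsum a₀
    rw [Finset.sum_eq_zero (fun j _ => hcon j)] at this
    exact mul_ne_zero hpF hψa₀ this.symm
  -- the kernel of `φ j` is an invariant subgroup
  have hφinv : ∀ a, φ j a⁻¹ = - φ j a := by
    intro a
    have := hφmul j a a⁻¹
    rw [mul_inv_cancel, hφone] at this
    exact (neg_eq_of_add_eq_zero_right this.symm).symm
  let B : Subgroup M :=
    { carrier := {a | φ j a = 0}
      one_mem' := hφone j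
      mul_mem' := by
        intro a b ha hb
        have ha' : φ j a = 0 := ha
        have hb' : φ j b = 0 := hb
        show φ j (a * b) = 0
        rw [hφmul, ha', hb', add_zero]
      inv_mem' := by
        intro a ha
        have ha' : φ j a = 0 := ha
        show φ j a⁻¹ = 0
        rw [hφinv, ha', neg_zero] }
  have hBinv : ∀ b ∈ B, σ b ∈ B := by
    intro b hb
    show φ j (σ b) = 0
    rw [hφσ, hb, mul_zero]
  have hBbot : B = ⊥ := by
    rcases hirr B hBinv with h | h
    · exact h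
    · exfalso
      have : a₀ ∈ B := by rw [h]; trivial
      exact hj this
  have hinj : Function.Injective (φ j) := by
    intro a b hab
    have h1 : a * b⁻¹ ∈ B := by
      show φ j (a * b⁻¹) = 0
      rw [hφmul, hφinv, hab, add_neg_cancel]
    rw [hBbot, Subgroup.mem_bot] at h1
    exact mul_inv_eq_one.mp h1
  have hle : Nat.card M ≤ Nat.card F := Nat.card_le_card_of_injective _ hinj
  rw [hm, hFcard] at hle
  have hme : m ≤ e := (Nat.pow_le_pow_iff_right hqp.one_lt).mp hle
  have hem' : e ≤ m := Nat.le_of_dvd (Nat.pos_of_ne_zero hm0) hem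
  rw [hm, le_antisymm hme hem']

end

end Cfsg.Agent.Lib.Helper7

namespace Cfsg.Agent.Lib.Helper7

/-- version of `card_eq_of_irreducible` for a `Group` with a commutativity hypothesis -/
theorem card_eq_of_irreducible' {M : Type*} [Group M] [Finite M] {p q : ℕ} [hp : Fact p.Prime]
    [hq : Fact q.Prime] (hcomm : ∀ a b : M, a * b = b * a)
    (hpq : p ≠ q) (hexp : ∀ a : M, a ^ q = 1) [hnt : Nontrivial M]
    (σ : MulAut M) (hσ : σ ^ p = 1) (hfpf : ∀ a : M, σ a = a → a = 1)
    (hirr : ∀ B : Subgroup M, (∀ b ∈ B, σ b ∈ B) → B = ⊥ ∨ B = ⊤) :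
    Nat.card M = q ^ orderOf (q : ZMod p) := by
  letI : CommGroup M := { ‹Group M› with mul_comm := hcomm }
  exact card_eq_of_irreducible hpq hexp σ hσ hfpf hirr

/-- a subgroup normalised by two subgroups generating the group is normal -/
theorem normal_of_sup_eq_top {G : Type*} [Group G] [Finite G] {H K B : Subgroup G}
    (hHK : H ⊔ K = ⊤)
    (hH : ∀ h ∈ H, ∀ b ∈ B, h * b * h⁻¹ ∈ B) (hK : ∀ k ∈ K, ∀ b ∈ B, k * b * k⁻¹ ∈ B) :
    B.Normal := by
  rw [← Subgroup.normalizer_eq_top_iff, eq_top_iff, ← hHK]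
  exact sup_le (fun h hh => Subgroup.mem_normalizer_fintype (hH h hh))
    (fun k hk => Subgroup.mem_normalizer_fintype (hK k hk))

/-- a subgroup of prime index is maximal -/
theorem eq_or_eq_top_of_index_prime {G : Type*} [Group G] [Finite G] {p : ℕ} (hp : p.Prime)
    (A : Subgroup G) (hidx : A.index = p) (K : Subgroup G) (hAK : A ≤ K) : K = A ∨ K = ⊤ := by
  have h := Subgroup.relIndex_mul_index hAK
  rw [hidx] at h
  rcases (Nat.dvd_prime hp).mp (Dvd.intro_left _ h) with h1 | h1
  · right; exact Subgroup.index_eq_one.mp h1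
  · left
    rw [h1] at h
    have h2 : A.relIndex K = 1 := by
      have := hp.pos
      nlinarith
    exact le_antisymm (Subgroup.relIndex_eq_one.mp h2) hAK

end Cfsg.Agent.Lib.Helper7
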