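import Mathlib
import Cfsg.Agent.Lib.Helper2.MinNormalPower
import Cfsg.Agent.Lib.Helper7.Schur8

set_option autoImplicit false

/-!
# The socle of a finite primitive permutation group
-/

namespace Cfsg.Agent.Lib.Helper7.PrimSocle

open MulAction

universe u v

/-- `(Fin a → T) × (Fin b → T) ≃* (Fin (a + b) → T)` -/
def piSumMulEquiv (T : Type*) [Group T] (a b : ℕ) :
    (Fin a → T) × (Fin b → T) ≃* (Fin (a + b) → T) where
  toFun x := Fin.append x.1 x.2
  invFun f := (fun i => f (Fin.castAdd b i), fun j => f (Fin.natAdd a j))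
  left_inv := by
    rintro ⟨x, y⟩
    simp
  right_inv f := by
    funext i
    refine Fin.addCases (fun j => ?_) (fun j => ?_) i <;> simp
  map_mul' x y := by
    funext i
    refine Fin.addCases (fun j => ?_) (fun j => ?_) i <;> simp

section

variable {G : Type u} {Ω : Type v} [Group G] [MulAction G Ω]

/-- minimal normal subgroups -/
def IsMinNormal (V : Subgroup G) : Prop :=
  V.Normal ∧ V ≠ ⊥ ∧ ∀ M : Subgroup G, M.Normal → M ≤ V → M = ⊥ ∨ M = V

/-- an element centralizing a transitive subgroup and fixing a point acts trivially -/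
theorem smul_eq_of_centralizer {V : Subgroup G} (hV : ∀ a b : Ω, ∃ v ∈ V, v • a = b) {c : G}
    (hc : c ∈ Subgroup.centralizer (V : Set G)) {ω : Ω} (hω : c • ω = ω) (x : Ω) : c • x = x := by
  obtain ⟨u, hu, rfl⟩ := hV ω x
  have h1 : u * c = c * u := (Subgroup.mem_centralizer_iff.mp hc) u hu
  rw [← mul_smul, ← h1, mul_smul, hω]

theorem eq_one_of_centralizer [FaithfulSMul G Ω] {V : Subgroup G}
    (hV : ∀ a b : Ω, ∃ v ∈ V, v • a = b) {c : G}
    (hc : c ∈ Subgroup.centralizer (V : Set G)) {ω : Ω} (hω : c • ω = ω) : c = 1 := by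
  apply FaithfulSMul.eq_of_smul_eq_smul (α := Ω)
  intro x
  rw [one_smul]
  exact smul_eq_of_centralizer hV hc hω x

/-- if `W` is transitive and centralizes the transitive subgroup `V`, it is the full centralizer -/
theorem centralizer_le [FaithfulSMul G Ω] {V W : Subgroup G}
    (hV : ∀ a b : Ω, ∃ v ∈ V, v • a = b) (hW : ∀ a b : Ω, ∃ w ∈ W, w • a = b)
    (hWV : W ≤ Subgroup.centralizer (V : Set G)) (ω : Ω) :
    Subgroup.centralizer (V : Set G) ≤ W := by
  intro c hc
  obtain ⟨w, hw, hwc⟩ := hW ω (c • ω)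
  have h1 : w⁻¹ * c ∈ Subgroup.centralizer (V : Set G) :=
    Subgroup.mul_mem _ (Subgroup.inv_mem _ (hWV hw)) hc
  have h2 : (w⁻¹ * c) • ω = ω := by
    rw [mul_smul, ← hwc, inv_smul_smul]
  have h3 := eq_one_of_centralizer hV h1 h2
  have h4 : c = w := by
    rw [inv_mul_eq_one] at h3
    exact h3.symm
  rw [h4]
  exact hw

/-- nontrivial normal subgroups of a faithful primitive group are transitive -/
theorem transitive_of_normal [FaithfulSMul G Ω] (hprim : IsPreprimitive G Ω) {V : Subgroup G}
    (hVn : V.Normal) (hV : V ≠ ⊥) : ∀ a b : Ω, ∃ v ∈ V, v • a = b := by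
  haveI := hprim
  haveI := hVn
  have hfp : fixedPoints V Ω ≠ Set.univ := by
    intro h
    apply hV
    rw [eq_bot_iff]
    intro v hv
    rw [Subgroup.mem_bot]
    apply FaithfulSMul.eq_of_smul_eq_smul (α := Ω)
    intro x
    rw [one_smul]
    have hx : x ∈ fixedPoints V Ω := by
      rw [h]
      trivial
    exact hx ⟨v, hv⟩
  haveI : IsPretransitive V Ω := IsQuasiPreprimitive.isPretransitive_of_normal hfp
  intro a b
  obtain ⟨v, hv⟩ := exists_smul_eq V a b
  exact ⟨v.1, v.2, hv⟩

/-- distinct minimal normal subgroups intersect trivially -/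
theorem inf_eq_bot_of_ne {V W : Subgroup G} (hV : IsMinNormal V) (hW : IsMinNormal W)
    (hne : W ≠ V) : V ⊓ W = ⊥ := by
  haveI := hV.1
  haveI := hW.1
  rcases hV.2.2 (V ⊓ W) (Subgroup.normal_inf_normal V W) inf_le_left with h | h
  · exact h
  · exfalso
    have hVW : V ≤ W := by
      rw [← h]
      exact inf_le_right
    rcases hW.2.2 V hV.1 hVW with h' | h'
    · exact hV.2.1 h'
    · exact hne h'.symm

theorem le_centralizer_of_ne {V W : Subgroup G} (hV : IsMinNormal V) (hW : IsMinNormal W)
    (hne : W ≠ V) : W ≤ Subgroup.centralizer (V : Set G) := by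
  intro w hw
  rw [Subgroup.mem_centralizer_iff]
  intro v hv
  exact (Subgroup.commute_of_normal_of_disjoint V W hV.1 hW.1
    (disjoint_iff.mpr (inf_eq_bot_of_ne hV hW hne)) v w hv hw).eq

end

section abelian

variable {G : Type u} {Ω : Type v} [Group G] [Finite G] [MulAction G Ω] [FaithfulSMul G Ω]

/-- an abelian minimal normal subgroup of a primitive group is the unique minimal normal
subgroup, is regular and elementary abelian -/
theorem abelian_case (hprim : IsPreprimitive G Ω) {V : Subgroup G} (hV : IsMinNormal V)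
    (hab : ∀ a ∈ V, ∀ b ∈ V, a * b = b * a) :
    (∀ W : Subgroup G, IsMinNormal W → W = V) ∧
      ∃ p : ℕ, p.Prime ∧ (∀ x ∈ V, x ^ p = 1) ∧ (∀ a b : Ω, ∃ v ∈ V, v • a = b) ∧
        ∀ (ω : Ω), ∀ v ∈ V, v • ω = ω → v = 1 := by
  have htr := transitive_of_normal hprim hV.1 hV.2.1
  have hVc : V ≤ Subgroup.centralizer (V : Set G) := by
    intro a ha
    rw [Subgroup.mem_centralizer_iff]
    intro b hb
    exact hab b hb a ha
  have hreg : ∀ (ω : Ω), ∀ v ∈ V, v • ω = ω → v = 1 :=
    fun ω v hv hω => eq_one_of_centralizer htr (hVc hv) hω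
  refine ⟨?_, ?_⟩
  · intro W hW
    by_contra hne
    -- a point
    have hne' : Nonempty Ω := by
      by_contra hemp
      rw [not_nonempty_iff] at hemp
      apply hV.2.1
      rw [eq_bot_iff]
      intro v _
      rw [Subgroup.mem_bot]
      apply FaithfulSMul.eq_of_smul_eq_smul (α := Ω)
      intro x
      exact hemp.elim x
    obtain ⟨ω⟩ := hne'
    have h1 := le_centralizer_of_ne hV hW hne
    have h2 : Subgroup.centralizer (V : Set G) ≤ V := centralizer_le htr htr hVc ω
    have h3 : W ≤ V := h1.trans h2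
    rcases hV.2.2 W hW.1 h3 with h | h
    · exact hW.2.1 h
    · exact hne h
  · have hcard : Nat.card V ≠ 1 := by
      intro h
      exact hV.2.1 (Subgroup.card_eq_one.mp h)
    obtain ⟨p, hp, hpV⟩ := Nat.exists_prime_and_dvd hcard
    haveI : Fact p.Prime := ⟨hp⟩
    refine ⟨p, hp, ?_, htr, hreg⟩
    let K : Subgroup G :=
      { carrier := {x | x ∈ V ∧ x ^ p = 1}
        one_mem' := ⟨V.one_mem, one_pow _⟩
        mul_mem' := by
          rintro a b ⟨ha, ha'⟩ ⟨hb, hb'⟩
          refine ⟨V.mul_mem ha hb, ?_⟩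
          have hc : Commute a b := hab a ha b hb
          rw [hc.mul_pow, ha', hb', one_mul]
        inv_mem' := by
          rintro a ⟨ha, ha'⟩
          exact ⟨V.inv_mem ha, by rw [inv_pow, ha', inv_one]⟩ }
    have hKn : K.Normal := by
      refine ⟨fun x hx g => ?_⟩
      refine ⟨hV.1.conj_mem x hx.1 g, ?_⟩
      rw [conj_pow, hx.2, mul_one, mul_inv_cancel]
    have hKV : K ≤ V := fun x hx => hx.1
    have hKne : K ≠ ⊥ := by
      obtain ⟨x, hx⟩ := exists_prime_orderOf_dvd_card' p hpV
      intro h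
      have h1 : (x : G) ∈ K := by
        refine ⟨x.2, ?_⟩
        have := pow_orderOf_eq_one x
        rw [hx] at this
        have h2 := congrArg Subtype.val this
        simpa using h2
      rw [h, Subgroup.mem_bot] at h1
      have h2 : x = 1 := Subtype.ext h1
      rw [h2, orderOf_one] at hx
      exact hp.one_lt.ne hx
    rcases hV.2.2 K hKn hKV with h | h
    · exact absurd h hKne
    · intro x hx
      rw [← h] at hx
      exact hx.2

end abelian

section nonabelian

variable {G : Type u} {Ω : Type v} [Group G] [Finite G] [MulAction G Ω] [FaithfulSMul G Ω]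

/-- two distinct minimal normal subgroups of a primitive group are isomorphic, and there is no
third one -/
theorem two_min_normal (hprim : IsPreprimitive G Ω) {V W : Subgroup G} (hV : IsMinNormal V)
    (hW : IsMinNormal W) (hne : W ≠ V) (ω : Ω) :
    Nonempty (V ≃* W) ∧ ∀ U : Subgroup G, IsMinNormal U → U = V ∨ U = W := by
  have htrV := transitive_of_normal hprim hV.1 hV.2.1
  have htrW := transitive_of_normal hprim hW.1 hW.2.1
  have hWV := le_centralizer_of_ne hV hW hne
  have hVW := le_centralizer_of_ne hW hV (Ne.symm hne)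
  have hcent : Subgroup.centralizer (V : Set G) ≤ W := centralizer_le htrV htrW hWV ω
  refine ⟨?_, ?_⟩
  · -- the isomorphism
    have hex : ∀ x : V, ∃ y : W, (y : G) • ω = (x : G)⁻¹ • ω := by
      intro x
      obtain ⟨w, hw, hwx⟩ := htrW ω ((x : G)⁻¹ • ω)
      exact ⟨⟨w, hw⟩, hwx⟩
    choose θ hθ using hex
    have hinjW : ∀ y y' : W, (y : G) • ω = (y' : G) • ω → y = y' := by
      intro y y' h
      have h1 : ((y' : G)⁻¹ * y) • ω = ω := by
        rw [mul_smul, h, inv_smul_smul]
      have h2 : (y' : G)⁻¹ * y ∈ Subgroup.centralizer (V : Set G) :=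
        hWV (W.mul_mem (W.inv_mem y'.2) y.2)
      have h3 := eq_one_of_centralizer htrV h2 h1
      rw [inv_mul_eq_one] at h3
      exact (Subtype.ext h3).symm
    have hinjV : ∀ x x' : V, (x : G) • ω = (x' : G) • ω → x = x' := by
      intro x x' h
      have h1 : ((x' : G)⁻¹ * x) • ω = ω := by
        rw [mul_smul, h, inv_smul_smul]
      have h2 : (x' : G)⁻¹ * x ∈ Subgroup.centralizer (W : Set G) :=
        hVW (V.mul_mem (V.inv_mem x'.2) x.2)
      have h3 := eq_one_of_centralizer htrW h2 h1
      rw [inv_mul_eq_one] at h3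
      exact (Subtype.ext h3).symm
    have hmul : ∀ a b : V, θ (a * b) = θ a * θ b := by
      intro a b
      apply hinjW
      rw [hθ]
      have hcomm : (θ a : G) * (b : G)⁻¹ = (b : G)⁻¹ * (θ a : G) := by
        have := (Subgroup.mem_centralizer_iff.mp (hWV (θ a).2)) ((b : G)⁻¹) (V.inv_mem b.2)
        exact this.symm
      calc ((a * b : V) : G)⁻¹ • ω = (b : G)⁻¹ • (a : G)⁻¹ • ω := by
            rw [Subgroup.coe_mul, mul_inv_rev, mul_smul]
        _ = (b : G)⁻¹ • (θ a : G) • ω := by rw [hθ a]
        _ = ((θ a : G) * (b : G)⁻¹) • ω := by rw [← mul_smul, ← hcomm]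
        _ = (θ a : G) • (θ b : G) • ω := by rw [mul_smul, hθ b]
        _ = ((θ a * θ b : W) : G) • ω := by rw [Subgroup.coe_mul, mul_smul]
    let f : V →* W := MonoidHom.mk' θ hmul
    have hbij : Function.Bijective f := by
      constructor
      · intro a b hab
        have h1 : θ a = θ b := hab
        have h2 : (a : G)⁻¹ • ω = (b : G)⁻¹ • ω := by rw [← hθ a, ← hθ b, h1]
        have h3 : a⁻¹ = b⁻¹ := hinjV a⁻¹ b⁻¹ (by simpa using h2)
        exact inv_injective h3
      · intro y
        obtain ⟨v, hv, hvy⟩ := htrV ω ((y : G) • ω)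
        refine ⟨⟨v, hv⟩⁻¹, ?_⟩
        apply hinjW
        show (θ (⟨v, hv⟩⁻¹ : V) : G) • ω = (y : G) • ω
        rw [hθ]
        simpa using hvy
    exact ⟨MulEquiv.ofBijective f hbij⟩
  · intro U hU
    by_cases hUV : U = V
    · exact Or.inl hUV
    · right
      have h1 := le_centralizer_of_ne hV hU hUV
      have h2 : U ≤ W := h1.trans hcent
      rcases hW.2.2 U hU.1 h2 with h | h
      · exact absurd h hU.2.1
      · exact h

end nonabelian

end Cfsg.Agent.Lib.Helper7.PrimSocle
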