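import Mathlib
import Cfsg.Agent.Lib.Helper7.EP12
import Cfsg.Agent.Lib.Helper7.EP14
import Cfsg.Agent.Lib.Helper7.PrimSocle
import Cfsg.Agent.Lib.Helper7.F4D
import Cfsg.Agent.Lib.Helper7.IrredCard

set_option autoImplicit false

/-!
# Soluble extremely primitive groups: preparation
-/

namespace Cfsg.Agent.Lib.Helper7.EP

open MulAction Cfsg.Agent.Lib.Helper7 Cfsg.Agent.Lib.Helper7.PrimSocle

/-- a nontrivial finite solvable group has an abelian minimal normal subgroup -/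
theorem exists_abelian_minNormal {G : Type*} [Group G] [Finite G] [Nontrivial G]
    (hsolv : Group.IsSolvable G) :
    ∃ V : Subgroup G, IsMinNormal V ∧ ∀ a ∈ V, ∀ b ∈ V, a * b = b * a := by
  classical
  obtain ⟨r, _, W, hWn, hWne, _, hWc, _⟩ := F4.exists_invariant_abelian_pgroup hsolv
  let s : Set (Subgroup G) := {M | M.Normal ∧ M ≠ ⊥ ∧ M ≤ W}
  have hsfin : s.Finite := Set.toFinite s
  have hsne : s.Nonempty := ⟨W, hWn, hWne, le_rfl⟩
  obtain ⟨V, hV⟩ := hsfin.exists_minimal hsne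
  obtain ⟨⟨hVn, hVne, hVW⟩, hVmin⟩ := hV
  refine ⟨V, ⟨hVn, hVne, ?_⟩, fun a ha b hb => hWc a (hVW ha) b (hVW hb)⟩
  intro M hMn hMV
  by_cases hM : M = ⊥
  · exact Or.inl hM
  · right
    exact le_antisymm hMV (hVmin ⟨hMn, hM, hMV.trans hVW⟩ hMV)

/-- irreducibility of the action of `T` on the regular normal subgroup `V`, when the orbits of
the point stabilizer coincide with those of `T` -/
theorem irred_of_ep {G : Type*} [Group G] [Finite G] {Ω : Type*} [MulAction G Ω]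
    (α : Ω) (V : Subgroup G) (hV : IsMinNormal V) (hVc : ∀ a ∈ V, ∀ b ∈ V, a * b = b * a)
    (hVtr : ∀ a b : Ω, ∃ v ∈ V, v • a = b) (hVfree : ∀ (ω : Ω), ∀ v ∈ V, v • ω = ω → v = 1)
    (hHmax : IsCoatom (stabilizer G α)) (hnt : ∃ ω : Ω, ω ≠ α)
    (T : Subgroup G)
    (hdec : ∀ ω : Ω, ω ≠ α → ∀ h ∈ stabilizer G α, ∃ t ∈ T, ∃ s ∈ stabilizer G α,
      s • ω = ω ∧ h = t * s)
    (B : Subgroup G) (hBV : B ≤ V) (hB : ∀ t ∈ T, ∀ b ∈ B, t * b * t⁻¹ ∈ B) :
    B = ⊥ ∨ B = V := by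
  haveI := hV.1
  apply hV.2.2 B _ hBV
  have hsup : V ⊔ stabilizer G α = ⊤ := by
    rcases hHmax.le_iff.mp (le_sup_right : stabilizer G α ≤ V ⊔ stabilizer G α) with h | h
    · exact h
    · exfalso
      obtain ⟨ω, hω⟩ := hnt
      obtain ⟨v, hv, hvω⟩ := hVtr α ω
      have : v ∈ stabilizer G α := by
        rw [← h]
        exact Subgroup.mem_sup_left hv
      exact hω (hvω.symm.trans (mem_stabilizer_iff.mp this))
  apply normal_of_sup_eq_top hsup
  · intro v hv b hb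
    have := hVc v hv b (hBV hb)
    rw [this, mul_inv_cancel_right]
    exact hb
  · intro h hh b hb
    by_cases hb1 : b = 1
    · rw [hb1, mul_one, mul_inv_cancel]
      exact B.one_mem
    have hω : b • α ≠ α := fun hcon => hb1 (hVfree α b (hBV hb) hcon)
    obtain ⟨t, ht, s, hs, hsω, rfl⟩ := hdec _ hω h hh
    have hsα : s • α = α := mem_stabilizer_iff.mp hs
    have hsα' : s⁻¹ • α = α := by
      rw [inv_smul_eq_iff, hsα]
    have h1 : s * b * s⁻¹ = b := by
      have hmem : b⁻¹ * (s * b * s⁻¹) ∈ V :=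
        V.mul_mem (V.inv_mem (hBV hb)) (hV.1.conj_mem b (hBV hb) s)
      have hfix : (b⁻¹ * (s * b * s⁻¹)) • α = α := by
        rw [mul_smul, mul_smul, mul_smul, hsα', hsω, inv_smul_smul]
      have := hVfree α _ hmem hfix
      calc s * b * s⁻¹ = b * (b⁻¹ * (s * b * s⁻¹)) := by group
        _ = b := by rw [this, mul_one]
    have h2 : t * s * b * (t * s)⁻¹ = t * (s * b * s⁻¹) * t⁻¹ := by group
    rw [h2, h1]
    exact hB t ht b hb

end Cfsg.Agent.Lib.Helper7.EP
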