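import Mathlib
import Cfsg.Agent.Lib.Helper7.EP15
import Cfsg.Agent.Lib.Lead.FpfCyclic
import Cfsg.Agent.Lib.Lead.Core

set_option autoImplicit false
set_option maxHeartbeats 1600000

/-!
# Soluble extremely primitive groups
-/

namespace Cfsg.Agent.Lib.Helper7.EP

open MulAction Cfsg.Agent.Lib.Helper7 Cfsg.Agent.Lib.Helper7.PrimSocle Cfsg.Agent.Lib.Lead
  Cfsg.Agent.Lib.Helper7.PUD

theorem soluble_main {G : Type*} [Group G] [Finite G] {Ω : Type*} [Fintype Ω] [MulAction G Ω]
    [FaithfulSMul G Ω] [Group.IsSolvable G] (p d : ℕ) (hp : p.Prime)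
    (hcard : Fintype.card Ω = p ^ d) (hprim : IsPreprimitive G Ω)
    (hH : ∀ α : Ω, stabilizer G α ≠ ⊥)
    (hep : ∀ (α ω : Ω), IsPreprimitive (stabilizer G α) (orbit (stabilizer G α) ω)) (α : Ω) :
    ∃ q : ℕ, q.Prime ∧ (∀ ω : Ω, ω ≠ α → Nat.card (orbit (stabilizer G α) ω) = q) ∧
      q ∣ p ^ d - 1 ∧ (∀ i : ℕ, 0 < i → i < d → ¬ q ∣ p ^ i - 1) ∧
      ∃ T : Subgroup G, T ≤ stabilizer G α ∧ stabilizer G α ≤ Subgroup.normalizer (T : Set G) ∧
        Nat.card T = q ∧ (∃ h : G, stabilizer G α = T ⊔ Subgroup.zpowers h) ∧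
        Nat.card (stabilizer G α) ∣ q * d := by
  classical
  haveI : Fact p.Prime := ⟨hp⟩
  obtain ⟨hHmax, htr, hmax⟩ := ep_basic hprim hep α (hH α)
  have hcf := coreFreeMax_stabilizer α hHmax htr hmax
  set H := stabilizer G α with hHdef
  -- a point different from `α`
  obtain ⟨ω₀, hω₀⟩ : ∃ ω : Ω, ω ≠ α := by
    by_contra hcon
    push Not at hcon
    apply hH α
    rw [eq_bot_iff]
    intro g _
    rw [Subgroup.mem_bot]
    apply FaithfulSMul.eq_of_smul_eq_smul (α := Ω)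
    intro ω
    rw [hcon ω, one_smul, hcon (g • α)]
  haveI : Nontrivial H := (Subgroup.nontrivial_iff_ne_bot H).mpr (hH α)
  haveI : Nontrivial G := by
    obtain ⟨a, b, hab⟩ := exists_pair_ne H
    exact ⟨⟨a, b, fun h => hab (Subtype.ext h)⟩⟩
  -- the regular normal subgroup
  obtain ⟨V, hV, hVc⟩ := exists_abelian_minNormal (G := G) inferInstance
  obtain ⟨_, r, hr, hVexp, hVtr, hVfree⟩ := abelian_case hprim hV hVc
  haveI hVn : V.Normal := hV.1
  have hVcard : Nat.card V = p ^ d := by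
    rw [← hcard, ← Nat.card_eq_fintype_card]
    apply Nat.card_congr
    refine Equiv.ofBijective (fun v : V => (v : G) • α) ⟨?_, ?_⟩
    · intro v w hvw
      have h1 : ((w : G)⁻¹ * (v : G)) • α = α := by
        rw [mul_smul, inv_smul_eq_iff]
        exact hvw
      have h2 := hVfree α _ (V.mul_mem (V.inv_mem w.2) v.2) h1
      apply Subtype.ext
      calc (v : G) = (w : G) * ((w : G)⁻¹ * (v : G)) := by group
        _ = w := by rw [h2, mul_one]
    · intro ω
      obtain ⟨v, hv, hvω⟩ := hVtr α ω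
      exact ⟨⟨v, hv⟩, hvω⟩
  haveI hVnt : Nontrivial V := (Subgroup.nontrivial_iff_ne_bot V).mpr hV.2.1
  have hd0 : d ≠ 0 := by
    intro h0
    rw [h0, pow_zero] at hVcard
    have := (Nat.card_eq_one_iff_unique.mp hVcard).1
    exact not_subsingleton V this
  -- `V` has exponent `p`
  have hrp : r = p := by
    obtain ⟨x, hxV, hx1⟩ : ∃ x ∈ V, x ≠ 1 := by
      by_contra hall
      push Not at hall
      exact hV.2.1 ((Subgroup.eq_bot_iff_forall V).mpr hall)
    haveI : Fact r.Prime := ⟨hr⟩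
    have h1 : orderOf x = r := orderOf_eq_prime (hVexp x hxV) hx1
    have h2 : r ∣ p ^ d := by
      rw [← h1, ← hVcard]
      exact Subgroup.orderOf_dvd_natCard V hxV
    exact (Nat.prime_dvd_prime_iff_eq hr hp).mp (hr.dvd_of_dvd_pow h2)
  rw [hrp] at hVexp
  -- the Fitting subgroup of `H`
  set F := Cfsg.fittingSubgroup H with hFdef
  haveI hFn : F.Normal := fittingSubgroup_normal
  have hFnil : Group.IsNilpotent F := fittingSubgroup_isNilpotent
  have hFb : F ≠ ⊥ := by
    obtain ⟨r', hr', W, hWn, hWne, hWp, _, _⟩ :=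
      F4.exists_invariant_abelian_pgroup (G := H) inferInstance
    haveI : Fact r'.Prime := ⟨hr'⟩
    have hWnil : Group.IsNilpotent W := hWp.isNilpotent
    intro h
    apply hWne
    have := le_fittingSubgroup hWn hWnil
    rw [← hFdef, h] at this
    exact le_bot_iff.mp this
  obtain ⟨hFc, hFcent, q, e, hq, hFcard, hFexp⟩ :=
    (hcf ω₀ hω₀).nilpotent_structure hFn hFb hFnil
  haveI : Fact q.Prime := ⟨hq⟩
  set T : Subgroup G := F.map H.subtype with hTdef
  have hTH : T ≤ H := Subgroup.map_subtype_le F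
  have hTcard' : Nat.card T = Nat.card F := Subgroup.card_map_of_injective H.subtype_injective
  have hTne : T ≠ ⊥ := by
    intro h
    exact hFb ((Subgroup.map_eq_bot_iff_of_injective _ H.subtype_injective).mp h)
  have hTcomm : IsMulCommutative T := by
    refine ⟨⟨?_⟩⟩
    rintro ⟨_, ⟨a, ha, rfl⟩⟩ ⟨_, ⟨b, hb, rfl⟩⟩
    apply Subtype.ext
    have := congrArg (fun z : H => (z : G)) (hFc a ha b hb)
    exact this
  have hTnorm : H ≤ Subgroup.normalizer (T : Set G) := by
    apply le_normalizer_of_conj_mem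
    rintro h hh _ ⟨k, hk, rfl⟩
    exact ⟨⟨h, hh⟩ * k * ⟨h, hh⟩⁻¹, hFn.conj_mem k hk ⟨h, hh⟩, rfl⟩
  have hTexp : ∀ t ∈ T, t ^ q = 1 := by
    rintro _ ⟨a, ha, rfl⟩
    have := hFexp a ha
    have h2 := congrArg Subtype.val this
    simpa using h2
  -- `T` acts fixed-point-freely on `V`
  have hfpf : ∀ a ∈ T, a ≠ 1 → V ⊓ Subgroup.centralizer {a} = ⊥ := by
    rintro _ ⟨a, ha, rfl⟩ ha1
    rw [eq_bot_iff]
    rintro v ⟨hvV, hvc⟩
    rw [Subgroup.mem_bot]
    by_contra hv1
    have hω : v • α ≠ α := fun hcon => hv1 (hVfree α v hvV hcon)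
    have hcomm : (a : G) * v = v * (a : G) :=
      (Subgroup.mem_centralizer_iff.mp hvc) (a : G) (Set.mem_singleton _)
    have haα : (a : G) • α = α := mem_stabilizer_iff.mp a.2
    have h1 : a ∈ F ⊓ (stabilizer G (v • α)).subgroupOf H := by
      refine Subgroup.mem_inf.mpr ⟨ha, ?_⟩
      rw [Subgroup.mem_subgroupOf, mem_stabilizer_iff, ← mul_smul, hcomm, mul_smul, haα]
    rw [(hcf _ hω).inf_eq_bot hFn hFb hFc, Subgroup.mem_bot] at h1
    apply ha1
    rw [h1]
    rfl
  have hTV : T ≤ Subgroup.normalizer (V : Set G) := by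
    rw [Subgroup.normalizer_eq_top_iff.mpr hVn]
    exact le_top
  have hTcyc : IsCyclic T := isCyclic_of_fpf_abelian T V hV.2.1 hTV hfpf hTcomm
  have hTcard : Nat.card T = q := by
    obtain ⟨g, hg⟩ := hTcyc.exists_generator
    have h1 : orderOf g = Nat.card T := orderOf_eq_card_of_forall_mem_zpowers hg
    have h2 : g ^ q = 1 := Subtype.ext (by simpa using hTexp g g.2)
    have h3 : Nat.card T ∣ q := by
      rw [← h1]
      exact orderOf_dvd_of_pow_eq_one h2
    rcases (Nat.dvd_prime hq).mp h3 with h | h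
    · exfalso
      exact hTne (Subgroup.card_eq_one.mp h)
    · exact h
  have hFcardq : Nat.card F = q := hTcard' ▸ hTcard
  -- decomposition of `H`
  have hcompl : ∀ ω : Ω, ω ≠ α → F.IsComplement' ((stabilizer G ω).subgroupOf H) := by
    intro ω hω
    apply Subgroup.isComplement'_of_disjoint_and_mul_eq_univ
    · rw [disjoint_iff]
      exact (hcf ω hω).inf_eq_bot hFn hFb hFc
    · rw [← Subgroup.normal_mul, (hcf ω hω).sup_eq_top hFn hFb]
      rfl
  have hdec : ∀ ω : Ω, ω ≠ α → ∀ h ∈ H, ∃ t ∈ T, ∃ s ∈ H, s • ω = ω ∧ h = t * s := by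
    intro ω hω h hh
    have h1 : (⟨h, hh⟩ : H) ∈ ((F ⊔ (stabilizer G ω).subgroupOf H : Subgroup H) : Set H) := by
      rw [(hcf ω hω).sup_eq_top hFn hFb]
      trivial
    rw [Subgroup.normal_mul] at h1
    obtain ⟨f, hf, s, hs, hfs⟩ := h1
    refine ⟨f, ⟨f, hf, rfl⟩, s, s.2, ?_, ?_⟩
    · have := hs
      rw [SetLike.mem_coe, Subgroup.mem_subgroupOf, mem_stabilizer_iff] at this
      exact this
    · have := congrArg Subtype.val hfs
      exact this.symm
  -- orbit sizes
  have horb : ∀ ω : Ω, ω ≠ α → Nat.card (orbit H ω) = q := by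
    intro ω hω
    have h1 : stabilizer H ω = (stabilizer G ω).subgroupOf H := by
      ext h
      rw [mem_stabilizer_iff, Subgroup.mem_subgroupOf, mem_stabilizer_iff]
      rfl
    rw [Nat.card_coe_set_eq, ← index_stabilizer, h1, (hcompl ω hω).index_eq_card, hFcardq]
  -- congruence
  have hmod : p ^ d ≡ 1 [MOD q] := by
    rw [← hVcard]
    exact Cfsg.Agent.Lib.Lead.card_modEq_one_of_fpf V T q (IsPGroup.of_card (n := 1) (by rw [hTcard, pow_one])) hTV
      hTne hfpf
  have hqdvd : q ∣ p ^ d - 1 := (Nat.modEq_iff_dvd' (Nat.one_le_pow _ _ hp.pos)).mp hmod.symm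
  have hqp : q ≠ p := by
    intro h
    rw [h] at hqdvd
    have h1 : p ∣ p ^ d := dvd_pow_self p hd0
    have h2 : p ∣ 1 := by
      have h3 : p ^ d - (p ^ d - 1) = 1 := by
        have := Nat.one_le_pow d p hp.pos
        omega
      rw [← h3]
      exact Nat.dvd_sub h1 hqdvd
    exact hp.one_lt.ne' (Nat.dvd_one.mp h2)
  -- the action of `H` on `V`
  let ρ : H →* MulAut V := (MulAut.conjNormal (H := V)).comp H.subtype
  have hρ : ∀ (h : H) (v : V), ((ρ h v : V) : G) = (h : G) * v * (h : G)⁻¹ := fun h v => rfl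
  have hirr0 := irred_of_ep α V hV hVc hVtr hVfree hHmax ⟨ω₀, hω₀⟩ T hdec
  have hirr : ∀ B' : Subgroup V, (∀ t ∈ F, ∀ b ∈ B', ρ t b ∈ B') → B' = ⊥ ∨ B' = ⊤ := by
    intro B' hB'
    have h1 := hirr0 (B'.map V.subtype) (Subgroup.map_subtype_le B') (by
      rintro _ ⟨t', ht', rfl⟩ _ ⟨b, hb, rfl⟩
      exact ⟨ρ t' b, hB' t' ht' b hb, hρ t' b⟩)
    rcases h1 with h | h
    · left
      exact (Subgroup.map_eq_bot_iff_of_injective _ V.subtype_injective).mp h
    · right
      rw [eq_top_iff]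
      intro x _
      have hx : (x : G) ∈ B'.map V.subtype := by rw [h]; exact x.2
      obtain ⟨b, hb, hbx⟩ := hx
      have : b = x := Subtype.ext hbx
      exact this ▸ hb
  have hVcomm : ∀ a b : V, a * b = b * a := fun a b => Subtype.ext (hVc a a.2 b b.2)
  have hVexp' : ∀ v : V, v ^ p = 1 := fun v => Subtype.ext (by simpa using hVexp v v.2)
  obtain ⟨N, hNn, hNc, hNidx, h₀, hh₀⟩ :=
    galois_quotient' hVcomm p d hVexp' hVcard ρ F hFc hirr
  -- faithfulness
  have hfaith : ∀ x y : H, ρ x = ρ y → x = y := by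
    intro x y hxy
    have hc : (y : G)⁻¹ * (x : G) ∈ Subgroup.centralizer (V : Set G) := by
      rw [Subgroup.mem_centralizer_iff]
      intro v hv
      have h1 := congrArg (fun σ : MulAut V => ((σ ⟨v, hv⟩ : V) : G)) hxy
      simp only [hρ] at h1
      calc v * ((y : G)⁻¹ * (x : G)) = (y : G)⁻¹ * ((y : G) * v * (y : G)⁻¹) * (x : G) := by group
        _ = (y : G)⁻¹ * ((x : G) * v * (x : G)⁻¹) * (x : G) := by rw [h1]
        _ = (y : G)⁻¹ * (x : G) * v := by group
    have hfix : ((y : G)⁻¹ * (x : G)) • α = α :=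
      mem_stabilizer_iff.mp (H.mul_mem (H.inv_mem y.2) x.2)
    have h1 := eq_one_of_centralizer hVtr hc hfix
    apply Subtype.ext
    calc (x : G) = (y : G) * ((y : G)⁻¹ * (x : G)) := by group
      _ = y := by rw [h1, mul_one]
  have hNF : N ≤ F := by
    intro h hh
    rw [← hFcent, Subgroup.mem_centralizer_iff]
    intro t ht
    exact (hfaith _ _ (hNc h hh t ht)).symm
  -- the order of `p` modulo `q`
  obtain ⟨t₀, ht₀F, ht₀1⟩ : ∃ t ∈ F, t ≠ 1 := by
    by_contra hall
    push Not at hall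
    exact hFb ((Subgroup.eq_bot_iff_forall F).mpr hall)
  have hσq : (ρ t₀) ^ q = 1 := by
    rw [← map_pow, hFexp t₀ ht₀F, map_one]
  have hσfpf : ∀ a : V, ρ t₀ a = a → a = 1 := by
    intro a ha
    have ht₀T : (t₀ : G) ∈ T := ⟨t₀, ht₀F, rfl⟩
    have ht₀1' : (t₀ : G) ≠ 1 := fun h => ht₀1 (Subtype.ext h)
    have h1 : (a : G) ∈ V ⊓ Subgroup.centralizer {(t₀ : G)} := by
      refine Subgroup.mem_inf.mpr ⟨a.2, ?_⟩
      rw [Subgroup.mem_centralizer_iff]
      intro x hx
      rw [Set.mem_singleton_iff.mp hx]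
      have h2 := congrArg Subtype.val ha
      rw [hρ] at h2
      calc (t₀ : G) * a = ((t₀ : G) * a * (t₀ : G)⁻¹) * t₀ := by group
        _ = a * t₀ := by rw [h2]
    rw [hfpf _ ht₀T ht₀1', Subgroup.mem_bot] at h1
    exact Subtype.ext h1
  have hσirr : ∀ B' : Subgroup V, (∀ b ∈ B', ρ t₀ b ∈ B') → B' = ⊥ ∨ B' = ⊤ := by
    intro B' hB'
    apply hirr
    intro t ht b hb
    have hz : Subgroup.zpowers (⟨t₀, ht₀F⟩ : F) = ⊤ :=
      zpowers_eq_top_of_prime_card hFcardq (fun h => ht₀1 (congrArg Subtype.val h))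
    have ht' : (⟨t, ht⟩ : F) ∈ Submonoid.powers (⟨t₀, ht₀F⟩ : F) := by
      rw [mem_powers_iff_mem_zpowers, hz]
      trivial
    obtain ⟨k, hk⟩ := (Submonoid.mem_powers_iff _ _).mp ht'
    have hk' : t₀ ^ k = t := by
      have := congrArg Subtype.val hk
      simpa using this
    rw [← hk', map_pow]
    clear hk hk' ht'
    induction k generalizing b with
    | zero => rw [pow_zero]; exact hb
    | succ k ih =>
      rw [pow_succ, MulAut.mul_apply]
      exact ih _ (hB' b hb)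
  have hVcard2 : Nat.card V = p ^ orderOf (p : ZMod q) :=
    card_eq_of_irreducible' hVcomm hqp hVexp' (ρ t₀) hσq hσfpf hσirr
  have hdord : d = orderOf (p : ZMod q) := by
    rw [hVcard] at hVcard2
    exact Nat.pow_right_injective hp.two_le hVcard2
  refine ⟨q, hq, horb, hqdvd, ?_, T, hTH, hTnorm, hTcard, ⟨(h₀ : G), ?_⟩, ?_⟩
  · intro i hi hid hdvd
    have h1 : ((p : ZMod q)) ^ i = 1 := by
      have h2 := (ZMod.natCast_eq_zero_iff (p ^ i - 1) q).mpr hdvd
      rw [Nat.cast_sub (Nat.one_le_pow _ _ hp.pos), Nat.cast_pow, Nat.cast_one, sub_eq_zero] at h2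
      exact h2
    have h3 := orderOf_dvd_of_pow_eq_one h1
    rw [← hdord] at h3
    exact absurd (Nat.le_of_dvd hi h3) (not_le.mpr hid)
  · apply le_antisymm
    · intro x hx
      have h1 : (⟨x, hx⟩ : H) ∈ ((N ⊔ Subgroup.zpowers h₀ : Subgroup H) : Set H) := by
        rw [hh₀]
        trivial
      haveI := hNn
      rw [Subgroup.normal_mul] at h1
      obtain ⟨n, hn, z, hz, hnz⟩ := h1
      obtain ⟨k, hk⟩ := Subgroup.mem_zpowers_iff.mp hz
      have h2 : x = (n : G) * (h₀ : G) ^ k := by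
        have := congrArg Subtype.val hnz
        rw [← hk] at this
        simpa using this.symm
      rw [h2]
      exact Subgroup.mul_mem _ (Subgroup.mem_sup_left ⟨n, hNF hn, rfl⟩)
        (Subgroup.mem_sup_right (Subgroup.zpow_mem_zpowers _ k))
    · exact sup_le hTH (Subgroup.zpowers_le.mpr h₀.2)
  · rw [← Subgroup.index_mul_card N, mul_comm q d]
    apply mul_dvd_mul hNidx
    rw [← hFcardq]
    exact Subgroup.card_dvd_of_le hNF

end Cfsg.Agent.Lib.Helper7.EP
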