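import Mathlib
import Cfsg.Agent.Lib.Helper7.EP1

set_option autoImplicit false

/-!
# Extremely primitive groups: the holomorph-simple configuration, first consequences

`T` a finite nonabelian simple group, `H` acting on `T` by automorphisms and anti-automorphisms,
inducing all inner automorphisms, with all stabilizers of nonidentity elements maximal in `H`.
-/

namespace Cfsg.Agent.Lib.Helper7.EP

variable {T : Type*} [Group T] {H : Type*} [Group H]

/-- the holomorph-simple configuration -/
structure Setup (ρ : H →* Equiv.Perm T) : Prop where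
  aa : AutoAnti ρ
  inn : ∀ t : T, ∃ h : H, ∀ a : T, ρ h a = t * a * t⁻¹
  max : ∀ x : T, x ≠ 1 → IsCoatom (St ρ x)
  nonab : ∃ a b : T, a * b ≠ b * a

namespace Setup

variable {ρ : H →* Equiv.Perm T} (S : Setup ρ)
include S

theorem eq_of_le {x : T} (hx : x ≠ 1) {K : Subgroup H} (hle : St ρ x ≤ K) (hK : K ≠ ⊤) :
    K = St ρ x := by
  rcases (S.max x hx).le_iff.mp hle with h | h
  · exact (hK h).elim
  · exact h

theorem St_eq_of_le {x y : T} (hx : x ≠ 1) (hy : y ≠ 1) (hle : St ρ x ≤ St ρ y) :
    St ρ x = St ρ y :=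
  (S.eq_of_le hx hle (S.max y hy).1).symm

theorem commute_iff_mem_St {t : T} {h : H} (hh : ∀ a : T, ρ h a = t * a * t⁻¹) (x : T) :
    Commute t x ↔ h ∈ St ρ x := by
  rw [mem_St, hh x, mul_inv_eq_iff_eq_mul]
  rfl

theorem commute_iff_of_St_eq {x y : T} (hxy : St ρ x = St ρ y) (t : T) :
    Commute t x ↔ Commute t y := by
  obtain ⟨h, hh⟩ := S.inn t
  rw [S.commute_iff_mem_St hh x, S.commute_iff_mem_St hh y, hxy]

theorem center_trivial [IsSimpleGroup T] {x : T} (hx : x ≠ 1) : ∃ t : T, ¬ Commute t x := by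
  by_contra hcon
  push Not at hcon
  have hxc : x ∈ Subgroup.center T := by
    rw [Subgroup.mem_center_iff]
    intro g
    exact (hcon g).eq
  rcases (inferInstance : (Subgroup.center T).Normal).eq_bot_or_eq_top with h | h
  · rw [h, Subgroup.mem_bot] at hxc
    exact hx hxc
  · obtain ⟨a, b, hab⟩ := S.nonab
    apply hab
    have : b ∈ Subgroup.center T := h ▸ Subgroup.mem_top b
    exact (Subgroup.mem_center_iff.mp this a)

/-- the "normalizer of the centralizer of `x`" in `H` -/
def NC (_S : Setup ρ) (x : T) : Subgroup H where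
  carrier := {h | ∀ y : T, Commute y x ↔ Commute (ρ h y) x}
  one_mem' := by
    intro y
    rw [_root_.map_one]
    rfl
  mul_mem' := by
    intro a b ha hb y
    rw [rho_mul_apply]
    exact (hb y).trans (ha _)
  inv_mem' := by
    intro a ha y
    have := ha (ρ a⁻¹ y)
    rw [rho_apply_inv] at this
    exact this.symm

theorem St_le_NC (x : T) : St ρ x ≤ S.NC x := by
  intro h hh y
  rw [mem_St] at hh
  have := S.aa.commute_map_iff h (a := y) (b := x)
  rw [hh] at this
  exact this.symm

theorem NC_ne_top [IsSimpleGroup T] {x : T} (hx : x ≠ 1) : S.NC x ≠ ⊤ := by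
  intro htop
  -- the centralizer of `x` is normal
  have hnorm : (Subgroup.centralizer ({x} : Set T)).Normal := by
    constructor
    intro y hy t
    rw [Subgroup.mem_centralizer_singleton_iff] at hy ⊢
    obtain ⟨h, hh⟩ := S.inn t
    have hmem : h ∈ S.NC x := htop ▸ Subgroup.mem_top h
    have h1 : Commute y x := hy
    have h2 := (hmem y).mp h1
    rw [hh] at h2
    exact h2.eq
  rcases hnorm.eq_bot_or_eq_top with h | h
  · have : x ∈ Subgroup.centralizer ({x} : Set T) := by
      rw [Subgroup.mem_centralizer_singleton_iff]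
    rw [h, Subgroup.mem_bot] at this
    exact hx this
  · obtain ⟨t, ht⟩ := S.center_trivial hx
    apply ht
    have : t ∈ Subgroup.centralizer ({x} : Set T) := h ▸ Subgroup.mem_top t
    rw [Subgroup.mem_centralizer_singleton_iff] at this
    exact this

theorem NC_eq [IsSimpleGroup T] {x : T} (hx : x ≠ 1) : S.NC x = St ρ x :=
  S.eq_of_le hx (S.St_le_NC x) (S.NC_ne_top hx)

/-- the centralizer of a nonidentity element is self-normalizing -/
theorem commute_of_normalizes [IsSimpleGroup T] {x : T} (hx : x ≠ 1) {t : T}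
    (ht : ∀ y : T, Commute y x ↔ Commute (t * y * t⁻¹) x) : Commute t x := by
  obtain ⟨h, hh⟩ := S.inn t
  rw [S.commute_iff_mem_St hh x, ← S.NC_eq hx]
  intro y
  rw [hh]
  exact ht y

/-- commuting elements with different stabilizers have the same prime order -/
theorem orderOf_dvd_of_commute [Finite T] {x y : T} (hx : x ≠ 1) (hy : y ≠ 1) (hxy : Commute x y)
    (hne : St ρ x ≠ St ρ y) : orderOf y ∣ orderOf x := by
  apply orderOf_dvd_of_pow_eq_one
  by_contra hym
  set m := orderOf x with hm
  have hpow : (x * y) ^ m = y ^ m := by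
    rw [hxy.mul_pow, hm, pow_orderOf_eq_one, one_mul]
  have hxy1 : x * y ≠ 1 := by
    intro h
    rw [h, one_pow] at hpow
    exact hym hpow.symm
  have h1 : St ρ (x * y) = St ρ (y ^ m) := by
    apply S.St_eq_of_le hxy1 hym
    have := S.aa.St_le_St_pow (x * y) m
    rwa [hpow] at this
  have h2 : St ρ y = St ρ (y ^ m) := S.St_eq_of_le hy hym (S.aa.St_le_St_pow y m)
  have h3 : St ρ y ≤ St ρ x := by
    intro h hh
    have hxy' : h ∈ St ρ (x * y) := by rw [h1, ← h2]; exact hh
    have hyi : h ∈ St ρ y⁻¹ := by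
      rw [mem_St] at hh ⊢
      rw [S.aa.map_inv, hh]
    have hc : Commute (x * y) y⁻¹ := (hxy.mul_left (Commute.refl y)).inv_right
    have := S.aa.St_inf_le_St_mul hc ⟨hxy', hyi⟩
    rwa [mul_inv_cancel_right] at this
  exact hne (S.St_eq_of_le hy hx h3).symm

theorem orderOf_eq_of_commute [Finite T] {x y : T} (hx : x ≠ 1) (hy : y ≠ 1) (hxy : Commute x y)
    (hne : St ρ x ≠ St ρ y) : orderOf x = orderOf y :=
  Nat.dvd_antisymm (S.orderOf_dvd_of_commute hy hx hxy.symm (Ne.symm hne))
    (S.orderOf_dvd_of_commute hx hy hxy hne)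

theorem prime_orderOf_of_commute [Finite T] {x y : T} (hx : x ≠ 1) (hy : y ≠ 1)
    (hxy : Commute x y) (hne : St ρ x ≠ St ρ y) : (orderOf x).Prime := by
  have hpos : 0 < orderOf x := orderOf_pos x
  have hne1 : orderOf x ≠ 1 := by
    intro h
    exact hx (orderOf_eq_one_iff.mp h)
  obtain ⟨p, hp, hpd⟩ := Nat.exists_prime_and_dvd hne1
  by_contra hnp
  have hpm : p ≠ orderOf x := fun h => hnp (h ▸ hp)
  have hplt : p < orderOf x := lt_of_le_of_ne (Nat.le_of_dvd hpos hpd) hpm
  set x' := x ^ p with hx'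
  have hx'1 : x' ≠ 1 := by
    intro h
    have := orderOf_dvd_of_pow_eq_one h
    exact absurd (Nat.le_of_dvd hp.pos this) (not_le.mpr hplt)
  have hSt : St ρ x = St ρ x' := S.St_eq_of_le hx hx'1 (S.aa.St_le_St_pow x p)
  have hc : Commute x' y := hxy.pow_left p
  have h1 := S.orderOf_eq_of_commute hx'1 hy hc (hSt ▸ hne)
  have h2 := S.orderOf_eq_of_commute hx hy hxy hne
  have h3 : orderOf x' = orderOf x / p := by
    rw [hx', orderOf_pow' x hp.ne_zero, Nat.gcd_eq_right hpd]
  have h4 : orderOf x / p < orderOf x := Nat.div_lt_self hpos hp.one_lt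
  omega

/-- if some element of `C_T(x)` has a different stabilizer, then every nonidentity element of
`C_T(x)` has order `orderOf x`, which is prime -/
theorem orderOf_eq_of_mixed [Finite T] {x y : T} (hx : x ≠ 1) (hy : y ≠ 1) (hyx : Commute y x)
    (hne : St ρ y ≠ St ρ x) {z : T} (hz : z ≠ 1) (hzx : Commute z x) :
    orderOf z = orderOf x := by
  by_cases h : St ρ z = St ρ x
  · have hyz : Commute y z := (S.commute_iff_of_St_eq h y).mpr hyx
    have h1 := S.orderOf_eq_of_commute hz hy hyz.symm (h ▸ (Ne.symm hne))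
    have h2 := S.orderOf_eq_of_commute hy hx hyx hne
    exact h1.trans h2
  · exact S.orderOf_eq_of_commute hz hx hzx h

end Setup

end Cfsg.Agent.Lib.Helper7.EP
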