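import Mathlib
import Cfsg.Agent.Lib.Helper7.EP2

set_option autoImplicit false

/-!
# Extremely primitive groups: the holomorph-simple configuration, case A (Burnside transfer)
-/

namespace Cfsg.Agent.Lib.Helper7.EP

variable {T : Type*} [Group T] {H : Type*} [Group H]

/-- Burnside's transfer theorem excludes `N(P) ≤ C(P)` in a nonabelian simple group -/
theorem burnside_false [Finite T] [IsSimpleGroup T] (hna : ∃ a b : T, a * b ≠ b * a)
    {p : ℕ} [Fact p.Prime] (P : Sylow p T) (hPne : (P : Subgroup T) ≠ ⊥)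
    (hP : Subgroup.normalizer (P : Set T) ≤ Subgroup.centralizer (P : Set T)) : False := by
  have hc := MonoidHom.ker_transferSylow_isComplement' P hP
  rcases (MonoidHom.normal_ker (MonoidHom.transferSylow P hP)).eq_bot_or_eq_top with h | h
  · rw [h, Subgroup.isComplement'_bot_left] at hc
    obtain ⟨a, b, hab⟩ := hna
    apply hab
    have ha : a ∈ Subgroup.normalizer ((P : Subgroup T) : Set T) :=
      Subgroup.le_normalizer (hc ▸ Subgroup.mem_top a)
    have hb : b ∈ (P : Subgroup T) := hc ▸ Subgroup.mem_top b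
    have := Subgroup.mem_centralizer_iff.mp (hP ha) b hb
    exact this.symm
  · rw [h, Subgroup.isComplement'_top_left] at hc
    exact hPne hc

namespace Setup

variable {ρ : H →* Equiv.Perm T} (S : Setup ρ)
include S

/-- Case A: an element all of whose centralizer shares its stabilizer -/
theorem caseA_false [Finite T] [IsSimpleGroup T] {x : T} (hx : x ≠ 1)
    (hA : ∀ y : T, y ≠ 1 → Commute y x → St ρ y = St ρ x) : False := by
  -- `C_T(x)` is abelian
  have hab : ∀ y w : T, Commute y x → Commute w x → Commute w y := by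
    intro y w hy hw
    by_cases hy1 : y = 1
    · rw [hy1]; exact Commute.one_right w
    · exact (S.commute_iff_of_St_eq (hA y hy1 hy) w).mpr hw
  have hne1 : orderOf x ≠ 1 := fun h => hx (orderOf_eq_one_iff.mp h)
  obtain ⟨p, hp, hpd⟩ := Nat.exists_prime_and_dvd hne1
  haveI : Fact p.Prime := ⟨hp⟩
  set x' := x ^ (orderOf x / p) with hx'
  have hox' : orderOf x' = p := by
    rw [hx', orderOf_pow' x]
    · rw [Nat.gcd_eq_right (Nat.div_dvd_of_dvd hpd)]
      exact Nat.div_div_self hpd (orderOf_pos x).ne'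
    · intro h0
      have := Nat.div_eq_zero_iff.mp h0
      rcases this with h | h
      · exact hp.ne_zero h
      · exact absurd (Nat.le_of_dvd (orderOf_pos x) hpd) (not_le.mpr h)
  have hx'1 : x' ≠ 1 := by
    intro h
    rw [h, orderOf_one] at hox'
    exact hp.one_lt.ne hox'
  have hx'x : Commute x' x := (Commute.refl x).pow_left _
  have hSt' : St ρ x' = St ρ x := hA x' hx'1 hx'x
  have hpg : IsPGroup p (Subgroup.zpowers x') := by
    apply IsPGroup.of_card (n := 1)
    rw [Nat.card_zpowers, hox', pow_one]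
  obtain ⟨P, hP⟩ := hpg.exists_le_sylow
  have hx'P : x' ∈ (P : Subgroup T) := hP (Subgroup.mem_zpowers x')
  have hPne : (P : Subgroup T) ≠ ⊥ := by
    intro h
    rw [h, Subgroup.mem_bot] at hx'P
    exact hx'1 hx'P
  haveI : Nontrivial (P : Subgroup T) := (Subgroup.nontrivial_iff_ne_bot _).mpr hPne
  haveI := P.2.center_nontrivial
  obtain ⟨⟨z, hzc⟩, hz1⟩ := exists_ne (1 : Subgroup.center (P : Subgroup T))
  have hz1' : (z : T) ≠ 1 := by
    intro h
    apply hz1
    apply Subtype.ext
    apply Subtype.ext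
    exact h
  have hzcomm : ∀ u : T, u ∈ (P : Subgroup T) → Commute u (z : T) := by
    intro u hu
    have := Subgroup.mem_center_iff.mp hzc ⟨u, hu⟩
    exact congrArg Subtype.val this
  have hzx : Commute (z : T) x :=
    (S.commute_iff_of_St_eq hSt' _).mp (hzcomm x' hx'P).symm
  have hStz : St ρ (z : T) = St ρ x := hA _ hz1' hzx
  have hPx : ∀ u : T, u ∈ (P : Subgroup T) → Commute u x := fun u hu =>
    (S.commute_iff_of_St_eq hStz u).mp (hzcomm u hu)
  apply burnside_false S.nonab P hPne
  intro g hg
  rw [Subgroup.mem_centralizer_iff]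
  intro u hu
  have hgz : g * (z : T) * g⁻¹ ∈ (P : Subgroup T) :=
    (Subgroup.mem_normalizer_iff.mp hg _).mp z.2
  set y := g * (z : T) * g⁻¹ with hy
  have hy1 : y ≠ 1 := by
    intro h
    apply hz1'
    have : (z : T) = g⁻¹ * y * g := by rw [hy]; group
    rw [this, h]; group
  have hSty : St ρ y = St ρ x := hA y hy1 (hPx y hgz)
  have hgx : Commute g x := by
    apply S.commute_of_normalizes hx
    intro w
    rw [← S.commute_iff_of_St_eq hStz w, ← S.commute_iff_of_St_eq hSty (g * w * g⁻¹)]
    constructor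
    · intro h
      have := h.eq
      show g * w * g⁻¹ * y = y * (g * w * g⁻¹)
      rw [hy]
      calc g * w * g⁻¹ * (g * (z : T) * g⁻¹) = g * (w * (z : T)) * g⁻¹ := by group
        _ = g * ((z : T) * w) * g⁻¹ := by rw [this]
        _ = g * (z : T) * g⁻¹ * (g * w * g⁻¹) := by group
    · intro h
      have h' : g * w * g⁻¹ * (g * (z : T) * g⁻¹) = g * (z : T) * g⁻¹ * (g * w * g⁻¹) := h.eq
      show w * (z : T) = (z : T) * w
      calc w * (z : T) = g⁻¹ * (g * w * g⁻¹ * (g * (z : T) * g⁻¹)) * g := by group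
        _ = g⁻¹ * (g * (z : T) * g⁻¹ * (g * w * g⁻¹)) * g := by rw [h']
        _ = (z : T) * w := by group
  exact (hab u g (hPx u hu) hgx).eq.symm

end Setup

end Cfsg.Agent.Lib.Helper7.EP
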