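import Mathlib
import Cfsg.Agent.Lib.Helper7.EP3

set_option autoImplicit false

/-!
# Extremely primitive groups: the holomorph-simple configuration, case B (counting)
-/

namespace Cfsg.Agent.Lib.Helper7.EP

variable {T : Type*} [Group T] {H : Type*} [Group H]

/-- a self-normalizing `p`-subgroup has index prime to `p` -/
theorem not_dvd_index_of_self_normalizing [Finite T] {p : ℕ} [Fact p.Prime] (C : Subgroup T)
    (hC : IsPGroup p C) (hN : Subgroup.normalizer (C : Set T) ≤ C) : ¬ p ∣ C.index := by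
  obtain ⟨n, hn⟩ := IsPGroup.iff_card.mp hC
  have h := Sylow.card_quotient_normalizer_modEq_card_quotient hn
  rw [← Subgroup.index_eq_card, ← Subgroup.index_eq_card] at h
  have h1 : (C.comap (Subgroup.normalizer (C : Set T)).subtype).index = 1 :=
    Subgroup.relIndex_eq_one.mpr hN
  rw [h1] at h
  intro hd
  have h2 : 1 ≡ 0 [MOD p] := h.trans (Nat.modEq_zero_iff_dvd.mpr hd)
  have hp : p.Prime := Fact.out
  have h3 : p ∣ 1 := (Nat.modEq_zero_iff_dvd.mp h2)
  exact hp.one_lt.ne' (Nat.dvd_one.mp h3)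

/-- the centre of a nonabelian `p`-group has index at least `p ^ 2` -/
theorem card_center_mul_sq_le [Finite T] {p : ℕ} [Fact p.Prime] (hT : IsPGroup p T)
    (hna : ∃ a b : T, a * b ≠ b * a) : Nat.card (Subgroup.center T) * p ^ 2 ≤ Nat.card T := by
  have hp : p.Prime := Fact.out
  obtain ⟨k, hk⟩ := (hT.to_quotient (Subgroup.center T)).exists_card_eq
  have hidx : (Subgroup.center T).index = p ^ k := by
    rw [Subgroup.index_eq_card]; exact hk
  have hk2 : 2 ≤ k := by
    by_contra hlt
    push Not at hlt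
    -- the quotient by the centre is cyclic
    have hcyc : IsCyclic (T ⧸ Subgroup.center T) := by
      interval_cases k
      · rw [pow_zero] at hk
        haveI : Subsingleton (T ⧸ Subgroup.center T) :=
          (Nat.card_eq_one_iff_unique.mp hk).1
        infer_instance
      · rw [pow_one] at hk
        exact isCyclic_of_prime_card hk
    obtain ⟨a, b, hab⟩ := hna
    apply hab
    have hker : (QuotientGroup.mk' (Subgroup.center T)).ker ≤ Subgroup.center T := by
      rw [QuotientGroup.ker_mk']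
    exact commutative_of_cyclic_center_quotient (QuotientGroup.mk' (Subgroup.center T)) hker a b
  have h1 := Subgroup.card_mul_index (Subgroup.center T)
  rw [hidx] at h1
  rw [← h1]
  apply Nat.mul_le_mul_left
  exact Nat.pow_le_pow_right hp.pos hk2

/-- the elementary estimate `∑_{n=2}^N 1/n² ≤ 3/4 - 1/N` -/
theorem sum_inv_sq_le (N : ℕ) (hN : 2 ≤ N) :
    ∑ n ∈ Finset.Icc 2 N, (1 : ℚ) / (n : ℚ) ^ 2 ≤ 3 / 4 - 1 / (N : ℚ) := by
  induction N, hN using Nat.le_induction with
  | base => norm_num
  | succ N hN ih =>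
    rw [Finset.sum_Icc_succ_top (by omega)]
    have hNpos : (0 : ℚ) < N := by exact_mod_cast (by omega : 0 < N)
    have h1 : (1 : ℚ) / ((N + 1 : ℕ) : ℚ) ^ 2 ≤ 1 / (N : ℚ) - 1 / ((N + 1 : ℕ) : ℚ) := by
      push_cast
      rw [div_sub_div _ _ hNpos.ne' (by positivity), div_le_div_iff₀ (by positivity) (by positivity)]
      nlinarith
    linarith

namespace Setup

variable {ρ : H →* Equiv.Perm T} (S : Setup ρ)
include S

/-- in case B the centralizer of an element of prime order `p` is a Sylow `p`-subgroup -/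
theorem caseB_sylow [Finite T] [IsSimpleGroup T]
    (hB : ∀ x : T, x ≠ 1 → ∃ y : T, y ≠ 1 ∧ Commute y x ∧ St ρ y ≠ St ρ x)
    {p : ℕ} [Fact p.Prime] {x : T} (hx : orderOf x = p) :
    ∃ P : Sylow p T, (P : Subgroup T) = Subgroup.centralizer ({x} : Set T) := by
  have hp : p.Prime := Fact.out
  have hx1 : x ≠ 1 := by
    intro h
    rw [h, orderOf_one] at hx
    exact hp.one_lt.ne hx
  obtain ⟨y, hy1, hyx, hne⟩ := hB x hx1
  have hpg : IsPGroup p (Subgroup.centralizer ({x} : Set T)) := by
    intro g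
    refine ⟨1, ?_⟩
    rw [pow_one]
    by_cases hg1 : g = 1
    · rw [hg1, one_pow]
    · have hg1' : (g : T) ≠ 1 := fun h => hg1 (Subtype.ext h)
      have hgx : Commute (g : T) x := Subgroup.mem_centralizer_singleton_iff.mp g.2
      have := S.orderOf_eq_of_mixed hx1 hy1 hyx hne hg1' hgx
      rw [hx] at this
      apply Subtype.ext
      rw [Subgroup.coe_pow, Subgroup.coe_one, ← this, pow_orderOf_eq_one]
  have hnd : ¬ p ∣ (Subgroup.centralizer ({x} : Set T)).index := by
    apply not_dvd_index_of_self_normalizing _ hpg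
    intro t ht
    rw [Subgroup.mem_centralizer_singleton_iff]
    apply S.commute_of_normalizes hx1
    intro w
    have := (Subgroup.mem_normalizer_iff.mp ht) w
    rw [Subgroup.mem_centralizer_singleton_iff, Subgroup.mem_centralizer_singleton_iff] at this
    exact this
  exact ⟨hpg.toSylow hnd, rfl⟩

/-- in case B every nonidentity element has prime order -/
theorem caseB_prime [Finite T]
    (hB : ∀ x : T, x ≠ 1 → ∃ y : T, y ≠ 1 ∧ Commute y x ∧ St ρ y ≠ St ρ x)
    {x : T} (hx : x ≠ 1) : (orderOf x).Prime := by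
  obtain ⟨y, hy1, hyx, hne⟩ := hB x hx
  exact S.prime_orderOf_of_commute hx hy1 hyx.symm (Ne.symm hne)

/-- in case B all Sylow subgroups are nonabelian -/
theorem caseB_nonab [Finite T] [IsSimpleGroup T]
    (hB : ∀ x : T, x ≠ 1 → ∃ y : T, y ≠ 1 ∧ Commute y x ∧ St ρ y ≠ St ρ x)
    {p : ℕ} [Fact p.Prime] (P : Sylow p T) (hPne : (P : Subgroup T) ≠ ⊥) :
    ∃ a b : (P : Subgroup T), a * b ≠ b * a := by
  by_contra hcon
  push Not at hcon
  have hcomm : ∀ a ∈ (P : Subgroup T), ∀ b ∈ (P : Subgroup T), a * b = b * a := by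
    intro a ha b hb
    exact congrArg Subtype.val (hcon ⟨a, ha⟩ ⟨b, hb⟩)
  obtain ⟨x, hxP, hx1⟩ : ∃ x ∈ (P : Subgroup T), x ≠ 1 := by
    by_contra h
    push Not at h
    apply hPne
    rw [eq_bot_iff]
    intro x hx
    rw [Subgroup.mem_bot]
    exact h x hx
  have hp : p.Prime := Fact.out
  have hox : orderOf x = p := by
    have h1 := S.caseB_prime hB hx1
    obtain ⟨k, hk⟩ := (IsPGroup.iff_orderOf.mp P.2) ⟨x, hxP⟩
    rw [Subgroup.orderOf_mk] at hk
    rw [hk] at h1 ⊢
    have hk0 : k ≠ 0 := by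
      intro h0
      rw [h0, pow_zero] at h1
      exact Nat.not_prime_one h1
    exact ((Nat.prime_dvd_prime_iff_eq hp h1).mp (dvd_pow_self p hk0)).symm
  obtain ⟨Q, hQ⟩ := S.caseB_sylow hB hox
  have hPQ : (P : Subgroup T) ≤ Q := by
    rw [hQ]
    intro u hu
    rw [Subgroup.mem_centralizer_singleton_iff]
    exact hcomm u hu x hxP
  have hPQ' : (Q : Subgroup T) = P := P.3 Q.2 hPQ
  apply burnside_false S.nonab P hPne
  intro g hg
  rw [Subgroup.mem_centralizer_iff]
  intro u hu
  have hgx : Commute g x := by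
    apply S.commute_of_normalizes hx1
    intro w
    have := (Subgroup.mem_normalizer_iff.mp hg) w
    rw [← hPQ', hQ, Subgroup.mem_centralizer_singleton_iff,
      Subgroup.mem_centralizer_singleton_iff] at this
    exact this
  have hgP : g ∈ (P : Subgroup T) := by
    rw [← hPQ', hQ, Subgroup.mem_centralizer_singleton_iff]; exact hgx
  exact hcomm u hu g hgP

end Setup

end Cfsg.Agent.Lib.Helper7.EP
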