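import Mathlib
import Cfsg.Agent.Lib.Helper7.EP4

set_option autoImplicit false

/-!
# Extremely primitive groups: the holomorph-simple configuration is impossible
-/

namespace Cfsg.Agent.Lib.Helper7.EP

variable {T : Type*} [Group T] {H : Type*} [Group H]

namespace Setup

variable {ρ : H →* Equiv.Perm T} (S : Setup ρ)
include S

/-- in case B there are at most `|T| / p ^ 2` elements of order `p` -/
theorem caseB_count [Finite T] [IsSimpleGroup T]
    (hB : ∀ x : T, x ≠ 1 → ∃ y : T, y ≠ 1 ∧ Commute y x ∧ St ρ y ≠ St ρ x)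
    (p : ℕ) [Fact p.Prime] :
    Nat.card {x : T // orderOf x = p} * p ^ 2 ≤ Nat.card T := by
  classical
  have hp : p.Prime := Fact.out
  by_cases hempty : IsEmpty {x : T // orderOf x = p}
  · rw [Nat.card_of_isEmpty, zero_mul]; exact Nat.zero_le _
  rw [not_isEmpty_iff] at hempty
  obtain ⟨x₀⟩ := hempty
  have hpdvd : p ∣ Nat.card T := by
    have := orderOf_dvd_natCard (x₀ : T)
    rwa [x₀.2] at this
  have key : ∀ x : {x : T // orderOf x = p}, ∃ P : Sylow p T,
      ∃ hx : (x : T) ∈ (P : Subgroup T),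
        (⟨x, hx⟩ : (P : Subgroup T)) ∈ Subgroup.center (P : Subgroup T) := by
    intro x
    obtain ⟨P, hP⟩ := S.caseB_sylow hB x.2
    have hx : (x : T) ∈ (P : Subgroup T) := by
      rw [hP, Subgroup.mem_centralizer_singleton_iff]
    refine ⟨P, hx, ?_⟩
    rw [Subgroup.mem_center_iff]
    intro g
    have hg : (g : T) ∈ Subgroup.centralizer ({(x : T)} : Set T) := hP ▸ g.2
    rw [Subgroup.mem_centralizer_singleton_iff] at hg
    exact Subtype.ext hg
  choose f hf hf' using key
  let φ : {x : T // orderOf x = p} → Σ P : Sylow p T, Subgroup.center (P : Subgroup T) :=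
    fun x => ⟨f x, ⟨⟨x, hf x⟩, hf' x⟩⟩
  let ψ : (Σ P : Sylow p T, Subgroup.center (P : Subgroup T)) → T :=
    fun s => ((s.2 : (s.1 : Subgroup T)) : T)
  have hinj : Function.Injective φ := by
    intro x y hxy
    have : ψ (φ x) = ψ (φ y) := by rw [hxy]
    exact Subtype.ext this
  haveI : Fintype (Sylow p T) := Fintype.ofFinite _
  have h1 := Nat.card_le_card_of_injective φ hinj
  rw [Nat.card_sigma] at h1
  set e := (Nat.card T).factorization p with he
  have he1 : 1 ≤ e := by
    have : 0 < (Nat.card T).factorization p :=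
      hp.factorization_pos_of_dvd Nat.card_pos.ne' hpdvd
    omega
  have hterm : ∀ P : Sylow p T,
      Nat.card (Subgroup.center (P : Subgroup T)) * p ^ 2 ≤ p ^ e := by
    intro P
    have hPne : (P : Subgroup T) ≠ ⊥ := by
      intro h
      have h2 := P.card_eq_multiplicity
      rw [h, Subgroup.card_bot] at h2
      have : p ^ 1 ≤ p ^ e := Nat.pow_le_pow_right hp.pos he1
      rw [pow_one, he, ← h2] at this
      exact absurd this (not_le.mpr hp.one_lt)
    rw [he, ← P.card_eq_multiplicity]
    exact card_center_mul_sq_le P.2 (S.caseB_nonab hB P hPne)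
  obtain ⟨P₀, -⟩ := S.caseB_sylow hB x₀.2
  calc Nat.card {x : T // orderOf x = p} * p ^ 2
      ≤ (∑ P : Sylow p T, Nat.card (Subgroup.center (P : Subgroup T))) * p ^ 2 :=
        Nat.mul_le_mul_right _ h1
    _ = ∑ P : Sylow p T, Nat.card (Subgroup.center (P : Subgroup T)) * p ^ 2 :=
        Finset.sum_mul _ _ _
    _ ≤ ∑ _P : Sylow p T, p ^ e := Finset.sum_le_sum (fun P _ => hterm P)
    _ = Nat.card (Sylow p T) * p ^ e := by
        rw [Finset.sum_const, Finset.card_univ, smul_eq_mul, Nat.card_eq_fintype_card]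
    _ ≤ (P₀ : Subgroup T).index * p ^ e :=
        Nat.mul_le_mul_right _ (Nat.le_of_dvd
          (Nat.pos_of_ne_zero (Subgroup.FiniteIndex.index_ne_zero)) P₀.card_dvd_index)
    _ = Nat.card T := by
        rw [he, ← P₀.card_eq_multiplicity, mul_comm]
        exact Subgroup.card_mul_index _

/-- the holomorph-simple configuration cannot occur -/
theorem false_of_setup [Finite T] [IsSimpleGroup T] : False := by
  classical
  by_cases hA : ∃ x : T, x ≠ 1 ∧ ∀ y : T, y ≠ 1 → Commute y x → St ρ y = St ρ x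
  · obtain ⟨x, hx, hA⟩ := hA
    exact S.caseA_false hx hA
  · push Not at hA
    have hB : ∀ x : T, x ≠ 1 → ∃ y : T, y ≠ 1 ∧ Commute y x ∧ St ρ y ≠ St ρ x := hA
    haveI : Fintype T := Fintype.ofFinite T
    set N := Nat.card T with hN
    have hN2 : 2 ≤ N := by
      obtain ⟨a, b, hab⟩ := S.nonab
      haveI : Nontrivial T := ⟨⟨a * b, b * a, hab⟩⟩
      exact Finite.one_lt_card
    -- the nonidentity elements, sorted by their order
    have hmaps : ∀ x ∈ (Finset.univ.filter (fun x : T => x ≠ 1)),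
        orderOf x ∈ N.primeFactors := by
      intro x hx
      rw [Finset.mem_filter] at hx
      rw [Nat.mem_primeFactors]
      exact ⟨S.caseB_prime hB hx.2, orderOf_dvd_natCard x, Nat.card_pos.ne'⟩
    have hsum := Finset.card_eq_sum_card_fiberwise hmaps
    have hcard1 : (Finset.univ.filter (fun x : T => x ≠ 1)).card = N - 1 := by
      rw [Finset.filter_ne' Finset.univ (1 : T), Finset.card_erase_of_mem (Finset.mem_univ _),
        Finset.card_univ, hN, Nat.card_eq_fintype_card]
    rw [hcard1] at hsum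
    have hfib : ∀ p ∈ N.primeFactors,
        (((Finset.univ.filter (fun x : T => x ≠ 1)).filter (fun x => orderOf x = p)).card : ℚ)
          ≤ (N : ℚ) * (1 / (p : ℚ) ^ 2) := by
      intro p hp
      have hpp : p.Prime := Nat.prime_of_mem_primeFactors hp
      haveI : Fact p.Prime := ⟨hpp⟩
      have h1 := S.caseB_count hB p
      have h2 : ((Finset.univ.filter (fun x : T => x ≠ 1)).filter (fun x => orderOf x = p)).card
          ≤ Nat.card {x : T // orderOf x = p} := by
        rw [Nat.card_eq_fintype_card, Fintype.card_subtype]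
        apply Finset.card_le_card
        intro x hx
        rw [Finset.mem_filter] at hx ⊢
        exact ⟨Finset.mem_univ _, hx.2⟩
      have h3 : ((Finset.univ.filter (fun x : T => x ≠ 1)).filter
          (fun x => orderOf x = p)).card * p ^ 2 ≤ N := (Nat.mul_le_mul_right _ h2).trans h1
      have hp0 : (0 : ℚ) < (p : ℚ) ^ 2 := by
        have : (0 : ℚ) < p := by exact_mod_cast hpp.pos
        positivity
      rw [mul_one_div, le_div_iff₀ hp0]
      exact_mod_cast h3
    have hsumQ : ((N - 1 : ℕ) : ℚ) ≤ ∑ p ∈ N.primeFactors, (N : ℚ) * (1 / (p : ℚ) ^ 2) := by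
      rw [hsum]
      push_cast
      exact Finset.sum_le_sum hfib
    rw [← Finset.mul_sum] at hsumQ
    have hsub : N.primeFactors ⊆ Finset.Icc 2 N := by
      intro p hp
      rw [Finset.mem_Icc]
      have hpp : p.Prime := Nat.prime_of_mem_primeFactors hp
      exact ⟨hpp.two_le, Nat.le_of_dvd (by omega) (Nat.dvd_of_mem_primeFactors hp)⟩
    have h4 : ∑ p ∈ N.primeFactors, (1 : ℚ) / (p : ℚ) ^ 2 ≤
        ∑ n ∈ Finset.Icc 2 N, (1 : ℚ) / (n : ℚ) ^ 2 := by
      apply Finset.sum_le_sum_of_subset_of_nonneg hsub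
      intro i _ _
      positivity
    have h5 := sum_inv_sq_le N hN2
    have hNpos : (0 : ℚ) < N := by exact_mod_cast (by omega : 0 < N)
    have h6 : (N : ℚ) * ∑ p ∈ N.primeFactors, (1 : ℚ) / (p : ℚ) ^ 2 ≤
        (N : ℚ) * (3 / 4 - 1 / (N : ℚ)) :=
      mul_le_mul_of_nonneg_left (h4.trans h5) hNpos.le
    have h7 : (N : ℚ) * (3 / 4 - 1 / (N : ℚ)) = 3 / 4 * N - 1 := by
      field_simp
    have h8 : ((N - 1 : ℕ) : ℚ) = (N : ℚ) - 1 := by
      rw [Nat.cast_sub (by omega)]; simp
    rw [h8] at hsumQ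
    linarith

end Setup

end Cfsg.Agent.Lib.Helper7.EP
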