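import Mathlib
import Cfsg.Agent.Lib.Helper7.EP5

set_option autoImplicit false

/-!
# Extremely primitive groups: the holomorph-simple configuration inside a permutation group
-/

namespace Cfsg.Agent.Lib.Helper7.EP

open MulAction

variable {G : Type*} [Group G] {Ω : Type*} [MulAction G Ω]

/-- two commuting regular subgroups `T`, `C` (with `T` nonabelian simple), permuted by the point
stabilizer, are incompatible with all two-point stabilizers being maximal in the stabilizer -/
theorem hs_false [Finite G] (α : Ω) (T C : Subgroup G)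
    (hTtr : ∀ ω : Ω, ∃ t ∈ T, t • α = ω) (hTreg : T ⊓ stabilizer G α = ⊥)
    (hCtr : ∀ ω : Ω, ∃ c ∈ C, c • α = ω)
    (hcomm : ∀ t ∈ T, ∀ c ∈ C, t * c = c * t)
    (hconj : ∀ h ∈ stabilizer G α, (∀ t ∈ T, h * t * h⁻¹ ∈ T) ∨ (∀ t ∈ T, h * t * h⁻¹ ∈ C))
    (hsimple : IsSimpleGroup T) (hna : ∃ a ∈ T, ∃ b ∈ T, a * b ≠ b * a)
    (hmax : ∀ ω : Ω, ω ≠ α → IsCoatom ((stabilizer G ω).subgroupOf (stabilizer G α))) :
    False := by
  classical
  set H := stabilizer G α with hH
  -- regularity of `T`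
  have hinj : ∀ t ∈ T, ∀ t' ∈ T, t • α = t' • α → t = t' := by
    intro t ht t' ht' h
    have h1 : t'⁻¹ * t ∈ T ⊓ stabilizer G α := by
      refine Subgroup.mem_inf.mpr ⟨T.mul_mem (T.inv_mem ht') ht, ?_⟩
      rw [mem_stabilizer_iff, mul_smul, h, inv_smul_smul]
    rw [hTreg, Subgroup.mem_bot] at h1
    calc t = t' * (t'⁻¹ * t) := by group
      _ = t' := by rw [h1, mul_one]
  let e : T ≃ Ω := Equiv.ofBijective (fun t : T => (t : G) • α)
    ⟨fun t t' h => Subtype.ext (hinj t t.2 t' t'.2 h),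
      fun ω => by
        obtain ⟨t, ht, h⟩ := hTtr ω
        exact ⟨⟨t, ht⟩, h⟩⟩
  have he : ∀ t : T, e t = (t : G) • α := fun t => rfl
  let ρ : H →* Equiv.Perm T :=
    (e.symm.permCongrHom.toMonoidHom).comp ((MulAction.toPermHom G Ω).comp H.subtype)
  have hρ : ∀ (h : H) (t : T), ((ρ h t : T) : G) • α = (h : G) • ((t : G) • α) := by
    intro h t
    rw [← he]
    show e (e.symm ((h : G) • e.symm.symm t)) = _
    rw [Equiv.apply_symm_apply]
    rfl
  -- `ρ h t` is determined by its value on `α`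
  have hρ_eq : ∀ (h : H) (t s : T), (s : G) • α = (h : G) • ((t : G) • α) → ρ h t = s := by
    intro h t s hs
    apply Subtype.ext
    exact hinj _ (ρ h t).2 _ s.2 ((hρ h t).trans hs.symm)
  have hHα : ∀ h : H, (h : G) • α = α := fun h => h.2
  have hHα' : ∀ h : H, (h : G)⁻¹ • α = α := fun h => by rw [inv_smul_eq_iff, hHα]
  refine Setup.false_of_setup (T := T) (H := H) (ρ := ρ) ⟨?_, ?_, ?_, ?_⟩
  · -- automorphism or anti-automorphism
    intro h
    rcases hconj (h : G) h.2 with h1 | h1
    · left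
      have hval : ∀ t : T, ρ h t = ⟨(h : G) * t * (h : G)⁻¹, h1 t t.2⟩ := by
        intro t
        apply hρ_eq
        show ((h : G) * t * (h : G)⁻¹) • α = _
        rw [mul_smul, mul_smul, hHα']
      intro a b
      rw [hval, hval, hval]
      apply Subtype.ext
      show (h : G) * ((a : G) * (b : G)) * (h : G)⁻¹ =
        (h : G) * a * (h : G)⁻¹ * ((h : G) * b * (h : G)⁻¹)
      group
    · right
      intro a b
      apply hρ_eq
      show (((ρ h b : T) : G) * ((ρ h a : T) : G)) • α = (h : G) • (((a : G) * (b : G)) • α)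
      rw [mul_smul, hρ h a]
      have e1 : (h : G) • ((a : G) • α) = ((h : G) * a * (h : G)⁻¹) • α := by
        rw [mul_smul, mul_smul, hHα']
      rw [e1, ← mul_smul, hcomm _ (ρ h b).2 _ (h1 a a.2), mul_smul, hρ h b]
      rw [← mul_smul, ← mul_smul, ← mul_smul]
      congr 1
      group
  · -- inner automorphisms
    intro t
    obtain ⟨c, hc, hcα⟩ := hCtr ((t : G)⁻¹ • α)
    have hmem : (t : G) * c ∈ H := by
      rw [hH, mem_stabilizer_iff, mul_smul, hcα, smul_inv_smul]
    refine ⟨⟨(t : G) * c, hmem⟩, ?_⟩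
    intro a
    apply hρ_eq
    show ((t : G) * a * (t : G)⁻¹) • α = ((t : G) * c) • ((a : G) • α)
    have e1 : (t : G) * c * a = (t : G) * a * c := by
      rw [mul_assoc, ← hcomm a a.2 c hc, ← mul_assoc]
    rw [← mul_smul, e1, mul_smul ((t : G) * a) c α, hcα, ← mul_smul]
  · -- maximality of the stabilizers
    intro x hx
    have hxα : (x : G) • α ≠ α := by
      intro h
      apply hx
      apply Subtype.ext
      have : (x : G) ∈ T ⊓ stabilizer G α := Subgroup.mem_inf.mpr ⟨x.2, h⟩
      rw [hTreg, Subgroup.mem_bot] at this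
      exact this
    have heq : St ρ x = (stabilizer G ((x : G) • α)).subgroupOf H := by
      ext h
      rw [mem_St, Subgroup.mem_subgroupOf, mem_stabilizer_iff]
      constructor
      · intro h1
        rw [← hρ h x, h1]
      · intro h1
        exact hρ_eq h x x h1.symm
    rw [heq]
    exact hmax _ hxα
  · obtain ⟨a, ha, b, hb, hab⟩ := hna
    exact ⟨⟨a, ha⟩, ⟨b, hb⟩, fun h => hab (congrArg Subtype.val h)⟩

end Cfsg.Agent.Lib.Helper7.EP
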