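import Mathlib
import Cfsg.Agent.Lib.Helper7.EP7

set_option autoImplicit false

/-!
# Extremely primitive groups: a regular nonabelian minimal normal subgroup is simple
-/

namespace Cfsg.Agent.Lib.Helper7.EP

open MulAction Cfsg.Agent.Lib.Helper7 Cfsg.Agent.Lib.Helper7.PUD

variable {G : Type*} [Group G] {Ω : Type*} [MulAction G Ω]

/-- conjugation by a point stabilizer on a regular normal subgroup -/
theorem conj_eq_of_smul_eq (α : Ω) (N : Subgroup G) [hN : N.Normal]
    (hNreg : N ⊓ stabilizer G α = ⊥) {h x : G} (hh : h ∈ stabilizer G α) (hx : x ∈ N)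
    (hfix : h • x • α = x • α) : h * x * h⁻¹ = x := by
  have h1 : x⁻¹ * (h * x * h⁻¹) ∈ N ⊓ stabilizer G α := by
    refine Subgroup.mem_inf.mpr ⟨N.mul_mem (N.inv_mem hx) (hN.conj_mem x hx h), ?_⟩
    have hα : h⁻¹ • α = α := by
      rw [inv_smul_eq_iff]; exact (mem_stabilizer_iff.mp hh).symm
    rw [mem_stabilizer_iff, mul_smul, mul_smul, mul_smul, hα, hfix, inv_smul_smul]
  rw [hNreg, Subgroup.mem_bot] at h1
  calc h * x * h⁻¹ = x * (x⁻¹ * (h * x * h⁻¹)) := by group
    _ = x := by rw [h1, mul_one]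

theorem tw_false [Finite G] (α : Ω)
    (hHmax : IsCoatom (stabilizer G α))
    (hmax : ∀ ω : Ω, ω ≠ α → IsCoatom ((stabilizer G ω).subgroupOf (stabilizer G α)))
    (N : Subgroup G) [hN : N.Normal]
    (hNmin : ∀ K : Subgroup G, K.Normal → K ≠ ⊥ → K ≤ N → K = N)
    (hNreg : N ⊓ stabilizer G α = ⊥)
    (hnonab : ∃ a ∈ N, ∃ b ∈ N, a * b ≠ b * a)
    (T : Subgroup G) (hT : IsMinIn N T) (hTN : T ≠ N) : False := by
  set H := stabilizer G α with hH
  have hNne : N ≠ ⊥ := by
    intro h
    apply hT.ne_bot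
    rw [eq_bot_iff, ← h]
    exact hT.le
  -- `H` does not normalize `T`
  have hHT : ¬ H ≤ Subgroup.normalizer (T : Set G) := by
    intro hle
    have h1 : N ⊔ H ≤ Subgroup.normalizer (T : Set G) := sup_le hT.norm hle
    have h2 : N ⊔ H = ⊤ := by
      rcases hHmax.le_iff.mp (le_sup_right : H ≤ N ⊔ H) with htop | heq
      · exact htop
      · exfalso
        apply hNne
        have : N ≤ H := heq ▸ (le_sup_left : N ≤ N ⊔ H)
        rw [eq_bot_iff, ← hNreg]
        exact le_inf le_rfl this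
    rw [h2, top_le_iff] at h1
    have hTn : T.Normal := Subgroup.normalizer_eq_top_iff.mp h1
    exact hTN (hNmin T hTn hT.ne_bot hT.le)
  -- elements of `H` normalizing `T` centralize `T`
  have hcent : ∀ h ∈ H, h ∈ Subgroup.normalizer (T : Set G) → ∀ x ∈ T, h * x * h⁻¹ = x := by
    intro h hh hn x hx
    by_cases hx1 : x = 1
    · rw [hx1]; group
    have hxα : x • α ≠ α := by
      intro hfix
      apply hx1
      have : x ∈ N ⊓ stabilizer G α := Subgroup.mem_inf.mpr ⟨hT.le hx, hfix⟩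
      rw [hNreg, Subgroup.mem_bot] at this
      exact this
    have hle : (stabilizer G (x • α)).subgroupOf H ≤
        (Subgroup.normalizer (T : Set G)).subgroupOf H := by
      intro k hk
      rw [Subgroup.mem_subgroupOf] at hk ⊢
      have hkx := conj_eq_of_smul_eq α N hNreg k.2 (hT.le hx) (mem_stabilizer_iff.mp hk)
      rw [mem_normalizer_iff_cj]
      by_contra hne
      have hbot := hT.inf_eq_bot (hT.cj (k : G)) (Ne.symm hne)
      have hmem : x ∈ T ⊓ cj (k : G) T := by
        refine Subgroup.mem_inf.mpr ⟨hx, ?_⟩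
        rw [mem_cj]
        have e : (k : G)⁻¹ * x * (k : G) = x := by
          calc (k : G)⁻¹ * x * (k : G) = (k : G)⁻¹ * ((k : G) * x * (k : G)⁻¹) * (k : G) := by
                rw [hkx]
            _ = x := by group
        rw [e]; exact hx
      rw [hbot, Subgroup.mem_bot] at hmem
      exact hx1 hmem
    rcases (hmax _ hxα).le_iff.mp hle with htop | heq
    · exfalso
      apply hHT
      exact Subgroup.subgroupOf_eq_top.mp htop
    · have hmem : (⟨h, hh⟩ : H) ∈ (Subgroup.normalizer (T : Set G)).subgroupOf H :=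
        Subgroup.mem_subgroupOf.mpr hn
      rw [heq, Subgroup.mem_subgroupOf, mem_stabilizer_iff] at hmem
      exact conj_eq_of_smul_eq α N hNreg hh (hT.le hx) hmem
  -- a nonidentity element of `T`
  obtain ⟨x₀, hx₀, hx₀1⟩ : ∃ x ∈ T, x ≠ 1 := by
    by_contra hcon
    push Not at hcon
    apply hT.ne_bot
    rw [eq_bot_iff]
    intro x hx
    rw [Subgroup.mem_bot]
    exact hcon x hx
  set s : Set G := {y | ∃ h ∈ H, y = h * x₀ * h⁻¹} with hs
  -- the `H`-conjugates of `x₀` commute pairwise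
  have hpair : ∀ y ∈ s, ∀ z ∈ s, y * z = z * y := by
    rintro y ⟨h, hh, rfl⟩ z ⟨k, hk, rfl⟩
    set g := k⁻¹ * h with hg
    have hgH : g ∈ H := H.mul_mem (H.inv_mem hk) hh
    have key : g * x₀ * g⁻¹ * x₀ = x₀ * (g * x₀ * g⁻¹) := by
      rcases hT.cj_eq_or_le g with heq | hle
      · have := hcent g hgH (mem_normalizer_iff_cj.mpr heq) x₀ hx₀
        rw [this]
      · have hmem : g * x₀ * g⁻¹ ∈ cj g T := by
          rw [mem_cj]
          have e : g⁻¹ * (g * x₀ * g⁻¹) * g = x₀ := by group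
          rw [e]; exact hx₀
        have := (Subgroup.mem_centralizer_iff.mp (hle hmem).2) x₀ hx₀
        exact this.symm
    calc h * x₀ * h⁻¹ * (k * x₀ * k⁻¹)
        = k * (g * x₀ * g⁻¹ * x₀) * k⁻¹ := by rw [hg]; group
      _ = k * (x₀ * (g * x₀ * g⁻¹)) * k⁻¹ := by rw [key]
      _ = k * x₀ * k⁻¹ * (h * x₀ * h⁻¹) := by rw [hg]; group
  set E := Subgroup.closure s with hE
  have hEcomm : IsMulCommutative E := Subgroup.isMulCommutative_closure hpair
  have hEN : E ≤ N := by
    rw [hE, Subgroup.closure_le]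
    rintro y ⟨h, -, rfl⟩
    exact hN.conj_mem x₀ (hT.le hx₀) h
  have hx₀E : x₀ ∈ E := by
    apply Subgroup.subset_closure
    exact ⟨1, H.one_mem, by group⟩
  have hHE : H ≤ Subgroup.normalizer (E : Set G) := by
    apply le_normalizer_of_conj_mem
    intro h' hh' e he
    induction he using Subgroup.closure_induction with
    | mem y hy =>
      obtain ⟨h, hh, rfl⟩ := hy
      apply Subgroup.subset_closure
      exact ⟨h' * h, H.mul_mem hh' hh, by group⟩
    | one =>
      have : h' * 1 * h'⁻¹ = 1 := by group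
      rw [this]; exact E.one_mem
    | mul a b _ _ iha ihb =>
      have : h' * (a * b) * h'⁻¹ = h' * a * h'⁻¹ * (h' * b * h'⁻¹) := by group
      rw [this]; exact E.mul_mem iha ihb
    | inv a _ iha =>
      have : h' * a⁻¹ * h'⁻¹ = (h' * a * h'⁻¹)⁻¹ := by group
      rw [this]; exact E.inv_mem iha
  rcases hHmax.le_iff.mp (le_sup_right : H ≤ E ⊔ H) with htop | heq
  · -- `N ≤ E`, hence `N` is abelian
    have hNE : N ≤ E := by
      intro n hn
      have hmem : n ∈ E ⊔ H := htop ▸ Subgroup.mem_top n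
      rw [← SetLike.mem_coe, Subgroup.coe_mul_of_right_le_normalizer_left E H hHE] at hmem
      obtain ⟨e, he, h, hh, rfl⟩ := Set.mem_mul.mp hmem
      have h1 : h ∈ N ⊓ stabilizer G α := by
        refine Subgroup.mem_inf.mpr ⟨?_, hh⟩
        have := N.mul_mem (N.inv_mem (hEN he)) hn
        rwa [inv_mul_cancel_left] at this
      rw [hNreg, Subgroup.mem_bot] at h1
      rw [h1, mul_one]; exact he
    obtain ⟨a, ha, b, hb, hab⟩ := hnonab
    apply hab
    have := hEcomm.is_comm.comm ⟨a, hNE ha⟩ ⟨b, hNE hb⟩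
    exact congrArg Subtype.val this
  · apply hx₀1
    have h1 : E ≤ H := heq ▸ (le_sup_left : E ≤ E ⊔ H)
    have : x₀ ∈ N ⊓ stabilizer G α := Subgroup.mem_inf.mpr ⟨hT.le hx₀, h1 hx₀E⟩
    rw [hNreg, Subgroup.mem_bot] at this
    exact this

end Cfsg.Agent.Lib.Helper7.EP
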