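import Mathlib
import Cfsg.Agent.Lib.Helper7.Burnside

set_option autoImplicit false

/-!
# Unique derangement class: the sharply 2-transitive direction (counting)
-/

namespace Cfsg.Agent.Lib.Helper7.PUD

open MulAction

/-- orbit-stabilizer, `Nat.card` form -/
theorem card_orbit_mul_card_stabilizer {K X : Type*} [Group K] [MulAction K X] (b : X) :
    Nat.card (orbit K b) * Nat.card (stabilizer K b) = Nat.card K := by
  rw [← Nat.card_prod]
  exact Nat.card_congr (orbitProdStabilizerEquivGroup K b)

variable {G : Type*} [Group G] [Finite G] {Ω : Type*} [Fintype Ω] [MulAction G Ω]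

/-- conjugates of derangements are derangements -/
theorem der_conj {d : G} (hd : ∀ ω : Ω, d • ω ≠ ω) (g : G) : ∀ ω : Ω, (g * d * g⁻¹) • ω ≠ ω := by
  intro ω h
  apply hd (g⁻¹ • ω)
  rw [mul_smul, mul_smul] at h
  calc d • g⁻¹ • ω = g⁻¹ • (g • d • g⁻¹ • ω) := by rw [inv_smul_smul]
    _ = g⁻¹ • ω := by rw [h]

theorem sharp_imp (h2 : IsMultiplyPretransitive G Ω 2)
    (hsharp : ∀ g : G, g ≠ 1 → ∀ a b : Ω, a ≠ b → g • a = a → g • b ≠ b)
    (hΩ : 2 ≤ Fintype.card Ω) :
    Nat.card {c : ConjClasses G // ∃ g : G, ConjClasses.mk g = c ∧ ∀ ω : Ω, g • ω ≠ ω} = 1 := by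
  classical
  haveI := Fintype.ofFinite G
  haveI : IsPretransitive G Ω := isPretransitive_of_is_two_pretransitive
  have h2' : ∀ a b c d : Ω, a ≠ b → c ≠ d → ∃ g : G, g • a = c ∧ g • b = d :=
    fun a b c d hab hcd => is_two_pretransitive_iff.mp h2 hab hcd
  set n := Fintype.card Ω with hn
  -- two distinct points
  obtain ⟨α, β₀, hαβ⟩ : ∃ a b : Ω, a ≠ b := by
    have : 1 < Fintype.card Ω := hΩ
    exact Fintype.exists_pair_of_one_lt_card this
  haveI : Nonempty Ω := ⟨α⟩
  -- Burnside
  have hB := burnside_nat G Ω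
  rw [card_orbits_of_pretransitive G Ω, one_mul] at hB
  -- fixed point counts
  have hfix : ∀ g : G, Nat.card (fixedBy Ω g) =
      (if g = 1 then n - 1 else 0) + (if (∀ ω : Ω, g • ω ≠ ω) then 0 else 1) := by
    intro g
    by_cases hg1 : g = 1
    · subst hg1
      have h1 : ¬ (∀ ω : Ω, (1 : G) • ω ≠ ω) := fun h => h α (one_smul _ _)
      rw [if_pos rfl, if_neg h1]
      have : fixedBy Ω (1 : G) = Set.univ := by
        ext ω; simp
      rw [this, Nat.card_congr (Equiv.Set.univ Ω), Nat.card_eq_fintype_card]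
      omega
    · rw [if_neg hg1, zero_add]
      by_cases hder : ∀ ω : Ω, g • ω ≠ ω
      · rw [if_pos hder]
        have : fixedBy Ω g = ∅ := by
          ext ω
          simp only [mem_fixedBy, Set.mem_empty_iff_false, iff_false]
          exact hder ω
        rw [this]
        simp
      · rw [if_neg hder]
        push Not at hder
        obtain ⟨ω, hω⟩ := hder
        rw [Nat.card_eq_one_iff_unique]
        refine ⟨⟨?_⟩, ⟨⟨ω, hω⟩⟩⟩
        rintro ⟨a, ha⟩ ⟨b, hb⟩
        by_contra hne
        have hab : a ≠ b := fun h => hne (Subtype.ext h)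
        exact hsharp g hg1 a b hab ha hb
  simp only [hfix] at hB
  rw [Finset.sum_add_distrib, Finset.sum_ite_eq' Finset.univ (1 : G) (fun _ => n - 1),
    if_pos (Finset.mem_univ _)] at hB
  set Der : Finset G := Finset.univ.filter (fun g : G => ∀ ω : Ω, g • ω ≠ ω) with hDer
  have hsum2 : ∑ g : G, (if (∀ ω : Ω, g • ω ≠ ω) then 0 else 1) =
      (Finset.univ.filter (fun g : G => ¬ ∀ ω : Ω, g • ω ≠ ω)).card := by
    rw [Finset.card_filter]
    apply Finset.sum_congr rfl
    intro g _
    by_cases h : ∀ ω : Ω, g • ω ≠ ω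
    · rw [if_pos h, if_neg (not_not.mpr h)]
    · rw [if_neg h, if_pos h]
  rw [hsum2] at hB
  have hcount := Finset.card_filter_add_card_filter_not (s := (Finset.univ : Finset G))
    (fun g : G => ∀ ω : Ω, g • ω ≠ ω)
  rw [Finset.card_univ, ← Nat.card_eq_fintype_card] at hcount
  have hDercard : Der.card = n - 1 := by
    rw [hDer]; omega
  -- |G| = n * |G_α|
  have hos := card_orbit_mul_card_stabilizer (K := G) α
  rw [orbit_eq_univ, Nat.card_congr (Equiv.Set.univ Ω), Nat.card_eq_fintype_card, ← hn] at hos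
  -- |G_α| ≥ n - 1
  have hstab : n ≤ Nat.card (stabilizer G α) + 1 := by
    let f : Option (stabilizer G α) → Ω := fun o =>
      match o with
      | none => α
      | some g => (g : G) • β₀
    have hf : Function.Surjective f := by
      intro β
      by_cases hβ : β = α
      · exact ⟨none, hβ.symm⟩
      · obtain ⟨g, hg1, hg2⟩ := h2' α β₀ α β hαβ (Ne.symm hβ)
        exact ⟨some ⟨g, hg1⟩, hg2⟩
    have := Fintype.card_le_of_surjective f hf
    rw [Fintype.card_option] at this
    rw [Nat.card_eq_fintype_card]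
    exact this
  -- centralizer bound
  have hcent : ∀ d : G, (∀ ω : Ω, d • ω ≠ ω) → Nat.card (stabilizer (ConjAct G) d) ≤ n := by
    intro d hd
    let f : stabilizer (ConjAct G) d → Ω := fun c => (ConjAct.ofConjAct (c : ConjAct G)) • α
    have hf : Function.Injective f := by
      intro c c' hcc
      have hc : ∀ x : stabilizer (ConjAct G) d,
          ConjAct.ofConjAct (x : ConjAct G) * d = d * ConjAct.ofConjAct (x : ConjAct G) := by
        intro x
        have := x.2
        rw [mem_stabilizer_iff, ConjAct.smul_def] at this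
        calc ConjAct.ofConjAct (x : ConjAct G) * d
            = (ConjAct.ofConjAct (x : ConjAct G) * d * (ConjAct.ofConjAct (x : ConjAct G))⁻¹) *
              ConjAct.ofConjAct (x : ConjAct G) := by group
          _ = d * ConjAct.ofConjAct (x : ConjAct G) := by rw [this]
      set a := ConjAct.ofConjAct (c : ConjAct G) with ha
      set b := ConjAct.ofConjAct (c' : ConjAct G) with hb
      have hab : (b⁻¹ * a) • α = α := by
        rw [mul_smul]
        show b⁻¹ • (a • α) = α
        have : a • α = b • α := hcc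
        rw [this, inv_smul_smul]
      have hcomm : (b⁻¹ * a) * d = d * (b⁻¹ * a) := by
        have h1 := hc c
        have h2 := hc c'
        rw [← ha] at h1
        rw [← hb] at h2
        have h3 : b⁻¹ * d = d * b⁻¹ := by
          calc b⁻¹ * d = b⁻¹ * (d * b) * b⁻¹ := by group
            _ = b⁻¹ * (b * d) * b⁻¹ := by rw [h2]
            _ = d * b⁻¹ := by group
        calc (b⁻¹ * a) * d = b⁻¹ * (a * d) := by group
          _ = b⁻¹ * (d * a) := by rw [h1]
          _ = (b⁻¹ * d) * a := by group
          _ = (d * b⁻¹) * a := by rw [h3]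
          _ = d * (b⁻¹ * a) := by group
      have hfix2 : (b⁻¹ * a) • (d • α) = d • α := by
        rw [← mul_smul, hcomm, mul_smul, hab]
      have h1 : b⁻¹ * a = 1 := by
        by_contra hne
        exact hsharp _ hne α (d • α) (Ne.symm (hd α)) hab hfix2
      have h3 : a = b := by
        calc a = b * (b⁻¹ * a) := by group
          _ = b := by rw [h1, mul_one]
      apply Subtype.ext
      exact ConjAct.ofConjAct.injective h3
    have := Nat.card_le_card_of_injective f hf
    rwa [Nat.card_eq_fintype_card (α := Ω)] at this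
  -- the orbit of a derangement is all of `Der`
  have horb : ∀ d : G, (∀ ω : Ω, d • ω ≠ ω) → ∀ d' : G, (∀ ω : Ω, d' • ω ≠ ω) →
      ConjClasses.mk d' = ConjClasses.mk d := by
    intro d hd d' hd'
    have hos2 := card_orbit_mul_card_stabilizer (K := ConjAct G) d
    have hcG : Nat.card (ConjAct G) = Nat.card G := rfl
    rw [hcG] at hos2
    have hsub : orbit (ConjAct G) d ⊆ (Der : Set G) := by
      rintro _ ⟨g, rfl⟩
      simp only [hDer, Finset.coe_filter, Finset.mem_univ, true_and, Set.mem_ofPred_eq]
      intro ω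
      have := der_conj hd (ConjAct.ofConjAct g) ω
      rwa [← ConjAct.smul_def] at this
    have hle : Nat.card (orbit (ConjAct G) d) ≤ n - 1 := by
      rw [← hDercard, Nat.card_coe_set_eq, ← Set.ncard_coe_finset]
      exact Set.ncard_le_ncard hsub (Finset.finite_toSet _)
    have hcd := hcent d hd
    have hge : n - 1 ≤ Nat.card (orbit (ConjAct G) d) := by
      by_contra hlt
      push Not at hlt
      have hnpos : 0 < n := by omega
      -- |orbit| * |stab| < (n-1) * n ≤ |G|
      have h1 : Nat.card (orbit (ConjAct G) d) * Nat.card (stabilizer (ConjAct G) d) ≤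
          Nat.card (orbit (ConjAct G) d) * n := Nat.mul_le_mul_left _ hcd
      have h2 : Nat.card (orbit (ConjAct G) d) * n < (n - 1) * n :=
        Nat.mul_lt_mul_of_pos_right hlt hnpos
      have h3 : (n - 1) * n ≤ n * Nat.card (stabilizer G α) := by
        rw [mul_comm]
        exact Nat.mul_le_mul_left _ (by omega)
      omega
    have heq : orbit (ConjAct G) d = (Der : Set G) := by
      apply Set.eq_of_subset_of_ncard_le hsub _ (Finset.finite_toSet _)
      rw [Set.ncard_coe_finset, hDercard, ← Nat.card_coe_set_eq]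
      exact hge
    have hmem : d' ∈ orbit (ConjAct G) d := by
      rw [heq]
      simp only [hDer, Finset.coe_filter, Finset.mem_univ, true_and, Set.mem_ofPred_eq]
      exact hd'
    rw [ConjAct.mem_orbit_conjAct] at hmem
    exact ConjClasses.mk_eq_mk_iff_isConj.mpr hmem
  -- existence of a derangement
  have hne : Der.Nonempty := by
    rw [← Finset.card_pos, hDercard]; omega
  obtain ⟨d₀, hd₀⟩ := hne
  have hd₀' : ∀ ω : Ω, d₀ • ω ≠ ω := by
    simpa [hDer] using hd₀
  rw [Nat.card_eq_one_iff_unique]
  refine ⟨⟨?_⟩, ⟨⟨ConjClasses.mk d₀, d₀, rfl, hd₀'⟩⟩⟩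
  rintro ⟨c, g, rfl, hg⟩ ⟨c', g', rfl, hg'⟩
  apply Subtype.ext
  exact horb g' hg' g hg

end Cfsg.Agent.Lib.Helper7.PUD
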