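import Mathlib
import Cfsg.Agent.Lib.Helper7.PUD1
import Cfsg.Agent.Lib.Helper7.PUD7

set_option autoImplicit false

/-!
# Two derangement classes: the regular case
-/

namespace Cfsg.Agent.Lib.Helper7.PUD

open Cfsg.Agent.Lib.Helper7 MulAction

variable {G : Type*} [Group G] {Ω : Type*} [MulAction G Ω]

/-- the regular-normal-subgroup part of the conclusions -/
theorem regular_part (N : Subgroup G) [hN : N.Normal] (hNne : N ≠ ⊥)
    (hab : ∀ a ∈ N, ∀ b ∈ N, a * b = b * a)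
    (hreg' : ∀ β : Ω, ∀ n ∈ N, n • β = β → n = 1) :
    ∃ N : Subgroup G, N.Normal ∧ N ≠ ⊥ ∧ IsMulCommutative N ∧ ∀ ω : Ω, stabilizer N ω = ⊥ := by
  refine ⟨N, hN, hNne, ⟨⟨fun x y => Subtype.ext (hab x x.2 y y.2)⟩⟩, fun ω => ?_⟩
  rw [eq_bot_iff]
  intro x hx
  rw [Subgroup.mem_bot]
  apply Subtype.ext
  exact hreg' ω x x.2 (mem_stabilizer_iff.mp hx)

theorem regular_two_mixed [Finite G] [Fintype Ω]
    (N : Subgroup G) [hN : N.Normal] (hNne : N ≠ ⊥)
    (hNtr : ∀ a b : Ω, ∃ n ∈ N, n • a = b)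
    (hreg' : ∀ β : Ω, ∀ n ∈ N, n • β = β → n = 1)
    (d d' : G) (hd'N : d' ∉ N)
    (hcls : ∀ x : G, (∀ ω : Ω, x • ω ≠ ω) →
      (∃ g : G, g * d * g⁻¹ = x) ∨ (∃ g : G, g * d' * g⁻¹ = x))
    (hnot1 : Nat.card {c : ConjClasses G // ∃ g : G, ConjClasses.mk g = c ∧
      ∀ ω : Ω, g • ω ≠ ω} ≠ 1)
    (hΩ : 2 ≤ Fintype.card Ω) :
    (∃ N : Subgroup G, N.Normal ∧ N ≠ ⊥ ∧ IsMulCommutative N ∧ ∀ ω : Ω, stabilizer N ω = ⊥) ∧
      IsMultiplyPretransitive G Ω 2 ∧ ∃ g : G, g ≠ 1 ∧ 2 ≤ Nat.card (fixedBy Ω g) := by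
  have hNder : ∀ n ∈ N, n ≠ 1 → ∀ ω : Ω, n • ω ≠ ω :=
    fun n hn hn1 ω hω => hn1 (hreg' ω n hn hω)
  have hconjd : ∀ a ∈ N, a ≠ 1 → ∃ g : G, g * d * g⁻¹ = a := by
    intro a ha ha1
    rcases hcls a (hNder a ha ha1) with h | ⟨g, hg⟩
    · exact h
    · exfalso
      apply hd'N
      have := hN.conj_mem a ha g⁻¹
      rw [← hg] at this
      have e : g⁻¹ * (g * d' * g⁻¹) * g⁻¹⁻¹ = d' := by group
      rwa [e] at this
  have hNconj : ∀ a ∈ N, ∀ b ∈ N, a ≠ 1 → b ≠ 1 → ∃ g : G, g * a * g⁻¹ = b := by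
    intro a ha b hb ha1 hb1
    obtain ⟨g₁, hg₁⟩ := hconjd a ha ha1
    obtain ⟨g₂, hg₂⟩ := hconjd b hb hb1
    refine ⟨g₂ * g₁⁻¹, ?_⟩
    rw [← hg₁, ← hg₂]; group
  obtain ⟨hab, h2⟩ := two_trans_of_regular (Ω := Ω) N hNne hNtr hNconj
  refine ⟨regular_part N hNne hab hreg', h2, ?_⟩
  by_contra hcon
  push Not at hcon
  apply hnot1
  apply sharp_imp h2 _ hΩ
  intro g hg1 a b hab' hga hgb
  have := hcon g hg1
  haveI : Nontrivial (fixedBy Ω g) := ⟨⟨⟨a, hga⟩, ⟨b, hgb⟩, fun h => hab' (congrArg Subtype.val h)⟩⟩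
  have h1 := Finite.one_lt_card_iff_nontrivial.mpr (inferInstance : Nontrivial (fixedBy Ω g))
  omega

theorem regular_two_inside [Finite G] [Fintype Ω]
    (N : Subgroup G) [hN : N.Normal] (hNne : N ≠ ⊥)
    (hNmin : ∀ K : Subgroup G, K.Normal → K ≠ ⊥ → K ≤ N → K = N)
    (hNtr : ∀ a b : Ω, ∃ n ∈ N, n • a = b)
    (hreg' : ∀ β : Ω, ∀ n ∈ N, n • β = β → n = 1) (α : Ω)
    (d d' : G) (hd : ∀ ω : Ω, d • ω ≠ ω) (hd' : ∀ ω : Ω, d' • ω ≠ ω)
    (hdd' : ∀ g : G, g * d * g⁻¹ ≠ d')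
    (hcls : ∀ x : G, (∀ ω : Ω, x • ω ≠ ω) →
      (∃ g : G, g * d * g⁻¹ = x) ∨ (∃ g : G, g * d' * g⁻¹ = x))
    (hDerN : ∀ x : G, (∀ ω : Ω, x • ω ≠ ω) → x ∈ N) :
    (∃ N : Subgroup G, N.Normal ∧ N ≠ ⊥ ∧ IsMulCommutative N ∧ ∀ ω : Ω, stabilizer N ω = ⊥) ∧
      (∀ g : G, g ≠ 1 → Nat.card (fixedBy Ω g) ≤ 1) ∧ ¬ 2 ∣ Fintype.card Ω ∧
      2 * Nat.card (stabilizer G α) = Fintype.card Ω - 1 := by
  classical
  have hNder : ∀ n ∈ N, n ≠ 1 → ∀ ω : Ω, n • ω ≠ ω :=
    fun n hn hn1 ω hω => hn1 (hreg' ω n hn hω)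
  have hord : ∀ g x : G, orderOf (g * x * g⁻¹) = orderOf x := by
    intro g x
    have := (MulAut.conj g).orderOf_eq x
    rwa [MulAut.conj_apply] at this
  -- `N` is abelian
  have hsolv : Group.IsSolvable N := by
    apply isSolvable_of_two_orders N (orderOf d) (orderOf d')
    intro t ht ht1
    rcases hcls t (hNder t ht ht1) with ⟨g, hg⟩ | ⟨g, hg⟩
    · left; rw [← hg, hord]
    · right; rw [← hg, hord]
  have hab := abelian_of_minNormal_solvable hNne hNmin hsolv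
  have hsharp := sharp_of_regular N hNtr hreg' hDerN
  have hfix : ∀ g : G, g ≠ 1 → Nat.card (fixedBy Ω g) ≤ 1 := by
    intro g hg1
    rw [Finite.card_le_one_iff_subsingleton]
    refine ⟨fun a b => ?_⟩
    by_contra hne
    have hab' : (a : Ω) ≠ b := fun h => hne (Subtype.ext h)
    exact hsharp g hg1 a b hab' a.2 b.2
  -- the counting bijection
  let e : Bool → G := fun i => if i then d else d'
  have heder : ∀ i, ∀ ω : Ω, e i • ω ≠ ω := by
    intro i
    cases i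
    · exact hd'
    · exact hd
  have heN : ∀ i, e i ∈ N := fun i => hDerN _ (heder i)
  have hene : ∀ i j : Bool, i ≠ j → ∀ g : G, g * e i * g⁻¹ ≠ e j := by
    intro i j hij g
    cases i <;> cases j
    · exact absurd rfl hij
    · intro h
      apply hdd' g⁻¹
      show g⁻¹ * d * g⁻¹⁻¹ = d'
      have h' : g * d' * g⁻¹ = d := h
      rw [← h']; group
    · exact hdd' g
    · exact absurd rfl hij
  haveI : Fintype (stabilizer G α) := Fintype.ofFinite _
  let Ψ : Option (stabilizer G α × Bool) → Ω := fun o =>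
    match o with
    | none => α
    | some (h, i) => ((h : G) * e i * (h : G)⁻¹) • α
  have hconjN : ∀ (h : G) (i : Bool), h * e i * h⁻¹ ∈ N := fun h i => hN.conj_mem _ (heN i) h
  have hΨinj : Function.Injective Ψ := by
    intro o o' hoo
    rcases o with _ | ⟨h, i⟩ <;> rcases o' with _ | ⟨h', i'⟩
    · rfl
    · exfalso
      exact der_conj (heder i') (h' : G) α hoo.symm
    · exfalso
      exact der_conj (heder i) (h : G) α hoo
    · have hoo' : ((h : G) * e i * (h : G)⁻¹) • α = ((h' : G) * e i' * (h' : G)⁻¹) • α := hoo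
      set x := (h : G) * e i * (h : G)⁻¹ with hx
      set x' := (h' : G) * e i' * (h' : G)⁻¹ with hx'
      have hxx' : x'⁻¹ * x = 1 := by
        apply hreg' α _ (N.mul_mem (N.inv_mem (hconjN _ _)) (hconjN _ _))
        rw [mul_smul, hoo', inv_smul_smul]
      have hxeq : x = x' := by
        calc x = x' * (x'⁻¹ * x) := by group
          _ = x' := by rw [hxx', mul_one]
      have hconj : ((h' : G)⁻¹ * (h : G)) * e i * ((h' : G)⁻¹ * (h : G))⁻¹ = e i' := by
        calc ((h' : G)⁻¹ * (h : G)) * e i * ((h' : G)⁻¹ * (h : G))⁻¹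
            = (h' : G)⁻¹ * x * (h' : G) := by rw [hx]; group
          _ = (h' : G)⁻¹ * x' * (h' : G) := by rw [hxeq]
          _ = e i' := by rw [hx']; group
      have hii' : i = i' := by
        by_contra hne
        exact hene i i' hne _ hconj
      subst hii'
      set k := (h' : G)⁻¹ * (h : G) with hk
      have hkα : k • α = α := by
        rw [hk, mul_smul]
        have h1 : (h : G) • α = α := h.2
        have h2 : (h' : G) • α = α := h'.2
        rw [h1, inv_smul_eq_iff, h2]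
      have hkcomm : k * e i = e i * k := by
        calc k * e i = (k * e i * k⁻¹) * k := by group
          _ = e i * k := by rw [hconj]
      have hk1 : k = 1 := by
        by_contra hk1
        apply hsharp k hk1 α (e i • α) (Ne.symm (heder i α)) hkα
        rw [← mul_smul, hkcomm, mul_smul, hkα]
      have hhh' : (h : G) = (h' : G) := by
        calc (h : G) = (h' : G) * k := by rw [hk]; group
          _ = (h' : G) := by rw [hk1, mul_one]
      have : h = h' := Subtype.ext hhh'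
      rw [this]
  have hΨsurj : Function.Surjective Ψ := by
    intro β
    by_cases hβ : β = α
    · exact ⟨none, hβ.symm⟩
    · obtain ⟨n, hn, hnβ⟩ := hNtr α β
      have hn1 : n ≠ 1 := by
        intro h; rw [h, one_smul] at hnβ; exact hβ hnβ.symm
      have hex : ∃ (g : G) (i : Bool), g * e i * g⁻¹ = n := by
        rcases hcls n (hNder n hn hn1) with ⟨g, hg⟩ | ⟨g, hg⟩
        · exact ⟨g, true, hg⟩
        · exact ⟨g, false, hg⟩
      obtain ⟨g, i, hg⟩ := hex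
      obtain ⟨m, hm, hmα⟩ := hNtr α (g • α)
      have hhα : (m⁻¹ * g) • α = α := by
        rw [mul_smul, ← hmα, inv_smul_smul]
      refine ⟨some (⟨m⁻¹ * g, hhα⟩, i), ?_⟩
      show ((m⁻¹ * g) * e i * (m⁻¹ * g)⁻¹) • α = β
      have e1 : (m⁻¹ * g) * e i * (m⁻¹ * g)⁻¹ = m⁻¹ * n * m := by
        rw [← hg]; group
      have e2 : m⁻¹ * n * m = n := by
        rw [hab m⁻¹ (N.inv_mem hm) n hn]; group
      rw [e1, e2, hnβ]
  have hcard : Fintype.card Ω = Nat.card (stabilizer G α) * 2 + 1 := by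
    rw [← Fintype.card_of_bijective ⟨hΨinj, hΨsurj⟩, Fintype.card_option, Fintype.card_prod,
      Fintype.card_bool, Nat.card_eq_fintype_card]
  refine ⟨regular_part N hNne hab hreg', hfix, ?_, ?_⟩
  · rw [hcard]; omega
  · rw [hcard]; omega

end Cfsg.Agent.Lib.Helper7.PUD
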