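import Mathlib
import Cfsg.Agent.Lib.Helper7.EP6
import Cfsg.Agent.Lib.Helper7.EP8
import Cfsg.Agent.Lib.Helper7.PUD8

set_option autoImplicit false

/-!
# Extremely primitive groups are affine or almost simple
-/

namespace Cfsg.Agent.Lib.Helper7.EP

open MulAction Cfsg.Agent.Lib.Helper7 Cfsg.Agent.Lib.Helper7.PUD

variable {G : Type*} [Group G] {Ω : Type*} [MulAction G Ω]

/-- a minimal `N`-invariant subgroup `T` with `N = T * C_N(T)` is simple -/
theorem isSimpleGroup_of_isMinIn {N T : Subgroup G} (hT : IsMinIn N T)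
    (hmul : ∀ n ∈ N, ∃ t ∈ T, ∃ c ∈ N ⊓ Subgroup.centralizer (T : Set G), n = t * c) :
    IsSimpleGroup T := by
  haveI : Nontrivial T := (Subgroup.nontrivial_iff_ne_bot T).mpr hT.ne_bot
  refine ⟨fun S hS => ?_⟩
  by_cases hb : S = ⊥
  · exact Or.inl hb
  · right
    have hle : S.map T.subtype ≤ T := Subgroup.map_subtype_le S
    have hne : S.map T.subtype ≠ ⊥ := by
      intro h0
      apply hb
      exact (Subgroup.map_eq_bot_iff_of_injective S T.subtype_injective).mp h0
    have hnorm : N ≤ Subgroup.normalizer ((S.map T.subtype : Subgroup G) : Set G) := by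
      apply le_normalizer_of_conj_mem
      rintro n hn _ ⟨x, hx, rfl⟩
      obtain ⟨t, ht, c, hc, rfl⟩ := hmul n hn
      refine ⟨⟨t, ht⟩ * x * ⟨t, ht⟩⁻¹, hS.conj_mem x hx ⟨t, ht⟩, ?_⟩
      have e := (Subgroup.mem_centralizer_iff.mp hc.2) (x : G) x.2
      show t * (x : G) * t⁻¹ = t * c * (x : G) * (t * c)⁻¹
      calc t * (x : G) * t⁻¹ = t * ((x : G) * c) * c⁻¹ * t⁻¹ := by group
        _ = t * (c * (x : G)) * c⁻¹ * t⁻¹ := by rw [e]
        _ = t * c * (x : G) * (t * c)⁻¹ := by group
    have := hT.min _ hle hne hnorm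
    apply Subgroup.map_injective T.subtype_injective
    rw [this]
    ext x
    constructor
    · intro hx
      exact ⟨⟨x, hx⟩, Subgroup.mem_top _, rfl⟩
    · rintro ⟨y, _, rfl⟩
      exact y.2

/-- a subgroup centralized by a transitive subgroup is semiregular -/
theorem inf_stabilizer_eq_bot_of_centralized [FaithfulSMul G Ω] (α : Ω) (A B : Subgroup G)
    (hBtr : ∀ ω : Ω, ∃ b ∈ B, b • α = ω) (hcomm : ∀ a ∈ A, ∀ b ∈ B, a * b = b * a) :
    A ⊓ stabilizer G α = ⊥ := by
  rw [eq_bot_iff]
  intro x hx
  rw [Subgroup.mem_bot]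
  apply FaithfulSMul.eq_of_smul_eq_smul (α := Ω)
  intro ω
  rw [one_smul]
  obtain ⟨b, hb, rfl⟩ := hBtr ω
  rw [← mul_smul, hcomm x hx.1 b hb, mul_smul, mem_stabilizer_iff.mp hx.2]

theorem main_ep {G : Type*} [Group G] [Finite G] {Ω : Type*} [Fintype Ω] [MulAction G Ω]
    [FaithfulSMul G Ω] (hΩ : 2 ≤ Fintype.card Ω) (hprim : IsPreprimitive G Ω)
    (hep : ∀ (α ω : Ω), IsPreprimitive (stabilizer G α) (orbit (stabilizer G α) ω)) :
    (∃ N : Subgroup G, N.Normal ∧ N ≠ ⊥ ∧ IsMulCommutative N ∧ ∀ ω : Ω, stabilizer N ω = ⊥) ∨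
    (∃ T : Subgroup G, T.Normal ∧ IsSimpleGroup T ∧ ¬ IsMulCommutative T ∧
      Subgroup.centralizer (T : Set G) = ⊥) := by
  classical
  obtain ⟨α, β₀, hαβ⟩ : ∃ a b : Ω, a ≠ b := Fintype.exists_pair_of_one_lt_card hΩ
  haveI : IsPretransitive G Ω := hprim.toIsPretransitive
  haveI : Nontrivial Ω := ⟨⟨α, β₀, hαβ⟩⟩
  -- quasi-primitivity
  have hquasi : ∀ K : Subgroup G, K.Normal → K ≠ ⊥ → ∀ a b : Ω, ∃ k ∈ K, k • a = b := by
    intro K hK hKne a b
    haveI := hK
    have hfp : fixedPoints K Ω ≠ Set.univ := by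
      intro h
      apply hKne
      rw [eq_bot_iff]
      intro k hk
      rw [Subgroup.mem_bot]
      apply FaithfulSMul.eq_of_smul_eq_smul (α := Ω)
      intro ω
      rw [one_smul]
      have : ω ∈ fixedPoints K Ω := by rw [h]; exact Set.mem_univ _
      exact this ⟨k, hk⟩
    haveI := IsQuasiPreprimitive.isPretransitive_of_normal (G := G) (X := Ω) hfp
    obtain ⟨k, hk⟩ := exists_smul_eq K a b
    exact ⟨k, k.2, hk⟩
  have htr : ∀ ω : Ω, ∃ g : G, g • α = ω := fun ω => exists_smul_eq G α ω
  set H := stabilizer G α with hH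
  have hHmax : IsCoatom H := IsPreprimitive.isCoatom_stabilizer_of_isPreprimitive G α
  have htop : (⊤ : Subgroup G) ≠ ⊥ := by
    intro h
    obtain ⟨g, hg⟩ := exists_smul_eq G α β₀
    have : g ∈ (⊥ : Subgroup G) := h ▸ Subgroup.mem_top g
    rw [Subgroup.mem_bot] at this
    rw [this, one_smul] at hg
    exact hαβ hg
  by_cases hHbot : H = ⊥
  · -- the regular case: `G` is cyclic
    left
    refine regular_part ⊤ htop ?_ ?_
    · intro a _ b _
      by_cases ha : a = 1
      · rw [ha, one_mul, mul_one]
      · have h1 : (⊥ : Subgroup G) < Subgroup.zpowers a := by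
          rw [bot_lt_iff_ne_bot]
          intro h
          apply ha
          have : a ∈ Subgroup.zpowers a := Subgroup.mem_zpowers a
          rw [h, Subgroup.mem_bot] at this
          exact this
        have h2 : Subgroup.zpowers a = ⊤ := (hHbot ▸ hHmax).2 _ h1
        have hb : b ∈ Subgroup.zpowers a := h2 ▸ Subgroup.mem_top b
        obtain ⟨k, rfl⟩ := Subgroup.mem_zpowers_iff.mp hb
        exact (Commute.zpow_right (Commute.refl a) k).eq
    · intro β n _ hfix
      obtain ⟨g, rfl⟩ := htr β
      have h1 : g⁻¹ * n * g ∈ H := by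
        rw [hH, mem_stabilizer_iff, mul_smul, mul_smul, hfix, inv_smul_smul]
      rw [hHbot, Subgroup.mem_bot] at h1
      calc n = g * (g⁻¹ * n * g) * g⁻¹ := by group
        _ = 1 := by rw [h1]; group
  -- all two-point stabilizers are maximal in `H`
  have hmax : ∀ ω : Ω, ω ≠ α → IsCoatom ((stabilizer G ω).subgroupOf H) := by
    intro ω hω
    -- `H` does not fix `ω`
    have hmove : ∃ h ∈ H, h • ω ≠ ω := by
      by_contra hcon
      push Not at hcon
      have hle : H ≤ stabilizer G ω := fun h hh => mem_stabilizer_iff.mpr (hcon h hh)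
      obtain ⟨g, hg⟩ := htr ω
      have heq : stabilizer G ω = H := by
        symm
        apply Subgroup.eq_of_le_of_card_ge hle
        rw [← hg, stabilizer_smul_eq_cj, card_cj]
      have hgn : g ∈ Subgroup.normalizer (H : Set G) := by
        rw [mem_normalizer_iff_cj, ← stabilizer_smul_eq_cj, hg, heq]
      rcases hHmax.le_iff.mp (Subgroup.le_normalizer : H ≤ Subgroup.normalizer (H : Set G))
        with htop' | heq'
      · haveI : H.Normal := Subgroup.normalizer_eq_top_iff.mp htop'
        exact hHbot (eq_bot_of_normal_le_stabilizer α htr H le_rfl)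
      · rw [heq'] at hgn
        exact hω (hg.symm.trans (mem_stabilizer_iff.mp hgn))
    obtain ⟨h₀, hh₀, hh₀ω⟩ := hmove
    haveI := hep α ω
    haveI : Nontrivial (orbit H ω) := by
      refine ⟨⟨⟨ω, mem_orbit_self ω⟩, ⟨(⟨h₀, hh₀⟩ : H) • ω, mem_orbit ω _⟩, ?_⟩⟩
      intro h
      apply hh₀ω
      exact (congrArg Subtype.val h).symm
    have hco := IsPreprimitive.isCoatom_stabilizer_of_isPreprimitive H
      (⟨ω, mem_orbit_self ω⟩ : orbit H ω)
    have heq : stabilizer H (⟨ω, mem_orbit_self ω⟩ : orbit H ω) =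
        (stabilizer G ω).subgroupOf H := by
      ext h
      rw [mem_stabilizer_iff, Subgroup.mem_subgroupOf, mem_stabilizer_iff]
      constructor
      · intro h1
        exact congrArg Subtype.val h1
      · intro h1
        exact Subtype.ext h1
    rw [heq] at hco
    exact hco
  -- a minimal normal subgroup
  obtain ⟨N, ⟨hNn, hNne⟩, -, hNmin'⟩ := exists_minimal_subgroup
    (fun K : Subgroup G => K.Normal ∧ K ≠ ⊥) ⊤ ⟨inferInstance, htop⟩
  haveI := hNn
  have hNmin : ∀ K : Subgroup G, K.Normal → K ≠ ⊥ → K ≤ N → K = N :=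
    fun K hK hKne hle => hNmin' K ⟨hK, hKne⟩ hle
  have hNtr := hquasi N hNn hNne
  have hNtr' : ∀ ω : Ω, ∃ n ∈ N, n • α = ω := fun ω => hNtr α ω
  obtain ⟨T, hT⟩ := exists_isMinIn N hNne
  by_cases hreg : N ⊓ H = ⊥
  · by_cases hab : ∀ a ∈ N, ∀ b ∈ N, a * b = b * a
    · left
      exact regular_part N hNne hab (semiregular_of_inf_eq_bot N hNtr α hreg)
    · push Not at hab
      have hnonab : ∃ a ∈ N, ∃ b ∈ N, a * b ≠ b * a := hab
      by_cases hTN : T = N
      · rw [hTN] at hT
        have hsimple : IsSimpleGroup N := hT.isSimpleGroup_of_self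
        have hnc : ¬ IsMulCommutative N := by
          intro hc
          obtain ⟨a, ha, b, hb, hab'⟩ := hnonab
          apply hab'
          exact congrArg Subtype.val (hc.is_comm.comm ⟨a, ha⟩ ⟨b, hb⟩)
        by_cases hC : Subgroup.centralizer (N : Set G) = ⊥
        · right
          exact ⟨N, hNn, hsimple, hnc, hC⟩
        · exfalso
          have hCn : (Subgroup.centralizer (N : Set G)).Normal := inferInstance
          have hCtr := hquasi _ hCn hC
          apply hs_false α N (Subgroup.centralizer (N : Set G)) hNtr' hreg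
            (fun ω => hCtr α ω) _ _ hsimple hnonab hmax
          · intro t ht c hc
            exact (Subgroup.mem_centralizer_iff.mp hc) t ht
          · intro h _
            left
            intro t ht
            exact hNn.conj_mem t ht h
      · exact (tw_false α hHmax hmax N hNmin hreg hnonab T hT hTN).elim
  · -- the non-regular case
    have hnonab : ∃ a ∈ N, ∃ b ∈ N, a * b ≠ b * a := by
      by_contra hcon
      push Not at hcon
      exact hreg (inf_stabilizer_eq_bot_of_centralized α N N hNtr' hcon)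
    set C := N ⊓ Subgroup.centralizer (T : Set G) with hC
    have hTC := hT.inf_centralizer_eq_bot hNmin hnonab
    have hmul := hT.exists_mul hNmin
    have hcomm : ∀ t ∈ T, ∀ c ∈ C, t * c = c * t := by
      intro t ht c hc
      exact (Subgroup.mem_centralizer_iff.mp hc.2) t ht
    have hTtr := transitive_of_normal_in α hHmax htr hmax N hreg hNtr' T hT.ne_bot hT.norm
    have hna : ∃ a ∈ T, ∃ b ∈ T, a * b ≠ b * a := by
      by_contra hcon
      push Not at hcon
      apply hT.ne_bot
      rw [eq_bot_iff, ← hTC]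
      intro t ht
      refine Subgroup.mem_inf.mpr ⟨ht, ?_⟩
      rw [Subgroup.mem_centralizer_iff]
      intro s hs
      exact hcon s hs t ht
    by_cases hCb : C = ⊥
    · -- `N = T` is simple with trivial centralizer
      have hNT : T = N := by
        apply le_antisymm hT.le
        intro n hn
        obtain ⟨t, ht, c, hc, rfl⟩ := hmul n hn
        rw [← hC, hCb, Subgroup.mem_bot] at hc
        rw [hc, mul_one]; exact ht
      rw [hNT] at hT
      have hsimple : IsSimpleGroup N := hT.isSimpleGroup_of_self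
      have hnc : ¬ IsMulCommutative N := by
        intro hc
        obtain ⟨a, ha, b, hb, hab'⟩ := hnonab
        apply hab'
        exact congrArg Subtype.val (hc.is_comm.comm ⟨a, ha⟩ ⟨b, hb⟩)
      right
      refine ⟨N, hNn, hsimple, hnc, ?_⟩
      by_contra hCne
      have hCn : (Subgroup.centralizer (N : Set G)).Normal := inferInstance
      have hCtr := hquasi _ hCn hCne
      apply hreg
      apply inf_stabilizer_eq_bot_of_centralized α N (Subgroup.centralizer (N : Set G))
        (fun ω => hCtr α ω)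
      intro a ha b hb
      exact (Subgroup.mem_centralizer_iff.mp hb) a ha
    · exfalso
      have hCn : N ≤ Subgroup.normalizer (C : Set G) :=
        normalizer_inf Subgroup.le_normalizer (normalizer_centralizer hT.norm)
      have hCtr := transitive_of_normal_in α hHmax htr hmax N hreg hNtr' C hCb hCn
      have hTreg : T ⊓ H = ⊥ := inf_stabilizer_eq_bot_of_centralized α T C hCtr hcomm
      have hsimple : IsSimpleGroup T := isSimpleGroup_of_isMinIn hT hmul
      apply hs_false α T C hTtr hTreg hCtr hcomm _ hsimple hna hmax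
      intro h _
      rcases hT.cj_eq_or_le h with heq | hle
      · left
        intro t ht
        rw [← heq, mem_cj]
        have e : h⁻¹ * (h * t * h⁻¹) * h = t := by group
        rw [e]; exact ht
      · right
        intro t ht
        apply hle
        rw [mem_cj]
        have e : h⁻¹ * (h * t * h⁻¹) * h = t := by group
        rw [e]; exact ht

end Cfsg.Agent.Lib.Helper7.EP
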