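import Mathlib
import Cfsg.Agent.Lib.Lead.FrobCenter4
import Cfsg.Agent.Lib.Lead.FrobSylow
import Cfsg.Agent.Lib.Lead.Nilpotent
import Cfsg.Agent.S0042
import Cfsg.Agent.S4283
import Cfsg.Agent.S0666

set_option autoImplicit false
open Pointwise

/-!
# 2-Frobenius groups: basic data
-/

namespace Cfsg.Agent.Lib.Helper7.TwoFrob

open Cfsg.Agent.Lib.Lead

variable {G : Type*} [Group G]

theorem frobData_of_kernel_eq [Finite G] {C N : Subgroup G} (hC : Cfsg.IsFrobeniusComplement C)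
    (hN : Cfsg.frobeniusKernel C = (N : Set G)) : FrobData C N := by
  obtain ⟨K', hK'⟩ := exists_frobData hC
  have : K' = N := by
    apply SetLike.coe_injective
    rw [hK'.coe_eq, hN]
  rw [← this]
  exact hK'

/-- the data of a 2-Frobenius group -/
structure Data (H K : Subgroup G) [H.Normal] [K.Normal] (C₁ : Subgroup K)
    (C₂ : Subgroup (G ⧸ H)) : Prop where
  le : H ≤ K
  f1 : FrobData C₁ (H.subgroupOf K)
  f2 : FrobData C₂ (K.map (QuotientGroup.mk' H))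

namespace Data

variable {H K : Subgroup G} [H.Normal] [K.Normal] {C₁ : Subgroup K} {C₂ : Subgroup (G ⧸ H)}

/-- the image of the inner complement in `G` -/
def D (_h : Data H K C₁ C₂) : Subgroup G := C₁.map K.subtype

theorem D_le (h : Data H K C₁ C₂) : h.D ≤ K := by
  rintro _ ⟨c, -, rfl⟩
  exact c.2

theorem mem_D_iff (h : Data H K C₁ C₂) {x : G} : x ∈ h.D ↔ ∃ hx : x ∈ K, (⟨x, hx⟩ : K) ∈ C₁ := by
  constructor
  · rintro ⟨c, hc, rfl⟩
    exact ⟨c.2, hc⟩
  · rintro ⟨hx, hc⟩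
    exact ⟨⟨x, hx⟩, hc, rfl⟩

theorem fpf_D (h : Data H K C₁ C₂) {d x : G} (hd : d ∈ h.D) (hd1 : d ≠ 1) (hx : x ∈ H)
    (hcomm : d * x = x * d) : x = 1 := by
  obtain ⟨hdK, hdC⟩ := h.mem_D_iff.mp hd
  have h1 : (⟨d, hdK⟩ : K) ≠ 1 := fun e => hd1 (congrArg Subtype.val e)
  have h2 : (⟨x, h.le hx⟩ : K) ∈ H.subgroupOf K := Subgroup.mem_subgroupOf.mpr hx
  have h3 := h.f1.fpf hdC h1 h2 (Subtype.ext hcomm)
  exact congrArg Subtype.val h3

theorem D_inf (h : Data H K C₁ C₂) : h.D ⊓ H = ⊥ := by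
  rw [eq_bot_iff]
  intro x hx
  obtain ⟨hxD, hxH⟩ := Subgroup.mem_inf.mp hx
  obtain ⟨hxK, hxC⟩ := h.mem_D_iff.mp hxD
  have h1 : (⟨x, hxK⟩ : K) ∈ H.subgroupOf K ⊓ C₁ :=
    Subgroup.mem_inf.mpr ⟨Subgroup.mem_subgroupOf.mpr hxH, hxC⟩
  rw [h.f1.inf_eq_bot, Subgroup.mem_bot] at h1
  rw [Subgroup.mem_bot]
  exact congrArg Subtype.val h1

theorem exists_mul (h : Data H K C₁ C₂) {k : G} (hk : k ∈ K) :
    ∃ x ∈ H, ∃ d ∈ h.D, k = x * d := by
  haveI := h.f1.normal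
  have h1 : (⟨k, hk⟩ : K) ∈ H.subgroupOf K ⊔ C₁ := by
    rw [h.f1.compl.sup_eq_top]; exact Subgroup.mem_top _
  rw [Subgroup.mem_sup_of_normal_left] at h1
  obtain ⟨x, hx, c, hc, hxc⟩ := h1
  refine ⟨(x : G), Subgroup.mem_subgroupOf.mp hx, (c : G), ⟨c, hc, rfl⟩, ?_⟩
  exact (congrArg Subtype.val hxc).symm

theorem D_ne_bot (h : Data H K C₁ C₂) : h.D ≠ ⊥ := by
  intro h0
  apply h.f1.frob.1
  rw [eq_bot_iff]
  intro c hc
  have h1 : (c : G) ∈ h.D := ⟨c, hc, rfl⟩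
  rw [h0, Subgroup.mem_bot] at h1
  rw [Subgroup.mem_bot]
  exact Subtype.ext h1

theorem H_ne_bot (h : Data H K C₁ C₂) : H ≠ ⊥ := by
  intro h0
  apply h.f1.ne_bot
  rw [h0]
  rw [eq_bot_iff]
  intro x hx
  rw [Subgroup.mem_subgroupOf, Subgroup.mem_bot] at hx
  rw [Subgroup.mem_bot]
  exact Subtype.ext hx

section card

variable [Finite G]

/-- the order of the middle section -/
noncomputable def n₁ (_h : Data H K C₁ C₂) : ℕ := Nat.card (K ⧸ H.subgroupOf K)

theorem card_subgroupOf (h : Data H K C₁ C₂) : Nat.card (H.subgroupOf K) = Nat.card H :=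
  Nat.card_congr (Subgroup.subgroupOfEquivOfLe h.le).toEquiv

theorem card_C₁ (h : Data H K C₁ C₂) : Nat.card C₁ = h.n₁ := by
  have h1 := h.f1.card_mul
  have h2 := Subgroup.card_eq_card_quotient_mul_card_subgroup (H.subgroupOf K)
  rw [h2, mul_comm] at h1
  exact Nat.eq_of_mul_eq_mul_right Nat.card_pos h1

theorem card_D (h : Data H K C₁ C₂) : Nat.card h.D = h.n₁ := by
  unfold D
  rw [Subgroup.card_map_of_injective K.subtype_injective, h.card_C₁]

theorem card_Kb (h : Data H K C₁ C₂) : Nat.card (K.map (QuotientGroup.mk' H)) = h.n₁ := by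
  have h1 := Subgroup.relIndex_ker (QuotientGroup.mk' H) (K := K)
  rw [QuotientGroup.ker_mk'] at h1
  rw [← h1]
  unfold n₁ Subgroup.relIndex
  rw [Subgroup.index_eq_card]

theorem card_K (h : Data H K C₁ C₂) : Nat.card K = h.n₁ * Nat.card H := by
  rw [Subgroup.card_eq_card_quotient_mul_card_subgroup (H.subgroupOf K), h.card_subgroupOf]
  rfl

theorem card_C₂ (h : Data H K C₁ C₂) : Nat.card C₂ = Nat.card (G ⧸ K) := by
  have h1 := h.f2.card_mul
  rw [h.card_Kb] at h1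
  have h2 := Subgroup.card_eq_card_quotient_mul_card_subgroup H
  have h3 := Subgroup.card_eq_card_quotient_mul_card_subgroup K
  rw [h.card_K] at h3
  rw [← h1, h3] at h2
  have hpos : 0 < h.n₁ * Nat.card H := by
    rw [← h.card_K]; exact Nat.card_pos
  have h4 : Nat.card (G ⧸ K) * (h.n₁ * Nat.card H) = Nat.card C₂ * (h.n₁ * Nat.card H) := by
    rw [h2]; ring
  exact (Nat.eq_of_mul_eq_mul_right hpos h4).symm

theorem card_G (h : Data H K C₁ C₂) :
    Nat.card G = Nat.card (G ⧸ K) * (h.n₁ * Nat.card H) := by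
  rw [Subgroup.card_eq_card_quotient_mul_card_subgroup K, h.card_K]

theorem coprime_H (h : Data H K C₁ C₂) : Nat.Coprime h.n₁ (Nat.card H) := by
  have := h.f1.coprime
  rw [h.card_subgroupOf, h.card_C₁] at this
  exact this.symm

theorem coprime_GK (h : Data H K C₁ C₂) : Nat.Coprime h.n₁ (Nat.card (G ⧸ K)) := by
  have := h.f2.coprime
  rw [h.card_Kb, h.card_C₂] at this
  exact this

end card

end Data

end Cfsg.Agent.Lib.Helper7.TwoFrob
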