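import Mathlib
import Cfsg.Agent.Lib.Helper7.TwoFrob1
import Cfsg.Agent.Lib.Lead.HallThm4

set_option autoImplicit false
open Pointwise

/-!
# Solvable groups all of whose elements have prime power order (Higman)
-/

namespace Cfsg.Agent.Lib.Helper7.EPPO

open Cfsg.Agent.Lib.Lead

universe u

section frob

variable {L : Type*} [Group L]

/-- recognising a Frobenius group from a normal subgroup with a fixed-point-free complement -/
theorem frobData_of_fpf [Finite L] (K H : Subgroup L) [hKn : K.Normal]
    (hc : Subgroup.IsComplement' K H) (hK : K ≠ ⊥) (hH : H ≠ ⊥)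
    (hfpf : ∀ h ∈ H, h ≠ 1 → K ⊓ Subgroup.centralizer {h} = ⊥) : FrobData H K := by
  have hF : Cfsg.IsFrobeniusComplement H :=
    (isFrobeniusComplement_iff_fpf K H hc hK hH).mpr hfpf
  obtain ⟨K', hK'⟩ := exists_frobData hF
  have hdisj : K ⊓ H = ⊥ := disjoint_iff.mp hc.disjoint
  have hle : K ≤ K' := by
    intro x hx
    rw [hK'.mem_iff]
    by_cases hx1 : x = 1
    · exact Or.inl hx1
    · right
      intro g hg
      rw [mem_conj_smul_iff] at hg
      have h1 : g⁻¹ * x * g ∈ K := hKn.conj_mem' x hx g
      have h2 : g⁻¹ * x * g ∈ K ⊓ H := Subgroup.mem_inf.mpr ⟨h1, hg⟩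
      rw [hdisj, Subgroup.mem_bot] at h2
      apply hx1
      have : x = g * (g⁻¹ * x * g) * g⁻¹ := by group
      rw [this, h2]; group
  have hcard : Nat.card K' ≤ Nat.card K := by
    have h1 := hK'.card_mul
    have h2 := hc.card_mul_card
    rw [← h2] at h1
    exact (Nat.eq_of_mul_eq_mul_right Nat.card_pos h1).le
  have : K = K' := Subgroup.eq_of_le_of_card_ge hle hcard
  rw [this]
  exact hK'

end frob

section eppo

variable {H : Type u} [Group H]

/-- in a group whose elements have prime power order, nontrivial elements of coprime orders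
never commute -/
theorem false_of_commute_coprime (heppo : ∀ g : H, g ≠ 1 → IsPrimePow (orderOf g)) {x v : H}
    (hx : x ≠ 1) (hv : v ≠ 1) (hcop : (orderOf x).Coprime (orderOf v)) (hcomm : x * v = v * x) :
    False := by
  have hc : Commute x v := hcomm
  have h1 := hc.orderOf_mul_eq_mul_orderOf_of_coprime hcop
  have hxv : x * v ≠ 1 := by
    intro h
    rw [h, orderOf_one] at h1
    have h2 := Nat.eq_one_of_mul_eq_one_right h1.symm
    exact hx (orderOf_eq_one_iff.mp h2)
  have h2 := heppo _ hxv
  rw [h1] at h2
  have h3 := (Nat.Coprime.isPrimePow_dvd_mul hcop h2).mp dvd_rfl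
  rcases h3 with h3 | h3
  · have h4 : orderOf v = 1 := by
      have hpos : 0 < orderOf x := by
        rcases Nat.eq_zero_or_pos (orderOf x) with h0 | h0
        · rw [h0, zero_mul] at h2
          exact absurd h2 not_isPrimePow_zero
        · exact h0
      have := Nat.le_of_dvd hpos h3
      have hvpos : 0 < orderOf v := by
        rcases Nat.eq_zero_or_pos (orderOf v) with h0 | h0
        · rw [h0, mul_zero] at h2
          exact absurd h2 not_isPrimePow_zero
        · exact h0
      nlinarith
    exact hv (orderOf_eq_one_iff.mp h4)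
  · have h4 : orderOf x = 1 := by
      have hvpos : 0 < orderOf v := by
        rcases Nat.eq_zero_or_pos (orderOf v) with h0 | h0
        · rw [h0, mul_zero] at h2
          exact absurd h2 not_isPrimePow_zero
        · exact h0
      have := Nat.le_of_dvd hvpos h3
      have hpos : 0 < orderOf x := by
        rcases Nat.eq_zero_or_pos (orderOf x) with h0 | h0
        · rw [h0, zero_mul] at h2
          exact absurd h2 not_isPrimePow_zero
        · exact h0
      nlinarith
    exact hx (orderOf_eq_one_iff.mp h4)

end eppo

end Cfsg.Agent.Lib.Helper7.EPPO
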