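import Mathlib
import Cfsg.Agent.Lib.Helper7.EPPO1

set_option autoImplicit false
open Pointwise

/-!
# A concrete form of the fixed point lemma for Frobenius actions
-/

namespace Cfsg.Agent.Lib.Helper7.EPPO

open Cfsg.Agent.Lib.Lead

variable {X : Type*} [Group X]

/-- Let `F₀ ⟨y⟩` be a Frobenius group with kernel `F₀` acting on the abelian normal subgroup `V`
of coprime order such that `F₀` has no nontrivial fixed point.  Then `y` has one. -/
theorem exists_fixed_of_frob_action [Finite X] (V F₀ : Subgroup X) (y : X)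
    (hF₀ : F₀ ≠ ⊥) (hy : y ∈ Subgroup.normalizer (F₀ : Set X)) (hy1 : y ≠ 1)
    (hdisj : F₀ ⊓ Subgroup.zpowers y = ⊥)
    (hfpf1 : ∀ h ∈ Subgroup.zpowers y, h ≠ 1 → ∀ f ∈ F₀, h * f = f * h → f = 1)
    (hV : IsMulCommutative V) (hV1 : V ≠ ⊥) [hVn : V.Normal]
    (hcop : (Nat.card V).Coprime (Nat.card F₀))
    (hfpf2 : ∀ v ∈ V, (∀ f ∈ F₀, f * v = v * f) → v = 1) :
    ∃ v ∈ V, v ≠ 1 ∧ y * v = v * y := by
  set Y := Subgroup.zpowers y with hY
  set L := F₀ ⊔ Y with hL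
  have hF₀L : F₀ ≤ L := le_sup_left
  have hYL : Y ≤ L := le_sup_right
  have hLnorm : L ≤ Subgroup.normalizer (F₀ : Set X) :=
    sup_le Subgroup.le_normalizer (Subgroup.zpowers_le.mpr hy)
  haveI hKn : (F₀.subgroupOf L).Normal :=
    (Subgroup.normal_subgroupOf_iff_le_normalizer hF₀L).mpr hLnorm
  set Kf := F₀.subgroupOf L with hKf
  set Hf := Y.subgroupOf L with hHf
  have hsup : Kf ⊔ Hf = ⊤ := by
    rw [hKf, hHf, ← Subgroup.subgroupOf_sup hF₀L hYL, Subgroup.subgroupOf_self]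
  have hinf : Kf ⊓ Hf = ⊥ := by
    rw [eq_bot_iff]
    intro x hx
    obtain ⟨h1, h2⟩ := Subgroup.mem_inf.mp hx
    have h3 : (x : X) ∈ F₀ ⊓ Y :=
      Subgroup.mem_inf.mpr ⟨Subgroup.mem_subgroupOf.mp h1, Subgroup.mem_subgroupOf.mp h2⟩
    rw [hdisj, Subgroup.mem_bot] at h3
    rw [Subgroup.mem_bot]
    exact Subtype.ext h3
  have hcompl : Subgroup.IsComplement' Kf Hf := by
    apply Subgroup.isComplement'_of_disjoint_and_mul_eq_univ (disjoint_iff.mpr hinf)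
    rw [Set.eq_univ_iff_forall]
    intro g
    have hg : g ∈ Kf ⊔ Hf := hsup ▸ Subgroup.mem_top g
    rw [Subgroup.mem_sup_of_normal_left] at hg
    obtain ⟨k, hk, h, hh, rfl⟩ := hg
    exact ⟨k, hk, h, hh, rfl⟩
  have hKf1 : Kf ≠ ⊥ := by
    intro h0
    apply hF₀
    rw [eq_bot_iff]
    intro x hx
    have h1 : (⟨x, hF₀L hx⟩ : L) ∈ Kf := Subgroup.mem_subgroupOf.mpr hx
    rw [h0, Subgroup.mem_bot] at h1
    rw [Subgroup.mem_bot]
    exact congrArg Subtype.val h1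
  have hHf1 : Hf ≠ ⊥ := by
    intro h0
    apply hy1
    have h1 : (⟨y, hYL (Subgroup.mem_zpowers y)⟩ : L) ∈ Hf :=
      Subgroup.mem_subgroupOf.mpr (Subgroup.mem_zpowers y)
    rw [h0, Subgroup.mem_bot] at h1
    exact congrArg Subtype.val h1
  have hfd : FrobData Hf Kf := by
    apply frobData_of_fpf Kf Hf hcompl hKf1 hHf1
    intro h hh hh1
    rw [eq_bot_iff]
    intro f hf
    obtain ⟨hfK, hfC⟩ := Subgroup.mem_inf.mp hf
    rw [mem_centralizer_singleton_iff] at hfC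
    rw [Subgroup.mem_bot]
    apply Subtype.ext
    apply hfpf1 (h : X) (Subgroup.mem_subgroupOf.mp hh) (fun e => hh1 (Subtype.ext e)) (f : X)
      (Subgroup.mem_subgroupOf.mp hfK)
    exact congrArg Subtype.val hfC
  have hkerset : Cfsg.frobeniusKernel Hf = (Kf : Set L) := hfd.coe_eq.symm
  have hcardK : Nat.card Kf = Nat.card F₀ :=
    Nat.card_congr (Subgroup.subgroupOfEquivOfLe hF₀L).toEquiv
  have hLV : L ≤ Subgroup.normalizer (V : Set X) := by
    rw [Subgroup.normalizer_eq_top]; exact le_top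
  have hres := Cfsg.Agent.S0666.result V L hV hV1 hLV Hf hfd.frob
    (by rw [hkerset]; change (Nat.card V).Coprime (Nat.card Kf); rw [hcardK]; exact hcop)
    (by
      rw [hkerset, eq_bot_iff]
      intro v hv
      obtain ⟨hvV, hvC⟩ := Subgroup.mem_inf.mp hv
      rw [Subgroup.mem_bot]
      apply hfpf2 v hvV
      intro f hf
      have h1 : (f : X) ∈ (Subtype.val '' (Kf : Set L)) :=
        ⟨⟨f, hF₀L hf⟩, Subgroup.mem_subgroupOf.mpr hf, rfl⟩
      exact hvC f h1)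
  obtain ⟨⟨v, hv⟩, hv1⟩ := (Subgroup.ne_bot_iff_exists_ne_one).mp hres
  obtain ⟨hvV, hvC⟩ := Subgroup.mem_inf.mp hv
  refine ⟨v, hvV, fun e => hv1 (Subtype.ext e), ?_⟩
  have hymem : y ∈ ((Hf.map L.subtype : Subgroup X) : Set X) :=
    ⟨⟨y, hYL (Subgroup.mem_zpowers y)⟩, Subgroup.mem_subgroupOf.mpr (Subgroup.mem_zpowers y), rfl⟩
  exact hvC y hymem

end Cfsg.Agent.Lib.Helper7.EPPO
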