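import Mathlib
import Cfsg.Agent.Lib.Helper7.FrobFix
import Cfsg.Agent.Lib.Lead.HallThm

set_option autoImplicit false
open Pointwise

/-!
# Higman's theorem: solvable groups whose elements have prime power order
-/

namespace Cfsg.Agent.Lib.Helper7.EPPO

open Cfsg.Agent.Lib.Lead

universe u

variable {H : Type u} [Group H]

theorem orderOf_eq_prime_of_mem_zpowers {y h : H} {t : ℕ} (ht : t.Prime) (hy : orderOf y = t)
    (hh : h ∈ Subgroup.zpowers y) (hh1 : h ≠ 1) : orderOf h = t := by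
  have h1 : orderOf h ∣ t := hy ▸ orderOf_dvd_of_mem_zpowers hh
  rcases (Nat.dvd_prime ht).mp h1 with h2 | h2
  · exact absurd (orderOf_eq_one_iff.mp h2) hh1
  · exact h2

/-- **Higman.** The order of a finite solvable group all of whose elements have prime power
order has at most two prime divisors. -/
theorem card_primeFactors_le_two [Finite H] [Group.IsSolvable H]
    (heppo : ∀ g : H, g ≠ 1 → IsPrimePow (orderOf g)) : (Nat.card H).primeFactors.card ≤ 2 := by
  by_contra hcon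
  push Not at hcon
  have hcard0 : Nat.card H ≠ 0 := Nat.card_pos.ne'
  haveI : Nontrivial H := by
    rw [← Finite.one_lt_card_iff_nontrivial]
    by_contra h
    have h1 : Nat.card H = 1 := by
      have := Nat.card_pos (α := H); omega
    rw [h1] at hcon
    simp at hcon
  obtain ⟨p, N, hp, hNn, hNc, hNp, hN1, -⟩ := exists_normal_abelian_pgroup (G := H)
  haveI := hNn
  haveI : Fact p.Prime := ⟨hp⟩
  have h2 : 1 < ((Nat.card H).primeFactors.erase p).card := by
    have := Finset.pred_card_le_card_erase (s := (Nat.card H).primeFactors) (a := p)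
    omega
  obtain ⟨s, hs, t, ht, hst⟩ := Finset.one_lt_card.mp h2
  obtain ⟨hsp, hs'⟩ := Finset.mem_erase.mp hs
  obtain ⟨htp, ht'⟩ := Finset.mem_erase.mp ht
  have hsprime := Nat.prime_of_mem_primeFactors hs'
  have htprime := Nat.prime_of_mem_primeFactors ht'
  have hsdvd := Nat.dvd_of_mem_primeFactors hs'
  have htdvd := Nat.dvd_of_mem_primeFactors ht'
  -- the Hall `p'`-subgroup
  set a := (Nat.card H).factorization p with ha
  have hcard : Nat.card H = (Nat.card H / p ^ a) * p ^ a :=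
    (Nat.div_mul_cancel (Nat.ordProj_dvd _ _)).symm
  have hcopp : Nat.Coprime p (Nat.card H / p ^ a) := Nat.coprime_ordCompl hp hcard0
  have hcop : (Nat.card H / p ^ a).Coprime (p ^ a) := (Nat.Coprime.pow_left a hcopp).symm
  obtain ⟨Q, hQcard, -⟩ := (hallProp_of_solvable H _ _ hcard hcop).2 ⊥
    (by rw [Subgroup.card_bot]; exact Nat.coprime_one_left _)
  have hQp : Nat.Coprime p (Nat.card Q) := by rw [hQcard]; exact hcopp
  have hdvdQ : ∀ r : ℕ, r.Prime → r ≠ p → r ∣ Nat.card H → r ∣ Nat.card Q := by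
    intro r hr hrp hrH
    rw [hcard, ← hQcard] at hrH
    rcases (Nat.Prime.dvd_mul hr).mp hrH with h | h
    · exact h
    · exact absurd ((Nat.prime_dvd_prime_iff_eq hr hp).mp (hr.dvd_of_dvd_pow h)) hrp
  have hsQ := hdvdQ s hsprime hsp hsdvd
  have htQ := hdvdQ t htprime htp htdvd
  haveI : Nontrivial Q := by
    rw [← Finite.one_lt_card_iff_nontrivial]
    exact lt_of_lt_of_le hsprime.one_lt (Nat.le_of_dvd Nat.card_pos hsQ)
  obtain ⟨s₀, F, hs₀, hFn, hFc, hFp, hF1, -⟩ := exists_normal_abelian_pgroup (G := Q)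
  haveI : Fact s₀.Prime := ⟨hs₀⟩
  -- `s₀ ≠ p`
  have hs₀Q : s₀ ∣ Nat.card Q := by
    obtain ⟨k, hk⟩ := IsPGroup.iff_card.mp hFp
    have hk0 : k ≠ 0 := by
      rintro rfl
      rw [pow_zero] at hk
      exact hF1 (Subgroup.card_eq_one.mp hk)
    have h1 : s₀ ∣ Nat.card F := by rw [hk]; exact dvd_pow_self s₀ hk0
    exact h1.trans (Subgroup.card_subgroup_dvd_card F)
  have hs₀p : s₀ ≠ p := by
    rintro rfl
    have := Nat.dvd_gcd (dvd_refl s₀) hs₀Q
    rw [hQp] at this
    exact hs₀.one_lt.ne' (Nat.dvd_one.mp this)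
  -- a third prime
  obtain ⟨t', ht'prime, ht'Q, ht's₀⟩ : ∃ t' : ℕ, t'.Prime ∧ t' ∣ Nat.card Q ∧ t' ≠ s₀ := by
    by_cases h : s = s₀
    · exact ⟨t, htprime, htQ, fun e => hst (h.trans e.symm)⟩
    · exact ⟨s, hsprime, hsQ, h⟩
  have ht'p : t' ≠ p := by
    rintro rfl
    have := Nat.dvd_gcd (dvd_refl t') ht'Q
    rw [hQp] at this
    exact ht'prime.one_lt.ne' (Nat.dvd_one.mp this)
  haveI : Fact t'.Prime := ⟨ht'prime⟩
  obtain ⟨y, hy⟩ := exists_prime_orderOf_dvd_card' (G := Q) t' ht'Q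
  have hyH : orderOf (y : H) = t' := by rw [Subgroup.orderOf_coe]; exact hy
  set F' := F.map Q.subtype with hF'
  -- orders of elements
  have hordF : ∀ f ∈ F', ∃ k : ℕ, orderOf f = s₀ ^ k := by
    rintro _ ⟨f₀, hf₀, rfl⟩
    obtain ⟨k, hk⟩ := IsPGroup.iff_orderOf.mp hFp ⟨f₀, hf₀⟩
    refine ⟨k, ?_⟩
    rw [← hk]
    change orderOf ((f₀ : Q) : H) = _
    rw [Subgroup.orderOf_coe, ← Subgroup.orderOf_coe (⟨f₀, hf₀⟩ : F)]
  have hordN : ∀ v ∈ N, ∃ k : ℕ, orderOf v = p ^ k := by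
    intro v hv
    obtain ⟨k, hk⟩ := IsPGroup.iff_orderOf.mp hNp ⟨v, hv⟩
    exact ⟨k, by rw [← hk, ← Subgroup.orderOf_coe (⟨v, hv⟩ : N)]⟩
  have hconjF : ∀ q : Q, ∀ f ∈ F', (q : H) * f * (q : H)⁻¹ ∈ F' := by
    rintro q _ ⟨f₀, hf₀, rfl⟩
    exact ⟨q * f₀ * q⁻¹, hFn.conj_mem f₀ hf₀ q, by simp⟩
  have hF'1 : F' ≠ ⊥ := by
    rw [hF', Ne, Subgroup.map_eq_bot_iff_of_injective _ Q.subtype_injective]
    exact hF1
  obtain ⟨f₁, hf₁, hf₁1⟩ : ∃ f ∈ F', f ≠ 1 := by
    by_contra hall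
    push Not at hall
    exact hF'1 ((Subgroup.eq_bot_iff_forall F').mpr hall)
  obtain ⟨v, hvN, hv1, hyv⟩ := exists_fixed_of_frob_action N F' (y : H) hF'1
    (by
      rw [Subgroup.mem_normalizer_iff]
      intro h
      constructor
      · intro hh
        exact hconjF y h hh
      · intro hh
        have := hconjF y⁻¹ _ hh
        simpa [mul_assoc] using this)
    (by
      intro e
      rw [e, orderOf_one] at hyH
      exact ht'prime.one_lt.ne hyH)
    (by
      rw [eq_bot_iff]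
      intro x hx
      obtain ⟨hxF, hxy⟩ := Subgroup.mem_inf.mp hx
      rw [Subgroup.mem_bot]
      by_contra hx1
      obtain ⟨k, hk⟩ := hordF x hxF
      have h1 := orderOf_eq_prime_of_mem_zpowers ht'prime hyH hxy hx1
      rw [hk] at h1
      have hk0 : k ≠ 0 := by
        rintro rfl
        rw [pow_zero] at h1
        exact ht'prime.one_lt.ne h1
      have : s₀ ∣ t' := by rw [← h1]; exact dvd_pow_self s₀ hk0
      exact ht's₀ ((Nat.prime_dvd_prime_iff_eq hs₀ ht'prime).mp this).symm)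
    (by
      intro h hh hh1 f hf hcomm
      by_contra hf1
      obtain ⟨k, hk⟩ := hordF f hf
      have h1 := orderOf_eq_prime_of_mem_zpowers ht'prime hyH hh hh1
      apply false_of_commute_coprime heppo hh1 hf1 _ hcomm
      rw [h1, hk]
      exact Nat.Coprime.pow_right k ((Nat.coprime_primes ht'prime hs₀).mpr ht's₀))
    hNc hN1
    (by
      obtain ⟨i, hi⟩ := IsPGroup.iff_card.mp hNp
      obtain ⟨j, hj⟩ := IsPGroup.iff_card.mp hFp
      rw [hi, hF', Subgroup.card_map_of_injective Q.subtype_injective, hj]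
      exact Nat.Coprime.pow _ _ ((Nat.coprime_primes hp hs₀).mpr hs₀p.symm))
    (by
      intro v hv hall
      by_contra hv1
      obtain ⟨k, hk⟩ := hordF f₁ hf₁
      obtain ⟨l, hl⟩ := hordN v hv
      apply false_of_commute_coprime heppo hf₁1 hv1 _ (hall f₁ hf₁)
      rw [hk, hl]
      exact Nat.Coprime.pow _ _ ((Nat.coprime_primes hs₀ hp).mpr hs₀p))
  obtain ⟨l, hl⟩ := hordN v hvN
  have hy1 : (y : H) ≠ 1 := by
    intro e
    rw [e, orderOf_one] at hyH
    exact ht'prime.one_lt.ne hyH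
  apply false_of_commute_coprime heppo hy1 hv1 _ hyv
  rw [hyH, hl]
  exact Nat.Coprime.pow_right l ((Nat.coprime_primes ht'prime hp).mpr ht'p)

end Cfsg.Agent.Lib.Helper7.EPPO
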