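import Mathlib
import Cfsg.Agent.Lib.Helper7.EPPO2
import Cfsg.Agent.Lib.Helper4.CNGroup2
import Cfsg.Agent.Lib.Lead.GenCentralizers
import Cfsg.Agent.Lib.Helper6.PCore

set_option autoImplicit false

/-!
# Nonsolvable groups all of whose elements have prime power order

The solvable radical is a `p`-group, and the quotient by it has a unique minimal normal
subgroup, which is nonabelian simple.
-/

namespace Cfsg.Agent.Lib.Helper7.EPPO

open scoped commutatorElement

universe u

section basic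

variable {X : Type u} [Group X]

/-- the prime power order condition passes to subgroups -/
theorem eppo_subgroup (heppo : ∀ g : X, g ≠ 1 → IsPrimePow (orderOf g)) (H : Subgroup X) :
    ∀ g : H, g ≠ 1 → IsPrimePow (orderOf g) := by
  intro g hg
  rw [← Subgroup.orderOf_coe]
  apply heppo
  intro h
  apply hg
  exact Subtype.ext h

/-- the prime power order condition passes to quotients -/
theorem eppo_quotient (heppo : ∀ g : X, g ≠ 1 → IsPrimePow (orderOf g))
    (R : Subgroup X) [R.Normal] :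
    ∀ g : X ⧸ R, g ≠ 1 → IsPrimePow (orderOf g) := by
  intro x hx
  obtain ⟨g, rfl⟩ := QuotientGroup.mk_surjective x
  have hg : g ≠ 1 := by
    rintro rfl
    exact hx rfl
  have h1 := heppo g hg
  rw [isPrimePow_nat_iff] at h1 ⊢
  obtain ⟨p, k, hp, hk, hpk⟩ := h1
  have h2 : orderOf (QuotientGroup.mk' R g) ∣ orderOf g := orderOf_map_dvd _ g
  rw [← hpk, Nat.dvd_prime_pow hp] at h2
  obtain ⟨m, hm, hm2⟩ := h2
  refine ⟨p, m, hp, ?_, hm2.symm⟩
  rcases Nat.eq_zero_or_pos m with h0 | h0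
  · exfalso
    rw [h0, pow_zero, orderOf_eq_one_iff] at hm2
    exact hx hm2
  · exact h0

/-- commuting nontrivial `p`- and `q`-elements do not exist in such a group -/
theorem false_of_commute_pq (heppo : ∀ g : X, g ≠ 1 → IsPrimePow (orderOf g)) {p q : ℕ}
    (hp : p.Prime) (hq : q.Prime) (hpq : p ≠ q) {x a : X} (hx : x ≠ 1) (ha : a ≠ 1) {k j : ℕ}
    (hxk : x ^ (p ^ k) = 1) (haj : a ^ (q ^ j) = 1) (hc : x * a = a * x) : False := by
  apply false_of_commute_coprime heppo hx ha _ hc
  have h1 : orderOf x ∣ p ^ k := orderOf_dvd_of_pow_eq_one hxk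
  have h2 : orderOf a ∣ q ^ j := orderOf_dvd_of_pow_eq_one haj
  apply Nat.Coprime.coprime_dvd_left h1
  apply Nat.Coprime.coprime_dvd_right h2
  apply Nat.Coprime.pow
  exact (Nat.coprime_primes hp hq).mpr hpq

/-- the centralizer of a nontrivial `q`-element consists of `q`-elements -/
theorem exists_pow_eq_one_of_commute (heppo : ∀ g : X, g ≠ 1 → IsPrimePow (orderOf g)) {q : ℕ}
    (hq : q.Prime) {z x : X} (hz : z ≠ 1) {i : ℕ} (hzi : z ^ (q ^ i) = 1) (hc : x * z = z * x) :
    ∃ k : ℕ, x ^ (q ^ k) = 1 := by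
  by_cases hx : x = 1
  · exact ⟨0, by rw [hx]; simp⟩
  have h1 := heppo x hx
  rw [isPrimePow_nat_iff] at h1
  obtain ⟨r, k, hr, hk, hrk⟩ := h1
  by_cases hrq : r = q
  · refine ⟨k, ?_⟩
    rw [← hrq, hrk]
    exact pow_orderOf_eq_one x
  · exfalso
    exact false_of_commute_pq heppo hr hq hrq hx hz (by rw [hrk]; exact pow_orderOf_eq_one x)
      hzi hc

/-- automorphisms of a cyclic group commute: elementwise form -/
theorem commutator_commute_of_conj_zpow {z n m : X} {k l : ℤ} (hn : n⁻¹ * z * n = z ^ k)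
    (hm : m⁻¹ * z * m = z ^ l) : ⁅n, m⁆ * z = z * ⁅n, m⁆ := by
  have h1 : m⁻¹ * n⁻¹ * z * n * m = z ^ (k * l) := by
    calc m⁻¹ * n⁻¹ * z * n * m = m⁻¹ * (n⁻¹ * z * n) * m := by group
      _ = m⁻¹ * z ^ k * m := by rw [hn]
      _ = m⁻¹ * z ^ k * m⁻¹⁻¹ := by rw [inv_inv]
      _ = (m⁻¹ * z * m⁻¹⁻¹) ^ k := conj_zpow.symm
      _ = (m⁻¹ * z * m) ^ k := by rw [inv_inv]
      _ = (z ^ l) ^ k := by rw [hm]
      _ = z ^ (k * l) := by rw [← zpow_mul, mul_comm]
  have h2 : n⁻¹ * m⁻¹ * z * m * n = z ^ (k * l) := by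
    calc n⁻¹ * m⁻¹ * z * m * n = n⁻¹ * (m⁻¹ * z * m) * n := by group
      _ = n⁻¹ * z ^ l * n := by rw [hm]
      _ = n⁻¹ * z ^ l * n⁻¹⁻¹ := by rw [inv_inv]
      _ = (n⁻¹ * z * n⁻¹⁻¹) ^ l := conj_zpow.symm
      _ = (n⁻¹ * z * n) ^ l := by rw [inv_inv]
      _ = (z ^ k) ^ l := by rw [hn]
      _ = z ^ (k * l) := by rw [← zpow_mul]
  have h3 : m⁻¹ * n⁻¹ * z * n * m = n⁻¹ * m⁻¹ * z * m * n := by rw [h1, h2]
  rw [commutatorElement_def]
  calc n * m * n⁻¹ * m⁻¹ * z = n * m * (n⁻¹ * m⁻¹ * z * m * n) * n⁻¹ * m⁻¹ := by group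
    _ = n * m * (m⁻¹ * n⁻¹ * z * n * m) * n⁻¹ * m⁻¹ := by rw [h3]
    _ = z * (n * m * n⁻¹ * m⁻¹) := by group

/-- a subgroup whose commutator subgroup lies in a solvable subgroup is solvable -/
theorem isSolvable_of_commutator_le (N C : Subgroup X) (h : ⁅N, N⁆ ≤ C) [hC : Group.IsSolvable C] :
    Group.IsSolvable N := by
  have hmem : ∀ x : commutator N, (N.subtype.comp (commutator N).subtype) x ∈ C := by
    intro x
    apply h
    rw [← Subgroup.map_subtype_commutator]
    exact ⟨x.1, x.2, rfl⟩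
  let φ : commutator N →* C := (N.subtype.comp (commutator N).subtype).codRestrict C hmem
  have hφ : Function.Injective φ := by
    rw [MonoidHom.injective_codRestrict]
    exact N.subtype_injective.comp (commutator N).subtype_injective
  haveI : Group.IsSolvable (commutator N) := Group.isSolvable_of_isSolvable_injective hφ
  haveI : Group.IsSolvable (Abelianization N) := Group.isSolvable_of_comm mul_comm
  apply Group.isSolvable_of_ker_le_range (commutator N).subtype (Abelianization.of (G := N))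
  rw [Abelianization.ker_of, Subgroup.range_subtype]

/-- a group that is not a `s`-group has another prime dividing its order -/
theorem exists_other_prime {K : Type*} [Group K] [Finite K] {s : ℕ}
    (h : ¬ IsPGroup s K) : ∃ r : ℕ, r.Prime ∧ r ≠ s ∧ r ∣ Nat.card K := by
  by_contra hall
  push Not at hall
  apply h
  have h1 := Nat.eq_prime_pow_of_unique_prime_dvd (n := Nat.card K) (p := s) Nat.card_pos.ne'
    (fun {d} hd hdvd => by
      by_contra hne
      exact hall d hd hne hdvd)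
  exact IsPGroup.of_card h1

/-- an extension of a solvable group by a solvable group is solvable: quotient form -/
theorem isSolvable_of_quotient (R : Subgroup X) [R.Normal] (hRs : Group.IsSolvable R)
    (hq : Group.IsSolvable (X ⧸ R)) : Group.IsSolvable X := by
  apply Group.isSolvable_of_ker_le_range R.subtype (QuotientGroup.mk' R)
  rw [QuotientGroup.ker_mk', Subgroup.range_subtype]

end basic

section radical

variable {X : Type u} [Group X]

/-- in a nonsolvable finite group with all elements of prime power order, every solvable normal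
subgroup is a `p`-group -/
theorem isPGroup_of_solvable_normal [Finite X]
    (heppo : ∀ g : X, g ≠ 1 → IsPrimePow (orderOf g)) (hns : ¬ Group.IsSolvable X)
    (R : Subgroup X) [hRn : R.Normal] (hRs : Group.IsSolvable R) :
    ∃ p : ℕ, p.Prime ∧ IsPGroup p R := by
  classical
  by_cases hR : R = ⊥
  · refine ⟨2, Nat.prime_two, ?_⟩
    rw [hR]
    exact IsPGroup.of_bot
  haveI := hRs
  obtain ⟨p, A, hp, hAR, hAn, hAc, hAp, hA⟩ :=
    Cfsg.Agent.Lib.Helper4.exists_normal_abelian_pgroup_le R hR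
  refine ⟨p, hp, ?_⟩
  by_contra hnp
  obtain ⟨q, hq, hqp, hqR⟩ := exists_other_prime hnp
  haveI : Fact p.Prime := ⟨hp⟩
  haveI : Fact q.Prime := ⟨hq⟩
  let Q : Sylow q R := default
  set Qt : Subgroup X := (Q : Subgroup R).map R.subtype with hQt
  have hQne : Qt ≠ ⊥ := by
    intro h
    have h1 := Sylow.ne_bot_of_dvd_card Q hqR
    apply h1
    rw [eq_bot_iff]
    intro x hx
    have h2 : R.subtype x ∈ Qt := ⟨x, hx, rfl⟩
    rw [h, Subgroup.mem_bot] at h2
    rw [Subgroup.mem_bot]
    exact Subtype.ext h2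
  have hQq : IsPGroup q Qt := Q.isPGroup'.map _
  have hfr : Subgroup.normalizer (Qt : Set X) ⊔ R = ⊤ := Sylow.normalizer_sup_eq_top Q
  set Z : Subgroup X := Qt ⊓ Subgroup.centralizer (Qt : Set X) with hZ
  -- `Z ≠ ⊥`
  obtain ⟨c, hcZ, hc1⟩ : ∃ c ∈ Z, c ≠ 1 := by
    haveI : Nontrivial Qt := (Subgroup.nontrivial_iff_ne_bot Qt).mpr hQne
    haveI := hQq.center_nontrivial
    obtain ⟨c, hc⟩ := exists_ne (1 : Subgroup.center Qt)
    refine ⟨((c : Qt) : X), ⟨(c : Qt).2, ?_⟩, ?_⟩
    · show ((c : Qt) : X) ∈ Subgroup.centralizer (Qt : Set X)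
      rw [Subgroup.mem_centralizer_iff]
      intro h hh
      have h1 := (Subgroup.mem_center_iff.mp c.2) ⟨h, hh⟩
      exact congrArg Subtype.val h1
    · intro h
      apply hc
      apply Subtype.ext
      apply Subtype.ext
      exact h
  have hZq : IsPGroup q Z := hQq.to_le inf_le_left
  haveI hZc : IsMulCommutative Z := by
    refine ⟨⟨fun a b => ?_⟩⟩
    apply Subtype.ext
    have h1 := (Subgroup.mem_centralizer_iff.mp a.2.2) b.1 b.2.1
    exact h1.symm
  -- `Z` is cyclic
  have hcyc : IsCyclic Z := by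
    by_contra hcyc
    have hZA : Z ≤ Subgroup.normalizer (A : Set X) := by
      rw [Subgroup.normalizer_eq_top]
      exact le_top
    have hcop : (Nat.card Z).Coprime (Nat.card A) :=
      IsPGroup.coprime_card_of_ne q p hqp Z A hZq hAp
    have h1 := Cfsg.Agent.Lib.Lead.generated_by_centralizers Z A hcyc hZA hcop
    have h2 : (⨆ a ∈ {a : X | a ∈ Z ∧ a ≠ 1}, A ⊓ Subgroup.centralizer {a}) ≤ ⊥ := by
      apply iSup₂_le
      intro a ha x hx
      rw [Subgroup.mem_bot]
      by_contra hx1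
      obtain ⟨k, hk⟩ := hAp ⟨x, hx.1⟩
      obtain ⟨j, hj⟩ := hZq ⟨a, ha.1⟩
      have hk' : x ^ (p ^ k) = 1 := by simpa using congrArg Subtype.val hk
      have hj' : a ^ (q ^ j) = 1 := by simpa using congrArg Subtype.val hj
      have hcomm : x * a = a * x := Subgroup.mem_centralizer_singleton_iff.mp hx.2
      exact false_of_commute_pq heppo hp hq (Ne.symm hqp) hx1 ha.2 hk' hj' hcomm
    rw [h1] at h2
    exact hA (eq_bot_iff.mpr h2)
  obtain ⟨z, hz⟩ := (Subgroup.isCyclic_iff_exists_zpowers_eq_top Z).mp hcyc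
  have hzZ : z ∈ Z := by
    rw [← hz]
    exact Subgroup.mem_zpowers z
  have hz1 : z ≠ 1 := by
    rintro rfl
    rw [Subgroup.zpowers_one_eq_bot] at hz
    rw [← hz, Subgroup.mem_bot] at hcZ
    exact hc1 hcZ
  obtain ⟨i, hi⟩ := hZq ⟨z, hzZ⟩
  have hzi : z ^ (q ^ i) = 1 := by simpa using congrArg Subtype.val hi
  set N : Subgroup X := Subgroup.normalizer (Qt : Set X) with hN
  -- `N` acts on `⟨z⟩`
  have hact : ∀ n ∈ N, ∃ k : ℤ, n⁻¹ * z * n = z ^ k := by
    intro n hn
    have h1 : n⁻¹ * z * n ∈ Z := by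
      refine ⟨(Subgroup.mem_normalizer_iff''.mp hn z).mp hzZ.1, ?_⟩
      show n⁻¹ * z * n ∈ Subgroup.centralizer (Qt : Set X)
      rw [Subgroup.mem_centralizer_iff]
      intro y hy
      have h2 : n * y * n⁻¹ ∈ Qt := (Subgroup.mem_normalizer_iff.mp hn y).mp hy
      have h3 := (Subgroup.mem_centralizer_iff.mp hzZ.2) _ h2
      calc y * (n⁻¹ * z * n) = n⁻¹ * (n * y * n⁻¹ * z) * n := by group
        _ = n⁻¹ * (z * (n * y * n⁻¹)) * n := by rw [h3]
        _ = n⁻¹ * z * n * y := by group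
    rw [← hz, Subgroup.mem_zpowers_iff] at h1
    obtain ⟨k, hk⟩ := h1
    exact ⟨k, hk.symm⟩
  have hcomm : ⁅N, N⁆ ≤ Subgroup.centralizer {z} := by
    rw [Subgroup.commutator_le]
    intro n hn m hm
    obtain ⟨k, hk⟩ := hact n hn
    obtain ⟨l, hl⟩ := hact m hm
    rw [Subgroup.mem_centralizer_singleton_iff]
    exact commutator_commute_of_conj_zpow hk hl
  have hCq : IsPGroup q (Subgroup.centralizer {z}) := by
    intro x
    have hx := Subgroup.mem_centralizer_singleton_iff.mp x.2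
    obtain ⟨k, hk⟩ := exists_pow_eq_one_of_commute heppo hq hz1 hzi hx
    refine ⟨k, ?_⟩
    apply Subtype.ext
    simpa using hk
  haveI : Group.IsNilpotent (Subgroup.centralizer {z}) := hCq.isNilpotent
  haveI : Group.IsSolvable (Subgroup.centralizer {z}) := IsNilpotent.to_isSolvable
  haveI hNs : Group.IsSolvable N := isSolvable_of_commutator_le N _ hcomm
  have hsurj : Function.Surjective ((QuotientGroup.mk' R).comp N.subtype) := by
    intro x
    obtain ⟨g, rfl⟩ := QuotientGroup.mk_surjective x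
    have hg : g ∈ N ⊔ R := by
      rw [hfr]
      trivial
    obtain ⟨n, hn, r, hr, rfl⟩ := Subgroup.mem_sup_of_normal_right.mp hg
    refine ⟨⟨n, hn⟩, ?_⟩
    show (QuotientGroup.mk n : X ⧸ R) = QuotientGroup.mk (n * r)
    rw [QuotientGroup.eq]
    simpa using hr
  have hq' : Group.IsSolvable (X ⧸ R) := Group.isSolvable_of_surjective hsurj
  exact hns (isSolvable_of_quotient R hRs hq')

end radical

end Cfsg.Agent.Lib.Helper7.EPPO
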