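import Mathlib
import Cfsg.Agent.Lib.Helper7.EPPO3

set_option autoImplicit false

/-!
# Minimal normal subgroups of groups whose elements have prime power order
-/

namespace Cfsg.Agent.Lib.Helper7.EPPO

open scoped commutatorElement
open Cfsg Cfsg.Agent.Lib.Helper6

universe u

section minimal

variable {X : Type u} [Group X]

/-- conjugate of a subgroup -/
def cj (g : X) (K : Subgroup X) : Subgroup X := K.map (MulAut.conj g).toMonoidHom

theorem mem_cj {g : X} {K : Subgroup X} {x : X} : x ∈ cj g K ↔ ∃ k ∈ K, g * k * g⁻¹ = x := by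
  unfold cj
  rw [Subgroup.mem_map]
  rfl

theorem card_cj (g : X) (K : Subgroup X) : Nat.card (cj g K) = Nat.card K := by
  unfold cj
  exact Nat.card_congr
    (K.equivMapOfInjective _ (MulAut.conj g).injective).symm.toEquiv

/-- a nonsolvable minimal normal subgroup of a finite group with all elements of prime power order
is simple -/
theorem isSimpleGroup_of_minimal_normal [Finite X]
    (heppo : ∀ g : X, g ≠ 1 → IsPrimePow (orderOf g))
    (M : Subgroup X) [hMn : M.Normal] (hM : M ≠ ⊥) (hMns : ¬ Group.IsSolvable M)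
    (hmin : ∀ N : Subgroup X, N.Normal → N ≠ ⊥ → N ≤ M → N = M) : IsSimpleGroup M := by
  classical
  let T : Set (Subgroup X) :=
    {K | K ≤ M ∧ (∀ m ∈ M, ∀ k ∈ K, m * k * m⁻¹ ∈ K) ∧ K ≠ ⊥}
  have hMT : M ∈ T :=
    ⟨le_rfl, fun m hm k hk => M.mul_mem (M.mul_mem hm hk) (M.inv_mem hm), hM⟩
  obtain ⟨K, hKT, hKmin⟩ :=
    WellFounded.has_min (measure (fun K : Subgroup X => Nat.card K)).wf T ⟨M, hMT⟩
  have hKmin' : ∀ L ∈ T, L ≤ K → L = K := by
    intro L hL hLK
    apply Subgroup.eq_of_le_of_card_ge hLK
    exact not_lt.mp (hKmin L hL)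
  by_cases hKM : K = M
  · haveI : Nontrivial M := (Subgroup.nontrivial_iff_ne_bot M).mpr hM
    refine IsSimpleGroup.mk (fun H hH => ?_)
    by_contra hcon
    push Not at hcon
    obtain ⟨hHb, hHt⟩ := hcon
    have hmem : H.map M.subtype ∈ T := by
      refine ⟨?_, ?_, ?_⟩
      · rintro x ⟨y, _, rfl⟩
        exact y.2
      · rintro m hm x ⟨y, hy, rfl⟩
        refine ⟨⟨m, hm⟩ * y * ⟨m, hm⟩⁻¹, hH.conj_mem y hy ⟨m, hm⟩, rfl⟩
      · intro h
        apply hHb
        rw [eq_bot_iff]
        intro y hy
        have h1 : M.subtype y ∈ H.map M.subtype := ⟨y, hy, rfl⟩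
        rw [h, Subgroup.mem_bot] at h1
        rw [Subgroup.mem_bot]
        exact Subtype.ext h1
    have h2 : H.map M.subtype ≤ K := by
      rw [hKM]
      exact hmem.1
    have h3 := hKmin' _ hmem h2
    apply hHt
    rw [eq_top_iff]
    intro y _
    have h4 : (y : X) ∈ H.map M.subtype := by
      rw [h3, hKM]
      exact y.2
    obtain ⟨y', hy', hyy⟩ := h4
    have : y' = y := Subtype.ext hyy
    rw [← this]
    exact hy'
  · exfalso
    obtain ⟨hKleM, hKnorm, hKne⟩ := hKT
    have hconjT : ∀ g : X, cj g K ∈ T := by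
      intro g
      refine ⟨?_, ?_, ?_⟩
      · intro x hx
        obtain ⟨k, hk, rfl⟩ := mem_cj.mp hx
        exact hMn.conj_mem k (hKleM hk) g
      · intro m hm x hx
        obtain ⟨k, hk, rfl⟩ := mem_cj.mp hx
        rw [mem_cj]
        have h1 : g⁻¹ * m * g ∈ M := hMn.conj_mem' m hm g
        refine ⟨(g⁻¹ * m * g) * k * (g⁻¹ * m * g)⁻¹, hKnorm _ h1 k hk, ?_⟩
        group
      · intro h
        apply hKne
        have h1 := card_cj g K
        rw [h, Subgroup.card_bot] at h1
        exact Subgroup.card_eq_one.mp h1.symm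
    by_cases hall : ∀ g : X, cj g K = K
    · have hKn : K.Normal := by
        refine ⟨fun k hk g => ?_⟩
        rw [← hall g, mem_cj]
        exact ⟨k, hk, rfl⟩
      exact hKM (hmin K hKn hKne hKleM)
    · push Not at hall
      obtain ⟨g, hg⟩ := hall
      have hdisj : K ⊓ cj g K = ⊥ := by
        by_contra hne
        have h1 : K ⊓ cj g K ∈ T :=
          ⟨inf_le_left.trans hKleM,
            fun m hm k hk => ⟨hKnorm m hm k hk.1, (hconjT g).2.1 m hm k hk.2⟩, hne⟩
        have h2 := hKmin' _ h1 inf_le_left
        have h3 : K ≤ cj g K := by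
          intro k hk
          rw [← h2] at hk
          exact hk.2
        have h4 : K = cj g K :=
          Subgroup.eq_of_le_of_card_ge h3 (card_cj g K).le
        exact hg h4.symm
      have hcomm : ∀ a ∈ K, ∀ b ∈ cj g K, a * b = b * a := by
        intro a ha b hb
        have hbM : b ∈ M := (hconjT g).1 hb
        have haM : a ∈ M := hKleM ha
        have h1 : a * b * a⁻¹ * b⁻¹ ∈ K ⊓ cj g K := by
          refine ⟨?_, ?_⟩
          · have h2 : b * a⁻¹ * b⁻¹ ∈ K := hKnorm b hbM _ (K.inv_mem ha)
            have h3 := K.mul_mem ha h2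
            have h4 : a * (b * a⁻¹ * b⁻¹) = a * b * a⁻¹ * b⁻¹ := by group
            rw [← h4]
            exact h3
          · have h2 : a * b * a⁻¹ ∈ cj g K := (hconjT g).2.1 a haM b hb
            exact (cj g K).mul_mem h2 ((cj g K).inv_mem hb)
        rw [hdisj, Subgroup.mem_bot] at h1
        calc a * b = (a * b * a⁻¹ * b⁻¹) * (b * a) := by group
          _ = b * a := by rw [h1, one_mul]
      -- a prime dividing `|K|`
      have hcardK : Nat.card K ≠ 1 := by
        intro h
        exact hKne (Subgroup.card_eq_one.mp h)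
      obtain ⟨p, hp, hpK⟩ := Nat.exists_prime_and_dvd hcardK
      haveI : Fact p.Prime := ⟨hp⟩
      by_cases hKp : IsPGroup p K
      · -- then `M` is a `p`-group
        set P : Subgroup X := (pCore p M).map M.subtype with hP
        have h1 : Subgroup.normalClosure (K : Set X) ≤ P := by
          unfold Subgroup.normalClosure
          rw [Subgroup.closure_le]
          intro x hx
          rw [Group.mem_conjugatesOfSet_iff] at hx
          obtain ⟨a, ha, hax⟩ := hx
          rw [isConj_iff] at hax
          obtain ⟨c, rfl⟩ := hax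
          have hmemc : c * a * c⁻¹ ∈ cj c K := mem_cj.mpr ⟨a, ha, rfl⟩
          have hmemM : c * a * c⁻¹ ∈ M := (hconjT c).1 hmemc
          have hnorm : ((cj c K).subgroupOf M).Normal := by
            refine ⟨fun k hk m => ?_⟩
            rw [Subgroup.mem_subgroupOf] at hk ⊢
            exact (hconjT c).2.1 m m.2 k hk
          have hpg : IsPGroup p ((cj c K).subgroupOf M) := by
            have : IsPGroup p (cj c K) := hKp.map _
            exact this.comap_subtype
          have hle := le_pCore hnorm hpg
          refine ⟨⟨c * a * c⁻¹, hmemM⟩, hle ?_, rfl⟩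
          rw [Subgroup.mem_subgroupOf]
          exact hmemc
        have h2 : Subgroup.normalClosure (K : Set X) = M := by
          apply hmin _ Subgroup.normalClosure_normal
          · intro h
            apply hKne
            rw [eq_bot_iff, ← h]
            exact Subgroup.le_normalClosure
          · exact Subgroup.normalClosure_le_normal hKleM
        have h3 : IsPGroup p M := by
          intro m
          have h4 : (m : X) ∈ P := by
            apply h1
            rw [h2]
            exact m.2
          obtain ⟨m', hm', hmm⟩ := h4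
          have : m' = m := Subtype.ext hmm
          rw [this] at hm'
          obtain ⟨k, hk⟩ := pCore_isPGroup (G := M) p ⟨m, hm'⟩
          refine ⟨k, ?_⟩
          have := congrArg Subtype.val hk
          simpa using this
        haveI : Group.IsNilpotent M := h3.isNilpotent
        exact hMns IsNilpotent.to_isSolvable
      · obtain ⟨r, hr, hrp, hrK⟩ := exists_other_prime hKp
        haveI : Fact r.Prime := ⟨hr⟩
        obtain ⟨x, hx⟩ := exists_prime_orderOf_dvd_card' p hpK
        obtain ⟨y, hy⟩ := exists_prime_orderOf_dvd_card' r hrK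
        rw [← Subgroup.orderOf_coe] at hx hy
        have hy' : orderOf (g * (y : X) * g⁻¹) = r := by
          rw [← hy]
          exact (MulAut.conj g).orderOf_eq (y : X)
        have hx1 : (x : X) ≠ 1 := by
          intro h
          rw [h, orderOf_one] at hx
          exact hp.one_lt.ne hx
        have hy1 : g * (y : X) * g⁻¹ ≠ 1 := by
          intro h
          rw [h, orderOf_one] at hy'
          exact hr.one_lt.ne hy'
        apply false_of_commute_coprime heppo hx1 hy1
        · rw [hx, hy']
          exact (Nat.coprime_primes hp hr).mpr (Ne.symm hrp)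
        · exact hcomm _ x.2 _ (mem_cj.mpr ⟨y, y.2, rfl⟩)

/-- a finite nontrivial group with all elements of prime power order and no nontrivial solvable
normal subgroup has a unique minimal normal subgroup, which is nonabelian simple -/
theorem exists_unique_minimal_normal [Finite X] [Nontrivial X]
    (heppo : ∀ g : X, g ≠ 1 → IsPrimePow (orderOf g))
    (hsol : ∀ N : Subgroup X, N.Normal → Group.IsSolvable N → N = ⊥) :
    ∃ M : Subgroup X, M.Normal ∧ IsSimpleGroup M ∧ ¬ IsMulCommutative M ∧
      ∀ N : Subgroup X, N.Normal → N ≠ ⊥ → M ≤ N := by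
  classical
  let S : Set (Subgroup X) := {K | K.Normal ∧ K ≠ ⊥}
  have hS : (⊤ : Subgroup X) ∈ S := ⟨inferInstance, top_ne_bot⟩
  obtain ⟨M, hMS, hMmin⟩ :=
    WellFounded.has_min (measure (fun K : Subgroup X => Nat.card K)).wf S ⟨⊤, hS⟩
  obtain ⟨hMn, hM⟩ := hMS
  have hmin : ∀ N : Subgroup X, N.Normal → N ≠ ⊥ → N ≤ M → N = M := by
    intro N hN hNne hNM
    apply Subgroup.eq_of_le_of_card_ge hNM
    exact not_lt.mp (hMmin N ⟨hN, hNne⟩)
  have hMns : ¬ Group.IsSolvable M := fun h => hM (hsol M hMn h)
  haveI := hMn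
  refine ⟨M, hMn, isSimpleGroup_of_minimal_normal heppo M hM hMns hmin, ?_, ?_⟩
  · intro h
    apply hMns
    exact Group.isSolvable_of_comm (fun a b => h.is_comm.comm a b)
  · intro N hN hNne
    haveI := hN
    by_cases hMN : M ⊓ N = ⊥
    · exfalso
      have hcomm : ∀ x ∈ M, ∀ y ∈ N, x * y = y * x := by
        intro x hx y hy
        exact Subgroup.commute_of_normal_of_disjoint M N hMn hN (disjoint_iff.mpr hMN) x y hx hy
      have hcardN : Nat.card N ≠ 1 := by
        intro h
        exact hNne (Subgroup.card_eq_one.mp h)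
      obtain ⟨s, hs, hsN⟩ := Nat.exists_prime_and_dvd hcardN
      haveI : Fact s.Prime := ⟨hs⟩
      have hMs : ¬ IsPGroup s M := by
        intro h
        haveI : Group.IsNilpotent M := h.isNilpotent
        exact hMns IsNilpotent.to_isSolvable
      obtain ⟨r, hr, hrs, hrM⟩ := exists_other_prime hMs
      haveI : Fact r.Prime := ⟨hr⟩
      obtain ⟨x, hx⟩ := exists_prime_orderOf_dvd_card' r hrM
      obtain ⟨y, hy⟩ := exists_prime_orderOf_dvd_card' s hsN
      rw [← Subgroup.orderOf_coe] at hx hy
      have hx1 : (x : X) ≠ 1 := by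
        intro h
        rw [h, orderOf_one] at hx
        exact hr.one_lt.ne hx
      have hy1 : (y : X) ≠ 1 := by
        intro h
        rw [h, orderOf_one] at hy
        exact hs.one_lt.ne hy
      apply false_of_commute_coprime heppo hx1 hy1
      · rw [hx, hy]
        exact (Nat.coprime_primes hr hs).mpr hrs
      · exact hcomm _ x.2 _ y.2
    · have h1 := hmin (M ⊓ N) (Subgroup.normal_inf_normal M N) hMN inf_le_left
      rw [← h1]
      exact inf_le_right

/-- the quotient by a maximal solvable normal subgroup has no nontrivial solvable normal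
subgroup -/
theorem eq_bot_of_solvable_normal_quotient (R : Subgroup X) [R.Normal]
    (hRs : Group.IsSolvable R)
    (hRmax : ∀ N : Subgroup X, N.Normal → Group.IsSolvable N → N ≤ R)
    (K : Subgroup (X ⧸ R)) (hK : K.Normal) (hKs : Group.IsSolvable K) : K = ⊥ := by
  set P : Subgroup X := K.comap (QuotientGroup.mk' R) with hP
  have hPn : P.Normal := hK.comap _
  have hRP : R ≤ P := by
    intro r hr
    show QuotientGroup.mk' R r ∈ K
    have : QuotientGroup.mk' R r = 1 := (QuotientGroup.eq_one_iff r).mpr hr
    rw [this]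
    exact K.one_mem
  have hPs : Group.IsSolvable P := by
    haveI := hRs
    haveI := hKs
    apply Group.isSolvable_of_ker_le_range (Subgroup.inclusion hRP)
      ((QuotientGroup.mk' R).subgroupComap K)
    intro x hx
    rw [MonoidHom.mem_ker] at hx
    have h1 : QuotientGroup.mk' R x.1 = 1 := congrArg Subtype.val hx
    have hxR : x.1 ∈ R := (QuotientGroup.eq_one_iff _).mp h1
    exact ⟨⟨x.1, hxR⟩, Subtype.ext rfl⟩
  have hPR := hRmax P hPn hPs
  rw [eq_bot_iff]
  intro k hk
  obtain ⟨g, rfl⟩ := QuotientGroup.mk_surjective k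
  have hg : g ∈ P := hk
  rw [Subgroup.mem_bot]
  exact (QuotientGroup.eq_one_iff g).mpr (hPR hg)

end minimal

end Cfsg.Agent.Lib.Helper7.EPPO
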