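import Mathlib

/-!
# Equal-order p-subgroups conjugate, elementary abelian Sylow (S4025): counting and arithmetic

* `card_ringAut` : a finite field with `p ^ n` elements has exactly `n` ring automorphisms;
* `card_planes` : the number of subgroups of order `p ^ 2` of an elementary abelian group of order `p ^ n`;
* `arith_main` : `(p ^ (n - 1) - 1) ∣ n * (p ^ 2 - 1)` and `3 ≤ n` force `n = 3` or `(n, p) = (5, 2)`.
-/

set_option autoImplicit false
set_option linter.style.haveILetI false

namespace Cfsg.Agent.Lib.Helper7.EqOrd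

open Module



theorem charP_of_card_pow (p n : ℕ) [hp : Fact p.Prime] (F : Type*) [Field F] [Finite F]
    (hF : Nat.card F = p ^ n) : CharP F p := by
  classical
  haveI := Fintype.ofFinite F
  obtain ⟨m, hr, hm⟩ := FiniteField.card F (ringChar F)
  have hn : n ≠ 0 := by
    rintro rfl
    rw [pow_zero] at hF
    have : 1 < Nat.card F := Finite.one_lt_card
    omega
  rw [← Nat.card_eq_fintype_card, hF] at hm
  have h1 : p ∣ ringChar F ^ (m : ℕ) := by
    rw [← hm]; exact dvd_pow_self p hn
  have h2 : p ∣ ringChar F := hp.out.dvd_of_dvd_pow h1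
  have h3 : p = ringChar F := (Nat.prime_dvd_prime_iff_eq hp.out hr).mp h2
  rw [h3]
  exact ringChar.charP F

theorem card_ringAut (p n : ℕ) [hp : Fact p.Prime] (F : Type*) [Field F] [Finite F]
    (hF : Nat.card F = p ^ n) : Nat.card (F ≃+* F) = n := by
  classical
  haveI : CharP F p := charP_of_card_pow p n F hF
  letI : Algebra (ZMod p) F := ZMod.algebra F p
  have hfr : finrank (ZMod p) F = n := by
    have h1 := Module.natCard_eq_pow_finrank (K := ZMod p) (V := F)
    rw [hF, Nat.card_zmod] at h1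
    exact (Nat.pow_right_injective hp.out.two_le h1).symm
  have hgal : Nat.card (F ≃ₐ[ZMod p] F) = n := by
    rw [IsGalois.card_aut_eq_finrank, hfr]
  rw [← hgal]
  refine Nat.card_congr ?_
  refine
    { toFun := fun σ => AlgEquiv.ofRingEquiv (f := σ) (fun x => ?_)
      invFun := fun σ => σ.toRingEquiv
      left_inv := fun σ => by ext x; rfl
      right_inv := fun σ => by ext x; rfl }
  have := Subsingleton.elim ((σ : F →+* F).comp (algebraMap (ZMod p) F)) (algebraMap (ZMod p) F)
  exact RingHom.congr_fun this x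




section counting

variable {p : ℕ} [hp : Fact p.Prime] {V : Type*} [AddCommGroup V] [Module (ZMod p) V]

theorem zsmul_mem_zmultiples' (c : ZMod p) (v : V) : c • v ∈ AddSubgroup.zmultiples v := by
  have h : c • v = c.val • v := by
    conv_lhs => rw [← ZMod.natCast_zmod_val c]
    exact Nat.cast_smul_eq_nsmul (ZMod p) c.val v
  rw [h]
  exact AddSubgroup.nsmul_mem_zmultiples v c.val

theorem card_zmultiples_eq {v : V} (hv : v ≠ 0) : Nat.card (AddSubgroup.zmultiples v) = p := by
  rw [Nat.card_zmultiples]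
  exact addOrderOf_eq_prime (ZModModule.char_nsmul_eq_zero p v) hv

/-- the set of "independent pairs" -/
def Pairs (V : Type*) [AddCommGroup V] : Type _ :=
  {x : V × V // x.1 ≠ 0 ∧ x.2 ∉ AddSubgroup.zmultiples x.1}

theorem card_pairs [Finite V] (m : ℕ) (hV : Nat.card V = p ^ m) :
    Nat.card (Pairs V) = (p ^ m - 1) * (p ^ m - p) := by
  classical
  haveI := Fintype.ofFinite V
  have e : Pairs V ≃ Σ v : {v : V // v ≠ 0}, {w : V // w ∉ AddSubgroup.zmultiples v.1} :=
    { toFun := fun x => ⟨⟨x.1.1, x.2.1⟩, ⟨x.1.2, x.2.2⟩⟩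
      invFun := fun y => ⟨(y.1.1, y.2.1), y.1.2, y.2.2⟩
      left_inv := fun x => rfl
      right_inv := fun y => rfl }
  rw [Nat.card_congr e, Nat.card_sigma]
  have h1 : ∀ v : {v : V // v ≠ 0},
      Nat.card {w : V // w ∉ AddSubgroup.zmultiples v.1} = p ^ m - p := by
    intro v
    have h2 := Nat.card_congr (Equiv.sumCompl (fun w : V => w ∈ AddSubgroup.zmultiples v.1))
    rw [Nat.card_sum, hV] at h2
    have h3 : Nat.card {w : V // w ∈ AddSubgroup.zmultiples v.1} = p := card_zmultiples_eq v.2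
    omega
  have h4 : Nat.card {v : V // v ≠ 0} = p ^ m - 1 := by
    have h2 := Nat.card_congr (Equiv.sumCompl (fun w : V => w = 0))
    rw [Nat.card_sum, hV] at h2
    have h3 : Nat.card {w : V // w = 0} = 1 := by
      rw [Nat.card_eq_one_iff_unique]
      exact ⟨⟨fun a b => Subtype.ext (a.2.trans b.2.symm)⟩, ⟨⟨0, rfl⟩⟩⟩
    have h5 : Nat.card {v : V // v ≠ 0} = Nat.card {w : V // ¬ w = 0} := rfl
    omega
  simp only [h1, Finset.sum_const, Finset.card_univ, smul_eq_mul]
  rw [← Nat.card_eq_fintype_card, h4]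


theorem card_closure_pair {v w : V} (hv : v ≠ 0) (hw : w ∉ AddSubgroup.zmultiples v) :
    Nat.card (AddSubgroup.closure ({v, w} : Set V)) = p ^ 2 := by
  classical
  let φ : ZMod p × ZMod p →+ V :=
    { toFun := fun x => x.1 • v + x.2 • w
      map_zero' := by simp
      map_add' := fun x y => by simp only [Prod.fst_add, Prod.snd_add, add_smul]; abel }
  have hinj : Function.Injective φ := by
    rw [injective_iff_map_eq_zero]
    rintro ⟨a, b⟩ hab
    change a • v + b • w = 0 at hab
    have hb : b = 0 := by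
      by_contra hb
      apply hw
      have : w = (-(b⁻¹ * a)) • v := by
        have h1 : b • w = -(a • v) := eq_neg_of_add_eq_zero_right hab
        calc w = b⁻¹ • (b • w) := by rw [smul_smul, inv_mul_cancel₀ hb, one_smul]
          _ = (-(b⁻¹ * a)) • v := by rw [h1, smul_neg, smul_smul, neg_smul]
      rw [this]
      exact zsmul_mem_zmultiples' _ v
    subst hb
    rw [zero_smul, add_zero] at hab
    have ha : a = 0 := by
      by_contra ha
      apply hv
      calc v = a⁻¹ • (a • v) := by rw [smul_smul, inv_mul_cancel₀ ha, one_smul]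
        _ = 0 := by rw [hab, smul_zero]
    rw [ha]
    rfl
  have hrange : φ.range = AddSubgroup.closure ({v, w} : Set V) := by
    apply le_antisymm
    · rintro _ ⟨⟨a, b⟩, rfl⟩
      change a • v + b • w ∈ _
      have hv' : AddSubgroup.zmultiples v ≤ AddSubgroup.closure ({v, w} : Set V) := by
        rw [AddSubgroup.zmultiples_le]
        exact AddSubgroup.subset_closure (by simp)
      have hw' : AddSubgroup.zmultiples w ≤ AddSubgroup.closure ({v, w} : Set V) := by
        rw [AddSubgroup.zmultiples_le]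
        exact AddSubgroup.subset_closure (by simp)
      exact add_mem (hv' (zsmul_mem_zmultiples' a v)) (hw' (zsmul_mem_zmultiples' b w))
    · rw [AddSubgroup.closure_le]
      rintro x hx
      rcases hx with rfl | rfl
      · exact ⟨(1, 0), by simp [φ]⟩
      · exact ⟨(0, 1), by simp [φ]⟩
  rw [← hrange]
  have h1 : Nat.card φ.range = Nat.card (ZMod p × ZMod p) :=
    (Nat.card_congr (Equiv.ofInjective φ hinj)).symm
  rw [h1, Nat.card_prod, Nat.card_zmod, sq]

/-- the subgroups of order `p ^ 2` -/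
def Planes (p : ℕ) (V : Type*) [AddCommGroup V] : Type _ :=
  {W : AddSubgroup V // Nat.card W = p ^ 2}

instance instFinitePlanes (p : ℕ) (V : Type*) [AddCommGroup V] [Finite V] : Finite (Planes p V) := by
  unfold Planes; infer_instance

instance instFinitePairs (V : Type*) [AddCommGroup V] [Finite V] : Finite (Pairs V) := by
  unfold Pairs; infer_instance

theorem card_planes [Finite V] (n : ℕ) (hV : Nat.card V = p ^ n) :
    Nat.card (Planes p V) * ((p ^ 2 - 1) * (p ^ 2 - p)) = (p ^ n - 1) * (p ^ n - p) := by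
  classical
  haveI := Fintype.ofFinite (Planes p V)
  rw [← card_pairs n hV]
  let f : Pairs V → Planes p V := fun x =>
    ⟨AddSubgroup.closure ({x.1.1, x.1.2} : Set V), card_closure_pair x.2.1 x.2.2⟩
  rw [← Nat.card_congr (Equiv.sigmaFiberEquiv f), Nat.card_sigma]
  have hfib : ∀ W : Planes p V, Nat.card {x : Pairs V // f x = W} = (p ^ 2 - 1) * (p ^ 2 - p) := by
    intro W
    rw [← card_pairs (V := W.1) 2 W.2]
    symm
    let g : Pairs W.1 → {x : Pairs V // f x = W} := fun y =>
      ⟨⟨((y.1.1 : V), (y.1.2 : V)), by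
          refine ⟨fun h => y.2.1 (Subtype.ext h), fun h => y.2.2 ?_⟩
          obtain ⟨k, hk⟩ := AddSubgroup.mem_zmultiples_iff.mp h
          exact AddSubgroup.mem_zmultiples_iff.mpr ⟨k, Subtype.ext (by simpa using hk)⟩⟩, by
        apply Subtype.ext
        change AddSubgroup.closure ({(y.1.1 : V), (y.1.2 : V)} : Set V) = W.1
        have hle : AddSubgroup.closure ({(y.1.1 : V), (y.1.2 : V)} : Set V) ≤ W.1 := by
          rw [AddSubgroup.closure_le]
          rintro x hx
          rcases hx with rfl | rfl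
          · exact y.1.1.2
          · exact y.1.2.2
        have hv : (y.1.1 : V) ≠ 0 := fun h => y.2.1 (Subtype.ext h)
        have hw : (y.1.2 : V) ∉ AddSubgroup.zmultiples (y.1.1 : V) := by
          intro h
          apply y.2.2
          obtain ⟨k, hk⟩ := AddSubgroup.mem_zmultiples_iff.mp h
          exact AddSubgroup.mem_zmultiples_iff.mpr ⟨k, Subtype.ext (by simpa using hk)⟩
        have hc := card_closure_pair (p := p) hv hw
        exact AddSubgroup.eq_of_le_of_card_ge hle (by rw [hc, W.2])⟩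
    apply Nat.card_congr
    apply Equiv.ofBijective g
    constructor
    · intro y₁ y₂ h
      have h1 : (g y₁).1.1 = (g y₂).1.1 := by rw [h]
      have h2 : ((y₁.1.1 : V), (y₁.1.2 : V)) = ((y₂.1.1 : V), (y₂.1.2 : V)) := h1
      apply Subtype.ext
      apply Prod.ext
      · exact Subtype.ext (congrArg Prod.fst h2)
      · exact Subtype.ext (congrArg Prod.snd h2)
    · rintro ⟨⟨⟨v, w⟩, hv, hw⟩, hx⟩
      have hW : AddSubgroup.closure ({v, w} : Set V) = W.1 := congrArg Subtype.val hx
      have hvW : v ∈ W.1 := by rw [← hW]; exact AddSubgroup.subset_closure (by simp)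
      have hwW : w ∈ W.1 := by rw [← hW]; exact AddSubgroup.subset_closure (by simp)
      refine ⟨⟨(⟨v, hvW⟩, ⟨w, hwW⟩), ?_, ?_⟩, rfl⟩
      · intro h
        exact hv (congrArg Subtype.val h)
      · intro h
        apply hw
        obtain ⟨k, hk⟩ := AddSubgroup.mem_zmultiples_iff.mp h
        exact AddSubgroup.mem_zmultiples_iff.mpr ⟨k, by simpa using congrArg Subtype.val hk⟩
  simp only [hfib, Finset.sum_const, Finset.card_univ, smul_eq_mul]
  rw [Nat.card_eq_fintype_card]

end counting



theorem arith_main {p n : ℕ} (hp : p.Prime) (hn : 3 ≤ n)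
    (h : (p ^ (n - 1) - 1) ∣ n * (p ^ 2 - 1)) : n = 3 ∨ (n = 5 ∧ p = 2) := by
  obtain ⟨q, rfl⟩ : ∃ q, p = q + 2 := ⟨p - 2, by have := hp.two_le; omega⟩
  rcases Nat.lt_or_ge n 6 with h6 | h6
  · interval_cases n
    · left; rfl
    · exfalso
      have e1 : (q + 2) ^ (4 - 1) - 1 = (q + 1) * (q ^ 2 + 5 * q + 7) := by
        have : (q + 2) ^ 3 = (q + 1) * (q ^ 2 + 5 * q + 7) + 1 := by ring
        show (q + 2) ^ 3 - 1 = _
        omega
      have e2 : 4 * ((q + 2) ^ 2 - 1) = (q + 1) * (4 * (q + 3)) := by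
        have : (q + 2) ^ 2 = (q + 1) * (q + 3) + 1 := by ring
        rw [this, Nat.add_sub_cancel]; ring
      rw [e1, e2] at h
      have h1 : (q ^ 2 + 5 * q + 7) ∣ 4 * (q + 3) :=
        Nat.dvd_of_mul_dvd_mul_left (Nat.succ_pos q) h
      have h2 := Nat.le_of_dvd (by positivity) h1
      have hq : q ≤ 1 := by nlinarith
      interval_cases q
      · norm_num at h1
      · norm_num at h1
    · right
      refine ⟨rfl, ?_⟩
      have e1 : (q + 2) ^ (5 - 1) - 1 = ((q + 2) ^ 2 - 1) * ((q + 2) ^ 2 + 1) := by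
        have h0 : (q + 2) ^ 2 = ((q + 2) ^ 2 - 1) + 1 := by
          have : 0 < (q + 2) ^ 2 := by positivity
          omega
        have : (q + 2) ^ 4 = ((q + 2) ^ 2 - 1) * ((q + 2) ^ 2 + 1) + 1 := by
          generalize hm : (q + 2) ^ 2 - 1 = m at h0
          have : (q + 2) ^ 4 = ((q + 2) ^ 2) ^ 2 := by ring
          rw [this, h0]; ring
        show (q + 2) ^ 4 - 1 = _
        omega
      have e2 : 5 * ((q + 2) ^ 2 - 1) = ((q + 2) ^ 2 - 1) * 5 := by ring
      rw [e1, e2] at h
      have hpos : 0 < (q + 2) ^ 2 - 1 := by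
        have : (q + 2) ^ 2 = q ^ 2 + 4 * q + 4 := by ring
        omega
      have h1 : ((q + 2) ^ 2 + 1) ∣ 5 := Nat.dvd_of_mul_dvd_mul_left hpos h
      have h2 := Nat.le_of_dvd (by norm_num) h1
      have hq : q = 0 := by nlinarith
      rw [hq]
  · exfalso
    obtain ⟨k, rfl⟩ : ∃ k, n = k + 6 := ⟨n - 6, by omega⟩
    have hsq : (q + 2) ^ 2 = q ^ 2 + 4 * q + 4 := by ring
    have hpos : 0 < (k + 6) * ((q + 2) ^ 2 - 1) := by
      have : 0 < (q + 2) ^ 2 - 1 := by omega
      positivity
    have hle := Nat.le_of_dvd hpos h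
    have h1 : k + 7 ≤ 2 ^ (k + 3) := by
      have := Nat.lt_two_pow_self (n := k)
      have : 2 ^ (k + 3) = 8 * 2 ^ k := by ring
      omega
    have h2 : 2 ^ (k + 3) ≤ (q + 2) ^ (k + 3) := Nat.pow_le_pow_left (by omega) _
    have h3 : (q + 2) ^ (k + 6 - 1) = (q + 2) ^ 2 * (q + 2) ^ (k + 3) := by
      rw [← pow_add]; congr 1; omega
    have h4 : (q + 2) ^ 2 * (k + 7) ≤ (q + 2) ^ (k + 6 - 1) := by
      rw [h3]; exact Nat.mul_le_mul_left _ (h1.trans h2)
    have h5 : (k + 6) * ((q + 2) ^ 2 - 1) ≤ (k + 6) * (q + 2) ^ 2 :=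
      Nat.mul_le_mul_left _ (Nat.sub_le _ _)
    have h7 : (q + 2) ^ 2 * (k + 7) = (k + 6) * (q + 2) ^ 2 + (q + 2) ^ 2 := by ring
    rw [h7] at h4
    generalize (q + 2) ^ (k + 6 - 1) = Y at *
    generalize (k + 6) * ((q + 2) ^ 2 - 1) = Z at *
    generalize (k + 6) * (q + 2) ^ 2 = W at *
    omega


end Cfsg.Agent.Lib.Helper7.EqOrd
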