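import Mathlib
import Cfsg.Agent.Lib.Lead.HallCount2

/-!
# S4025: fixed points of prime order linear maps, and the exceptional case `3 ^ 4`

`no_exceptional` : no solvable `3'`-subgroup of `GL(4, 3)` has order divisible by `130`
(such a group would be transitive on the `130` planes of `F_3 ^ 4`).
-/

set_option autoImplicit false
set_option linter.style.haveILetI false

namespace Cfsg.Agent.Lib.Helper7.EqOrd


open Module

section fix
variable {K : Type*} [Field K] {V : Type*} [AddCommGroup V] [Module K V]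

/-- fixed vectors of a linear equivalence, as an additive subgroup -/
def fixSub (g : V ≃ₗ[K] V) : AddSubgroup V where
  carrier := {v | g v = v}
  zero_mem' := map_zero g
  add_mem' := fun {a b} ha hb => by
    change g (a + b) = a + b
    rw [map_add, ha, hb]
  neg_mem' := fun {a} ha => by
    change g (-a) = -a
    rw [map_neg, ha]

theorem mem_fixSub {g : V ≃ₗ[K] V} {v : V} : v ∈ fixSub g ↔ g v = v := Iff.rfl

theorem zpow_fix {g : V ≃ₗ[K] V} {v : V} (h : g v = v) (h' : V ≃ₗ[K] V)
    (hh : h' ∈ Subgroup.zpowers g) : h' v = v := by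
  have h1 : g ∈ MulAction.stabilizer (V ≃ₗ[K] V) v := by
    rw [MulAction.mem_stabilizer_iff]; exact h
  have h2 : Subgroup.zpowers g ≤ MulAction.stabilizer (V ≃ₗ[K] V) v := by
    rw [Subgroup.zpowers_le]; exact h1
  have := h2 hh
  rw [MulAction.mem_stabilizer_iff] at this
  exact this

theorem card_fix_modEq [Finite V] (g : V ≃ₗ[K] V) (r : ℕ) [hr : Fact r.Prime]
    (hg : orderOf g = r) : Nat.card V ≡ Nat.card (fixSub g) [MOD r] := by
  classical
  have hP : IsPGroup r (Subgroup.zpowers g) := by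
    apply IsPGroup.of_card (n := 1)
    rw [Nat.card_zpowers, hg, pow_one]
  have h := hP.card_modEq_card_fixedPoints V
  have he : Nat.card (MulAction.fixedPoints (Subgroup.zpowers g) V) = Nat.card (fixSub g) := by
    apply Nat.card_congr
    refine Equiv.subtypeEquivRight (fun v => ?_)
    rw [MulAction.mem_fixedPoints]
    constructor
    · intro h
      exact h ⟨g, Subgroup.mem_zpowers g⟩
    · intro h ⟨h', hh'⟩
      exact zpow_fix h h' hh'
  rw [← he]
  exact h

end fix


section eightyone
variable {V : Type*} [AddCommGroup V] [Module (ZMod 3) V] [Finite V]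

theorem card_fixSub_cases (hV : Nat.card V = 3 ^ 4) (g : V ≃ₗ[ZMod 3] V) (hg1 : g ≠ 1) :
    Nat.card (fixSub g) = 1 ∨ Nat.card (fixSub g) = 3 ∨ Nat.card (fixSub g) = 9 ∨
      Nat.card (fixSub g) = 27 := by
  have hd : Nat.card (fixSub g) ∣ 3 ^ 4 := by
    rw [← hV]; exact AddSubgroup.card_addSubgroup_dvd_card _
  obtain ⟨j, hj, hc⟩ := (Nat.dvd_prime_pow Nat.prime_three).mp hd
  have hne : Nat.card (fixSub g) ≠ 3 ^ 4 := by
    intro h
    apply hg1
    have htop : fixSub g = ⊤ := by
      apply AddSubgroup.eq_top_of_card_eq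
      rw [h, hV]
    ext v
    have : v ∈ fixSub g := by rw [htop]; trivial
    exact this
  interval_cases j
  · left; simpa using hc
  · right; left; simpa using hc
  · right; right; left; rw [hc]; norm_num
  · right; right; right; rw [hc]; norm_num
  · exact absurd hc hne

theorem card_fixSub_thirteen (hV : Nat.card V = 3 ^ 4) (g : V ≃ₗ[ZMod 3] V) (hg : orderOf g = 13) :
    Nat.card (fixSub g) = 3 := by
  haveI : Fact (Nat.Prime 13) := ⟨by norm_num⟩
  have h1 : g ≠ 1 := by
    rintro rfl
    rw [orderOf_one] at hg; omega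
  have h := card_fix_modEq g 13 hg
  rw [hV] at h
  rcases card_fixSub_cases hV g h1 with h2 | h2 | h2 | h2 <;> rw [h2] at h
  · exact absurd h (by decide)
  · exact h2
  · exact absurd h (by decide)
  · exact absurd h (by decide)

theorem card_fixSub_five (hV : Nat.card V = 3 ^ 4) (g : V ≃ₗ[ZMod 3] V) (hg : orderOf g = 5) :
    Nat.card (fixSub g) = 1 := by
  haveI : Fact (Nat.Prime 5) := ⟨by norm_num⟩
  have h1 : g ≠ 1 := by
    rintro rfl
    rw [orderOf_one] at hg; omega
  have h := card_fix_modEq g 5 hg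
  rw [hV] at h
  rcases card_fixSub_cases hV g h1 with h2 | h2 | h2 | h2 <;> rw [h2] at h
  · exact h2
  · exact absurd h (by decide)
  · exact absurd h (by decide)
  · exact absurd h (by decide)

end eightyone


section exceptional
variable {V : Type*} [AddCommGroup V] [Module (ZMod 3) V] [Finite V]

theorem card_linearEquiv_81 {V : Type*} [AddCommGroup V] [Module (ZMod 3) V] [Finite V]
    (hV : Nat.card V = 3 ^ 4) : Nat.card (V ≃ₗ[ZMod 3] V) = 24261120 := by
  classical
  haveI : Fact (Nat.Prime 3) := ⟨Nat.prime_three⟩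
  have hfr : finrank (ZMod 3) V = 4 := by
    have h1 := Module.natCard_eq_pow_finrank (K := ZMod 3) (V := V)
    rw [hV, Nat.card_zmod] at h1
    exact (Nat.pow_right_injective (by norm_num : 2 ≤ 3) h1).symm
  let b := Module.finBasisOfFinrankEq (ZMod 3) V hfr
  let E : (V ≃ₗ[ZMod 3] V) ≃* GL (Fin 4) (ZMod 3) :=
    ((LinearMap.GeneralLinearGroup.generalLinearEquiv (ZMod 3) V).symm.trans
      (LinearMap.GeneralLinearGroup.congrLinearEquiv b.equivFun)).trans
      Matrix.GeneralLinearGroup.toLin.symm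
  rw [Nat.card_congr E.toEquiv, Matrix.card_GL_field]
  simp [Fin.prod_univ_four, ZMod.card]


theorem no_exceptional (hV : Nat.card V = 3 ^ 4) (A : Subgroup (V ≃ₗ[ZMod 3] V))
    (hsol : Group.IsSolvable A) (hcop : (Nat.card A).Coprime 3) (h130 : 130 ∣ Nat.card A) : False := by
  classical
  haveI : Finite (V ≃ₗ[ZMod 3] V) := Finite.of_injective (fun g => (g : V → V)) DFunLike.coe_injective
  have h1 : Nat.card A ∣ 24261120 := by
    rw [← card_linearEquiv_81 hV]; exact Subgroup.card_subgroup_dvd_card A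
  have h2 : Nat.card A ∣ 33280 := by
    have e : (24261120 : ℕ) = 3 ^ 6 * 33280 := by norm_num
    rw [e] at h1
    exact (Nat.Coprime.pow_right 6 hcop).dvd_of_dvd_mul_left h1
  obtain ⟨m, hm⟩ : 65 ∣ Nat.card A := dvd_trans (by norm_num) h130
  have hm512 : m ∣ 512 := by
    rw [hm] at h2
    have e : (33280 : ℕ) = 65 * 512 := by norm_num
    rw [e] at h2
    exact Nat.dvd_of_mul_dvd_mul_left (by norm_num) h2
  have hcop65 : Nat.Coprime 65 m :=
    Nat.Coprime.coprime_dvd_right hm512 (by norm_num)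
  haveI := hsol
  obtain ⟨H, hH⟩ := Cfsg.Agent.Lib.Lead.HallCount.exists_hall (G := A) 65 m hm hcop65
  haveI : Fact (Nat.Prime 13) := ⟨by norm_num⟩
  haveI : Fact (Nat.Prime 5) := ⟨by norm_num⟩
  obtain ⟨x, hx⟩ := exists_prime_orderOf_dvd_card' (G := H) 13 (by rw [hH]; norm_num)
  obtain ⟨y, hy⟩ := exists_prime_orderOf_dvd_card' (G := H) 5 (by rw [hH]; norm_num)
  have hT : (Subgroup.zpowers x).Normal := by
    apply Subgroup.normal_of_index_eq_minFac_card
    have h3 := (Subgroup.zpowers x).card_mul_index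
    rw [Nat.card_zpowers, hx, hH] at h3
    have h4 : (Subgroup.zpowers x).index = 5 := by omega
    rw [h4, hH]; norm_num
  -- pass to linear maps
  set gx : V ≃ₗ[ZMod 3] V := ((x : A) : V ≃ₗ[ZMod 3] V) with hgx
  set gy : V ≃ₗ[ZMod 3] V := ((y : A) : V ≃ₗ[ZMod 3] V) with hgy
  have hogx : orderOf gx = 13 := by
    rw [hgx, Subgroup.orderOf_coe, Subgroup.orderOf_coe, hx]
  have hogy : orderOf gy = 5 := by
    rw [hgy, Subgroup.orderOf_coe, Subgroup.orderOf_coe, hy]
  have hconj : gy⁻¹ * gx * gy ∈ Subgroup.zpowers gx := by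
    have h3 : y⁻¹ * x * y⁻¹⁻¹ ∈ Subgroup.zpowers x := hT.conj_mem x (Subgroup.mem_zpowers x) y⁻¹
    rw [inv_inv] at h3
    obtain ⟨k, hk⟩ := Subgroup.mem_zpowers_iff.mp h3
    refine Subgroup.mem_zpowers_iff.mpr ⟨k, ?_⟩
    have h4 := congrArg (fun z : H => ((z : A) : V ≃ₗ[ZMod 3] V)) hk
    simpa using h4
  have hL : Nat.card (fixSub gx) = 3 := card_fixSub_thirteen hV gx hogx
  have hL5 : Nat.card (fixSub gy) = 1 := card_fixSub_five hV gy hogy
  -- a nonzero fixed vector of gx
  have hne : fixSub gx ≠ ⊥ := by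
    intro h
    rw [h, AddSubgroup.card_bot] at hL; omega
  obtain ⟨⟨v, hvL⟩, hv0'⟩ := (AddSubgroup.ne_bot_iff_exists_ne_zero).mp hne
  have hv0 : v ≠ 0 := fun h => hv0' (Subtype.ext h)
  have hvfix : gx v = v := hvL
  -- gy v is again fixed by gx
  have hwL : gy v ∈ fixSub gx := by
    rw [mem_fixSub]
    have h3 : (gy⁻¹ * gx * gy) v = v := zpow_fix hvfix _ hconj
    have h4 : gx (gy v) = gy ((gy⁻¹ * gx * gy) v) := by
      change gx (gy v) = gy (gy⁻¹ (gx (gy v)))
      change gx (gy v) = gy (gy.symm (gx (gy v)))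
      rw [LinearEquiv.apply_symm_apply]
    rw [h4, h3]
  -- the fixed space is {0, v, -v}
  have hvneg : v ≠ -v := by
    intro h
    apply hv0
    have h3 : (3 : ℕ) • v = 0 := ZModModule.char_nsmul_eq_zero 3 v
    have h4 : v + v = 0 := by
      nth_rewrite 2 [h]; exact add_neg_cancel v
    have h5 : (3 : ℕ) • v = v + v + v := by
      rw [succ_nsmul, succ_nsmul, one_nsmul]
    rw [h5, h4, zero_add] at h3
    exact h3
  have hS : ({0, v, -v} : Set V) = (fixSub gx : Set V) := by
    apply Set.eq_of_subset_of_ncard_le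
    · intro z hz
      rcases hz with rfl | rfl | rfl
      · exact (fixSub gx).zero_mem
      · exact hvL
      · exact (fixSub gx).neg_mem hvL
    · have h3 : ((fixSub gx : Set V)).ncard = 3 :=
        (Nat.card_coe_set_eq _).symm.trans hL
      rw [h3]
      have h4 : ({0, v, -v} : Set V).ncard = 3 := by
        rw [Set.ncard_eq_three]
        exact ⟨0, v, -v, hv0.symm, by
          intro h; exact hv0 (neg_eq_zero.mp h.symm), hvneg, rfl⟩
      rw [h4]
    · exact Set.toFinite _
  have hw : gy v ∈ ({0, v, -v} : Set V) := by rw [hS]; exact hwL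
  have hbot : fixSub gy = ⊥ := by
    rw [AddSubgroup.eq_bot_iff_card]; exact hL5
  have hfixy : gy v = v → False := by
    intro h
    have : v ∈ fixSub gy := h
    rw [hbot, AddSubgroup.mem_bot] at this
    exact hv0 this
  rcases hw with h | h | h
  · apply hv0
    have := gy.injective (h.trans (map_zero gy).symm)
    exact this
  · exact hfixy h
  · apply hfixy
    have h2 : gy (gy v) = v := by rw [h, map_neg, h, neg_neg]
    have h5 : gy ^ 5 = 1 := by rw [← hogy]; exact pow_orderOf_eq_one gy
    have h6 : (gy ^ 6) v = v := by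
      have : gy ^ 6 = gy * gy * (gy * gy) * (gy * gy) := by
        simp only [pow_succ, pow_zero, one_mul, mul_assoc]
      rw [this]
      change gy (gy (gy (gy (gy (gy v))))) = v
      rw [h2, h2, h2]
    have h7 : gy ^ 6 = gy := by
      rw [pow_succ, h5, one_mul]
    rw [h7] at h6
    exact h6

end exceptional


end Cfsg.Agent.Lib.Helper7.EqOrd
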