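import Mathlib
import Cfsg.Agent.Lib.Helper7.EqOrd1

/-!
# S4025: semilinear groups and the action on planes

* `IsSemi e g a σ` : `g` acts as `x ↦ a * σ x` in the additive coordinates `e : V ≃+ F`;
* `card_dvd_of_semi` : a group of such maps has order dividing `(|F| - 1) * |Aut F|`;
* `card_planes_mul_card_stabilizer` : orbit-stabiliser for a group transitive on the planes.
-/

set_option autoImplicit false
set_option linter.style.haveILetI false
set_option linter.unusedSectionVars false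

namespace Cfsg.Agent.Lib.Helper7.EqOrd

open Module Pointwise



section semilinear

variable {p : ℕ} [hp : Fact p.Prime] {V : Type*} [AddCommGroup V] [Module (ZMod p) V]
variable {F : Type*} [Field F] (e : V ≃+ F)

/-- `g` acts as `x ↦ a * σ x` in the coordinates `e` -/
def IsSemi (g : V ≃ₗ[ZMod p] V) (a : F) (σ : F ≃+* F) : Prop := ∀ v, e (g v) = a * σ (e v)

variable {e}

theorem IsSemi.coef_eq {g : V ≃ₗ[ZMod p] V} {a : F} {σ : F ≃+* F} (h : IsSemi e g a σ) :
    a = e (g (e.symm 1)) := by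
  have := h (e.symm 1)
  rw [AddEquiv.apply_symm_apply, map_one σ, mul_one] at this
  exact this.symm

theorem IsSemi.coef_ne_zero {g : V ≃ₗ[ZMod p] V} {a : F} {σ : F ≃+* F} (h : IsSemi e g a σ) :
    a ≠ 0 := by
  rw [h.coef_eq]
  intro h0
  have h1 : g (e.symm 1) = 0 := e.injective (h0.trans (map_zero e).symm)
  have h2 : e.symm 1 = 0 := g.injective (h1.trans (map_zero g).symm)
  have h3 : (1 : F) = 0 := by
    have := congrArg e h2
    rwa [AddEquiv.apply_symm_apply, map_zero] at this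
  exact one_ne_zero h3

theorem IsSemi.unique {g : V ≃ₗ[ZMod p] V} {a a' : F} {σ σ' : F ≃+* F} (h : IsSemi e g a σ)
    (h' : IsSemi e g a' σ') : a = a' ∧ σ = σ' := by
  have ha : a = a' := h.coef_eq.trans h'.coef_eq.symm
  refine ⟨ha, ?_⟩
  ext x
  have h1 := h (e.symm x)
  have h2 := h' (e.symm x)
  rw [AddEquiv.apply_symm_apply] at h1 h2
  rw [h1, ← ha] at h2
  exact mul_left_cancel₀ h.coef_ne_zero h2

theorem IsSemi.mul {g h : V ≃ₗ[ZMod p] V} {a b : F} {σ τ : F ≃+* F} (hg : IsSemi e g a σ)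
    (hh : IsSemi e h b τ) : IsSemi e (g * h) (a * σ b) (σ * τ) := by
  intro v
  change e (g (h v)) = _
  rw [hg (h v), hh v, map_mul, mul_assoc]
  rfl

theorem IsSemi.one : IsSemi e (1 : V ≃ₗ[ZMod p] V) 1 1 := by
  intro v
  change e v = 1 * e v
  rw [one_mul]

end semilinear

section bound

variable {p : ℕ} [hp : Fact p.Prime] {V : Type*} [AddCommGroup V] [Module (ZMod p) V]
variable {F : Type*} [Field F] [Finite F] {e : V ≃+ F}

/-- the field-automorphism part, as a homomorphism -/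
noncomputable def sigHom (Γ : Subgroup (V ≃ₗ[ZMod p] V))
    (hS : ∀ g ∈ Γ, ∃ (a : F) (σ : F ≃+* F), IsSemi e g a σ) : Γ →* (F ≃+* F) :=
  MonoidHom.mk' (fun g => (hS g.1 g.2).choose_spec.choose) (by
    intro g h
    have hg := (hS g.1 g.2).choose_spec.choose_spec
    have hh := (hS h.1 h.2).choose_spec.choose_spec
    have hgh := (hS (g * h).1 (g * h).2).choose_spec.choose_spec
    exact (hgh.unique (hg.mul hh)).2)

theorem sigHom_spec (Γ : Subgroup (V ≃ₗ[ZMod p] V))
    (hS : ∀ g ∈ Γ, ∃ (a : F) (σ : F ≃+* F), IsSemi e g a σ) (g : Γ) :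
    IsSemi e g.1 (e (g.1 (e.symm 1))) (sigHom Γ hS g) := by
  have hg := (hS g.1 g.2).choose_spec.choose_spec
  have := hg.coef_eq
  rw [← this]
  exact hg

theorem card_dvd_of_semi (Γ : Subgroup (V ≃ₗ[ZMod p] V)) [Finite Γ]
    (hS : ∀ g ∈ Γ, ∃ (a : F) (σ : F ≃+* F), IsSemi e g a σ) :
    Nat.card Γ ∣ (Nat.card F - 1) * Nat.card (F ≃+* F) := by
  classical
  set Φ := sigHom Γ hS with hΦ
  -- the kernel embeds in the units of F
  have hker : ∀ g : Φ.ker, IsSemi e g.1.1 (e (g.1.1 (e.symm 1))) 1 := by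
    intro g
    have := sigHom_spec Γ hS g.1
    have h1 : Φ g.1 = 1 := g.2
    rw [← hΦ, h1] at this
    exact this
  let ψ : Φ.ker →* Fˣ :=
    MonoidHom.mk' (fun g => Units.mk0 (e (g.1.1 (e.symm 1))) (hker g).coef_ne_zero) (by
      intro g h
      apply Units.ext
      have h1 := ((hker g).mul (hker h)).coef_eq
      simp only [Units.val_mul, Units.val_mk0]
      have h2 : (1 : F ≃+* F) (e (h.1.1 (e.symm 1))) = e (h.1.1 (e.symm 1)) := rfl
      rw [h2] at h1
      exact h1.symm)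
  have hψ : Function.Injective ψ := by
    rw [injective_iff_map_eq_one]
    intro g hg
    have h1 : e (g.1.1 (e.symm 1)) = 1 := congrArg Units.val hg
    have h2 := hker g
    rw [h1] at h2
    apply Subtype.ext
    apply Subtype.ext
    ext v
    have := h2 v
    have h3 : (1 : F ≃+* F) (e v) = e v := rfl
    rw [one_mul, h3] at this
    exact e.injective this
  have h1 : Nat.card Φ.ker ∣ Nat.card F - 1 := by
    have := Subgroup.card_dvd_of_injective ψ hψ
    rwa [Nat.card_units] at this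
  have h2 : Nat.card Φ.range ∣ Nat.card (F ≃+* F) := Subgroup.card_subgroup_dvd_card _
  have h3 : Nat.card Φ.ker * Φ.ker.index = Nat.card Γ := Φ.ker.card_mul_index
  rw [Subgroup.index_ker] at h3
  rw [← h3]
  exact Nat.mul_dvd_mul h1 h2

end bound




section planes

variable {p : ℕ} [hp : Fact p.Prime] {V : Type*} [AddCommGroup V] [Module (ZMod p) V]

theorem card_smul_eq (g : V ≃ₗ[ZMod p] V) (W : AddSubgroup V) :
    Nat.card (g • W : AddSubgroup V) = Nat.card W := by
  symm
  apply Nat.card_congr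
  exact
    { toFun := fun v => ⟨g • v.1, AddSubgroup.smul_mem_pointwise_smul v.1 g W v.2⟩
      invFun := fun x => ⟨g⁻¹ • x.1, AddSubgroup.mem_pointwise_smul_iff_inv_smul_mem.mp x.2⟩
      left_inv := fun v => Subtype.ext (inv_smul_smul g v.1)
      right_inv := fun x => Subtype.ext (smul_inv_smul g x.1) }

theorem smul_eq_of_maps [Finite V] (g : V ≃ₗ[ZMod p] V) (W₁ W₂ : AddSubgroup V)
    (hc : Nat.card W₁ = Nat.card W₂) (h : ∀ v ∈ W₁, g v ∈ W₂) : g • W₁ = W₂ := by
  apply AddSubgroup.eq_of_le_of_card_ge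
  · intro x hx
    obtain ⟨v, hv, rfl⟩ := (AddSubgroup.mem_smul_pointwise_iff_exists x g W₁).mp hx
    exact h v hv
  · rw [card_smul_eq, hc]

theorem card_planes_mul_card_stabilizer [Finite V] (Γ : Subgroup (V ≃ₗ[ZMod p] V))
    (W₀ : AddSubgroup V) (hW₀ : Nat.card W₀ = p ^ 2)
    (htr : ∀ W : AddSubgroup V, Nat.card W = p ^ 2 → ∃ g ∈ Γ, ∀ v ∈ W₀, g v ∈ W) :
    Nat.card (Planes p V) * Nat.card (MulAction.stabilizer Γ W₀) = Nat.card Γ := by
  have horb : MulAction.orbit Γ W₀ = {W : AddSubgroup V | Nat.card W = p ^ 2} := by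
    ext W
    constructor
    · rintro ⟨g, rfl⟩
      change Nat.card ((g : V ≃ₗ[ZMod p] V) • W₀ : AddSubgroup V) = p ^ 2
      rw [card_smul_eq, hW₀]
    · intro hW
      obtain ⟨g, hg, hmap⟩ := htr W hW
      refine ⟨⟨g, hg⟩, ?_⟩
      change g • W₀ = W
      exact smul_eq_of_maps g W₀ W (hW₀.trans hW.symm) hmap
  have h1 := MulAction.index_stabilizer Γ W₀
  rw [horb] at h1
  have h2 : Nat.card (Planes p V) = ({W : AddSubgroup V | Nat.card W = p ^ 2} : Set _).ncard :=
    Nat.card_coe_set_eq _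
  rw [h2, ← h1, mul_comm]
  exact (MulAction.stabilizer Γ W₀).card_mul_index

end planes


end Cfsg.Agent.Lib.Helper7.EqOrd
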