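import Mathlib
import Cfsg.Agent.S3360
import Cfsg.Agent.Lib.Helper7.EqOrd1
import Cfsg.Agent.Lib.Helper7.EqOrd2
import Cfsg.Agent.Lib.Helper7.EqOrd3

/-!
# S4025: the linear group part

`linear_main` : a solvable `p'`-group `A` of linear maps of `V = F_p ^ n`, `n ≥ 3`, transitive on
the subgroups of order `p` and on those of order `p ^ 2`, has `n = 3` or `(n, p) = (5, 2)` and is a
group of semilinear maps `x ↦ a * σ x` of `GF(p ^ n)` (Huppert, S3360, plus a count of planes).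
-/

set_option autoImplicit false
set_option linter.style.haveILetI false
set_option linter.unusedSectionVars false

namespace Cfsg.Agent.Lib.Helper7.EqOrd


open Module Pointwise

section main

variable {p : ℕ} [hp : Fact p.Prime] {V : Type*} [AddCommGroup V] [Module (ZMod p) V]

/-- the scalar maps -/
noncomputable def zhom (p : ℕ) [Fact p.Prime] (V : Type*) [AddCommGroup V] [Module (ZMod p) V] :
    (ZMod p)ˣ →* (V ≃ₗ[ZMod p] V) :=
  DistribMulAction.toModuleAut (ZMod p) V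

theorem zhom_apply (c : (ZMod p)ˣ) (v : V) : zhom p V c v = (c : ZMod p) • v := rfl

theorem zhom_comm (g : V ≃ₗ[ZMod p] V) (c : (ZMod p)ˣ) : Commute g (zhom p V c) := by
  ext v
  change g (zhom p V c v) = zhom p V c (g v)
  rw [zhom_apply, zhom_apply, map_smul]

theorem zhom_injective [Nontrivial V] : Function.Injective (zhom p V) := by
  rw [injective_iff_map_eq_one]
  intro c hc
  obtain ⟨v, hv⟩ := exists_ne (0 : V)
  have h1 : (c : ZMod p) • v = v := by
    rw [← zhom_apply, hc]; rfl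
  have h2 : ((c : ZMod p) - 1) • v = 0 := by rw [sub_smul, h1, one_smul, sub_self]
  rcases smul_eq_zero.mp h2 with h | h
  · exact Units.ext (sub_eq_zero.mp h)
  · exact absurd h hv

/-- the group generated by `A` and the scalars -/
noncomputable def hatHom (A : Subgroup (V ≃ₗ[ZMod p] V)) : A × (ZMod p)ˣ →* (V ≃ₗ[ZMod p] V) :=
  MonoidHom.noncommCoprod A.subtype (zhom p V) (fun a c => zhom_comm a.1 c)

theorem hatHom_apply (A : Subgroup (V ≃ₗ[ZMod p] V)) (x : A × (ZMod p)ˣ) :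
    hatHom A x = x.1.1 * zhom p V x.2 := rfl

theorem le_hat (A : Subgroup (V ≃ₗ[ZMod p] V)) : A ≤ (hatHom A).range := by
  intro g hg
  exact ⟨(⟨g, hg⟩, 1), by rw [hatHom_apply, map_one, mul_one]⟩

theorem zhom_mem_hat (A : Subgroup (V ≃ₗ[ZMod p] V)) (c : (ZMod p)ˣ) :
    zhom p V c ∈ (hatHom A).range :=
  ⟨(1, c), by rw [hatHom_apply]; simp⟩

instance hat_solvable (A : Subgroup (V ≃ₗ[ZMod p] V)) [hsol : Group.IsSolvable A] :
    Group.IsSolvable (hatHom A).range :=
  Group.isSolvable_of_surjective (f := (hatHom A).rangeRestrict) (hatHom A).rangeRestrict_surjective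

theorem hat_trans (A : Subgroup (V ≃ₗ[ZMod p] V))
    (htr1 : ∀ v w : V, v ≠ 0 → w ≠ 0 → ∃ g ∈ A, g v ∈ AddSubgroup.zmultiples w)
    (v w : V) (hv : v ≠ 0) (hw : w ≠ 0) : ∃ g ∈ (hatHom A).range, g v = w := by
  obtain ⟨g, hg, hgv⟩ := htr1 v w hv hw
  obtain ⟨k, hk⟩ := AddSubgroup.mem_zmultiples_iff.mp hgv
  have hk' : ((k : ZMod p)) • w = g v := by
    rw [← hk]; exact Int.cast_smul_eq_zsmul (ZMod p) k w
  have hc0 : (k : ZMod p) ≠ 0 := by
    intro h
    rw [h, zero_smul] at hk'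
    exact hv (g.injective (hk'.symm.trans (map_zero g).symm))
  refine ⟨zhom p V (Units.mk0 _ hc0)⁻¹ * g,
    mul_mem (zhom_mem_hat A _) (le_hat A hg), ?_⟩
  change zhom p V (Units.mk0 _ hc0)⁻¹ (g v) = w
  rw [zhom_apply, ← hk', smul_smul, Units.val_inv_eq_inv_val, Units.val_mk0,
    inv_mul_cancel₀ hc0, one_smul]

theorem units_zmod_two (c : (ZMod 2)ˣ) : c = 1 := by
  revert c; decide

theorem hat_eq_of_two (h2 : p = 2) (A : Subgroup (V ≃ₗ[ZMod p] V)) : (hatHom A).range = A := by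
  subst h2
  apply le_antisymm _ (le_hat A)
  rintro _ ⟨⟨a, c⟩, rfl⟩
  have hc : c = 1 := units_zmod_two c
  rw [hatHom_apply, hc, map_one, mul_one]
  exact a.2


theorem nontrivial_of_card [Finite V] (n : ℕ) (hn : 1 ≤ n) (hV : Nat.card V = p ^ n) : Nontrivial V := by
  rw [← Finite.one_lt_card_iff_nontrivial, hV]
  exact Nat.one_lt_pow (by omega) hp.out.one_lt

theorem exists_plane [Finite V] (n : ℕ) (hn : 2 ≤ n) (hV : Nat.card V = p ^ n) :
    ∃ W : AddSubgroup V, Nat.card W = p ^ 2 := by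
  haveI := nontrivial_of_card n (by omega) hV
  obtain ⟨v, hv⟩ := exists_ne (0 : V)
  have hex : ∃ w : V, w ∉ AddSubgroup.zmultiples v := by
    by_contra hcon
    push Not at hcon
    have htop : AddSubgroup.zmultiples v = ⊤ := by
      rw [eq_top_iff]; intro w _; exact hcon w
    have h1 : Nat.card (AddSubgroup.zmultiples v) = p := card_zmultiples_eq hv
    rw [htop, AddSubgroup.card_top, hV] at h1
    have h2 : p ^ n = p ^ 1 := by rw [h1, pow_one]
    have := Nat.pow_right_injective hp.out.two_le h2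
    omega
  obtain ⟨w, hw⟩ := hex
  exact ⟨_, card_closure_pair hv hw⟩

theorem pred_dvd_card_stabilizer [Finite V] [Nontrivial V] (A : Subgroup (V ≃ₗ[ZMod p] V))
    (W₀ : AddSubgroup V) :
    (p - 1) ∣ Nat.card (MulAction.stabilizer (hatHom A).range W₀) := by
  have hmem : ∀ c, zhom p V c ∈ (hatHom A).range := zhom_mem_hat A
  let ζ₁ : (ZMod p)ˣ →* (hatHom A).range := (zhom p V).codRestrict _ hmem
  have hstab : ∀ c, ζ₁ c ∈ MulAction.stabilizer (hatHom A).range W₀ := by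
    intro c
    rw [MulAction.mem_stabilizer_iff]
    change zhom p V c • W₀ = W₀
    apply smul_eq_of_maps _ _ _ rfl
    intro v hv
    rw [zhom_apply]
    have h1 : AddSubgroup.zmultiples v ≤ W₀ := by
      rw [AddSubgroup.zmultiples_le]; exact hv
    exact h1 (zsmul_mem_zmultiples' _ v)
  let ζ : (ZMod p)ˣ →* MulAction.stabilizer (hatHom A).range W₀ := ζ₁.codRestrict _ hstab
  have hinj : Function.Injective ζ := by
    intro c d hcd
    apply zhom_injective (V := V)
    have h1 := congrArg (fun z : MulAction.stabilizer (hatHom A).range W₀ => ((z : (hatHom A).range) : V ≃ₗ[ZMod p] V)) hcd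
    exact h1
  have := Subgroup.card_dvd_of_injective ζ hinj
  rwa [Nat.card_units, Nat.card_zmod] at this

theorem numeric {n : ℕ} (hn : 3 ≤ n) (D M s : ℕ) (hD : D ∣ (p ^ n - 1) * n) (hM : M * s = D)
    (hs : (p - 1) ∣ s) (hMc : M * ((p ^ 2 - 1) * (p ^ 2 - p)) = (p ^ n - 1) * (p ^ n - p)) :
    (p ^ (n - 1) - 1) ∣ n * (p ^ 2 - 1) := by
  have hp2 := hp.out.two_le
  obtain ⟨s', rfl⟩ := hs
  obtain ⟨t, ht⟩ := hD
  rw [← hM] at ht
  set P := p ^ (n - 1) with hP
  have hpn : p ^ n = p * P := by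
    rw [hP, ← pow_succ']; congr 1; omega
  have hPpos : 1 ≤ P := Nat.one_le_pow _ _ (by omega)
  have e1 : p ^ n - p = p * (P - 1) := by rw [hpn, Nat.mul_sub_one]
  have e2 : p ^ 2 - p = p * (p - 1) := by rw [sq, Nat.mul_sub_one]
  have hpos : 0 < p ^ n - 1 := by
    have : 2 ≤ p ^ n := by
      calc 2 ≤ p := hp2
        _ = p ^ 1 := (pow_one p).symm
        _ ≤ p ^ n := Nat.pow_le_pow_right (by omega) (by omega)
    omega
  refine ⟨s' * t, ?_⟩
  have h3 : (p ^ n - 1) * (p * ((P - 1) * (s' * t))) = (p ^ n - 1) * (p * (n * (p ^ 2 - 1))) := by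
    calc (p ^ n - 1) * (p * ((P - 1) * (s' * t)))
        = ((p ^ n - 1) * (p ^ n - p)) * (s' * t) := by rw [e1]; ring
      _ = (M * ((p ^ 2 - 1) * (p ^ 2 - p))) * (s' * t) := by rw [hMc]
      _ = (M * ((p - 1) * s') * t) * ((p ^ 2 - 1) * p) := by rw [e2]; ring
      _ = ((p ^ n - 1) * n) * ((p ^ 2 - 1) * p) := by rw [← ht]
      _ = (p ^ n - 1) * (p * (n * (p ^ 2 - 1))) := by ring
  have h4 := Nat.eq_of_mul_eq_mul_left hpos h3
  have h5 := Nat.eq_of_mul_eq_mul_left (by omega : 0 < p) h4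
  exact h5.symm


instance finite_linearEquiv [Finite V] : Finite (V ≃ₗ[ZMod p] V) :=
  Finite.of_injective (fun g => (g : V → V)) DFunLike.coe_injective

theorem main_case [Finite V] (n : ℕ) (hn : 3 ≤ n) (hV : Nat.card V = p ^ n)
    (A : Subgroup (V ≃ₗ[ZMod p] V))
    (htr2 : ∀ W₁ W₂ : AddSubgroup V, Nat.card W₁ = p ^ 2 → Nat.card W₂ = p ^ 2 →
      ∃ g ∈ A, ∀ v ∈ W₁, g v ∈ W₂)
    {F : Type*} [Field F] [Finite F] (e : V ≃+ F)
    (hS : ∀ g ∈ (hatHom A).range, ∃ (a : F) (σ : F ≃+* F), IsSemi e g a σ) :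
    (n = 3 ∨ (n = 5 ∧ p = 2)) ∧
      (p = 2 → n = 3 → Nat.card A = 7 ∨ Nat.card A = 21) ∧
      (p = 2 → n = 3 → Nat.card A = 7 → ∀ g ∈ A, ∃ a : F, IsSemi e g a 1) ∧
      (p = 2 → n = 5 → Nat.card A = 155) := by
  classical
  haveI := nontrivial_of_card n (by omega) hV
  have hF : Nat.card F = p ^ n := by rw [← hV]; exact (Nat.card_congr e.toEquiv).symm
  have hAut : Nat.card (F ≃+* F) = n := card_ringAut p n F hF
  have hD : Nat.card (hatHom A).range ∣ (p ^ n - 1) * n := by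
    have := card_dvd_of_semi (hatHom A).range hS
    rwa [hF, hAut] at this
  obtain ⟨W₀, hW₀⟩ := exists_plane n (by omega) hV
  have htr : ∀ W : AddSubgroup V, Nat.card W = p ^ 2 →
      ∃ g ∈ (hatHom A).range, ∀ v ∈ W₀, g v ∈ W := by
    intro W hW
    obtain ⟨g, hg, h⟩ := htr2 W₀ W hW₀ hW
    exact ⟨g, le_hat A hg, h⟩
  have hM := card_planes_mul_card_stabilizer (hatHom A).range W₀ hW₀ htr
  have hs := pred_dvd_card_stabilizer A W₀
  have hMc := card_planes n hV
  have hnum := numeric hn _ _ _ hD hM hs hMc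
  refine ⟨arith_main hp.out hn hnum, ?_, ?_, ?_⟩
  · intro h2 h3
    have hAeq : Nat.card (hatHom A).range = Nat.card A :=
      congrArg (fun H : Subgroup (V ≃ₗ[ZMod p] V) => Nat.card H) (hat_eq_of_two h2 A)
    subst h2 h3
    rw [hAeq] at hD hM
    norm_num at hMc hD
    have hM7 : Nat.card (Planes 2 V) = 7 := by omega
    rw [hM7] at hM
    obtain ⟨k, hk⟩ : 7 ∣ Nat.card A := ⟨_, hM.symm⟩
    rw [hk] at hD ⊢
    have hk3 : k ∣ 3 := Nat.dvd_of_mul_dvd_mul_left (by norm_num : 0 < 7) (by simpa using hD)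
    have hk' := (Nat.dvd_prime Nat.prime_three).mp hk3
    rcases hk' with rfl | rfl
    · left; rfl
    · right; rfl
  · intro h2 h3 h7 g hg
    have hAeq : Nat.card (hatHom A).range = Nat.card A :=
      congrArg (fun H : Subgroup (V ≃ₗ[ZMod p] V) => Nat.card H) (hat_eq_of_two h2 A)
    have hgh : g ∈ (hatHom A).range := le_hat A hg
    set Φ := sigHom (hatHom A).range hS with hΦ
    have h1 : orderOf (Φ ⟨g, hgh⟩) ∣ 7 := by
      have := (orderOf_map_dvd Φ (⟨g, hgh⟩ : (hatHom A).range)).trans (orderOf_dvd_natCard _)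
      rwa [hAeq, h7] at this
    have h2' : orderOf (Φ ⟨g, hgh⟩) ∣ 3 := by
      have := orderOf_dvd_natCard (Φ ⟨g, hgh⟩)
      rwa [hAut, h3] at this
    have h3' : orderOf (Φ ⟨g, hgh⟩) = 1 := by
      have := Nat.dvd_gcd h1 h2'
      simpa using this
    rw [orderOf_eq_one_iff] at h3'
    have h4 := sigHom_spec (hatHom A).range hS ⟨g, hgh⟩
    rw [← hΦ, h3'] at h4
    exact ⟨_, h4⟩
  · intro h2 h5
    have hAeq : Nat.card (hatHom A).range = Nat.card A :=
      congrArg (fun H : Subgroup (V ≃ₗ[ZMod p] V) => Nat.card H) (hat_eq_of_two h2 A)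
    subst h2 h5
    rw [hAeq] at hD hM
    norm_num at hMc hD
    have hM7 : Nat.card (Planes 2 V) = 155 := by omega
    rw [hM7] at hM
    exact Nat.dvd_antisymm hD ⟨_, hM.symm⟩


theorem exc_arith {n : ℕ} (hn : 3 ≤ n)
    (h : p ^ n ∈ ({9, 25, 49, 121, 529, 81} : Set ℕ)) : p = 3 ∧ n = 4 := by
  have key : ∀ q m : ℕ, q.Prime → p ^ n = q ^ m → p = q ∧ n = m := by
    intro q m hq h
    have h1 : p ∣ q ^ m := by rw [← h]; exact dvd_pow_self p (by omega)
    have h2 : p = q := (Nat.prime_dvd_prime_iff_eq hp.out hq).mp (hp.out.dvd_of_dvd_pow h1)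
    subst h2
    exact ⟨rfl, Nat.pow_right_injective hp.out.two_le h⟩
  simp only [Set.mem_insert_iff, Set.mem_singleton_iff] at h
  rcases h with h | h | h | h | h | h
  · have := key 3 2 Nat.prime_three (by rw [h]; norm_num); omega
  · have := key 5 2 Nat.prime_five (by rw [h]; norm_num); omega
  · have := key 7 2 (by norm_num) (by rw [h]; norm_num); omega
  · have := key 11 2 (by norm_num) (by rw [h]; norm_num); omega
  · have := key 23 2 (by norm_num) (by rw [h]; norm_num); omega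
  · exact key 3 4 Nat.prime_three (by rw [h]; norm_num)

theorem IsSemi.transport {F K : Type*} [Field F] [Field K] {e : V ≃+ F} (ι : F ≃+* K)
    {g : V ≃ₗ[ZMod p] V} {a : F} {σ : F ≃+* F} (h : IsSemi e g a σ) :
    IsSemi (e.trans ι.toAddEquiv) g (ι a) ((ι.symm.trans σ).trans ι) := by
  intro v
  change ι (e (g v)) = ι a * ι (σ (ι.symm (ι (e v))))
  rw [h v, map_mul, RingEquiv.symm_apply_apply]

theorem linear_main [Finite V] (n : ℕ) (hn : 3 ≤ n) (hV : Nat.card V = p ^ n)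
    (A : Subgroup (V ≃ₗ[ZMod p] V)) (hsol : Group.IsSolvable A) (hcop : (Nat.card A).Coprime p)
    (htr1 : ∀ v w : V, v ≠ 0 → w ≠ 0 → ∃ g ∈ A, g v ∈ AddSubgroup.zmultiples w)
    (htr2 : ∀ W₁ W₂ : AddSubgroup V, Nat.card W₁ = p ^ 2 → Nat.card W₂ = p ^ 2 →
      ∃ g ∈ A, ∀ v ∈ W₁, g v ∈ W₂) :
    (n = 3 ∨ (n = 5 ∧ p = 2)) ∧
    ∃ e : V ≃+ GaloisField p n,
      (∀ g ∈ A, ∃ (a : GaloisField p n) (σ : GaloisField p n ≃+* GaloisField p n), IsSemi e g a σ) ∧
      (p = 2 → n = 3 → Nat.card A = 7 ∨ Nat.card A = 21) ∧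
      (p = 2 → n = 3 → Nat.card A = 7 → ∀ g ∈ A, ∃ a : GaloisField p n, IsSemi e g a 1) ∧
      (p = 2 → n = 5 → Nat.card A = 155) := by
  classical
  haveI := nontrivial_of_card n (by omega) hV
  haveI := hsol
  have h3360 := Cfsg.Agent.S3360.result p (V := V) (G := (hatHom A).range) inferInstance
    (hatHom A).range.subtype (by
      intro x y h; exact Subtype.ext h)
    (by
      intro v w hv hw
      obtain ⟨g, hg, h⟩ := hat_trans A htr1 v w hv hw
      exact ⟨⟨g, hg⟩, h⟩)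
  rcases h3360 with ⟨F, hF1, hF2, e, hS⟩ | hexc
  · -- the semilinear case
    have hS' : ∀ g ∈ (hatHom A).range, ∃ (a : F) (σ : F ≃+* F), IsSemi e g a σ := by
      intro g hg
      obtain ⟨a, σ, h⟩ := hS ⟨g, hg⟩
      exact ⟨a, σ, h⟩
    obtain ⟨h1, h2, h3, h4⟩ := main_case n hn hV A htr2 e hS'
    refine ⟨h1, ?_⟩
    have hFc : Nat.card F = p ^ n := by rw [← hV]; exact (Nat.card_congr e.toEquiv).symm
    have hn0 : n ≠ 0 := by omega
    haveI : Fintype (GaloisField p n) := Fintype.ofFinite _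
    have hcard : Fintype.card F = Fintype.card (GaloisField p n) := by
      rw [← Nat.card_eq_fintype_card, ← Nat.card_eq_fintype_card, hFc, GaloisField.card p n hn0]
    let ι : F ≃+* GaloisField p n := FiniteField.ringEquivOfCardEq hcard
    refine ⟨e.trans ι.toAddEquiv, ?_, h2, ?_, h4⟩
    · intro g hg
      obtain ⟨a, σ, h⟩ := hS' g (le_hat A hg)
      exact ⟨_, _, h.transport ι⟩
    · intro hp2 hn3 h7 g hg
      obtain ⟨a, h⟩ := h3 hp2 hn3 h7 g hg
      refine ⟨ι a, ?_⟩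
      have := h.transport ι
      have h5 : ((ι.symm.trans (1 : F ≃+* F)).trans ι) = 1 := by
        ext x
        change ι (ι.symm x) = x
        rw [RingEquiv.apply_symm_apply]
      rwa [h5] at this
  · -- the exceptional case
    exfalso
    rw [hV] at hexc
    obtain ⟨rfl, rfl⟩ := exc_arith hn hexc
    obtain ⟨W₀, hW₀⟩ := exists_plane 4 (by omega) hV
    have htr : ∀ W : AddSubgroup V, Nat.card W = 3 ^ 2 → ∃ g ∈ A, ∀ v ∈ W₀, g v ∈ W :=
      fun W hW => htr2 W₀ W hW₀ hW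
    have hM := card_planes_mul_card_stabilizer A W₀ hW₀ htr
    have hMc := card_planes 4 hV
    norm_num at hMc
    have hM130 : Nat.card (Planes 3 V) = 130 := by omega
    rw [hM130] at hM
    exact no_exceptional hV A hsol hcop ⟨_, hM.symm⟩

end main


end Cfsg.Agent.Lib.Helper7.EqOrd
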