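import Mathlib
import Cfsg.Agent.Lib.Helper7.EqOrd4
import Cfsg.Agent.Lib.Helper6.PPrimeCore

/-!
# S4025: the group theory of `X = N_G(P)`

`Q` is a normal elementary abelian Sylow `p`-subgroup of the finite group `X`, identified with a
`ZMod p`-module `V` through `φ : Multiplicative V ≃* Q`.
* `rho` : the conjugation action `X →* GL(V)`;
* `PsiV` : the affine action of `X` on `V` (action on the cosets of a complement), with kernel
  `O_{p'}(X)` (`ker_PsiV`) and the formula `PsiV_mul`;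
* `index_pPrimeCore` : `|X : O_{p'}(X)| = |Q| * |rho X|`.
-/

set_option autoImplicit false
set_option linter.style.haveILetI false
set_option linter.unusedSectionVars false

namespace Cfsg.Agent.Lib.Helper7.EqOrd


open Module

section grp

variable {X : Type*} [Group X] {p : ℕ} [hp : Fact p.Prime] (Q : Subgroup X) [hQn : Q.Normal]
variable {V : Type*} [AddCommGroup V] [Module (ZMod p) V] (φ : Multiplicative V ≃* Q)

/-- the embedding `V → X` with image `Q` -/
def emb (v : V) : X := (φ (Multiplicative.ofAdd v) : X)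

theorem emb_mem (v : V) : emb Q φ v ∈ Q := (φ (Multiplicative.ofAdd v)).2

theorem emb_add (v w : V) : emb Q φ (v + w) = emb Q φ v * emb Q φ w := by
  unfold emb
  rw [ofAdd_add, map_mul]; rfl

theorem emb_zero : emb Q φ (0 : V) = 1 := by
  unfold emb
  rw [ofAdd_zero, map_one]; rfl

theorem emb_injective : Function.Injective (emb Q φ) := by
  intro v w h
  have h1 : φ (Multiplicative.ofAdd v) = φ (Multiplicative.ofAdd w) := Subtype.ext h
  exact Multiplicative.ofAdd.injective (φ.injective h1)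

theorem exists_emb {q : X} (hq : q ∈ Q) : ∃ v : V, emb Q φ v = q := by
  refine ⟨Multiplicative.toAdd (φ.symm ⟨q, hq⟩), ?_⟩
  unfold emb
  rw [ofAdd_toAdd, MulEquiv.apply_symm_apply]

theorem emb_comm (v w : V) : emb Q φ v * emb Q φ w = emb Q φ w * emb Q φ v := by
  rw [← emb_add, ← emb_add, add_comm]

/-- conjugation by `x`, in the coordinates `V` -/
noncomputable def conjV (x : X) (v : V) : V :=
  (exists_emb Q φ (hQn.conj_mem _ (emb_mem Q φ v) x)).choose

theorem emb_conjV (x : X) (v : V) : emb Q φ (conjV Q φ x v) = x * emb Q φ v * x⁻¹ :=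
  (exists_emb Q φ (hQn.conj_mem _ (emb_mem Q φ v) x)).choose_spec

theorem conjV_add (x : X) (v w : V) : conjV Q φ x (v + w) = conjV Q φ x v + conjV Q φ x w := by
  apply emb_injective Q φ
  rw [emb_conjV, emb_add, emb_add, emb_conjV, emb_conjV]
  group

theorem conjV_one (v : V) : conjV Q φ 1 v = v := by
  apply emb_injective Q φ
  rw [emb_conjV]; group

theorem conjV_mul (x y : X) (v : V) : conjV Q φ (x * y) v = conjV Q φ x (conjV Q φ y v) := by
  apply emb_injective Q φ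
  rw [emb_conjV, emb_conjV, emb_conjV]; group

/-- the conjugation action as a linear representation -/
noncomputable def rho : X →* (V ≃ₗ[ZMod p] V) :=
  MonoidHom.mk' (fun x =>
    { toFun := conjV Q φ x
      map_add' := conjV_add Q φ x
      map_smul' := fun c v => by
        have := ZMod.map_smul (AddMonoidHom.mk' (conjV Q φ x) (conjV_add Q φ x)) c v
        exact this
      invFun := conjV Q φ x⁻¹
      left_inv := fun v => by rw [← conjV_mul, inv_mul_cancel, conjV_one]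
      right_inv := fun v => by rw [← conjV_mul, mul_inv_cancel, conjV_one] })
    (by
      intro x y
      ext v
      exact conjV_mul Q φ x y v)

theorem rho_apply (x : X) (v : V) : rho (p := p) Q φ x v = conjV Q φ x v := rfl

theorem emb_rho (x : X) (v : V) : emb Q φ (rho (p := p) Q φ x v) = x * emb Q φ v * x⁻¹ :=
  emb_conjV Q φ x v

theorem rho_eq_one_iff (x : X) : rho (p := p) Q φ x = 1 ↔ ∀ q ∈ Q, x * q = q * x := by
  constructor
  · intro h q hq
    obtain ⟨v, rfl⟩ := exists_emb Q φ hq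
    have h1 := emb_rho (p := p) Q φ x v
    rw [h] at h1
    change emb Q φ v = _ at h1
    have h2 : x * emb Q φ v = (x * emb Q φ v * x⁻¹) * x := by group
    rw [h2, ← h1]
  · intro h
    ext v
    apply emb_injective Q φ
    rw [emb_rho]
    change _ = emb Q φ v
    rw [h _ (emb_mem Q φ v)]; group

theorem rho_of_mem {x : X} (hx : x ∈ Q) : rho (p := p) Q φ x = 1 := by
  rw [rho_eq_one_iff]
  intro q hq
  obtain ⟨v, rfl⟩ := exists_emb Q φ hq
  obtain ⟨w, rfl⟩ := exists_emb Q φ hx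
  exact emb_comm Q φ w v


theorem emb_neg (v : V) : emb Q φ (-v) = (emb Q φ v)⁻¹ := by
  apply eq_inv_of_mul_eq_one_left
  rw [← emb_add, neg_add_cancel, emb_zero]

/-- the subgroup of `X` corresponding to an additive subgroup of `V` -/
def subOf (W : AddSubgroup V) : Subgroup X where
  carrier := emb Q φ '' (W : Set V)
  one_mem' := ⟨0, W.zero_mem, emb_zero Q φ⟩
  mul_mem' := by
    rintro _ _ ⟨v, hv, rfl⟩ ⟨w, hw, rfl⟩
    exact ⟨v + w, W.add_mem hv hw, emb_add Q φ v w⟩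
  inv_mem' := by
    rintro _ ⟨v, hv, rfl⟩
    exact ⟨-v, W.neg_mem hv, emb_neg Q φ v⟩

theorem mem_subOf {W : AddSubgroup V} {x : X} : x ∈ subOf Q φ W ↔ ∃ v ∈ W, emb Q φ v = x := Iff.rfl

theorem subOf_le (W : AddSubgroup V) : subOf Q φ W ≤ Q := by
  rintro _ ⟨v, _, rfl⟩
  exact emb_mem Q φ v

theorem card_subOf (W : AddSubgroup V) : Nat.card (subOf Q φ W) = Nat.card W := by
  have : Nat.card (subOf Q φ W) = Nat.card (emb Q φ '' (W : Set V)) := rfl
  rw [this, Nat.card_image_of_injective (emb_injective Q φ)]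
  rfl

theorem exists_rho_maps
    (hconj : ∀ W₁ W₂ : Subgroup X, W₁ ≤ Q → W₂ ≤ Q → Nat.card W₁ = Nat.card W₂ →
      ∃ x : X, ∀ w ∈ W₁, x * w * x⁻¹ ∈ W₂)
    (W₁ W₂ : AddSubgroup V) (hc : Nat.card W₁ = Nat.card W₂) :
    ∃ g ∈ (rho (p := p) Q φ).range, ∀ v ∈ W₁, g v ∈ W₂ := by
  obtain ⟨x, hx⟩ := hconj (subOf Q φ W₁) (subOf Q φ W₂) (subOf_le Q φ W₁) (subOf_le Q φ W₂)
    (by rw [card_subOf, card_subOf, hc])
  refine ⟨rho Q φ x, ⟨x, rfl⟩, ?_⟩
  intro v hv
  obtain ⟨w, hw, hwe⟩ := hx (emb Q φ v) ⟨v, hv, rfl⟩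
  rw [← emb_rho (p := p)] at hwe
  rw [← emb_injective Q φ hwe]
  exact hw

theorem pPrimeCore_le_ker [Finite X] (hQ : IsPGroup p Q) :
    Cfsg.pPrimeCore p X ≤ (rho (p := p) Q φ).ker := by
  intro k hk
  rw [MonoidHom.mem_ker, rho_eq_one_iff]
  intro q hq
  have hK : (Cfsg.pPrimeCore p X).Normal := inferInstance
  have h1 : k * q * k⁻¹ * q⁻¹ ∈ Cfsg.pPrimeCore p X ⊓ Q := by
    refine Subgroup.mem_inf.mpr ⟨?_, ?_⟩
    · have : k * q * k⁻¹ * q⁻¹ = k * (q * k⁻¹ * q⁻¹) := by group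
      rw [this]
      exact mul_mem hk (hK.conj_mem _ (inv_mem hk) q)
    · exact mul_mem (hQn.conj_mem _ hq k) (inv_mem hq)
  have h2 : Cfsg.pPrimeCore p X ⊓ Q = ⊥ := by
    apply (Subgroup.disjoint_of_coprime_natCard _).eq_bot
    obtain ⟨m, hm⟩ := (IsPGroup.iff_card.mp hQ)
    rw [hm]
    exact Nat.Coprime.pow_right m (Cfsg.Agent.Lib.Helper6.pPrimeCore_coprime p)
  rw [h2, Subgroup.mem_bot] at h1
  have h3 : k * q = (k * q * k⁻¹ * q⁻¹) * (q * k) := by group
  rw [h3, h1, one_mul]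


section complement

variable [Finite X] {H₀ : Subgroup X} (hc : Subgroup.IsComplement' Q H₀)
include hc

theorem exists_mul_of_compl (x : X) : ∃ u ∈ Q, ∃ h ∈ H₀, x = u * h := by
  obtain ⟨⟨⟨u, hu⟩, ⟨h, hh⟩⟩, hx, -⟩ := (Subgroup.isComplement_iff_existsUnique.mp hc) x
  exact ⟨u, hu, h, hh, hx.symm⟩

theorem card_compl : Nat.card H₀ = Q.index :=
  hc.symm.index_eq_card.symm

theorem pPrimeCore_le_compl (hQ : IsPGroup p Q) (hidx : Q.index.Coprime p) :
    Cfsg.pPrimeCore p X ≤ H₀ := by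
  have hH : (Nat.card H₀).Coprime p := by rw [card_compl Q hc]; exact hidx
  have hsup : (Nat.card (H₀ ⊔ Cfsg.pPrimeCore p X : Subgroup X)).Coprime p :=
    Cfsg.Agent.Lib.Helper6.coprime_card_sup_of_normal hH (Cfsg.Agent.Lib.Helper6.pPrimeCore_coprime p)
  have h1 : Nat.card Q * Nat.card H₀ = Nat.card X := hc.card_mul_card
  obtain ⟨m, hm⟩ := IsPGroup.iff_card.mp hQ
  have h2 : Nat.card (H₀ ⊔ Cfsg.pPrimeCore p X : Subgroup X) ∣ p ^ m * Nat.card H₀ := by
    rw [← hm, h1]; exact Subgroup.card_subgroup_dvd_card _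
  have h3 : Nat.card (H₀ ⊔ Cfsg.pPrimeCore p X : Subgroup X) ∣ Nat.card H₀ :=
    (Nat.Coprime.pow_right m hsup).dvd_of_dvd_mul_left h2
  have h4 : H₀ = H₀ ⊔ Cfsg.pPrimeCore p X :=
    Subgroup.eq_of_le_of_card_ge le_sup_left (Nat.le_of_dvd Nat.card_pos h3)
  rw [h4]
  exact le_sup_right


theorem gam_bijective :
    Function.Bijective (fun v : V => (QuotientGroup.mk (emb Q φ v) : X ⧸ H₀)) := by
  constructor
  · intro v w h
    have h1 : (emb Q φ v)⁻¹ * emb Q φ w ∈ H₀ := QuotientGroup.eq.mp h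
    have h2 : (emb Q φ v)⁻¹ * emb Q φ w ∈ Q := mul_mem (inv_mem (emb_mem Q φ v)) (emb_mem Q φ w)
    have h3 : (emb Q φ v)⁻¹ * emb Q φ w ∈ Q ⊓ H₀ := Subgroup.mem_inf.mpr ⟨h2, h1⟩
    rw [hc.disjoint.eq_bot, Subgroup.mem_bot] at h3
    apply emb_injective Q φ
    exact inv_mul_eq_one.mp h3
  · intro y
    obtain ⟨x, rfl⟩ := QuotientGroup.mk_surjective y
    obtain ⟨u, hu, h, hh, rfl⟩ := exists_mul_of_compl Q hc x
    obtain ⟨a, rfl⟩ := exists_emb Q φ hu
    refine ⟨a, ?_⟩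
    apply QuotientGroup.eq.mpr
    have : (emb Q φ a)⁻¹ * (emb Q φ a * h) = h := by group
    rw [this]; exact hh

/-- the bijection `V ≃ X ⧸ H₀` -/
noncomputable def gam : V ≃ X ⧸ H₀ := Equiv.ofBijective _ (gam_bijective Q φ hc)

theorem gam_apply (v : V) : gam Q φ hc v = (QuotientGroup.mk (emb Q φ v) : X ⧸ H₀) := rfl

/-- the affine action of `X` on `V` -/
noncomputable def PsiV : X →* Equiv.Perm V :=
  ((gam Q φ hc).symm.permCongrHom).toMonoidHom.comp (MulAction.toPermHom X (X ⧸ H₀))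

theorem gam_PsiV (x : X) (v : V) : gam Q φ hc (PsiV Q φ hc x v) = x • gam Q φ hc v := by
  change gam Q φ hc ((gam Q φ hc).symm.permCongrHom (MulAction.toPermHom X (X ⧸ H₀) x) v) = _
  rw [Equiv.permCongrHom_coe, Equiv.permCongr_apply, Equiv.symm_symm, Equiv.apply_symm_apply]
  rfl

theorem PsiV_mul (a : V) {h : X} (hh : h ∈ H₀) (v : V) :
    PsiV Q φ hc (emb Q φ a * h) v = a + rho (p := p) Q φ h v := by
  apply (gam Q φ hc).injective
  rw [gam_PsiV, gam_apply, gam_apply, emb_add, emb_rho]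
  change (QuotientGroup.mk (emb Q φ a * h * emb Q φ v) : X ⧸ H₀) = _
  apply QuotientGroup.eq.mpr
  have : (emb Q φ a * h * emb Q φ v)⁻¹ * (emb Q φ a * (h * emb Q φ v * h⁻¹)) = h⁻¹ := by group
  rw [this]; exact inv_mem hh

theorem normalCore_compl (hQ : IsPGroup p Q) (hidx : Q.index.Coprime p) :
    H₀.normalCore = Cfsg.pPrimeCore p X := by
  apply le_antisymm
  · apply Cfsg.Agent.Lib.Helper6.le_pPrimeCore inferInstance
    have h1 : Nat.card H₀.normalCore ∣ Nat.card H₀ := Subgroup.card_dvd_of_le H₀.normalCore_le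
    rw [card_compl Q hc] at h1
    exact Nat.Coprime.coprime_dvd_left h1 hidx
  · exact Subgroup.normal_le_normalCore.mpr (pPrimeCore_le_compl Q hc hQ hidx)

theorem ker_PsiV (hQ : IsPGroup p Q) (hidx : Q.index.Coprime p) :
    (PsiV Q φ hc).ker = Cfsg.pPrimeCore p X := by
  rw [← normalCore_compl Q hc hQ hidx, Subgroup.normalCore_eq_ker]
  ext x
  rw [MonoidHom.mem_ker, MonoidHom.mem_ker]
  change (gam Q φ hc).symm.permCongrHom (MulAction.toPermHom X (X ⧸ H₀) x) = 1 ↔ _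
  rw [MulEquiv.map_eq_one_iff]


theorem ker_rho_inf_compl_le (hidx : Q.index.Coprime p) :
    (rho (p := p) Q φ).ker ⊓ H₀ ≤ Cfsg.pPrimeCore p X := by
  have hnorm : ((rho (p := p) Q φ).ker ⊓ H₀).Normal := by
    refine ⟨fun l hl x => ?_⟩
    obtain ⟨hl1, hl2⟩ := Subgroup.mem_inf.mp hl
    have hker : (rho (p := p) Q φ).ker.Normal := inferInstance
    refine Subgroup.mem_inf.mpr ⟨hker.conj_mem l hl1 x, ?_⟩
    obtain ⟨u, hu, h, hh, rfl⟩ := exists_mul_of_compl Q hc x
    have h1 : h * l * h⁻¹ ∈ (rho (p := p) Q φ).ker := hker.conj_mem l hl1 h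
    rw [MonoidHom.mem_ker, rho_eq_one_iff] at h1
    have h2 := h1 u hu
    have h3 : u * h * l * (u * h)⁻¹ = u * (h * l * h⁻¹) * u⁻¹ := by group
    rw [h3, ← h2, mul_assoc, mul_inv_cancel, mul_one]
    exact mul_mem (mul_mem hh hl2) (inv_mem hh)
  apply Cfsg.Agent.Lib.Helper6.le_pPrimeCore hnorm
  have h1 : Nat.card ((rho (p := p) Q φ).ker ⊓ H₀ : Subgroup X) ∣ Nat.card H₀ :=
    Subgroup.card_dvd_of_le inf_le_right
  rw [card_compl Q hc] at h1
  exact Nat.Coprime.coprime_dvd_left h1 hidx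

theorem ker_rho_eq (hQ : IsPGroup p Q) (hidx : Q.index.Coprime p) :
    (rho (p := p) Q φ).ker = Q ⊔ Cfsg.pPrimeCore p X := by
  apply le_antisymm
  · intro x hx
    obtain ⟨u, hu, h, hh, rfl⟩ := exists_mul_of_compl Q hc x
    have hu' : u ∈ (rho (p := p) Q φ).ker := by
      rw [MonoidHom.mem_ker]; exact rho_of_mem Q φ hu
    have hh' : h ∈ (rho (p := p) Q φ).ker := by
      have : h = u⁻¹ * (u * h) := by group
      rw [this]; exact mul_mem (inv_mem hu') hx
    exact Subgroup.mul_mem_sup hu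
      (ker_rho_inf_compl_le Q φ hc hidx (Subgroup.mem_inf.mpr ⟨hh', hh⟩))
  · apply sup_le
    · intro u hu
      rw [MonoidHom.mem_ker]; exact rho_of_mem Q φ hu
    · exact pPrimeCore_le_ker Q φ hQ

theorem index_pPrimeCore (hQ : IsPGroup p Q) (hidx : Q.index.Coprime p) :
    (Cfsg.pPrimeCore p X).index = Nat.card Q * Nat.card (rho (p := p) Q φ).range := by
  have hle : Cfsg.pPrimeCore p X ≤ (rho (p := p) Q φ).ker := pPrimeCore_le_ker Q φ hQ
  rw [← Subgroup.relIndex_mul_index hle, Subgroup.index_ker]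
  congr 1
  rw [ker_rho_eq Q φ hc hQ hidx, Subgroup.relIndex_sup_right]
  have h2 : Cfsg.pPrimeCore p X ⊓ Q = ⊥ := by
    apply (Subgroup.disjoint_of_coprime_natCard _).eq_bot
    obtain ⟨m, hm⟩ := (IsPGroup.iff_card.mp hQ)
    rw [hm]
    exact Nat.Coprime.pow_right m (Cfsg.Agent.Lib.Helper6.pPrimeCore_coprime p)
  rw [← Subgroup.inf_relIndex_right, h2, Subgroup.relIndex_bot_left]

end complement

end grp


end Cfsg.Agent.Lib.Helper7.EqOrd
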