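import Mathlib
import Cfsg.Prelude.Def_Perm
import Cfsg.Agent.Lib.Helper7.EqOrd5

/-!
# S4025: assembly for an abstract group `X` with a normal elementary abelian Sylow subgroup

`coreB` : the conclusion of S4025 for `X ⧸ O_{p'}(X)`, where `Q` is identified with a
`ZMod p`-module through `φ : Multiplicative V ≃* Q`.
-/

set_option autoImplicit false
set_option linter.style.haveILetI false
set_option linter.unusedSectionVars false

namespace Cfsg.Agent.Lib.Helper7.EqOrd


open Module

section cards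

variable (F : Type*) [Field F] [Finite F]

theorem card_semiaffine_le :
    Nat.card (Cfsg.semiaffineGroup F) ≤ (Nat.card F - 1) * Nat.card F * Nat.card (F ≃+* F) := by
  classical
  haveI : Finite (F ≃+* F) := Finite.of_injective (fun σ => (σ : F → F)) DFunLike.coe_injective
  have key : ∀ σ : Cfsg.semiaffineGroup F, ∃ t : Fˣ × F × (F ≃+* F),
      ∀ x, σ.1 x = (t.1 : F) * t.2.2 x + t.2.1 := by
    rintro ⟨σ, a, b, φ, h⟩
    exact ⟨(a, b, φ), h⟩
  choose T hT using key
  have hinj : Function.Injective T := by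
    intro σ τ h
    apply Subtype.ext
    ext x
    rw [hT σ x, hT τ x, h]
  have := Nat.card_le_card_of_injective T hinj
  rwa [Nat.card_prod, Nat.card_prod, Nat.card_units, ← mul_assoc] at this

theorem card_affine_le :
    Nat.card (Cfsg.affineGroup F) ≤ (Nat.card F - 1) * Nat.card F := by
  classical
  have key : ∀ σ : Cfsg.affineGroup F, ∃ t : Fˣ × F, ∀ x, σ.1 x = (t.1 : F) * x + t.2 := by
    rintro ⟨σ, a, b, h⟩
    exact ⟨(a, b), h⟩
  choose T hT using key
  have hinj : Function.Injective T := by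
    intro σ τ h
    apply Subtype.ext
    ext x
    rw [hT σ x, hT τ x, h]
  have := Nat.card_le_card_of_injective T hinj
  rwa [Nat.card_prod, Nat.card_units] at this

end cards


section core

variable {X : Type*} [Group X] [Finite X] {p : ℕ} [hp : Fact p.Prime] (Q : Subgroup X) [hQn : Q.Normal]
variable {V : Type*} [AddCommGroup V] [Module (ZMod p) V] (φ : Multiplicative V ≃* Q)

include φ in
theorem card_V_eq : Nat.card V = Nat.card Q :=
  Nat.card_congr (Multiplicative.ofAdd.trans φ.toEquiv)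

include φ in
theorem finite_V : Finite V :=
  Finite.of_equiv Q (Multiplicative.ofAdd.trans φ.toEquiv).symm

/-- the affine action in field coordinates -/
noncomputable def PsiF {H₀ : Subgroup X} (hc : Subgroup.IsComplement' Q H₀) {K : Type*} [Field K]
    (e : V ≃+ K) : X →* Equiv.Perm K :=
  (e.toEquiv.permCongrHom).toMonoidHom.comp (PsiV Q φ hc)

theorem PsiF_apply {H₀ : Subgroup X} (hc : Subgroup.IsComplement' Q H₀) {K : Type*} [Field K]
    (e : V ≃+ K) (x : X) (y : K) : PsiF Q φ hc e x y = e (PsiV Q φ hc x (e.symm y)) := by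
  change e.toEquiv.permCongrHom (PsiV Q φ hc x) y = _
  rw [Equiv.permCongrHom_coe, Equiv.permCongr_apply]
  rfl

theorem ker_PsiF {H₀ : Subgroup X} (hc : Subgroup.IsComplement' Q H₀) {K : Type*} [Field K]
    (e : V ≃+ K) (hQ : IsPGroup p Q) (hidx : Q.index.Coprime p) :
    (PsiF Q φ hc e).ker = Cfsg.pPrimeCore p X := by
  rw [← ker_PsiV Q φ hc hQ hidx]
  ext x
  rw [MonoidHom.mem_ker, MonoidHom.mem_ker]
  change e.toEquiv.permCongrHom (PsiV Q φ hc x) = 1 ↔ _
  rw [MulEquiv.map_eq_one_iff]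

theorem PsiF_semi {H₀ : Subgroup X} (hc : Subgroup.IsComplement' Q H₀) {K : Type*} [Field K]
    (e : V ≃+ K)
    (hsemi : ∀ g ∈ (rho (p := p) Q φ).range, ∃ (a : K) (σ : K ≃+* K), IsSemi e g a σ) (x : X) :
    ∃ (a : Kˣ) (b : K) (σ : K ≃+* K), ∀ y, PsiF Q φ hc e x y = (a : K) * σ y + b := by
  obtain ⟨u, hu, h, hh, rfl⟩ := exists_mul_of_compl Q hc x
  obtain ⟨w, rfl⟩ := exists_emb Q φ hu
  obtain ⟨a, σ, hs⟩ := hsemi (rho (p := p) Q φ h) ⟨h, rfl⟩
  refine ⟨Units.mk0 a hs.coef_ne_zero, e w, σ, fun y => ?_⟩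
  rw [PsiF_apply, PsiV_mul (p := p) Q φ hc w hh, map_add, hs (e.symm y), AddEquiv.apply_symm_apply,
    Units.val_mk0, add_comm]

theorem PsiF_aff {H₀ : Subgroup X} (hc : Subgroup.IsComplement' Q H₀) {K : Type*} [Field K]
    (e : V ≃+ K)
    (hsemi : ∀ g ∈ (rho (p := p) Q φ).range, ∃ (a : K), IsSemi e g a 1) (x : X) :
    ∃ (a : Kˣ) (b : K), ∀ y, PsiF Q φ hc e x y = (a : K) * y + b := by
  obtain ⟨u, hu, h, hh, rfl⟩ := exists_mul_of_compl Q hc x
  obtain ⟨w, rfl⟩ := exists_emb Q φ hu
  obtain ⟨a, hs⟩ := hsemi (rho (p := p) Q φ h) ⟨h, rfl⟩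
  refine ⟨Units.mk0 a hs.coef_ne_zero, e w, fun y => ?_⟩
  rw [PsiF_apply, PsiV_mul (p := p) Q φ hc w hh, map_add, hs (e.symm y), AddEquiv.apply_symm_apply,
    Units.val_mk0, add_comm]
  rfl


include φ in
theorem coreB (n : ℕ) (hn : 3 ≤ n) (hQcard : Nat.card Q = p ^ n) (hidx : Q.index.Coprime p)
    (hconj : ∀ W₁ W₂ : Subgroup X, W₁ ≤ Q → W₂ ≤ Q → Nat.card W₁ = Nat.card W₂ →
      ∃ x : X, ∀ w ∈ W₁, x * w * x⁻¹ ∈ W₂)
    (hsolv : Group.IsSolvable (X ⧸ Cfsg.pPrimeCore p X)) :
    (n = 3 ∧ (∃ f : X ⧸ Cfsg.pPrimeCore p X →* ↥(Cfsg.semiaffineGroup (GaloisField p 3)),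
        Function.Injective f) ∧
      (p = 2 → Nonempty (X ⧸ Cfsg.pPrimeCore p X ≃* Cfsg.semiaffineGroup (GaloisField 2 3)) ∨
               Nonempty (X ⧸ Cfsg.pPrimeCore p X ≃* Cfsg.affineGroup (GaloisField 2 3)))) ∨
    (n = 5 ∧ p = 2 ∧
      Nonempty (X ⧸ Cfsg.pPrimeCore p X ≃* Cfsg.semiaffineGroup (GaloisField 2 5))) := by
  classical
  haveI : Finite V := finite_V Q φ
  have hV : Nat.card V = p ^ n := (card_V_eq Q φ).trans hQcard
  have hQ : IsPGroup p Q := IsPGroup.of_card hQcard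
  set A := (rho (p := p) Q φ).range with hA
  -- solvability and coprimality of A
  have hle : Cfsg.pPrimeCore p X ≤ ((rho (p := p) Q φ).rangeRestrict).ker := by
    rw [MonoidHom.ker_rangeRestrict]; exact pPrimeCore_le_ker Q φ hQ
  have hsolA : Group.IsSolvable A := by
    haveI := hsolv
    apply Group.isSolvable_of_surjective
      (f := QuotientGroup.lift (Cfsg.pPrimeCore p X) ((rho (p := p) Q φ).rangeRestrict) hle)
    intro y
    obtain ⟨x, rfl⟩ := (rho (p := p) Q φ).rangeRestrict_surjective y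
    exact ⟨QuotientGroup.mk x, rfl⟩
  have hcopA : (Nat.card A).Coprime p := by
    have hleQ : Q ≤ ((rho (p := p) Q φ).rangeRestrict).ker := by
      rw [MonoidHom.ker_rangeRestrict]
      intro u hu
      rw [MonoidHom.mem_ker]; exact rho_of_mem Q φ hu
    have hsurj : Function.Surjective
        (QuotientGroup.lift Q ((rho (p := p) Q φ).rangeRestrict) hleQ) := by
      intro y
      obtain ⟨x, rfl⟩ := (rho (p := p) Q φ).rangeRestrict_surjective y
      exact ⟨QuotientGroup.mk x, rfl⟩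
    have h1 := Subgroup.card_dvd_of_surjective _ hsurj
    rw [← Subgroup.index_eq_card] at h1
    exact Nat.Coprime.coprime_dvd_left h1 hidx
  -- transitivity
  have htr2 : ∀ W₁ W₂ : AddSubgroup V, Nat.card W₁ = p ^ 2 → Nat.card W₂ = p ^ 2 →
      ∃ g ∈ A, ∀ v ∈ W₁, g v ∈ W₂ := fun W₁ W₂ h1 h2 =>
    exists_rho_maps Q φ hconj W₁ W₂ (h1.trans h2.symm)
  have htr1 : ∀ v w : V, v ≠ 0 → w ≠ 0 → ∃ g ∈ A, g v ∈ AddSubgroup.zmultiples w := by
    intro v w hv hw
    obtain ⟨g, hg, h⟩ := exists_rho_maps (p := p) Q φ hconj (AddSubgroup.zmultiples v)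
      (AddSubgroup.zmultiples w) (by rw [card_zmultiples_eq (p := p) hv, card_zmultiples_eq (p := p) hw])
    exact ⟨g, hg, h v (AddSubgroup.mem_zmultiples v)⟩
  obtain ⟨hcases, e, hsemi, h721, haff, h155⟩ := linear_main n hn hV A hsolA hcopA htr1 htr2
  -- the complement and the affine action
  have hcopQ : (Nat.card Q).Coprime Q.index := by
    rw [hQcard]; exact Nat.Coprime.pow_left n hidx.symm
  obtain ⟨H₀, hc⟩ := Subgroup.exists_right_complement'_of_coprime hcopQ
  have hmem : ∀ x, PsiF Q φ hc e x ∈ Cfsg.semiaffineGroup (GaloisField p n) := by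
    intro x
    obtain ⟨a, b, σ, h⟩ := PsiF_semi Q φ hc e hsemi x
    exact ⟨a, b, σ, h⟩
  have hker := ker_PsiF Q φ hc e hQ hidx
  have hcardXK : Nat.card (X ⧸ Cfsg.pPrimeCore p X) = p ^ n * Nat.card A := by
    rw [← Subgroup.index_eq_card, index_pPrimeCore Q φ hc hQ hidx, hQcard]
  -- the embedding
  let f₀ : X →* Cfsg.semiaffineGroup (GaloisField p n) := (PsiF Q φ hc e).codRestrict _ hmem
  have hf₀ker : f₀.ker = Cfsg.pPrimeCore p X := by
    rw [← hker]
    ext x
    rw [MonoidHom.mem_ker, MonoidHom.mem_ker]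
    constructor
    · intro h; exact congrArg Subtype.val h
    · intro h; exact Subtype.ext h
  let f : X ⧸ Cfsg.pPrimeCore p X →* Cfsg.semiaffineGroup (GaloisField p n) :=
    QuotientGroup.lift _ f₀ (by rw [hf₀ker])
  have hfinj : Function.Injective f := by
    rw [injective_iff_map_eq_one]
    intro y hy
    obtain ⟨x, rfl⟩ := QuotientGroup.mk_surjective y
    have : x ∈ f₀.ker := hy
    rw [hf₀ker] at this
    exact (QuotientGroup.eq_one_iff x).mpr this
  have hn0 : n ≠ 0 := by omega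
  have hGF : Nat.card (GaloisField p n) = p ^ n := GaloisField.card p n hn0
  have hAut : Nat.card (GaloisField p n ≃+* GaloisField p n) = n := card_ringAut p n _ hGF
  have hsemicard := card_semiaffine_le (GaloisField p n)
  rw [hGF, hAut] at hsemicard
  rcases hcases with h3 | ⟨h5, h2⟩
  · left
    subst h3
    refine ⟨rfl, ⟨f, hfinj⟩, ?_⟩
    intro h2
    subst h2
    rcases h721 rfl rfl with h7 | h21
    · right
      have haff' := haff rfl rfl h7
      have hmem' : ∀ x, PsiF Q φ hc e x ∈ Cfsg.affineGroup (GaloisField 2 3) := by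
        intro x
        obtain ⟨a, b, h⟩ := PsiF_aff Q φ hc e haff' x
        exact ⟨a, b, h⟩
      let g₀ : X →* Cfsg.affineGroup (GaloisField 2 3) := (PsiF Q φ hc e).codRestrict _ hmem'
      have hg₀ker : g₀.ker = Cfsg.pPrimeCore 2 X := by
        rw [← hker]
        ext x
        rw [MonoidHom.mem_ker, MonoidHom.mem_ker]
        constructor
        · intro h; exact congrArg Subtype.val h
        · intro h; exact Subtype.ext h
      let g : X ⧸ Cfsg.pPrimeCore 2 X →* Cfsg.affineGroup (GaloisField 2 3) :=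
        QuotientGroup.lift _ g₀ (by rw [hg₀ker])
      have hginj : Function.Injective g := by
        rw [injective_iff_map_eq_one]
        intro y hy
        obtain ⟨x, rfl⟩ := QuotientGroup.mk_surjective y
        have : x ∈ g₀.ker := hy
        rw [hg₀ker] at this
        exact (QuotientGroup.eq_one_iff x).mpr this
      have haffcard := card_affine_le (GaloisField 2 3)
      rw [hGF] at haffcard
      have hle' : Nat.card (Cfsg.affineGroup (GaloisField 2 3)) ≤
          Nat.card (X ⧸ Cfsg.pPrimeCore 2 X) := by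
        rw [hcardXK, h7]; norm_num at haffcard ⊢; exact haffcard
      exact ⟨MulEquiv.ofBijective g (hginj.bijective_of_nat_card_le hle')⟩
    · left
      have hle' : Nat.card (Cfsg.semiaffineGroup (GaloisField 2 3)) ≤
          Nat.card (X ⧸ Cfsg.pPrimeCore 2 X) := by
        rw [hcardXK, h21]; norm_num at hsemicard ⊢; exact hsemicard
      exact ⟨MulEquiv.ofBijective f (hfinj.bijective_of_nat_card_le hle')⟩
  · right
    subst h5 h2
    refine ⟨rfl, rfl, ?_⟩
    have h155' := h155 rfl rfl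
    have hle' : Nat.card (Cfsg.semiaffineGroup (GaloisField 2 5)) ≤
        Nat.card (X ⧸ Cfsg.pPrimeCore 2 X) := by
      rw [hcardXK, h155']; norm_num at hsemicard ⊢; exact hsemicard
    exact ⟨MulEquiv.ofBijective f (hfinj.bijective_of_nat_card_le hle')⟩

end core


end Cfsg.Agent.Lib.Helper7.EqOrd
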