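import Mathlib
import Cfsg.Prelude.Def_Transfer
import Cfsg.Prelude.Def_CaseTheorems
import Cfsg.Prelude.Def_Perm
import Cfsg.Agent.Lib.Helper7.EqOrd6

/-!
# S4025: instantiation `V = Additive Q`, and Burnside's fusion lemma for subgroups of an abelian Sylow subgroup
-/

set_option autoImplicit false
set_option linter.style.haveILetI false
set_option linter.unusedSectionVars false

namespace Cfsg.Agent.Lib.Helper7.EqOrd


open Module

section inst

variable {X : Type*} [Group X] [Finite X] {p : ℕ} [hp : Fact p.Prime] (Q : Subgroup X) [hQn : Q.Normal]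

theorem theoremB (n : ℕ) (hn : 3 ≤ n) (hQcard : Nat.card Q = p ^ n) (hidx : Q.index.Coprime p)
    (hQab : ∀ a ∈ Q, ∀ b ∈ Q, a * b = b * a) (hQexp : ∀ a ∈ Q, a ^ p = 1)
    (hconj : ∀ W₁ W₂ : Subgroup X, W₁ ≤ Q → W₂ ≤ Q → Nat.card W₁ = Nat.card W₂ →
      ∃ x : X, ∀ w ∈ W₁, x * w * x⁻¹ ∈ W₂)
    (hsolv : Group.IsSolvable (X ⧸ Cfsg.pPrimeCore p X)) :
    (n = 3 ∧ (∃ f : X ⧸ Cfsg.pPrimeCore p X →* ↥(Cfsg.semiaffineGroup (GaloisField p 3)),
        Function.Injective f) ∧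
      (p = 2 → Nonempty (X ⧸ Cfsg.pPrimeCore p X ≃* Cfsg.semiaffineGroup (GaloisField 2 3)) ∨
               Nonempty (X ⧸ Cfsg.pPrimeCore p X ≃* Cfsg.affineGroup (GaloisField 2 3)))) ∨
    (n = 5 ∧ p = 2 ∧
      Nonempty (X ⧸ Cfsg.pPrimeCore p X ≃* Cfsg.semiaffineGroup (GaloisField 2 5))) := by
  letI : CommGroup Q :=
    { (inferInstance : Group Q) with
      mul_comm := fun a b => Subtype.ext (hQab a a.2 b b.2) }
  letI : Module (ZMod p) (Additive Q) := AddCommGroup.zmodModule (n := p) (fun x => by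
    have h1 : (Additive.toMul x) ^ p = 1 := Subtype.ext (by
      have := hQexp (Additive.toMul x : Q) (Additive.toMul x : Q).2
      simpa using this)
    have h2 : p • x = Additive.ofMul ((Additive.toMul x) ^ p) := rfl
    rw [h2, h1]; rfl)
  exact coreB Q (V := Additive Q) (MulEquiv.multiplicativeAdditive Q) n hn hQcard hidx hconj hsolv

end inst

section fusion

variable {G : Type*} [Group G] [Finite G] {p : ℕ} [hp : Fact p.Prime]

theorem fusion_abelian_sylow (P : Sylow p G) (hab : ∀ a ∈ P, ∀ b ∈ P, a * b = b * a)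
    (U₁ U₂ : Subgroup G) (h1 : U₁ ≤ P) (h2 : U₂ ≤ P) (g : G)
    (hg : U₂ = U₁.map (MulAut.conj g).toMonoidHom) :
    ∃ x ∈ Subgroup.normalizer ((P : Subgroup G) : Set G), ∀ w ∈ U₁, x * w * x⁻¹ ∈ U₂ := by
  have hU₂ : ∀ w ∈ U₁, g * w * g⁻¹ ∈ U₂ := by
    intro w hw
    rw [hg]
    exact ⟨w, hw, rfl⟩
  have hP : (P : Subgroup G) ≤ Subgroup.centralizer (U₂ : Set G) := by
    intro z hz
    rw [Subgroup.mem_centralizer_iff]
    intro u hu
    exact hab u (h2 hu) z hz
  have hgP : ((g • P : Sylow p G) : Subgroup G) ≤ Subgroup.centralizer (U₂ : Set G) := by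
    rintro - ⟨z, hz, rfl⟩
    rw [Subgroup.mem_centralizer_iff]
    intro u hu
    rw [hg] at hu
    obtain ⟨w, hw, rfl⟩ := hu
    change g * w * g⁻¹ * (g * z * g⁻¹) = g * z * g⁻¹ * (g * w * g⁻¹)
    have := hab w (h1 hw) z hz
    calc g * w * g⁻¹ * (g * z * g⁻¹) = g * (w * z) * g⁻¹ := by group
      _ = g * (z * w) * g⁻¹ := by rw [this]
      _ = g * z * g⁻¹ * (g * w * g⁻¹) := by group
  obtain ⟨c, hc⟩ := MulAction.exists_smul_eq (Subgroup.centralizer (U₂ : Set G))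
    ((g • P).subtype hgP) (P.subtype hP)
  simp_rw [Sylow.smul_subtype, Subgroup.smul_def, smul_smul] at hc
  refine ⟨c * g, Sylow.smul_eq_iff_mem_normalizer.mp (Sylow.subtype_injective hc), ?_⟩
  intro w hw
  have h3 := hU₂ w hw
  have h4 : (c : G) * (g * w * g⁻¹) = (g * w * g⁻¹) * c := by
    have := c.2
    rw [Subgroup.mem_centralizer_iff] at this
    exact (this _ h3).symm
  have h5 : c * g * w * (c * g)⁻¹ = (c : G) * (g * w * g⁻¹) * (c : G)⁻¹ := by group
  rw [h5, h4, mul_assoc, mul_inv_cancel, mul_one]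
  exact h3

end fusion


end Cfsg.Agent.Lib.Helper7.EqOrd
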