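import Mathlib
import Cfsg.Agent.Lib.Helper1.CharCenter
import Cfsg.Agent.Lib.Helper1.CharInt
import Cfsg.Agent.Lib.Helper4.Characters

set_option autoImplicit false

namespace Cfsg.Agent.Lib.Helper7.ExtraRep

open Cfsg Cfsg.Agent.Lib.Helper1 Cfsg.Agent.Lib.Helper4

section orth

variable {N : Type*} [Group N] [Fintype N] {V : Type*} [AddCommGroup V] [Module ℂ V]
  [FiniteDimensional ℂ V]

/-- Averaging an operator over an irreducible representation gives a scalar. -/
theorem avg_eq_scalar (ρ : Representation ℂ N V) [ρ.IsIrreducible] (X : Module.End ℂ V) :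
    ∑ u : N, ρ u * X * ρ u⁻¹ =
      ((Fintype.card N : ℂ) * LinearMap.trace ℂ V X / (Module.finrank ℂ V : ℂ)) •
        (1 : Module.End ℂ V) := by
  set S : Module.End ℂ V := ∑ u : N, ρ u * X * ρ u⁻¹ with hS
  have hcomm : ∀ w : N, ρ w * S = S * ρ w := by
    intro w
    rw [hS, Finset.mul_sum, Finset.sum_mul]
    apply Fintype.sum_equiv (Equiv.mulLeft w)
    intro u
    simp only [Equiv.coe_mulLeft]
    rw [map_mul, mul_inv_rev, map_mul]
    simp only [mul_assoc]
    rw [← map_mul ρ w⁻¹ w, inv_mul_cancel, map_one, mul_one]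
  obtain ⟨c, hc⟩ := scalar_of_commute ρ S (by
    intro w
    exact (hcomm w).symm)
  have htr : LinearMap.trace ℂ V S = (Fintype.card N : ℂ) * LinearMap.trace ℂ V X := by
    rw [hS, map_sum]
    have : ∀ u : N, LinearMap.trace ℂ V (ρ u * X * ρ u⁻¹) = LinearMap.trace ℂ V X := by
      intro u
      rw [LinearMap.trace_mul_comm, ← mul_assoc, ← map_mul, inv_mul_cancel, map_one, one_mul]
    rw [Finset.sum_congr rfl (fun u _ => this u), Finset.sum_const, Finset.card_univ,
      nsmul_eq_mul]
  have hd : (Module.finrank ℂ V : ℂ) ≠ 0 := finrank_ne_zero_of_irreducible ρ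
  have hc2 : c * (Module.finrank ℂ V : ℂ) = (Fintype.card N : ℂ) * LinearMap.trace ℂ V X := by
    rw [← htr, hc, map_smul, LinearMap.trace_id, smul_eq_mul]
  rw [hc]
  have : c = (Fintype.card N : ℂ) * LinearMap.trace ℂ V X / (Module.finrank ℂ V : ℂ) := by
    field_simp
    exact hc2
  rw [this]
  rfl

end orth

end Cfsg.Agent.Lib.Helper7.ExtraRep
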