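import Mathlib
import Cfsg.Prelude.Def_Transfer
import Cfsg.Agent.Lib.Helper7.ExtraRep1
import Cfsg.Agent.Lib.Helper7.Schur6
import Cfsg.Agent.Lib.Helper4.Gallagher

set_option autoImplicit false

namespace Cfsg.Agent.Lib.Helper7.ExtraRep

open Cfsg Cfsg.Agent.Lib.Helper1 Cfsg.Agent.Lib.Helper4
open scoped ComplexConjugate

section core

variable {N : Type*} [Group N] [Fintype N] {p : ℕ} [hp : Fact p.Prime]

/-- A faithful linear character of the centre of an extraspecial group. -/
theorem exists_faithful_center (hN : IsExtraspecial p N) :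
    ∃ l : Subgroup.center N →* ℂˣ, Function.Injective l := by
  have hcard : Nat.card (Subgroup.center N) = p := hN.2
  haveI : Fact (Nat.card (Subgroup.center N)).Prime := ⟨hcard ▸ hp.out⟩
  have hnt : Nontrivial (Subgroup.center N) := by
    rw [← Finite.one_lt_card_iff_nontrivial, hcard]
    exact hp.out.one_lt
  obtain ⟨z₀, hz₀⟩ := exists_ne (1 : Subgroup.center N)
  obtain ⟨l, hl⟩ := Schur.exists_char_ne_one (K := Subgroup.center N)
    (fun a b => Schur.subgroup_center_comm _ le_rfl a b) hz₀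
  refine ⟨l, ?_⟩
  rw [injective_iff_map_eq_one]
  intro z hz
  rcases Subgroup.eq_bot_or_eq_top_of_prime_card l.ker with h | h
  · have : z ∈ l.ker := hz
    rw [h, Subgroup.mem_bot] at this
    exact this
  · exfalso
    apply hl
    have : z₀ ∈ l.ker := by rw [h]; trivial
    exact this

/-- The faithful irreducible representation of an extraspecial group: it has degree `p ^ n`
and its character vanishes off the centre. -/
theorem exists_rep (hN : IsExtraspecial p N) (n : ℕ) (hcard : Nat.card N = p ^ (2 * n + 1)) :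
    ∃ (ρ : Representation ℂ N (Fin (p ^ n) → ℂ)) (l : Subgroup.center N →* ℂˣ),
      ρ.IsIrreducible ∧ Function.Injective l ∧
      (∀ z : Subgroup.center N, ρ (z : N) = ((l z : ℂˣ) : ℂ) • LinearMap.id) ∧
      (∀ u : N, u ∉ Subgroup.center N → ρ.character u = 0) := by
  classical
  obtain ⟨l, hl⟩ := exists_faithful_center hN
  obtain ⟨d, ρ, hirr, hρl⟩ := Schur.exists_irr_over (Subgroup.center N) le_rfl l
  haveI := hirr
  have hvanish : ∀ u : N, u ∉ Subgroup.center N → ρ.character u = 0 := by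
    intro u hu
    have : ∃ w : N, w * u ≠ u * w := by
      by_contra hcon
      push Not at hcon
      exact hu (Subgroup.mem_center_iff.2 hcon)
    obtain ⟨w, hw⟩ := this
    have hc : w * u * w⁻¹ * u⁻¹ ∈ Subgroup.center N := by
      rw [← hN.1.2.2]
      exact Subgroup.commutator_mem_commutator (Subgroup.mem_top w) (Subgroup.mem_top u)
    have hc1 : (⟨w * u * w⁻¹ * u⁻¹, hc⟩ : Subgroup.center N) ≠ 1 := by
      intro h
      apply hw
      have h' : w * u * w⁻¹ * u⁻¹ = 1 := congrArg Subtype.val h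
      calc w * u = (w * u * w⁻¹ * u⁻¹) * (u * w) := by group
        _ = u * w := by rw [h', one_mul]
    have hlc : ((l ⟨w * u * w⁻¹ * u⁻¹, hc⟩ : ℂˣ) : ℂ) ≠ 1 := by
      intro h
      apply hc1
      apply hl
      rw [map_one]
      exact Units.ext h
    have h1 : ρ.character (w * u * w⁻¹) = ρ.character u := ρ.char_conj u w
    have h2 : w * u * w⁻¹ = (w * u * w⁻¹ * u⁻¹) * u := by group
    have h3 : ρ.character ((w * u * w⁻¹ * u⁻¹) * u) =
        ((l ⟨w * u * w⁻¹ * u⁻¹, hc⟩ : ℂˣ) : ℂ) * ρ.character u := by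
      unfold Representation.character
      rw [map_mul, hρl ⟨_, hc⟩, smul_mul_assoc, map_smul, smul_eq_mul]
      congr 1
    rw [h2, h3] at h1
    have h4 : (((l ⟨w * u * w⁻¹ * u⁻¹, hc⟩ : ℂˣ) : ℂ) - 1) * ρ.character u = 0 := by
      rw [sub_mul, h1, one_mul, sub_self]
    rcases mul_eq_zero.1 h4 with h | h
    · exact absurd (sub_eq_zero.1 h) hlc
    · exact h
  -- the degree
  have hirrc : IsIrrCharacter N ρ.character := ⟨d, ρ, hirr, rfl⟩
  have hnorm := classInner_irr_self hirrc
  rw [classInner_def] at hnorm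
  have hcz : ∀ z : Subgroup.center N, ρ.character (z : N) = (d : ℂ) * ((l z : ℂˣ) : ℂ) := by
    intro z
    unfold Representation.character
    rw [hρl z]
    simp [mul_comm]
  have hsum : ∑ u : N, ρ.character u * conj (ρ.character u) = (p : ℂ) * (d : ℂ) ^ 2 := by
    rw [← Finset.sum_filter_add_sum_filter_not Finset.univ (fun u : N => u ∈ Subgroup.center N)]
    have h2 : ∑ u ∈ Finset.univ.filter (fun u : N => ¬ u ∈ Subgroup.center N),
        ρ.character u * conj (ρ.character u) = 0 := by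
      apply Finset.sum_eq_zero
      intro u hu
      rw [hvanish u (Finset.mem_filter.1 hu).2, zero_mul]
    have h1 : ∀ u ∈ Finset.univ.filter (fun u : N => u ∈ Subgroup.center N),
        ρ.character u * conj (ρ.character u) = (d : ℂ) ^ 2 := by
      intro u hu
      have hu' := (Finset.mem_filter.1 hu).2
      have := hcz ⟨u, hu'⟩
      simp only at this
      rw [this, map_mul, Complex.conj_natCast]
      have hn : ((l ⟨u, hu'⟩ : ℂˣ) : ℂ) * conj ((l ⟨u, hu'⟩ : ℂˣ) : ℂ) = 1 := by
        rw [Complex.mul_conj, Complex.normSq_eq_norm_sq, norm_hom_apply]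
        simp
      calc (d : ℂ) * ((l ⟨u, hu'⟩ : ℂˣ) : ℂ) * ((d : ℂ) * conj ((l ⟨u, hu'⟩ : ℂˣ) : ℂ))
          = (d : ℂ) ^ 2 * (((l ⟨u, hu'⟩ : ℂˣ) : ℂ) * conj ((l ⟨u, hu'⟩ : ℂˣ) : ℂ)) := by ring
        _ = (d : ℂ) ^ 2 := by rw [hn, mul_one]
    rw [h2, add_zero, Finset.sum_congr rfl h1, Finset.sum_const, nsmul_eq_mul]
    congr 1
    have : (Finset.univ.filter (fun u : N => u ∈ Subgroup.center N)).card =
        Nat.card (Subgroup.center N) := by
      rw [Nat.card_eq_fintype_card, Fintype.card_subtype]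
    rw [this, hN.2]
  rw [hsum, hcard] at hnorm
  have hd : d = p ^ n := by
    have hp0 : (p : ℂ) ≠ 0 := Nat.cast_ne_zero.2 hp.out.ne_zero
    have h1 : (p : ℂ) * (d : ℂ) ^ 2 = ((p ^ (2 * n + 1) : ℕ) : ℂ) := by
      have hne : ((p ^ (2 * n + 1) : ℕ) : ℂ) ≠ 0 :=
        Nat.cast_ne_zero.2 (pow_ne_zero _ hp.out.ne_zero)
      field_simp at hnorm
      exact hnorm
    have h2 : p * d ^ 2 = p ^ (2 * n + 1) := by exact_mod_cast h1
    have h3 : d ^ 2 = (p ^ n) ^ 2 := by
      have : p * d ^ 2 = p * (p ^ n) ^ 2 := by rw [h2]; ring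
      exact Nat.eq_of_mul_eq_mul_left hp.out.pos this
    exact Nat.pow_left_injective (by norm_num : 2 ≠ 0) h3
  subst hd
  exact ⟨ρ, l, hirr, hl, hρl, hvanish⟩

end core

end Cfsg.Agent.Lib.Helper7.ExtraRep
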