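import Mathlib
import Cfsg.Agent.Lib.Helper7.ExtraRep2
import Cfsg.Agent.Lib.Helper2.CyclicExt

set_option autoImplicit false

namespace Cfsg.Agent.Lib.Helper7.ExtraRep

open Cfsg Cfsg.Agent.Lib.Helper1 Cfsg.Agent.Lib.Helper4
open scoped ComplexConjugate

section twist

variable {Γ : Type*} [Group Γ] [Finite Γ] (N : Subgroup Γ) [hNn : N.Normal] {p : ℕ}
  [hp : Fact p.Prime]

omit [Finite Γ] in
theorem conj_mem_center_iff (φ : MulAut N) (u : N) :
    φ u ∈ Subgroup.center N ↔ u ∈ Subgroup.center N := by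
  have := (Subgroup.centerCharacteristic (G := N)).fixed φ
  constructor
  · intro h
    rw [← this]
    exact h
  · intro h
    rw [← this] at h
    exact h

omit [Finite Γ] in
theorem conjNormal_pow_fix (g : Γ) (z : N) (hz : MulAut.conjNormal g z = z) (j : ℕ) :
    MulAut.conjNormal (g ^ j) z = z := by
  induction j with
  | zero => simp
  | succ j ih =>
    rw [pow_succ, map_mul, MulAut.mul_apply, hz, ih]

/-- The kernel computation: if `u φ(u)⁻¹` is central then `u` is fixed. -/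
theorem fixed_of_commutator_central (hN : IsExtraspecial p N) (φ : MulAut N) (h : ℕ)
    (hφh : φ ^ h = 1) (hcop : h.Coprime p)
    (hφz : ∀ z : N, z ∈ Subgroup.center N → φ z = z) (u : N)
    (hu : u * φ u⁻¹ ∈ Subgroup.center N) : φ u = u := by
  obtain ⟨z₁, hz₁⟩ : ∃ z₁, z₁ = u * φ u⁻¹ := ⟨_, rfl⟩
  have hz₁c : z₁ ∈ Subgroup.center N := hz₁ ▸ hu
  have hφu : φ u = z₁⁻¹ * u := by
    have h1 : φ u⁻¹ = u⁻¹ * z₁ := by rw [hz₁]; group
    have h2 : φ u = (φ u⁻¹)⁻¹ := by rw [map_inv, inv_inv]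
    rw [h2, h1, mul_inv_rev, inv_inv]
  have hpow : ∀ k : ℕ, (φ ^ k) u = z₁⁻¹ ^ k * u := by
    intro k
    induction k with
    | zero => simp
    | succ k ih =>
      rw [pow_succ', MulAut.mul_apply, ih, map_mul, map_pow, hφz _ (Subgroup.inv_mem _ hz₁c),
        hφu, pow_succ, mul_assoc]
  have h1 := hpow h
  rw [hφh, MulAut.one_apply] at h1
  have h2 : z₁⁻¹ ^ h = 1 := by
    have : z₁⁻¹ ^ h * u = 1 * u := by rw [← h1, one_mul]
    exact mul_right_cancel this
  have h3 : z₁ ^ h = 1 := by rwa [inv_pow, inv_eq_one] at h2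
  have h4 : z₁ ^ p = 1 := by
    have : (⟨z₁, hz₁c⟩ : Subgroup.center N) ^ p = 1 := by
      rw [← hN.2]
      exact pow_card_eq_one'
    exact congrArg Subtype.val this
  have h5 : z₁ = 1 := by
    have d1 := orderOf_dvd_of_pow_eq_one h3
    have d2 := orderOf_dvd_of_pow_eq_one h4
    have d3 : orderOf z₁ ∣ 1 := by
      have := Nat.dvd_gcd d1 d2
      rwa [hcop.gcd_eq_one] at this
    exact orderOf_eq_one_iff.1 (Nat.dvd_one.1 d3)
  rw [hφu, h5, inv_one, one_mul]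

/-- The twisting operator `A` with `A ^ h = 1`, and the key trace identity. -/
theorem key_trace (hN : IsExtraspecial p N) (n : ℕ) (hcard : Nat.card N = p ^ (2 * n + 1))
    (g : Γ) (h : ℕ) (hh : 0 < h) (hgh : g ^ h = 1) (hcop : h.Coprime p)
    (hfix : ∀ j, 0 < j → j < h → ∀ u : N, MulAut.conjNormal (g ^ j) u = u →
      u ∈ Subgroup.center N)
    (hcen : ∀ z : N, z ∈ Subgroup.center N → MulAut.conjNormal g z = z) :
    ∃ A : (Module.End ℂ (Fin (p ^ n) → ℂ))ˣ, A ^ h = 1 ∧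
      ∀ j, 0 < j → j < h →
        LinearMap.trace ℂ (Fin (p ^ n) → ℂ)
          ((A ^ j : (Module.End ℂ (Fin (p ^ n) → ℂ))ˣ) : Module.End ℂ (Fin (p ^ n) → ℂ)) *
        LinearMap.trace ℂ (Fin (p ^ n) → ℂ)
          (((A ^ j)⁻¹ : (Module.End ℂ (Fin (p ^ n) → ℂ))ˣ) : Module.End ℂ (Fin (p ^ n) → ℂ)) = 1 := by
  classical
  haveI : Fintype N := Fintype.ofFinite N
  obtain ⟨ρ, l, hirr, hl, hρl, hvan⟩ := exists_rep hN n hcard
  haveI := hirr
  have hinv : ∀ u : N, ρ.character (MulAut.conjNormal g u) = ρ.character u := by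
    intro u
    by_cases hu : u ∈ Subgroup.center N
    · rw [hcen u hu]
    · rw [hvan u hu, hvan _ (fun h' => hu ((conj_mem_center_iff N _ u).1 h'))]
  have hgm : g ^ h ∈ N := by rw [hgh]; exact N.one_mem
  obtain ⟨A, hA, hAh⟩ := Cfsg.Agent.Lib.Helper2.CyclicExt.exists_conj_unit_pow N g ρ hinv h hh hgm
  have hAh1 : A ^ h = 1 := by
    rw [hAh]
    have : (⟨g ^ h, hgm⟩ : N) = 1 := Subtype.ext hgh
    rw [this, map_one]
  refine ⟨A, hAh1, ?_⟩
  intro j hj0 hjh
  have hpow : ∀ k : ℕ, ∀ u : N,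
      ρ.toHomUnits (MulAut.conjNormal (g ^ k) u) = A ^ k * ρ.toHomUnits u * (A ^ k)⁻¹ := by
    intro k
    induction k with
    | zero => intro u; simp
    | succ k ih =>
      intro u
      rw [pow_succ, map_mul, MulAut.mul_apply, ih, hA, pow_succ]
      group
  obtain ⟨φ, hφ⟩ : ∃ φ : MulAut N, φ = MulAut.conjNormal (g ^ j) := ⟨_, rfl⟩
  obtain ⟨X, hX⟩ : ∃ X : Module.End ℂ (Fin (p ^ n) → ℂ),
      X = ((A ^ j : (Module.End ℂ (Fin (p ^ n) → ℂ))ˣ) : Module.End ℂ (Fin (p ^ n) → ℂ)) :=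
    ⟨_, rfl⟩
  obtain ⟨X', hX'⟩ : ∃ X' : Module.End ℂ (Fin (p ^ n) → ℂ),
      X' = (((A ^ j)⁻¹ : (Module.End ℂ (Fin (p ^ n) → ℂ))ˣ) : Module.End ℂ (Fin (p ^ n) → ℂ)) :=
    ⟨_, rfl⟩
  rw [← hX, ← hX']
  have hconj : ∀ v : N, X * ρ v * X' = ρ (φ v) := by
    intro v
    have h1 := congrArg Units.val (hpow j v)
    rw [Units.val_mul, Units.val_mul, MonoidHom.coe_toHomUnits, MonoidHom.coe_toHomUnits] at h1
    rw [hX, hX', hφ, h1]
  have hφz : ∀ z : N, z ∈ Subgroup.center N → φ z = z := by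
    intro z hz
    rw [hφ]
    exact conjNormal_pow_fix N g z (hcen z hz) j
  have hφh : φ ^ h = 1 := by
    rw [hφ, ← map_pow, ← pow_mul, mul_comm, pow_mul, hgh, one_pow, map_one]
  have havg := avg_eq_scalar ρ X
  have hd : (Module.finrank ℂ (Fin (p ^ n) → ℂ) : ℂ) = (p : ℂ) ^ n := by
    rw [Module.finrank_fin_fun]
    push_cast
    rfl
  have hcN : (Fintype.card N : ℂ) = (p : ℂ) ^ (2 * n + 1) := by
    rw [← Nat.card_eq_fintype_card, hcard]
    push_cast
    rfl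
  have h1 : ∑ u : N, ρ.character (u * φ u⁻¹) =
      ((Fintype.card N : ℂ) * LinearMap.trace ℂ _ X / (Module.finrank ℂ (Fin (p ^ n) → ℂ) : ℂ)) *
        LinearMap.trace ℂ _ X' := by
    have h2 := congrArg (fun S : Module.End ℂ (Fin (p ^ n) → ℂ) =>
      LinearMap.trace ℂ (Fin (p ^ n) → ℂ) (S * X')) havg
    beta_reduce at h2
    rw [Finset.sum_mul, map_sum, smul_mul_assoc, one_mul, map_smul, smul_eq_mul] at h2
    rw [← h2]
    refine Finset.sum_congr rfl (fun u _ => ?_)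
    unfold Representation.character
    rw [map_mul, ← hconj]
    simp only [mul_assoc]
  have h2 : ∑ u : N, ρ.character (u * φ u⁻¹) = (p : ℂ) * (p : ℂ) ^ n := by
    rw [← Finset.sum_filter_add_sum_filter_not Finset.univ (fun u : N => u ∈ Subgroup.center N)]
    have e2 : ∑ u ∈ Finset.univ.filter (fun u : N => ¬ u ∈ Subgroup.center N),
        ρ.character (u * φ u⁻¹) = 0 := by
      apply Finset.sum_eq_zero
      intro u hu
      have hu' := (Finset.mem_filter.1 hu).2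
      apply hvan
      intro hc
      apply hu'
      have hfx := fixed_of_commutator_central N hN φ h hφh hcop hφz u hc
      rw [hφ] at hfx
      exact hfix j hj0 hjh u hfx
    have e1 : ∀ u ∈ Finset.univ.filter (fun u : N => u ∈ Subgroup.center N),
        ρ.character (u * φ u⁻¹) = (p : ℂ) ^ n := by
      intro u hu
      have hu' := (Finset.mem_filter.1 hu).2
      rw [hφz u⁻¹ (Subgroup.inv_mem _ hu'), mul_inv_cancel, Representation.char_one, hd]
    rw [e2, add_zero, Finset.sum_congr rfl e1, Finset.sum_const, nsmul_eq_mul]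
    congr 1
    have : (Finset.univ.filter (fun u : N => u ∈ Subgroup.center N)).card =
        Nat.card (Subgroup.center N) := by
      rw [Nat.card_eq_fintype_card, Fintype.card_subtype]
    rw [this, hN.2]
  rw [h2, hd, hcN] at h1
  have hp0 : (p : ℂ) ≠ 0 := Nat.cast_ne_zero.2 hp.out.ne_zero
  have ha0 : (p : ℂ) ^ n ≠ 0 := pow_ne_zero _ hp0
  have h3 : (p : ℂ) ^ (2 * n + 1) = (p : ℂ) * ((p : ℂ) ^ n) ^ 2 := by ring
  rw [h3] at h1
  have h5 : (p : ℂ) * ((p : ℂ) ^ n) ^ 2 * LinearMap.trace ℂ _ X / (p : ℂ) ^ n *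
      LinearMap.trace ℂ _ X' =
      (p : ℂ) * (p : ℂ) ^ n * (LinearMap.trace ℂ _ X * LinearMap.trace ℂ _ X') := by
    field_simp
  have h4 : (p : ℂ) * (p : ℂ) ^ n * (LinearMap.trace ℂ _ X * LinearMap.trace ℂ _ X') =
      (p : ℂ) * (p : ℂ) ^ n * 1 := by
    rw [mul_one, ← h5, ← h1]
  exact mul_left_cancel₀ (mul_ne_zero hp0 ha0) h4

end twist

end Cfsg.Agent.Lib.Helper7.ExtraRep
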