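import Mathlib

set_option autoImplicit false

namespace Cfsg.Agent.Lib.Helper7.ExtraRep

/-- The numerical lemma: `h` natural numbers with sum `d` and sum of squares
`(d ^ 2 + h - 1) / h` are all equal except one which differs by one; so `h ∣ d ± 1`. -/
theorem dvd_of_sums {ι : Type*} [Fintype ι] (m : ι → ℕ) (h d : ℕ) (hh : 0 < h)
    (hcard : Fintype.card ι = h) (hsum : ∑ i, m i = d)
    (hsq : h * ∑ i, (m i) ^ 2 + 1 = d ^ 2 + h) (hd : 1 ≤ d) :
    h ∣ d + 1 ∨ h ∣ d - 1 := by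
  obtain ⟨a, ha⟩ : ∃ a, a = d / h := ⟨_, rfl⟩
  obtain ⟨r, hr⟩ : ∃ r, r = d % h := ⟨_, rfl⟩
  have hdr : d = a * h + r := by rw [ha, hr]; exact (Nat.div_add_mod' d h).symm
  have hrh : r < h := by rw [hr]; exact Nat.mod_lt _ hh
  -- the nonnegative sum
  have hS : 0 ≤ ∑ i, ((m i : ℤ) - a) * ((m i : ℤ) - a - 1) := by
    apply Finset.sum_nonneg
    intro i _
    have : (m i : ℤ) - a ≤ 0 ∨ 1 ≤ (m i : ℤ) - a := by omega
    rcases this with h1 | h1
    · nlinarith
    · nlinarith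
  have hexp : ∑ i, ((m i : ℤ) - a) * ((m i : ℤ) - a - 1) =
      ∑ i, ((m i : ℤ)) ^ 2 - (2 * a + 1) * ∑ i, (m i : ℤ) + (h : ℤ) * (a * (a + 1)) := by
    have : ∀ i, ((m i : ℤ) - a) * ((m i : ℤ) - a - 1) =
        (m i : ℤ) ^ 2 - (2 * a + 1) * (m i : ℤ) + a * (a + 1) := by
      intro i; ring
    rw [Finset.sum_congr rfl (fun i _ => this i), Finset.sum_add_distrib,
      Finset.sum_sub_distrib, ← Finset.mul_sum, Finset.sum_const, Finset.card_univ, hcard,
      nsmul_eq_mul]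
  have hsumZ : ∑ i, (m i : ℤ) = d := by exact_mod_cast hsum
  have hsqZ : (h : ℤ) * ∑ i, (m i : ℤ) ^ 2 + 1 = (d : ℤ) ^ 2 + h := by exact_mod_cast hsq
  have hdrZ : (d : ℤ) = a * h + r := by exact_mod_cast hdr
  have hkey : (h : ℤ) * ∑ i, ((m i : ℤ) - a) * ((m i : ℤ) - a - 1) =
      ((r : ℤ) - 1) * ((r : ℤ) + 1 - h) := by
    rw [hexp, hsumZ]
    have : (h : ℤ) * ∑ i, (m i : ℤ) ^ 2 = (d : ℤ) ^ 2 + h - 1 := by linarith
    rw [mul_add, mul_sub, this, hdrZ]
    ring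
  obtain ⟨S, hSdef⟩ : ∃ S : ℤ, S = ∑ i, ((m i : ℤ) - a) * ((m i : ℤ) - a - 1) := ⟨_, rfl⟩
  rw [← hSdef] at hS hkey
  have hhZ : (0 : ℤ) < h := by exact_mod_cast hh
  have hrhZ : (r : ℤ) < h := by exact_mod_cast hrh
  have hr0 : (0 : ℤ) ≤ r := by positivity
  have hprod : 0 ≤ ((r : ℤ) - 1) * ((r : ℤ) + 1 - h) := by
    rw [← hkey]; positivity
  -- cases on r
  by_cases hr2 : 2 ≤ r
  · -- then r = h - 1
    have h1 : (0 : ℤ) < (r : ℤ) - 1 := by
      have : (2 : ℤ) ≤ r := by exact_mod_cast hr2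
      linarith
    have h2 : 0 ≤ (r : ℤ) + 1 - h := by
      by_contra hneg
      push Not at hneg
      nlinarith
    have h3 : r + 1 = h := by
      have : (r : ℤ) + 1 = h := by linarith
      exact_mod_cast this
    left
    refine ⟨a + 1, ?_⟩
    rw [hdr, ← h3]
    ring
  · have hr01 : r = 0 ∨ r = 1 := by omega
    rcases hr01 with h0 | h1
    · -- r = 0: h S = h - 1, so h = 1
      rw [h0] at hkey
      have h4 : (h : ℤ) * S = h - 1 := by rw [hkey]; push_cast; ring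
      have h5 : S = 0 := by
        by_contra hne
        have : 1 ≤ S := by omega
        nlinarith
      rw [h5, mul_zero] at h4
      have h6 : h = 1 := by
        have : (h : ℤ) = 1 := by linarith
        exact_mod_cast this
      left
      rw [h6]
      exact one_dvd _
    · right
      refine ⟨a, ?_⟩
      rw [hdr, h1]
      simp [mul_comm]

end Cfsg.Agent.Lib.Helper7.ExtraRep
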