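import Mathlib
import Cfsg.Agent.Lib.Helper7.ExtraRep4
import Cfsg.Agent.Lib.Helper1.CharFound6
import Cfsg.Agent.Lib.Helper1.CharFound4
import Cfsg.Agent.Lib.Helper4.AbelianIrr
import Cfsg.Agent.Lib.Helper4.Characters

set_option autoImplicit false

namespace Cfsg.Agent.Lib.Helper7.ExtraRep

open Cfsg Cfsg.Agent.Lib.Helper1 Cfsg.Agent.Lib.Helper4
open scoped ComplexConjugate

/-- Character counting for an abelian group acting with `χ(c) χ(c⁻¹) = 1` off the identity. -/
theorem card_dvd_of_char {C : Type*} [Group C] [Fintype C] (hcomm : ∀ a b : C, a * b = b * a)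
    {d : ℕ} (hd : 1 ≤ d) (τ : Representation ℂ C (Fin d → ℂ))
    (hτ : ∀ c : C, c ≠ 1 → τ.character c * τ.character c⁻¹ = 1) :
    Fintype.card C ∣ d + 1 ∨ Fintype.card C ∣ d - 1 := by
  classical
  haveI : Fintype (IrrCharacter C) := Fintype.ofFinite _
  obtain ⟨ψ, hψdef⟩ : ∃ ψ : C → ℂ, ψ = τ.character := ⟨_, rfl⟩
  have hψ : IsCharacter C ψ := ⟨d, τ, hψdef.symm⟩
  have hcl : IsClassFunction C ψ := isClassFunction_of_isCharacter hψ
  have hmult : ∀ β : IrrCharacter C, ∃ m : ℕ, classInner ψ β = m :=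
    fun β => classInner_char_irr_nat hψ β.2
  choose m hm using hmult
  have hexp := class_function_expansion ψ hcl
  have hβ1 : ∀ β : IrrCharacter C, (β : C → ℂ) 1 = 1 := by
    intro β
    obtain ⟨φ, hφ⟩ := exists_hom_of_comm hcomm β.2
    rw [hφ]
    simp
  have hψ1 : ψ 1 = d := by
    rw [hψdef, Representation.char_one]
    simp
  -- sum of multiplicities
  have hsum : ∑ β, m β = d := by
    have h1 := congrFun hexp 1
    rw [Finset.sum_apply] at h1
    simp only [Pi.smul_apply, smul_eq_mul, hβ1, mul_one, hm] at h1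
    rw [hψ1] at h1
    have : ((∑ β, m β : ℕ) : ℂ) = (d : ℂ) := by
      push_cast
      exact h1.symm
    exact_mod_cast this
  -- sum of squares
  have hinner1 : classInner ψ ψ = ∑ β, ((m β : ℂ)) ^ 2 := by
    rw [classInner_eq_sum_mult ψ ψ hcl]
    refine Finset.sum_congr rfl (fun β _ => ?_)
    have : classInner (β : C → ℂ) ψ = conj (classInner ψ β) := (classInner_conj_symm ψ β).symm
    rw [this, hm, Complex.conj_natCast]
    ring
  have hinner2 : classInner ψ ψ = (Fintype.card C : ℂ)⁻¹ * ((d : ℂ) ^ 2 + (Fintype.card C - 1)) := by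
    rw [classInner_def, Nat.card_eq_fintype_card]
    congr 1
    have hterm : ∀ c : C, ψ c * conj (ψ c) = if c = 1 then (d : ℂ) ^ 2 else 1 := by
      intro c
      have hinv : conj (ψ c) = ψ c⁻¹ := by
        rw [hψdef, character_inv]
      rw [hinv]
      split_ifs with hc
      · rw [hc, inv_one, hψ1]; ring
      · rw [hψdef]; exact hτ c hc
    rw [Finset.sum_congr rfl (fun c _ => hterm c), Finset.sum_ite, Finset.sum_const,
      Finset.sum_const, Finset.filter_eq' Finset.univ (1 : C)]
    simp only [Finset.mem_univ, if_true, Finset.card_singleton, one_smul, nsmul_eq_mul, mul_one]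
    have : (Finset.univ.filter (fun c : C => ¬ c = 1)).card = Fintype.card C - 1 := by
      rw [Finset.filter_not, Finset.card_sdiff_of_subset (Finset.subset_univ _),
        Finset.filter_eq' Finset.univ (1 : C)]
      simp
    rw [this, Nat.cast_sub Fintype.card_pos]
    simp
  have hsq : Fintype.card C * ∑ β, (m β) ^ 2 + 1 = d ^ 2 + Fintype.card C := by
    have hc0 : (Fintype.card C : ℂ) ≠ 0 := Nat.cast_ne_zero.2 Fintype.card_ne_zero
    have h1 : (Fintype.card C : ℂ) * ∑ β, ((m β : ℂ)) ^ 2 = (d : ℂ) ^ 2 + (Fintype.card C - 1) := by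
      rw [← hinner1, hinner2, mul_inv_cancel_left₀ hc0]
    have h2 : ((Fintype.card C * ∑ β, (m β) ^ 2 + 1 : ℕ) : ℂ) = ((d ^ 2 + Fintype.card C : ℕ) : ℂ) := by
      push_cast
      rw [h1]
      ring
    exact_mod_cast h2
  -- the number of irreducible characters
  have hcardI : Fintype.card (IrrCharacter C) = Fintype.card C := by
    letI : CommGroup C := { ‹Group C› with mul_comm := hcomm }
    have h1 := card_irr_eq_card_conjClasses (G := C)
    rw [Nat.card_eq_fintype_card] at h1
    rw [h1, Nat.card_congr (ConjClasses.mkEquiv (α := C)).symm, Nat.card_eq_fintype_card]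
  exact dvd_of_sums m (Fintype.card C) d Fintype.card_pos hcardI hsum hsq hd

end Cfsg.Agent.Lib.Helper7.ExtraRep
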