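import Mathlib
import Cfsg.Agent.Lib.Helper7.ExtraRep3
import Cfsg.Agent.Lib.Helper7.ExtraRep5

set_option autoImplicit false

namespace Cfsg.Agent.Lib.Helper7.ExtraRep

open Cfsg Cfsg.Agent.Lib.Helper1 Cfsg.Agent.Lib.Helper4

/-- Abstract form: an extraspecial normal subgroup `N` of order `p ^ (2 n + 1)` and an element
`g` with `g ^ h = 1`, `h` prime to `p`, all of whose non-trivial powers `g ^ j` (`0 < j < h`)
have centraliser in `N` equal to the centre. Then `h ∣ p ^ n ± 1`. -/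
theorem main_abstract {Γ : Type*} [Group Γ] [Finite Γ] (N : Subgroup Γ) [hNn : N.Normal] {p : ℕ}
    [hp : Fact p.Prime] (hN : IsExtraspecial p N) (n : ℕ)
    (hcard : Nat.card N = p ^ (2 * n + 1))
    (g : Γ) (h : ℕ) (hh : 0 < h) (hgh : g ^ h = 1) (hcop : h.Coprime p)
    (hfix : ∀ j, 0 < j → j < h → ∀ u : N, MulAut.conjNormal (g ^ j) u = u →
      u ∈ Subgroup.center N)
    (hcen : ∀ z : N, z ∈ Subgroup.center N → MulAut.conjNormal g z = z) :
    h ∣ p ^ n + 1 ∨ h ∣ p ^ n - 1 := by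
  classical
  by_cases hn : n = 0
  · right
    rw [hn, pow_zero]
    exact dvd_zero _
  have hd2 : 2 ≤ p ^ n := by
    calc 2 ≤ p := hp.out.two_le
      _ = p ^ 1 := (pow_one p).symm
      _ ≤ p ^ n := Nat.pow_le_pow_right hp.out.pos (Nat.one_le_iff_ne_zero.2 hn)
  obtain ⟨A, hAh, htr⟩ := key_trace N hN n hcard g h hh hgh hcop hfix hcen
  have hfin : IsOfFinOrder A := isOfFinOrder_iff_pow_eq_one.2 ⟨h, hh, hAh⟩
  have hord : orderOf A = h := by
    have hdvd : orderOf A ∣ h := orderOf_dvd_of_pow_eq_one hAh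
    by_contra hne
    have hlt : orderOf A < h := lt_of_le_of_ne (Nat.le_of_dvd hh hdvd) hne
    have h1 := htr (orderOf A) hfin.orderOf_pos hlt
    rw [pow_orderOf_eq_one, inv_one, Units.val_one] at h1
    have h2 : LinearMap.trace ℂ (Fin (p ^ n) → ℂ) (1 : Module.End ℂ (Fin (p ^ n) → ℂ)) =
        ((p ^ n : ℕ) : ℂ) := by
      rw [Module.End.one_eq_id, LinearMap.trace_id, Module.finrank_fin_fun]
    rw [h2] at h1
    have h3 : (p ^ n) * (p ^ n) = 1 := by exact_mod_cast h1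
    nlinarith
  obtain ⟨C, hC⟩ : ∃ C : Subgroup (Module.End ℂ (Fin (p ^ n) → ℂ))ˣ, C = Subgroup.zpowers A :=
    ⟨_, rfl⟩
  have hcardC : Nat.card C = h := by rw [hC, Nat.card_zpowers, hord]
  haveI : Finite C := Nat.finite_of_card_ne_zero (by rw [hcardC]; exact hh.ne')
  haveI : Fintype C := Fintype.ofFinite C
  have hmemC : ∀ c : C, ∃ i : ℤ, A ^ i = (c : (Module.End ℂ (Fin (p ^ n) → ℂ))ˣ) := by
    intro c
    have hle : C ≤ Subgroup.zpowers A := hC.le
    exact Subgroup.mem_zpowers_iff.1 (hle c.2)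
  have hcomm : ∀ a b : C, a * b = b * a := by
    intro a b
    apply Subtype.ext
    obtain ⟨i, hi⟩ := hmemC a
    obtain ⟨k, hk⟩ := hmemC b
    show (a : (Module.End ℂ (Fin (p ^ n) → ℂ))ˣ) * b = b * a
    rw [← hi, ← hk, ← zpow_add, ← zpow_add, add_comm]
  let τ : Representation ℂ C (Fin (p ^ n) → ℂ) :=
    (Units.coeHom (Module.End ℂ (Fin (p ^ n) → ℂ))).comp C.subtype
  have hτ : ∀ c : C, c ≠ 1 → τ.character c * τ.character c⁻¹ = 1 := by
    intro c hc
    obtain ⟨i, hi⟩ := hmemC c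
    have hi' : A ^ (i % (h : ℤ)) = (c : (Module.End ℂ (Fin (p ^ n) → ℂ))ˣ) := by
      rw [← hord, zpow_mod_orderOf, hi]
    have hnn : 0 ≤ i % (h : ℤ) := Int.emod_nonneg _ (by exact_mod_cast hh.ne')
    have hlt : i % (h : ℤ) < h := Int.emod_lt_of_pos _ (by exact_mod_cast hh)
    obtain ⟨j, hj⟩ := Int.eq_ofNat_of_zero_le hnn
    rw [hj, zpow_natCast] at hi'
    have hj0 : 0 < j := by
      rcases Nat.eq_zero_or_pos j with h0 | h0
      · exfalso
        apply hc
        apply Subtype.ext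
        rw [h0, pow_zero] at hi'
        exact hi'.symm
      · exact h0
    have hjh : j < h := by
      rw [hj] at hlt
      exact_mod_cast hlt
    have := htr j hj0 hjh
    rw [hi'] at this
    exact this
  have := card_dvd_of_char hcomm (by omega) τ hτ
  rw [← Nat.card_eq_fintype_card, hcardC] at this
  exact this

end Cfsg.Agent.Lib.Helper7.ExtraRep
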