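import Mathlib
import Cfsg.Prelude.Def_Characters
import Cfsg.Agent.Lib.Helper1.CharFound8
import Cfsg.Agent.Lib.Helper1.LinearChar
import Cfsg.Agent.Lib.Helper4.Gallagher
import Cfsg.Agent.Lib.Helper4.Characters
import Cfsg.Agent.S4996

set_option autoImplicit false

namespace Cfsg.Agent.Lib.Helper7.FSCount

open Cfsg.Agent.Lib.Helper1 Cfsg.Agent.Lib.Helper4
open scoped ComplexConjugate

/-- The number of homomorphisms from a finite commutative group to `ℂˣ`. -/
theorem card_hom_of_comm {A : Type*} [Group A] [Finite A] (h : ∀ a b : A, a * b = b * a) :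
    Nat.card (A →* ℂˣ) = Nat.card A := by
  let _ : CommGroup A := { ‹Group A› with mul_comm := h }
  exact CommGroup.card_monoidHom_of_hasEnoughRootsOfUnity A ℂ

/-- Divisibility of an invariant sum, orbit by orbit. -/
theorem dvd_sum_of_orbit {Λ X : Type*} [Group Λ] [MulAction Λ X] [Fintype X] (F : X → ℤ) (m : ℤ)
    (hinv : ∀ (l : Λ) (x : X), F (l • x) = F x)
    (h : ∀ x : X, m ∣ (Nat.card (MulAction.orbit Λ x) : ℤ) * F x) : m ∣ ∑ x, F x := by
  classical
  rw [← Fintype.sum_fiberwise (fun x : X => (Quotient.mk'' x : MulAction.orbitRel.Quotient Λ X)) F]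
  apply Finset.dvd_sum
  intro ω _
  induction ω using Quotient.inductionOn' with
  | h x₀ =>
    have h1 : ∀ x : {x : X // (Quotient.mk'' x : MulAction.orbitRel.Quotient Λ X) = Quotient.mk'' x₀},
        F x = F x₀ := by
      rintro ⟨x, hx⟩
      have h2 := Quotient.eq''.mp hx
      rw [MulAction.orbitRel_apply] at h2
      obtain ⟨l, rfl⟩ := h2
      exact hinv l x₀
    rw [Finset.sum_congr rfl (fun x _ => h1 x), Finset.sum_const, nsmul_eq_mul, Finset.card_univ]
    have h3 : Fintype.card {x : X // (Quotient.mk'' x : MulAction.orbitRel.Quotient Λ X) = Quotient.mk'' x₀}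
        = Nat.card (MulAction.orbit Λ x₀) := by
      rw [← Nat.card_eq_fintype_card]
      apply Nat.card_congr
      refine Equiv.subtypeEquivRight fun x => ?_
      rw [Quotient.eq'', MulAction.orbitRel_apply]
    rw [h3]
    exact h x₀

section Twist

universe u

variable {G : Type u} [Group G] [Fintype G] (N : Subgroup G) [N.Normal]

/-- Multiplication of an irreducible character by a linear character of `G ⧸ N`. -/
noncomputable def twist (f : (G ⧸ N) →* ℂˣ) (χ : Cfsg.IrrCharacter G) : Cfsg.IrrCharacter G :=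
  ⟨fun g => ((f (g : G ⧸ N) : ℂˣ) : ℂ) * χ.1 g,
    isIrrCharacter_hom_mul (f.comp (QuotientGroup.mk' N)) χ.2⟩

theorem twist_apply (f : (G ⧸ N) →* ℂˣ) (χ : Cfsg.IrrCharacter G) (g : G) :
    (twist N f χ).1 g = ((f (g : G ⧸ N) : ℂˣ) : ℂ) * χ.1 g := rfl

/-- The twisting action of the linear characters of `G ⧸ N` on the irreducible characters. -/
@[reducible] noncomputable def twistAction : MulAction ((G ⧸ N) →* ℂˣ) (Cfsg.IrrCharacter G) where
  smul := twist N
  one_smul χ := by
    apply Subtype.ext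
    funext g
    show (twist N 1 χ).1 g = χ.1 g
    rw [twist_apply]
    simp
  mul_smul f f' χ := by
    apply Subtype.ext
    funext g
    show (twist N (f * f') χ).1 g = (twist N f (twist N f' χ)).1 g
    rw [twist_apply, twist_apply, twist_apply]
    simp [mul_assoc]

theorem twist_apply_one (f : (G ⧸ N) →* ℂˣ) (χ : Cfsg.IrrCharacter G) :
    (twist N f χ).1 1 = χ.1 1 := by
  rw [twist_apply]
  simp

/-- The Frobenius–Schur sum is invariant under twisting by characters of `G ⧸ N` when all squares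
lie in `N`. -/
theorem twist_sum_sq (hsq : ∀ g : G, g * g ∈ N) (f : (G ⧸ N) →* ℂˣ) (χ : Cfsg.IrrCharacter G) :
    ∑ s : G, (twist N f χ).1 (s * s) = ∑ s : G, χ.1 (s * s) := by
  refine Finset.sum_congr rfl fun s _ => ?_
  rw [twist_apply]
  have h1 : ((s * s : G) : G ⧸ N) = 1 := (QuotientGroup.eq_one_iff _).mpr (hsq s)
  rw [h1, map_one]
  simp

/-- The stabiliser of an irreducible character under twisting has order at most the square of the
degree. -/
theorem card_le_of_twist_eq (χ : Cfsg.IrrCharacter G) (d : ℕ) (hd : χ.1 1 = d)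
    (S : Set ((G ⧸ N) →* ℂˣ)) (hS : ∀ f ∈ S, twist N f χ = χ) : Nat.card S ≤ d ^ 2 := by
  classical
  have hfinI : Fintype (Cfsg.IrrCharacter G) := Fintype.ofFinite _
  have hfinS : Fintype S := Fintype.ofFinite _
  -- the character `χ χ̄`
  set θ : G → ℂ := fun g => χ.1 g * conj (χ.1 g) with hθ
  have hθc : Cfsg.IsCharacter G θ := Cfsg.Agent.S4996.isCharacter_normSq (isCharacter_of_irr χ.2)
  have hθcf : Cfsg.IsClassFunction G θ := isClassFunction_of_isCharacter hθc
  -- multiplicities
  have hm : ∀ ψ : Cfsg.IrrCharacter G, ∃ m : ℕ, Cfsg.classInner θ ψ = m :=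
    fun ψ => classInner_char_irr_nat hθc ψ.2
  choose m hm using hm
  -- degrees
  have hdeg : ∀ ψ : Cfsg.IrrCharacter G, ∃ e : ℕ, ψ.1 1 = e := by
    intro ψ
    obtain ⟨n, ρ, _, hρ⟩ := ψ.2
    refine ⟨n, ?_⟩
    rw [← hρ, Representation.char_one]
    simp
  choose e he using hdeg
  -- expansion at 1
  have hexp := congrFun (class_function_expansion θ hθcf) 1
  have h1 : ((d ^ 2 : ℕ) : ℂ) = ((∑ ψ : Cfsg.IrrCharacter G, m ψ * e ψ : ℕ) : ℂ) := by
    have h2 : θ 1 = ((d ^ 2 : ℕ) : ℂ) := by
      rw [hθ]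
      simp only
      rw [hd, Complex.conj_natCast]
      push_cast
      ring
    rw [← h2, hexp, Finset.sum_apply]
    push_cast
    refine Finset.sum_congr rfl fun ψ _ => ?_
    rw [Pi.smul_apply, smul_eq_mul, hm ψ, he ψ]
  have h3 : d ^ 2 = ∑ ψ : Cfsg.IrrCharacter G, m ψ * e ψ := by exact_mod_cast h1
  -- the linear characters in `S`
  let ι : S → Cfsg.IrrCharacter G := fun f =>
    ⟨fun g => (((f.1.comp (QuotientGroup.mk' N)) g : ℂˣ) : ℂ),
      isIrrCharacter_of_hom (f.1.comp (QuotientGroup.mk' N))⟩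
  have hι : Function.Injective ι := by
    intro f f' hff
    apply Subtype.ext
    apply MonoidHom.ext
    intro x
    obtain ⟨g, rfl⟩ := QuotientGroup.mk_surjective x
    have h4 := congrFun (congrArg Subtype.val hff) g
    exact Units.ext h4
  have hmι : ∀ f : S, m (ι f) = 1 := by
    intro f
    have h5 : Cfsg.classInner θ (ι f).1 = 1 := by
      rw [← classInner_irr_self χ.2]
      unfold Cfsg.classInner
      congr 1
      refine Finset.sum_congr rfl fun g _ => ?_
      have h6 := congrFun (congrArg Subtype.val (hS f.1 f.2)) g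
      rw [twist_apply] at h6
      show χ.1 g * conj (χ.1 g) * conj ((f.1 (g : G ⧸ N) : ℂˣ) : ℂ) = χ.1 g * conj (χ.1 g)
      have h9 : conj ((f.1 (g : G ⧸ N) : ℂˣ) : ℂ) * conj (χ.1 g) = conj (χ.1 g) := by
        rw [← map_mul, h6]
      rw [mul_assoc, mul_comm (conj (χ.1 g)), h9]
    have h7 : ((m (ι f) : ℕ) : ℂ) = 1 := by rw [← hm, h5]
    exact_mod_cast h7
  have heι : ∀ f : S, e (ι f) = 1 := by
    intro f
    have h8 : ((e (ι f) : ℕ) : ℂ) = 1 := by
      rw [← he]
      show (((f.1.comp (QuotientGroup.mk' N)) 1 : ℂˣ) : ℂ) = 1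
      rw [map_one]
      simp
    exact_mod_cast h8
  calc Nat.card S = Fintype.card S := Nat.card_eq_fintype_card
    _ = ∑ _f : S, 1 := by simp
    _ = ∑ f : S, m (ι f) * e (ι f) := by
      refine Finset.sum_congr rfl fun f _ => ?_
      rw [hmι, heι]
    _ = ∑ ψ ∈ Finset.univ.image ι, m ψ * e ψ := by
      rw [Finset.sum_image]
      intro a _ b _ hab
      exact hι hab
    _ ≤ ∑ ψ : Cfsg.IrrCharacter G, m ψ * e ψ :=
      Finset.sum_le_sum_of_subset (Finset.subset_univ _)
    _ = d ^ 2 := h3.symm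

end Twist

end Cfsg.Agent.Lib.Helper7.FSCount
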