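import Mathlib
import Cfsg.Agent.Lib.Helper7.FSCount1
import Cfsg.Agent.Lib.Lead.Frattini
import Cfsg.Agent.Lib.Lead.Frattini2
import Cfsg.Agent.Lib.Lead.BurnsideBasis

set_option autoImplicit false

namespace Cfsg.Agent.Lib.Helper7.FSCount

open Cfsg.Agent.Lib.Helper1 Cfsg.Agent.Lib.Helper4 Cfsg.Agent.Lib.Lead
open scoped ComplexConjugate

section TwistHom

universe u

variable {G : Type u} [Group G] [Fintype G]

/-- Multiplication of an irreducible character by a linear character of `G`. -/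
noncomputable def twistHom (f : G →* ℂˣ) (χ : Cfsg.IrrCharacter G) : Cfsg.IrrCharacter G :=
  ⟨fun g => ((f g : ℂˣ) : ℂ) * χ.1 g, isIrrCharacter_hom_mul f χ.2⟩

theorem twistHom_apply (f : G →* ℂˣ) (χ : Cfsg.IrrCharacter G) (g : G) :
    (twistHom f χ).1 g = ((f g : ℂˣ) : ℂ) * χ.1 g := rfl

theorem twist_eq_twistHom (N : Subgroup G) [N.Normal] (f : (G ⧸ N) →* ℂˣ)
    (χ : Cfsg.IrrCharacter G) : twist N f χ = twistHom (f.comp (QuotientGroup.mk' N)) χ := rfl

theorem twistHom_apply_one (f : G →* ℂˣ) (χ : Cfsg.IrrCharacter G) :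
    (twistHom f χ).1 1 = χ.1 1 := by
  rw [twistHom_apply]
  simp

theorem twistHom_comm (f f' : G →* ℂˣ) (χ : Cfsg.IrrCharacter G) :
    twistHom f (twistHom f' χ) = twistHom f' (twistHom f χ) := by
  apply Subtype.ext
  funext g
  rw [twistHom_apply, twistHom_apply, twistHom_apply, twistHom_apply]
  ring

/-- The stabiliser of an irreducible character under twisting by linear characters has order at
most the square of the degree. -/
theorem card_le_of_twistHom_eq (χ : Cfsg.IrrCharacter G) (d : ℕ) (hd : χ.1 1 = d)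
    (S : Set (G →* ℂˣ)) (hS : ∀ f ∈ S, twistHom f χ = χ) : Nat.card S ≤ d ^ 2 := by
  classical
  have hfinI : Fintype (Cfsg.IrrCharacter G) := Fintype.ofFinite _
  have hfinS : Fintype S := Fintype.ofFinite _
  set θ : G → ℂ := fun g => χ.1 g * conj (χ.1 g) with hθ
  have hθc : Cfsg.IsCharacter G θ := Cfsg.Agent.S4996.isCharacter_normSq (isCharacter_of_irr χ.2)
  have hθcf : Cfsg.IsClassFunction G θ := isClassFunction_of_isCharacter hθc
  have hm : ∀ ψ : Cfsg.IrrCharacter G, ∃ m : ℕ, Cfsg.classInner θ ψ = m :=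
    fun ψ => classInner_char_irr_nat hθc ψ.2
  choose m hm using hm
  have hdeg : ∀ ψ : Cfsg.IrrCharacter G, ∃ e : ℕ, ψ.1 1 = e := by
    intro ψ
    obtain ⟨n, ρ, _, hρ⟩ := ψ.2
    refine ⟨n, ?_⟩
    rw [← hρ, Representation.char_one]
    simp
  choose e he using hdeg
  have hexp := congrFun (class_function_expansion θ hθcf) 1
  have h1 : ((d ^ 2 : ℕ) : ℂ) = ((∑ ψ : Cfsg.IrrCharacter G, m ψ * e ψ : ℕ) : ℂ) := by
    have h2 : θ 1 = ((d ^ 2 : ℕ) : ℂ) := by
      rw [hθ]
      simp only
      rw [hd, Complex.conj_natCast]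
      push_cast
      ring
    rw [← h2, hexp, Finset.sum_apply]
    push_cast
    refine Finset.sum_congr rfl fun ψ _ => ?_
    rw [Pi.smul_apply, smul_eq_mul, hm ψ, he ψ]
  have h3 : d ^ 2 = ∑ ψ : Cfsg.IrrCharacter G, m ψ * e ψ := by exact_mod_cast h1
  let ι : S → Cfsg.IrrCharacter G := fun f =>
    ⟨fun g => ((f.1 g : ℂˣ) : ℂ), isIrrCharacter_of_hom f.1⟩
  have hι : Function.Injective ι := by
    intro f f' hff
    apply Subtype.ext
    apply MonoidHom.ext
    intro g
    have h4 := congrFun (congrArg Subtype.val hff) g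
    exact Units.ext h4
  have hmι : ∀ f : S, m (ι f) = 1 := by
    intro f
    have h5 : Cfsg.classInner θ (ι f).1 = 1 := by
      rw [← classInner_irr_self χ.2]
      unfold Cfsg.classInner
      congr 1
      refine Finset.sum_congr rfl fun g _ => ?_
      have h6 := congrFun (congrArg Subtype.val (hS f.1 f.2)) g
      rw [twistHom_apply] at h6
      show χ.1 g * conj (χ.1 g) * conj ((f.1 g : ℂˣ) : ℂ) = χ.1 g * conj (χ.1 g)
      have h9 : conj ((f.1 g : ℂˣ) : ℂ) * conj (χ.1 g) = conj (χ.1 g) := by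
        rw [← map_mul, h6]
      rw [mul_assoc, mul_comm (conj (χ.1 g)), h9]
    have h7 : ((m (ι f) : ℕ) : ℂ) = 1 := by rw [← hm, h5]
    exact_mod_cast h7
  have heι : ∀ f : S, e (ι f) = 1 := by
    intro f
    have h8 : ((e (ι f) : ℕ) : ℂ) = 1 := by
      rw [← he]
      show ((f.1 1 : ℂˣ) : ℂ) = 1
      rw [map_one]
      simp
    exact_mod_cast h8
  calc Nat.card S = Fintype.card S := Nat.card_eq_fintype_card
    _ = ∑ _f : S, 1 := by simp
    _ = ∑ f : S, m (ι f) * e (ι f) := by
      refine Finset.sum_congr rfl fun f _ => ?_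
      rw [hmι, heι]
    _ = ∑ ψ ∈ Finset.univ.image ι, m ψ * e ψ := by
      rw [Finset.sum_image]
      intro a _ b _ hab
      exact hι hab
    _ ≤ ∑ ψ : Cfsg.IrrCharacter G, m ψ * e ψ :=
      Finset.sum_le_sum_of_subset (Finset.subset_univ _)
    _ = d ^ 2 := h3.symm

end TwistHom

section Frattini

variable {G : Type*} [Group G] [Finite G]

/-- A linear character of exponent four has its square trivial on the Frattini subgroup. -/
theorem sq_eq_one_of_mem_frattini (μ : G →* ℂˣ) (h4 : ∀ g, μ g ^ 4 = 1) :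
    ∀ g ∈ frattini G, μ g ^ 2 = 1 := by
  haveI : Fact (Nat.Prime 2) := ⟨Nat.prime_two⟩
  have hle : frattini G ≤ (μ ^ 2).ker := by
    apply frattini_le_of_elementary_quotient (p := 2)
    · exact Abelianization.commutator_subset_ker (μ ^ 2)
    · intro x
      rw [MonoidHom.mem_ker, MonoidHom.pow_apply, map_pow, ← pow_mul]
      exact h4 x
  intro g hg
  have := MonoidHom.mem_ker.mp (hle hg)
  rwa [MonoidHom.pow_apply] at this

/-- If the derived subgroup of a finite `2`-group is not the Frattini subgroup, there is a linear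
character of order exactly four. -/
theorem exists_hom_order_four (hG : IsPGroup 2 G) (hne : commutator G ≠ frattini G) :
    ∃ μ : G →* ℂˣ, (∀ g, μ g ^ 4 = 1) ∧ ∃ g, μ g ^ 2 ≠ 1 := by
  haveI : Fact (Nat.Prime 2) := ⟨Nat.prime_two⟩
  have hle := commutator_le_frattini_of_isPGroup hG
  have hex : ∃ x₀ : G, x₀ ^ 2 ∉ commutator G := by
    by_contra hcon
    push Not at hcon
    exact hne (le_antisymm hle (frattini_le_of_elementary_quotient (commutator G) le_rfl hcon))
  obtain ⟨x₀, hx₀⟩ := hex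
  have ha₀ : (Abelianization.of x₀) ^ 2 ≠ 1 := by
    intro h
    apply hx₀
    rw [← map_pow, ← MonoidHom.mem_ker, Abelianization.ker_of] at h
    exact h
  have hA : IsPGroup 2 (Abelianization G) := hG.to_quotient (commutator G)
  obtain ⟨j, hj⟩ := (IsPGroup.iff_orderOf.mp hA) (Abelianization.of x₀)
  have hj2 : 2 ≤ j := by
    by_contra hlt
    push Not at hlt
    apply ha₀
    apply orderOf_dvd_iff_pow_eq_one.mp
    rw [hj]
    calc 2 ^ j ∣ 2 ^ 1 := pow_dvd_pow 2 (by omega)
      _ = 2 := pow_one 2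
  set a₁ : Abelianization G := (Abelianization.of x₀) ^ (2 ^ (j - 2)) with ha₁
  have ho : orderOf a₁ = 4 := by
    rw [ha₁, orderOf_pow_of_dvd (by positivity) (by rw [hj]; exact pow_dvd_pow 2 (by omega)), hj]
    have : 2 ^ j = 2 ^ (j - 2) * 4 := by
      rw [show (4 : ℕ) = 2 ^ 2 by norm_num, ← pow_add]
      congr 1
      omega
    rw [this, Nat.mul_div_cancel_left _ (by positivity)]
  obtain ⟨e⟩ := CommGroup.monoidHom_mulEquiv_of_hasEnoughRootsOfUnity (Abelianization G) ℂ
  set μ' : Abelianization G →* ℂˣ := e.symm a₁ with hμ'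
  have hoμ : orderOf μ' = 4 := by rw [hμ', MulEquiv.orderOf_eq, ho]
  have h4 : μ' ^ 4 = 1 := by rw [← hoμ]; exact pow_orderOf_eq_one μ'
  have h2 : μ' ^ 2 ≠ 1 := by
    intro h
    have := orderOf_dvd_of_pow_eq_one h
    rw [hoμ] at this
    omega
  refine ⟨μ'.comp Abelianization.of, ?_, ?_⟩
  · intro g
    have := congrArg (fun f : Abelianization G →* ℂˣ => f (Abelianization.of g)) h4
    simpa [MonoidHom.pow_apply] using this
  · by_contra hcon
    push Not at hcon
    apply h2
    apply MonoidHom.ext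
    intro a
    obtain ⟨g, rfl⟩ : ∃ g : G, Abelianization.of g = a := QuotientGroup.mk_surjective a
    rw [MonoidHom.pow_apply]
    exact hcon g

/-- A finite `2`-group whose Frattini quotient has order at most two is cyclic. -/
theorem isCyclic_of_index_frattini (hG : IsPGroup 2 G) (n : ℕ) (hn : (frattini G).index = 2 ^ n)
    (hn1 : n ≤ 1) : IsCyclic G := by
  classical
  haveI : Fact (Nat.Prime 2) := ⟨Nat.prime_two⟩
  have hfin : Fintype G := Fintype.ofFinite G
  obtain ⟨T, -, hTc, hT⟩ := (burnside_basis 2 n hG hn).1 Finset.univ (by simp)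
  have hT1 : T.card ≤ 1 := hTc ▸ hn1
  rcases Finset.card_le_one_iff_subset_singleton.mp hT1 with ⟨x, hx⟩
  rw [isCyclic_iff_exists_zpowers_eq_top]
  refine ⟨x, ?_⟩
  rw [eq_top_iff, ← hT, Subgroup.closure_le]
  intro y hy
  have := hx hy
  rw [Finset.mem_singleton] at this
  rw [this]
  exact Subgroup.mem_zpowers x

end Frattini

end Cfsg.Agent.Lib.Helper7.FSCount
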