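import Mathlib

set_option autoImplicit false

/-! Involutory automorphisms of `p`-groups, `p` odd: decomposition, fixed-point-free action,
generation by the centralizers of the involutions of a four-group. -/

namespace Cfsg.Agent.Lib.Helper7.FG

universe u

section basic
variable {P : Type u} [Group P]

/-- square roots in a `p`-group, `p` odd -/
theorem exists_sqrt {p : ℕ} (hp : p.Prime) (hp2 : p ≠ 2) (hP : IsPGroup p P) (y : P) :
    ∃ k : ℕ, y ^ k * y ^ k = y := by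
  obtain ⟨m, hm⟩ := hP y
  have hodd : Odd (p ^ m) := (hp.odd_of_ne_two hp2).pow
  obtain ⟨r, hr⟩ := hodd
  refine ⟨r + 1, ?_⟩
  rw [← pow_add]
  have h1 : r + 1 + (r + 1) = p ^ m + 1 := by omega
  rw [h1, pow_succ, hm, one_mul]

/-- no involutions in a `p`-group, `p` odd -/
theorem eq_one_of_mul_self {p : ℕ} (hp : p.Prime) (hp2 : p ≠ 2) (hP : IsPGroup p P) {x : P}
    (hx : x * x = 1) : x = 1 := by
  obtain ⟨k, hk⟩ := exists_sqrt hp hp2 hP x
  have h1 : ∀ n : ℕ, (x ^ n) * (x ^ n) = 1 := by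
    intro n
    rw [← pow_add, ← two_mul, pow_mul, pow_two, hx, one_pow]
  rw [← hk]
  exact h1 k

theorem eq_one_of_eq_inv {p : ℕ} (hp : p.Prime) (hp2 : p ≠ 2) (hP : IsPGroup p P) {x : P}
    (hx : x = x⁻¹) : x = 1 := by
  apply eq_one_of_mul_self hp hp2 hP
  nth_rewrite 1 [hx]
  exact inv_mul_cancel x

/-- decomposition of an element with respect to an involutory automorphism -/
theorem decomp {p : ℕ} (hp : p.Prime) (hp2 : p ≠ 2) (hP : IsPGroup p P) (T : MulAut P)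
    (hTT : ∀ x, T (T x) = x) (x : P) :
    ∃ w ∈ Subgroup.zpowers (x⁻¹ * T x), T (x * w) = x * w ∧ T w = w⁻¹ := by
  obtain ⟨k, hk⟩ := exists_sqrt hp hp2 hP (x⁻¹ * T x)
  have hTy : T (x⁻¹ * T x) = (x⁻¹ * T x)⁻¹ := by
    rw [map_mul, map_inv, hTT, mul_inv_rev, inv_inv]
  have h2 : T ((x⁻¹ * T x) ^ k) = ((x⁻¹ * T x) ^ k)⁻¹ := by rw [map_pow, hTy, inv_pow]
  refine ⟨(x⁻¹ * T x) ^ k, Subgroup.npow_mem_zpowers _ _, ?_, h2⟩
  rw [map_mul, h2]
  have h3 : T x = x * (x⁻¹ * T x) := by group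
  generalize x⁻¹ * T x = y at *
  rw [h3]
  nth_rewrite 1 [← hk]
  group

/-- an involutory automorphism without fixed points on an invariant subgroup inverts it -/
theorem inverts_of_fpf {p : ℕ} (hp : p.Prime) (hp2 : p ≠ 2) (hP : IsPGroup p P) (T : MulAut P)
    (hTT : ∀ x, T (T x) = x) (H : Subgroup P) (hH : ∀ x ∈ H, T x ∈ H)
    (hfix : ∀ x ∈ H, T x = x → x = 1) : ∀ x ∈ H, T x = x⁻¹ := by
  intro x hx
  obtain ⟨w, hw, h1, h2⟩ := decomp hp hp2 hP T hTT x
  have hyH : x⁻¹ * T x ∈ H := H.mul_mem (H.inv_mem hx) (hH x hx)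
  have hwH : w ∈ H := (Subgroup.zpowers_le.2 hyH) hw
  have h3 := hfix (x * w) (H.mul_mem hx hwH) h1
  have h4 : x = w⁻¹ := eq_inv_of_mul_eq_one_left h3
  rw [h4, map_inv, h2]

theorem comm_of_fpf {p : ℕ} (hp : p.Prime) (hp2 : p ≠ 2) (hP : IsPGroup p P) (T : MulAut P)
    (hTT : ∀ x, T (T x) = x) (H : Subgroup P) (hH : ∀ x ∈ H, T x ∈ H)
    (hfix : ∀ x ∈ H, T x = x → x = 1) : ∀ x ∈ H, ∀ y ∈ H, x * y = y * x := by
  intro x hx y hy
  have h := inverts_of_fpf hp hp2 hP T hTT H hH hfix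
  have h1 := h (x * y) (H.mul_mem hx hy)
  rw [map_mul, h x hx, h y hy, mul_inv_rev] at h1
  have h2 : (x⁻¹ * y⁻¹)⁻¹ = (y⁻¹ * x⁻¹)⁻¹ := by rw [h1]
  simpa using h2.symm

/-- an involutory automorphism of a cyclic `p`-group, `p` odd, is trivial or the inversion -/
theorem fix_or_inv {p : ℕ} (hp : p.Prime) (hp2 : p ≠ 2) (hP : IsPGroup p P) (T : MulAut P)
    (a : P) (hTT : T (T a) = a) (hTa : T a ∈ Subgroup.zpowers a) : T a = a ∨ T a = a⁻¹ := by
  obtain ⟨k, hk⟩ := Subgroup.mem_zpowers_iff.1 hTa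
  have h1 : a ^ (k * k) = a := by
    rw [zpow_mul, hk, ← map_zpow, hk, hTT]
  have h2 : a ^ (k * k - 1) = 1 := by
    rw [zpow_sub, h1, zpow_one, mul_inv_cancel]
  haveI := Fact.mk hp
  obtain ⟨m, hm⟩ := (IsPGroup.iff_orderOf.1 hP) a
  have h3 : ((p ^ m : ℕ) : ℤ) ∣ (k - 1) * (k + 1) := by
    rw [← hm]
    have := orderOf_dvd_iff_zpow_eq_one.2 h2
    have e : k * k - 1 = (k - 1) * (k + 1) := by ring
    rwa [e] at this
  rcases Nat.eq_zero_or_pos m with hm0 | hm0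
  · left
    rw [hm0, pow_zero, orderOf_eq_one_iff] at hm
    rw [hm, map_one]
  have hpZ : Prime (p : ℤ) := Nat.prime_iff_prime_int.1 hp
  have hp_dvd : (p : ℤ) ∣ (k - 1) * (k + 1) := by
    refine dvd_trans ?_ h3
    push_cast
    exact dvd_pow_self _ hm0.ne'
  have hnot2 : ¬ ((p : ℤ) ∣ 2) := by
    intro h
    have h' : p ∣ 2 := by exact_mod_cast h
    have := (Nat.prime_dvd_prime_iff_eq hp Nat.prime_two).1 h'
    exact hp2 this
  rcases hpZ.dvd_or_dvd hp_dvd with h | h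
  · -- p ∣ k - 1, so p ∤ k + 1
    have hn : ¬ (p : ℤ) ∣ (k + 1) := by
      intro h'
      apply hnot2
      have := dvd_sub h' h
      have e : k + 1 - (k - 1) = 2 := by ring
      rwa [e] at this
    have hc : IsCoprime ((p ^ m : ℕ) : ℤ) (k + 1) := by
      push_cast
      exact IsCoprime.pow_left ((Prime.coprime_iff_not_dvd hpZ).2 hn)
    have h4 := hc.dvd_of_dvd_mul_right h3
    left
    rw [← hm] at h4
    have h5 := orderOf_dvd_iff_zpow_eq_one.1 h4
    rw [zpow_sub, zpow_one, mul_inv_eq_one] at h5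
    rw [← hk, h5]
  · have hn : ¬ (p : ℤ) ∣ (k - 1) := by
      intro h'
      apply hnot2
      have := dvd_sub h h'
      have e : k + 1 - (k - 1) = 2 := by ring
      rwa [e] at this
    have hc : IsCoprime ((p ^ m : ℕ) : ℤ) (k - 1) := by
      push_cast
      exact IsCoprime.pow_left ((Prime.coprime_iff_not_dvd hpZ).2 hn)
    have h4 := hc.dvd_of_dvd_mul_left h3
    right
    rw [← hm] at h4
    have h5 := orderOf_dvd_iff_zpow_eq_one.1 h4
    rw [zpow_add, zpow_one, mul_eq_one_iff_eq_inv] at h5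
    rw [← hk, h5]

/-- an automorphism inverting `a` inverts every power of `a` -/
theorem inv_of_mem_zpowers (T : MulAut P) {a x : P} (ha : T a = a⁻¹)
    (hx : x ∈ Subgroup.zpowers a) : T x = x⁻¹ := by
  obtain ⟨k, rfl⟩ := Subgroup.mem_zpowers_iff.1 hx
  rw [map_zpow, ha, inv_zpow]

theorem fix_of_mem_zpowers (T : MulAut P) {a x : P} (ha : T a = a)
    (hx : x ∈ Subgroup.zpowers a) : T x = x := by
  obtain ⟨k, rfl⟩ := Subgroup.mem_zpowers_iff.1 hx
  rw [map_zpow, ha]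

end basic

end Cfsg.Agent.Lib.Helper7.FG
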