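import Mathlib
import Cfsg.Agent.Lib.Helper7.FourGen1

set_option autoImplicit false

/-! Generation of a `p`-group, `p` odd, by the centralizers of the involutions of a four-group
of automorphisms. -/

namespace Cfsg.Agent.Lib.Helper7.FG

universe u

/-- the abelian (central) part of the generation lemma -/
theorem center_le_of_fix {P : Type u} [Group P] {p : ℕ} (hp : p.Prime) (hp2 : p ≠ 2)
    (hP : IsPGroup p P) (s t : MulAut P)
    (hss : ∀ x, s (s x) = x) (htt : ∀ x, t (t x) = x) (hst : ∀ x, s (t x) = t (s x))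
    (H : Subgroup P) (hs : ∀ x, s x = x → x ∈ H) (ht : ∀ x, t x = x → x ∈ H)
    (hst' : ∀ x, s (t x) = x → x ∈ H) : Subgroup.center P ≤ H := by
  intro z hz
  have hcs : ∀ φ : MulAut P, ∀ y ∈ Subgroup.center P, φ y ∈ Subgroup.center P := by
    intro φ y hy
    have h1 : (Subgroup.center P).map φ.toMonoidHom = Subgroup.center P :=
      (Subgroup.characteristic_iff_map_eq.1 Subgroup.centerCharacteristic) φ
    rw [← h1]
    exact Subgroup.mem_map_of_mem _ hy
  -- first decomposition with respect to s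
  obtain ⟨w, hw, h1, h2⟩ := decomp hp hp2 hP s hss z
  have hwZ : w ∈ Subgroup.center P :=
    (Subgroup.zpowers_le.2 ((Subgroup.center P).mul_mem ((Subgroup.center P).inv_mem hz)
      (hcs s z hz))) hw
  have hzw : z * w ∈ H := hs _ h1
  -- i = w⁻¹ is inverted by s; decompose with respect to t
  obtain ⟨w', hw', h1', h2'⟩ := decomp hp hp2 hP t htt w⁻¹
  have hiZ : w⁻¹ ∈ Subgroup.center P := (Subgroup.center P).inv_mem hwZ
  have hyZ : (w⁻¹)⁻¹ * t w⁻¹ ∈ Subgroup.center P :=
    (Subgroup.center P).mul_mem ((Subgroup.center P).inv_mem hiZ) (hcs t _ hiZ)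
  have hw'Z : w' ∈ Subgroup.center P := (Subgroup.zpowers_le.2 hyZ) hw'
  have hiw' : w⁻¹ * w' ∈ H := ht _ h1'
  -- s inverts y' = i⁻¹ t i
  have hsy : s ((w⁻¹)⁻¹ * t w⁻¹) = ((w⁻¹)⁻¹ * t w⁻¹)⁻¹ := by
    rw [map_mul, hst, map_inv, map_inv, map_inv, h2, inv_inv, inv_inv, mul_inv_rev, map_inv,
      inv_inv]
    have h5 := Subgroup.mem_center_iff.1 hiZ (t w)
    exact h5.symm
  have hsw' : s w' = w'⁻¹ := inv_of_mem_zpowers s hsy hw'
  have hj : w'⁻¹ ∈ H := by
    apply hst'
    rw [map_inv, h2', inv_inv, hsw']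
  have : z = (z * w) * ((w⁻¹ * w') * w'⁻¹) := by group
  rw [this]
  exact H.mul_mem hzw (H.mul_mem hiw' hj)

/-- a `p`-group, `p` odd, is generated by the centralizers of the three involutions of a
four-group of automorphisms -/
theorem four_gen_aux {p : ℕ} (hp : p.Prime) (hp2 : p ≠ 2) : ∀ (n : ℕ) (P : Type u) [Group P]
    [Finite P], Nat.card P = n → IsPGroup p P → ∀ (s t : MulAut P),
    (∀ x, s (s x) = x) → (∀ x, t (t x) = x) → (∀ x, s (t x) = t (s x)) →
    ∀ H : Subgroup P, (∀ x, s x = x → x ∈ H) → (∀ x, t x = x → x ∈ H) →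
    (∀ x, s (t x) = x → x ∈ H) → H = ⊤ := by
  intro n
  induction n using Nat.strong_induction_on with
  | _ n ih =>
  intro P _ _ hn hP s t hss htt hst H hs ht hst'
  have := Fact.mk hp
  rcases subsingleton_or_nontrivial P with hsub | hnt
  · exact Subsingleton.elim _ _
  have := hP.center_nontrivial
  set Z := Subgroup.center P with hZ
  have hcard : Nat.card (P ⧸ Z) < n := by
    have h1 := Subgroup.card_eq_card_quotient_mul_card_subgroup Z
    have h2 : 1 < Nat.card Z := Finite.one_lt_card
    have h3 : 0 < Nat.card (P ⧸ Z) := Nat.card_pos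
    rw [← hn, h1]
    nlinarith
  have hchar : ∀ φ : MulAut P, Z.map (φ : P →* P) = Z := fun φ =>
    (Subgroup.characteristic_iff_map_eq.1 Subgroup.centerCharacteristic) φ
  let s' : MulAut (P ⧸ Z) := QuotientGroup.congr Z Z s (hchar s)
  let t' : MulAut (P ⧸ Z) := QuotientGroup.congr Z Z t (hchar t)
  have hs'mk : ∀ x : P, s' (QuotientGroup.mk x) = QuotientGroup.mk (s x) := fun x => rfl
  have ht'mk : ∀ x : P, t' (QuotientGroup.mk x) = QuotientGroup.mk (t x) := fun x => rfl
  have hZH : Z ≤ H := center_le_of_fix hp hp2 hP s t hss htt hst H hs ht hst'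
  -- lifting fixed points
  have lift : ∀ (T : MulAut P), (∀ x, T (T x) = x) → (∀ x, T x = x → x ∈ H) →
      ∀ x : P, (QuotientGroup.mk (T x) : P ⧸ Z) = QuotientGroup.mk x → x ∈ H := by
    intro T hTT hT x hx
    have h1 : x⁻¹ * T x ∈ Z := QuotientGroup.eq.1 hx.symm
    obtain ⟨w, hw, h2, -⟩ := decomp hp hp2 hP T hTT x
    have hwZ : w ∈ Z := (Subgroup.zpowers_le.2 h1) hw
    have h3 : x * w ∈ H := hT _ h2
    have h4 : x = (x * w) * w⁻¹ := by group
    rw [h4]
    exact H.mul_mem h3 (H.inv_mem (hZH hwZ))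
  have key := ih (Nat.card (P ⧸ Z)) hcard (P ⧸ Z) rfl (hP.to_quotient Z) s' t'
    (by
      intro q
      induction q using QuotientGroup.induction_on with
      | H x => rw [hs'mk, hs'mk, hss])
    (by
      intro q
      induction q using QuotientGroup.induction_on with
      | H x => rw [ht'mk, ht'mk, htt])
    (by
      intro q
      induction q using QuotientGroup.induction_on with
      | H x => rw [ht'mk, hs'mk, hs'mk, ht'mk, hst])
    (H.map (QuotientGroup.mk' Z))
    (by
      intro q
      induction q using QuotientGroup.induction_on with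
      | H x =>
        intro hq
        rw [hs'mk] at hq
        exact Subgroup.mem_map_of_mem _ (lift s hss hs x hq))
    (by
      intro q
      induction q using QuotientGroup.induction_on with
      | H x =>
        intro hq
        rw [ht'mk] at hq
        exact Subgroup.mem_map_of_mem _ (lift t htt ht x hq))
    (by
      intro q
      induction q using QuotientGroup.induction_on with
      | H x =>
        intro hq
        rw [ht'mk, hs'mk] at hq
        have := lift (s * t) (by
          intro y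
          simp only [MulAut.mul_apply]
          rw [hst (s (t y)), hss, htt]) (by
          intro y hy
          exact hst' y hy) x hq
        exact Subgroup.mem_map_of_mem _ this)
  rw [eq_top_iff]
  intro x _
  have hx : (QuotientGroup.mk' Z) x ∈ H.map (QuotientGroup.mk' Z) := by rw [key]; trivial
  obtain ⟨h, hh, hhx⟩ := Subgroup.mem_map.1 hx
  have h1 : h⁻¹ * x ∈ Z := QuotientGroup.eq.1 hhx
  have h2 : x = h * (h⁻¹ * x) := by group
  rw [h2]
  exact H.mul_mem hh (hZH h1)

theorem four_gen {P : Type u} [Group P] [Finite P] {p : ℕ} (hp : p.Prime) (hp2 : p ≠ 2)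
    (hP : IsPGroup p P) (s t : MulAut P)
    (hss : ∀ x, s (s x) = x) (htt : ∀ x, t (t x) = x) (hst : ∀ x, s (t x) = t (s x))
    (H : Subgroup P) (hs : ∀ x, s x = x → x ∈ H) (ht : ∀ x, t x = x → x ∈ H)
    (hst' : ∀ x, s (t x) = x → x ∈ H) : H = ⊤ :=
  four_gen_aux hp hp2 _ P rfl hP s t hss htt hst H hs ht hst'

end Cfsg.Agent.Lib.Helper7.FG
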