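import Mathlib
import Cfsg.Agent.Lib.Helper7.FourGen2

set_option autoImplicit false

/-! Auxiliary lemmas on commuting involutory automorphisms with cyclic centralizers. -/

namespace Cfsg.Agent.Lib.Helper7.FG

universe u

variable {P : Type u} [Group P]

/-- the centralizer of the automorphism `T` is cyclic -/
def Cyc (T : MulAut P) : Prop := ∃ g : P, ∀ x : P, (T x = x ↔ x ∈ Subgroup.zpowers g)

/-- the subgroup of fixed points -/
def fixSub (T : MulAut P) : Subgroup P where
  carrier := {x | T x = x}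
  mul_mem' := by
    intro a b ha hb
    change T a = a at ha
    change T b = b at hb
    change T (a * b) = a * b
    rw [map_mul, ha, hb]
  one_mem' := map_one T
  inv_mem' := by
    intro a ha
    change T a = a at ha
    change T a⁻¹ = a⁻¹
    rw [map_inv, ha]

theorem mem_fixSub (T : MulAut P) (x : P) : x ∈ fixSub T ↔ T x = x := Iff.rfl

theorem ne_fix (n t : MulAut P) (a b : P) (hn : ∀ x, n x = x ↔ x ∈ Subgroup.zpowers a)
    (hta : t a = a⁻¹) (htb : t b = b) (hb : b ≠ b⁻¹) : n b ≠ b := by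
  intro h
  have h1 := inv_of_mem_zpowers t hta ((hn b).1 h)
  rw [htb] at h1
  exact hb h1

theorem not_cyc {p : ℕ} (hp : p.Prime) (hp2 : p ≠ 2) (hP : IsPGroup p P) (t n : MulAut P)
    (hnn : ∀ x, n (n x) = x) (hc : ∀ x, n (t x) = t (n x)) (b c : P)
    (htb : t b = b) (htc : t c = c) (hnb : n b = b) (hb : b ≠ b⁻¹) (hnc : n c = c⁻¹)
    (hc' : c ≠ c⁻¹) : ¬ Cyc t := by
  rintro ⟨g, hg⟩
  have hbg := (hg b).1 htb
  have hcg := (hg c).1 htc
  have htg : t g = g := (hg g).2 (Subgroup.mem_zpowers g)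
  have hng : n g ∈ Subgroup.zpowers g := by
    rw [← hg, ← hc, htg]
  rcases fix_or_inv hp hp2 hP n g (hnn g) hng with h | h
  · have := fix_of_mem_zpowers n h hcg
    rw [hnc] at this
    exact hc' this.symm
  · have := inv_of_mem_zpowers n h hbg
    rw [hnb] at this
    exact hb this

theorem comm_of {p : ℕ} (hp : p.Prime) (hp2 : p ≠ 2) (hP : IsPGroup p P) (t n : MulAut P)
    (hnn : ∀ x, n (n x) = x) (hc : ∀ x, n (t x) = t (n x)) (a : P)
    (hn : ∀ x, n x = x ↔ x ∈ Subgroup.zpowers a) (hta : t a = a⁻¹) (b c : P)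
    (htb : t b = b) (htc : t c = c) : b * c = c * b := by
  apply comm_of_fpf hp hp2 hP n hnn (fixSub t)
  · intro x hx
    rw [mem_fixSub] at hx ⊢
    rw [← hc, hx]
  · intro x hx hnx
    rw [mem_fixSub] at hx
    have h1 := inv_of_mem_zpowers t hta ((hn x).1 hnx)
    rw [hx] at h1
    exact eq_one_of_eq_inv hp hp2 hP h1
  · exact htb
  · exact htc

theorem aut_ext_of_closure {S : Set P} (hS : Subgroup.closure S = ⊤) (T T' : MulAut P)
    (h : ∀ x ∈ S, T x = T' x) : T = T' := by
  have h1 : T.toMonoidHom = T'.toMonoidHom := MonoidHom.eq_of_eqOn_dense hS h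
  ext x
  exact DFunLike.congr_fun h1 x

theorem comm_of_closure {S : Set P} (hS : Subgroup.closure S = ⊤)
    (h : ∀ x ∈ S, ∀ y ∈ S, x * y = y * x) : ∀ x y : P, x * y = y * x := by
  have h1 : Subgroup.closure S ≤ Subgroup.centralizer S := by
    rw [Subgroup.closure_le]
    intro x hx
    rw [SetLike.mem_coe, Subgroup.mem_centralizer_iff]
    intro y hy
    exact h y hy x hx
  have h2 : Subgroup.closure S ≤ Subgroup.centralizer (Subgroup.closure S : Set P) := by
    rw [Subgroup.closure_le]
    intro x hx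
    rw [SetLike.mem_coe, Subgroup.mem_centralizer_iff]
    intro y hy
    have := Subgroup.mem_centralizer_iff.1 (h1 hy) x hx
    exact this.symm
  intro x y
  have hx : x ∈ Subgroup.closure S := by rw [hS]; trivial
  have hy : y ∈ Subgroup.closure S := by rw [hS]; trivial
  exact (Subgroup.mem_centralizer_iff.1 (h2 hx) y hy).symm

end Cfsg.Agent.Lib.Helper7.FG
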