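import Mathlib
import Cfsg.Agent.Lib.Helper7.FourGen3

set_option autoImplicit false

/-! Existence of a four-group of elements with cyclic centralizers. -/

namespace Cfsg.Agent.Lib.Helper7.FG

universe u

variable {P : Type u} [Group P]

theorem exists_pair (I I₀ : Subgroup (MulAut P))
    (hIc : ∀ S ∈ I, ∀ T ∈ I, S * T = T * S) (hI2 : ∀ T ∈ I, T * T = 1)
    (hI8 : Nat.card ↥I = 8) (hI₀ : I₀ < I)
    (hdisj : ∀ T ∈ I₀, T ≠ 1 → Cyc T)
    (hprod : ∀ T ∈ I, ∀ T' ∈ I, T ≠ 1 → T' ≠ 1 → ¬ Cyc T → ¬ Cyc T' → T * T' ∈ I₀) :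
    ∃ n₁ ∈ I, ∃ n₂ ∈ I, n₁ ≠ 1 ∧ n₂ ≠ 1 ∧ n₁ ≠ n₂ ∧ Cyc n₁ ∧ Cyc n₂ ∧ Cyc (n₁ * n₂) := by
  classical
  have hfinI : Finite ↥I := Nat.finite_of_card_ne_zero (by rw [hI8]; norm_num)
  have hfin : (I : Set (MulAut P)).Finite := Set.toFinite _
  have hfin0 : (I₀ : Set (MulAut P)).Finite := hfin.subset hI₀.le
  have hIn : (I : Set (MulAut P)).ncard = 8 := by
    rw [← Nat.card_coe_set_eq]; exact hI8
  -- |I₀| ≤ 4
  have hI0n : (I₀ : Set (MulAut P)).ncard ≤ 4 := by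
    have h1 : Nat.card ↥I₀ ∣ 8 := by
      rw [← hI8]; exact Subgroup.card_dvd_of_le hI₀.le
    have h2 : Nat.card ↥I₀ ≠ 8 := by
      intro h
      have : I₀ = I := Subgroup.eq_of_le_of_card_ge hI₀.le (by rw [h, hI8])
      exact hI₀.ne this
    have h3 : Nat.card ↥I₀ ≤ 8 := Nat.le_of_dvd (by norm_num) h1
    have h4 : (I₀ : Set (MulAut P)).ncard = Nat.card ↥I₀ := by
      rw [← Nat.card_coe_set_eq]; rfl
    rw [h4]
    interval_cases h : Nat.card ↥I₀ <;> omega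
  set S : Set (MulAut P) := {T | T ∈ I ∧ T ≠ 1 ∧ Cyc T} with hS
  set B : Set (MulAut P) := {T | T ∈ I ∧ T ≠ 1 ∧ ¬ Cyc T} with hB
  have hSfin : S.Finite := hfin.subset (fun T hT => hT.1)
  have hBfin : B.Finite := hfin.subset (fun T hT => hT.1)
  have hB4 : B.ncard ≤ 4 := by
    rcases Set.eq_empty_or_nonempty B with h | ⟨b, hb⟩
    · rw [h, Set.ncard_empty]; norm_num
    · refine le_trans (Set.ncard_le_ncard_of_injOn (fun T => b * T) ?_ ?_ hfin0) hI0n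
      · intro T hT
        exact hprod b hb.1 T hT.1 hb.2.1 hT.2.1 hb.2.2 hT.2.2
      · intro T _ T' _ h
        exact mul_left_cancel h
  have hcover : (I : Set (MulAut P)) ⊆ ({1} ∪ S) ∪ B := by
    intro T hT
    by_cases h1 : T = 1
    · left; left; exact h1
    · by_cases h2 : Cyc T
      · left; right; exact ⟨hT, h1, h2⟩
      · right; exact ⟨hT, h1, h2⟩
  have hS3 : 2 < S.ncard := by
    have h1 := Set.ncard_le_ncard hcover ((((Set.finite_singleton _).union hSfin)).union hBfin)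
    have h2 := Set.ncard_union_le ({1} ∪ S) B
    have h3 := Set.ncard_union_le ({1} : Set (MulAut P)) S
    rw [Set.ncard_singleton] at h3
    omega
  obtain ⟨a, b, c, ha, hb, hc, hab, hac, hbc⟩ := (Set.two_lt_ncard_iff hSfin).1 hS3
  have hne : ∀ x ∈ I, ∀ y ∈ I, x ≠ y → x * y ≠ 1 := by
    intro x hx y hy hxy h
    apply hxy
    have := hI2 y hy
    exact mul_right_cancel (h.trans this.symm)
  by_cases h1 : Cyc (a * b)
  · exact ⟨a, ha.1, b, hb.1, ha.2.1, hb.2.1, hab, ha.2.2, hb.2.2, h1⟩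
  by_cases h2 : Cyc (a * c)
  · exact ⟨a, ha.1, c, hc.1, ha.2.1, hc.2.1, hac, ha.2.2, hc.2.2, h2⟩
  by_cases h3 : Cyc (b * c)
  · exact ⟨b, hb.1, c, hc.1, hb.2.1, hc.2.1, hbc, hb.2.2, hc.2.2, h3⟩
  exfalso
  have h4 := hprod (a * b) (I.mul_mem ha.1 hb.1) (a * c) (I.mul_mem ha.1 hc.1)
    (hne a ha.1 b hb.1 hab) (hne a ha.1 c hc.1 hac) h1 h2
  have h5 : a * b * (a * c) = b * c := by
    rw [hIc a ha.1 b hb.1, mul_assoc, ← mul_assoc a a c, hI2 a ha.1, one_mul]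
  rw [h5] at h4
  exact h3 (hdisj _ h4 (hne b hb.1 c hc.1 hbc))

end Cfsg.Agent.Lib.Helper7.FG
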