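import Mathlib
import Cfsg.Agent.Lib.Helper7.FourGen4

set_option autoImplicit false

/-! The structure of an elementary abelian group of order 8 of automorphisms of a `p`-group
with few broad elements. -/

namespace Cfsg.Agent.Lib.Helper7.FG

universe u

variable {P : Type u} [Group P]

structure Data (I : Subgroup (MulAut P)) (t₁ t₂ t₃ : MulAut P) (a₁ a₂ a₃ : P) : Prop where
  m1 : t₁ ∈ I
  m2 : t₂ ∈ I
  m3 : t₃ ∈ I
  gen : Subgroup.closure ({a₁, a₂, a₃} : Set P) = ⊤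
  h11 : t₁ a₁ = a₁⁻¹
  h12 : t₁ a₂ = a₂
  h13 : t₁ a₃ = a₃
  h21 : t₂ a₁ = a₁
  h22 : t₂ a₂ = a₂⁻¹
  h23 : t₂ a₃ = a₃
  h31 : t₃ a₁ = a₁
  h32 : t₃ a₂ = a₂
  h33 : t₃ a₃ = a₃⁻¹
  ne1 : a₁ ≠ a₁⁻¹
  ne2 : a₂ ≠ a₂⁻¹
  ne3 : a₃ ≠ a₃⁻¹
  all : ∀ T ∈ I, T = 1 ∨ T = t₁ ∨ T = t₂ ∨ T = t₃ ∨ T = t₁ * t₂ ∨ T = t₁ * t₃ ∨ T = t₂ * t₃ ∨
    T = t₁ * t₂ * t₃
  b1 : ¬ Cyc t₁
  b2 : ¬ Cyc t₂
  b3 : ¬ Cyc t₃
  c12 : Cyc (t₁ * t₂)
  c13 : Cyc (t₁ * t₃)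
  c23 : Cyc (t₂ * t₃)
  c123 : Cyc (t₁ * t₂ * t₃)
  comm : ∀ x y : P, x * y = y * x

theorem agree (T T' : MulAut P) (a : P) (hT : T a = a ∨ T a = a⁻¹) (hT' : T' a = a ∨ T' a = a⁻¹)
    (h : T a = a ↔ T' a = a) : T a = T' a := by
  rcases hT with h1 | h1
  · rw [h1, h.1 h1]
  · rcases hT' with h2 | h2
    · rw [h.2 h2, h2]
    · rw [h1, h2]

theorem exists_data [Finite P] {p : ℕ} (hp : p.Prime) (hp2 : p ≠ 2) (hP : IsPGroup p P)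
    (I I₀ : Subgroup (MulAut P))
    (hIc : ∀ S ∈ I, ∀ T ∈ I, S * T = T * S) (hI2 : ∀ T ∈ I, T * T = 1)
    (hI8 : Nat.card ↥I = 8) (hI₀ : I₀ < I)
    (hdisj : ∀ T ∈ I₀, T ≠ 1 → Cyc T)
    (hprod : ∀ T ∈ I, ∀ T' ∈ I, T ≠ 1 → T' ≠ 1 → ¬ Cyc T → ¬ Cyc T' → T * T' ∈ I₀) :
    ∃ t₁ t₂ t₃ a₁ a₂ a₃, Data I t₁ t₂ t₃ a₁ a₂ a₃ := by
  classical
  obtain ⟨n₁, hn₁, n₂, hn₂, hn₁1, hn₂1, hn12, ⟨a₁, ha₁⟩, ⟨a₂, ha₂⟩, ⟨a₃, ha₃⟩⟩ :=
    exists_pair I I₀ hIc hI2 hI8 hI₀ hdisj hprod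
  have hinv : ∀ T ∈ I, ∀ x, T (T x) = x := by
    intro T hT x
    rw [← MulAut.mul_apply, hI2 T hT, MulAut.one_apply]
  have hcomm : ∀ S ∈ I, ∀ T ∈ I, ∀ x, S (T x) = T (S x) := by
    intro S hS T hT x
    rw [← MulAut.mul_apply, ← MulAut.mul_apply, hIc S hS T hT]
  have hn₃ : n₁ * n₂ ∈ I := I.mul_mem hn₁ hn₂
  have hgen : Subgroup.closure ({a₁, a₂, a₃} : Set P) = ⊤ := by
    apply four_gen hp hp2 hP n₁ n₂ (hinv n₁ hn₁) (hinv n₂ hn₂) (hcomm n₁ hn₁ n₂ hn₂)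
    · intro x hx
      exact (Subgroup.zpowers_le.2 (Subgroup.subset_closure (by simp))) ((ha₁ x).1 hx)
    · intro x hx
      exact (Subgroup.zpowers_le.2 (Subgroup.subset_closure (by simp))) ((ha₂ x).1 hx)
    · intro x hx
      exact (Subgroup.zpowers_le.2 (Subgroup.subset_closure (by simp))) ((ha₃ x).1 hx)
  have hfi : ∀ T ∈ I, ∀ (n : MulAut P) (a : P), n ∈ I →
      (∀ x, n x = x ↔ x ∈ Subgroup.zpowers a) → T a = a ∨ T a = a⁻¹ := by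
    intro T hT n a hn ha
    apply fix_or_inv hp hp2 hP T a (hinv T hT a)
    rw [← ha, hcomm n hn T hT, (ha a).2 (Subgroup.mem_zpowers a)]
  have ext3 : ∀ T T' : MulAut P, T a₁ = T' a₁ → T a₂ = T' a₂ → T a₃ = T' a₃ → T = T' := by
    intro T T' h1 h2 h3
    apply aut_ext_of_closure hgen
    intro x hx
    simp only [Set.mem_insert_iff, Set.mem_singleton_iff] at hx
    rcases hx with hx | hx | hx
    · rw [hx]; exact h1
    · rw [hx]; exact h2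
    · rw [hx]; exact h3
  let pat : ↥I → Bool × Bool × Bool := fun T =>
    (decide (T.1 a₁ = a₁), decide (T.1 a₂ = a₂), decide (T.1 a₃ = a₃))
  have hpat_inj : Function.Injective pat := by
    intro T T' h
    simp only [pat, Prod.mk.injEq, decide_eq_decide] at h
    obtain ⟨h1, h2, h3⟩ := h
    apply Subtype.ext
    apply ext3
    · exact agree _ _ _ (hfi T.1 T.2 n₁ _ hn₁ ha₁) (hfi T'.1 T'.2 n₁ _ hn₁ ha₁) h1
    · exact agree _ _ _ (hfi T.1 T.2 n₂ _ hn₂ ha₂) (hfi T'.1 T'.2 n₂ _ hn₂ ha₂) h2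
    · exact agree _ _ _ (hfi T.1 T.2 _ _ hn₃ ha₃) (hfi T'.1 T'.2 _ _ hn₃ ha₃) h3
  have hfinI : Finite ↥I := Nat.finite_of_card_ne_zero (by rw [hI8]; norm_num)
  have hbij : Function.Bijective pat := by
    haveI : Fintype ↥I := Fintype.ofFinite _
    rw [Fintype.bijective_iff_injective_and_card]
    refine ⟨hpat_inj, ?_⟩
    rw [← Nat.card_eq_fintype_card, hI8]
    rfl
  obtain ⟨⟨t₁, ht₁⟩, hp1⟩ := hbij.2 (false, true, true)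
  obtain ⟨⟨t₂, ht₂⟩, hp2'⟩ := hbij.2 (true, false, true)
  obtain ⟨⟨t₃, ht₃⟩, hp3⟩ := hbij.2 (true, true, false)
  simp only [pat, Prod.mk.injEq, decide_eq_true_eq, decide_eq_false_iff_not] at hp1 hp2' hp3
  obtain ⟨h11', h12, h13⟩ := hp1
  obtain ⟨h21, h22', h23⟩ := hp2'
  obtain ⟨h31, h32, h33'⟩ := hp3
  have h11 : t₁ a₁ = a₁⁻¹ := (hfi t₁ ht₁ n₁ a₁ hn₁ ha₁).resolve_left h11'
  have h22 : t₂ a₂ = a₂⁻¹ := (hfi t₂ ht₂ n₂ a₂ hn₂ ha₂).resolve_left h22'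
  have h33 : t₃ a₃ = a₃⁻¹ := (hfi t₃ ht₃ _ a₃ hn₃ ha₃).resolve_left h33'
  have ne1 : a₁ ≠ a₁⁻¹ := by intro h; apply h11'; rw [h11, ← h]
  have ne2 : a₂ ≠ a₂⁻¹ := by intro h; apply h22'; rw [h22, ← h]
  have ne3 : a₃ ≠ a₃⁻¹ := by intro h; apply h33'; rw [h33, ← h]
  -- the action of n₁, n₂
  have k11 : n₁ a₁ = a₁ := (ha₁ a₁).2 (Subgroup.mem_zpowers a₁)
  have k22 : n₂ a₂ = a₂ := (ha₂ a₂).2 (Subgroup.mem_zpowers a₂)
  have k12 : n₁ a₂ = a₂⁻¹ :=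
    (hfi n₁ hn₁ n₂ a₂ hn₂ ha₂).resolve_left (ne_fix n₁ t₁ a₁ a₂ ha₁ h11 h12 ne2)
  have k13 : n₁ a₃ = a₃⁻¹ :=
    (hfi n₁ hn₁ _ a₃ hn₃ ha₃).resolve_left (ne_fix n₁ t₁ a₁ a₃ ha₁ h11 h13 ne3)
  have k21 : n₂ a₁ = a₁⁻¹ :=
    (hfi n₂ hn₂ n₁ a₁ hn₁ ha₁).resolve_left (ne_fix n₂ t₂ a₂ a₁ ha₂ h22 h21 ne1)
  have k23 : n₂ a₃ = a₃⁻¹ :=
    (hfi n₂ hn₂ _ a₃ hn₃ ha₃).resolve_left (ne_fix n₂ t₂ a₂ a₃ ha₂ h22 h23 ne3)
  have e23 : t₂ * t₃ = n₁ := by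
    apply ext3 <;> simp only [MulAut.mul_apply, map_inv, h21, h22, h23, h31, h32, h33, k11, k12, k13]
  have e13 : t₁ * t₃ = n₂ := by
    apply ext3 <;> simp only [MulAut.mul_apply, map_inv, h11, h12, h13, h31, h32, h33, k21, k22, k23]
  have e12 : t₁ * t₂ = n₁ * n₂ := by
    apply ext3 <;> simp only [MulAut.mul_apply, map_inv, h11, h12, h13, h21, h22, h23, k11, k12, k13,
      k21, k22, k23, inv_inv]
  have b1 : ¬ Cyc t₁ := not_cyc hp hp2 hP t₁ n₂ (hinv n₂ hn₂) (hcomm n₂ hn₂ t₁ ht₁) a₂ a₃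
    h12 h13 k22 ne2 k23 ne3
  have b2 : ¬ Cyc t₂ := not_cyc hp hp2 hP t₂ n₁ (hinv n₁ hn₁) (hcomm n₁ hn₁ t₂ ht₂) a₁ a₃
    h21 h23 k11 ne1 k13 ne3
  have b3 : ¬ Cyc t₃ := not_cyc hp hp2 hP t₃ n₁ (hinv n₁ hn₁) (hcomm n₁ hn₁ t₃ ht₃) a₁ a₂
    h31 h32 k11 ne1 k12 ne2
  have q12 : a₁ * a₂ = a₂ * a₁ := comm_of hp hp2 hP t₃ (n₁ * n₂) (hinv _ hn₃)
    (hcomm _ hn₃ t₃ ht₃) a₃ ha₃ h33 a₁ a₂ h31 h32
  have q13 : a₁ * a₃ = a₃ * a₁ := comm_of hp hp2 hP t₂ n₂ (hinv _ hn₂)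
    (hcomm _ hn₂ t₂ ht₂) a₂ ha₂ h22 a₁ a₃ h21 h23
  have q23 : a₂ * a₃ = a₃ * a₂ := comm_of hp hp2 hP t₁ n₁ (hinv _ hn₁)
    (hcomm _ hn₁ t₁ ht₁) a₁ ha₁ h11 a₂ a₃ h12 h13
  have hPcomm : ∀ x y : P, x * y = y * x := by
    apply comm_of_closure hgen
    intro x hx y hy
    simp only [Set.mem_insert_iff, Set.mem_singleton_iff] at hx hy
    rcases hx with hx | hx | hx <;> rcases hy with hy | hy | hy <;> rw [hx, hy]
    · exact q12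
    · exact q13
    · exact q12.symm
    · exact q23
    · exact q13.symm
    · exact q23.symm
  -- z inverts everything
  have hz : ∀ x : P, (t₁ * t₂ * t₃) x = x⁻¹ := by
    intro x
    have hx : x ∈ Subgroup.closure ({a₁, a₂, a₃} : Set P) := by rw [hgen]; trivial
    induction hx using Subgroup.closure_induction with
    | mem y hy =>
      simp only [Set.mem_insert_iff, Set.mem_singleton_iff] at hy
      rcases hy with hy | hy | hy <;> rw [hy] <;>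
        simp only [MulAut.mul_apply, map_inv, h11, h12, h13, h21, h22, h23, h31, h32, h33]
    | one => simp
    | mul y y' _ _ ihy ihy' => rw [map_mul, ihy, ihy', mul_inv_rev, hPcomm]
    | inv y _ ihy => rw [map_inv, ihy]
  have c123 : Cyc (t₁ * t₂ * t₃) := by
    refine ⟨1, fun x => ?_⟩
    rw [Subgroup.zpowers_one_eq_bot, Subgroup.mem_bot, hz]
    constructor
    · intro h
      exact eq_one_of_eq_inv hp hp2 hP h.symm
    · intro h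
      rw [h, inv_one]
  have hall : ∀ T ∈ I, T = 1 ∨ T = t₁ ∨ T = t₂ ∨ T = t₃ ∨ T = t₁ * t₂ ∨ T = t₁ * t₃ ∨
      T = t₂ * t₃ ∨ T = t₁ * t₂ * t₃ := by
    intro T hT
    rcases hfi T hT n₁ a₁ hn₁ ha₁ with g1 | g1 <;> rcases hfi T hT n₂ a₂ hn₂ ha₂ with g2 | g2 <;>
      rcases hfi T hT _ a₃ hn₃ ha₃ with g3 | g3
    · left
      apply ext3 <;> simp only [MulAut.one_apply, g1, g2, g3]
    · right; right; right; left
      apply ext3 <;> simp only [g1, g2, g3, h31, h32, h33]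
    · right; right; left
      apply ext3 <;> simp only [g1, g2, g3, h21, h22, h23]
    · right; right; right; right; right; right; left
      apply ext3 <;> simp only [MulAut.mul_apply, map_inv, g1, g2, g3, h21, h22, h23, h31, h32, h33]
    · right; left
      apply ext3 <;> simp only [g1, g2, g3, h11, h12, h13]
    · right; right; right; right; right; left
      apply ext3 <;> simp only [MulAut.mul_apply, map_inv, g1, g2, g3, h11, h12, h13, h31, h32, h33]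
    · right; right; right; right; left
      apply ext3 <;> simp only [MulAut.mul_apply, map_inv, g1, g2, g3, h11, h12, h13, h21, h22, h23]
    · right; right; right; right; right; right; right
      apply ext3 <;> simp only [MulAut.mul_apply, map_inv, g1, g2, g3, h11, h12, h13, h21, h22, h23,
        h31, h32, h33]
  exact ⟨t₁, t₂, t₃, a₁, a₂, a₃,
    { m1 := ht₁, m2 := ht₂, m3 := ht₃, gen := hgen, h11 := h11, h12 := h12, h13 := h13,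
      h21 := h21, h22 := h22, h23 := h23, h31 := h31, h32 := h32, h33 := h33,
      ne1 := ne1, ne2 := ne2, ne3 := ne3, all := hall, b1 := b1, b2 := b2, b3 := b3,
      c12 := e12 ▸ ⟨a₃, ha₃⟩, c13 := e13 ▸ ⟨a₂, ha₂⟩, c23 := e23 ▸ ⟨a₁, ha₁⟩, c123 := c123,
      comm := hPcomm }⟩

end Cfsg.Agent.Lib.Helper7.FG
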