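import Mathlib
import Cfsg.Agent.Lib.Helper7.FourGen5
import Cfsg.Agent.Lib.Lead.BurnsideBasis

set_option autoImplicit false

/-! Final assembly for the broad-element theorem. -/

namespace Cfsg.Agent.Lib.Helper7.FG

universe u

variable {P : Type u} [Group P]

theorem not_two_gen [Finite P] {p : ℕ} (hp : p.Prime) (hP : IsPGroup p P)
    {I : Subgroup (MulAut P)} {t₁ t₂ t₃ : MulAut P} {a₁ a₂ a₃ : P}
    (D : Data I t₁ t₂ t₃ a₁ a₂ a₃) : ¬ ∃ a b : P, Subgroup.closure ({a, b} : Set P) = ⊤ := by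
  classical
  rintro ⟨a, b, hab⟩
  have hpF : Fact p.Prime := ⟨hp⟩
  -- upper bound
  have hup : Nat.card P ≤ p ^ 2 * Nat.card (frattini P) := by
    have h1 := Cfsg.Agent.Lib.Lead.card_closure_sup_frattini_le hP ({a, b} : Finset P)
    have h0 : ((({a, b} : Finset P)) : Set P) = {a, b} := by simp
    rw [h0, hab, top_sup_eq, Subgroup.card_top] at h1
    have h2 : ({a, b} : Finset P).card ≤ 2 := Finset.card_le_two
    calc Nat.card P ≤ p ^ ({a, b} : Finset P).card * Nat.card (frattini P) := h1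
      _ ≤ p ^ 2 * Nat.card (frattini P) :=
        Nat.mul_le_mul_right _ (Nat.pow_le_pow_right hp.pos h2)
  have key : ∀ (t : MulAut P) (x y z : P), ({a₁, a₂, a₃} : Set P) ⊆ {x, y, z} → t y = y → t z = z →
      t x ≠ x → x ∉ frattini P ⊔ Subgroup.closure ({y, z} : Set P) := by
    intro t x y z hsub hy hz hx hmem
    have h1 : Subgroup.closure ({y, z} : Set P) ⊔ frattini P = ⊤ := by
      rw [eq_top_iff, ← D.gen, Subgroup.closure_le]
      intro w hw
      have hw' := hsub hw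
      simp only [Set.mem_insert_iff, Set.mem_singleton_iff] at hw'
      rcases hw' with h | h | h
      · rw [h, sup_comm]; exact hmem
      · rw [h]; exact (le_sup_left : _ ≤ Subgroup.closure ({y, z} : Set P) ⊔ frattini P)
          (Subgroup.subset_closure (by simp))
      · rw [h]; exact (le_sup_left : _ ≤ Subgroup.closure ({y, z} : Set P) ⊔ frattini P)
          (Subgroup.subset_closure (by simp))
    have h2 : Subgroup.closure ({y, z} : Set P) = ⊤ := frattini_nongenerating h1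
    have h3 : t = 1 := by
      apply aut_ext_of_closure h2
      intro w hw
      simp only [Set.mem_insert_iff, Set.mem_singleton_iff] at hw
      rcases hw with h | h
      · rw [h, hy, MulAut.one_apply]
      · rw [h, hz, MulAut.one_apply]
    apply hx
    rw [h3, MulAut.one_apply]
  have n1 : t₁ a₁ ≠ a₁ := by rw [D.h11]; exact D.ne1.symm
  have n2 : t₂ a₂ ≠ a₂ := by rw [D.h22]; exact D.ne2.symm
  have n3 : t₃ a₃ ≠ a₃ := by rw [D.h33]; exact D.ne3.symm
  have k1 := key t₁ a₁ a₂ a₃ (le_refl _) D.h12 D.h13 n1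
  have k2 := key t₂ a₂ a₁ a₃ (by
    intro w hw
    simp only [Set.mem_insert_iff, Set.mem_singleton_iff] at hw ⊢
    tauto) D.h21 D.h23 n2
  have k3 := key t₃ a₃ a₁ a₂ (by
    intro w hw
    simp only [Set.mem_insert_iff, Set.mem_singleton_iff] at hw ⊢
    tauto) D.h31 D.h32 n3
  -- the chain
  have c1 : frattini P < frattini P ⊔ Subgroup.closure ({a₁} : Set P) := by
    refine lt_of_le_of_ne le_sup_left ?_
    intro h
    apply k1
    have : a₁ ∈ frattini P ⊔ Subgroup.closure ({a₁} : Set P) :=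
      (le_sup_right : Subgroup.closure ({a₁} : Set P) ≤ _) (Subgroup.subset_closure rfl)
    rw [← h] at this
    exact (le_sup_left : frattini P ≤ _) this
  have c2 : frattini P ⊔ Subgroup.closure ({a₁} : Set P) <
      frattini P ⊔ Subgroup.closure ({a₁, a₂} : Set P) := by
    refine lt_of_le_of_ne (sup_le_sup_left (Subgroup.closure_mono (by simp)) _) ?_
    intro h
    apply k2
    have : a₂ ∈ frattini P ⊔ Subgroup.closure ({a₁, a₂} : Set P) :=
      (le_sup_right : Subgroup.closure ({a₁, a₂} : Set P) ≤ _) (Subgroup.subset_closure (by simp))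
    rw [← h] at this
    exact (sup_le_sup_left (Subgroup.closure_mono (by simp)) _) this
  have c3 : frattini P ⊔ Subgroup.closure ({a₁, a₂} : Set P) < ⊤ := by
    refine lt_of_le_of_ne le_top ?_
    intro h
    apply k3
    rw [h]
    trivial
  have d1 := Cfsg.Agent.Lib.Lead.card_mul_le_of_lt hP c1
  have d2 := Cfsg.Agent.Lib.Lead.card_mul_le_of_lt hP c2
  have d3 := Cfsg.Agent.Lib.Lead.card_mul_le_of_lt hP c3
  rw [Subgroup.card_top] at d3
  have hpos : 0 < Nat.card (frattini P) := Nat.card_pos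
  have hp1 : 1 < p := hp.one_lt
  have : p * (p * (p * Nat.card (frattini P))) ≤ p ^ 2 * Nat.card (frattini P) := by
    calc p * (p * (p * Nat.card (frattini P)))
        ≤ p * (p * Nat.card (frattini P ⊔ Subgroup.closure ({a₁} : Set P) : Subgroup P)) :=
          Nat.mul_le_mul_left _ (Nat.mul_le_mul_left _ d1)
      _ ≤ p * Nat.card (frattini P ⊔ Subgroup.closure ({a₁, a₂} : Set P) : Subgroup P) :=
          Nat.mul_le_mul_left _ d2
      _ ≤ Nat.card P := d3
      _ ≤ _ := hup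
  have h5 : p * (p ^ 2 * Nat.card (frattini P)) ≤ 1 * (p ^ 2 * Nat.card (frattini P)) := by
    calc p * (p ^ 2 * Nat.card (frattini P)) = p * (p * (p * Nat.card (frattini P))) := by ring
      _ ≤ p ^ 2 * Nat.card (frattini P) := this
      _ = 1 * (p ^ 2 * Nat.card (frattini P)) := (one_mul _).symm
  have h6 : 0 < p ^ 2 * Nat.card (frattini P) := Nat.mul_pos (pow_pos hp.pos 2) hpos
  have := Nat.le_of_mul_le_mul_right h5 h6
  omega

theorem final [Finite P] (p : ℕ) (hp : p.Prime) (hp2 : p ≠ 2) (hP : IsPGroup p P)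
    (I I₀ : Subgroup (MulAut P))
    (hIc : ∀ S ∈ I, ∀ T ∈ I, S * T = T * S) (hI2 : ∀ T ∈ I, T * T = 1)
    (hI8 : Nat.card ↥I = 8) (hI₀ : I₀ < I)
    (hdisj : ∀ T ∈ I₀, T ≠ 1 → Cyc T)
    (hprod : ∀ T ∈ I, ∀ T' ∈ I, T ≠ 1 → T' ≠ 1 → ¬ Cyc T → ¬ Cyc T' → T * T' ∈ I₀) :
    IsMulCommutative P ∧ (∃ a b c : P, Subgroup.closure ({a, b, c} : Set P) = ⊤) ∧
      (¬ ∃ a b : P, Subgroup.closure ({a, b} : Set P) = ⊤) ∧
      Nat.card {T : MulAut P // T ∈ I ∧ T ≠ 1 ∧ ¬ Cyc T} = 3 ∧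
      Subgroup.closure {T : MulAut P | T ∈ I ∧ T ≠ 1 ∧ ¬ Cyc T} = I ∧
      (I₀ : Set (MulAut P)) = {S : MulAut P | ∃ T T' : MulAut P, T ∈ I ∧ T' ∈ I ∧ T ≠ 1 ∧ T' ≠ 1 ∧
        ¬ Cyc T ∧ ¬ Cyc T' ∧ S = T * T'} := by
  obtain ⟨t₁, t₂, t₃, a₁, a₂, a₃, D⟩ := exists_data hp hp2 hP I I₀ hIc hI2 hI8 hI₀ hdisj hprod
  have n1 : t₁ ≠ 1 := by
    intro h
    have := D.h11
    rw [h, MulAut.one_apply] at this
    exact D.ne1 this
  have n2 : t₂ ≠ 1 := by
    intro h
    have := D.h22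
    rw [h, MulAut.one_apply] at this
    exact D.ne2 this
  have n3 : t₃ ≠ 1 := by
    intro h
    have := D.h33
    rw [h, MulAut.one_apply] at this
    exact D.ne3 this
  have n12 : t₁ ≠ t₂ := by
    intro h
    have := D.h11
    rw [h, D.h21] at this
    exact D.ne1 this
  have n13 : t₁ ≠ t₃ := by
    intro h
    have := D.h11
    rw [h, D.h31] at this
    exact D.ne1 this
  have n23 : t₂ ≠ t₃ := by
    intro h
    have := D.h22
    rw [h, D.h32] at this
    exact D.ne2 this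
  have hB : ∀ T : MulAut P, (T ∈ I ∧ T ≠ 1 ∧ ¬ Cyc T) ↔ (T = t₁ ∨ T = t₂ ∨ T = t₃) := by
    intro T
    constructor
    · rintro ⟨hT, hT1, hTc⟩
      rcases D.all T hT with h | h | h | h | h | h | h | h
      · exact absurd h hT1
      · exact Or.inl h
      · exact Or.inr (Or.inl h)
      · exact Or.inr (Or.inr h)
      · exact absurd (h ▸ D.c12) hTc
      · exact absurd (h ▸ D.c13) hTc
      · exact absurd (h ▸ D.c23) hTc
      · exact absurd (h ▸ D.c123) hTc
    · rintro (h | h | h)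
      · rw [h]; exact ⟨D.m1, n1, D.b1⟩
      · rw [h]; exact ⟨D.m2, n2, D.b2⟩
      · rw [h]; exact ⟨D.m3, n3, D.b3⟩
  have hBset : {T : MulAut P | T ∈ I ∧ T ≠ 1 ∧ ¬ Cyc T} = {t₁, t₂, t₃} := by
    ext T
    rw [Set.mem_ofPred_eq, hB]
    simp only [Set.mem_insert_iff, Set.mem_singleton_iff]
  refine ⟨⟨⟨D.comm⟩⟩, ⟨a₁, a₂, a₃, D.gen⟩, not_two_gen hp hP D, ?_, ?_, ?_⟩
  · change Nat.card ↥{T : MulAut P | T ∈ I ∧ T ≠ 1 ∧ ¬ Cyc T} = 3
    rw [Nat.card_coe_set_eq, Set.ncard_eq_three]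
    exact ⟨t₁, t₂, t₃, n12, n13, n23, hBset⟩
  · rw [hBset]
    apply le_antisymm
    · rw [Subgroup.closure_le]
      intro T hT
      simp only [Set.mem_insert_iff, Set.mem_singleton_iff] at hT
      rcases hT with h | h | h
      · rw [h]; exact D.m1
      · rw [h]; exact D.m2
      · rw [h]; exact D.m3
    · intro T hT
      have m1 : t₁ ∈ Subgroup.closure ({t₁, t₂, t₃} : Set (MulAut P)) :=
        Subgroup.subset_closure (by simp)
      have m2 : t₂ ∈ Subgroup.closure ({t₁, t₂, t₃} : Set (MulAut P)) :=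
        Subgroup.subset_closure (by simp)
      have m3 : t₃ ∈ Subgroup.closure ({t₁, t₂, t₃} : Set (MulAut P)) :=
        Subgroup.subset_closure (by simp)
      rcases D.all T hT with h | h | h | h | h | h | h | h <;> rw [h]
      · exact Subgroup.one_mem _
      · exact m1
      · exact m2
      · exact m3
      · exact Subgroup.mul_mem _ m1 m2
      · exact Subgroup.mul_mem _ m1 m3
      · exact Subgroup.mul_mem _ m2 m3
      · exact Subgroup.mul_mem _ (Subgroup.mul_mem _ m1 m2) m3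
  · ext S
    rw [Set.mem_ofPred_eq, SetLike.mem_coe]
    constructor
    · intro hS
      have hSI : S ∈ I := hI₀.le hS
      rcases D.all S hSI with h | h | h | h | h | h | h | h
      · exact ⟨t₁, t₁, D.m1, D.m1, n1, n1, D.b1, D.b1, by rw [h, hI2 t₁ D.m1]⟩
      · exact absurd (hdisj S hS (h ▸ n1)) (h ▸ D.b1)
      · exact absurd (hdisj S hS (h ▸ n2)) (h ▸ D.b2)
      · exact absurd (hdisj S hS (h ▸ n3)) (h ▸ D.b3)
      · exact ⟨t₁, t₂, D.m1, D.m2, n1, n2, D.b1, D.b2, h⟩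
      · exact ⟨t₁, t₃, D.m1, D.m3, n1, n3, D.b1, D.b3, h⟩
      · exact ⟨t₂, t₃, D.m2, D.m3, n2, n3, D.b2, D.b3, h⟩
      · exfalso
        have h1 : t₂ * t₃ ∈ I₀ := hprod t₂ D.m2 t₃ D.m3 n2 n3 D.b2 D.b3
        have h2 : t₁ ∈ I₀ := by
          have := I₀.mul_mem hS (I₀.inv_mem h1)
          rw [h] at this
          have e : t₁ * t₂ * t₃ * (t₂ * t₃)⁻¹ = t₁ := by group
          rwa [e] at this
        exact D.b1 (hdisj t₁ h2 n1)
    · rintro ⟨T, T', hT, hT', h1, h1', hb, hb', rfl⟩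
      exact hprod T hT T' hT' h1 h1' hb hb'

end Cfsg.Agent.Lib.Helper7.FG
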