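import Mathlib

set_option autoImplicit false

namespace Cfsg.Agent.Lib.Helper7

section
variable {K : Type*} [Group K] [Finite K]

/-- a fixed-point-free endomorphism of order two inverts every element -/
theorem fpf_involution_inverts (σ : K →* K) (hσ : ∀ k, σ (σ k) = k)
    (hfpf : ∀ k, σ k = k → k = 1) : ∀ k, σ k = k⁻¹ := by
  have hinj : Function.Injective (fun k => k⁻¹ * σ k) := by
    intro a b hab
    simp only at hab
    have h1 : σ (b * a⁻¹) = b * a⁻¹ := by
      rw [map_mul, map_inv]
      have : σ b = b * (a⁻¹ * σ a) := by rw [hab]; group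
      rw [this]; group
    have h2 := hfpf _ h1
    exact (mul_inv_eq_one.mp h2).symm
  have hsurj := Finite.surjective_of_injective hinj
  intro k
  obtain ⟨x, rfl⟩ := hsurj k
  simp only [map_mul, map_inv, hσ, mul_inv_rev, inv_inv]

theorem fpf_involution_comm (σ : K →* K) (hσ : ∀ k, σ (σ k) = k)
    (hfpf : ∀ k, σ k = k → k = 1) (a b : K) : a * b = b * a := by
  have h := fpf_involution_inverts σ hσ hfpf
  have h1 := h (a * b)
  rw [map_mul, h a, h b, mul_inv_rev] at h1
  have h2 := congrArg (fun x => x⁻¹) h1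
  simpa using h2.symm

theorem fpf_involution_odd (σ : K →* K) (hσ : ∀ k, σ (σ k) = k)
    (hfpf : ∀ k, σ k = k → k = 1) : ¬ 2 ∣ Nat.card K := by
  intro h2
  haveI : Fact (Nat.Prime 2) := ⟨Nat.prime_two⟩
  obtain ⟨t, ht⟩ := exists_prime_orderOf_dvd_card' 2 h2
  have h := fpf_involution_inverts σ hσ hfpf t
  have h1 : t⁻¹ = t := by
    have : t ^ 2 = 1 := by rw [← ht]; exact pow_orderOf_eq_one t
    rw [inv_eq_iff_mul_eq_one, ← sq]; exact this
  rw [h1] at h
  have := hfpf t h
  rw [this, orderOf_one] at ht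
  omega

end

end Cfsg.Agent.Lib.Helper7
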