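import Mathlib
import Cfsg.Agent.Lib.Lead.Frattini
import Cfsg.Agent.Lib.Lead.CoprimeFrattini
import Cfsg.Agent.Lib.Lead.HallTools
import Cfsg.Agent.Lib.Lead.FrobNPC3

set_option autoImplicit false

namespace Cfsg.Agent.Lib.Helper7

open Cfsg.Agent.Lib.Lead
open scoped commutatorElement

section Rank

variable {Q : Type*} [Group Q] [Finite Q] {p : ℕ} [hp : Fact p.Prime]

/-- The Frattini quotient of a finite `p`-group has order at most `p ^ rank`. -/
theorem card_le_pow_rank_mul_frattini (hQ : IsPGroup p Q) :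
    Nat.card Q ≤ p ^ Group.rank Q * Nat.card (frattini Q) := by
  classical
  set Φ := frattini Q with hΦ
  have hcomm : commutator Q ≤ Φ := commutator_le_frattini_of_isPGroup hQ
  letI : CommGroup (Q ⧸ Φ) :=
    { (inferInstance : Group (Q ⧸ Φ)) with
      mul_comm := by
        intro a b
        induction a using QuotientGroup.induction_on with
        | H a =>
        induction b using QuotientGroup.induction_on with
        | H b =>
        rw [← QuotientGroup.mk_mul, ← QuotientGroup.mk_mul, QuotientGroup.eq]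
        apply hcomm
        have : (a * b)⁻¹ * (b * a) = ⁅b⁻¹, a⁻¹⁆ := by
          rw [commutatorElement_def]; group
        rw [this, commutator_def]
        exact Subgroup.commutator_mem_commutator (Subgroup.mem_top _) (Subgroup.mem_top _) }
  have hexp : ∀ v : Q ⧸ Φ, v ^ p = 1 := by
    intro v
    induction v using QuotientGroup.induction_on with
    | H a =>
    rw [← QuotientGroup.mk_pow, QuotientGroup.eq_one_iff]
    exact pow_mem_frattini_of_isPGroup hQ a
  have h1 : Nat.card (Q ⧸ Φ) ∣ p ^ Group.rank (Q ⧸ Φ) := card_dvd_exponent_pow_rank' _ hexp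
  have h2 : Group.rank (Q ⧸ Φ) ≤ Group.rank Q :=
    Group.rank_le_of_surjective (QuotientGroup.mk' Φ) (QuotientGroup.mk'_surjective Φ)
  have h3 : Nat.card (Q ⧸ Φ) ≤ p ^ Group.rank Q :=
    (Nat.le_of_dvd (pow_pos hp.out.pos _) h1).trans (Nat.pow_le_pow_right hp.out.pos h2)
  rw [Subgroup.card_eq_card_quotient_mul_card_subgroup Φ]
  exact Nat.mul_le_mul_right _ h3

end Rank

section Core

variable {G : Type*} [Group G] [Finite G] {p : ℕ} [hp : Fact p.Prime]

/-- the elements acting trivially on the Frattini quotient of `Q` -/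
def trivOnFrattini (Q : Subgroup G) : Subgroup G where
  carrier := {a | a ∈ Subgroup.normalizer (Q : Set G) ∧
    ∀ k ∈ Q, a * k * a⁻¹ * k⁻¹ ∈ (frattini Q).map Q.subtype}
  one_mem' := by
    refine ⟨Subgroup.one_mem _, ?_⟩
    intro k _
    simp only [one_mul, inv_one, mul_one, mul_inv_cancel]
    exact Subgroup.one_mem _
  mul_mem' := by
    rintro a b ⟨haN, ha⟩ ⟨hbN, hb⟩
    refine ⟨Subgroup.mul_mem _ haN hbN, ?_⟩
    intro k hk
    have haΦ := le_normalizer_map_characteristic Q (frattini Q) haN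
    have h1 : a * b * k * (a * b)⁻¹ * k⁻¹ = a * (b * k * b⁻¹ * k⁻¹) * a⁻¹ * (a * k * a⁻¹ * k⁻¹) := by
      group
    rw [h1]
    exact Subgroup.mul_mem _ ((Subgroup.mem_normalizer_iff.mp haΦ _).mp (hb k hk)) (ha k hk)
  inv_mem' := by
    rintro a ⟨haN, ha⟩
    refine ⟨Subgroup.inv_mem _ haN, ?_⟩
    intro k hk
    have hk' : a⁻¹ * k * a ∈ Q := by
      have := (Subgroup.mem_normalizer_iff.mp (Subgroup.inv_mem _ haN) k).mp hk
      simpa using this
    have h1 := ha _ hk'
    have h2 : a⁻¹ * k * a⁻¹⁻¹ * k⁻¹ = (a * (a⁻¹ * k * a) * a⁻¹ * (a⁻¹ * k * a)⁻¹)⁻¹ := by group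
    rw [h2]
    exact Subgroup.inv_mem _ h1

omit [Finite G] in
theorem mem_trivOnFrattini {Q : Subgroup G} {a : G} : a ∈ trivOnFrattini Q ↔
    a ∈ Subgroup.normalizer (Q : Set G) ∧
      ∀ k ∈ Q, a * k * a⁻¹ * k⁻¹ ∈ (frattini Q).map Q.subtype := Iff.rfl

/-- a `p'`-element acting trivially on the Frattini quotient of a `p`-subgroup centralizes it -/
theorem mem_centralizer_of_mem_trivOnFrattini (Q : Subgroup G) (hQ : IsPGroup p Q) (y : G)
    (hy : y ∈ trivOnFrattini Q) (hcop : (orderOf y).Coprime p) :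
    y ∈ Subgroup.centralizer (Q : Set G) := by
  have hle : Subgroup.zpowers y ≤ trivOnFrattini Q := (Subgroup.zpowers_le).mpr hy
  have h1 := coprime_trivial_on_frattini_quotient (Subgroup.zpowers y) Q
    (fun a ha => (hle ha).1) ?_ (fun a ha k hk => (hle ha).2 k hk)
  · exact h1 (Subgroup.mem_zpowers y)
  · rw [Nat.card_zpowers]
    obtain ⟨m, hm⟩ := (IsPGroup.iff_card).mp (hQ.to_subgroup (frattini Q))
    rw [hm]
    exact Nat.Coprime.pow_right _ hcop

/-- **Core counting lemma.** If a `p'`-element `y` normalizes but does not centralize the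
`p`-subgroup `Q`, while `y ^ r` centralizes `Q` for a prime `r`, then `r ∣ p ^ j - 1` for some
`1 ≤ j ≤ d`, where `p ^ d` bounds the order of the Frattini quotient of `Q`. -/
theorem prime_dvd_pow_sub_one (Q : Subgroup G) (hQ : IsPGroup p Q) (d : ℕ)
    (hd : Nat.card Q ≤ p ^ d * Nat.card (frattini Q))
    (y : G) (hyN : y ∈ Subgroup.normalizer (Q : Set G)) (hcop : (orderOf y).Coprime p)
    (r : ℕ) (hr : r.Prime) (hry : r ∣ orderOf y)
    (hyr : y ^ r ∈ Subgroup.centralizer (Q : Set G))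
    (hy : y ∉ Subgroup.centralizer (Q : Set G)) :
    ∃ j, 1 ≤ j ∧ j ≤ d ∧ r ∣ p ^ j - 1 := by
  classical
  haveI : Fact r.Prime := ⟨hr⟩
  set Φ : Subgroup G := (frattini Q).map Q.subtype with hΦ
  have hΦQ : Φ ≤ Q := Subgroup.map_subtype_le _
  have hNΦ := le_normalizer_map_characteristic Q (frattini Q)
  have hyΦ : y ∈ Subgroup.normalizer (Φ : Set G) := hNΦ hyN
  have hQΦ : ∀ x ∈ Q, x ∈ Subgroup.normalizer (Φ : Set G) :=
    fun x hx => hNΦ (Subgroup.le_normalizer hx)
  have hrp : r ≠ p := by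
    rintro rfl
    have := Nat.Coprime.coprime_dvd_left hry hcop
    rw [Nat.coprime_self] at this
    exact hr.one_lt.ne' this
  -- the subgroup `C`
  let C : Subgroup G :=
    { carrier := {x | x ∈ Q ∧ y * x * y⁻¹ * x⁻¹ ∈ Φ}
      one_mem' := by
        refine ⟨Q.one_mem, ?_⟩
        simp only [mul_one, mul_inv_cancel, inv_one]
        exact Φ.one_mem
      mul_mem' := by
        rintro a b ⟨haQ, ha⟩ ⟨hbQ, hb⟩
        refine ⟨Q.mul_mem haQ hbQ, ?_⟩
        have h1 : y * (a * b) * y⁻¹ * (a * b)⁻¹ =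
            (y * a * y⁻¹ * a⁻¹) * (a * (y * b * y⁻¹ * b⁻¹) * a⁻¹) := by group
        rw [h1]
        exact Φ.mul_mem ha ((Subgroup.mem_normalizer_iff.mp (hQΦ a haQ) _).mp hb)
      inv_mem' := by
        rintro a ⟨haQ, ha⟩
        refine ⟨Q.inv_mem haQ, ?_⟩
        have h1 : y * a⁻¹ * y⁻¹ * a⁻¹⁻¹ = a⁻¹ * (y * a * y⁻¹ * a⁻¹)⁻¹ * a⁻¹⁻¹ := by group
        rw [h1]
        exact (Subgroup.mem_normalizer_iff.mp (hQΦ a⁻¹ (Q.inv_mem haQ)) _).mp (Φ.inv_mem ha) }
  have hCmem : ∀ x, x ∈ C ↔ x ∈ Q ∧ y * x * y⁻¹ * x⁻¹ ∈ Φ := fun x => Iff.rfl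
  have hCQ : C ≤ Q := fun x hx => hx.1
  have hΦC : Φ ≤ C := by
    intro x hx
    refine ⟨hΦQ hx, ?_⟩
    exact Φ.mul_mem ((Subgroup.mem_normalizer_iff.mp hyΦ x).mp hx) (Φ.inv_mem hx)
  -- `C ≠ Q`
  have hCne : ∃ k ∈ Q, k ∉ C := by
    by_contra hcon
    push_neg at hcon
    apply hy
    apply mem_centralizer_of_mem_trivOnFrattini Q hQ y ?_ hcop
    exact ⟨hyN, fun k hk => (hcon k hk).2⟩
  -- `C` is invariant under conjugation by `y`
  have hCy : ∀ x, x ∈ Q → (y * x * y⁻¹ ∈ C ↔ x ∈ C) := by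
    intro x hxQ
    have hxQ' : y * x * y⁻¹ ∈ Q := (Subgroup.mem_normalizer_iff.mp hyN x).mp hxQ
    rw [hCmem, hCmem]
    have h1 : y * (y * x * y⁻¹) * y⁻¹ * (y * x * y⁻¹)⁻¹ = y * (y * x * y⁻¹ * x⁻¹) * y⁻¹ := by group
    rw [h1]
    constructor
    · rintro ⟨-, h⟩
      exact ⟨hxQ, (Subgroup.mem_normalizer_iff.mp hyΦ _).mpr h⟩
    · rintro ⟨-, h⟩
      exact ⟨hxQ', (Subgroup.mem_normalizer_iff.mp hyΦ _).mp h⟩
  -- the permutation of `Q \ C`
  let S := {x : G // x ∈ Q ∧ x ∉ C}
  let f : Function.End S := fun x =>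
    ⟨y * x.1 * y⁻¹, (Subgroup.mem_normalizer_iff.mp hyN x.1).mp x.2.1,
      fun h => x.2.2 ((hCy x.1 x.2.1).mp h)⟩
  have hfpow : ∀ (n : ℕ) (x : S), ((f ^ n) x : G) = y ^ n * x.1 * (y ^ n)⁻¹ := by
    intro n
    induction n with
    | zero =>
      intro x
      rw [pow_zero, pow_zero, one_mul, inv_one, mul_one]
      rfl
    | succ n ih =>
      intro x
      rw [pow_succ' f n]
      change y * ((f ^ n) x : G) * y⁻¹ = _
      rw [ih x, pow_succ']
      group
  have hfr : f ^ r ^ 1 = 1 := by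
    rw [pow_one]
    funext x
    apply Subtype.ext
    rw [hfpow r x]
    have := Subgroup.mem_centralizer_iff.mp hyr x.1 x.2.1
    change _ = x.1
    rw [← this, mul_assoc, mul_inv_cancel, mul_one]
  have hfix : Function.fixedPoints f = ∅ := by
    ext x
    simp only [Set.mem_empty_iff_false, iff_false]
    intro hx
    have h1 : y * x.1 * y⁻¹ = x.1 := congrArg Subtype.val hx
    apply x.2.2
    refine ⟨x.2.1, ?_⟩
    rw [h1, mul_inv_cancel]
    exact Φ.one_mem
  haveI : Fintype S := Fintype.ofFinite S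
  have hmod := Equiv.Perm.card_fixedPoints_modEq (f := f) (p := r) (n := 1) hfr
  have hSr : r ∣ Nat.card S := by
    rw [Nat.card_eq_fintype_card]
    have h0 : Fintype.card (Function.fixedPoints f) = 0 := by
      rw [Fintype.card_eq_zero_iff, hfix]
      exact Set.isEmpty_coe_sort.mpr rfl
    rw [h0] at hmod
    exact (Nat.modEq_zero_iff_dvd).mp hmod
  -- count
  have hcount : Nat.card Q = Nat.card C + Nat.card S := by
    have e1 : S ≃ {x : Q // (x : G) ∉ C} :=
      { toFun := fun x => ⟨⟨x.1, x.2.1⟩, x.2.2⟩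
        invFun := fun x => ⟨x.1.1, x.1.2, x.2⟩
        left_inv := fun x => rfl
        right_inv := fun x => rfl }
    have e2 : C ≃ {x : Q // (x : G) ∈ C} :=
      { toFun := fun x => ⟨⟨x.1, hCQ x.2⟩, x.2⟩
        invFun := fun x => ⟨x.1.1, x.2⟩
        left_inv := fun x => rfl
        right_inv := fun x => rfl }
    rw [Nat.card_congr e1, Nat.card_congr e2]
    haveI : Fintype Q := Fintype.ofFinite Q
    rw [Nat.card_eq_fintype_card, Nat.card_eq_fintype_card, Nat.card_eq_fintype_card,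
      Fintype.card_subtype_compl, ← Nat.add_sub_assoc (Fintype.card_subtype_le _),
      Nat.add_sub_cancel_left]
  obtain ⟨a, ha⟩ := (IsPGroup.iff_card).mp hQ
  obtain ⟨c, hc⟩ := (IsPGroup.iff_card).mp (hQ.to_le hCQ)
  have hp1 := hp.out.one_lt
  have hlt : Nat.card C < Nat.card Q := by
    obtain ⟨k, hkQ, hkC⟩ := hCne
    have h1 : Nat.card C ≤ Nat.card Q := Subgroup.card_le_of_le hCQ
    rcases lt_or_eq_of_le h1 with h | h
    · exact h
    · exfalso
      have := Subgroup.eq_of_le_of_card_ge hCQ h.ge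
      exact hkC (this ▸ hkQ)
  have hca : c < a := by
    rw [ha, hc] at hlt
    exact (Nat.pow_lt_pow_iff_right hp1).mp hlt
  refine ⟨a - c, by omega, ?_, ?_⟩
  · -- `a - c ≤ d`
    have h1 : Nat.card Φ = Nat.card (frattini Q) := card_map_subtype Q _
    have h2 : Nat.card Φ ≤ Nat.card C := Subgroup.card_le_of_le hΦC
    have h3 : p ^ a ≤ p ^ d * p ^ c := by
      calc p ^ a = Nat.card Q := ha.symm
        _ ≤ p ^ d * Nat.card (frattini Q) := hd
        _ = p ^ d * Nat.card Φ := by rw [h1]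
        _ ≤ p ^ d * Nat.card C := Nat.mul_le_mul_left _ h2
        _ = p ^ d * p ^ c := by rw [hc]
    rw [← pow_add] at h3
    have := (Nat.pow_le_pow_iff_right hp1).mp h3
    omega
  · have h1 : Nat.card S = p ^ c * (p ^ (a - c) - 1) := by
      have : p ^ a = p ^ c * p ^ (a - c) := by rw [← pow_add]; congr 1; omega
      rw [Nat.mul_sub, ← this, mul_one, ← ha, ← hc, hcount, Nat.add_sub_cancel_left]
    rw [h1] at hSr
    have hcop' : Nat.Coprime r (p ^ c) :=
      Nat.Coprime.pow_right _ ((Nat.coprime_primes hr hp.out).mpr hrp)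
    exact hcop'.dvd_of_dvd_mul_left hSr

/-- If no prime divisor `r` of `|G|` divides some `p ^ j - 1` with `1 ≤ j ≤ d`, then the
`p'`-elements normalizing a `p`-subgroup `Q` with Frattini quotient of order at most `p ^ d`
centralize it. -/
theorem coprime_normalizer_le_centralizer (Q : Subgroup G) (hQ : IsPGroup p Q) (d : ℕ)
    (hd : Nat.card Q ≤ p ^ d * Nat.card (frattini Q))
    (hbad : ∀ r : ℕ, r.Prime → r ∣ Nat.card G → ∀ j, 1 ≤ j → j ≤ d → ¬ r ∣ p ^ j - 1) :
    ∀ y ∈ Subgroup.normalizer (Q : Set G), (orderOf y).Coprime p →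
      y ∈ Subgroup.centralizer (Q : Set G) := by
  have key : ∀ n : ℕ, ∀ y ∈ Subgroup.normalizer (Q : Set G), (orderOf y).Coprime p →
      orderOf y = n → y ∈ Subgroup.centralizer (Q : Set G) := by
    intro n
    induction n using Nat.strong_induction_on with
    | _ n ih =>
    intro y hyN hcop hn
    by_contra hy
    have hn1 : n ≠ 1 := by
      intro h1
      rw [h1, orderOf_eq_one_iff] at hn
      rw [hn] at hy
      exact hy (Subgroup.one_mem _)
    obtain ⟨r, hr, hrn⟩ := Nat.exists_prime_and_dvd hn1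
    have hpos : 0 < orderOf y := orderOf_pos y
    have hyr_ord : orderOf (y ^ r) = n / r := by
      rw [orderOf_pow' y hr.ne_zero, hn, Nat.gcd_eq_right hrn]
    have hlt : n / r < n := Nat.div_lt_self (hn ▸ hpos) hr.one_lt
    have hyr : y ^ r ∈ Subgroup.centralizer (Q : Set G) := by
      apply ih (n / r) hlt (y ^ r) (Subgroup.pow_mem _ hyN r) _ hyr_ord
      rw [hyr_ord, ← hn]
      exact Nat.Coprime.coprime_dvd_left (Nat.div_dvd_of_dvd (hn ▸ hrn)) hcop
    obtain ⟨j, hj1, hjd, hrj⟩ := prime_dvd_pow_sub_one Q hQ d hd y hyN hcop r hr (hn ▸ hrn) hyr hy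
    exact hbad r hr ((hn ▸ hrn : r ∣ orderOf y).trans (orderOf_dvd_natCard y)) j hj1 hjd hrj
  intro y hyN hcop
  exact key _ y hyN hcop rfl

/-- for an abelian Sylow subgroup: if the `p'`-elements of the normalizer centralize it, so does
the whole normalizer -/
theorem normalizer_le_centralizer_of_abelian_sylow (P : Sylow p G)
    (hab : IsMulCommutative (P : Subgroup G))
    (h : ∀ y ∈ Subgroup.normalizer ((P : Subgroup G) : Set G), (orderOf y).Coprime p →
      y ∈ Subgroup.centralizer ((P : Subgroup G) : Set G)) :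
    Subgroup.normalizer ((P : Subgroup G) : Set G) ≤
      Subgroup.centralizer ((P : Subgroup G) : Set G) := by
  intro x hx
  obtain ⟨u, v, rfl, hu, hv, ⟨k, huk⟩, hvcop⟩ := exists_ppart_decomp' p x
  have hzp : Subgroup.zpowers (u * v) ≤ Subgroup.normalizer ((P : Subgroup G) : Set G) :=
    (Subgroup.zpowers_le).mpr hx
  have huN := hzp hu
  have hvN := hzp hv
  have hvC := h v hvN hvcop
  have huP : u ∈ (P : Subgroup G) := by
    have h1 : IsPGroup p (Subgroup.zpowers u) := by
      rw [IsPGroup.iff_card, Nat.card_zpowers]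
      exact (Nat.dvd_prime_pow hp.out).mp (orderOf_dvd_of_pow_eq_one huk) |>.imp fun _ h => h.2
    have h2 : Subgroup.zpowers u ≤ Subgroup.normalizer ((P : Subgroup G) : Set G) :=
      (Subgroup.zpowers_le).mpr huN
    have h3 : IsPGroup p (Subgroup.zpowers u ⊔ (P : Subgroup G) : Subgroup G) :=
      IsPGroup.to_sup_of_normal_right' h1 P.2 h2
    have h4 : (Subgroup.zpowers u ⊔ (P : Subgroup G) : Subgroup G) = P :=
      P.is_maximal' h3 le_sup_right
    rw [← h4]
    exact (le_sup_left : Subgroup.zpowers u ≤ _) (Subgroup.mem_zpowers u)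
  have huC : u ∈ Subgroup.centralizer ((P : Subgroup G) : Set G) := by
    rw [Subgroup.mem_centralizer_iff]
    intro z hz
    have := hab.is_comm.comm (⟨z, hz⟩ : (P : Subgroup G)) ⟨u, huP⟩
    exact congrArg Subtype.val this
  exact Subgroup.mul_mem _ huC hvC

end Core

end Cfsg.Agent.Lib.Helper7
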