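import Mathlib
import Cfsg.Agent.Lib.Helper7.NormB2
import Cfsg.Agent.Lib.Lead.CoprimeAction

set_option autoImplicit false

/-!
# The norm lemma for a nilpotent kernel

`nrm_ne_zero_nilpotent`: if `X` acts fixed point freely on the nilpotent group `F`, coprimely, and
`F` acts nontrivially on `A` with `|F|` invertible on `A`, then the norm of `X` is nonzero on `A`.
-/

namespace Cfsg.Agent.Lib.Helper7.FrobNorm

open Cfsg.Agent.Lib.Helper7.NormB Cfsg.Agent.Lib.Lead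

universe u

variable {Γ : Type u} [Group Γ] [Fintype Γ] {A : Type*} [AddCommGroup A]
variable (ρ : Γ →* AddMonoid.End A)

theorem rho_inv_eq_one {g : Γ} (h : ρ g = 1) : ρ g⁻¹ = 1 := by
  have h1 : ρ g⁻¹ * ρ g = 1 := by rw [← map_mul, inv_mul_cancel, map_one]
  rw [h, mul_one] at h1
  exact h1

/-- the coprime step: an element of `F` commuting with `h` modulo the kernel of `ρ` lies in the
kernel -/
theorem rho_eq_one_of_comm (F X : Subgroup Γ)
    (hXF : X ≤ Subgroup.normalizer (F : Set Γ))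
    (hcopXF : (Nat.card X).Coprime (Nat.card F))
    (hfpf : ∀ h ∈ X, h ≠ 1 → ∀ e ∈ F, h * e = e * h → e = 1)
    {h : Γ} (hh : h ∈ X) (hh1 : h ≠ 1) {e : Γ} (he : e ∈ F)
    (hcomm : ∀ a ∈ Subgroup.zpowers h, ρ (a * e * a⁻¹ * e⁻¹) = 1) : ρ e = 1 := by
  have hZX : Subgroup.zpowers h ≤ X := Subgroup.zpowers_le.mpr hh
  have hAK : Subgroup.zpowers h ≤ Subgroup.normalizer (F : Set Γ) := hZX.trans hXF
  have hcop : (Nat.card (Subgroup.zpowers h)).Coprime (Nat.card F) :=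
    Nat.Coprime.coprime_dvd_left (Subgroup.card_dvd_of_le hZX) hcopXF
  have hsolv : Group.IsSolvable (Subgroup.zpowers h) := by
    apply isSolvable_of_comm
    intro a b
    obtain ⟨a, ha⟩ := a
    obtain ⟨b, hb⟩ := b
    obtain ⟨i, rfl⟩ := Subgroup.mem_zpowers_iff.mp ha
    obtain ⟨j, rfl⟩ := Subgroup.mem_zpowers_iff.mp hb
    apply Subtype.ext
    show h ^ i * h ^ j = h ^ j * h ^ i
    rw [← zpow_add, ← zpow_add, add_comm]
  have hkerN : ∀ (g n : Γ), n ∈ ρ.ker → g * n * g⁻¹ ∈ ρ.ker := by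
    intro g n hn
    rw [MonoidHom.mem_ker] at hn ⊢
    rw [map_mul, map_mul, hn, mul_one, ← map_mul, mul_inv_cancel, map_one]
  have hN1 : F ≤ Subgroup.normalizer ((F ⊓ ρ.ker : Subgroup Γ) : Set Γ) := by
    intro f hf
    apply Subgroup.mem_normalizer_fintype
    intro n hn
    have hn' : n ∈ F ⊓ ρ.ker := hn
    exact Subgroup.mem_inf.mpr ⟨F.mul_mem (F.mul_mem hf hn'.1) (F.inv_mem hf), hkerN f n hn'.2⟩
  have hN2 : Subgroup.zpowers h ≤ Subgroup.normalizer ((F ⊓ ρ.ker : Subgroup Γ) : Set Γ) := by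
    intro a ha
    apply Subgroup.mem_normalizer_fintype
    intro n hn
    have hn' : n ∈ F ⊓ ρ.ker := hn
    refine Subgroup.mem_inf.mpr ⟨?_, hkerN a n hn'.2⟩
    exact (Subgroup.mem_normalizer_iff.mp (hAK ha) n).mp hn'.1
  have hfix : ∀ a ∈ Subgroup.zpowers h, a * e * a⁻¹ * e⁻¹ ∈ F ⊓ ρ.ker := by
    intro a ha
    refine Subgroup.mem_inf.mpr ⟨?_, ?_⟩
    · exact F.mul_mem ((Subgroup.mem_normalizer_iff.mp (hAK ha) e).mp he) (F.inv_mem he)
    · rw [MonoidHom.mem_ker]; exact hcomm a ha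
  obtain ⟨c, hc, hec⟩ := coprime_fixed_coset (Subgroup.zpowers h) F hAK hcop (Or.inl hsolv)
    (F ⊓ ρ.ker) inf_le_left hN1 hN2 e he hfix
  obtain ⟨hcF, hcC⟩ := Subgroup.mem_inf.mp hc
  have hch : h * c = c * h :=
    Subgroup.mem_centralizer_iff.mp hcC h (Subgroup.mem_zpowers h)
  have hc1 : c = 1 := hfpf h hh hh1 c hcF hch
  rw [hc1, mul_one] at hec
  have h1 : ρ e⁻¹ = 1 := MonoidHom.mem_ker.mp (Subgroup.mem_inf.mp hec).2
  have h2 := rho_inv_eq_one ρ h1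
  rwa [inv_inv] at h2

end Cfsg.Agent.Lib.Helper7.FrobNorm
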