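import Mathlib
import Cfsg.Agent.Lib.Helper7.FrobNorm1

set_option autoImplicit false

/-!
# The norm lemma for a nilpotent kernel (main statement)
-/

namespace Cfsg.Agent.Lib.Helper7.FrobNorm

open Cfsg.Agent.Lib.Helper7.NormB Cfsg.Agent.Lib.Lead

universe u

variable {Γ : Type u} [Group Γ] [Fintype Γ] {A : Type*} [AddCommGroup A]
variable (ρ : Γ →* AddMonoid.End A)

theorem comm_elt_eq_one {M : Type*} [Group M] {x y : M} (h : x * y = y * x) :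
    x * y * x⁻¹ * y⁻¹ = 1 := by
  rw [h]; group

/-- no nontrivial element of `X` acts trivially -/
theorem inf_ker_eq_bot (F X : Subgroup Γ)
    (hXF : X ≤ Subgroup.normalizer (F : Set Γ))
    (hcopXF : (Nat.card X).Coprime (Nat.card F))
    (hfpf : ∀ h ∈ X, h ≠ 1 → ∀ e ∈ F, h * e = e * h → e = 1)
    (hnt : ∃ e ∈ F, ∃ a : A, ρ e a ≠ a) : X ⊓ ρ.ker = ⊥ := by
  rw [eq_bot_iff]
  intro h hh
  rw [Subgroup.mem_bot]
  by_contra hh1
  obtain ⟨hhX, hhK⟩ := Subgroup.mem_inf.mp hh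
  obtain ⟨e, he, a, hea⟩ := hnt
  apply hea
  have : ρ e = 1 := by
    apply rho_eq_one_of_comm ρ F X hXF hcopXF hfpf hhX hh1 he
    intro b hb
    have hbK : b ∈ ρ.ker := (Subgroup.zpowers_le.mpr hhK) hb
    rw [MonoidHom.mem_ker] at hbK
    rw [map_mul, map_mul, map_mul, hbK, rho_inv_eq_one ρ hbK, one_mul, mul_one, ← map_mul,
      mul_inv_cancel, map_one]
  rw [this]; rfl

/-- The norm lemma for a nilpotent kernel. -/
theorem nrm_ne_zero_nilpotent (F X : Subgroup Γ) (hFnil : Group.IsNilpotent F)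
    (hXF : X ≤ Subgroup.normalizer (F : Set Γ))
    (hcopXF : (Nat.card X).Coprime (Nat.card F))
    (hfpf : ∀ h ∈ X, h ≠ 1 → ∀ e ∈ F, h * e = e * h → e = 1)
    (hcop : ∀ a : A, Nat.card F • a = 0 → a = 0)
    (hnt : ∃ e ∈ F, ∃ a : A, ρ e a ≠ a) : ∃ a : A, nrm ρ X a ≠ 0 := by
  classical
  set Kρ : Subgroup Γ := ρ.ker with hKρ
  set π : Γ →* Γ ⧸ Kρ := QuotientGroup.mk' Kρ with hπ
  set ρ₁ : Γ ⧸ Kρ →* AddMonoid.End A := QuotientGroup.lift Kρ ρ le_rfl with hρ₁def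
  haveI : Fintype (Γ ⧸ Kρ) := Fintype.ofFinite _
  have hρ₁ : ∀ g, ρ₁ (π g) = ρ g := fun g => QuotientGroup.lift_mk' _ _ g
  have hπ1 : ∀ g, π g = 1 ↔ g ∈ Kρ := fun g => QuotientGroup.eq_one_iff g
  set F₁ : Subgroup (Γ ⧸ Kρ) := F.map π with hF₁
  set X₁ : Subgroup (Γ ⧸ Kρ) := X.map π with hX₁
  set E₁ : Subgroup (Γ ⧸ Kρ) := F₁ ⊓ Subgroup.centralizer (F₁ : Set (Γ ⧸ Kρ)) with hE₁
  haveI : Group.IsNilpotent F₁ :=
    Group.nilpotent_of_surjective (π.subgroupMap F) (π.subgroupMap_surjective F)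
  -- F₁ is nontrivial
  obtain ⟨e₀, he₀, a₀, hea₀⟩ := hnt
  have he₀1 : π e₀ ≠ 1 := by
    intro h0
    rw [hπ1, hKρ, MonoidHom.mem_ker] at h0
    apply hea₀
    rw [h0]; rfl
  haveI : Nontrivial F₁ :=
    ⟨⟨⟨π e₀, Subgroup.mem_map_of_mem _ he₀⟩, 1, fun h => he₀1 (congrArg Subtype.val h)⟩⟩
  have hcen := Group.IsNilpotent.center_ne_bot F₁
  obtain ⟨z, hz1⟩ := (Subgroup.ne_bot_iff_exists_ne_one).mp hcen
  have hz1' : (z : F₁) ≠ 1 := fun h => hz1 (Subtype.ext h)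
  have hzE : ((z : F₁) : Γ ⧸ Kρ) ∈ E₁ := by
    refine Subgroup.mem_inf.mpr ⟨(z : F₁).2, ?_⟩
    rw [Subgroup.mem_centralizer_iff]
    intro g hg
    have := (Subgroup.mem_center_iff.mp z.2) ⟨g, hg⟩
    exact congrArg Subtype.val this
  have hzne : ((z : F₁) : Γ ⧸ Kρ) ≠ 1 := fun h => hz1' (Subtype.ext h)
  -- hypotheses of the abelian norm lemma
  have hEc : ∀ a ∈ E₁, ∀ b ∈ E₁, a * b = b * a := by
    intro a ha b hb
    exact Subgroup.mem_centralizer_iff.mp (Subgroup.mem_inf.mp hb).2 a (Subgroup.mem_inf.mp ha).1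
  have hX₁F₁ : ∀ x ∈ X₁, ∀ f ∈ F₁, x * f * x⁻¹ ∈ F₁ := by
    intro x hx f hf
    obtain ⟨x, hxX, rfl⟩ := Subgroup.mem_map.mp hx
    obtain ⟨f, hfF, rfl⟩ := Subgroup.mem_map.mp hf
    rw [← map_inv, ← map_mul, ← map_mul]
    exact Subgroup.mem_map_of_mem _ ((Subgroup.mem_normalizer_iff.mp (hXF hxX) f).mp hfF)
  have hXE : X₁ ≤ Subgroup.normalizer (E₁ : Set (Γ ⧸ Kρ)) := by
    intro x hx
    apply Subgroup.mem_normalizer_fintype
    intro n hn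
    have hn' : n ∈ E₁ := hn
    obtain ⟨hnF, hnC⟩ := Subgroup.mem_inf.mp hn'
    refine Subgroup.mem_inf.mpr ⟨hX₁F₁ x hx n hnF, ?_⟩
    rw [Subgroup.mem_centralizer_iff]
    intro g hg
    have hg' : x⁻¹ * g * x⁻¹⁻¹ ∈ F₁ := hX₁F₁ x⁻¹ (X₁.inv_mem hx) g hg
    have hc := Subgroup.mem_centralizer_iff.mp hnC _ hg'
    have e1 : g * (x * n * x⁻¹) = x * ((x⁻¹ * g * x⁻¹⁻¹) * n) * x⁻¹ := by group
    rw [e1, hc]; group
  have hfpf₁ : ∀ h ∈ X₁, h ≠ 1 → ∀ e ∈ E₁, h * e = e * h → e = 1 := by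
    intro h hh hh1 e he hcomm
    obtain ⟨h, hhX, rfl⟩ := Subgroup.mem_map.mp hh
    obtain ⟨e, heF, rfl⟩ := Subgroup.mem_map.mp (Subgroup.mem_inf.mp he).1
    have hh1' : h ≠ 1 := by
      intro h0; apply hh1; rw [h0, map_one]
    rw [hπ1, hKρ, MonoidHom.mem_ker]
    apply rho_eq_one_of_comm ρ F X hXF hcopXF hfpf hhX hh1' heF
    intro b hb
    obtain ⟨k, rfl⟩ := Subgroup.mem_zpowers_iff.mp hb
    have hc : Commute (π (h ^ k)) (π e) := by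
      rw [map_zpow]
      exact Commute.zpow_left hcomm k
    have h2 : π (h ^ k * e * (h ^ k)⁻¹ * e⁻¹) = 1 := by
      rw [map_mul, map_mul, map_mul, map_inv, map_inv]
      exact comm_elt_eq_one hc.eq
    rw [hπ1, hKρ, MonoidHom.mem_ker] at h2
    exact h2
  have hcop₁ : ∀ a : A, Nat.card E₁ • a = 0 → a = 0 := by
    intro a ha
    apply hcop
    have h1 : Nat.card E₁ ∣ Nat.card F :=
      (Subgroup.card_dvd_of_le inf_le_left).trans (Subgroup.card_map_dvd F π)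
    obtain ⟨k, hk⟩ := h1
    rw [hk, mul_comm, mul_smul, ha, smul_zero]
  have hnt₁ : ∃ e ∈ E₁, ∃ a : A, ρ₁ e a ≠ a := by
    refine ⟨_, hzE, ?_⟩
    by_contra hall
    push Not at hall
    obtain ⟨f, hfF, hfz⟩ := Subgroup.mem_map.mp (z : F₁).2
    apply hzne
    rw [← hfz, hπ1, hKρ, MonoidHom.mem_ker]
    apply DFunLike.ext _ _ (fun a => ?_)
    have := hall a
    rw [← hfz, hρ₁] at this
    rw [this]; rfl
  obtain ⟨a, ha⟩ := nrm_ne_zero ρ₁ E₁ X₁ hEc hXE hfpf₁ hcop₁ hnt₁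
  refine ⟨a, ?_⟩
  -- compare the two norms
  have hbot := inf_ker_eq_bot ρ F X hXF hcopXF hfpf ⟨e₀, he₀, a₀, hea₀⟩
  have hinj : Set.InjOn π (fs X : Set Γ) := by
    intro x hx y hy hxy
    have hx' : x ∈ X := (mem_fs' X x).mp hx
    have hy' : y ∈ X := (mem_fs' X y).mp hy
    have h1 : π (x⁻¹ * y) = 1 := by rw [map_mul, map_inv, hxy, inv_mul_cancel]
    rw [hπ1] at h1
    have h2 : x⁻¹ * y ∈ X ⊓ ρ.ker := Subgroup.mem_inf.mpr ⟨X.mul_mem (X.inv_mem hx') hy', h1⟩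
    rw [hbot, Subgroup.mem_bot] at h2
    exact inv_mul_eq_one.mp h2
  have himg : fs X₁ = (fs X).image π := by
    ext y
    rw [mem_fs', Finset.mem_image]
    constructor
    · intro hy
      obtain ⟨x, hx, rfl⟩ := Subgroup.mem_map.mp hy
      exact ⟨x, (mem_fs' X x).mpr hx, rfl⟩
    · rintro ⟨x, hx, rfl⟩
      exact Subgroup.mem_map_of_mem _ ((mem_fs' X x).mp hx)
  have heq : nrm ρ₁ X₁ a = nrm ρ X a := by
    rw [nrm_apply, nrm_apply, himg, Finset.sum_image hinj]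
    apply Finset.sum_congr rfl
    intro x _
    rw [hρ₁]
  rw [← heq]
  exact ha

end Cfsg.Agent.Lib.Helper7.FrobNorm
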