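import Mathlib
import Cfsg.Agent.Lib.Helper7.FrobNorm2
import Cfsg.Agent.Lib.Helper7.NormB3
import Cfsg.Agent.Lib.Lead.CoprimeAction2

set_option autoImplicit false

/-!
# Norms in groups: abelian normal subgroups
-/

namespace Cfsg.Agent.Lib.Helper7.FrobNorm

open Cfsg.Agent.Lib.Helper7.NormB Cfsg.Agent.Lib.Lead
open scoped IsMulCommutative

universe u

variable {G : Type u} [Group G]

theorem map_pnorm {H : Type*} [Group H] (f : G →* H) (x v : G) (n : ℕ) :
    f (pnorm x v n) = pnorm (f x) (f v) n := by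
  induction n with
  | zero => simp [pnorm]
  | succ n ih =>
    show f (pnorm x v n * (x ^ n * v * (x ^ n)⁻¹)) =
      pnorm (f x) (f v) n * ((f x) ^ n * f v * ((f x) ^ n)⁻¹)
    rw [map_mul, ih, map_mul, map_mul, map_inv, map_pow]

theorem pnorm_mem (P : Subgroup G) {x v : G} (hx : x ∈ Subgroup.normalizer (P : Set G))
    (hv : v ∈ P) (n : ℕ) : pnorm x v n ∈ P := by
  induction n with
  | zero => exact P.one_mem
  | succ n ih =>
    show pnorm x v n * (x ^ n * v * (x ^ n)⁻¹) ∈ P
    exact P.mul_mem ih ((Subgroup.mem_normalizer_iff.mp (Subgroup.pow_mem _ hx n) v).mp hv)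

theorem sum_range_conj_eq_pnorm (V : Subgroup G) [V.Normal] [IsMulCommutative V]
    (x : G) (a : Additive V) (n : ℕ) :
    ((Additive.toMul (∑ i ∈ Finset.range n, conjEndHom V (x ^ i) a) : V) : G) =
      pnorm x ((Additive.toMul a : V) : G) n := by
  induction n with
  | zero => simp [pnorm]
  | succ n ih =>
    rw [Finset.sum_range_succ, toMul_add, Subgroup.coe_mul, ih, conjEndHom_apply]
    rfl

/-- the abelian case -/
theorem exists_pnorm_ne_one_abelian [Finite G] (V F : Subgroup G) [V.Normal] [IsMulCommutative V]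
    (c : G) (hFnil : Group.IsNilpotent F) (hcF : c ∈ Subgroup.normalizer (F : Set G))
    (hcopXF : (Nat.card (Subgroup.zpowers c)).Coprime (Nat.card F))
    (hfpf : ∀ h ∈ Subgroup.zpowers c, h ≠ 1 → ∀ e ∈ F, h * e = e * h → e = 1)
    (hcopV : (Nat.card F).Coprime (Nat.card V))
    (hnt : ¬ F ≤ Subgroup.centralizer (V : Set G)) :
    ∃ v ∈ V, pnorm c v (orderOf c) ≠ 1 := by
  classical
  haveI : Fintype G := Fintype.ofFinite G
  have hcop : ∀ a : Additive V, Nat.card F • a = 0 → a = 0 := by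
    intro a ha
    have h1 : (Additive.toMul a : V) ^ Nat.card F = 1 := by
      have := congrArg Additive.toMul ha
      simpa using this
    have h2 : (Additive.toMul a : V) ^ Nat.card V = 1 := pow_card_eq_one'
    have h3 : orderOf (Additive.toMul a : V) ∣ Nat.gcd (Nat.card F) (Nat.card V) :=
      Nat.dvd_gcd (orderOf_dvd_of_pow_eq_one h1) (orderOf_dvd_of_pow_eq_one h2)
    rw [hcopV, Nat.dvd_one, orderOf_eq_one_iff] at h3
    apply Additive.toMul.injective
    rw [h3]; rfl
  have hnt' : ∃ e ∈ F, ∃ a : Additive V, conjEndHom V e a ≠ a := by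
    obtain ⟨e, heF, heC⟩ := SetLike.not_le_iff_exists.mp hnt
    rw [Subgroup.mem_centralizer_iff] at heC
    push Not at heC
    obtain ⟨v, hvV, hve⟩ := heC
    refine ⟨e, heF, Additive.ofMul (⟨v, hvV⟩ : V), ?_⟩
    intro h0
    apply hve
    have h1 := congrArg (fun a => ((Additive.toMul a : V) : G)) h0
    simp only [conjEndHom_apply, toMul_ofMul] at h1
    have : e * v = (e * v * e⁻¹) * e := by group
    rw [this, h1]
  obtain ⟨a, ha⟩ := nrm_ne_zero_nilpotent (conjEndHom V) F (Subgroup.zpowers c) hFnil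
    (Subgroup.zpowers_le.mpr hcF) hcopXF hfpf hcop hnt'
  refine ⟨_, (Additive.toMul a : V).2, ?_⟩
  intro h0
  apply ha
  rw [nrm_zpowers]
  apply Additive.toMul.injective
  apply Subtype.ext
  rw [sum_range_conj_eq_pnorm, h0]
  rfl

end Cfsg.Agent.Lib.Helper7.FrobNorm
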