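import Mathlib
import Cfsg.Agent.Lib.Helper7.FrobNorm3

set_option autoImplicit false

/-!
# Norms in groups: normal `p`-subgroups
-/

namespace Cfsg.Agent.Lib.Helper7.FrobNorm

open Cfsg.Agent.Lib.Helper7.NormB Cfsg.Agent.Lib.Lead
open scoped IsMulCommutative commutatorElement

universe u

/-- the centre of a normal subgroup, as a subgroup of the big group -/
def zen {G : Type u} [Group G] (P : Subgroup G) : Subgroup G :=
  P ⊓ Subgroup.centralizer (P : Set G)

theorem zen_le {G : Type u} [Group G] (P : Subgroup G) : zen P ≤ P := inf_le_left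

instance zen_normal {G : Type u} [Group G] (P : Subgroup G) [hP : P.Normal] : (zen P).Normal := by
  constructor
  intro n hn g
  obtain ⟨hnP, hnC⟩ := Subgroup.mem_inf.mp hn
  refine Subgroup.mem_inf.mpr ⟨hP.conj_mem n hnP g, ?_⟩
  rw [Subgroup.mem_centralizer_iff]
  intro y hy
  have hy' : g⁻¹ * y * g⁻¹⁻¹ ∈ P := hP.conj_mem y hy g⁻¹
  have hc := Subgroup.mem_centralizer_iff.mp hnC _ hy'
  have e1 : y * (g * n * g⁻¹) = g * ((g⁻¹ * y * g⁻¹⁻¹) * n) * g⁻¹ := by group
  rw [e1, hc]; group

instance zen_comm {G : Type u} [Group G] (P : Subgroup G) : IsMulCommutative (zen P) := by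
  constructor
  constructor
  intro a b
  apply Subtype.ext
  exact Subgroup.mem_centralizer_iff.mp (Subgroup.mem_inf.mp b.2).2 a (Subgroup.mem_inf.mp a.2).1

theorem zen_ne_bot {G : Type u} [Group G] [Finite G] {p : ℕ} [Fact p.Prime] (P : Subgroup G)
    (hP : IsPGroup p P) (hP1 : P ≠ ⊥) : zen P ≠ ⊥ := by
  haveI : Nontrivial P := (Subgroup.nontrivial_iff_ne_bot P).mpr hP1
  have hc := hP.center_nontrivial
  obtain ⟨z, hz1⟩ := (Subgroup.ne_bot_iff_exists_ne_one).mp
    ((Subgroup.nontrivial_iff_ne_bot _).mp hc)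
  intro h0
  apply hz1
  have hmem : ((z : P) : G) ∈ zen P := by
    refine Subgroup.mem_inf.mpr ⟨(z : P).2, ?_⟩
    rw [Subgroup.mem_centralizer_iff]
    intro y hy
    have := (Subgroup.mem_center_iff.mp z.2) ⟨y, hy⟩
    exact congrArg Subtype.val this
  rw [h0, Subgroup.mem_bot] at hmem
  apply Subtype.ext
  apply Subtype.ext
  exact hmem

theorem inf_eq_bot_of_coprime_pgroup {G : Type u} [Group G] [Finite G] {p : ℕ} [Fact p.Prime]
    (F Z : Subgroup G) (hZ : IsPGroup p Z) (hF : (Nat.card F).Coprime p) : F ⊓ Z = ⊥ := by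
  obtain ⟨k, hk⟩ := IsPGroup.iff_card.mp hZ
  have hcop : (Nat.card F).Coprime (Nat.card Z) := by rw [hk]; exact Nat.Coprime.pow_right k hF
  exact (Subgroup.disjoint_of_coprime_natCard hcop).eq_bot

/-- **The norm lemma in groups.**  Let `P` be a normal `p`-subgroup of `G`, `F` a nilpotent
`p'`-subgroup not centralizing `P`, and `c` an element of order `m` normalizing `F` all of whose
nontrivial powers act fixed point freely on `F`.  Then some `v ∈ P` has nontrivial norm
`v · v^c ⋯`, i.e. `(v c)^m ≠ 1`. -/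
theorem exists_pnorm_ne_one (n : ℕ) : ∀ {G : Type u} [Group G] [Finite G] (p : ℕ) [Fact p.Prime]
    (P F : Subgroup G) [P.Normal] (c : G) (m : ℕ),
    Nat.card P = n → IsPGroup p P → Group.IsNilpotent F →
    c ∈ Subgroup.normalizer (F : Set G) → c ^ m = 1 →
    (∀ i, 0 < i → i < m → ∀ f ∈ F, c ^ i * f = f * c ^ i → f = 1) →
    m.Coprime (Nat.card F) → (Nat.card F).Coprime p →
    ¬ F ≤ Subgroup.centralizer (P : Set G) → ∃ v ∈ P, pnorm c v m ≠ 1 := by
  induction n using Nat.strong_induction_on with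
  | _ n ih =>
  intro G _ _ p _ P F hPn c m hcard hP hFnil hcF hcm hfpf hmF hFp hnt
  classical
  -- basic facts
  have hF1 : F ≠ ⊥ := by
    intro h0; apply hnt; rw [h0]; exact bot_le
  obtain ⟨f₀, hf₀F, hf₀1⟩ : ∃ f₀ : G, f₀ ∈ F ∧ f₀ ≠ 1 := by
    obtain ⟨f, hf⟩ := (Subgroup.ne_bot_iff_exists_ne_one).mp hF1
    exact ⟨(f : G), f.2, fun h => hf (Subtype.ext h)⟩
  have hm0 : m ≠ 0 := by
    intro h0
    rw [h0, Nat.coprime_zero_left] at hmF
    exact hF1 (Subgroup.card_eq_one.mp hmF)
  have hord : orderOf c = m := by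
    have hdvd : orderOf c ∣ m := orderOf_dvd_of_pow_eq_one hcm
    have hle : orderOf c ≤ m := Nat.le_of_dvd (Nat.pos_of_ne_zero hm0) hdvd
    rcases Nat.lt_or_ge (orderOf c) m with hlt | hge
    · exfalso
      have hpos : 0 < orderOf c := Nat.pos_of_dvd_of_pos hdvd (Nat.pos_of_ne_zero hm0)
      apply hf₀1
      apply hfpf (orderOf c) hpos hlt f₀ hf₀F
      rw [pow_orderOf_eq_one, one_mul, mul_one]
    · exact le_antisymm hle hge
  have hfpf' : ∀ h ∈ Subgroup.zpowers c, h ≠ 1 → ∀ e ∈ F, h * e = e * h → e = 1 := by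
    intro h hh hh1 e he hcomm
    rw [mem_zpowers_iff_mem_range_orderOf, Finset.mem_image] at hh
    obtain ⟨i, hi, rfl⟩ := hh
    rw [Finset.mem_range, hord] at hi
    have hi0 : 0 < i := by
      rcases Nat.eq_zero_or_pos i with h0 | h0
      · exfalso; apply hh1; rw [h0, pow_zero]
      · exact h0
    exact hfpf i hi0 hi e he hcomm
  have hcopXF : (Nat.card (Subgroup.zpowers c)).Coprime (Nat.card F) := by
    rw [Nat.card_zpowers, hord]; exact hmF
  have hP1 : P ≠ ⊥ := by
    intro h0; apply hnt; rw [h0]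
    intro f _
    rw [Subgroup.mem_centralizer_iff]
    intro y hy
    have : y = 1 := hy
    rw [this, one_mul, mul_one]
  set Z := zen P with hZ
  have hZP : Z ≤ P := zen_le P
  have hZp : IsPGroup p Z := hP.to_le hZP
  have hZ1 : Z ≠ ⊥ := zen_ne_bot P hP hP1
  have hFZ : F ⊓ Z = ⊥ := inf_eq_bot_of_coprime_pgroup F Z hZp hFp
  by_cases hcase : F ≤ Subgroup.centralizer (Z : Set G)
  swap
  · -- the abelian case
    have hcopV : (Nat.card F).Coprime (Nat.card Z) := by
      obtain ⟨k, hk⟩ := IsPGroup.iff_card.mp hZp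
      rw [hk]; exact Nat.Coprime.pow_right k hFp
    obtain ⟨v, hvZ, hv⟩ := exists_pnorm_ne_one_abelian Z F c hFnil hcF hcopXF hfpf' hcopV hcase
    rw [hord] at hv
    exact ⟨v, hZP hvZ, hv⟩
  · -- pass to the quotient by `Z`
    set π : G →* G ⧸ Z := QuotientGroup.mk' Z with hπ
    have hπ1 : ∀ g, π g = 1 ↔ g ∈ Z := fun g => QuotientGroup.eq_one_iff g
    have hπsurj : Function.Surjective π := QuotientGroup.mk'_surjective Z
    set P' : Subgroup (G ⧸ Z) := P.map π with hP'
    set F' : Subgroup (G ⧸ Z) := F.map π with hF'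
    haveI : P'.Normal := Subgroup.Normal.map hPn π hπsurj
    -- card
    have hlt : Nat.card P' < n := by
      rw [← hcard]
      haveI : Fintype P := Fintype.ofFinite _
      haveI : Fintype P' := Fintype.ofFinite _
      rw [Nat.card_eq_fintype_card, Nat.card_eq_fintype_card]
      apply Fintype.card_lt_of_surjective_not_injective (π.subgroupMap P)
        (π.subgroupMap_surjective P)
      intro hinj
      obtain ⟨z, hz1⟩ := (Subgroup.ne_bot_iff_exists_ne_one).mp hZ1
      have hzP : (z : G) ∈ P := hZP z.2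
      have h1 : π.subgroupMap P ⟨(z : G), hzP⟩ = π.subgroupMap P 1 := by
        apply Subtype.ext
        show π (z : G) = π 1
        rw [map_one, hπ1]; exact z.2
      have h2 := hinj h1
      apply hz1
      apply Subtype.ext
      exact congrArg (fun w : P => (w : G)) h2
    have hP'p : IsPGroup p P' := hP.map π
    haveI hF'nil : Group.IsNilpotent F' :=
      Group.nilpotent_of_surjective (π.subgroupMap F) (π.subgroupMap_surjective F)
    have hcF' : π c ∈ Subgroup.normalizer (F' : Set (G ⧸ Z)) := by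
      apply Subgroup.mem_normalizer_fintype
      intro y hy
      have hy' : y ∈ F' := hy
      obtain ⟨f, hfF, rfl⟩ := Subgroup.mem_map.mp hy'
      rw [← map_inv, ← map_mul, ← map_mul]
      exact Subgroup.mem_map_of_mem _ ((Subgroup.mem_normalizer_iff.mp hcF f).mp hfF)
    have hcm' : (π c) ^ m = 1 := by rw [← map_pow, hcm, map_one]
    have hfpf'' : ∀ i, 0 < i → i < m → ∀ f ∈ F', (π c) ^ i * f = f * (π c) ^ i → f = 1 := by
      intro i hi0 him f hf hcomm
      obtain ⟨f, hfF, rfl⟩ := Subgroup.mem_map.mp hf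
      have h1 : π (c ^ i * f * (c ^ i)⁻¹ * f⁻¹) = 1 := by
        rw [map_mul, map_mul, map_mul, map_inv, map_inv, map_pow]
        exact comm_elt_eq_one hcomm
      rw [hπ1] at h1
      have h2 : c ^ i * f * (c ^ i)⁻¹ * f⁻¹ ∈ F :=
        F.mul_mem ((Subgroup.mem_normalizer_iff.mp (Subgroup.pow_mem _ hcF i) f).mp hfF)
          (F.inv_mem hfF)
      have h3 : c ^ i * f * (c ^ i)⁻¹ * f⁻¹ ∈ F ⊓ Z := Subgroup.mem_inf.mpr ⟨h2, h1⟩
      rw [hFZ, Subgroup.mem_bot] at h3
      have h4 : c ^ i * f = f * c ^ i := by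
        have : c ^ i * f = (c ^ i * f * (c ^ i)⁻¹ * f⁻¹) * (f * c ^ i) := by group
        rw [this, h3, one_mul]
      rw [hfpf i hi0 him f hfF h4, map_one]
    have hF'dvd : Nat.card F' ∣ Nat.card F := Subgroup.card_map_dvd F π
    have hmF' : m.Coprime (Nat.card F') := Nat.Coprime.coprime_dvd_right hF'dvd hmF
    have hF'p : (Nat.card F').Coprime p := Nat.Coprime.coprime_dvd_left hF'dvd hFp
    have hnt' : ¬ F' ≤ Subgroup.centralizer (P' : Set (G ⧸ Z)) := by
      intro hle
      apply hnt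
      -- [P, F] ≤ Z
      have h1 : ⁅P, F⁆ ≤ Z := by
        rw [Subgroup.commutator_le]
        intro y hy f hf
        rw [← hπ1]
        have hc := Subgroup.mem_centralizer_iff.mp (hle (Subgroup.mem_map_of_mem π hf)) (π y)
          (Subgroup.mem_map_of_mem π hy)
        show π (y * f * y⁻¹ * f⁻¹) = 1
        rw [map_mul, map_mul, map_mul, map_inv, map_inv]
        exact comm_elt_eq_one hc
      have h2 : ⁅Z, F⁆ = ⊥ := by
        rw [Subgroup.commutator_comm, Subgroup.commutator_eq_bot_iff_le_centralizer]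
        exact hcase
      have hFP : F ≤ Subgroup.normalizer (P : Set G) := by
        rw [Subgroup.normalizer_eq_top]; exact le_top
      have hcopFP : (Nat.card F).Coprime (Nat.card P) := by
        obtain ⟨k, hk⟩ := IsPGroup.iff_card.mp hP
        rw [hk]; exact Nat.Coprime.pow_right k hFp
      have hsolv : Group.IsSolvable F := inferInstance
      have h3 := coprime_commutator_stable F P hFP hcopFP (Or.inl hsolv)
      have h4 : ⁅⁅P, F⁆, F⁆ ≤ ⁅Z, F⁆ := Subgroup.commutator_mono h1 le_rfl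
      rw [h3, h2, le_bot_iff] at h4
      rw [Subgroup.commutator_comm, Subgroup.commutator_eq_bot_iff_le_centralizer] at h4
      exact h4
    obtain ⟨v', hv'P, hv'⟩ := ih (Nat.card P') hlt p P' F' (π c) m rfl hP'p hF'nil hcF' hcm'
      hfpf'' hmF' hF'p hnt'
    obtain ⟨v, hvP, rfl⟩ := Subgroup.mem_map.mp hv'P
    refine ⟨v, hvP, ?_⟩
    intro h0
    apply hv'
    rw [← map_pnorm, h0, map_one]

end Cfsg.Agent.Lib.Helper7.FrobNorm
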