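import Mathlib
import Cfsg.Agent.Lib.Helper7.FrobNorm4

set_option autoImplicit false

/-!
# Finishing lemma for Mazurov's lemma
-/

namespace Cfsg.Agent.Lib.Helper7.FrobNorm

universe u

variable {G : Type u} [Group G] [Finite G]

/-- if `y` has order `m` modulo `N` and `y ^ m ≠ 1` then `G` has an element of order `p m` for a
prime divisor `p` of `|N|` -/
theorem exists_order_prime_mul (N : Subgroup G) [N.Normal] (y : G) (m : ℕ)
    (hm : orderOf (QuotientGroup.mk' N y) = m) (hy : y ^ m ≠ 1) :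
    ∃ p : ℕ, p.Prime ∧ p ∣ Nat.card N ∧ ∃ g : G, orderOf g = p * m := by
  have hm0 : m ≠ 0 := by
    rw [← hm]; exact (orderOf_pos _).ne'
  have hyN : y ^ m ∈ N := by
    rw [← QuotientGroup.eq_one_iff, QuotientGroup.mk_pow]
    have := pow_orderOf_eq_one (QuotientGroup.mk' N y)
    rw [hm] at this
    exact this
  set t := orderOf (y ^ m) with ht
  have ht1 : t ≠ 1 := by
    intro h; exact hy (orderOf_eq_one_iff.mp h)
  have htN : t ∣ Nat.card N := by
    have h1 : orderOf (⟨y ^ m, hyN⟩ : N) ∣ Nat.card N := orderOf_dvd_natCard _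
    rwa [Subgroup.orderOf_mk] at h1
  have hdvd : m ∣ orderOf y := by
    rw [← hm]; exact orderOf_map_dvd (QuotientGroup.mk' N) y
  have ht' : t = orderOf y / m := orderOf_pow_of_dvd hm0 hdvd
  have hoy : orderOf y = m * t := by rw [ht', Nat.mul_div_cancel' hdvd]
  have hq : t.minFac.Prime := Nat.minFac_prime ht1
  obtain ⟨s, hs⟩ := Nat.minFac_dvd t
  have ht0 : t ≠ 0 := (orderOf_pos _).ne'
  have hs0 : s ≠ 0 := by
    intro h0; rw [h0, mul_zero] at hs; exact ht0 hs
  have hsdvd : s ∣ orderOf y := by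
    rw [hoy, hs]; exact Dvd.intro_left (m * t.minFac) (by ring)
  refine ⟨t.minFac, hq, (Nat.minFac_dvd t).trans htN, y ^ s, ?_⟩
  rw [orderOf_pow_of_dvd hs0 hsdvd, hoy]
  have : m * t = (t.minFac * m) * s := by
    calc m * t = m * (t.minFac * s) := by rw [← hs]
      _ = (t.minFac * m) * s := by ring
  rw [this, Nat.mul_div_cancel _ (Nat.pos_of_ne_zero hs0)]

end Cfsg.Agent.Lib.Helper7.FrobNorm
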