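import Mathlib

set_option autoImplicit false
set_option linter.style.haveILetI false
set_option linter.unusedSectionVars false

/-!
A Frobenius group `⟨y⟩ ⋊ ⟨σ⟩` of order `q p` acting on an abelian normal subgroup `V` with `y`
fixed-point-free: then `V ⟨σ⟩` cannot have exponent `p` (package S4004-T).
-/

namespace Cfsg.Agent.Lib.Helper7.FrobPQ

open Subgroup

section abstract

variable {G A : Type*} [Group G] [Finite G] [CommGroup A]

/-- the `Y`-norm of `v`, `Y = ⟨y⟩`. -/
noncomputable def normY (c : G →* MulAut A) (y : G) (v : A) : A :=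
  letI : Fintype ↥(zpowers y) := Fintype.ofFinite _
  ∏ u : ↥(zpowers y), c (u : G) v

theorem normY_fixed (c : G →* MulAut A) (y : G) (v : A) : c y (normY c y v) = normY c y v := by
  classical
  letI : Fintype ↥(zpowers y) := Fintype.ofFinite _
  have h1 : normY c y v = ∏ u : ↥(zpowers y), c (u : G) v := by
    unfold normY
    congr!
  rw [h1, map_prod]
  let e : ↥(zpowers y) ≃ ↥(zpowers y) := Equiv.mulLeft ⟨y, mem_zpowers y⟩
  rw [← Equiv.prod_comp e (fun u => c (u : G) v)]
  refine Finset.prod_congr rfl ?_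
  intro u _
  show c y (c (u : G) v) = c ((⟨y, mem_zpowers y⟩ * u : ↥(zpowers y)) : G) v
  rw [Subgroup.coe_mul, map_mul]
  rfl

theorem normY_eq_one (c : G →* MulAut A) (y : G) (hfpf : ∀ v : A, c y v = v → v = 1) (v : A) :
    normY c y v = 1 :=
  hfpf _ (normY_fixed c y v)

theorem conj_pow_mem (y σ : G) (hnorm : σ * y * σ⁻¹ ∈ zpowers y) (k : ℕ) :
    ∀ u ∈ zpowers y, σ ^ k * u * (σ ^ k)⁻¹ ∈ zpowers y := by
  have h1 : ∀ u ∈ zpowers y, σ * u * σ⁻¹ ∈ zpowers y := by
    intro u hu
    obtain ⟨m, rfl⟩ := mem_zpowers_iff.1 hu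
    have : σ * y ^ m * σ⁻¹ = (σ * y * σ⁻¹) ^ m := by
      rw [conj_zpow]
    rw [this]
    exact zpow_mem hnorm m
  induction k with
  | zero => intro u hu; simpa using hu
  | succ k ih =>
    intro u hu
    have := h1 _ (ih u hu)
    have e : σ ^ (k + 1) * u * (σ ^ (k + 1))⁻¹ = σ * (σ ^ k * u * (σ ^ k)⁻¹) * σ⁻¹ := by
      rw [pow_succ', mul_inv_rev]
      simp only [mul_assoc]
    rw [e]
    exact this

theorem pow_eq_one_of_frobenius (c : G →* MulAut A)
    (y σ : G) (p q : ℕ) (hp : p.Prime) (hq : q.Prime) (hy : orderOf y = q) (hσ : orderOf σ = p)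
    (hnorm : σ * y * σ⁻¹ ∈ zpowers y)
    (hfpf : ∀ v : A, c y v = v → v = 1)
    (hncomm : ∀ i : ℕ, σ ^ i ≠ 1 → σ ^ i * y ≠ y * σ ^ i)
    (hexp : ∀ w : A, ∏ i ∈ Finset.range p, c (σ ^ i) w = 1) (v : A) : v ^ q = 1 := by
  classical
  letI : Fintype ↥(zpowers y) := Fintype.ofFinite _
  have hN : ∀ w : A, ∏ u : ↥(zpowers y), c (u : G) w = 1 := by
    intro w
    have := normY_eq_one c y hfpf w
    unfold normY at this
    convert this
  have hcardY : Fintype.card ↥(zpowers y) = q := by
    rw [← Nat.card_eq_fintype_card, Nat.card_zpowers, hy]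
  haveI : Fact q.Prime := ⟨hq⟩
  have hNatCard : Nat.card ↥(zpowers y) = q := by
    rw [Nat.card_eq_fintype_card, hcardY]
  -- (ii') the product over `1 ≤ i < p`
  have hii : ∀ w : A, ∏ i ∈ Finset.Ico 1 p, c (σ ^ i) w = w⁻¹ := by
    intro w
    have h := hexp w
    rw [Finset.range_eq_Ico, Finset.prod_eq_prod_Ico_succ_bot hp.pos, pow_zero, map_one] at h
    have h' : w * ∏ i ∈ Finset.Ico 1 p, c (σ ^ i) w = 1 := h
    exact eq_inv_of_mul_eq_one_right h'
  -- (iii)
  have hiii : ∀ i ∈ Finset.Ico 1 p, ∏ u : ↥(zpowers y), c ((u : G)⁻¹ * σ ^ i * (u : G)) v = 1 := by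
    intro i hi
    rw [Finset.mem_Ico] at hi
    set s : G := σ ^ i with hs
    have hs1 : s ≠ 1 := by
      intro h
      have := orderOf_dvd_of_pow_eq_one h
      rw [hσ] at this
      have := Nat.le_of_dvd (by omega) this
      omega
    have hsinv : s⁻¹ = σ ^ ((p - 1) * i) := by
      rw [hs, eq_comm, ← mul_eq_one_iff_eq_inv, ← pow_add]
      have : (p - 1) * i + i = p * i := by
        have := hp.pos
        have e : p = (p - 1) + 1 := by omega
        nth_rewrite 2 [e]
        ring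
      rw [this, pow_mul, ← hσ, pow_orderOf_eq_one, one_pow]
    -- `φ u = s⁻¹ u⁻¹ s u ∈ Y`
    have hφmem : ∀ u : ↥(zpowers y), s⁻¹ * (u : G)⁻¹ * s * (u : G) ∈ zpowers y := by
      intro u
      have h1 : s⁻¹ * (u : G)⁻¹ * s ∈ zpowers y := by
        have := conj_pow_mem y σ hnorm ((p - 1) * i) ((u : G)⁻¹) (inv_mem u.2)
        rw [← hsinv, inv_inv] at this
        exact this
      exact mul_mem h1 u.2
    let φ : ↥(zpowers y) → ↥(zpowers y) := fun u => ⟨s⁻¹ * (u : G)⁻¹ * s * (u : G), hφmem u⟩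
    have hφinj : Function.Injective φ := by
      intro u u' huu'
      have h0 : s⁻¹ * (u : G)⁻¹ * s * (u : G) = s⁻¹ * (u' : G)⁻¹ * s * (u' : G) :=
        congrArg Subtype.val huu'
      have h1 : (u : G)⁻¹ * s * (u : G) = (u' : G)⁻¹ * s * (u' : G) := by
        have := congrArg (fun z => s * z) h0
        simpa [mul_assoc] using this
      -- `t = u' u⁻¹` commutes with `s`
      set t : ↥(zpowers y) := u' * u⁻¹ with ht
      have htc : (t : G) * s = s * (t : G) := by
        have h2 := congrArg (fun z => (u' : G) * z * (u : G)⁻¹) h1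
        beta_reduce at h2
        have e1 : (u' : G) * ((u : G)⁻¹ * s * (u : G)) * (u : G)⁻¹ = ((u' : G) * (u : G)⁻¹) * s := by
          simp [mul_assoc]
        have e2 : (u' : G) * ((u' : G)⁻¹ * s * (u' : G)) * (u : G)⁻¹ = s * ((u' : G) * (u : G)⁻¹) := by
          simp [mul_assoc]
        rw [e1, e2] at h2
        simpa [ht] using h2
      by_contra hne
      have ht1 : t ≠ 1 := by
        intro h
        apply hne
        have : u' = u := by
          have := congrArg (fun z => z * u) h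
          simpa [ht] using this
        exact this.symm
      have htop := zpowers_eq_top_of_prime_card hNatCard ht1
      have hymem : (⟨y, mem_zpowers y⟩ : ↥(zpowers y)) ∈ zpowers t := by
        rw [htop]; exact mem_top _
      obtain ⟨m, hm⟩ := mem_zpowers_iff.1 hymem
      have hym : y = (t : G) ^ m := by
        have h3 := congrArg Subtype.val hm
        rw [Subgroup.coe_zpow] at h3
        exact h3.symm
      have hcomm : Commute s ((t : G) ^ m) := (Commute.zpow_right (show Commute s (t : G) from htc.symm) m)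
      exact hncomm i hs1 (by rw [hym]; exact hcomm.eq)
    have hφbij : Function.Bijective φ := Finite.injective_iff_bijective.1 hφinj
    have hrew : ∀ u : ↥(zpowers y),
        c ((u : G)⁻¹ * s * (u : G)) v = c s (c ((φ u : ↥(zpowers y)) : G) v) := by
      intro u
      show c ((u : G)⁻¹ * s * (u : G)) v = c s (c (s⁻¹ * (u : G)⁻¹ * s * (u : G)) v)
      rw [← MulAut.mul_apply, ← map_mul]
      congr 2
      simp [mul_assoc]
    calc ∏ u : ↥(zpowers y), c ((u : G)⁻¹ * s * (u : G)) v
        = ∏ u : ↥(zpowers y), c s (c ((φ u : ↥(zpowers y)) : G) v) :=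
          Finset.prod_congr rfl (fun u _ => hrew u)
      _ = c s (∏ u : ↥(zpowers y), c ((φ u : ↥(zpowers y)) : G) v) := (map_prod _ _ _).symm
      _ = c s (∏ u : ↥(zpowers y), c (u : G) v) := by
          rw [Function.Bijective.prod_comp hφbij (fun u => c (u : G) v)]
      _ = 1 := by rw [hN, map_one]
  -- (iv)
  have hD1 : ∏ u : ↥(zpowers y), ∏ i ∈ Finset.Ico 1 p, c ((u : G)⁻¹ * σ ^ i * (u : G)) v = 1 := by
    rw [Finset.prod_comm]
    exact Finset.prod_eq_one hiii
  have hinner : ∀ u : ↥(zpowers y),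
      ∏ i ∈ Finset.Ico 1 p, c ((u : G)⁻¹ * σ ^ i * (u : G)) v = v⁻¹ := by
    intro u
    have h1 : ∀ i ∈ Finset.Ico 1 p, c ((u : G)⁻¹ * σ ^ i * (u : G)) v =
        c ((u : G)⁻¹) (c (σ ^ i) (c (u : G) v)) := by
      intro i _
      rw [map_mul, map_mul]
      rfl
    rw [Finset.prod_congr rfl h1, ← map_prod, hii, map_inv, ← MulAut.mul_apply, ← map_mul,
      inv_mul_cancel, map_one]
    rfl
  rw [Finset.prod_congr rfl (fun u _ => hinner u), Finset.prod_const, Finset.card_univ, hcardY,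
    inv_pow, inv_eq_one] at hD1
  exact hD1

end abstract

/-- **Package S4004-T.** -/
theorem eq_bot_of_frobenius_pq_action {G : Type*} [Group G] [Finite G] (V : Subgroup G) [V.Normal]
    (hVc : ∀ a ∈ V, ∀ b ∈ V, a * b = b * a)
    (y σ : G) (p q : ℕ) (hp : p.Prime) (hq : q.Prime)
    (hy : orderOf y = q) (hσ : orderOf σ = p)
    (hnorm : σ * y * σ⁻¹ ∈ Subgroup.zpowers y)
    (hfpf : ∀ v ∈ V, y * v = v * y → v = 1)
    (hncomm : ∀ i : ℕ, σ ^ i ≠ 1 → σ ^ i * y ≠ y * σ ^ i)
    (hqV : ∀ v ∈ V, v ^ q = 1 → v = 1)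
    (hexp : ∀ v ∈ V, (v * σ) ^ p = 1) : V = ⊥ := by
  classical
  letI instC : CommGroup ↥V :=
    { (inferInstance : Group ↥V) with
      mul_comm := fun a b => Subtype.ext (hVc a a.2 b b.2) }
  let c : G →* MulAut ↥V := MulAut.conjNormal
  have hcapp : ∀ (g : G) (v : ↥V), ((c g v : ↥V) : G) = g * v * g⁻¹ := fun g v =>
    MulAut.conjNormal_apply g v
  have hfpf' : ∀ v : ↥V, c y v = v → v = 1 := by
    intro v hv
    have h1 : y * (v : G) * y⁻¹ = v := by rw [← hcapp, hv]
    have h2 : y * (v : G) = v * y := by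
      have := congrArg (fun z => z * y) h1
      simpa [mul_assoc] using this
    exact Subtype.ext (hfpf v v.2 h2)
  have hexp' : ∀ w : ↥V, ∏ i ∈ Finset.range p, c (σ ^ i) w = 1 := by
    intro w
    have key : ∀ n : ℕ, ((w : G) * σ) ^ n =
        ((∏ i ∈ Finset.range n, c (σ ^ i) w : ↥V) : G) * σ ^ n := by
      intro n
      induction n with
      | zero => simp
      | succ n ih =>
        rw [pow_succ, ih, Finset.prod_range_succ, Subgroup.coe_mul, hcapp, pow_succ]
        simp only [mul_assoc, inv_mul_cancel_left]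
    have h := key p
    have hσp : σ ^ p = 1 := by rw [← hσ]; exact pow_orderOf_eq_one σ
    rw [hexp w w.2, hσp, mul_one] at h
    exact Subtype.ext (h.symm.trans (Subgroup.coe_one V).symm)
  have hall : ∀ v : ↥V, v ^ q = 1 :=
    pow_eq_one_of_frobenius c y σ p q hp hq hy hσ hnorm hfpf' hncomm hexp'
  rw [eq_bot_iff]
  intro v hv
  have h1 := hall ⟨v, hv⟩
  have h2 : v ^ q = 1 := by
    have := congrArg Subtype.val h1
    simpa using this
  rw [mem_bot]
  exact hqV v hv h2

end Cfsg.Agent.Lib.Helper7.FrobPQ
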