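import Mathlib
import Cfsg.Prelude.Def_FusionSystem
import Cfsg.Agent.Lib.Helper9.FusionBasic

set_option autoImplicit false

namespace Cfsg.Agent.Lib.Helper7.FusCH

open Cfsg Cfsg.FusionSystem Cfsg.Agent.Lib.Helper9

variable {Ω : Type*} [Group Ω] {S : Subgroup Ω}

/-- `x` is carried to `y` by some map of the system whose source contains `x`. -/
def Fc (F : FusionSystem S) (x y : Ω) : Prop :=
  ∃ (P : Subgroup Ω) (φ : P →* Ω) (hx : x ∈ P), φ ∈ F.Hom P ∧ φ ⟨x, hx⟩ = y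

theorem Fc_of_isConjElt (F : FusionSystem S) {x y : Ω} (h : F.IsConjElt x y) : Fc F x y := by
  obtain ⟨φ, hφ, h⟩ := h
  exact ⟨_, φ, Subgroup.mem_zpowers x, hφ, h⟩

theorem isConjElt_of_Fc (F : FusionSystem S) {x y : Ω} (h : Fc F x y) : F.IsConjElt x y := by
  obtain ⟨P, φ, hx, hφ, h⟩ := h
  have hle : Subgroup.zpowers x ≤ P := (Subgroup.zpowers_le).mpr hx
  refine ⟨φ.comp (Subgroup.inclusion hle), fs_restrict_mem F hφ hle, ?_⟩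
  rw [← h]
  rfl

theorem Fc_mem_left (F : FusionSystem S) {x y : Ω} (h : Fc F x y) : x ∈ S := by
  obtain ⟨P, φ, hx, hφ, h⟩ := h
  exact (F.le_of_mem hφ).1 hx

theorem Fc_mem_right (F : FusionSystem S) {x y : Ω} (h : Fc F x y) : y ∈ S := by
  obtain ⟨P, φ, hx, hφ, h⟩ := h
  rw [← h]
  exact (F.le_of_mem hφ).2 _

theorem Fc_refl (F : FusionSystem S) {x : Ω} (hx : x ∈ S) : Fc F x x :=
  ⟨S, S.subtype, hx, fs_subtype_mem F le_rfl, rfl⟩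

theorem Fc_symm (F : FusionSystem S) {x y : Ω} (h : Fc F x y) : Fc F y x := by
  obtain ⟨P, φ, hx, hφ, h⟩ := h
  obtain ⟨ψ, hψ, hψφ⟩ := F.inv_mem hφ
  have hy : y ∈ φ.range := ⟨⟨x, hx⟩, h⟩
  refine ⟨φ.range, ψ, hy, hψ, ?_⟩
  have : (⟨y, hy⟩ : φ.range) = ⟨φ ⟨x, hx⟩, ⟨⟨x, hx⟩, rfl⟩⟩ := Subtype.ext h.symm
  rw [this, hψφ]

theorem Fc_trans (F : FusionSystem S) {x y w : Ω} (h1 : Fc F x y) (h2 : Fc F y w) : Fc F x w := by
  obtain ⟨P, φ, hx, hφ, h⟩ := h1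
  obtain ⟨Q, ψ, hy, hψ, h'⟩ := h2
  let P' : Subgroup Ω := (Q.comap φ).map P.subtype
  have hP'P : P' ≤ P := Subgroup.map_subtype_le _
  have hxP' : x ∈ P' := by
    refine ⟨⟨x, hx⟩, ?_, rfl⟩
    show φ ⟨x, hx⟩ ∈ Q
    rw [h]; exact hy
  have hφ' : φ.comp (Subgroup.inclusion hP'P) ∈ F.Hom P' := fs_restrict_mem F hφ hP'P
  have hval : ∀ p : P', (φ.comp (Subgroup.inclusion hP'P)) p ∈ Q := by
    rintro ⟨p, ⟨q, hq, rfl⟩⟩
    have : Subgroup.inclusion hP'P ⟨P.subtype q, ⟨q, hq, rfl⟩⟩ = q := Subtype.ext rfl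
    show φ (Subgroup.inclusion hP'P ⟨P.subtype q, ⟨q, hq, rfl⟩⟩) ∈ Q
    rw [this]; exact hq
  refine ⟨P', _, hxP', F.comp_mem hφ' hψ hval, ?_⟩
  show ψ ⟨φ (Subgroup.inclusion hP'P ⟨x, hxP'⟩), _⟩ = w
  rw [← h']
  congr 1
  apply Subtype.ext
  show φ (Subgroup.inclusion hP'P ⟨x, hxP'⟩) = y
  rw [← h]
  rfl

theorem Fc_inv (F : FusionSystem S) {x y : Ω} (h : Fc F x y) : Fc F x⁻¹ y⁻¹ := by
  obtain ⟨P, φ, hx, hφ, h⟩ := h
  refine ⟨P, φ, P.inv_mem hx, hφ, ?_⟩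
  have : (⟨x⁻¹, P.inv_mem hx⟩ : P) = (⟨x, hx⟩ : P)⁻¹ := rfl
  rw [this, map_inv, h]

theorem Fc_pow (F : FusionSystem S) {x y : Ω} (h : Fc F x y) (k : ℕ) : Fc F (x ^ k) (y ^ k) := by
  obtain ⟨P, φ, hx, hφ, h⟩ := h
  refine ⟨P, φ, P.pow_mem hx k, hφ, ?_⟩
  have : (⟨x ^ k, P.pow_mem hx k⟩ : P) = (⟨x, hx⟩ : P) ^ k := rfl
  rw [this, map_pow, h]

/-- If `x` is carried to `y` and `x ^ k = 1` then `y ^ k = 1`, and conversely. -/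
theorem Fc_pow_eq_one_iff (F : FusionSystem S) {x y : Ω} (h : Fc F x y) (k : ℕ) : x ^ k = 1 ↔ y ^ k = 1 := by
  obtain ⟨P, φ, hx, hφ, h⟩ := h
  have hpow : φ ((⟨x, hx⟩ : P) ^ k) = y ^ k := by rw [map_pow, h]
  constructor
  · intro hk
    have : (⟨x, hx⟩ : P) ^ k = 1 := Subtype.ext (by simpa using hk)
    rw [← hpow, this, map_one]
  · intro hk
    rw [hk] at hpow
    have h1 : φ ((⟨x, hx⟩ : P) ^ k) = φ 1 := by rw [hpow, map_one]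
    have := F.injective_of_mem hφ h1
    have := congrArg Subtype.val this
    simpa using this

end Cfsg.Agent.Lib.Helper7.FusCH
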