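import Mathlib
import Cfsg.Prelude.Def_FusionSystem
import Cfsg.Agent.Lib.Helper7.FusCH1
import Cfsg.Agent.Lib.Helper9.FusionNormal3
import Cfsg.Agent.S5083

set_option autoImplicit false

namespace Cfsg.Agent.Lib.Helper7.FusCH

open Cfsg Cfsg.FusionSystem Cfsg.Agent.Lib.Helper9

variable {Ω : Type*} [Group Ω] {S : Subgroup Ω}

/-- the centre of `S`, as elements of the ambient group -/
def ZS (S : Subgroup Ω) : Subgroup Ω := S ⊓ Subgroup.centralizer (S : Set Ω)

theorem mem_ZS_iff {z : Ω} : z ∈ ZS S ↔ z ∈ S ∧ ∀ s ∈ S, s * z = z * s := by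
  unfold ZS
  rw [Subgroup.mem_inf, Subgroup.mem_centralizer_iff]
  rfl

theorem centralizerIn_zpowers_of_mem_ZS {z : Ω} (hz : z ∈ ZS S) :
    centralizerIn S (Subgroup.zpowers z) = S := by
  apply le_antisymm inf_le_left
  intro s hs
  refine ⟨hs, Subgroup.mem_centralizer_iff.mpr ?_⟩
  intro y hy
  obtain ⟨k, rfl⟩ := Subgroup.mem_zpowers_iff.mp hy
  have h1 : Commute s z := (mem_ZS_iff.mp hz).2 s hs
  exact ((h1.zpow_right k).eq).symm

/-- Burnside: central elements of `S` conjugate in a saturated system are conjugate under `Aut_F(S)`. -/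
theorem exists_aut_of_Fc_central [Finite S] (p : ℕ) [Fact p.Prime] (hS : IsPGroup p S) (F : FusionSystem S)
    (hF : F.IsSaturated p) {z z' : Ω} (hz : z ∈ ZS S) (hz' : z' ∈ ZS S) (h : Fc F z z') :
    ∃ α : S →* Ω, α ∈ F.Hom S ∧ (∀ x : S, α x ∈ S) ∧ α ⟨z, hz.1⟩ = z' := by
  obtain ⟨φ, hφ, hφz⟩ := isConjElt_of_Fc F h
  have hrange : φ.range = Subgroup.zpowers z' := by
    rw [MonoidHom.range_eq_map]
    have : (⊤ : Subgroup (Subgroup.zpowers z)) = Subgroup.zpowers ⟨z, Subgroup.mem_zpowers z⟩ := by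
      rw [eq_comm, Subgroup.eq_top_iff']
      rintro ⟨y, hy⟩
      obtain ⟨k, rfl⟩ := Subgroup.mem_zpowers_iff.mp hy
      exact Subgroup.mem_zpowers_iff.mpr ⟨k, Subtype.ext (by simp)⟩
    rw [this, MonoidHom.map_zpowers, hφz]
  have hVS : Subgroup.zpowers z' ≤ S := (Subgroup.zpowers_le).mpr hz'.1
  have hfc : F.IsFullyCentralized (Subgroup.zpowers z') := by
    refine ⟨hVS, fun Q _ => ?_⟩
    rw [centralizerIn_zpowers_of_mem_ZS hz']
    have : Finite (centralizerIn S Q) := fs_finite_of_le (fs_centralizerIn_le S Q)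
    exact Subgroup.card_le_of_le (fs_centralizerIn_le S Q)
  have hrec := fs_extension_axiom p hS F hF hfc
  obtain ⟨χ, hχ, hQN, hCN, hχφ, -⟩ := fs_receptive_extend F hrec hφ hrange
  rw [centralizerIn_zpowers_of_mem_ZS hz] at hCN
  refine ⟨χ.comp (Subgroup.inclusion hCN), fs_restrict_mem F hχ hCN, fun x => (F.le_of_mem hχ).2 _, ?_⟩
  rw [← hφz, ← hχφ]
  rfl

/-- In a saturated system, an element of `Aut_F(S)` of `p`-power order is inner. -/
theorem mem_inn_of_pow_eq_one [Finite S] (p : ℕ) [Fact p.Prime] (hS : IsPGroup p S) (F : FusionSystem S)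
    (hF : F.IsSaturated p) {b : MulAut S} (hb : b ∈ F.autGroup S) (k : ℕ) (hbk : b ^ p ^ k = 1) :
    b ∈ Inn S := by
  obtain ⟨-, T₀, hT₀⟩ := (fs_sylow_axiom p hS F hF (Cfsg.Agent.S5083.top_fullyNormalized F)).2
  rw [autInducedBy_self_eq_inn] at hT₀
  haveI hN : ((Inn S).subgroupOf (F.autGroup S)).Normal := inferInstance
  haveI hT₀n : (T₀ : Subgroup (F.autGroup S)).Normal := by rw [hT₀]; exact hN
  have hpg : IsPGroup p (Subgroup.zpowers (⟨b, hb⟩ : F.autGroup S)) := by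
    rintro ⟨g, hg⟩
    obtain ⟨j, rfl⟩ := Subgroup.mem_zpowers_iff.mp hg
    refine ⟨k, Subtype.ext ?_⟩
    have h1 : (⟨b, hb⟩ : F.autGroup S) ^ p ^ k = 1 := Subtype.ext (by simpa using hbk)
    show ((⟨b, hb⟩ : F.autGroup S) ^ j) ^ p ^ k = 1
    rw [← zpow_natCast, ← zpow_mul, mul_comm, zpow_mul, zpow_natCast, h1, one_zpow]
  obtain ⟨Q, hQ⟩ := hpg.exists_le_sylow
  obtain ⟨g, hg⟩ := MulAction.exists_smul_eq (F.autGroup S) T₀ Q
  rw [Sylow.smul_eq_of_normal] at hg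
  have hmem : (⟨b, hb⟩ : F.autGroup S) ∈ (T₀ : Subgroup (F.autGroup S)) := by
    rw [hg]
    exact hQ (Subgroup.mem_zpowers _)
  rw [hT₀, Subgroup.mem_subgroupOf] at hmem
  exact hmem

/-- In a saturated `2`-system, a central element of `S` conjugate to its inverse is an involution (or trivial). -/
theorem sq_eq_one_of_Fc_inv_central [Finite S] (hS : IsPGroup 2 S) (F : FusionSystem S)
    (hF : F.IsSaturated 2) {z : Ω} (hz : z ∈ ZS S) (h : Fc F z z⁻¹) : z ^ 2 = 1 := by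
  have hz' : z⁻¹ ∈ ZS S := (ZS S).inv_mem hz
  obtain ⟨α, hα, hαS, hαz⟩ := exists_aut_of_Fc_central 2 hS F hF hz hz' h
  obtain ⟨a, ha, haα⟩ := fs_hom_to_aut F hα hαS
  set zz : S := ⟨z, hz.1⟩ with hzzdef
  have haz : a zz = zz⁻¹ := by
    apply Subtype.ext
    rw [haα, hαz]
    rfl
  have hazi : a zz⁻¹ = zz := by rw [map_inv, haz, inv_inv]
  haveI : Finite (MulAut S) := inferInstance
  obtain ⟨k, m, hm, hkm⟩ := Nat.exists_eq_two_pow_mul_odd (orderOf_pos a).ne'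
  have hbk : (a ^ m) ^ 2 ^ k = 1 := by
    rw [← pow_mul, mul_comm, ← hkm, pow_orderOf_eq_one]
  have hbmem : a ^ m ∈ F.autGroup S := (F.autGroup S).pow_mem ha m
  have hinn := mem_inn_of_pow_eq_one 2 hS F hF hbmem k hbk
  obtain ⟨g, hg⟩ := hinn
  have h1 : (a ^ m) zz = zz := by
    rw [← hg]
    show g * zz * g⁻¹ = zz
    have : g * zz = zz * g := Subtype.ext ((mem_ZS_iff.mp hz).2 g g.2)
    rw [this, mul_inv_cancel_right]
  have h2 : ∀ j : ℕ, (a ^ (2 * j)) zz = zz := by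
    intro j
    induction j with
    | zero => simp
    | succ j ih =>
      rw [Nat.mul_succ, pow_add, MulAut.mul_apply, pow_two, MulAut.mul_apply, haz, hazi, ih]
  obtain ⟨j, hj⟩ := hm
  have h3 : (a ^ m) zz = zz⁻¹ := by
    rw [hj, pow_add, MulAut.mul_apply, pow_one, haz, map_inv, h2]
  rw [h1] at h3
  have h4 : zz * zz = 1 := by
    nth_rewrite 1 [h3]
    exact inv_mul_cancel zz
  have := congrArg Subtype.val h4
  rw [pow_two]
  simpa using this

/-- In a saturated `2`-system all of whose elements are conjugate into the centre of `S`, an element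
conjugate to its inverse has square one. -/
theorem sq_eq_one_of_Fc_inv [Finite S] (hS : IsPGroup 2 S) (F : FusionSystem S)
    (hF : F.IsSaturated 2) (h : ∀ x ∈ S, ∃ z ∈ ZS S, Fc F x z) {x : Ω} (hx : x ∈ S) (hxx : Fc F x x⁻¹) :
    x ^ 2 = 1 := by
  obtain ⟨z, hz, hxz⟩ := h x hx
  have h1 : Fc F z z⁻¹ := Fc_trans F (Fc_trans F (Fc_symm F hxz) hxx) (Fc_inv F hxz)
  have h2 := sq_eq_one_of_Fc_inv_central hS F hF hz h1
  exact (Fc_pow_eq_one_iff F hxz 2).mpr h2

/-- Under the hypotheses, any two elements of `S` of square one commute. -/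
theorem comm_of_sq_eq_one [Finite S] (hS : IsPGroup 2 S) (F : FusionSystem S)
    (hF : F.IsSaturated 2) (h : ∀ x ∈ S, ∃ z ∈ ZS S, Fc F x z) {s t : Ω} (hs : s ∈ S) (ht : t ∈ S)
    (hs2 : s ^ 2 = 1) (ht2 : t ^ 2 = 1) : s * t = t * s := by
  have hsi : s⁻¹ = s := by
    rw [inv_eq_iff_mul_eq_one, ← pow_two, hs2]
  have hti : t⁻¹ = t := by
    rw [inv_eq_iff_mul_eq_one, ← pow_two, ht2]
  have hd : s * t ∈ S := S.mul_mem hs ht
  have hle : Subgroup.zpowers (s * t) ≤ S := (Subgroup.zpowers_le).mpr hd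
  have hc : Fc F (s * t) (s * t)⁻¹ := by
    refine ⟨Subgroup.zpowers (s * t), conjHom _ s, Subgroup.mem_zpowers _, F.conj_mem hle hs, ?_⟩
    show s * (s * t) * s⁻¹ = (s * t)⁻¹
    rw [mul_inv_rev, hsi, hti, ← mul_assoc, ← pow_two, hs2, one_mul]
  have h2 := sq_eq_one_of_Fc_inv hS F hF h hd hc
  have h3 : (s * t) * (s * t) = 1 := by rw [← pow_two]; exact h2
  have h6 : s * t = (s * t)⁻¹ := by
    rw [eq_inv_iff_mul_eq_one]; exact h3
  rw [h6, mul_inv_rev, hsi, hti]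

end Cfsg.Agent.Lib.Helper7.FusCH
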