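import Mathlib
import Cfsg.Prelude.Def_FusionSystem
import Cfsg.Agent.Lib.Helper7.FusCH2
import Cfsg.Agent.Lib.Helper9.FusionNormal5

set_option autoImplicit false

namespace Cfsg.Agent.Lib.Helper7.FusCH

open Cfsg Cfsg.FusionSystem Cfsg.Agent.Lib.Helper9
open scoped commutatorElement

variable {Ω : Type*} [Group Ω] {S : Subgroup Ω}

/-- The elements of `S` of square one, a subgroup as soon as they commute pairwise. -/
def Om (S : Subgroup Ω)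
    (hc : ∀ s t : Ω, s ∈ S → t ∈ S → s ^ 2 = 1 → t ^ 2 = 1 → s * t = t * s) : Subgroup Ω where
  carrier := {x | x ∈ S ∧ x ^ 2 = 1}
  mul_mem' := by
    rintro a b ⟨ha, ha2⟩ ⟨hb, hb2⟩
    refine ⟨S.mul_mem ha hb, ?_⟩
    have hcomm : Commute a b := hc a b ha hb ha2 hb2
    rw [hcomm.mul_pow, ha2, hb2, one_mul]
  one_mem' := ⟨S.one_mem, one_pow 2⟩
  inv_mem' := by
    rintro a ⟨ha, ha2⟩
    exact ⟨S.inv_mem ha, by rw [inv_pow, ha2, inv_one]⟩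

theorem mem_Om_iff {hc : ∀ s t : Ω, s ∈ S → t ∈ S → s ^ 2 = 1 → t ^ 2 = 1 → s * t = t * s} {x : Ω} :
    x ∈ Om S hc ↔ x ∈ S ∧ x ^ 2 = 1 := Iff.rfl

theorem Om_le (hc : ∀ s t : Ω, s ∈ S → t ∈ S → s ^ 2 = 1 → t ^ 2 = 1 → s * t = t * s) : Om S hc ≤ S :=
  fun _ hx => hx.1

theorem Om_stronglyClosed (F : FusionSystem S)
    (hc : ∀ s t : Ω, s ∈ S → t ∈ S → s ^ 2 = 1 → t ^ 2 = 1 → s * t = t * s) :
    F.StronglyClosed (Om S hc) := by
  refine ⟨Om_le hc, ?_⟩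
  intro R hR φ hφ x
  refine ⟨(F.le_of_mem hφ).2 x, ?_⟩
  have hx2 : x ^ 2 = 1 := Subtype.ext (by simpa using (hR x.2).2)
  rw [← map_pow, hx2, map_one]

theorem Om_isNormal [Finite S] (p : ℕ) [Fact p.Prime] (hS : IsPGroup p S) (F : FusionSystem S)
    (hF : F.IsSaturated p)
    (hc : ∀ s t : Ω, s ∈ S → t ∈ S → s ^ 2 = 1 → t ^ 2 = 1 → s * t = t * s) :
    F.IsNormal (Om S hc) := by
  refine fs_isNormal_of_series p hS F hF (Om S hc) 1 (fun i => if i = 0 then ⊥ else Om S hc) rfl rfl ?_ ?_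
  · intro i j hij
    by_cases hi : i = 0
    · simp [hi]
    · have hj : j ≠ 0 := by
        intro hj; apply hi; rw [hj] at hij; exact Fin.le_zero_iff.mp hij
      simp [hi, hj]
  · intro i
    have hi : i = 0 := Subsingleton.elim _ _
    subst hi
    refine ⟨Om_stronglyClosed F hc, ?_⟩
    show ⁅Om S hc, Om S hc⁆ ≤ ⊥
    rw [Subgroup.commutator_le]
    intro a ha b hb
    rw [Subgroup.mem_bot, commutatorElement_eq_one_iff_mul_comm]
    exact hc a b ha.1 hb.1 ha.2 hb.2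

/-- If `E` is normal in the system and `y` is conjugate to a central element of `S`, then `y` centralizes `E`. -/
theorem comm_of_isNormal_of_Fc_central (F : FusionSystem S) {E : Subgroup Ω} (hE : F.IsNormal E)
    {y z : Ω} (hz : z ∈ ZS S) (hyz : Fc F y z) {e : Ω} (he : e ∈ E) : y * e = e * y := by
  obtain ⟨P, φ, hy, hφ, hφy⟩ := hyz
  obtain ⟨ψ, hψ, hψφ, -⟩ := hE.2 P φ hφ
  have hyPE : y ∈ P ⊔ E := (le_sup_left : P ≤ P ⊔ E) hy
  have hePE : e ∈ P ⊔ E := (le_sup_right : E ≤ P ⊔ E) he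
  have h1 : ψ ⟨y, hyPE⟩ = z := by
    rw [← hφy, ← hψφ]
    rfl
  have h2 : ψ ⟨e, hePE⟩ ∈ S := (F.le_of_mem hψ).2 _
  have h3 : ψ ⟨e, hePE⟩ * z = z * ψ ⟨e, hePE⟩ := (mem_ZS_iff.mp hz).2 _ h2
  have h4 : ψ (⟨y, hyPE⟩ * ⟨e, hePE⟩) = ψ (⟨e, hePE⟩ * ⟨y, hyPE⟩) := by
    rw [map_mul, map_mul, h1, h3]
  have h5 := F.injective_of_mem hψ h4
  exact congrArg Subtype.val h5

end Cfsg.Agent.Lib.Helper7.FusCH
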