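import Mathlib
import Cfsg.Prelude.Def_FusionSystem
import Cfsg.Prelude.Def_FusionComponents
import Cfsg.Agent.Lib.Helper7.FusCH3
import Cfsg.Agent.S5132
import Cfsg.Agent.S5133
import Cfsg.Agent.S5134

set_option autoImplicit false

namespace Cfsg.Agent.Lib.Helper7.FusCH

open Cfsg Cfsg.FusionSystem Cfsg.Agent.Lib.Helper9

universe u

/-- Final step: if `E = Ω₁(S)` is central, contains the commutators, and every element is conjugate into the centre,
then `S` is abelian. -/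
theorem comm_of_class_two {Ω : Type*} [Group Ω] {S : Subgroup Ω} [Finite S] (hS : IsPGroup 2 S)
    (F : FusionSystem S) (hF : F.IsSaturated 2) (h : ∀ x ∈ S, ∃ z ∈ ZS S, Fc F x z)
    (hc : ∀ s t : Ω, s ∈ S → t ∈ S → s ^ 2 = 1 → t ^ 2 = 1 → s * t = t * s)
    (hEZ : ∀ e ∈ Om S hc, ∀ y ∈ S, y * e = e * y)
    (hcomm : ∀ a ∈ S, ∀ b ∈ S, a * b * a⁻¹ * b⁻¹ ∈ Om S hc) :
    ∀ x ∈ S, ∀ y ∈ S, y * x = x * y := by
  intro x hx
  -- squares are central
  have hx2 : x ^ 2 ∈ ZS S := by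
    rw [mem_ZS_iff]
    refine ⟨S.pow_mem hx 2, fun y hy => ?_⟩
    have hcE := hcomm x hx y hy
    set c := x * y * x⁻¹ * y⁻¹ with hcdef
    have hcx : x * c = c * x := hEZ c hcE x hx
    have hcy : y * c = c * y := hEZ c hcE y hy
    have hc2 : c * c = 1 := by rw [← pow_two]; exact hcE.2
    have hxy : x * y = c * y * x := by rw [hcdef]; group
    symm
    calc x ^ 2 * y = x * (x * y) := by rw [pow_two, mul_assoc]
      _ = x * (c * y * x) := by rw [hxy]
      _ = (x * c) * y * x := by group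
      _ = c * (x * y) * x := by rw [hcx]; group
      _ = c * (c * y * x) * x := by rw [hxy]
      _ = (c * c) * y * (x * x) := by group
      _ = y * x ^ 2 := by rw [hc2, one_mul, pow_two]
  obtain ⟨z, hz, hxz⟩ := h x hx
  have hz2 : z ^ 2 ∈ ZS S := (ZS S).pow_mem hz 2
  have h1 : Fc F (z ^ 2) (x ^ 2) := Fc_symm F (Fc_pow F hxz 2)
  obtain ⟨α, hα, hαS, hαz⟩ := exists_aut_of_Fc_central 2 hS F hF hz2 hx2 h1
  obtain ⟨a, ha, haα⟩ := fs_hom_to_aut F hα hαS
  set zz : S := ⟨z, hz.1⟩ with hzzdef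
  set z₁ : Ω := ((a zz : S) : Ω) with hz₁def
  have hz₁S : z₁ ∈ S := (a zz).2
  have hz₁sq : z₁ ^ 2 = x ^ 2 := by
    have : (⟨z ^ 2, hz2.1⟩ : S) = zz ^ 2 := rfl
    rw [← hαz, this, ← haα, map_pow]
    rfl
  have hz₁c : ∀ s ∈ S, s * z₁ = z₁ * s := by
    intro s hs
    have h2 : (a⁻¹ ⟨s, hs⟩) * zz = zz * (a⁻¹ ⟨s, hs⟩) :=
      Subtype.ext ((mem_ZS_iff.mp hz).2 _ (a⁻¹ ⟨s, hs⟩).2)
    have h3 := congrArg a h2
    rw [map_mul, map_mul, MulAut.apply_inv_self] at h3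
    exact congrArg Subtype.val h3
  have hxz₁ : x * z₁⁻¹ = z₁⁻¹ * x := by
    have := hz₁c x hx
    calc x * z₁⁻¹ = z₁⁻¹ * (z₁ * x) * z₁⁻¹ := by group
      _ = z₁⁻¹ * (x * z₁) * z₁⁻¹ := by rw [this]
      _ = z₁⁻¹ * x := by group
  have heS : x * z₁⁻¹ ∈ S := S.mul_mem hx (S.inv_mem hz₁S)
  have he2 : (x * z₁⁻¹) ^ 2 = 1 := by
    have hcm : Commute x z₁⁻¹ := hxz₁
    rw [hcm.mul_pow, inv_pow, hz₁sq, mul_inv_cancel]
  have heE : x * z₁⁻¹ ∈ Om S hc := ⟨heS, he2⟩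
  intro y hy
  have h5 := hEZ _ heE y hy
  have h6 := hz₁c y hy
  calc y * x = (y * (x * z₁⁻¹)) * z₁ := by group
    _ = (x * z₁⁻¹) * (y * z₁) := by rw [h5]; group
    _ = (x * z₁⁻¹) * (z₁ * y) := by rw [h6]
    _ = x * y := by group

theorem main_aux : ∀ (n : ℕ) (Ω : Type u) [Group Ω] (S : Subgroup Ω) [Finite S], Nat.card S = n →
    IsPGroup 2 S → ∀ F : FusionSystem S, F.IsSaturated 2 → (∀ x ∈ S, ∃ z ∈ ZS S, Fc F x z) →
    ∀ x ∈ S, ∀ y ∈ S, y * x = x * y := by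
  intro n
  induction n using Nat.strong_induction_on with
  | _ n ih =>
    intro Ω _ S _ hn hS F hF h
    have hc := fun s t hs ht hs2 ht2 => comm_of_sq_eq_one hS F hF h (s := s) (t := t) hs ht hs2 ht2
    have hEn : F.IsNormal (Om S hc) := Om_isNormal 2 hS F hF hc
    have hEsc : F.StronglyClosed (Om S hc) := Om_stronglyClosed F hc
    have hEZ : ∀ e ∈ Om S hc, ∀ y ∈ S, y * e = e * y := by
      intro e he y hy
      obtain ⟨z, hz, hyz⟩ := h y hy
      exact comm_of_isNormal_of_Fc_central F hEn hz hyz he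
    by_cases htriv : ∀ a ∈ S, a = 1
    · intro x hx y hy
      rw [htriv x hx, htriv y hy]
    push Not at htriv
    obtain ⟨a₀, ha₀S, ha₀⟩ := htriv
    -- an involution in S
    obtain ⟨k, hk⟩ := hS.exists_card_eq
    have hk0 : k ≠ 0 := by
      rintro rfl
      rw [pow_zero] at hk
      have : Subsingleton S := (Nat.card_eq_one_iff_unique.mp hk).1
      exact ha₀ (congrArg Subtype.val (Subsingleton.elim (⟨a₀, ha₀S⟩ : S) 1))
    have h2dvd : 2 ∣ Nat.card S := by rw [hk]; exact dvd_pow_self 2 hk0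
    obtain ⟨t, ht⟩ := exists_prime_orderOf_dvd_card' 2 h2dvd
    have htE : (t : Ω) ∈ Om S hc := by
      refine ⟨t.2, ?_⟩
      have : t ^ 2 = 1 := by rw [← ht]; exact pow_orderOf_eq_one t
      simpa using congrArg Subtype.val this
    have ht1 : t ≠ 1 := by
      intro h1
      rw [h1, orderOf_one] at ht
      omega
    set N : Subgroup S := (Om S hc).subgroupOf S with hNdef
    haveI hNn : N.Normal := by
      constructor
      intro m hm g
      rw [hNdef, Subgroup.mem_subgroupOf] at hm ⊢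
      have : g * m = m * g := Subtype.ext (hEZ _ hm g g.2)
      rw [this, mul_inv_cancel_right]
      exact hm
    obtain ⟨Ebar, hEbar⟩ := Cfsg.Agent.S5132.result 2 hS F (Om S hc) hEsc
    set θ : S →* S ⧸ N := QuotientGroup.mk' N with hθdef
    have hsurj := Cfsg.Agent.S5134.result 2 hS F hF (Om S hc) hEsc θ Ebar hEbar
    have hsat := Cfsg.Agent.S5133.result 2 hS F hF Ebar θ hsurj
    -- cardinality drops
    have hcard : Nat.card (⊤ : Subgroup (S ⧸ N)) < n := by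
      rw [Subgroup.card_top, ← hn, Subgroup.card_eq_card_quotient_mul_card_subgroup N]
      have hN2 : 2 ≤ Nat.card N := by
        have hne : N ≠ ⊥ := by
          intro hbot
          have : t ∈ N := by rw [hNdef, Subgroup.mem_subgroupOf]; exact htE
          rw [hbot, Subgroup.mem_bot] at this
          exact ht1 this
        have := (Subgroup.one_lt_card_iff_ne_bot N).mpr hne
        omega
      have hq : 0 < Nat.card (S ⧸ N) := Nat.card_pos
      nlinarith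
    have hpq : IsPGroup 2 (⊤ : Subgroup (S ⧸ N)) :=
      (hS.to_quotient N).of_equiv Subgroup.topEquiv.symm
    have hhyp : ∀ x ∈ (⊤ : Subgroup (S ⧸ N)), ∃ z ∈ ZS (⊤ : Subgroup (S ⧸ N)), Fc Ebar x z := by
      intro xbar _
      obtain ⟨x, rfl⟩ := QuotientGroup.mk_surjective xbar
      obtain ⟨z, hz, P, φ, hxP, hφ, hφx⟩ := h x x.2
      obtain ⟨φ', hφ', hPS, hφS, hP', hind⟩ := hsurj.1.2 P φ hφ
      refine ⟨θ ⟨z, hz.1⟩, ?_, ?_⟩
      · rw [mem_ZS_iff]
        refine ⟨Subgroup.mem_top _, fun s _ => ?_⟩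
        obtain ⟨s', rfl⟩ := QuotientGroup.mk_surjective s
        show θ s' * θ ⟨z, hz.1⟩ = θ ⟨z, hz.1⟩ * θ s'
        rw [← map_mul, ← map_mul]
        congr 1
        exact Subtype.ext ((mem_ZS_iff.mp hz).2 _ s'.2)
      · have h1 := hind ⟨x, hxP⟩
        have hx' : (⟨(x : Ω), hPS hxP⟩ : S) = x := Subtype.ext rfl
        refine ⟨imageAlong θ P, φ', ?_, hφ', ?_⟩
        · have := hP' ⟨x, hxP⟩
          rw [hx'] at this
          exact this
        · have h2 : (⟨φ ⟨x, hxP⟩, hφS _⟩ : S) = ⟨z, hz.1⟩ := Subtype.ext hφx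
          rw [h2] at h1
          rw [← h1]
          congr 1
    have hab := ih _ hcard (S ⧸ N) (⊤ : Subgroup (S ⧸ N)) rfl hpq Ebar hsat hhyp
    have hcomm : ∀ a ∈ S, ∀ b ∈ S, a * b * a⁻¹ * b⁻¹ ∈ Om S hc := by
      intro a ha b hb
      have h1 := hab (θ ⟨a, ha⟩) (Subgroup.mem_top _) (θ ⟨b, hb⟩) (Subgroup.mem_top _)
      have h2 : θ (⟨a, ha⟩ * ⟨b, hb⟩ * ⟨a, ha⟩⁻¹ * ⟨b, hb⟩⁻¹) = 1 := by
        rw [map_mul, map_mul, map_mul, map_inv, map_inv, ← h1]
        group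
      have h3 := (QuotientGroup.eq_one_iff _).mp h2
      rw [hNdef, Subgroup.mem_subgroupOf] at h3
      exact h3
    exact comm_of_class_two hS F hF h hc hEZ hcomm

end Cfsg.Agent.Lib.Helper7.FusCH
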