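import Mathlib
import Cfsg.Agent.Lib.Helper7.OrdTwoAdicG2

set_option autoImplicit false

/-!
# S4632, package PK-ARITH
-/

namespace Cfsg.Agent.Lib.Helper6.G2O

open Cfsg.Agent.Lib.Helper7.OrdTwoAdic

/-- PK-ARITH -/
theorem card_two_part_arith (q N : ℕ) (hq : Odd q) (h1 : 1 < q)
    (hN : (q - 1) * N = (q ^ 3 - 1) * (q ^ 3 - q) * (q ^ 3 - q ^ 2)) :
    ∃ m : ℕ, Odd m ∧ (q ^ 6 + q ^ 3) * N = 2 ^ (2 * padicValNat 2 (q ^ 2 - 1)) * m := by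
  have hq1 : 1 ≤ q := by omega
  have h3 : 1 ≤ q ^ 3 := Nat.one_le_pow _ _ (by omega)
  have h2 : 1 ≤ q ^ 2 := Nat.one_le_pow _ _ (by omega)
  have h6 : 1 ≤ q ^ 6 := Nat.one_le_pow _ _ (by omega)
  have hqq3 : q ≤ q ^ 3 := by nlinarith [h2]
  have hq23 : q ^ 2 ≤ q ^ 3 := by nlinarith [h2]
  -- N = q^3 (q^3 - 1) (q^2 - 1)
  have hNeq : N = q ^ 3 * (q ^ 3 - 1) * (q ^ 2 - 1) := by
    have hpos : 0 < q - 1 := by omega
    apply Nat.eq_of_mul_eq_mul_left hpos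
    rw [hN]
    zify [hq1, h3, h2, hqq3, hq23]
    ring
  have hprod : (q ^ 6 + q ^ 3) * N = q ^ 6 * (q ^ 6 - 1) * (q ^ 2 - 1) := by
    rw [hNeq]
    zify [h3, h2, h6]
    ring
  rw [hprod, ← val2_card_G2 hq h1]
  have hne : q ^ 6 * (q ^ 6 - 1) * (q ^ 2 - 1) ≠ 0 := by
    have a6 : 1 < q ^ 6 := Nat.one_lt_pow (by norm_num) h1
    have a2 : 1 < q ^ 2 := Nat.one_lt_pow (by norm_num) h1
    have : 0 < q ^ 6 * (q ^ 6 - 1) * (q ^ 2 - 1) := by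
      apply Nat.mul_pos (Nat.mul_pos (by omega) (by omega)) (by omega)
    omega
  obtain ⟨m, hm, e⟩ := exists_odd_mul_of_val2 hne
  exact ⟨m, hm, e⟩

end Cfsg.Agent.Lib.Helper6.G2O
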