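import Mathlib
import Cfsg.Prelude.Def_Solvable
import Cfsg.Prelude.Def_CaseTheorems
import Cfsg.Agent.Lib.Helper8.Gl69Defs
import Cfsg.Agent.Lib.Helper8.GDihDefs
import Cfsg.Agent.Lib.Helper8.GDihT1

/-! S4385 (Glauberman), package B2: the canonical generators `z` of S4359 (`Gl69.Seq`) give a
generalised Tutte sequence `TSn` after the index shift `x' i = z (i - t + 1)`. -/

set_option autoImplicit false

namespace Cfsg.Agent.Lib.Helper8.GDih

open Cfsg.Agent.Lib.Helper7 Cfsg.Agent.Lib.Helper7.Sims3 Cfsg.Agent.Lib.Helper8.Gl69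
open scoped Pointwise

variable {G : Type*} [Group G]

/-- the index shift on windows -/
theorem b2_image (z : ℤ → G) (t : ℕ) (p q : ℤ) :
    (fun i : ℤ => z (i - t + 1)) '' Set.Icc p q = z '' Set.Ico (p - t + 1) (q - t + 2) := by
  ext g
  constructor
  · rintro ⟨i, ⟨h1, h2⟩, rfl⟩
    exact ⟨i - t + 1, ⟨by omega, by omega⟩, rfl⟩
  · rintro ⟨j, ⟨h1, h2⟩, rfl⟩
    refine ⟨j + t - 1, ⟨by omega, by omega⟩, ?_⟩
    show z (j + t - 1 - t + 1) = z j
    congr 1; omega

theorem b2_Y (z : ℤ → G) (t : ℕ) (p q : ℤ) :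
    Y (fun i : ℤ => z (i - t + 1)) p q =
      Subgroup.closure (z '' Set.Ico (p - t + 1) (q - t + 2)) := by
  unfold Y
  rw [b2_image]

/-- `MulAut.conj g • K` is helper7's `cj g K` -/
theorem b2_smul_eq_cj (g : G) (K : Subgroup G) : MulAut.conj g • K = Helper7.cj g K := rfl

theorem b2_order_two {z : ℤ → G} {t : ℕ} {g : G} (ht : 1 ≤ t) (hS : Seq 2 t g z) (a : ℤ) :
    orderOf (z a) = 2 := by
  have h := hS.card a 1 ht
  have h1 : Set.Ico a (a + ((1 : ℕ) : ℤ)) = {a} := by
    ext i; simp only [Set.mem_Ico, Set.mem_singleton_iff]; omega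
  rw [h1, Set.image_singleton, ← Subgroup.zpowers_eq_closure, Nat.card_zpowers] at h
  simpa using h


/-- conjugating an element of the normaliser -/
theorem b2_conj_mem_normalizer {g a : G} {N : Subgroup G}
    (ha : a ∈ Subgroup.normalizer (N : Set G)) :
    g * a * g⁻¹ ∈ Subgroup.normalizer ((Helper7.cj g N : Subgroup G) : Set G) := by
  rw [mem_normalizer_iff_cj] at ha ⊢
  rw [← cj_mul, show g * a * g⁻¹ * g = g * a by group, cj_mul, ha]

theorem b2_card_of_le {H K : Subgroup G} (h : H ≤ K) :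
    Nat.card K = H.relIndex K * Nat.card H := by
  have := Subgroup.relIndex_mul_relIndex (⊥ : Subgroup G) H K bot_le h
  rw [Subgroup.relIndex_bot_left, Subgroup.relIndex_bot_left] at this
  rw [← this, mul_comm]

theorem b2_tsn [Finite G] (H P : Subgroup G) (g : G) (t : ℕ) (ht : 2 ≤ t) (z : ℤ → G)
    (hS : Seq 2 t g z)
    (hPz : ∀ i : ℤ, Gl69.cj P g i = Subgroup.closure (z '' Set.Ico (i - t + 1) (i + 1)))
    (hH : P ⊔ MulAut.conj g⁻¹ • P = H)
    (hnn : ∀ N : Subgroup G, N ≤ P → H ≤ Subgroup.normalizer (N : Set G) →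
      MulAut.conj g • H ≤ Subgroup.normalizer (N : Set G) → N = ⊥) :
    ∃ x' : ℤ → G, TSn x' g⁻¹ t (P.relIndex H) ∧ Y x' 0 t = H ∧ Y x' 0 ((t : ℤ) - 1) = P := by
  set x' : ℤ → G := fun i => z (i - t + 1) with hx'
  have hshift : IsShift x' g⁻¹ := by
    intro i
    show g⁻¹ * z (i - t + 1) * g⁻¹⁻¹ = z (i + 1 - t + 1)
    rw [inv_inv, show i + 1 - (t : ℤ) + 1 = (i - t + 1) + 1 by ring, hS.shift (i - t + 1)]
  have hP0 : Gl69.cj P g 0 = P := by
    unfold Gl69.cj; simp
  have hP1 : Gl69.cj P g 1 = MulAut.conj g⁻¹ • P := by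
    unfold Gl69.cj; simp
  have hYP : Y x' 0 ((t : ℤ) - 1) = P := by
    rw [b2_Y, ← hP0, hPz 0]
    congr 3 <;> ring
  have hY1 : Y x' 1 t = MulAut.conj g⁻¹ • P := by
    rw [b2_Y, ← hP1, hPz 1]
    congr 3 <;> ring
  have hYH : Y x' 0 t = H := by
    have h1 : Y x' 0 ((t : ℤ) - 1) ⊔ Y x' 1 t = Y x' 0 t :=
      Y_sup x' (by omega) (by omega) (by omega) (by omega)
    rw [hYP, hY1, hH] at h1
    exact h1.symm
  have hcard : ∀ p q : ℤ, p ≤ q + 1 → q + 1 - p ≤ t →
      Nat.card (Y x' p q) = 2 ^ (q + 1 - p).toNat := by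
    intro p q h1 h2
    rw [b2_Y]
    have h3 := hS.card (p - t + 1) (q + 1 - p).toNat (by omega)
    have key : q - (t : ℤ) + 2 = (p - t + 1) + ((q + 1 - p).toNat : ℤ) := by
      rw [Int.toNat_of_nonneg (by omega)]; ring
    rw [← h3, key]
  have ho : ∀ i, orderOf (x' i) = 2 := fun i => b2_order_two (by omega) hS _
  have hPH : P ≤ H := by rw [← hH]; exact le_sup_left
  refine ⟨x', ⟨?_, ?_, hshift, hcard, ?_, ?_⟩, hYH, hYP⟩
  · intro i
    have := pow_orderOf_eq_one (x' i)
    rw [ho i, pow_two] at this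
    exact this
  · intro i hi
    have := ho i
    rw [hi, orderOf_one] at this
    omega
  · rw [hYH, b2_card_of_le hPH, ← hYP, hcard 0 ((t : ℤ) - 1) (by omega) (by omega)]
    congr 2
    omega
  · intro N hN hnorm
    have hN' : Helper7.cj g N ≤ P := by
      rw [Sims3.cj_le_iff]
      rw [hY1] at hN
      exact hN
    have h1 : H ≤ Subgroup.normalizer ((Helper7.cj g N : Subgroup G) : Set G) := by
      rw [← hYH]
      apply Y_le
      intro i hi1 hi2
      have h2 := b2_conj_mem_normalizer (g := g) (hnorm (i + 1) (by omega) (by omega))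
      have h3 : g * x' (i + 1) * g⁻¹ = x' i := by
        rw [← hshift i]; group
      rw [h3] at h2
      exact h2
    have h2 : MulAut.conj g • H ≤ Subgroup.normalizer ((Helper7.cj g N : Subgroup G) : Set G) := by
      rw [b2_smul_eq_cj]
      rintro _ ⟨y, hy, rfl⟩
      have hyN : y ∈ Subgroup.normalizer (N : Set G) := by
        rw [← hYH] at hy
        exact (Y_le x' (K := Subgroup.normalizer (N : Set G))
          (fun i hi1 hi2 => hnorm i hi1 (by omega))) hy
      exact b2_conj_mem_normalizer hyN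
    have h3 := hnn _ hN' h1 h2
    rw [← Sims3.cj_bot g] at h3
    exact Sims3.cj_injective g h3

end Cfsg.Agent.Lib.Helper8.GDih
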