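import Mathlib
import Cfsg.Agent.Lib.Helper7.Sims3_11

/-! Sims' theorem (S3385, S3685), part 12: `B` is a 2-group; choice of `h`; the order of `P`. -/

set_option autoImplicit false

namespace Cfsg.Agent.Lib.Helper7.Sims3

open Cfsg.Agent.Lib.Helper7

theorem perm_three_sq : ∀ (τ : Equiv.Perm (Fin 3)) (i : Fin 3), τ i = i → τ * τ = 1 := by decide

theorem perm_sq_of_card_three {α : Type*} [Finite α] (hα : Nat.card α = 3) (σ : Equiv.Perm α)
    (a : α) (ha : σ a = a) : σ * σ = 1 := by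
  haveI : Fintype α := Fintype.ofFinite α
  have e : α ≃ Fin 3 := by
    apply Fintype.equivFinOfCardEq
    rw [← Nat.card_eq_fintype_card, hα]
  have h1 : (e.permCongrHom σ) (e a) = e a := by
    simp [Equiv.permCongrHom, ha]
  have h2 := perm_three_sq (e.permCongrHom σ) (e a) h1
  rw [← map_mul] at h2
  exact (MulEquiv.map_eq_one_iff e.permCongrHom).1 h2

variable {G : Type*} [Group G] [Finite G]

/-- the square of an element of a subgroup of index 3 stays in it under conjugation -/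
theorem conj_sq_mem {P B : Subgroup G} (hBP : B ≤ P) (idx : B.relIndex P = 3) {b p : G}
    (hb : b ∈ B) (hp : p ∈ P) : p⁻¹ * (b * b) * p ∈ B := by
  set α := ↥P ⧸ B.subgroupOf P with hα
  have hcard : Nat.card α = 3 := by
    rw [← Subgroup.index_eq_card]; exact idx
  set bb : ↥P := ⟨b, hBP hb⟩ with hbb
  set pp : ↥P := ⟨p, hp⟩ with hpp
  have h1 : MulAction.toPermHom ↥P α bb (QuotientGroup.mk 1) = QuotientGroup.mk 1 := by
    show bb • (QuotientGroup.mk 1 : α) = QuotientGroup.mk 1
    rw [MulAction.Quotient.smul_mk, QuotientGroup.eq]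
    simp only [smul_eq_mul, mul_one, inv_mem_iff]
    exact hb
  have h2 := perm_sq_of_card_three hcard _ _ h1
  rw [← map_mul] at h2
  have h3 : (bb * bb) • (QuotientGroup.mk pp : α) = QuotientGroup.mk pp := by
    have := congrArg (fun σ : Equiv.Perm α => σ (QuotientGroup.mk pp)) h2
    exact this
  rw [MulAction.Quotient.smul_mk, QuotientGroup.eq] at h3
  have h4 : ((bb * bb) • pp)⁻¹ * pp ∈ B.subgroupOf P := h3
  rw [Subgroup.mem_subgroupOf] at h4
  have h5 : (p⁻¹ * (b * b) * p)⁻¹ ∈ B := by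
    convert h4 using 1
    simp [hbb, hpp, mul_assoc]
  exact (Subgroup.inv_mem_iff _).1 h5

theorem conj_mem_of_odd {P B : Subgroup G} (hBP : B ≤ P) (idx : B.relIndex P = 3) {b p : G}
    (hb : b ∈ B) (hodd : Odd (orderOf b)) (hp : p ∈ P) : p⁻¹ * b * p ∈ B := by
  obtain ⟨m, hm⟩ := hodd
  have h1 : b = (b * b) ^ (m + 1) := by
    rw [← pow_two, ← pow_mul]
    have : 2 * (m + 1) = orderOf b + 1 := by omega
    rw [this, pow_succ, pow_orderOf_eq_one, one_mul]
  have h2 : p⁻¹ * b * p = (p⁻¹ * (b * b) * p) ^ (m + 1) := by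
    have h3 : p⁻¹ * (b * b) * p = p⁻¹ * (b * b) * (p⁻¹)⁻¹ := by rw [inv_inv]
    rw [h3, conj_pow, ← h1, inv_inv]
  rw [h2]
  exact Subgroup.pow_mem _ (conj_sq_mem hBP idx hb hp) _

/-- the subgroup generated by the elements of odd order -/
def oddPart (B : Subgroup G) : Subgroup G :=
  Subgroup.closure {b | b ∈ B ∧ Odd (orderOf b)}

theorem oddPart_le (B : Subgroup G) : oddPart B ≤ B := by
  unfold oddPart
  rw [Subgroup.closure_le]
  exact fun b hb => hb.1

theorem le_normalizer_oddPart {P B : Subgroup G} (hBP : B ≤ P) (idx : B.relIndex P = 3) :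
    P ≤ Subgroup.normalizer (oddPart B : Set G) := by
  intro p hp
  rw [mem_normalizer_iff_cj]
  apply cj_eq_of_ge
  unfold oddPart
  rw [cj_closure, Subgroup.closure_le]
  rintro _ ⟨b, ⟨hb, hodd⟩, rfl⟩
  apply Subgroup.subset_closure
  refine ⟨?_, ?_⟩
  · have := conj_mem_of_odd hBP idx hb hodd (Subgroup.inv_mem _ hp)
    rwa [inv_inv] at this
  · have : orderOf (p * b * p⁻¹) = orderOf b := by
      have := orderOf_injective (MulAut.conj p).toMonoidHom (MulAut.conj p).injective b
      exact this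
    rw [this]; exact hodd

/-- `B` is a 2-group -/
theorem isPGroup_two {P B : Subgroup G} {g : G} (coatom : IsCoatom P)
    (core : ∀ N : Subgroup G, N.Normal → N ≤ P → N = ⊥) (hBP : B ≤ P) (hBP' : B ≤ cj g P)
    (idx : B.relIndex P = 3) (ne : cj g P ≠ P) : IsPGroup 2 B := by
  have idx' : B.relIndex (cj g P) = 3 := by
    have h1 := card_eq_relIndex_mul hBP'
    have h2 := card_eq_relIndex_mul hBP
    rw [card_cj, h2, idx] at h1
    have : 0 < Nat.card B := Nat.card_pos
    nlinarith [Nat.eq_of_mul_eq_mul_right this h1]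
  have h1 := le_normalizer_oddPart hBP idx
  have h2 := le_normalizer_oddPart hBP' idx'
  have hsup : P ⊔ cj g P = ⊤ := by
    by_contra hcon
    have h0 : P ≤ P ⊔ cj g P := le_sup_left
    have h3 : P ⊔ cj g P = P := by
      rcases eq_or_lt_of_le h0 with h5 | h5
      · exact h5.symm
      · exact absurd (coatom.2 _ h5) hcon
    have h4 : cj g P ≤ P := by
      have h4 : cj g P ≤ P ⊔ cj g P := le_sup_right
      rwa [h3] at h4
    exact ne (cj_eq_of_ge h4)
  have h3 : Subgroup.normalizer (oddPart B : Set G) = ⊤ := by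
    rw [eq_top_iff, ← hsup]; exact sup_le h1 h2
  have h4 : (oddPart B).Normal := Subgroup.normalizer_eq_top_iff.1 h3
  have h5 : oddPart B = ⊥ := core _ h4 ((oddPart_le B).trans hBP)
  have hodd1 : ∀ b ∈ B, Odd (orderOf b) → b = 1 := by
    intro b hb hodd
    have : b ∈ oddPart B := Subgroup.subset_closure ⟨hb, hodd⟩
    rwa [h5, Subgroup.mem_bot] at this
  intro b
  have ho : orderOf (b : G) ≠ 0 := (orderOf_pos _).ne'
  obtain ⟨a, m, hm, ham⟩ := Nat.exists_eq_two_pow_mul_odd ho
  refine ⟨a, ?_⟩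
  apply Subtype.ext
  rw [Subgroup.coe_pow, Subgroup.coe_one]
  apply hodd1 _ (Subgroup.pow_mem _ b.2 _)
  have h6 : orderOf ((b : G) ^ 2 ^ a) ∣ m := by
    apply orderOf_dvd_of_pow_eq_one
    rw [← pow_mul, ← ham, pow_orderOf_eq_one]
  exact Odd.of_dvd_nat hm h6

end Cfsg.Agent.Lib.Helper7.Sims3
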