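import Mathlib
import Cfsg.Agent.Lib.Helper7.Sims3_12

/-! Sims' theorem (S3385, S3685), part 13: the order of `P`; the bridge from a primitive action. -/

set_option autoImplicit false

namespace Cfsg.Agent.Lib.Helper7.Sims3

open Cfsg.Agent.Lib.Helper7

variable {G : Type*} [Group G] [Finite G]

/-- the abstract hypotheses: `P` maximal and core-free, `B ≤ P ∩ gPg⁻¹` of index 3 in `P`,
`gPg⁻¹ ≠ P` -/
structure Hyp (P B : Subgroup G) (g : G) : Prop where
  coatom : IsCoatom P
  core : ∀ N : Subgroup G, N.Normal → N ≤ P → N = ⊥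
  le : B ≤ P
  le' : B ≤ cj g P
  idx : B.relIndex P = 3
  ne : cj g P ≠ P

namespace Hyp

variable {P B : Subgroup G} {g : G}

theorem sup_eq_top (H : Hyp P B g) : P ⊔ cj g P = ⊤ := by
  by_contra hcon
  have h0 : P ≤ P ⊔ cj g P := le_sup_left
  have h3 : P ⊔ cj g P = P := by
    rcases eq_or_lt_of_le h0 with h5 | h5
    · exact h5.symm
    · exact absurd (H.coatom.2 _ h5) hcon
  have h4 : cj g P ≤ P := by
    have h4 : cj g P ≤ P ⊔ cj g P := le_sup_right
    rwa [h3] at h4
  exact H.ne (cj_eq_of_ge h4)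

theorem two (H : Hyp P B g) : IsPGroup 2 B :=
  isPGroup_two H.coatom H.core H.le H.le' H.idx H.ne

theorem card_P (H : Hyp P B g) : Nat.card P = 3 * Nat.card B := by
  rw [card_eq_relIndex_mul H.le, H.idx]

/-- either `B` is trivial or there is a `Setup` -/
theorem bot_or_setup (H : Hyp P B g) : B = ⊥ ∨ ∃ h, Setup P B h := by
  by_cases hex : ∃ h, cj h P = cj g P ∧ cj h B ≠ B
  · obtain ⟨h, hP, hB⟩ := hex
    right
    exact ⟨h, ⟨H.coatom, H.core, H.two, H.le, by rw [hP]; exact H.le', H.idx,
      by rw [hP]; exact H.ne, hB⟩⟩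
  · left
    push_neg at hex
    have hg : cj g B = B := hex g rfl
    have h1 : P ≤ Subgroup.normalizer (B : Set G) := by
      intro p hp
      rw [mem_normalizer_iff_cj]
      have h2 : cj (g * p) P = cj g P := by rw [cj_mul, cj_eq_self_of_mem hp]
      have h3 := hex _ h2
      rw [cj_mul] at h3
      apply cj_injective g
      rw [h3, hg]
    have h2 : cj g P ≤ Subgroup.normalizer (B : Set G) := by
      intro y hy
      rw [mem_normalizer_iff_cj]
      have h2 : cj (y * g) P = cj g P := by rw [cj_mul, cj_eq_self_of_mem hy]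
      have h3 := hex _ h2
      rw [cj_mul, hg] at h3
      exact h3
    have h3 : Subgroup.normalizer (B : Set G) = ⊤ := by
      rw [eq_top_iff, ← H.sup_eq_top]; exact sup_le h1 h2
    have h4 : B.Normal := Subgroup.normalizer_eq_top_iff.1 h3
    exact H.core _ h4 H.le

/-- Sims' bound -/
theorem card_eq (H : Hyp P B g) : ∃ k : ℕ, k ≤ 4 ∧ Nat.card P = 2 ^ k * 3 := by
  rcases H.bot_or_setup with h1 | ⟨h, S⟩
  · refine ⟨0, by omega, ?_⟩
    rw [H.card_P, h1, Subgroup.card_bot]; norm_num
  · obtain ⟨x, k, hk1, T, hP, _, _⟩ := S.exists_TS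
    refine ⟨k, T.k_le_four hk1, ?_⟩
    rw [← hP, T.cardP, mul_comm]

end Hyp

section action

variable {Ω : Type*} [MulAction G Ω] [FaithfulSMul G Ω]

/-- a normal subgroup fixing a point of a transitive faithful action is trivial -/
theorem eq_bot_of_normal_le_stabilizer [MulAction.IsPretransitive G Ω] (K : Subgroup G)
    (hK : K.Normal) (a : Ω) (hKa : K ≤ MulAction.stabilizer G a) : K = ⊥ := by
  rw [Subgroup.eq_bot_iff_forall]
  intro k hk
  apply FaithfulSMul.eq_of_smul_eq_smul (α := Ω)
  intro ω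
  obtain ⟨g, rfl⟩ := MulAction.exists_smul_eq G a ω
  have h1 : g⁻¹ * k * g ∈ K := by
    have := hK.conj_mem k hk g⁻¹
    simpa using this
  have h2 := hKa h1
  rw [MulAction.mem_stabilizer_iff, mul_smul, mul_smul, inv_smul_eq_iff] at h2
  rw [one_smul]; exact h2

/-- the bridge: a primitive action with a suborbit of length 3 gives the abstract hypotheses -/
theorem exists_hyp (hprim : MulAction.IsPreprimitive G Ω) (a b : Ω)
    (h3 : Nat.card (MulAction.orbit (MulAction.stabilizer G a) b) = 3) :
    ∃ g : G, Hyp (MulAction.stabilizer G a)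
      (MulAction.stabilizer G a ⊓ MulAction.stabilizer G b) g := by
  haveI := hprim.toIsPretransitive
  set Ga := MulAction.stabilizer G a with hGa
  set Gb := MulAction.stabilizer G b with hGb
  have hidx : Gb.relIndex Ga = 3 := by
    have h1 := MulAction.index_stabilizer (↥Ga) b
    rw [← Nat.card_coe_set_eq, h3] at h1
    have h4 : MulAction.stabilizer (↥Ga) b = Gb.subgroupOf Ga := by
      ext y
      rw [MulAction.mem_stabilizer_iff, Subgroup.mem_subgroupOf, hGb, MulAction.mem_stabilizer_iff]
      rfl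
    rw [h4] at h1
    exact h1
  have hne : Ga ≠ Gb := by
    intro h
    rw [← h, Subgroup.relIndex_self] at hidx
    omega
  haveI : Nontrivial Ω := by
    by_contra hnt
    rw [not_nontrivial_iff_subsingleton] at hnt
    have : Ga = Gb := by rw [hGa, hGb, Subsingleton.elim a b]
    exact hne this
  have hco : IsCoatom Ga := MulAction.IsPreprimitive.isCoatom_stabilizer_of_isPreprimitive (G := G) a
  obtain ⟨g, hg⟩ := MulAction.exists_smul_eq G a b
  have hcj : cj g Ga = Gb := by
    rw [hGb, ← hg, MulAction.stabilizer_smul_eq_stabilizer_map_conj]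
  refine ⟨g, hco, fun N hN hle => eq_bot_of_normal_le_stabilizer N hN a hle, inf_le_left, ?_, ?_, ?_⟩
  · rw [hcj]; exact inf_le_right
  · rw [Subgroup.inf_relIndex_left]; exact hidx
  · rw [hcj]; exact hne.symm

end action

end Cfsg.Agent.Lib.Helper7.Sims3
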