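import Mathlib
import Cfsg.Agent.Lib.Helper7.D8Cent6

/-! Sims' theorem (S3685), part 14: abstract recognition lemmas (`Z₃`, `S₄`, `S₄ × Z₂`). -/

set_option autoImplicit false
set_option linter.style.haveILetI false
set_option linter.unusedSectionVars false
set_option linter.deprecated false

namespace Cfsg.Agent.Lib.Helper7.Sims3

theorem perm_four_sq : ∀ (τ : Equiv.Perm (Fin 4)) (i j : Fin 4), i ≠ j → τ i = i → τ j = j →
    τ * τ = 1 := by decide

theorem perm_sq_of_card_four {α : Type*} [Finite α] (hα : Nat.card α = 4) (σ : Equiv.Perm α)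
    (a b : α) (hab : a ≠ b) (ha : σ a = a) (hb : σ b = b) : σ * σ = 1 := by
  haveI : Fintype α := Fintype.ofFinite α
  have e : α ≃ Fin 4 := by
    apply Fintype.equivFinOfCardEq
    rw [← Nat.card_eq_fintype_card, hα]
  have h1 : (e.permCongrHom σ) (e a) = e a := by simp [Equiv.permCongrHom, ha]
  have h1' : (e.permCongrHom σ) (e b) = e b := by simp [Equiv.permCongrHom, hb]
  have h2 := perm_four_sq (e.permCongrHom σ) (e a) (e b) (fun h => hab (e.injective h)) h1 h1'
  rw [← map_mul] at h2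
  exact (MulEquiv.map_eq_one_iff e.permCongrHom).1 h2

variable {X : Type*} [Group X] [Finite X]

theorem iso_zmod_three (hX : Nat.card X = 3) : Nonempty (X ≃* Multiplicative (ZMod 3)) := by
  haveI : Fact (Nat.Prime 3) := ⟨Nat.prime_three⟩
  exact ⟨mulEquivOfPrimeCardEq hX (by simp)⟩

theorem iso_zmod_two (hX : Nat.card X = 2) : Nonempty (X ≃* Multiplicative (ZMod 2)) := by
  haveI : Fact (Nat.Prime 2) := ⟨Nat.prime_two⟩
  exact ⟨mulEquivOfPrimeCardEq hX (by simp)⟩

/-- a group of order 24 with a self-centralising normal subgroup of order 4 is `S₄` -/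
theorem iso_perm_four_of_normal_four (hX : Nat.card X = 24) (Q : Subgroup X) [hQn : Q.Normal]
    (hQ : Nat.card Q = 4) (hC : ∀ g : X, (∀ q ∈ Q, g * q = q * g) → g ∈ Q) :
    Nonempty (X ≃* Equiv.Perm (Fin 4)) := by
  haveI : Fact (Nat.Prime 3) := ⟨Nat.prime_three⟩
  obtain ⟨T⟩ : Nonempty (Sylow 3 X) := inferInstance
  have h1 : Nat.card (Sylow 3 X) ≡ 1 [MOD 3] := card_sylow_modEq_one 3 X
  have h2 : Nat.card (Sylow 3 X) ∣ (T : Subgroup X).index := T.card_dvd_index
  have h3 : Nat.card (Sylow 3 X) = (Subgroup.normalizer ((T : Subgroup X) : Set X)).index :=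
    T.card_eq_index_normalizer
  have h4 : ¬ 3 ∣ (T : Subgroup X).index := T.not_dvd_index
  have h5 : (T : Subgroup X).index ∣ 8 := by
    have : (T : Subgroup X).index ∣ 3 * 8 := by
      rw [show 3 * 8 = 24 from rfl, ← hX]; exact Subgroup.index_dvd_card _
    exact Nat.Coprime.dvd_of_dvd_mul_left
      ((Nat.Prime.coprime_iff_not_dvd Nat.prime_three).2 h4).symm this
  have h6 : Nat.card (Sylow 3 X) ∣ 8 := h2.trans h5
  have h7 : Nat.card (Sylow 3 X) ≤ 8 := Nat.le_of_dvd (by norm_num) h6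
  have h8 : Nat.card (Sylow 3 X) = 1 ∨ Nat.card (Sylow 3 X) = 4 := by
    have key : ∀ n : ℕ, n ≤ 8 → n ∣ 8 → n % 3 = 1 % 3 → n = 1 ∨ n = 4 := by decide
    exact key _ h7 h6 h1
  -- `T ∩ Q = 1`
  have hTQ : (T : Subgroup X) ⊓ Q = ⊥ := by
    apply Subgroup.inf_eq_bot_of_coprime
    obtain ⟨n, hn⟩ := IsPGroup.iff_card.mp T.isPGroup'
    rw [hn, hQ]
    exact Nat.Coprime.pow_left n (by norm_num)
  have hTne : (T : Subgroup X) ≠ ⊥ := by
    intro h
    apply h4
    rw [h, Subgroup.index_bot, hX]; norm_num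
  -- an element of `T` centralising `Q` is trivial
  have hTC : ∀ t ∈ (T : Subgroup X), (∀ q ∈ Q, t * q = q * t) → t = 1 := by
    intro t ht hc
    have : t ∈ (T : Subgroup X) ⊓ Q := ⟨ht, hC t hc⟩
    rwa [hTQ, Subgroup.mem_bot] at this
  have hidx : (Subgroup.normalizer ((T : Subgroup X) : Set X)).index = 4 := by
    rcases h8 with h9 | h9
    · exfalso
      rw [h3, Subgroup.index_eq_one, Subgroup.normalizer_eq_top_iff] at h9
      apply hTne
      rw [Subgroup.eq_bot_iff_forall]
      intro t ht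
      apply hTC t ht
      intro q hq
      exact (Subgroup.commute_of_normal_of_disjoint _ _ h9 hQn (disjoint_iff.2 hTQ) t q ht hq).eq
    · rw [← h3]; exact h9
  apply Cfsg.Agent.Lib.Helper7.D8Cent.perm_iso _ 4 hidx _ (by rw [hX]; rfl)
  -- the core is trivial
  set K := (Subgroup.normalizer ((T : Subgroup X) : Set X)).normalCore with hK
  have hKn : K.Normal := Subgroup.normalCore_normal _
  have hcardH : Nat.card (Subgroup.normalizer ((T : Subgroup X) : Set X)) = 6 := by
    have h11 := (Subgroup.normalizer ((T : Subgroup X) : Set X)).card_mul_index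
    rw [hidx, hX] at h11
    omega
  have hKQ : K ⊓ Q = ⊥ := by
    by_contra hne
    have hd1 : Nat.card (K ⊓ Q : Subgroup X) ∣ 6 := by
      rw [← hcardH]
      exact Subgroup.card_dvd_of_le (inf_le_left.trans (Subgroup.normalCore_le _))
    have hd2 : Nat.card (K ⊓ Q : Subgroup X) ∣ 4 := by
      rw [← hQ]; exact Subgroup.card_dvd_of_le inf_le_right
    have hd3 : Nat.card (K ⊓ Q : Subgroup X) ∣ 2 := by
      have := Nat.dvd_gcd hd1 hd2
      simpa using this
    have hc2 : Nat.card (K ⊓ Q : Subgroup X) = 2 := by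
      rcases (Nat.dvd_prime Nat.prime_two).1 hd3 with h | h
      · exact absurd (Subgroup.card_eq_one.1 h) hne
      · exact h
    obtain ⟨⟨z, hz⟩, hz1⟩ := (Subgroup.ne_bot_iff_exists_ne_one).1 hne
    have hz1' : z ≠ 1 := fun h => hz1 (Subtype.ext h)
    have hKQn : (K ⊓ Q).Normal := inferInstance
    -- every element of `K ⊓ Q` is `1` or `z`
    have hmem : ∀ y ∈ K ⊓ Q, y ≠ 1 → y = z := by
      intro y hy hy1
      obtain ⟨w, -, hw⟩ := (Nat.card_eq_two_iff' (1 : ↥(K ⊓ Q))).1 hc2
      have e1 := hw ⟨y, hy⟩ (fun h => hy1 (by simpa using congrArg Subtype.val h))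
      have e2 := hw ⟨z, hz⟩ hz1
      have := congrArg Subtype.val (e1.trans e2.symm)
      simpa using this
    -- `z` is central
    have hzc : ∀ g : X, g * z * g⁻¹ = z := by
      intro g
      apply hmem _ (hKQn.conj_mem z hz g)
      intro h
      apply hz1'
      have : g⁻¹ * (g * z * g⁻¹) * g = g⁻¹ * 1 * g := by rw [h]
      simpa [mul_assoc] using this
    obtain ⟨t, ht1⟩ := (Subgroup.ne_bot_iff_exists_ne_one).1 hTne
    apply ht1
    have ht1' : (t : X) ≠ 1 := fun h => ht1 (Subtype.ext h)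
    have hsq : ((MulAut.conjNormal (H := Q) (t : X)).toEquiv : Equiv.Perm ↥Q) *
        ((MulAut.conjNormal (H := Q) (t : X)).toEquiv : Equiv.Perm ↥Q) = 1 := by
      apply perm_sq_of_card_four hQ _ (1 : ↥Q) ⟨z, hz.2⟩
      · intro h; apply hz1'; simpa using (congrArg Subtype.val h).symm
      · simp
      · apply Subtype.ext
        simp only [MulEquiv.toEquiv_eq_coe, MulEquiv.coe_toEquiv, MulAut.conjNormal_apply]
        exact hzc _
    have htt : (t : X) * (t : X) = 1 := by
      apply hTC _ (mul_mem t.2 t.2)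
      intro q hq
      have := congrArg (fun σ : Equiv.Perm ↥Q => ((σ ⟨q, hq⟩ : ↥Q) : X)) hsq
      simp only [MulEquiv.toEquiv_eq_coe, Equiv.Perm.coe_mul, Function.comp_apply,
        MulEquiv.coe_toEquiv, MulAut.conjNormal_apply, Equiv.Perm.coe_one, id_eq] at this
      have h2 : (t : X) * (t : X) * q * ((t : X) * (t : X))⁻¹ = q := by
        rw [mul_inv_rev]; simpa [mul_assoc] using this
      calc (t : X) * (t : X) * q = (t : X) * (t : X) * q * ((t : X) * (t : X))⁻¹ * ((t : X) * (t : X)) := by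
            group
        _ = q * ((t : X) * (t : X)) := by rw [h2]
    obtain ⟨n, hn⟩ := (IsPGroup.iff_orderOf.1 T.isPGroup') t
    have ho2 : orderOf (t : X) ∣ 2 := orderOf_dvd_of_pow_eq_one (by rw [pow_two]; exact htt)
    have ho3 : orderOf (t : X) ∣ 3 ^ n := by
      rw [← hn, Subgroup.orderOf_coe]
    have : orderOf (t : X) ∣ 1 := by
      have := Nat.dvd_gcd ho2 ho3
      rwa [Nat.Coprime.gcd_eq_one (Nat.Coprime.pow_right n (by norm_num))] at this
    apply Subtype.ext
    simpa using orderOf_eq_one_iff.1 (Nat.dvd_one.1 this)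
  -- `K` centralises `Q`
  rw [Subgroup.eq_bot_iff_forall]
  intro y hy
  have : y ∈ K ⊓ Q := by
    refine ⟨hy, hC y ?_⟩
    intro q hq
    exact (Subgroup.commute_of_normal_of_disjoint _ _ hKn hQn (disjoint_iff.2 hKQ) y q hy hq).eq
  rwa [hKQ, Subgroup.mem_bot] at this

end Cfsg.Agent.Lib.Helper7.Sims3
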