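import Mathlib
import Cfsg.Agent.Lib.Helper7.Sims3_14

/-! Sims' theorem (S3685), part 15: the sign trick; recognition of `S₄ × Z₂`. -/

set_option autoImplicit false
set_option linter.style.haveILetI false
set_option linter.unusedSectionVars false
set_option linter.deprecated false

namespace Cfsg.Agent.Lib.Helper7.Sims3

variable {X : Type*} [Group X] [Finite X]

/-- the sign trick: a central involution outside a subgroup of index `6` lies outside a subgroup
of index `2` -/
theorem exists_index_two (M : Subgroup X) (hM : M.index = 6) (z : X) (hz2 : z * z = 1)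
    (hzc : ∀ g : X, g * z = z * g) (hzM : z ∉ M) : ∃ R : Subgroup X, R.index = 2 ∧ z ∉ R := by
  classical
  haveI : Fintype (X ⧸ M) := Fintype.ofFinite _
  let φ : X →* ℤˣ := (Equiv.Perm.sign).comp (MulAction.toPermHom X (X ⧸ M))
  have hσ : (MulAction.toPermHom X (X ⧸ M) z) ^ 2 = 1 := by
    rw [← map_pow, pow_two, hz2, map_one]
  have hfix : Fintype.card (Function.fixedPoints (MulAction.toPermHom X (X ⧸ M) z)) = 0 := by
    rw [Fintype.card_eq_zero_iff]
    constructor
    rintro ⟨q, hq⟩
    induction q using Quotient.inductionOn' with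
    | h g =>
      apply hzM
      have h1 : z • (QuotientGroup.mk g : X ⧸ M) = QuotientGroup.mk g := hq
      rw [MulAction.Quotient.smul_mk, QuotientGroup.eq, smul_eq_mul] at h1
      have h2 : (z * g)⁻¹ * g = z⁻¹ := by
        rw [← hzc g]; group
      rw [h2] at h1
      simpa using M.inv_mem h1
  have hcard : Fintype.card (X ⧸ M) = 6 := by
    rw [← Nat.card_eq_fintype_card, ← hM]; rfl
  have hφz : φ z = -1 := by
    show Equiv.Perm.sign (MulAction.toPermHom X (X ⧸ M) z) = -1
    rw [Equiv.Perm.sign_of_pow_two_eq_one hσ, hfix, hcard]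
    rfl
  refine ⟨φ.ker, ?_, ?_⟩
  · rw [Subgroup.index_ker]
    have h1 : Nat.card φ.range ∣ 2 := by
      have := Subgroup.card_subgroup_dvd_card φ.range
      rwa [Nat.card_eq_fintype_card (α := ℤˣ), Fintype.card_units_int] at this
    rcases (Nat.dvd_prime Nat.prime_two).1 h1 with h | h
    · exfalso
      rw [Subgroup.card_eq_one] at h
      have : φ z ∈ φ.range := ⟨z, rfl⟩
      rw [h, Subgroup.mem_bot, hφz] at this
      exact absurd this (by decide)
    · exact h
  · rw [MonoidHom.mem_ker, hφz]
    decide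

theorem mem_zpowers_cases' {t g : X} (ht : t * t = 1) (hg : g ∈ Subgroup.zpowers t) :
    g = 1 ∨ g = t := by
  obtain ⟨n, rfl⟩ := Subgroup.mem_zpowers_iff.1 hg
  rcases Int.emod_two_eq_zero_or_one n with h1 | h1
  · left
    obtain ⟨m, rfl⟩ : ∃ m, n = 2 * m := ⟨n / 2, by omega⟩
    rw [zpow_mul, zpow_two, ht, one_zpow]
  · right
    obtain ⟨m, rfl⟩ : ∃ m, n = 2 * m + 1 := ⟨n / 2, by omega⟩
    rw [zpow_add, zpow_mul, zpow_two, ht, one_zpow, one_mul, zpow_one]

/-- splitting off a central involution outside a subgroup of index `2` -/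
theorem iso_prod_of_central (R : Subgroup X) (hR : R.index = 2) (z : X) (hz2 : z * z = 1)
    (hzc : ∀ g : X, g * z = z * g) (hzR : z ∉ R) :
    Nonempty (X ≃* ↥R × Multiplicative (ZMod 2)) := by
  have hz1 : z ≠ 1 := fun h => hzR (h ▸ R.one_mem)
  have hoz : orderOf z = 2 := by
    haveI : Fact (Nat.Prime 2) := ⟨Nat.prime_two⟩
    exact orderOf_eq_prime (by rw [pow_two]; exact hz2) hz1
  have hcz : Nat.card (Subgroup.zpowers z) = 2 := by rw [Nat.card_zpowers, hoz]
  obtain ⟨e2⟩ := iso_zmod_two hcz
  let ψ : ↥R × ↥(Subgroup.zpowers z) →* X :=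
    MonoidHom.noncommCoprod R.subtype (Subgroup.zpowers z).subtype (by
      intro r w
      obtain ⟨w, hw⟩ := w
      obtain ⟨n, rfl⟩ := Subgroup.mem_zpowers_iff.1 hw
      have : Commute (r : X) z := hzc r
      exact this.zpow_right n)
  have hinj : Function.Injective ψ := by
    rw [injective_iff_map_eq_one]
    rintro ⟨r, w⟩ hrw
    have h1 : (r : X) * (w : X) = 1 := hrw
    have hw : (w : X) ∈ R := by
      have : (w : X) = (r : X)⁻¹ := by
        exact (inv_eq_of_mul_eq_one_right h1).symm
      rw [this]; exact R.inv_mem r.2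
    have hw1 : (w : X) = 1 := by
      rcases mem_zpowers_cases' hz2 w.2 with h | h
      · exact h
      · exact absurd (h ▸ hw) hzR
    have hr1 : (r : X) = 1 := by rwa [hw1, mul_one] at h1
    exact Prod.ext (Subtype.ext hr1) (Subtype.ext hw1)
  have hbij : Function.Bijective ψ := by
    rw [Nat.bijective_iff_injective_and_card]
    refine ⟨hinj, ?_⟩
    rw [Nat.card_prod, hcz, ← R.card_mul_index, hR]
  exact ⟨((MulEquiv.ofBijective ψ hbij).symm).trans (MulEquiv.prodCongr (MulEquiv.refl _) e2)⟩

/-- a group of order 48 with a self-centralising normal subgroup of order 8 containing a central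
involution which avoids some subgroup of order 8 is `S₄ × Z₂` -/
theorem iso_perm_four_prod (hX : Nat.card X = 48) (Q : Subgroup X) [hQn : Q.Normal]
    (hQ : Nat.card Q = 8) (hC : ∀ g : X, (∀ q ∈ Q, g * q = q * g) → g ∈ Q) (z : X) (hzQ : z ∈ Q)
    (hz2 : z * z = 1) (hzc : ∀ g : X, g * z = z * g) (M : Subgroup X) (hM : Nat.card M = 8)
    (hzM : z ∉ M) : Nonempty (X ≃* Equiv.Perm (Fin 4) × Multiplicative (ZMod 2)) := by
  have hMi : M.index = 6 := by
    have := M.card_mul_index
    rw [hM, hX] at this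
    omega
  obtain ⟨R, hR, hzR⟩ := exists_index_two M hMi z hz2 hzc hzM
  obtain ⟨e1⟩ := iso_prod_of_central R hR z hz2 hzc hzR
  have hRc : Nat.card R = 24 := by
    have := R.card_mul_index
    rw [hR, hX] at this
    omega
  haveI hRn : R.Normal := Subgroup.normal_of_index_eq_two hR
  have hcard : Nat.card (Q.subgroupOf R) = 4 := by
    have h1 : Nat.card (Q.subgroupOf R) = Nat.card ↥(Q ⊓ R) := by
      rw [← Subgroup.inf_subgroupOf_right]
      exact Nat.card_congr (Subgroup.subgroupOfEquivOfLe inf_le_right).toEquiv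
    have h2 : R.relIndex Q = 2 := by
      have h3 : R.relIndex Q ∣ 2 := by
        rw [← hR]; exact Subgroup.relIndex_dvd_index_of_normal R Q
      rcases (Nat.dvd_prime Nat.prime_two).1 h3 with h | h
      · exact absurd ((Subgroup.relIndex_eq_one).1 h hzQ) hzR
      · exact h
    have h4 := Subgroup.relIndex_mul_relIndex ⊥ (Q ⊓ R) Q bot_le inf_le_left
    rw [Subgroup.relIndex_bot_left, Subgroup.relIndex_bot_left, Subgroup.inf_relIndex_left, h2,
      hQ] at h4
    omega
  have hcent : ∀ g : ↥R, (∀ q ∈ Q.subgroupOf R, g * q = q * g) → g ∈ Q.subgroupOf R := by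
    intro g hg
    rw [Subgroup.mem_subgroupOf]
    apply hC
    intro q hq
    by_cases hqR : q ∈ R
    · have := hg ⟨q, hqR⟩ (by rw [Subgroup.mem_subgroupOf]; exact hq)
      exact congrArg Subtype.val this
    · have hqz : q * z ∈ R := by
        rw [Subgroup.mul_mem_iff_of_index_two hR]
        exact ⟨fun h => absurd h hqR, fun h => absurd h hzR⟩
      have := hg ⟨q * z, hqz⟩ (by rw [Subgroup.mem_subgroupOf]; exact Q.mul_mem hq hzQ)
      have h5 : (g : X) * (q * z) = q * z * (g : X) := congrArg Subtype.val this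
      have h6 : (g : X) * q * z = q * (g : X) * z := by
        rw [mul_assoc, h5, mul_assoc, ← hzc, ← mul_assoc]
      exact mul_right_cancel h6
  obtain ⟨e2⟩ := iso_perm_four_of_normal_four hRc (Q.subgroupOf R) hcard hcent
  exact ⟨e1.trans (MulEquiv.prodCongr e2 (MulEquiv.refl _))⟩

end Cfsg.Agent.Lib.Helper7.Sims3
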