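import Mathlib
import Cfsg.Agent.Lib.Helper7.Sims3_15
import Cfsg.Agent.Lib.Helper1.DihedralIso

/-! Sims' theorem (S3685), part 16: recognition lemmas for subgroups; dihedral groups of order 8. -/

set_option autoImplicit false
set_option linter.style.haveILetI false
set_option linter.unusedSectionVars false
set_option linter.deprecated false

namespace Cfsg.Agent.Lib.Helper7.Sims3

variable {G : Type*} [Group G] [Finite G]

theorem iso_perm_four_sub {P Q : Subgroup G} (hQP : Q ≤ P) (hP : Nat.card P = 24)
    (hQ : Nat.card Q = 4) (hn : ∀ p ∈ P, ∀ q ∈ Q, p * q * p⁻¹ ∈ Q)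
    (hC : ∀ p ∈ P, (∀ q ∈ Q, p * q = q * p) → p ∈ Q) :
    Nonempty (↥P ≃* Equiv.Perm (Fin 4)) := by
  haveI : (Q.subgroupOf P).Normal := by
    constructor
    intro q hq p
    rw [Subgroup.mem_subgroupOf] at hq ⊢
    exact hn p p.2 q hq
  have hcard : Nat.card (Q.subgroupOf P) = 4 := by
    rw [← hQ]
    exact Nat.card_congr (Subgroup.subgroupOfEquivOfLe hQP).toEquiv
  apply iso_perm_four_of_normal_four hP (Q.subgroupOf P) hcard
  intro g hg
  rw [Subgroup.mem_subgroupOf]
  apply hC g g.2
  intro q hq
  have := hg ⟨q, hQP hq⟩ (by rw [Subgroup.mem_subgroupOf]; exact hq)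
  exact congrArg Subtype.val this

theorem iso_perm_four_prod_sub {P Q M : Subgroup G} {z : G} (hQP : Q ≤ P) (hMP : M ≤ P)
    (hP : Nat.card P = 48) (hQ : Nat.card Q = 8) (hM : Nat.card M = 8)
    (hn : ∀ p ∈ P, ∀ q ∈ Q, p * q * p⁻¹ ∈ Q)
    (hC : ∀ p ∈ P, (∀ q ∈ Q, p * q = q * p) → p ∈ Q)
    (hzQ : z ∈ Q) (hz2 : z * z = 1) (hzc : ∀ p ∈ P, p * z = z * p) (hzM : z ∉ M) :
    Nonempty (↥P ≃* Equiv.Perm (Fin 4) × Multiplicative (ZMod 2)) := by
  haveI : (Q.subgroupOf P).Normal := by
    constructor
    intro q hq p
    rw [Subgroup.mem_subgroupOf] at hq ⊢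
    exact hn p p.2 q hq
  have hcard : Nat.card (Q.subgroupOf P) = 8 := by
    rw [← hQ]
    exact Nat.card_congr (Subgroup.subgroupOfEquivOfLe hQP).toEquiv
  have hcardM : Nat.card (M.subgroupOf P) = 8 := by
    rw [← hM]
    exact Nat.card_congr (Subgroup.subgroupOfEquivOfLe hMP).toEquiv
  apply iso_perm_four_prod hP (Q.subgroupOf P) hcard ?_ (⟨z, hQP hzQ⟩ : ↥P) ?_ ?_ ?_
    (M.subgroupOf P) hcardM ?_
  · intro g hg
    rw [Subgroup.mem_subgroupOf]
    apply hC g g.2
    intro q hq
    have := hg ⟨q, hQP hq⟩ (by rw [Subgroup.mem_subgroupOf]; exact hq)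
    exact congrArg Subtype.val this
  · rw [Subgroup.mem_subgroupOf]; exact hzQ
  · exact Subtype.ext hz2
  · intro g
    exact Subtype.ext (hzc g g.2)
  · rw [Subgroup.mem_subgroupOf]; exact hzM

theorem dihedral_four_center : ∀ g g' : DihedralGroup 4, g ≠ 1 → g' ≠ 1 →
    (∀ h : DihedralGroup 4, g * h = h * g) → (∀ h : DihedralGroup 4, g' * h = h * g') →
    g = g' := by decide

/-- two involutions whose commutator is an involution generate a group of order 8 whose only
nontrivial central element is the commutator -/
theorem dihedral_eight {a b : G} (ha : a * a = 1) (hb : b * b = 1) (hd1 : a * b * a * b ≠ 1)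
    (hd2 : (a * b * a * b) * (a * b * a * b) = 1) :
    Nat.card (Subgroup.closure ({a, b} : Set G)) = 8 ∧
    ∀ z ∈ Subgroup.closure ({a, b} : Set G), z ≠ 1 → Commute z a → Commute z b →
      z = a * b * a * b := by
  haveI : Fact (Nat.Prime 2) := ⟨Nat.prime_two⟩
  have ha1 : a ≠ 1 := by
    rintro rfl
    apply hd1
    simpa using hb
  have hb1 : b ≠ 1 := by
    rintro rfl
    apply hd1
    simpa using ha
  have hoa : orderOf a = 2 := orderOf_eq_prime (by rw [pow_two]; exact ha) ha1
  have hob : orderOf b = 2 := orderOf_eq_prime (by rw [pow_two]; exact hb) hb1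
  have hoab : orderOf (a * b) = 4 := by
    have h1 : ¬ (a * b) ^ 2 ^ 1 = 1 := by
      rw [pow_one, pow_two, ← mul_assoc]; exact hd1
    have h2 : (a * b) ^ 2 ^ (1 + 1) = 1 := by
      have : (a * b) ^ 2 ^ (1 + 1) = (a * b * a * b) * (a * b * a * b) := by
        rw [show 2 ^ (1 + 1) = 4 from rfl, pow_succ, pow_succ, pow_succ, pow_one]
        simp only [mul_assoc]
      rw [this, hd2]
    exact orderOf_eq_prime_pow h1 h2
  obtain ⟨e⟩ := Cfsg.Agent.Lib.Helper1.DihedralIso.closure_equiv_dihedral a b hoa hob
    (by rw [hoab]; norm_num)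
  rw [hoab] at e
  refine ⟨?_, ?_⟩
  · rw [Nat.card_congr e.toEquiv, DihedralGroup.nat_card]
  · intro z hz hz1 hza hzb
    have had : Commute (a * b * a * b) a := by
      have h3 : a * (a * b * a * b) * a = (a * b * a * b)⁻¹ := by
        rw [eq_inv_iff_mul_eq_one]
        have : a * (a * b * a * b) * a * (a * b * a * b)
            = (a * a) * b * a * b * (a * a) * b * a * b := by simp only [mul_assoc]
        rw [this, ha, one_mul, mul_one]
        have : b * a * b * b * a * b = b * a * (b * b) * a * b := by simp only [mul_assoc]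
        rw [this, hb, mul_one]
        have : b * a * a * b = b * (a * a) * b := by simp only [mul_assoc]
        rw [this, ha, mul_one, hb]
      rw [inv_eq_of_mul_eq_one_right hd2] at h3
      show a * b * a * b * a = a * (a * b * a * b)
      calc a * b * a * b * a = (a * a) * (a * b * a * b * a) := by rw [ha, one_mul]
        _ = a * (a * (a * b * a * b) * a) := by simp only [mul_assoc]
        _ = a * (a * b * a * b) := by rw [h3]
    have hbd : Commute (a * b * a * b) b := by
      show a * b * a * b * b = b * (a * b * a * b)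
      have h4 : b * (a * b * a * b) = (a * b * a * b)⁻¹ * b := by
        rw [eq_inv_mul_iff_mul_eq]
        have : a * b * a * b * (b * (a * b * a * b)) = a * b * a * (b * b) * a * b * a * b := by
          simp only [mul_assoc]
        rw [this, hb, mul_one]
        have : a * b * a * a * b * a * b = a * b * (a * a) * b * a * b := by
          simp only [mul_assoc]
        rw [this, ha, mul_one]
        have : a * b * b * a * b = a * (b * b) * a * b := by simp only [mul_assoc]
        rw [this, hb, mul_one, ha, one_mul]
      rw [h4, inv_eq_of_mul_eq_one_right hd2]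
    have hdm : a * b * a * b ∈ Subgroup.closure ({a, b} : Set G) := by
      have h5 : a ∈ Subgroup.closure ({a, b} : Set G) := Subgroup.subset_closure (by simp)
      have h6 : b ∈ Subgroup.closure ({a, b} : Set G) := Subgroup.subset_closure (by simp)
      exact mul_mem (mul_mem (mul_mem h5 h6) h5) h6
    have hcen : ∀ w : G, Commute w a → Commute w b →
        ∀ g ∈ Subgroup.closure ({a, b} : Set G), w * g = g * w := by
      intro w hwa hwb g hg
      have : Subgroup.closure ({a, b} : Set G) ≤ Subgroup.centralizer {w} := by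
        rw [Subgroup.closure_le]
        intro y hy
        rw [SetLike.mem_coe, Subgroup.mem_centralizer_iff]
        intro w' hw'
        rw [Set.mem_singleton_iff] at hw'
        subst hw'
        rcases hy with rfl | hy
        · exact hwa.eq
        · rw [Set.mem_singleton_iff] at hy
          subst hy
          exact hwb.eq
      have h7 := this hg
      rw [Subgroup.mem_centralizer_iff] at h7
      exact h7 w rfl
    have key := dihedral_four_center (e ⟨z, hz⟩) (e ⟨a * b * a * b, hdm⟩)
      (by
        intro h
        apply hz1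
        have := (MulEquiv.map_eq_one_iff e).1 h
        exact congrArg Subtype.val this)
      (by
        intro h
        apply hd1
        have := (MulEquiv.map_eq_one_iff e).1 h
        exact congrArg Subtype.val this)
      (by
        intro y
        obtain ⟨⟨g, hg⟩, rfl⟩ := e.surjective y
        rw [← map_mul, ← map_mul]
        congr 1
        exact Subtype.ext (hcen z hza hzb g hg))
      (by
        intro y
        obtain ⟨⟨g, hg⟩, rfl⟩ := e.surjective y
        rw [← map_mul, ← map_mul]
        congr 1
        exact Subtype.ext (hcen _ had hbd g hg))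
    exact congrArg Subtype.val (e.injective key)

end Cfsg.Agent.Lib.Helper7.Sims3
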