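import Mathlib
import Cfsg.Agent.Lib.Helper7.Sims3_13
import Cfsg.Agent.Lib.Helper7.Sims3_16

/-! Sims' theorem (S3685), part 17: the non-abelian cases `k = 3` (`S₄`) and `k = 4` (`S₄ × Z₂`). -/

set_option autoImplicit false
set_option linter.style.haveILetI false
set_option linter.unusedSectionVars false
set_option linter.deprecated false

namespace Cfsg.Agent.Lib.Helper7.Sims3

variable {G : Type*} [Group G] [Finite G] {x : ℤ → G} {h : G} {k ℓ : ℕ}

namespace TS

/-- `Q = ⟨x 1, …, x (k-1)⟩` is normal in `P = ⟨x 0, …, x k⟩` -/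
theorem Q_normal (T : TS x h k) (hℓ : ℓ + 1 = k) :
    ∀ p ∈ Y x 0 k, ∀ q ∈ Y x 1 ℓ, p * q * p⁻¹ ∈ Y x 1 ℓ := by
  have hkℓ : (k : ℤ) = ℓ + 1 := by exact_mod_cast hℓ.symm
  have hle : Y x 0 k ≤ Subgroup.normalizer (Y x 1 ℓ : Set G) := by
    apply Y_le
    intro i h0 h1
    by_cases hi : i ≤ ℓ
    · have h2 := T.relIndex_left (p := 0) (q := ℓ) (by omega) (by omega)
      rw [zero_add] at h2
      exact le_normalizer_of_relIndex_two (Y_mono x (by norm_num) le_rfl) h2 (x_mem_Y x h0 hi)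
    · have hik : i = k := by omega
      have h2 := T.relIndex_right (p := 1) (q := k) (by omega) (by omega)
      rw [show (k : ℤ) - 1 = ℓ by omega] at h2
      rw [hik]
      exact le_normalizer_of_relIndex_two (Y_mono x le_rfl (by omega)) h2
        (x_mem_Y x (by omega) le_rfl)
  intro p hp q hq
  exact ((Subgroup.mem_normalizer_iff).1 (hle hp) q).1 hq

/-- `Q` is self-centralising in `P` -/
theorem cent_Q (T : TS x h k) (N : NA x k ℓ) (hℓ : ℓ + 1 = k) :
    ∀ p ∈ Y x 0 k, (∀ q ∈ Y x 1 ℓ, p * q = q * p) → p ∈ Y x 1 ℓ := by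
  have hkℓ : (k : ℤ) = ℓ + 1 := by exact_mod_cast hℓ.symm
  have hℓ2 : (2 : ℤ) ≤ ℓ := by exact_mod_cast N.two
  intro p hp hc
  have hle : Y x 0 ℓ ≤ Y x 0 k := Y_mono x le_rfl (by omega)
  have h1 : p ∈ Y x 0 ℓ := by
    by_contra hnot
    have hrel : (Y x 0 ℓ).relIndex (Y x 0 k) = 3 := by
      have h2 := card_eq_relIndex_mul hle
      rw [T.cardP, T.card 0 ℓ (by omega) (by omega)] at h2
      have h3 : ((ℓ : ℤ) + 1 - 0).toNat = k := by omega
      rw [h3] at h2
      have h4 : 0 < 2 ^ k := by positivity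
      exact (Nat.eq_of_mul_eq_mul_right h4 h2).symm
    have hsup : Y x 0 ℓ ⊔ Subgroup.zpowers p = Y x 0 k :=
      sup_eq_of_relIndex_prime Nat.prime_three hle ((Subgroup.zpowers_le).2 hp) hrel
        (fun hle' => hnot (hle' (Subgroup.mem_zpowers p)))
    have hcen : Y x 0 k ≤ Subgroup.centralizer {x 1} := by
      rw [← hsup]
      apply sup_le
      · apply Y_le
        intro i h0 h1
        rw [Subgroup.mem_centralizer_iff]
        intro w hw
        rw [Set.mem_singleton_iff] at hw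
        rw [hw]
        exact (T.comm_dist N.ab 1 i (by omega) (by omega)).eq
      · rw [Subgroup.zpowers_le, Subgroup.mem_centralizer_iff]
        intro w hw
        rw [Set.mem_singleton_iff] at hw
        rw [hw]
        exact (hc (x 1) (x_mem_Y x le_rfl (by omega))).symm
    have h5 := hcen (x_mem_Y x (p := 0) (q := k) (i := k) (by omega) le_rfl)
    rw [Subgroup.mem_centralizer_iff] at h5
    have h6 := h5 (x 1) rfl
    apply T.nc_shift N 1
    rw [show (1 : ℤ) + ℓ = k by omega]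
    exact h6
  rcases T.mem_left_cases (p := 0) (q := ℓ) (by omega) (by omega) h1 with h2 | ⟨g', hg', rfl⟩
  · rwa [zero_add] at h2
  · exfalso
    rw [zero_add] at hg'
    apply N.nc
    have hxℓ : x ℓ ∈ Y x 1 ℓ := x_mem_Y x (by omega) le_rfl
    have h3 : Commute g' (x ℓ) :=
      commute_of_forall₂ x (fun i j h1 h2 h3 h4 => T.comm_dist N.ab i j (by omega) (by omega))
        hg' hxℓ
    have h4 : Commute (x 0 * g') (x ℓ) := hc (x ℓ) hxℓ
    have h5 : x 0 = (x 0 * g') * g'⁻¹ := by group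
    rw [h5]
    exact h4.mul_left h3.inv_left

/-- the case `k = 3`: `P ≅ S₄` -/
theorem iso_three (T : TS x h k) (N : NA x k ℓ) (hk : k = 3) (hℓ : ℓ = 2) :
    Nonempty (↥(Y x 0 k) ≃* Equiv.Perm (Fin 4)) := by
  have hkℓ : ℓ + 1 = k := by omega
  have hkz : (k : ℤ) = 3 := by exact_mod_cast hk
  have hℓz : (ℓ : ℤ) = 2 := by exact_mod_cast hℓ
  apply iso_perm_four_sub (Q := Y x 1 ℓ) (Y_mono x (by norm_num) (by omega))
  · rw [T.cardP, hk]; norm_num
  · rw [T.card 1 ℓ (by omega) (by omega)]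
    have : ((ℓ : ℤ) + 1 - 1).toNat = 2 := by omega
    rw [this]; rfl
  · exact T.Q_normal hkℓ
  · exact T.cent_Q N hkℓ

/-- the case `k = 4`: `P ≅ S₄ × Z₂` -/
theorem iso_four (T : TS x h k) (N : NA x k ℓ) (hk : k = 4) (hℓ : ℓ = 3) :
    Nonempty (↥(Y x 0 k) ≃* Equiv.Perm (Fin 4) × Multiplicative (ZMod 2)) := by
  have hkℓ : ℓ + 1 = k := by omega
  have hkz : (k : ℤ) = 4 := by exact_mod_cast hk
  have hℓz : (ℓ : ℤ) = 3 := by exact_mod_cast hℓ
  have hP : Nat.card (Y x 0 k) = 48 := by rw [T.cardP, hk]; norm_num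
  have hQ : Nat.card (Y x 1 ℓ) = 8 := by
    rw [T.card 1 ℓ (by omega) (by omega)]
    have : ((ℓ : ℤ) + 1 - 1).toNat = 3 := by omega
    rw [this]; rfl
  have hQP : Y x 1 ℓ ≤ Y x 0 k := Y_mono x (by norm_num) (by omega)
  have hz : x 2 ∈ Y x 1 ℓ := x_mem_Y x (by norm_num) (by omega)
  have hzc : ∀ p ∈ Y x 0 k, p * x 2 = x 2 * p := by
    intro p hp
    exact ((commute_of_forall x (g := x 2)
      (fun i h0 h1 => T.comm_dist N.ab 2 i (by omega) (by omega)) hp).eq).symm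
  -- the commutator `c = [x 0, x 3]`
  have hc0 : cm x ℓ = x 0 * x ℓ * x 0 * x ℓ := by
    unfold cm; rw [T.inv_eq, T.inv_eq]
  have hc1 : cm x ℓ ≠ 1 := T.cm_ne N
  have hcm : cm x ℓ ∈ Y x 1 ((ℓ : ℤ) - 1) := T.cm_mem N
  have hc2 : cm x ℓ * cm x ℓ = 1 := T.sq_of_mem N.ab (by omega) hcm
  -- the shifted commutator
  have hd0 : x 1 * x (1 + ℓ) * x 1 * x (1 + ℓ) = h * cm x ℓ * h⁻¹ := by
    have := T.cm_shift (ℓ := ℓ) 1
    rw [T.inv_eq, T.inv_eq, zpow_one] at this
    exact this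
  by_cases hcz : cm x ℓ = x 2
  · -- `M = ⟨x 1, x 4⟩`
    have hd3 : x 1 * x (1 + ℓ) * x 1 * x (1 + ℓ) = x 3 := by
      rw [hd0, hcz, T.shift 2]; norm_num
    obtain ⟨hM8, hMz⟩ := dihedral_eight (a := x 1) (b := x (1 + ℓ)) (T.sq _) (T.sq _)
      (by rw [hd3]; exact T.ne 3) (by rw [hd3]; exact T.sq 3)
    apply iso_perm_four_prod_sub hQP (M := Subgroup.closure ({x 1, x (1 + ℓ)} : Set G)) ?_ hP hQ hM8
      (T.Q_normal hkℓ) (T.cent_Q N hkℓ) hz (T.sq 2) hzc ?_
    · rw [Subgroup.closure_le]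
      intro y hy
      rcases hy with rfl | hy
      · exact x_mem_Y x (by norm_num) (by omega)
      · rw [Set.mem_singleton_iff] at hy
        rw [hy]
        exact x_mem_Y x (by omega) (by omega)
    · intro hmem
      have h1 := hMz (x 2) hmem (T.ne 2) (T.comm_dist N.ab 2 1 (by omega) (by omega))
        (T.comm_dist N.ab 2 (1 + ℓ) (by omega) (by omega))
      rw [hd3] at h1
      apply T.not_mem_left (p := 2) (q := 3) (by norm_num) (by omega)
      rw [h1]
      exact x_mem_Y x (by norm_num) le_rfl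
  · -- `M = ⟨x 0, x 3⟩`
    obtain ⟨hM8, hMz⟩ := dihedral_eight (a := x 0) (b := x ℓ) (T.sq _) (T.sq _)
      (by rw [← hc0]; exact hc1) (by rw [← hc0]; exact hc2)
    apply iso_perm_four_prod_sub hQP (M := Subgroup.closure ({x 0, x ℓ} : Set G)) ?_ hP hQ hM8
      (T.Q_normal hkℓ) (T.cent_Q N hkℓ) hz (T.sq 2) hzc ?_
    · rw [Subgroup.closure_le]
      intro y hy
      rcases hy with rfl | hy
      · exact x_mem_Y x le_rfl (by omega)
      · rw [Set.mem_singleton_iff] at hy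
        rw [hy]
        exact x_mem_Y x (by omega) (by omega)
    · intro hmem
      have h1 := hMz (x 2) hmem (T.ne 2) (T.comm_dist N.ab 2 0 (by omega) (by omega))
        (T.comm_dist N.ab 2 ℓ (by omega) (by omega))
      exact hcz (by rw [hc0, h1])

end TS

end Cfsg.Agent.Lib.Helper7.Sims3
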