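import Mathlib
import Cfsg.Prelude.Def_Solvable
import Cfsg.Prelude.Def_CaseTheorems
import Cfsg.Agent.Lib.Helper6.PPrimeCore
import Cfsg.Agent.Lib.Helper7.Sims3_17
import Cfsg.Agent.Lib.Helper8.GDihDefs
import Cfsg.Agent.Lib.Helper8.GDihT1
import Cfsg.Agent.Lib.Helper8.GDihRA
import Cfsg.Agent.Lib.Helper8.GDihRB

/-! S4385 (Glauberman), package R4: the case `k = 4`, `H / O(H) ≅ S₄ × Z₂`. -/

set_option autoImplicit false
set_option linter.style.haveILetI false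
set_option linter.unusedSectionVars false

namespace Cfsg.Agent.Lib.Helper8.GDih

open Cfsg.Agent.Lib.Helper7 Cfsg.Agent.Lib.Helper7.Sims3
open scoped Pointwise

/-- a `2`-subgroup maps injectively modulo the odd core -/
theorem r4_card_map {X : Type*} [Group X] [Finite X] (M : Subgroup X) (m : ℕ)
    (hM : Nat.card M = 2 ^ m) :
    Nat.card (M.map (QuotientGroup.mk' (Cfsg.oddCore X))) = 2 ^ m := by
  have h1 := Subgroup.relIndex_ker (K := M) (QuotientGroup.mk' (Cfsg.oddCore X))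
  rw [QuotientGroup.ker_mk'] at h1
  rw [← h1, ← Subgroup.inf_relIndex_right]
  have hcop : (Nat.card (Cfsg.oddCore X)).Coprime (Nat.card M) := by
    rw [hM]
    exact Nat.Coprime.pow_right m (Cfsg.Agent.Lib.Helper6.pPrimeCore_coprime 2)
  rw [(Subgroup.disjoint_of_coprime_natCard hcop).eq_bot, Subgroup.relIndex_bot_left, hM]

/-- an element of the odd core whose `2 ^ m`-th power is trivial is trivial -/
theorem r4_eq_one {X : Type*} [Group X] [Finite X] {w : X} (hw : w ∈ Cfsg.oddCore X) (m : ℕ)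
    (hpow : w ^ 2 ^ m = 1) : w = 1 := by
  have h1 : orderOf w ∣ 2 ^ m := orderOf_dvd_of_pow_eq_one hpow
  have h2 : orderOf w ∣ Nat.card (Cfsg.oddCore X) := by
    have := orderOf_dvd_natCard (⟨w, hw⟩ : ↥(Cfsg.oddCore X))
    rwa [Subgroup.orderOf_mk] at this
  have hcop : (Nat.card (Cfsg.oddCore X)).Coprime (2 ^ m) :=
    Nat.Coprime.pow_right m (Cfsg.Agent.Lib.Helper6.pPrimeCore_coprime 2)
  have h3 : orderOf w = 1 := Nat.eq_one_of_dvd_coprimes hcop h2 h1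
  exact orderOf_eq_one_iff.1 h3

variable {G : Type*} [Group G] [Finite G] {x : ℤ → G} {h : G} {k n ℓ : ℕ}

/-- the case `k = 4`, from the conclusion of `rb_bridge` and `ra_four` -/
theorem r4_core (T : TSn x h k n) (N : NA x k ℓ) (hk : k = 4) (hℓ : ℓ = 3)
    (hcm : cm x ℓ = x 1 * x 2)
    (hRB : ((Y x 1 ℓ).subgroupOf (Y x 0 k)).Normal ∧
      Nat.card (↥(Y x 0 k) ⧸ Cfsg.oddCore ↥(Y x 0 k)) = 3 * 2 ^ k ∧
      Nat.card (((Y x 1 ℓ).subgroupOf (Y x 0 k)).map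
        (QuotientGroup.mk' (Cfsg.oddCore ↥(Y x 0 k)))) = 2 ^ ℓ ∧
      ∀ a : ↥(Y x 0 k) ⧸ Cfsg.oddCore ↥(Y x 0 k),
        (∀ q ∈ ((Y x 1 ℓ).subgroupOf (Y x 0 k)).map
          (QuotientGroup.mk' (Cfsg.oddCore ↥(Y x 0 k))), a * q = q * a) →
        a ∈ ((Y x 1 ℓ).subgroupOf (Y x 0 k)).map
          (QuotientGroup.mk' (Cfsg.oddCore ↥(Y x 0 k)))) :
    Nonempty (↥(Y x 0 k) ⧸ Cfsg.oddCore ↥(Y x 0 k) ≃*
      Equiv.Perm (Fin 4) × Multiplicative (ZMod 2)) := by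
  obtain ⟨hQn, hX, hQ, hC⟩ := hRB
  have hkz : (k : ℤ) = 4 := by exact_mod_cast hk
  have hℓz : (ℓ : ℤ) = 3 := by exact_mod_cast hℓ
  set π := QuotientGroup.mk' (Cfsg.oddCore ↥(Y x 0 k)) with hπ
  have hπs : Function.Surjective π := QuotientGroup.mk'_surjective _
  haveI : (((Y x 1 ℓ).subgroupOf (Y x 0 k)).map π).Normal := hQn.map π hπs
  have hX' : Nat.card (↥(Y x 0 k) ⧸ Cfsg.oddCore ↥(Y x 0 k)) = 48 := by
    rw [hX, hk]; norm_num
  have hQ' : Nat.card (((Y x 1 ℓ).subgroupOf (Y x 0 k)).map π) = 8 := by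
    rw [hQ, hℓ]; rfl
  -- the central involution
  have hx2 : x 2 ∈ Y x 0 k := x_mem_Y x (by norm_num) (by omega)
  have hzc0 : ∀ p ∈ Y x 0 k, p * x 2 = x 2 * p := by
    intro p hp
    exact ((commute_of_forall x (g := x 2)
      (fun i h0 h1 => T.comm_dist N.ab 2 i (by omega) (by omega)) hp).eq).symm
  -- the dihedral group `M = ⟨x 0, x ℓ⟩`
  have hc0 : cm x ℓ = x 0 * x ℓ * x 0 * x ℓ := by
    unfold cm; rw [T.inv_eq, T.inv_eq]
  have hc1 : cm x ℓ ≠ 1 := T.cm_ne N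
  have hcmm : cm x ℓ ∈ Y x 1 ((ℓ : ℤ) - 1) := T.cm_mem N
  have hc2 : cm x ℓ * cm x ℓ = 1 := T.sq_of_mem N.ab (by omega) hcmm
  obtain ⟨hM8, hMz⟩ := dihedral_eight (a := x 0) (b := x ℓ) (T.sq _) (T.sq _)
    (by rw [← hc0]; exact hc1) (by rw [← hc0]; exact hc2)
  set M : Subgroup G := Subgroup.closure ({x 0, x ℓ} : Set G) with hMdef
  have hMP : M ≤ Y x 0 k := by
    rw [hMdef, Subgroup.closure_le]
    intro y hy
    rcases hy with rfl | hy
    · exact x_mem_Y x le_rfl (by omega)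
    · rw [Set.mem_singleton_iff] at hy
      rw [hy]
      exact x_mem_Y x (by omega) (by omega)
  have hx2M : x 2 ∉ M := by
    intro hmem
    have h1 := hMz (x 2) hmem (T.ne 2) (T.comm_dist N.ab 2 0 (by omega) (by omega))
      (T.comm_dist N.ab 2 ℓ (by omega) (by omega))
    rw [← hc0, hcm] at h1
    -- x 2 = x 1 * x 2
    have h2 : x 1 = 1 := by
      have := congrArg (fun g => g * (x 2)⁻¹) h1
      simp only [mul_inv_cancel, mul_inv_cancel_right] at this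
      exact this.symm
    exact T.ne 1 h2
  have hcardM : Nat.card (M.subgroupOf (Y x 0 k)) = 2 ^ 3 := by
    rw [show (2 : ℕ) ^ 3 = 8 from rfl, ← hM8]
    exact Nat.card_congr (Subgroup.subgroupOfEquivOfLe hMP).toEquiv
  have hMbar : Nat.card ((M.subgroupOf (Y x 0 k)).map π) = 8 := by
    have := r4_card_map (M.subgroupOf (Y x 0 k)) 3 hcardM
    rw [this]; rfl
  apply iso_perm_four_prod hX' (((Y x 1 ℓ).subgroupOf (Y x 0 k)).map π) hQ' hC
    (π ⟨x 2, hx2⟩) ?_ ?_ ?_ ((M.subgroupOf (Y x 0 k)).map π) hMbar ?_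
  · refine ⟨⟨x 2, hx2⟩, ?_, rfl⟩
    show (⟨x 2, hx2⟩ : ↥(Y x 0 k)) ∈ (Y x 1 ℓ).subgroupOf (Y x 0 k)
    rw [Subgroup.mem_subgroupOf]
    exact x_mem_Y x (by norm_num) (by omega)
  · rw [← map_mul]
    have : (⟨x 2, hx2⟩ : ↥(Y x 0 k)) * ⟨x 2, hx2⟩ = 1 := Subtype.ext (T.sq 2)
    rw [this, map_one]
  · intro g
    obtain ⟨a, rfl⟩ := hπs g
    rw [← map_mul, ← map_mul]
    congr 1
    exact Subtype.ext (hzc0 a a.2)
  · rintro ⟨m, hm, hmz⟩
    -- `π m = π z`, so `m⁻¹ * z ∈ O(X)` is a 2-element, hence trivial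
    have h1 : m⁻¹ * (⟨x 2, hx2⟩ : ↥(Y x 0 k)) ∈ Cfsg.oddCore ↥(Y x 0 k) := by
      have := hmz
      rw [hπ, QuotientGroup.mk'_apply, QuotientGroup.mk'_apply, QuotientGroup.eq] at this
      exact this
    have hcomm : Commute m⁻¹ (⟨x 2, hx2⟩ : ↥(Y x 0 k)) := by
      have : Commute m (⟨x 2, hx2⟩ : ↥(Y x 0 k)) := Subtype.ext (hzc0 m m.2)
      exact this.inv_left
    have hm8 : m ^ 2 ^ 3 = 1 := by
      have h2 := pow_card_eq_one' (G := ↥(M.subgroupOf (Y x 0 k))) (x := ⟨m, hm⟩)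
      rw [hcardM] at h2
      have := congrArg Subtype.val h2
      simpa using this
    have hz8 : (⟨x 2, hx2⟩ : ↥(Y x 0 k)) ^ 2 ^ 3 = 1 := by
      have : (⟨x 2, hx2⟩ : ↥(Y x 0 k)) ^ 2 = 1 := by
        rw [pow_two]; exact Subtype.ext (T.sq 2)
      rw [show (2 : ℕ) ^ 3 = 2 * 4 from rfl, pow_mul, this, one_pow]
    have hpow : (m⁻¹ * (⟨x 2, hx2⟩ : ↥(Y x 0 k))) ^ 2 ^ 3 = 1 := by
      rw [hcomm.mul_pow, inv_pow, hm8, hz8, inv_one, one_mul]
    have h3 := r4_eq_one h1 3 hpow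
    have h4 : (⟨x 2, hx2⟩ : ↥(Y x 0 k)) = m := by
      have := congrArg (fun g => m * g) h3
      simpa using this
    apply hx2M
    have h5 : ((⟨x 2, hx2⟩ : ↥(Y x 0 k)) : G) ∈ M := by
      rw [h4]
      exact Subgroup.mem_subgroupOf.1 hm
    exact h5

/-- the case `k = 4`: `H / O(H) ≅ S₄ × Z₂` -/
theorem r_four (T : TSn x h k n) (hn : Odd n) (N : NA x k ℓ) (hk : k = 4) (hℓ : ℓ = 3) :
    Nonempty (↥(Y x 0 k) ⧸ Cfsg.oddCore ↥(Y x 0 k) ≃*
      Equiv.Perm (Fin 4) × Multiplicative (ZMod 2)) := by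
  obtain ⟨hcm, h3⟩ := ra_four T hn N hk hℓ
  exact r4_core T N hk hℓ hcm (rb_bridge T hn N (by omega) h3)

end Cfsg.Agent.Lib.Helper8.GDih
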