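import Mathlib
import Cfsg.Agent.Lib.Helper4.PiCore
import Cfsg.Agent.Lib.Lead.FrobConj1
import Cfsg.Agent.Lib.Lead.FpfCyclic

set_option autoImplicit false

namespace Cfsg.Agent.Lib.Helper7

namespace GK

open scoped commutatorElement Pointwise
open Cfsg.Agent.Lib.Helper4 Cfsg.Agent.Lib.Lead

/-- no element has order `a * b` with `a ∈ A`, `b ∉ A` primes -/
def NoMix (A : Set ℕ) (G : Type*) [Group G] : Prop :=
  ∀ a b : ℕ, a.Prime → b.Prime → a ∈ A → b ∉ A → ¬ ∃ g : G, orderOf g = a * b

theorem NoMix.compl {A : Set ℕ} {G : Type*} [Group G] (h : NoMix A G) : NoMix Aᶜ G := by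
  intro a b ha hb haA hbA hex
  obtain ⟨g, hg⟩ := hex
  have hb' : b ∈ A := by
    by_contra h0
    exact hbA h0
  exact h b a hb ha hb' haA ⟨g, by rw [hg, mul_comm]⟩

theorem NoMix.of_injective {A : Set ℕ} {G H : Type*} [Group G] [Group H] (f : H →* G)
    (hf : Function.Injective f) (h : NoMix A G) : NoMix A H := by
  intro a b ha hb haA hbA hex
  obtain ⟨g, hg⟩ := hex
  exact h a b ha hb haA hbA ⟨f g, by rw [orderOf_injective f hf, hg]⟩

theorem NoMix.of_surjective {A : Set ℕ} {G Q : Type*} [Group G] [Finite G] [Group Q] (f : G →* Q)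
    (hf : Function.Surjective f) (h : NoMix A G) : NoMix A Q := by
  intro a b ha hb haA hbA hex
  obtain ⟨g', hg'⟩ := hex
  obtain ⟨g, rfl⟩ := hf g'
  have h1 : a * b ∣ orderOf g := by rw [← hg']; exact orderOf_map_dvd f g
  have h2 : orderOf g ≠ 0 := (orderOf_pos g).ne'
  exact h a b ha hb haA hbA ⟨g ^ (orderOf g / (a * b)), orderOf_pow_orderOf_div h2 h1⟩

/-- commuting nontrivial elements of `A`-order and `A'`-order do not exist -/
theorem NoMix.no_commute {A : Set ℕ} {G : Type*} [Group G] [Finite G] (h : NoMix A G) {x y : G}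
    (hxy : Commute x y) (hx1 : x ≠ 1) (hy1 : y ≠ 1)
    (hx : ∀ r : ℕ, r.Prime → r ∣ orderOf x → r ∈ A)
    (hy : ∀ r : ℕ, r.Prime → r ∣ orderOf y → r ∉ A) : False := by
  have hox : orderOf x ≠ 1 := fun h0 => hx1 (orderOf_eq_one_iff.mp h0)
  have hoy : orderOf y ≠ 1 := fun h0 => hy1 (orderOf_eq_one_iff.mp h0)
  obtain ⟨a, ha, had⟩ := Nat.exists_prime_and_dvd hox
  obtain ⟨b, hb, hbd⟩ := Nat.exists_prime_and_dvd hoy
  have haA := hx a ha had
  have hbA := hy b hb hbd
  have hab : a ≠ b := fun h0 => hbA (h0 ▸ haA)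
  set x' := x ^ (orderOf x / a) with hx'
  set y' := y ^ (orderOf y / b) with hy'
  have h1 : orderOf x' = a := orderOf_pow_orderOf_div (orderOf_pos x).ne' had
  have h2 : orderOf y' = b := orderOf_pow_orderOf_div (orderOf_pos y).ne' hbd
  have hc : Commute x' y' := hxy.pow_pow _ _
  have hcop : Nat.Coprime (orderOf x') (orderOf y') := by
    rw [h1, h2]; exact (Nat.coprime_primes ha hb).mpr hab
  have h3 := hc.orderOf_mul_eq_mul_orderOf_of_coprime hcop
  rw [h1, h2] at h3
  exact h a b ha hb haA hbA ⟨x' * y', h3⟩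

/-- a normal `A`-subgroup with `A'`-quotient in a group with `NoMix` is a Frobenius kernel -/
theorem frob_of_noMix {A : Set ℕ} {X : Type*} [Group X] [Finite X] (hX : NoMix A X)
    (N : Subgroup X) [N.Normal] (hN1 : N ≠ ⊥) (hNtop : N ≠ ⊤)
    (hNA : IsPiNum A (Nat.card N)) (hQ : IsPiNum Aᶜ N.index) :
    ∃ C : Subgroup X, Cfsg.IsFrobeniusComplement C ∧ Cfsg.frobeniusKernel C = (N : Set X) := by
  have hcop : Nat.Coprime (Nat.card N) N.index := by
    apply Nat.coprime_of_dvd
    intro k hk h1 h2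
    exact (hQ k hk h2) (hNA k hk h1)
  obtain ⟨C, hC⟩ := Subgroup.exists_right_complement'_of_coprime hcop
  have hcard : Nat.card C = N.index := by
    have h1 := hC.card_mul_card
    have h2 := N.card_mul_index
    rw [← h2] at h1
    exact Nat.eq_of_mul_eq_mul_left Nat.card_pos h1
  have hC1 : C ≠ ⊥ := by
    intro h0
    apply hNtop
    rw [h0, Subgroup.card_bot] at hcard
    exact Subgroup.index_eq_one.mp hcard.symm
  have hfpf : ∀ c ∈ C, c ≠ 1 → N ⊓ Subgroup.centralizer {c} = ⊥ := by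
    intro c hc hc1
    rw [eq_bot_iff]
    rintro n ⟨hnN, hnc⟩
    rw [Subgroup.mem_bot]
    by_contra hn1
    have hcomm : Commute n c := Subgroup.mem_centralizer_singleton_iff.mp hnc
    refine hX.no_commute hcomm hn1 hc1 ?_ ?_
    · intro r hr hrd
      exact hNA r hr (hrd.trans (Subgroup.orderOf_dvd_natCard N hnN))
    · intro r hr hrd
      have := hQ r hr (by rw [← hcard]; exact hrd.trans (Subgroup.orderOf_dvd_natCard C hc))
      exact this
  have hfrob : Cfsg.IsFrobeniusComplement C :=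
    (isFrobeniusComplement_iff_fpf N C hC hN1 hC1).mpr hfpf
  obtain ⟨K', hK'⟩ := exists_frobData hfrob
  have hle : N ≤ K' := by
    intro x hx
    rw [hK'.mem_iff]
    by_cases hx1 : x = 1
    · exact Or.inl hx1
    · right
      intro g hg
      rw [mem_conj_smul_iff] at hg
      have h1 : g⁻¹ * x * g ∈ N := by
        have := (inferInstance : N.Normal).conj_mem x hx g⁻¹
        rw [inv_inv] at this
        exact this
      have h2 : g⁻¹ * x * g ∈ N ⊓ C := ⟨h1, hg⟩
      rw [disjoint_iff.mp hC.disjoint, Subgroup.mem_bot] at h2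
      apply hx1
      have : x = g * (g⁻¹ * x * g) * g⁻¹ := by group
      rw [this, h2]; group
  have hcards : Nat.card K' ≤ Nat.card N := by
    have h1 := hK'.card_mul
    have h2 := hC.card_mul_card
    rw [← h2] at h1
    exact (Nat.eq_of_mul_eq_mul_right Nat.card_pos h1).le
  have hEq : N = K' := Subgroup.eq_of_le_of_card_ge hle hcards
  exact ⟨C, hfrob, by rw [hEq]; exact hK'.coe_eq.symm⟩

end GK

end Cfsg.Agent.Lib.Helper7
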