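import Mathlib
import Cfsg.Agent.Lib.Helper7.GK1

set_option autoImplicit false

namespace Cfsg.Agent.Lib.Helper7

namespace GK

open scoped commutatorElement Pointwise
open Cfsg.Agent.Lib.Helper4 Cfsg.Agent.Lib.Lead

/-- a nontrivial finite solvable group has a nontrivial normal elementary abelian subgroup -/
theorem exists_normal_elementary_abelian {Q : Type*} [Group Q] [Finite Q] [Nontrivial Q]
    (hs : Group.IsSolvable Q) :
    ∃ (r : ℕ) (L : Subgroup Q), r.Prime ∧ L.Normal ∧ L ≠ ⊥ ∧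
      (∀ a ∈ L, ∀ b ∈ L, a * b = b * a) ∧ ∀ a ∈ L, a ^ r = 1 := by
  classical
  have hsolv : ∃ n, derivedSeries Q n = ⊥ := hs.solvable
  set n := Nat.find hsolv with hn
  have hnbot : derivedSeries Q n = ⊥ := Nat.find_spec hsolv
  have hn0 : n ≠ 0 := by
    intro h0
    rw [h0, derivedSeries_zero] at hnbot
    exact top_ne_bot hnbot
  obtain ⟨k, hk⟩ : ∃ k, n = k + 1 := ⟨n - 1, by omega⟩
  set D := derivedSeries Q k with hD
  have hDbot : D ≠ ⊥ := by
    intro h
    have := Nat.find_min' hsolv h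
    omega
  have hDD : ⁅D, D⁆ = ⊥ := by
    rw [hk, derivedSeries_succ] at hnbot
    exact hnbot
  have hDab : ∀ a ∈ D, ∀ b ∈ D, a * b = b * a := by
    intro a ha b hb
    have h1 : ⁅a, b⁆ ∈ ⁅D, D⁆ := Subgroup.commutator_mem_commutator ha hb
    rw [hDD, Subgroup.mem_bot] at h1
    exact commutatorElement_eq_one_iff_mul_comm.mp h1
  haveI hDn : D.Normal := derivedSeries_normal Q k
  have hcard : Nat.card D ≠ 1 := fun h0 => hDbot (Subgroup.card_eq_one.mp h0)
  obtain ⟨r, hr, hrd⟩ := Nat.exists_prime_and_dvd hcard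
  haveI : Fact r.Prime := ⟨hr⟩
  obtain ⟨u, hu⟩ := exists_prime_orderOf_dvd_card' r hrd
  let N : Subgroup Q :=
    { carrier := {k | k ∈ D ∧ k ^ r = 1}
      mul_mem' := by
        rintro a b ⟨ha, ha'⟩ ⟨hb, hb'⟩
        refine ⟨D.mul_mem ha hb, ?_⟩
        rw [(show Commute a b from hDab a ha b hb).mul_pow, ha', hb', one_mul]
      one_mem' := ⟨D.one_mem, one_pow _⟩
      inv_mem' := by
        rintro a ⟨ha, ha'⟩
        exact ⟨D.inv_mem ha, by rw [inv_pow, ha', inv_one]⟩ }
  refine ⟨r, N, hr, ?_, ?_, ?_, ?_⟩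
  · refine ⟨?_⟩
    rintro m ⟨hm, hm'⟩ g
    refine ⟨hDn.conj_mem m hm g, ?_⟩
    rw [conj_pow, hm', mul_one, mul_inv_cancel]
  · intro h0
    have hu1 : (u : Q) ∈ N := by
      refine ⟨u.2, ?_⟩
      rw [← Subgroup.coe_pow, ← hu, pow_orderOf_eq_one]; rfl
    rw [h0, Subgroup.mem_bot] at hu1
    have : u = 1 := Subtype.ext hu1
    rw [this, orderOf_one] at hu
    exact hr.one_lt.ne hu
  · intro a ha b hb
    exact hDab a ha.1 b hb.1
  · intro a ha
    exact ha.2

/-- commutators centralize a cyclic normal subgroup -/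
theorem commutator_centralizes_zpowers {Q : Type*} [Group Q] (v : Q)
    (hn : (Subgroup.zpowers v).Normal) (g h : Q) : ⁅g, h⁆ * v = v * ⁅g, h⁆ := by
  have hcomm : ∀ a b : MulAut ↥(Subgroup.zpowers v), a * b = b * a := by
    intro a b
    let e := IsCyclic.mulAutMulEquiv (G := ↥(Subgroup.zpowers v))
    apply e.injective
    rw [map_mul, map_mul, mul_comm]
  have h1 : MulAut.conjNormal (H := Subgroup.zpowers v) ⁅g, h⁆ = 1 := by
    rw [map_commutatorElement]
    exact commutatorElement_eq_one_iff_mul_comm.mpr (hcomm _ _)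
  have h2 := congrArg (fun φ : MulAut ↥(Subgroup.zpowers v) =>
    ((φ ⟨v, Subgroup.mem_zpowers v⟩ : ↥(Subgroup.zpowers v)) : Q)) h1
  simp only [MulAut.conjNormal_apply, MulAut.one_apply] at h2
  calc ⁅g, h⁆ * v = (⁅g, h⁆ * v * ⁅g, h⁆⁻¹) * ⁅g, h⁆ := by group
    _ = v * ⁅g, h⁆ := by rw [h2]

/-- an abelian normal `r`-subgroup (`r ∉ A`) of `G ⧸ H`, `H` a nontrivial normal `A`-subgroup,
is cyclic -/
theorem cyclic_image {A : Set ℕ} {G : Type*} [Group G] [Finite G] (hG : NoMix A G)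
    (H : Subgroup G) [H.Normal] (hH1 : H ≠ ⊥) (hHA : IsPiNum A (Nat.card H))
    (r : ℕ) (hr : r.Prime) (hrA : r ∉ A) (L : Subgroup (G ⧸ H))
    (hLab : ∀ a ∈ L, ∀ b ∈ L, a * b = b * a) (hLr : IsPGroup r L) :
    ∃ v : G ⧸ H, L = Subgroup.zpowers v := by
  haveI : Fact r.Prime := ⟨hr⟩
  set π := QuotientGroup.mk' H with hπ
  have hπsurj : Function.Surjective π := QuotientGroup.mk'_surjective H
  have hπ1 : ∀ g : G, π g = 1 ↔ g ∈ H := fun g => QuotientGroup.eq_one_iff g
  set V := L.comap π with hV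
  have hHV : H ≤ V := by
    intro x hx
    rw [hV, Subgroup.mem_comap, (hπ1 x).mpr hx]
    exact one_mem _
  have hVmap : V.map π = L := Subgroup.map_comap_eq_self_of_surjective hπsurj L
  obtain ⟨k, hk⟩ := IsPGroup.iff_card.mp hLr
  have hrel : H.relIndex V = r ^ k := by
    have h1 := Subgroup.relIndex_ker V π
    rw [QuotientGroup.ker_mk'] at h1
    rw [h1, hVmap, hk]
  have hcop : Nat.Coprime (Nat.card (H.subgroupOf V)) (H.subgroupOf V).index := by
    rw [Helper4.card_subgroupOf_of_le hHV]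
    show Nat.Coprime (Nat.card H) (H.relIndex V)
    rw [hrel]
    apply Nat.Coprime.pow_right
    apply Nat.coprime_of_dvd
    intro q hq h1 h2
    have h3 : q = r := (Nat.prime_dvd_prime_iff_eq hq hr).mp h2
    exact hrA (h3 ▸ hHA q hq h1)
  obtain ⟨R', hR'⟩ := Subgroup.exists_right_complement'_of_coprime hcop
  set R := R'.map V.subtype with hR
  have hRcard : Nat.card R = r ^ k := by
    rw [hR, Subgroup.card_map_of_injective V.subtype_injective]
    have h1 := hR'.card_mul_card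
    have h2 := (H.subgroupOf V).card_mul_index
    rw [← h2] at h1
    have h3 := Nat.eq_of_mul_eq_mul_left Nat.card_pos h1
    rw [h3]
    exact hrel
  have hRV : R ≤ V := by
    rintro _ ⟨x, _, rfl⟩
    exact x.2
  have hRH : ∀ x ∈ R, x ∈ H → x = 1 := by
    rintro _ ⟨x, hx, rfl⟩ hxH
    have h1 : x ∈ H.subgroupOf V ⊓ R' := ⟨Subgroup.mem_subgroupOf.mpr hxH, hx⟩
    rw [disjoint_iff.mp hR'.disjoint, Subgroup.mem_bot] at h1
    rw [h1]; rfl
  have hRcomm : ∀ a ∈ R, ∀ b ∈ R, a * b = b * a := by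
    intro a ha b hb
    have h1 : π a * π b = π b * π a := hLab _ (hRV ha) _ (hRV hb)
    have h2 : ⁅a, b⁆ ∈ H := by
      rw [← hπ1, map_commutatorElement]
      exact commutatorElement_eq_one_iff_mul_comm.mpr h1
    have h3 : ⁅a, b⁆ ∈ R := by
      rw [commutatorElement_def]
      exact R.mul_mem (R.mul_mem (R.mul_mem ha hb) (R.inv_mem ha)) (R.inv_mem hb)
    exact commutatorElement_eq_one_iff_mul_comm.mp (hRH _ h3 h2)
  have hfpf : ∀ a ∈ R, a ≠ 1 → H ⊓ Subgroup.centralizer {a} = ⊥ := by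
    intro a ha ha1
    rw [eq_bot_iff]
    rintro n ⟨hnH, hna⟩
    rw [Subgroup.mem_bot]
    by_contra hn1
    have hcomm : Commute n a := Subgroup.mem_centralizer_singleton_iff.mp hna
    refine hG.no_commute hcomm hn1 ha1 ?_ ?_
    · intro q hq hqd
      exact hHA q hq (hqd.trans (Subgroup.orderOf_dvd_natCard H hnH))
    · intro q hq hqd
      have h1 : q ∣ r ^ k := by
        rw [← hRcard]; exact hqd.trans (Subgroup.orderOf_dvd_natCard R ha)
      have h2 : q = r := (Nat.prime_dvd_prime_iff_eq hq hr).mp (hq.dvd_of_dvd_pow h1)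
      rw [h2]; exact hrA
  have hRnorm : R ≤ Subgroup.normalizer (H : Set G) := by
    rw [Subgroup.normalizer_eq_top_iff.mpr inferInstance]
    exact le_top
  have hcyc : IsCyclic R :=
    isCyclic_of_fpf_abelian R H hH1 hRnorm hfpf ⟨⟨fun a b => Subtype.ext (hRcomm a a.2 b b.2)⟩⟩
  -- the image of R is L
  have hRmap : R.map π = L := by
    have hle : R.map π ≤ L := by
      rw [← hVmap]; exact Subgroup.map_mono hRV
    apply Subgroup.eq_of_le_of_card_ge hle
    have hinj : Function.Injective (π.domRestrict R) := by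
      rw [injective_iff_map_eq_one]
      intro x hx
      have h1 : π (x : G) = 1 := hx
      exact Subtype.ext (hRH _ x.2 ((hπ1 _).mp h1))
    have h1 : Nat.card ↥(π.domRestrict R).range = Nat.card R :=
      (Nat.card_congr (MonoidHom.ofInjective hinj).toEquiv).symm
    rw [MonoidHom.domRestrict_range] at h1
    rw [h1, hRcard, hk]
  obtain ⟨ρ, hρ⟩ := hcyc.exists_generator
  refine ⟨π (ρ : G), ?_⟩
  apply le_antisymm
  · intro l hl
    rw [← hRmap] at hl
    obtain ⟨x, hx, rfl⟩ := hl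
    obtain ⟨j, hj⟩ := Subgroup.mem_zpowers_iff.mp (hρ ⟨x, hx⟩)
    rw [Subgroup.mem_zpowers_iff]
    refine ⟨j, ?_⟩
    have h1 : ((ρ ^ j : R) : G) = x := congrArg Subtype.val hj
    rw [← h1, Subgroup.coe_zpow, map_zpow]
  · rw [Subgroup.zpowers_le, ← hRmap]
    exact Subgroup.mem_map_of_mem π ρ.2

end GK

end Cfsg.Agent.Lib.Helper7
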