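import Mathlib
import Cfsg.Agent.Lib.Helper7.GK2

set_option autoImplicit false

namespace Cfsg.Agent.Lib.Helper7

namespace GK

open scoped commutatorElement Pointwise
open Cfsg.Agent.Lib.Helper4 Cfsg.Agent.Lib.Lead

/-- the main step, assuming the `A`-core is nontrivial -/
theorem main_aux {A : Set ℕ} {G : Type*} [Group G] [Finite G] (hsol : Group.IsSolvable G)
    (hG : NoMix A G) (hH1 : Cfsg.piCore A G ≠ ⊥)
    (hb : ∃ b : ℕ, b ∉ A ∧ b.Prime ∧ b ∣ Nat.card G) :
    (∃ C : Subgroup G, Cfsg.IsFrobeniusComplement C) ∨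
    (∃ (H K : Subgroup G) (_ : H.Normal), K.Normal ∧ H < K ∧
      (∃ C : Subgroup ↥K, Cfsg.IsFrobeniusComplement C ∧
        Cfsg.frobeniusKernel C = (H.subgroupOf K : Set ↥K)) ∧
      (∃ C : Subgroup (G ⧸ H), Cfsg.IsFrobeniusComplement C ∧
        Cfsg.frobeniusKernel C = (K.map (QuotientGroup.mk' H) : Set (G ⧸ H)))) := by
  set H := Cfsg.piCore A G with hH
  have hHA : IsPiNum A (Nat.card H) := isPiNum_card_piCore A
  obtain ⟨b, hbA, hbp, hbd⟩ := hb
  have hHtop : H ≠ ⊤ := by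
    intro h0
    have := (piCore_eq_top_iff (G := G) A).mp h0
    exact hbA (this b hbp hbd)
  set π := QuotientGroup.mk' H with hπ
  have hπsurj : Function.Surjective π := QuotientGroup.mk'_surjective H
  have hQ : NoMix A (G ⧸ H) := hG.of_surjective π hπsurj
  have hcoreQ : Cfsg.piCore A (G ⧸ H) = ⊥ := piCore_quotient_piCore A
  set Kb := Cfsg.piCore Aᶜ (G ⧸ H) with hKbdef
  have hKbA : IsPiNum Aᶜ (Nat.card Kb) := isPiNum_card_piCore Aᶜ
  by_cases hKb : Kb = ⊤
  · left
    have h1 : IsPiNum Aᶜ H.index := (piCore_eq_top_iff (G := G ⧸ H) Aᶜ).mp hKb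
    obtain ⟨C, hC, _⟩ := frob_of_noMix hG H hH1 hHtop hHA h1
    exact ⟨C, hC⟩
  right
  haveI : Nontrivial (G ⧸ H) := by
    rw [QuotientGroup.nontrivial_iff]
    exact hHtop
  obtain ⟨r, L, hr, hLn, hL1, hLab, hLexp⟩ :=
    exists_normal_elementary_abelian (Q := G ⧸ H) inferInstance
  haveI : Fact r.Prime := ⟨hr⟩
  have hLp : IsPGroup r L := by
    rintro ⟨l, hl⟩
    refine ⟨1, ?_⟩
    apply Subtype.ext
    rw [pow_one, Subgroup.coe_pow]
    exact hLexp l hl
  obtain ⟨k, hk⟩ := IsPGroup.iff_card.mp hLp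
  have hrA : r ∉ A := by
    intro h0
    apply hL1
    rw [eq_bot_iff, ← hcoreQ]
    apply le_piCore hLn
    rw [hk]
    exact IsPiNum.pow h0 hr k
  obtain ⟨v, hv⟩ := cyclic_image hG H hH1 hHA r hr hrA L hLab hLp
  have hvL : v ∈ L := by rw [hv]; exact Subgroup.mem_zpowers v
  have hv1 : v ≠ 1 := by
    intro h0
    apply hL1
    rw [hv, h0, Subgroup.zpowers_one_eq_bot]
  have hvord : ∀ q : ℕ, q.Prime → q ∣ orderOf v → q ∉ A := by
    intro q hq hqd
    have h1 : q ∣ r ^ k := by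
      rw [← hk]; exact hqd.trans (Subgroup.orderOf_dvd_natCard L hvL)
    have h2 : q = r := (Nat.prime_dvd_prime_iff_eq hq hr).mp (hq.dvd_of_dvd_pow h1)
    rw [h2]; exact hrA
  -- the centralizer of L is a normal A'-subgroup
  haveI := hLn
  set Cb := Subgroup.centralizer (L : Set (G ⧸ H)) with hCb
  have hCbn : Cb.Normal := inferInstance
  have hCbA : IsPiNum Aᶜ (Nat.card Cb) := by
    rw [isPiNum_card_iff_orderOf]
    intro g hg p hp ho hpA
    have hpA' : p ∈ A := hpA
    have hg1 : g ≠ 1 := by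
      intro h0
      rw [h0, orderOf_one] at ho
      exact hp.one_lt.ne ho
    have hcomm : Commute g v := ((Subgroup.mem_centralizer_iff.mp hg) v hvL).symm
    refine hQ.no_commute hcomm hg1 hv1 ?_ hvord
    intro q hq hqd
    rw [ho] at hqd
    rw [(Nat.prime_dvd_prime_iff_eq hq hp).mp hqd]
    exact hpA'
  have hCbK : Cb ≤ Kb := le_piCore hCbn hCbA
  have hcomm : ∀ g h : G ⧸ H, ⁅g, h⁆ ∈ Kb := by
    intro g h
    apply hCbK
    rw [hCb, Subgroup.mem_centralizer_iff]
    intro l hl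
    rw [hv] at hl
    obtain ⟨j, rfl⟩ := Subgroup.mem_zpowers_iff.mp hl
    have hn : (Subgroup.zpowers v).Normal := hv ▸ hLn
    have h1 : Commute ⁅g, h⁆ v := commutator_centralizes_zpowers v hn g h
    exact (h1.zpow_right j).eq.symm
  have hLK : L ≤ Kb := by
    apply le_piCore hLn
    rw [hk]
    exact IsPiNum.pow (show r ∈ Aᶜ from hrA) hr k
  have hKb1 : Kb ≠ ⊥ := by
    intro h0
    apply hL1
    rw [eq_bot_iff, ← h0]
    exact hLK
  have hidx : IsPiNum A Kb.index := by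
    intro q hq hqd
    by_contra hqA
    haveI : Fact q.Prime := ⟨hq⟩
    obtain ⟨yb, hyb⟩ := exists_prime_orderOf_dvd_card' (G := (G ⧸ H) ⧸ Kb) q hqd
    set Tb := (Subgroup.zpowers yb).comap (QuotientGroup.mk' Kb) with hTb
    have hKT : Kb ≤ Tb := by
      intro x hx
      rw [hTb, Subgroup.mem_comap]
      have : (QuotientGroup.mk' Kb) x = 1 := (QuotientGroup.eq_one_iff x).mpr hx
      rw [this]; exact one_mem _
    have hTn : Tb.Normal := by
      refine ⟨?_⟩
      intro t ht g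
      have h1 : g * t * g⁻¹ = ⁅g, t⁆ * t := by rw [commutatorElement_def]; group
      rw [h1]
      exact Tb.mul_mem (hKT (hcomm g t)) ht
    have hTA : IsPiNum Aᶜ (Nat.card Tb) := by
      apply isPiNum_card_comap
      · rw [QuotientGroup.ker_mk']; exact hKbA
      · rw [Nat.card_zpowers, hyb]
        intro q' hq' hq'd
        rw [(Nat.prime_dvd_prime_iff_eq hq' hq).mp hq'd]
        exact hqA
    have hTK : Tb ≤ Kb := le_piCore hTn hTA
    obtain ⟨y, rfl⟩ := QuotientGroup.mk'_surjective Kb yb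
    have hy : y ∈ Tb := by
      rw [hTb, Subgroup.mem_comap]; exact Subgroup.mem_zpowers _
    have h1 : (QuotientGroup.mk' Kb) y = 1 := (QuotientGroup.eq_one_iff y).mpr (hTK hy)
    rw [h1, orderOf_one] at hyb
    exact hq.one_lt.ne hyb
  -- Frobenius structure of the quotient
  have hidx' : IsPiNum Aᶜᶜ Kb.index := by rw [compl_compl]; exact hidx
  obtain ⟨C₂, hC₂, hker₂⟩ := frob_of_noMix hQ.compl Kb hKb1 hKb hKbA hidx'
  -- the preimage
  set K := Kb.comap π with hK
  have hKmap : K.map π = Kb := Subgroup.map_comap_eq_self_of_surjective hπsurj Kb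
  have hHK : H ≤ K := by
    intro x hx
    rw [hK, Subgroup.mem_comap]
    have : π x = 1 := (QuotientGroup.eq_one_iff x).mpr hx
    rw [this]; exact one_mem _
  have hHneK : H ≠ K := by
    intro h0
    apply hKb1
    rw [← hKmap, ← h0, hπ, QuotientGroup.map_mk'_self]
  have hHltK : H < K := lt_of_le_of_ne hHK hHneK
  have hKn : K.Normal := (inferInstance : Kb.Normal).comap π
  -- Frobenius structure of K
  have hK_noMix : NoMix A ↥K := hG.of_injective K.subtype K.subtype_injective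
  have hN1 : H.subgroupOf K ≠ ⊥ := by
    intro h0
    apply hH1
    rw [Subgroup.subgroupOf_eq_bot] at h0
    exact eq_bot_iff.mpr (fun x hx => by
      have := h0.le_bot ⟨hx, hHK hx⟩
      exact this)
  have hNtop : H.subgroupOf K ≠ ⊤ := by
    intro h0
    rw [Subgroup.subgroupOf_eq_top] at h0
    exact hHneK (le_antisymm hHK h0)
  have hNA : IsPiNum A (Nat.card (H.subgroupOf K)) := by
    rw [Helper4.card_subgroupOf_of_le hHK]; exact hHA
  have hNidx : IsPiNum Aᶜ (H.subgroupOf K).index := by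
    show IsPiNum Aᶜ (H.relIndex K)
    have h1 := Subgroup.relIndex_ker K π
    rw [hπ, QuotientGroup.ker_mk'] at h1
    rw [h1, ← hπ, hKmap]
    exact hKbA
  obtain ⟨C₁, hC₁, hker₁⟩ := frob_of_noMix hK_noMix (H.subgroupOf K) hN1 hNtop hNA hNidx
  refine ⟨H, K, inferInstance, hKn, hHltK, ⟨C₁, hC₁, hker₁⟩, ⟨C₂, hC₂, ?_⟩⟩
  rw [hker₂, ← hKmap]

end GK

end Cfsg.Agent.Lib.Helper7
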