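import Mathlib
import Cfsg.Agent.Lib.Lead.SL23R7

set_option autoImplicit false

/-!
# Generic lemmas: `2`-groups with a unique involution and an odd automorphism are `Q₈`;
`Q₈ ⋊ C₃ ≅ SL₂(3)` as an honest isomorphism
-/

namespace Cfsg.Agent.Lib.Helper7.SL2N

open Cfsg.Agent.Lib.Lead Cfsg.Agent.Lib.Lead.SL23R

section q8
variable {D : Type*} [Group D] [Finite D]

/-- a `2`-group with a unique involution and a nontrivial automorphism of odd order is `Q₈` -/
theorem q8_of_unique_involution (hD : IsPGroup 2 D) (hU : UniqueOrderP 2 D) (c : MulAut D)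
    (hc1 : c ≠ 1) (n : ℕ) (hn : Odd n) (hcn : c ^ n = 1) : Nonempty (D ≃* QuaternionGroup 2) := by
  classical
  haveI : Fact (Nat.Prime 2) := ⟨Nat.prime_two⟩
  have hcyc : IsCyclic D → False := by
    intro hcy
    have h2 := Cfsg.Agent.Lib.Helper6.isPGroup_mulAut_of_isCyclic hD
    obtain ⟨j, hj⟩ := h2 c
    apply hc1
    have h3 : orderOf c ∣ 2 ^ j := orderOf_dvd_of_pow_eq_one hj
    have h4 : orderOf c ∣ n := orderOf_dvd_of_pow_eq_one hcn
    have h5 : Nat.Coprime (2 ^ j) n := Nat.Coprime.pow_left j (Nat.coprime_two_left.mpr hn)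
    have h6 := Nat.dvd_gcd h3 h4
    rw [Nat.Coprime] at h5
    rw [h5, Nat.dvd_one] at h6
    exact orderOf_eq_one_iff.mp h6
  rcases UniqueOrderP.main hD hU with hcy | ⟨-, k, ⟨θ⟩⟩
  · exact (hcyc hcy).elim
  · rcases Nat.lt_or_ge k 1 with hk | hk
    · exfalso
      have hk0 : k = 0 := by omega
      subst hk0
      apply hcyc
      have θ' : D ≃* QuaternionGroup 1 := by
        simpa using θ
      haveI := QuaternionGroup.quaternionGroup_one_isCyclic
      exact isCyclic_of_surjective θ'.symm θ'.symm.surjective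
    · rcases Nat.lt_or_ge k 2 with hk2 | hk2
      · have hk1 : k = 1 := by omega
        subst hk1
        have θ' : D ≃* QuaternionGroup 2 := by
          simpa using θ
        exact ⟨θ'⟩
      · exfalso
        apply hc1
        have hα : (MulAut.congr θ c) ^ n = 1 := by
          rw [← map_pow, hcn, map_one]
        have h1 := Cfsg.Agent.Lib.Helper9.quaternion_odd_aut_trivial k hk2 (MulAut.congr θ c)
          n hn hα
        apply MulEquiv.ext
        intro d
        have h2 := h1 (θ d)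
        have h3 : (MulAut.congr θ c) (θ d) = θ (c (θ.symm (θ d))) := rfl
        rw [h3, θ.symm_apply_apply] at h2
        exact θ.injective h2

end q8

section q8rel
variable {G : Type*} [Group G] [Finite G]

/-- (adapted from `Lead.SL23R.exists_section_of_q8`) an element of odd order acting nontrivially
on a quaternion subgroup of order eight permutes three generators cyclically -/
theorem q8_relations (D : Subgroup G) (θ : ↥D ≃* Q8) (g : G)
    (hg : g ∈ Subgroup.normalizer (D : Set G)) (hodd : Odd (orderOf g))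
    (hgc : g ∉ Subgroup.centralizer (D : Set G)) :
    ∃ x y : G, Nat.card D = 8 ∧ x ∈ D ∧ y ∈ D ∧ orderOf x = 4 ∧ y ^ 2 = x ^ 2 ∧
      y * x * y⁻¹ = x⁻¹ ∧ y ∉ Subgroup.zpowers x ∧ g * x * g⁻¹ = y ∧ g * y * g⁻¹ = x * y ∧
      3 ∣ orderOf g ∧ D ⊓ Subgroup.zpowers g = ⊥ := by
  classical
  set c : MulAut ↥D := D.normalizerMonoidHom ⟨g, hg⟩ with hc
  have hcapp : ∀ d : ↥D, ((c d : ↥D) : G) = g * d * g⁻¹ := fun d => rfl
  set α : MulAut Q8 := MulAut.congr θ c with hα
  have hαapp : ∀ q : Q8, α q = θ (c (θ.symm q)) := fun q => rfl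
  have hαsymm : ∀ q : Q8, θ.symm (α q) = c (θ.symm q) := by
    intro q
    rw [hαapp, θ.symm_apply_apply]
  set n := orderOf g with hn
  have hcn : c ^ n = 1 := by
    rw [hc, ← map_pow]
    have : (⟨g, hg⟩ : ↥(Subgroup.normalizer (D : Set G))) ^ n = 1 := by
      apply Subtype.ext
      rw [Subgroup.coe_pow, Subgroup.coe_one]
      exact pow_orderOf_eq_one g
    rw [this, map_one]
  have hαn : α ^ n = 1 := by
    rw [hα, ← map_pow, hcn, map_one]
  have hα1 : α ≠ 1 := by
    intro h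
    apply hgc
    rw [Subgroup.mem_centralizer_iff]
    intro d hd
    have h1 := hαsymm (θ ⟨d, hd⟩)
    rw [h, MulAut.one_apply, θ.symm_apply_apply] at h1
    have h2 := congrArg Subtype.val h1
    rw [hcapp] at h2
    simp only at h2
    calc d * g = g * d * g⁻¹ * g := by rw [← h2]
      _ = g * d := by group
  obtain ⟨x₀, hx₀, hy₁, hy₂, hz, hw⟩ := q8_aut_odd α n hodd hαn hα1
  obtain ⟨e1, e2, -, -, -, -, -, -, -⟩ := q8_pair x₀ (α x₀) hx₀ (by
    intro h
    apply hx₀
    apply α.injective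
    rw [map_pow, h, map_one]) hy₁ hy₂
  -- the elements
  set x : G := ((θ.symm x₀ : ↥D) : G) with hx
  set y : G := ((θ.symm (α x₀) : ↥D) : G) with hy
  have hxD : x ∈ D := (θ.symm x₀).2
  have hyD : y ∈ D := (θ.symm (α x₀)).2
  have hgx : g * x * g⁻¹ = y := by
    rw [hy, hαsymm, hcapp]
  have hgy : g * y * g⁻¹ = x * y := by
    have h1 := hαsymm (α x₀)
    rw [hz, map_mul] at h1
    have h2 := congrArg Subtype.val h1
    rw [hcapp, Subgroup.coe_mul] at h2
    exact h2.symm
  have hx4 : x ^ 4 = 1 := by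
    rw [hx, ← Subgroup.coe_pow, ← map_pow, q8_pow_four, map_one, Subgroup.coe_one]
  have hx2 : x ^ 2 ≠ 1 := by
    rw [hx, ← Subgroup.coe_pow, ← map_pow]
    intro h
    apply hx₀
    apply θ.symm.injective
    rw [map_one]
    exact Subtype.ext h
  have hxo : orderOf x = 4 := by
    have := orderOf_eq_prime_pow (p := 2) (n := 1) (x := x) (by simpa using hx2) (by simpa using hx4)
    simpa using this
  have hy2 : y ^ 2 = x ^ 2 := by
    calc y ^ 2 = ((θ.symm (α x₀ ^ 2) : ↥D) : G) := by rw [map_pow, Subgroup.coe_pow]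
      _ = ((θ.symm (x₀ ^ 2) : ↥D) : G) := by rw [e1]
      _ = x ^ 2 := by rw [map_pow, Subgroup.coe_pow]
  have hyx : y * x * y⁻¹ = x⁻¹ := by
    calc y * x * y⁻¹ = ((θ.symm (α x₀ * x₀ * (α x₀)⁻¹) : ↥D) : G) := by
          rw [map_mul, map_mul, map_inv, Subgroup.coe_mul, Subgroup.coe_mul, Subgroup.coe_inv]
      _ = ((θ.symm (x₀⁻¹) : ↥D) : G) := by rw [e2]
      _ = x⁻¹ := by rw [map_inv, Subgroup.coe_inv]
  have hyne : y ≠ x := by
    rw [hx, hy]
    intro h
    exact hy₁ (θ.symm.injective (Subtype.ext h))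
  have hyne' : y ≠ x⁻¹ := by
    rw [hx, hy, ← Subgroup.coe_inv, ← map_inv]
    intro h
    exact hy₂ (θ.symm.injective (Subtype.ext h))
  have hy2ne : y ^ 2 ≠ 1 := by rw [hy2]; exact hx2
  have hyx' : y ∉ Subgroup.zpowers x := by
    intro h
    obtain ⟨k, hk⟩ := Subgroup.mem_zpowers_iff.mp h
    have h4 : x ^ ((4 : ℕ) : ℤ) = 1 := by rw [zpow_natCast]; exact hx4
    have hk' : x ^ (k % 4) = y := by
      rw [← hk]
      exact (zpow_eq_zpow_emod k h4).symm
    have h0 : 0 ≤ k % 4 := Int.emod_nonneg k (by norm_num)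
    have h1 : k % 4 < 4 := Int.emod_lt_of_pos k (by norm_num)
    obtain ⟨j, hj⟩ := Int.eq_ofNat_of_zero_le h0
    rw [hj, zpow_natCast] at hk'
    have hj4 : j < 4 := by omega
    interval_cases j
    · apply hy2ne; rw [← hk']; simp
    · apply hyne; rw [← hk']; simp
    · apply hy2ne; rw [← hk', ← pow_mul]; exact hx4
    · apply hyne'
      rw [← hk']
      have : x ^ 3 * x = 1 := by rw [← pow_succ]; exact hx4
      exact eq_inv_of_mul_eq_one_left this
  -- 3 divides the order of g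
  have hcube : α (α (α x₀)) = x₀ := by rw [hz]; exact hw
  have h3 : 3 ∣ n := by
    have key : ∀ k : ℕ, (α ^ (3 * k)) x₀ = x₀ := by
      intro k
      induction k with
      | zero => rfl
      | succ k ih =>
        rw [mul_add, mul_one, pow_add, MulAut.mul_apply]
        have : (α ^ 3) x₀ = x₀ := by
          rw [pow_succ, pow_two, MulAut.mul_apply, MulAut.mul_apply]
          exact hcube
        rw [this, ih]
    have hcomm : ∀ (m : ℕ) (w : Q8), (α ^ m) (α w) = α ((α ^ m) w) := by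
      intro m w
      rw [← MulAut.mul_apply, ← MulAut.mul_apply, ← pow_succ, ← pow_succ']
    by_contra hnd
    have hn1 : (α ^ n) x₀ = x₀ := by rw [hαn]; rfl
    have hdecomp : n = 3 * (n / 3) + n % 3 := (Nat.div_add_mod n 3).symm
    have hr : n % 3 = 1 ∨ n % 3 = 2 := by
      have : n % 3 ≠ 0 := fun h => hnd (Nat.dvd_of_mod_eq_zero h)
      omega
    rw [hdecomp, pow_add, MulAut.mul_apply] at hn1
    rcases hr with hr | hr
    · rw [hr, pow_one] at hn1
      -- (α^(3k)) (α x₀) = x₀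
      rw [hcomm, key] at hn1
      exact hy₁ hn1
    · rw [hr, pow_two, MulAut.mul_apply] at hn1
      rw [hcomm, hcomm, key, hz] at hn1
      have h6 : α x₀ = 1 := by
        calc α x₀ = x₀⁻¹ * (x₀ * α x₀) := by group
          _ = 1 := by rw [hn1]; group
      apply hx₀
      have : x₀ = 1 := α.injective (by rw [h6, map_one])
      rw [this, one_pow]
  have hD8 : Nat.card D = 8 := by
    rw [Nat.card_congr θ.toEquiv, Nat.card_eq_fintype_card, QuaternionGroup.card]
  have hdisj : D ⊓ Subgroup.zpowers g = ⊥ := by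
    apply Subgroup.inf_eq_bot_of_coprime
    rw [hD8, Nat.card_zpowers]
    have : Nat.Coprime 2 (orderOf g) := (Nat.coprime_two_left).mpr hodd
    exact Nat.Coprime.pow_left 3 this
  exact ⟨x, y, hD8, hxD, hyD, hxo, hy2, hyx, hyx', hgx, hgy, h3, hdisj⟩


/-- a quaternion group of order eight together with an element permuting three generators
cyclically gives a section isomorphic to `SL₂(3)` -/
theorem iso_of_relations (D : Subgroup G) (x y g : G) (hD : Nat.card D = 8)
    (hxD : x ∈ D) (hyD : y ∈ D) (hx : orderOf x = 4) (hy2 : y ^ 2 = x ^ 2)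
    (hyx : y * x * y⁻¹ = x⁻¹) (hyx' : y ∉ Subgroup.zpowers x)
    (hgD : g ∈ Subgroup.normalizer (D : Set G)) (hgx : g * x * g⁻¹ = y)
    (hgy : g * y * g⁻¹ = x * y) (h3 : 3 ∣ orderOf g) (hdisj : D ⊓ Subgroup.zpowers g = ⊥)
    (hg3 : g ^ 3 = 1) :
    Nonempty (↥(D ⊔ Subgroup.zpowers g) ≃* Matrix.SpecialLinearGroup (Fin 2) (ZMod 3)) := by
  classical
  -- the isomorphism of `Q₈` with `D`
  have ha4 : (⟨x, hxD⟩ : ↥D) ^ (2 * 2) = 1 := by
    apply Subtype.ext
    rw [Subgroup.coe_pow, Subgroup.coe_one]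
    have : (2 * 2 : ℕ) = orderOf x := by rw [hx]
    rw [this]
    exact pow_orderOf_eq_one x
  have hb2 : (⟨y, hyD⟩ : ↥D) ^ 2 = (⟨x, hxD⟩ : ↥D) ^ 2 := Subtype.ext (by
    simpa using hy2)
  have hba : (⟨y, hyD⟩ : ↥D) * ⟨x, hxD⟩ * (⟨y, hyD⟩ : ↥D)⁻¹ = (⟨x, hxD⟩ : ↥D)⁻¹ :=
    Subtype.ext (by simpa using hyx)
  have hord : orderOf (⟨x, hxD⟩ : ↥D) = 2 * 2 := by
    rw [Subgroup.orderOf_mk, hx]
  have hbA : (⟨y, hyD⟩ : ↥D) ∉ Subgroup.zpowers (⟨x, hxD⟩ : ↥D) := by
    intro h
    apply hyx'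
    obtain ⟨k, hk⟩ := Subgroup.mem_zpowers_iff.mp h
    have := congrArg Subtype.val hk
    rw [Subgroup.coe_zpow] at this
    exact Subgroup.mem_zpowers_iff.mpr ⟨k, this⟩
  have hcard : Nat.card ↥D = 4 * 2 := by rw [hD]
  have hbij := quatLift_bijective 2 (⟨x, hxD⟩ : ↥D) ⟨y, hyD⟩ ha4 hb2 hba hord hbA hcard
  let eD : QuaternionGroup 2 ≃* ↥D :=
    MulEquiv.ofBijective (quatLift 2 (⟨x, hxD⟩ : ↥D) ⟨y, hyD⟩ ha4 hb2 hba) hbij
  have heDa : eD (QuaternionGroup.a 1) = ⟨x, hxD⟩ := quatLift_a_one 2 _ _ ha4 hb2 hba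
  have heDx : eD (QuaternionGroup.xa 0) = ⟨y, hyD⟩ := quatLift_xa_zero 2 _ _ ha4 hb2 hba
  -- the map to `SL₂(3)`
  let lam : QuaternionGroup 2 →* SL23 := quatLift 2 mi mj mi_pow_four mj_sq mj_conj_mi
  have hlama : lam (QuaternionGroup.a 1) = mi := quatLift_a_one 2 _ _ _ _ _
  have hlamx : lam (QuaternionGroup.xa 0) = mj := quatLift_xa_zero 2 _ _ _ _ _
  let f₁ : ↥D →* SL23 := lam.comp eD.symm.toMonoidHom
  have hf₁ : ∀ q : QuaternionGroup 2, f₁ (eD q) = lam q := by
    intro q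
    show lam (eD.symm (eD q)) = lam q
    rw [eD.symm_apply_apply]
  -- the cyclic part
  let γ : ↥(Subgroup.zpowers g) := ⟨g, Subgroup.mem_zpowers g⟩
  have hγ : ∀ k : ↥(Subgroup.zpowers g), k ∈ Subgroup.zpowers γ := by
    rintro ⟨k, hk⟩
    obtain ⟨n, rfl⟩ := Subgroup.mem_zpowers_iff.mp hk
    exact Subgroup.mem_zpowers_iff.mpr ⟨n, Subtype.ext (by rw [Subgroup.coe_zpow])⟩
  have hmu : orderOf mu ∣ orderOf γ := by
    rw [Subgroup.orderOf_mk]
    exact dvd_trans (orderOf_dvd_of_pow_eq_one mu_pow_three) h3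
  let f₂ : ↥(Subgroup.zpowers g) →* SL23 := monoidHomOfForallMemZpowers hγ hmu
  have hf₂ : f₂ γ = mu := monoidHomOfForallMemZpowers_apply_gen hγ hmu
  -- the action
  have hle : Subgroup.zpowers g ≤ Subgroup.normalizer (D : Set G) :=
    Subgroup.zpowers_le.mpr hgD
  let φ : ↥(Subgroup.zpowers g) →* MulAut ↥D :=
    (D.normalizerMonoidHom).comp (Subgroup.inclusion hle)
  have hφ : ∀ (k : ↥(Subgroup.zpowers g)) (d : ↥D),
      ((φ k d : ↥D) : G) = (k : G) * (d : G) * (k : G)⁻¹ := fun k d => rfl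
  -- compatibility
  have hP : ∀ k : ↥(Subgroup.zpowers g), ∀ d : ↥D, f₁ (φ k d) = f₂ k * f₁ d * (f₂ k)⁻¹ := by
    have hgen : ∀ d : ↥D, f₁ (φ γ d) = f₂ γ * f₁ d * (f₂ γ)⁻¹ := by
      have key : (f₁.comp (φ γ).toMonoidHom).comp eD.toMonoidHom =
          ((MulAut.conj (f₂ γ)).toMonoidHom.comp f₁).comp eD.toMonoidHom := by
        apply q8_hom_ext
        · show f₁ (φ γ (eD (QuaternionGroup.a 1))) =
            f₂ γ * f₁ (eD (QuaternionGroup.a 1)) * (f₂ γ)⁻¹
          have e1 : φ γ (eD (QuaternionGroup.a 1)) = eD (QuaternionGroup.xa 0) := by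
            rw [heDa, heDx]
            apply Subtype.ext
            rw [hφ]
            exact hgx
          rw [e1, hf₁, hf₁, hlama, hlamx, hf₂, mu_conj_mi]
        · show f₁ (φ γ (eD (QuaternionGroup.xa 0))) =
            f₂ γ * f₁ (eD (QuaternionGroup.xa 0)) * (f₂ γ)⁻¹
          have e1 : φ γ (eD (QuaternionGroup.xa 0)) =
              eD (QuaternionGroup.a 1 * QuaternionGroup.xa 0) := by
            rw [map_mul, heDa, heDx]
            apply Subtype.ext
            rw [hφ]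
            exact hgy
          rw [e1, hf₁, hf₁, map_mul, hlama, hlamx, hf₂, mu_conj_mj]
      intro d
      have := DFunLike.congr_fun key (eD.symm d)
      simp only [MonoidHom.comp_apply, MulEquiv.coe_toMonoidHom, MulEquiv.apply_symm_apply,
        MulAut.conj_apply] at this
      exact this
    intro k
    obtain ⟨n, rfl⟩ := Subgroup.mem_zpowers_iff.mp (hγ k)
    induction n using Int.induction_on with
    | zero =>
      intro d
      simp
    | succ n ih =>
      intro d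
      rw [zpow_add_one, map_mul, map_mul, MulAut.mul_apply, ih, hgen]
      group
    | pred n ih =>
      intro d
      have h1 := hgen (φ (γ ^ (-(n : ℤ) - 1)) d)
      have h2 : φ γ (φ (γ ^ (-(n : ℤ) - 1)) d) = φ (γ ^ (-(n : ℤ))) d := by
        rw [← MulAut.mul_apply, ← map_mul, ← zpow_one_add]
        congr 2
        ring_nf
      rw [h2, ih] at h1
      have h3 : f₂ (γ ^ (-(n : ℤ) - 1)) = (f₂ γ)⁻¹ * f₂ (γ ^ (-(n : ℤ))) := by
        rw [← map_inv, ← map_mul, ← zpow_neg_one, ← zpow_add]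
        congr 2
        ring
      rw [h3]
      calc f₁ (φ (γ ^ (-(n : ℤ) - 1)) d)
          = (f₂ γ)⁻¹ * (f₂ γ * f₁ (φ (γ ^ (-(n : ℤ) - 1)) d) * (f₂ γ)⁻¹) * f₂ γ := by group
        _ = _ := by rw [← h1]; group
  have hcompat : ∀ k : ↥(Subgroup.zpowers g),
      f₁.comp (φ k).toMonoidHom = (MulAut.conj (f₂ k)).toMonoidHom.comp f₁ := by
    intro k
    ext d
    simp only [MonoidHom.comp_apply, MulEquiv.coe_toMonoidHom, MulAut.conj_apply]
    exact congrArg (fun m : SL23 => (m : Matrix (Fin 2) (Fin 2) (ZMod 3)) _ _) (hP k d)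
  let F : ↥D ⋊[φ] ↥(Subgroup.zpowers g) →* SL23 := SemidirectProduct.lift f₁ f₂ hcompat
  have hF : Function.Surjective F := by
    intro m
    obtain ⟨a, b, c, rfl⟩ := sl23_words m
    refine ⟨SemidirectProduct.inl ((eD (QuaternionGroup.a 1)) ^ a.val *
      (eD (QuaternionGroup.xa 0)) ^ b.val) * SemidirectProduct.inr (γ ^ c.val), ?_⟩
    rw [map_mul, SemidirectProduct.lift_inl, SemidirectProduct.lift_inr, map_mul, map_pow,
      map_pow, map_pow, hf₁, hf₁, hlama, hlamx, hf₂]
  let ι : ↥D ⋊[φ] ↥(Subgroup.zpowers g) →* G := SemidirectProduct.monoidHomSubgroup hle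
  have hι : Function.Injective ι := by
    rw [injective_iff_map_eq_one]
    intro s hs
    have hs' : (s.left : G) * (s.right : G) = 1 := hs
    have h1 : (s.left : G) = ((s.right : G))⁻¹ := eq_inv_of_mul_eq_one_left hs'
    have h2 : (s.left : G) ∈ D ⊓ Subgroup.zpowers g := by
      refine ⟨s.left.2, ?_⟩
      rw [h1]
      exact Subgroup.inv_mem _ s.right.2
    rw [hdisj, Subgroup.mem_bot] at h2
    have h3 : (s.right : G) = 1 := by
      rw [h2, one_mul] at hs'
      exact hs'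
    ext
    · rw [SemidirectProduct.one_left]; exact h2
    · rw [SemidirectProduct.one_right]; exact h3
  -- cardinalities
  have hcardK : Nat.card ↥(Subgroup.zpowers g) = 3 := by
    rw [Nat.card_zpowers]
    have h1 : orderOf g ∣ 3 := orderOf_dvd_of_pow_eq_one hg3
    exact Nat.dvd_antisymm h1 h3
  have hcardS : Nat.card (↥D ⋊[φ] ↥(Subgroup.zpowers g)) = 24 := by
    rw [SemidirectProduct.card, hD, hcardK]
  have hcardT : Nat.card SL23 = 24 := by
    rw [Nat.card_eq_fintype_card]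
    decide +kernel
  haveI : Finite (↥D ⋊[φ] ↥(Subgroup.zpowers g)) :=
    Nat.finite_of_card_ne_zero (by rw [hcardS]; norm_num)
  have hFbij : Function.Bijective F := by
    rw [Nat.bijective_iff_surjective_and_card]
    exact ⟨hF, by rw [hcardS, hcardT]⟩
  have hrange : ι.range = D ⊔ Subgroup.zpowers g := by
    apply le_antisymm
    · rintro _ ⟨s, rfl⟩
      show (s.left : G) * (s.right : G) ∈ D ⊔ Subgroup.zpowers g
      exact Subgroup.mul_mem_sup s.left.2 s.right.2
    · rw [sup_le_iff]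
      constructor
      · intro d hd
        refine ⟨SemidirectProduct.inl ⟨d, hd⟩, ?_⟩
        show ((SemidirectProduct.inl (⟨d, hd⟩ : ↥D) : ↥D ⋊[φ] ↥(Subgroup.zpowers g)).left : G) *
          ((SemidirectProduct.inl (⟨d, hd⟩ : ↥D) : ↥D ⋊[φ] ↥(Subgroup.zpowers g)).right : G) = d
        rw [SemidirectProduct.left_inl, SemidirectProduct.right_inl, Subgroup.coe_one, mul_one]
      · intro k hk
        refine ⟨SemidirectProduct.inr ⟨k, hk⟩, ?_⟩
        show ((SemidirectProduct.inr (⟨k, hk⟩ : ↥(Subgroup.zpowers g)) :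
            ↥D ⋊[φ] ↥(Subgroup.zpowers g)).left : G) *
          ((SemidirectProduct.inr (⟨k, hk⟩ : ↥(Subgroup.zpowers g)) :
            ↥D ⋊[φ] ↥(Subgroup.zpowers g)).right : G) = k
        rw [SemidirectProduct.left_inr, SemidirectProduct.right_inr, Subgroup.coe_one, one_mul]
  exact ⟨(MulEquiv.subgroupCongr hrange).symm.trans
    ((MonoidHom.ofInjective hι).symm.trans (MulEquiv.ofBijective F hFbij))⟩


end q8rel

end Cfsg.Agent.Lib.Helper7.SL2N
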