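import Mathlib
import Cfsg.Agent.Lib.Helper7.SL2N2

set_option autoImplicit false

/-!
# Towards `GL₂(3)`: facts on `Q₈` and a marked quaternion subgroup
-/

namespace Cfsg.Agent.Lib.Helper7.GL23

open Cfsg.Agent.Lib.Lead Cfsg.Agent.Lib.Lead.SL23R

/-- first standard generator of `Q₈` -/
abbrev qi : Q8 := QuaternionGroup.a 1

/-- second standard generator of `Q₈` -/
abbrev qj : Q8 := QuaternionGroup.xa 0

theorem q8_center : ∀ q : Q8, qi * q = q * qi → qj * q = q * qj → q = 1 ∨ q = qi ^ 2 := by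
  decide +kernel

theorem q8_cover : ∀ q : Q8, q ^ 2 ≠ 1 →
    q = qi ∨ q = qi⁻¹ ∨ q = qj ∨ q = qj⁻¹ ∨ q = qi * qj ∨ q = (qi * qj)⁻¹ := by
  decide +kernel

theorem q8_sq_cases : ∀ q : Q8, q ^ 2 = 1 → q = 1 ∨ q = qi ^ 2 := by
  decide +kernel

theorem q8_outer_inv : ∀ p q : Q8,
    (∀ a : Fin 4, ∀ b : Fin 2, p = qi ^ a.val * qj ^ b.val → p ^ a.val * q ^ b.val = qi) →
    (∀ a : Fin 4, ∀ b : Fin 2, q = qi ^ a.val * qj ^ b.val → p ^ a.val * q ^ b.val = qj) →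
    (∀ r : Q8, ¬ (r * qi * r⁻¹ = p ∧ r * qj * r⁻¹ = q)) →
    (p = qi⁻¹ ∧ (q = qi * qj ∨ q = (qi * qj)⁻¹)) ∨
      (q = qj⁻¹ ∧ (p = qi * qj ∨ p = (qi * qj)⁻¹)) ∨
      (p * q = (qi * qj)⁻¹ ∧ (p = qj ∨ p = qj⁻¹)) := by
  decide +kernel

section cfg
variable {X : Type*} [Group X]

/-- a quaternion subgroup with marked generators `x`, `y`, containing its centralizer, and an
element `w` of order three permuting `x`, `y`, `x * y` cyclically -/
structure Cfg (R : Subgroup X) (x y w : X) : Prop where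
  hR8 : Nat.card R = 8
  hx : x ∈ R
  hy : y ∈ R
  hx4 : orderOf x = 4
  hy2 : y ^ 2 = x ^ 2
  hyx : y * x * y⁻¹ = x⁻¹
  hyx' : y ∉ Subgroup.zpowers x
  hwx : w * x * w⁻¹ = y
  hwy : w * y * w⁻¹ = x * y
  hw3 : w ^ 3 = 1
  hcent : Subgroup.centralizer (R : Set X) ≤ R

variable {R : Subgroup X} {x y w : X}

/-- the marking isomorphism -/
theorem Cfg.exists_eD (c : Cfg R x y w) :
    ∃ e : Q8 ≃* ↥R, ((e qi : ↥R) : X) = x ∧ ((e qj : ↥R) : X) = y := by
  classical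
  haveI : Finite ↥R := Nat.finite_of_card_ne_zero (by rw [c.hR8]; norm_num)
  have ha4 : (⟨x, c.hx⟩ : ↥R) ^ (2 * 2) = 1 := by
    apply Subtype.ext
    rw [Subgroup.coe_pow, Subgroup.coe_one]
    have : (2 * 2 : ℕ) = orderOf x := by rw [c.hx4]
    rw [this]
    exact pow_orderOf_eq_one x
  have hb2 : (⟨y, c.hy⟩ : ↥R) ^ 2 = (⟨x, c.hx⟩ : ↥R) ^ 2 := Subtype.ext (by
    simpa using c.hy2)
  have hba : (⟨y, c.hy⟩ : ↥R) * ⟨x, c.hx⟩ * (⟨y, c.hy⟩ : ↥R)⁻¹ = (⟨x, c.hx⟩ : ↥R)⁻¹ :=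
    Subtype.ext (by simpa using c.hyx)
  have hord : orderOf (⟨x, c.hx⟩ : ↥R) = 2 * 2 := by
    rw [Subgroup.orderOf_mk, c.hx4]
  have hbA : (⟨y, c.hy⟩ : ↥R) ∉ Subgroup.zpowers (⟨x, c.hx⟩ : ↥R) := by
    intro h
    apply c.hyx'
    obtain ⟨k, hk⟩ := Subgroup.mem_zpowers_iff.mp h
    have := congrArg Subtype.val hk
    rw [Subgroup.coe_zpow] at this
    exact Subgroup.mem_zpowers_iff.mpr ⟨k, this⟩
  have hcard : Nat.card ↥R = 4 * 2 := by rw [c.hR8]
  have hbij := quatLift_bijective 2 (⟨x, c.hx⟩ : ↥R) ⟨y, c.hy⟩ ha4 hb2 hba hord hbA hcard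
  refine ⟨MulEquiv.ofBijective (quatLift 2 (⟨x, c.hx⟩ : ↥R) ⟨y, c.hy⟩ ha4 hb2 hba) hbij, ?_, ?_⟩
  · have := quatLift_a_one 2 (⟨x, c.hx⟩ : ↥R) ⟨y, c.hy⟩ ha4 hb2 hba
    exact congrArg Subtype.val this
  · have := quatLift_xa_zero 2 (⟨x, c.hx⟩ : ↥R) ⟨y, c.hy⟩ ha4 hb2 hba
    exact congrArg Subtype.val this

/-- every element of `R` is a word in the marked generators -/
theorem Cfg.words (c : Cfg R x y w) {r : X} (hr : r ∈ R) :
    ∃ a b : ℕ, r = x ^ a * y ^ b := by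
  obtain ⟨e, hex, hey⟩ := c.exists_eD
  obtain ⟨i, j, hij⟩ := Cfsg.Agent.Lib.Helper3.q8_words (e.symm ⟨r, hr⟩)
  refine ⟨i, j, ?_⟩
  have h1 : (⟨r, hr⟩ : ↥R) = e (qi ^ (i : ℕ) * qj ^ (j : ℕ)) := by
    rw [← hij, e.apply_symm_apply]
  have h2 := congrArg Subtype.val h1
  rw [map_mul, map_pow, map_pow, Subgroup.coe_mul, Subgroup.coe_pow, Subgroup.coe_pow, hex, hey]
    at h2
  exact h2

/-- an element commuting with both generators is `1` or the central involution -/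
theorem Cfg.central (c : Cfg R x y w) {u : X} (hux : u * x = x * u) (huy : u * y = y * u) :
    u = 1 ∨ u = x ^ 2 := by
  obtain ⟨e, hex, hey⟩ := c.exists_eD
  have huR : u ∈ R := by
    apply c.hcent
    rw [Subgroup.mem_centralizer_iff]
    intro r hr
    obtain ⟨a, b, rfl⟩ := c.words hr
    have h1 : Commute u x := hux
    have h2 : Commute u y := huy
    exact ((h1.pow_right a).mul_right (h2.pow_right b)).eq.symm
  have h3 := q8_center (e.symm ⟨u, huR⟩) ?_ ?_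
  · rcases h3 with h | h
    · left
      have h4 : (⟨u, huR⟩ : ↥R) = e 1 := by rw [← h, e.apply_symm_apply]
      have := congrArg Subtype.val h4
      rw [map_one] at this
      exact this
    · right
      have h4 : (⟨u, huR⟩ : ↥R) = e (qi ^ 2) := by rw [← h, e.apply_symm_apply]
      have := congrArg Subtype.val h4
      rw [map_pow, Subgroup.coe_pow, hex] at this
      exact this
  · apply e.injective
    apply Subtype.ext
    rw [map_mul, map_mul, e.apply_symm_apply, Subgroup.coe_mul, Subgroup.coe_mul, hex]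
    exact hux.symm
  · apply e.injective
    apply Subtype.ext
    rw [map_mul, map_mul, e.apply_symm_apply, Subgroup.coe_mul, Subgroup.coe_mul, hey]
    exact huy.symm

theorem Cfg.x_sq_ne_one (c : Cfg R x y w) : x ^ 2 ≠ 1 := by
  intro h
  have := orderOf_dvd_of_pow_eq_one h
  rw [c.hx4] at this
  omega

theorem Cfg.x_pow_four (c : Cfg R x y w) : x ^ 4 = 1 := by
  rw [← c.hx4]
  exact pow_orderOf_eq_one x

end cfg

end Cfsg.Agent.Lib.Helper7.GL23
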