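import Mathlib
import Cfsg.Agent.Lib.Helper7.GL23A

set_option autoImplicit false

/-!
# Towards `GL₂(3)`: normalizing an outer involution
-/

namespace Cfsg.Agent.Lib.Helper7.GL23

open Cfsg.Agent.Lib.Lead Cfsg.Agent.Lib.Lead.SL23R

theorem q8_id1 : qi * (qi * qj) * qi⁻¹ = (qi * qj)⁻¹ := by decide +kernel
theorem q8_id2 : qj * (qi * qj) = qi := by decide +kernel
theorem q8_id3 : (qi * qj) * qj⁻¹ = qi := by decide +kernel
theorem q8_id4 : (qi * qj)⁻¹ * qj⁻¹ = qi⁻¹ := by decide +kernel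
theorem q8_id5 : qi⁻¹ * (qi * qj)⁻¹ = qj⁻¹ := by decide +kernel

section cfg
variable {X : Type*} [Group X] {R : Subgroup X} {x y w : X}

theorem Cfg.id1 (c : Cfg R x y w) : x * (x * y) * x⁻¹ = (x * y)⁻¹ := by
  obtain ⟨e, hex, hey⟩ := c.exists_eD
  have := congrArg (fun q => ((e q : ↥R) : X)) q8_id1
  simp only [map_mul, map_inv, Subgroup.coe_mul, Subgroup.coe_inv, hex, hey] at this
  exact this

theorem Cfg.id2 (c : Cfg R x y w) : y * (x * y) = x := by
  obtain ⟨e, hex, hey⟩ := c.exists_eD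
  have := congrArg (fun q => ((e q : ↥R) : X)) q8_id2
  simp only [map_mul, map_inv, Subgroup.coe_mul, Subgroup.coe_inv, hex, hey] at this
  exact this

theorem Cfg.id3 (c : Cfg R x y w) : (x * y) * y⁻¹ = x := by group

theorem Cfg.id4 (c : Cfg R x y w) : (x * y)⁻¹ * y⁻¹ = x⁻¹ := by
  obtain ⟨e, hex, hey⟩ := c.exists_eD
  have := congrArg (fun q => ((e q : ↥R) : X)) q8_id4
  simp only [map_mul, map_inv, Subgroup.coe_mul, Subgroup.coe_inv, hex, hey] at this
  exact this

theorem Cfg.id5 (c : Cfg R x y w) : x⁻¹ * (x * y)⁻¹ = y⁻¹ := by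
  obtain ⟨e, hex, hey⟩ := c.exists_eD
  have := congrArg (fun q => ((e q : ↥R) : X)) q8_id5
  simp only [map_mul, map_inv, Subgroup.coe_mul, Subgroup.coe_inv, hex, hey] at this
  exact this

/-- `w` maps `x * y` to `x` -/
theorem Cfg.hwxy (c : Cfg R x y w) : w * (x * y) * w⁻¹ = x := by
  calc w * (x * y) * w⁻¹ = (w * x * w⁻¹) * (w * y * w⁻¹) := by group
    _ = y * (x * y) := by rw [c.hwx, c.hwy]
    _ = x := c.id2

/-- the three possible shapes of conjugation by an involution outside `R` -/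
theorem Cfg.tri [R.Normal] (c : Cfg R x y w) {t : X} (htR : t ∉ R) (ht2 : t * t = 1) :
    (t * x * t⁻¹ = x⁻¹ ∧ (t * y * t⁻¹ = x * y ∨ t * y * t⁻¹ = (x * y)⁻¹)) ∨
    (t * y * t⁻¹ = y⁻¹ ∧ (t * x * t⁻¹ = x * y ∨ t * x * t⁻¹ = (x * y)⁻¹)) ∨
    (t * x * t⁻¹ * (t * y * t⁻¹) = (x * y)⁻¹ ∧ (t * x * t⁻¹ = y ∨ t * x * t⁻¹ = y⁻¹)) := by
  obtain ⟨e, hex, hey⟩ := c.exists_eD
  have hpR : t * x * t⁻¹ ∈ R := Subgroup.Normal.conj_mem inferInstance x c.hx t
  have hqR : t * y * t⁻¹ ∈ R := Subgroup.Normal.conj_mem inferInstance y c.hy t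
  obtain ⟨p, hp⟩ : ∃ p, p = t * x * t⁻¹ := ⟨_, rfl⟩
  obtain ⟨q, hq⟩ : ∃ q, q = t * y * t⁻¹ := ⟨_, rfl⟩
  rw [← hp] at hpR
  rw [← hq] at hqR
  rw [← hp, ← hq]
  set p₀ := e.symm ⟨p, hpR⟩ with hp₀def
  set q₀ := e.symm ⟨q, hqR⟩ with hq₀def
  have hp₀ : ((e p₀ : ↥R) : X) = p := by rw [hp₀def, e.apply_symm_apply]
  have hq₀ : ((e q₀ : ↥R) : X) = q := by rw [hq₀def, e.apply_symm_apply]
  have hconj : ∀ a b : ℕ, t * (x ^ a * y ^ b) * t⁻¹ = p ^ a * q ^ b := by
    intro a b
    have := map_mul (MulAut.conj t) (x ^ a) (y ^ b)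
    simp only [map_pow, MulAut.conj_apply] at this
    rw [hp, hq]
    exact this
  have htinv : t⁻¹ = t := inv_eq_of_mul_eq_one_left ht2
  have htt : ∀ v : X, t * (t * v * t⁻¹) * t⁻¹ = v := by
    intro v
    rw [htinv]
    calc t * (t * v * t) * t = (t * t) * v * (t * t) := by group
      _ = v := by rw [ht2, one_mul, mul_one]
  have tr : ∀ {u v : Q8}, u = v → ((e u : ↥R) : X) = ((e v : ↥R) : X) := by
    intro u v h
    rw [h]
  have H1 : ∀ a : Fin 4, ∀ b : Fin 2, p₀ = qi ^ a.val * qj ^ b.val → p₀ ^ a.val * q₀ ^ b.val = qi := by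
    intro a b hab
    have h1 := tr hab
    simp only [map_mul, map_pow, Subgroup.coe_mul, Subgroup.coe_pow, hex, hey, hp₀] at h1
    have h2 : x = p ^ a.val * q ^ b.val := by
      rw [← hconj, ← h1, hp, htt]
    apply e.injective
    apply Subtype.ext
    rw [map_mul, map_pow, map_pow, Subgroup.coe_mul, Subgroup.coe_pow, Subgroup.coe_pow, hp₀, hq₀,
      hex]
    exact h2.symm
  have H2 : ∀ a : Fin 4, ∀ b : Fin 2, q₀ = qi ^ a.val * qj ^ b.val → p₀ ^ a.val * q₀ ^ b.val = qj := by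
    intro a b hab
    have h1 := tr hab
    simp only [map_mul, map_pow, Subgroup.coe_mul, Subgroup.coe_pow, hex, hey, hq₀] at h1
    have h2 : y = p ^ a.val * q ^ b.val := by
      rw [← hconj, ← h1, hq, htt]
    apply e.injective
    apply Subtype.ext
    rw [map_mul, map_pow, map_pow, Subgroup.coe_mul, Subgroup.coe_pow, Subgroup.coe_pow, hp₀, hq₀,
      hey]
    exact h2.symm
  have H3 : ∀ r : Q8, ¬ (r * qi * r⁻¹ = p₀ ∧ r * qj * r⁻¹ = q₀) := by
    rintro r₀ ⟨hr1, hr2⟩
    apply htR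
    obtain ⟨r, hr⟩ : ∃ r : X, r = ((e r₀ : ↥R) : X) := ⟨_, rfl⟩
    have hrR : r ∈ R := by rw [hr]; exact (e r₀).2
    have h1 := tr hr1
    have h2 := tr hr2
    simp only [map_mul, map_inv, Subgroup.coe_mul, Subgroup.coe_inv, hex, hey, hp₀, hq₀, ← hr]
      at h1 h2
    have hux : r⁻¹ * t * x = x * (r⁻¹ * t) := by
      calc r⁻¹ * t * x = r⁻¹ * (t * x * t⁻¹) * t := by group
        _ = r⁻¹ * (r * x * r⁻¹) * t := by rw [← hp, h1]
        _ = x * (r⁻¹ * t) := by group
    have huy : r⁻¹ * t * y = y * (r⁻¹ * t) := by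
      calc r⁻¹ * t * y = r⁻¹ * (t * y * t⁻¹) * t := by group
        _ = r⁻¹ * (r * y * r⁻¹) * t := by rw [← hq, h2]
        _ = y * (r⁻¹ * t) := by group
    have huR : r⁻¹ * t ∈ R := by
      rcases c.central hux huy with h | h
      · rw [h]; exact R.one_mem
      · rw [h]; exact R.pow_mem c.hx 2
    have : t = r * (r⁻¹ * t) := by group
    rw [this]
    exact R.mul_mem hrR huR
  rcases q8_outer_inv p₀ q₀ H1 H2 H3 with h | h | h
  · left
    obtain ⟨h1, h2⟩ := h
    refine ⟨?_, ?_⟩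
    · have := tr h1
      simpa only [map_mul, map_inv, Subgroup.coe_mul, Subgroup.coe_inv, hex, hey, hp₀, hq₀]
        using this
    · rcases h2 with h2 | h2
      · left
        have := tr h2
        simpa only [map_mul, map_inv, Subgroup.coe_mul, Subgroup.coe_inv, hex, hey, hp₀, hq₀]
          using this
      · right
        have := tr h2
        simpa only [map_mul, map_inv, Subgroup.coe_mul, Subgroup.coe_inv, hex, hey, hp₀, hq₀]
          using this
  · right; left
    obtain ⟨h1, h2⟩ := h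
    refine ⟨?_, ?_⟩
    · have := tr h1
      simpa only [map_mul, map_inv, Subgroup.coe_mul, Subgroup.coe_inv, hex, hey, hp₀, hq₀]
        using this
    · rcases h2 with h2 | h2
      · left
        have := tr h2
        simpa only [map_mul, map_inv, Subgroup.coe_mul, Subgroup.coe_inv, hex, hey, hp₀, hq₀]
          using this
      · right
        have := tr h2
        simpa only [map_mul, map_inv, Subgroup.coe_mul, Subgroup.coe_inv, hex, hey, hp₀, hq₀]
          using this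
  · right; right
    obtain ⟨h1, h2⟩ := h
    refine ⟨?_, ?_⟩
    · have := tr h1
      simpa only [map_mul, map_inv, Subgroup.coe_mul, Subgroup.coe_inv, hex, hey, hp₀, hq₀]
        using this
    · rcases h2 with h2 | h2
      · left
        have := tr h2
        simpa only [map_mul, map_inv, Subgroup.coe_mul, Subgroup.coe_inv, hex, hey, hp₀, hq₀]
          using this
      · right
        have := tr h2
        simpa only [map_mul, map_inv, Subgroup.coe_mul, Subgroup.coe_inv, hex, hey, hp₀, hq₀]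
          using this

end cfg

end Cfsg.Agent.Lib.Helper7.GL23
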