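import Mathlib
import Cfsg.Agent.Lib.Helper7.GL23B

set_option autoImplicit false

/-!
# Towards `GL₂(3)`: an involution inverting `x` and `w`
-/

namespace Cfsg.Agent.Lib.Helper7.GL23

open Cfsg.Agent.Lib.Lead Cfsg.Agent.Lib.Lead.SL23R

section cfg
variable {X : Type*} [Group X] {R : Subgroup X} {x y w : X}

/-- the first shape can be adjusted by `x` -/
theorem Cfg.case1 [R.Normal] (c : Cfg R x y w) {t : X} (htR : t ∉ R) (ht2 : t * t = 1)
    (h1 : t * x * t⁻¹ = x⁻¹) (h2 : t * y * t⁻¹ = x * y ∨ t * y * t⁻¹ = (x * y)⁻¹) :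
    ∃ t' : X, t' ∉ R ∧ t' * t' = 1 ∧ t' * x * t'⁻¹ = x⁻¹ ∧ t' * y * t'⁻¹ = (x * y)⁻¹ := by
  have htinv : t⁻¹ = t := inv_eq_of_mul_eq_one_left ht2
  rcases h2 with h2 | h2
  · refine ⟨x * t, ?_, ?_, ?_, ?_⟩
    · intro h
      apply htR
      have : t = x⁻¹ * (x * t) := by group
      rw [this]
      exact R.mul_mem (R.inv_mem c.hx) h
    · calc x * t * (x * t) = x * (t * x * t⁻¹) * (t * t) := by group
        _ = 1 := by rw [h1, ht2]; group
    · calc x * t * x * (x * t)⁻¹ = x * (t * x * t⁻¹) * x⁻¹ := by group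
        _ = x⁻¹ := by rw [h1]; group
    · calc x * t * y * (x * t)⁻¹ = x * (t * y * t⁻¹) * x⁻¹ := by group
        _ = (x * y)⁻¹ := by rw [h2]; exact c.id1
  · exact ⟨t, htR, ht2, h1, h2⟩

/-- an involution outside `R` can be replaced by one inverting `x` and mapping `y` to
`(x * y)⁻¹` -/
theorem Cfg.exists_inverting [R.Normal] (c : Cfg R x y w) {t : X} (htR : t ∉ R)
    (ht2 : t * t = 1) :
    ∃ t' : X, t' ∉ R ∧ t' * t' = 1 ∧ t' * x * t'⁻¹ = x⁻¹ ∧ t' * y * t'⁻¹ = (x * y)⁻¹ := by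
  have hwx' : w⁻¹ * y * w = x := by
    rw [← c.hwx]; group
  have hwxy' : w⁻¹ * x * w = x * y := by
    calc w⁻¹ * x * w = w⁻¹ * (w * (x * y) * w⁻¹) * w := by rw [c.hwxy]
      _ = x * y := by group
  have hwy' : w⁻¹ * (x * y) * w = y := by
    rw [← c.hwy]; group
  rcases c.tri htR ht2 with ⟨h1, h2⟩ | ⟨h1, h2⟩ | ⟨h1, h2⟩
  · exact c.case1 htR ht2 h1 h2
  · -- conjugate by `w⁻¹`
    have htR' : w⁻¹ * t * w ∉ R := by
      intro h
      apply htR
      have h3 := Subgroup.Normal.conj_mem (inferInstance : R.Normal) _ h w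
      have : w * (w⁻¹ * t * w) * w⁻¹ = t := by group
      rw [this] at h3
      exact h3
    have ht2' : w⁻¹ * t * w * (w⁻¹ * t * w) = 1 := by
      calc w⁻¹ * t * w * (w⁻¹ * t * w) = w⁻¹ * (t * t) * w := by group
        _ = 1 := by rw [ht2]; group
    apply c.case1 htR' ht2'
    · calc w⁻¹ * t * w * x * (w⁻¹ * t * w)⁻¹ = w⁻¹ * (t * (w * x * w⁻¹) * t⁻¹) * w := by group
        _ = w⁻¹ * y⁻¹ * w := by rw [c.hwx, h1]
        _ = (w⁻¹ * y * w)⁻¹ := by group
        _ = x⁻¹ := by rw [hwx']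
    · have h3 : w⁻¹ * t * w * y * (w⁻¹ * t * w)⁻¹ =
          w⁻¹ * ((t * x * t⁻¹) * (t * y * t⁻¹)) * w := by
        calc w⁻¹ * t * w * y * (w⁻¹ * t * w)⁻¹ = w⁻¹ * (t * (w * y * w⁻¹) * t⁻¹) * w := by group
          _ = w⁻¹ * (t * (x * y) * t⁻¹) * w := by rw [c.hwy]
          _ = w⁻¹ * ((t * x * t⁻¹) * (t * y * t⁻¹)) * w := by group
      rw [h3, h1]
      rcases h2 with h2 | h2
      · left
        rw [h2, c.id3, hwxy']
      · right
        rw [h2, c.id4]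
        calc w⁻¹ * x⁻¹ * w = (w⁻¹ * x * w)⁻¹ := by group
          _ = (x * y)⁻¹ := by rw [hwxy']
  · -- conjugate by `w`
    have htR' : w * t * w⁻¹ ∉ R := by
      intro h
      apply htR
      have h3 := Subgroup.Normal.conj_mem (inferInstance : R.Normal) _ h w⁻¹
      have : w⁻¹ * (w * t * w⁻¹) * w⁻¹⁻¹ = t := by group
      rw [this] at h3
      exact h3
    have ht2' : w * t * w⁻¹ * (w * t * w⁻¹) = 1 := by
      calc w * t * w⁻¹ * (w * t * w⁻¹) = w * (t * t) * w⁻¹ := by group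
        _ = 1 := by rw [ht2]; group
    apply c.case1 htR' ht2'
    · calc w * t * w⁻¹ * x * (w * t * w⁻¹)⁻¹ = w * (t * (w⁻¹ * x * w) * t⁻¹) * w⁻¹ := by group
        _ = w * (t * (x * y) * t⁻¹) * w⁻¹ := by rw [hwxy']
        _ = w * ((t * x * t⁻¹) * (t * y * t⁻¹)) * w⁻¹ := by group
        _ = w * (x * y)⁻¹ * w⁻¹ := by rw [h1]
        _ = (w * (x * y) * w⁻¹)⁻¹ := by group
        _ = x⁻¹ := by rw [c.hwxy]
    · have h3 : w * t * w⁻¹ * y * (w * t * w⁻¹)⁻¹ = w * (t * x * t⁻¹) * w⁻¹ := by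
        calc w * t * w⁻¹ * y * (w * t * w⁻¹)⁻¹ = w * (t * (w⁻¹ * y * w) * t⁻¹) * w⁻¹ := by group
          _ = w * (t * x * t⁻¹) * w⁻¹ := by rw [hwx']
      rw [h3]
      rcases h2 with h2 | h2
      · left
        rw [h2, c.hwy]
      · right
        rw [h2]
        calc w * y⁻¹ * w⁻¹ = (w * y * w⁻¹)⁻¹ := by group
          _ = (x * y)⁻¹ := by rw [c.hwy]

/-- such an involution inverts `w` -/
theorem Cfg.inverts_w (c : Cfg R x y w) {s : X} (hs2 : s * s = 1)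
    (hsx : s * x * s⁻¹ = x⁻¹) (hsy : s * y * s⁻¹ = (x * y)⁻¹) : s * w * s⁻¹ = w⁻¹ := by
  have hsinv : s⁻¹ = s := inv_eq_of_mul_eq_one_left hs2
  have hsxy : s * (x * y) * s⁻¹ = y⁻¹ := by
    calc s * (x * y) * s⁻¹ = (s * x * s⁻¹) * (s * y * s⁻¹) := by group
      _ = y⁻¹ := by rw [hsx, hsy, c.id5]
  obtain ⟨u, hu⟩ : ∃ u, u = s * w * s⁻¹ * w := ⟨_, rfl⟩
  have hcu : MulAut.conj u = MulAut.conj s * MulAut.conj w * MulAut.conj s * MulAut.conj w := by
    rw [hu, map_mul, map_mul, map_mul, hsinv]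
  have e1 : MulAut.conj w x = y := by rw [MulAut.conj_apply]; exact c.hwx
  have e2 : MulAut.conj w y = x * y := by rw [MulAut.conj_apply]; exact c.hwy
  have e3 : MulAut.conj w (x * y) = x := by rw [MulAut.conj_apply]; exact c.hwxy
  have e4 : MulAut.conj s x = x⁻¹ := by rw [MulAut.conj_apply]; exact hsx
  have e5 : MulAut.conj s y = (x * y)⁻¹ := by rw [MulAut.conj_apply]; exact hsy
  have e6 : MulAut.conj s (x * y) = y⁻¹ := by rw [MulAut.conj_apply]; exact hsxy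
  have hux' : MulAut.conj u x = x := by
    rw [hcu, MulAut.mul_apply, MulAut.mul_apply, MulAut.mul_apply, e1, e5, map_inv, e3, map_inv,
      e4, inv_inv]
  have huy' : MulAut.conj u y = y := by
    rw [hcu, MulAut.mul_apply, MulAut.mul_apply, MulAut.mul_apply, e2, e6, map_inv, e2, map_inv,
      e6, inv_inv]
  have hux : u * x = x * u := by
    rw [MulAut.conj_apply] at hux'
    calc u * x = u * x * u⁻¹ * u := by group
      _ = x * u := by rw [hux']
  have huy : u * y = y * u := by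
    rw [MulAut.conj_apply] at huy'
    calc u * y = u * y * u⁻¹ * u := by group
      _ = y * u := by rw [huy']
  rcases c.central hux huy with h | h
  · rw [hu] at h
    exact eq_inv_of_mul_eq_one_left h
  · exfalso
    apply c.x_sq_ne_one
    -- `s w s⁻¹ = x² w⁻¹`, and cubing gives `x² = 1`
    have h1 : s * w * s⁻¹ = x ^ 2 * w⁻¹ := by
      rw [← h, hu]; group
    have hcomm : Commute (x ^ 2) w⁻¹ := by
      have h2 : w * x ^ 2 * w⁻¹ = x ^ 2 := by
        calc w * x ^ 2 * w⁻¹ = (w * x * w⁻¹) ^ 2 := by rw [conj_pow]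
          _ = x ^ 2 := by rw [c.hwx, c.hy2]
      have h3 : Commute w (x ^ 2) := by
        show w * x ^ 2 = x ^ 2 * w
        calc w * x ^ 2 = w * x ^ 2 * w⁻¹ * w := by group
          _ = x ^ 2 * w := by rw [h2]
      exact h3.symm.inv_right
    have h4 : (s * w * s⁻¹) ^ 3 = 1 := by
      calc (s * w * s⁻¹) ^ 3 = s * w ^ 3 * s⁻¹ := by rw [conj_pow]
        _ = 1 := by rw [c.hw3]; group
    rw [h1, hcomm.mul_pow, inv_pow, c.hw3, inv_one, mul_one, ← pow_mul] at h4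
    have h5 : x ^ (2 * 3) = x ^ 4 * x ^ 2 := by rw [← pow_add]
    rw [h5, c.x_pow_four, one_mul] at h4
    exact h4

end cfg

end Cfsg.Agent.Lib.Helper7.GL23
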