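import Mathlib
import Cfsg.Agent.Lib.Helper7.GL23D

set_option autoImplicit false

/-!
# Towards `GL₂(3)`: extending a homomorphism from a subgroup of index two; matrices
-/

namespace Cfsg.Agent.Lib.Helper7.GL23

open Cfsg.Agent.Lib.Lead Cfsg.Agent.Lib.Lead.SL23R

/-- extension of a homomorphism from a subgroup of index two to the whole group, given the image
of an involution outside the subgroup -/
theorem extend_index_two {G H : Type*} [Group G] [Group H] (Y : Subgroup G) (hidx : Y.index = 2)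
    (t : G) (htY : t ∉ Y) (ht2 : t * t = 1) (f : ↥Y →* H) (T : H) (hT2 : T * T = 1)
    (hconj : ∀ (v : ↥Y) (hv : t * (v : G) * t⁻¹ ∈ Y), f ⟨t * v * t⁻¹, hv⟩ = T * f v * T⁻¹) :
    ∃ F : G →* H, (∀ v : ↥Y, F v = f v) ∧ F t = T := by
  classical
  have htinv : t⁻¹ = t := inv_eq_of_mul_eq_one_left ht2
  have hTinv : T⁻¹ = T := inv_eq_of_mul_eq_one_left hT2
  have hmul : ∀ a b : G, a * b ∈ Y ↔ (a ∈ Y ↔ b ∈ Y) :=
    fun a b => Subgroup.mul_mem_iff_of_index_two hidx
  have hmem : ∀ g : G, g ∉ Y → t * g ∈ Y := by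
    intro g hg
    rw [hmul]
    exact ⟨fun h => (htY h).elim, fun h => (hg h).elim⟩
  let f' : G → H := fun g => if h : g ∈ Y then f ⟨g, h⟩ else 1
  have hf'1 : ∀ (g : G) (h : g ∈ Y), f' g = f ⟨g, h⟩ := fun g h => dif_pos h
  have hf'mul : ∀ a b : G, a ∈ Y → b ∈ Y → f' (a * b) = f' a * f' b := by
    intro a b ha hb
    rw [hf'1 a ha, hf'1 b hb, hf'1 (a * b) (Y.mul_mem ha hb), ← map_mul]
    rfl
  have hf'conj : ∀ a : G, a ∈ Y → f' (t * a * t) = T * f' a * T := by
    intro a ha
    have h2 : t * a * t ∈ Y := by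
      rw [hmul, hmul]
      constructor
      · intro h; exact (htY (h.mpr ha)).elim
      · intro h; exact (htY h).elim
    have hv : t * a * t⁻¹ ∈ Y := by rw [htinv]; exact h2
    have h1 := hconj ⟨a, ha⟩ hv
    rw [hf'1 _ h2, hf'1 a ha]
    have h3 : (⟨t * a * t, h2⟩ : ↥Y) = ⟨t * a * t⁻¹, hv⟩ := by
      apply Subtype.ext
      show t * a * t = t * a * t⁻¹
      rw [htinv]
    rw [h3, h1, hTinv]
  let Ffun : G → H := fun g => if g ∈ Y then f' g else T * f' (t * g)
  have hF1 : ∀ g : G, g ∈ Y → Ffun g = f' g := fun g h => if_pos h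
  have hF2 : ∀ g : G, g ∉ Y → Ffun g = T * f' (t * g) := fun g h => if_neg h
  have hFmul : ∀ a b : G, Ffun (a * b) = Ffun a * Ffun b := by
    intro a b
    by_cases ha : a ∈ Y <;> by_cases hb : b ∈ Y
    · rw [hF1 a ha, hF1 b hb, hF1 _ (Y.mul_mem ha hb), hf'mul a b ha hb]
    · have hab : a * b ∉ Y := by
        rw [hmul]
        intro h
        exact hb (h.mp ha)
      rw [hF1 a ha, hF2 b hb, hF2 _ hab]
      have h1 : t * (a * b) = (t * a * t) * (t * b) := by
        calc t * (a * b) = t * a * (t * t) * b := by rw [ht2]; group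
          _ = (t * a * t) * (t * b) := by group
      have h2 : t * a * t ∈ Y := by
        rw [hmul, hmul]
        constructor
        · intro h; exact (htY (h.mpr ha)).elim
        · intro h; exact (htY h).elim
      rw [h1, hf'mul _ _ h2 (hmem b hb), hf'conj a ha]
      calc T * (T * f' a * T * f' (t * b)) = (T * T) * f' a * (T * f' (t * b)) := by group
        _ = f' a * (T * f' (t * b)) := by rw [hT2, one_mul]
    · have hab : a * b ∉ Y := by
        rw [hmul]
        intro h
        exact ha (h.mpr hb)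
      rw [hF2 a ha, hF1 b hb, hF2 _ hab]
      have h1 : t * (a * b) = (t * a) * b := by group
      rw [h1, hf'mul _ _ (hmem a ha) hb, mul_assoc]
    · have hab : a * b ∈ Y := by
        rw [hmul]
        exact ⟨fun h => (ha h).elim, fun h => (hb h).elim⟩
      rw [hF2 a ha, hF2 b hb, hF1 _ hab]
      have h1 : a * b = (t * (t * a) * t) * (t * b) := by
        calc a * b = (t * t) * a * (t * t) * b := by rw [ht2]; group
          _ = (t * (t * a) * t) * (t * b) := by group
      have h2 : t * (t * a) * t ∈ Y := by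
        rw [hmul, hmul]
        constructor
        · intro h; exact (htY (h.mpr (hmem a ha))).elim
        · intro h; exact (htY h).elim
      rw [h1, hf'mul _ _ h2 (hmem b hb), hf'conj _ (hmem a ha)]
      group
  refine ⟨MonoidHom.mk' Ffun hFmul, ?_, ?_⟩
  · intro v
    show Ffun v = f v
    rw [hF1 _ v.2, hf'1 _ v.2]
  · show Ffun t = T
    rw [hF2 t htY, ht2, hf'1 1 Y.one_mem]
    have : (⟨1, Y.one_mem⟩ : ↥Y) = 1 := rfl
    rw [this, map_one, mul_one]

/-- the group `GL₂(3)` -/
abbrev GL23 : Type := GL (Fin 2) (ZMod 3)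

/-- the inclusion of `SL₂(3)` -/
def toGL : SL23 →* GL23 := Matrix.SpecialLinearGroup.toGL

/-- the matrix `diag(1, -1)` -/
def mT : GL23 := ⟨!![1, 0; 0, 2], !![1, 0; 0, 2], by decide, by decide⟩

theorem mT_sq : mT * mT = 1 := by decide +kernel

theorem mT_conj_mi : mT * toGL mi * mT⁻¹ = toGL mi⁻¹ := by decide +kernel

theorem mT_conj_mj : mT * toGL mj * mT⁻¹ = toGL (mi * mj)⁻¹ := by decide +kernel

theorem mT_conj_mu : mT * toGL mu * mT⁻¹ = toGL mu⁻¹ := by decide +kernel

theorem mT_not_range : ∀ m : SL23, toGL m ≠ mT := by decide +kernel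

theorem toGL_injective : Function.Injective toGL := by
  intro a b h
  have := congrArg (fun g : GL23 => (g : Matrix (Fin 2) (Fin 2) (ZMod 3))) h
  exact Subtype.ext this

theorem sl23_involution : ∀ m : SL23, m * m = 1 → m = 1 ∨ m = mi ^ 2 := by decide +kernel

theorem card_SL23 : Nat.card SL23 = 24 := by
  rw [Nat.card_eq_fintype_card]
  decide +kernel

end Cfsg.Agent.Lib.Helper7.GL23
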