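import Mathlib
import Cfsg.Agent.Lib.Helper7.GL23E
import Cfsg.Agent.Lib.Helper1.InvPattern3

set_option autoImplicit false

/-!
# A group of order `48` with a self-centralizing normal `Q₈`, an element of order three acting
nontrivially on it and an involution outside it is `GL₂(3)`
-/

namespace Cfsg.Agent.Lib.Helper7.GL23

open Cfsg.Agent.Lib.Lead Cfsg.Agent.Lib.Lead.SL23R

section cfg
variable {X : Type*} [Group X] [Finite X] {R : Subgroup X} {x y w : X}

theorem Cfg.w_ne_one (c : Cfg R x y w) : w ≠ 1 := by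
  intro h
  apply c.hyx'
  have := c.hwx
  rw [h, one_mul, inv_one, mul_one] at this
  rw [← this]
  exact Subgroup.mem_zpowers x

theorem Cfg.orderOf_w (c : Cfg R x y w) : orderOf w = 3 := by
  haveI : Fact (Nat.Prime 3) := ⟨by norm_num⟩
  exact orderOf_eq_prime c.hw3 c.w_ne_one

theorem Cfg.iso_GL23 [R.Normal] (c : Cfg R x y w) (hX : Nat.card X = 48) {t : X} (htR : t ∉ R)
    (ht2 : t * t = 1) : Nonempty (X ≃* GL (Fin 2) (ZMod 3)) := by
  classical
  obtain ⟨s, hsR, hs2, hsx, hsy⟩ := c.exists_inverting htR ht2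
  have hsw := c.inverts_w hs2 hsx hsy
  have hsinv : s⁻¹ = s := inv_eq_of_mul_eq_one_left hs2
  have hdisj : R ⊓ Subgroup.zpowers w = ⊥ := by
    apply Subgroup.inf_eq_bot_of_coprime
    rw [c.hR8, Nat.card_zpowers, c.orderOf_w]
    norm_num
  have hwN : w ∈ Subgroup.normalizer (R : Set X) := by
    rw [Subgroup.normalizer_eq_top]
    exact Subgroup.mem_top w
  set Y : Subgroup X := R ⊔ Subgroup.zpowers w with hY
  obtain ⟨e, he⟩ := iso_of_relations_tracked R x y w c.hR8 c.hx c.hy c.hx4 c.hy2 c.hyx c.hyx' hwN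
    c.hwx c.hwy (by rw [c.orderOf_w]) hdisj c.hw3
  have hxY : x ∈ Y := (le_sup_left : R ≤ Y) c.hx
  have hyY : y ∈ Y := (le_sup_left : R ≤ Y) c.hy
  have hwY : w ∈ Y := (le_sup_right : Subgroup.zpowers w ≤ Y) (Subgroup.mem_zpowers w)
  have hex : e ⟨x, hxY⟩ = mi := (he ⟨x, hxY⟩).1 rfl
  have hey : e ⟨y, hyY⟩ = mj := (he ⟨y, hyY⟩).2.1 rfl
  have hew : e ⟨w, hwY⟩ = mu := (he ⟨w, hwY⟩).2.2 rfl
  have hcardY : Nat.card ↥Y = 24 := by
    rw [Nat.card_congr e.toEquiv, card_SL23]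
  have hidx : Y.index = 2 := by
    have := Y.card_mul_index
    rw [hcardY, hX] at this
    omega
  have hYn : Y.Normal := Subgroup.normal_of_index_eq_two hidx
  have hsY : s ∉ Y := by
    intro h
    apply hsR
    have h1 : e ⟨s, h⟩ * e ⟨s, h⟩ = 1 := by
      rw [← map_mul]
      have : (⟨s, h⟩ : ↥Y) * ⟨s, h⟩ = 1 := Subtype.ext hs2
      rw [this, map_one]
    rcases sl23_involution _ h1 with h2 | h2
    · have h3 : (⟨s, h⟩ : ↥Y) = 1 := e.injective (by rw [h2, map_one])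
      have h4 : s = 1 := congrArg Subtype.val h3
      rw [h4]
      exact R.one_mem
    · have h3 : (⟨s, h⟩ : ↥Y) = ⟨x, hxY⟩ ^ 2 := e.injective (by rw [h2, map_pow, hex])
      have h4 : s = x ^ 2 := congrArg Subtype.val h3
      rw [h4]
      exact R.pow_mem c.hx 2
  let f : ↥Y →* GL23 := toGL.comp e.toMonoidHom
  have hf : ∀ v : ↥Y, f v = toGL (e v) := fun v => rfl
  -- the compatibility of `f` with conjugation by `s`
  let γ : SL23 →* GL23 := f.comp ((MulAut.conjNormal s : MulAut ↥Y).toMonoidHom.comp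
    e.symm.toMonoidHom)
  have hγ : ∀ m : SL23, γ m = f ((MulAut.conjNormal s : MulAut ↥Y) (e.symm m)) := fun m => rfl
  let δ : SL23 →* GL23 := (MulAut.conj mT).toMonoidHom.comp toGL
  have hδ : ∀ m : SL23, δ m = mT * toGL m * mT⁻¹ := fun m => rfl
  have hsymx : e.symm mi = ⟨x, hxY⟩ := by rw [← hex, e.symm_apply_apply]
  have hsymy : e.symm mj = ⟨y, hyY⟩ := by rw [← hey, e.symm_apply_apply]
  have hsymw : e.symm mu = ⟨w, hwY⟩ := by rw [← hew, e.symm_apply_apply]
  have hγi : γ mi = δ mi := by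
    rw [hγ, hδ, hsymx, mT_conj_mi, hf]
    congr 1
    have : (MulAut.conjNormal s : MulAut ↥Y) ⟨x, hxY⟩ = (⟨x, hxY⟩ : ↥Y)⁻¹ := by
      apply Subtype.ext
      rw [MulAut.conjNormal_apply, Subgroup.coe_inv]
      exact hsx
    rw [this, map_inv, hex]
  have hγj : γ mj = δ mj := by
    rw [hγ, hδ, hsymy, mT_conj_mj, hf]
    congr 1
    have : (MulAut.conjNormal s : MulAut ↥Y) ⟨y, hyY⟩ = ((⟨x, hxY⟩ : ↥Y) * ⟨y, hyY⟩)⁻¹ := by
      apply Subtype.ext
      rw [MulAut.conjNormal_apply, Subgroup.coe_inv, Subgroup.coe_mul]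
      exact hsy
    rw [this, map_inv, map_mul, hex, hey]
  have hγu : γ mu = δ mu := by
    rw [hγ, hδ, hsymw, mT_conj_mu, hf]
    congr 1
    have : (MulAut.conjNormal s : MulAut ↥Y) ⟨w, hwY⟩ = (⟨w, hwY⟩ : ↥Y)⁻¹ := by
      apply Subtype.ext
      rw [MulAut.conjNormal_apply, Subgroup.coe_inv]
      exact hsw
    rw [this, map_inv, hew]
  have hγδ : ∀ m : SL23, γ m = δ m := by
    intro m
    obtain ⟨a, b, k, rfl⟩ := sl23_words m
    rw [map_mul, map_mul, map_pow, map_pow, map_pow, hγi, hγj, hγu, map_mul, map_mul, map_pow,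
      map_pow, map_pow]
  have hconj : ∀ (v : ↥Y) (hv : s * (v : X) * s⁻¹ ∈ Y), f ⟨s * v * s⁻¹, hv⟩ = mT * f v * mT⁻¹ := by
    intro v hv
    have h1 := hγδ (e v)
    rw [hγ, hδ, e.symm_apply_apply] at h1
    rw [hf v, ← h1]
    congr 1
  obtain ⟨F, hFY, hFs⟩ := extend_index_two Y hidx s hsY hs2 f mT mT_sq hconj
  have hFinj : Function.Injective F := by
    rw [injective_iff_map_eq_one]
    intro g hg
    by_cases hgY : g ∈ Y
    · have h1 := hFY ⟨g, hgY⟩
      rw [hg] at h1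
      have h2 : toGL (e ⟨g, hgY⟩) = toGL 1 := by rw [map_one, ← hf, ← h1]
      have h3 := toGL_injective h2
      have h4 : (⟨g, hgY⟩ : ↥Y) = 1 := e.injective (by rw [h3, map_one])
      exact congrArg Subtype.val h4
    · exfalso
      have hsg : s * g ∈ Y := by
        rw [Subgroup.mul_mem_iff_of_index_two hidx]
        exact ⟨fun h => (hsY h).elim, fun h => (hgY h).elim⟩
      have h1 : g = s * (s * g) := by
        calc g = (s * s) * g := by rw [hs2, one_mul]
          _ = s * (s * g) := by group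
      have h2 := hFY ⟨s * g, hsg⟩
      rw [h1, map_mul, hFs] at hg
      have h3 : F (s * g) = toGL (e ⟨s * g, hsg⟩) := h2
      rw [h3] at hg
      have h4 : toGL (e ⟨s * g, hsg⟩)⁻¹ = mT := by
        rw [map_inv]
        exact (eq_inv_of_mul_eq_one_left hg).symm
      exact mT_not_range _ h4
  have hFbij : Function.Bijective F := by
    rw [Nat.bijective_iff_injective_and_card]
    exact ⟨hFinj, by rw [hX, Cfsg.Agent.Lib.Helper1.InvPattern.card_GL23']⟩
  exact ⟨MulEquiv.ofBijective F hFbij⟩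

end cfg

end Cfsg.Agent.Lib.Helper7.GL23
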