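import Mathlib
import Cfsg.Agent.Lib.Helper7.GL23F
import Cfsg.Agent.Lib.Helper6.RankOneCyc
import Cfsg.Agent.Lib.Helper2.Zfc4

set_option autoImplicit false

/-!
# Structure of a group with a self-centralizing normal `Q₈` moved by an element of order three
-/

namespace Cfsg.Agent.Lib.Helper7.GL23

open Cfsg.Agent.Lib.Lead Cfsg.Agent.Lib.Lead.SL23R

section exist
variable {X : Type*} [Group X] [Finite X]

/-- a self-centralizing normal `2`-subgroup of `2`-rank one in a group which is not a `2`-group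
is a marked quaternion group -/
theorem exists_cfg (R : Subgroup X) [R.Normal] (hR2 : IsPGroup 2 ↥R)
    (hcent : Subgroup.centralizer (R : Set X) ≤ R) (hrank : Cfsg.PRankLE 2 1 ↥R)
    (hnot2 : ¬ IsPGroup 2 X) : ∃ x y w : X, Cfg R x y w := by
  classical
  haveI : Fact (Nat.Prime 2) := ⟨Nat.prime_two⟩
  -- an odd prime divisor of the order
  have hq : ∃ q : ℕ, q.Prime ∧ q ∣ Nat.card X ∧ q ≠ 2 := by
    by_contra hno
    push Not at hno
    apply hnot2
    have h1 : Nat.card X = 2 ^ (Nat.card X).primeFactorsList.length :=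
      Nat.eq_prime_pow_of_unique_prime_dvd Nat.card_pos.ne' (fun {d} hd hdd => hno d hd hdd)
    exact IsPGroup.of_card h1
  obtain ⟨q, hqp, hqd, hq2⟩ := hq
  haveI : Fact q.Prime := ⟨hqp⟩
  obtain ⟨g, hg⟩ := exists_prime_orderOf_dvd_card' q hqd
  have hodd : Odd (orderOf g) := by
    rw [hg]
    exact hqp.odd_of_ne_two hq2
  have hgc : g ∉ Subgroup.centralizer (R : Set X) := by
    intro h
    have hgR := hcent h
    obtain ⟨k, hk⟩ := IsPGroup.iff_orderOf.mp hR2 ⟨g, hgR⟩
    rw [Subgroup.orderOf_mk, hg] at hk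
    have h1 : q ∣ 2 ^ k := by rw [← hk]
    have h2 := (Nat.prime_dvd_prime_iff_eq hqp Nat.prime_two).mp (hqp.dvd_of_dvd_pow h1)
    exact hq2 h2
  have hgN : g ∈ Subgroup.normalizer (R : Set X) := by
    rw [Subgroup.normalizer_eq_top]
    exact Subgroup.mem_top g
  set cg : MulAut ↥R := MulAut.conjNormal g with hcg
  have hcg1 : cg ≠ 1 := by
    intro h
    apply hgc
    rw [Subgroup.mem_centralizer_iff]
    intro r hr
    have h1 : ((cg ⟨r, hr⟩ : ↥R) : X) = g * r * g⁻¹ := MulAut.conjNormal_apply g ⟨r, hr⟩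
    rw [h, MulAut.one_apply] at h1
    have h2 : r = g * r * g⁻¹ := h1
    calc r * g = (g * r * g⁻¹) * g := by rw [← h2]
      _ = g * r := by group
  have hcgq : cg ^ q = 1 := by
    rw [hcg, ← map_pow, ← hg, pow_orderOf_eq_one, map_one]
  have hU := Cfsg.Agent.Lib.Helper6.uniqueOrderP_of_pRankLE_one hR2 hrank
  obtain ⟨θ⟩ := Cfsg.Agent.Lib.Helper7.SL2N.q8_of_unique_involution hR2 hU cg hcg1 q
    (hqp.odd_of_ne_two hq2) hcgq
  obtain ⟨x, y, hR8, hx, hy, hx4, hy2, hyx, hyx', hgx, hgy, h3, -⟩ :=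
    Cfsg.Agent.Lib.Helper7.SL2N.q8_relations R θ g hgN hodd hgc
  have hq3 : q = 3 := by
    rw [hg] at h3
    exact ((Nat.prime_dvd_prime_iff_eq (by norm_num) hqp).mp h3).symm
  refine ⟨x, y, g, hR8, hx, hy, hx4, hy2, hyx, hyx', hgx, hgy, ?_, hcent⟩
  rw [← hq3, ← hg]
  exact pow_orderOf_eq_one g

end exist

section cfg
variable {X : Type*} [Group X] [Finite X] {R : Subgroup X} {x y w : X}

theorem Cfg.sq_cases (c : Cfg R x y w) {r : X} (hr : r ∈ R) (hr2 : r ^ 2 = 1) :
    r = 1 ∨ r = x ^ 2 := by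
  obtain ⟨e, hex, hey⟩ := c.exists_eD
  have h1 : (e.symm ⟨r, hr⟩) ^ 2 = 1 := by
    rw [← map_pow]
    have : (⟨r, hr⟩ : ↥R) ^ 2 = 1 := Subtype.ext hr2
    rw [this, map_one]
  rcases q8_sq_cases _ h1 with h | h
  · left
    have h4 : (⟨r, hr⟩ : ↥R) = e 1 := by rw [← h, e.apply_symm_apply]
    have := congrArg Subtype.val h4
    rw [map_one] at this
    exact this
  · right
    have h4 : (⟨r, hr⟩ : ↥R) = e (qi ^ 2) := by rw [← h, e.apply_symm_apply]
    have := congrArg Subtype.val h4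
    rw [map_pow, Subgroup.coe_pow, hex] at this
    exact this

theorem Cfg.x_sq_mem_center [R.Normal] (c : Cfg R x y w) : x ^ 2 ∈ Subgroup.center X := by
  rw [Subgroup.mem_center_iff]
  intro g
  have h1 : g * x ^ 2 * g⁻¹ ∈ R :=
    Subgroup.Normal.conj_mem inferInstance _ (R.pow_mem c.hx 2) g
  have h2 : (g * x ^ 2 * g⁻¹) ^ 2 = 1 := by
    rw [conj_pow, ← pow_mul, c.x_pow_four]
    group
  rcases c.sq_cases h1 h2 with h | h
  · exfalso
    apply c.x_sq_ne_one
    calc x ^ 2 = g⁻¹ * (g * x ^ 2 * g⁻¹) * g := by group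
      _ = 1 := by rw [h]; group
  · calc g * x ^ 2 = (g * x ^ 2 * g⁻¹) * g := by group
      _ = x ^ 2 * g := by rw [h]

theorem Cfg.center_eq [R.Normal] (c : Cfg R x y w) :
    Subgroup.center X = Subgroup.zpowers (x ^ 2) := by
  apply le_antisymm
  · intro g hg
    rw [Subgroup.mem_center_iff] at hg
    rcases c.central (hg x).symm (hg y).symm with h | h
    · rw [h]; exact Subgroup.one_mem _
    · rw [h]; exact Subgroup.mem_zpowers _
  · rw [Subgroup.zpowers_le]
    exact c.x_sq_mem_center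

theorem Cfg.card_center [R.Normal] (c : Cfg R x y w) : Nat.card ↥(Subgroup.center X) = 2 := by
  haveI : Fact (Nat.Prime 2) := ⟨Nat.prime_two⟩
  rw [c.center_eq, Nat.card_zpowers]
  apply orderOf_eq_prime
  · rw [← pow_mul]; exact c.x_pow_four
  · exact c.x_sq_ne_one

/-- the kernel of the conjugation action on `R` is the centre -/
theorem Cfg.ker_conj [R.Normal] (c : Cfg R x y w) :
    (MulAut.conjNormal : X →* MulAut ↥R).ker = Subgroup.center X := by
  apply le_antisymm
  · intro g hg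
    rw [MonoidHom.mem_ker] at hg
    have h1 : ∀ r (hr : r ∈ R), g * r * g⁻¹ = r := by
      intro r hr
      have h2 : (((MulAut.conjNormal g : MulAut ↥R) ⟨r, hr⟩ : ↥R) : X) = g * r * g⁻¹ :=
        MulAut.conjNormal_apply g ⟨r, hr⟩
      rw [hg, MulAut.one_apply] at h2
      exact h2.symm
    have hgx : g * x = x * g := by
      calc g * x = (g * x * g⁻¹) * g := by group
        _ = x * g := by rw [h1 x c.hx]
    have hgy : g * y = y * g := by
      calc g * y = (g * y * g⁻¹) * g := by group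
        _ = y * g := by rw [h1 y c.hy]
    rcases c.central hgx hgy with h | h
    · rw [h]; exact Subgroup.one_mem _
    · rw [h]; exact c.x_sq_mem_center
  · intro g hg
    rw [Subgroup.mem_center_iff] at hg
    rw [MonoidHom.mem_ker]
    apply MulEquiv.ext
    intro r
    apply Subtype.ext
    rw [MulAut.conjNormal_apply, MulAut.one_apply, ← hg r]
    group

theorem Cfg.card_mulAut (c : Cfg R x y w) : Nat.card (MulAut ↥R) = 24 := by
  obtain ⟨e, -, -⟩ := c.exists_eD
  rw [Nat.card_congr (MulAut.congr e.symm).toEquiv]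
  exact Cfsg.Agent.Lib.Helper2.Zfp.card_mulAut_q8

theorem Cfg.card_eq_two_mul [R.Normal] (c : Cfg R x y w) :
    Nat.card X = 2 * Nat.card ↥(MulAut.conjNormal : X →* MulAut ↥R).range := by
  have h1 := (MulAut.conjNormal : X →* MulAut ↥R).ker.card_mul_index
  rw [Subgroup.index_ker, c.ker_conj, c.card_center] at h1
  exact h1.symm

theorem Cfg.card_cases [R.Normal] (c : Cfg R x y w) : Nat.card X = 24 ∨ Nat.card X = 48 := by
  have h1 := c.card_eq_two_mul
  haveI : Finite (MulAut ↥R) := Nat.finite_of_card_ne_zero (by rw [c.card_mulAut]; norm_num)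
  have h2 : Nat.card ↥(MulAut.conjNormal : X →* MulAut ↥R).range ∣ 24 := by
    rw [← c.card_mulAut]
    exact Subgroup.card_subgroup_dvd_card _
  have h3 : 8 ∣ Nat.card X := by
    rw [← c.hR8]
    exact Subgroup.card_subgroup_dvd_card R
  have h4 : 3 ∣ Nat.card X := by
    rw [← c.orderOf_w]
    exact orderOf_dvd_natCard w
  obtain ⟨k, hk⟩ := h2
  have hk0 : k ≠ 0 := by
    rintro rfl
    omega
  have h5 : Nat.card X * k = 48 := by
    rw [h1, mul_assoc, ← hk]; norm_num
  have h6 : Nat.card X ∣ 48 := ⟨k, h5.symm⟩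
  have h7 : Nat.card X ≤ 48 := Nat.le_of_dvd (by norm_num) h6
  have h8 : 24 ∣ Nat.card X := by
    have : Nat.Coprime 8 3 := by norm_num
    exact this.mul_dvd_of_dvd_of_dvd h3 h4
  obtain ⟨j, hj⟩ := h8
  have hpos : 0 < Nat.card X := Nat.card_pos
  have : j = 1 ∨ j = 2 := by
    have : j ≤ 2 := by omega
    have : j ≠ 0 := by
      rintro rfl
      omega
    omega
  rcases this with rfl | rfl
  · left; omega
  · right; omega

theorem Cfg.quotient_center [R.Normal] (c : Cfg R x y w) (hX : Nat.card X = 48) :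
    Nonempty (X ⧸ Subgroup.center X ≃* Equiv.Perm (Fin 4)) := by
  have h1 := c.card_eq_two_mul
  haveI : Finite (MulAut ↥R) := Nat.finite_of_card_ne_zero (by rw [c.card_mulAut]; norm_num)
  have h2 : Nat.card ↥(MulAut.conjNormal : X →* MulAut ↥R).range = Nat.card (MulAut ↥R) := by
    rw [c.card_mulAut]
    omega
  have h3 : (MulAut.conjNormal : X →* MulAut ↥R).range = ⊤ :=
    Subgroup.eq_top_of_card_eq _ h2
  have hsurj : Function.Surjective (MulAut.conjNormal : X →* MulAut ↥R) :=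
    MonoidHom.range_eq_top.mp h3
  obtain ⟨e, -, -⟩ := c.exists_eD
  obtain ⟨Θ⟩ := Cfsg.Agent.Lib.Helper2.Zfp.mulAut_q8_equiv
  exact ⟨(QuotientGroup.quotientMulEquivOfEq c.ker_conj.symm).trans
    ((QuotientGroup.quotientKerEquivOfSurjective _ hsurj).trans
      ((MulAut.congr e.symm).trans Θ))⟩

end cfg

end Cfsg.Agent.Lib.Helper7.GL23
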