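import Mathlib
import Cfsg.Agent.Lib.Helper7.GL23G

set_option autoImplicit false

/-!
# The Sylow `2`-subgroups when every involution lies in the quaternion subgroup
-/

namespace Cfsg.Agent.Lib.Helper7.GL23

open Cfsg.Agent.Lib.Lead Cfsg.Agent.Lib.Lead.SL23R

section cfg
variable {X : Type*} [Group X] [Finite X] {R : Subgroup X} {x y w : X}

theorem Cfg.card_sylow (hX : Nat.card X = 48) (P : Sylow 2 X) :
    Nat.card ↥(P : Subgroup X) = 16 := by
  haveI : Fact (Nat.Prime 2) := ⟨Nat.prime_two⟩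
  obtain ⟨k, hk⟩ := IsPGroup.iff_card.mp P.isPGroup'
  have h1 := (P : Subgroup X).card_mul_index
  have h2 : ¬ 2 ∣ (P : Subgroup X).index := P.not_dvd_index
  rw [hX, hk] at h1
  have hk5 : k < 6 := by
    by_contra hc
    push Not at hc
    have h3 : 2 ^ 6 ≤ 2 ^ k := Nat.pow_le_pow_right (by norm_num) hc
    have h4 : 2 ^ k ∣ 48 := ⟨_, h1.symm⟩
    have h5 := Nat.le_of_dvd (by norm_num) h4
    omega
  rw [hk]
  interval_cases k <;> omega

theorem Cfg.sylow_quaternion [R.Normal] (c : Cfg R x y w) (hX : Nat.card X = 48)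
    (hR2 : IsPGroup 2 ↥R) (hno : ∀ t : X, t * t = 1 → t ∈ R) (P : Sylow 2 X) :
    Nonempty (↥(P : Subgroup X) ≃* QuaternionGroup 4) := by
  classical
  haveI : Fact (Nat.Prime 2) := ⟨Nat.prime_two⟩
  have hRP : R ≤ (P : Subgroup X) := hR2.le_sylow_of_normal P
  have hcardP := Cfg.card_sylow hX P
  have hzP : x ^ 2 ∈ (P : Subgroup X) := hRP (R.pow_mem c.hx 2)
  set z : ↥(P : Subgroup X) := ⟨x ^ 2, hzP⟩ with hz
  have hzo : orderOf z = 2 := by
    rw [Subgroup.orderOf_mk]
    apply orderOf_eq_prime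
    · rw [← pow_mul]; exact c.x_pow_four
    · exact c.x_sq_ne_one
  have key : ∀ H : Subgroup ↥(P : Subgroup X), Nat.card H = 2 → H = Subgroup.zpowers z := by
    intro H hH
    haveI : Fact (Nat.card ↥H).Prime := ⟨by rw [hH]; exact Nat.prime_two⟩
    haveI : IsCyclic ↥H := isCyclic_of_prime_card rfl
    obtain ⟨h, hgen⟩ := IsCyclic.exists_generator (α := ↥H)
    have ho : orderOf h = 2 := by
      rw [orderOf_eq_card_of_forall_mem_zpowers hgen, hH]
    have h1 : h ^ 2 = 1 := by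
      have := pow_orderOf_eq_one h
      rw [ho] at this
      exact this
    have h2 : (((h : ↥(P : Subgroup X)) : X)) * (((h : ↥(P : Subgroup X)) : X)) = 1 := by
      have := congrArg (fun a : ↥H => (((a : ↥(P : Subgroup X)) : X))) h1
      simpa [sq] using this
    have h3 : (((h : ↥(P : Subgroup X)) : X)) ≠ 1 := by
      intro h'
      have h4 : h = 1 := by
        apply Subtype.ext
        apply Subtype.ext
        exact h'
      rw [h4, orderOf_one] at ho
      omega
    have h5 := hno _ h2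
    have h6 : (((h : ↥(P : Subgroup X)) : X)) = x ^ 2 := by
      rcases c.sq_cases h5 (by rw [sq]; exact h2) with h' | h'
      · exact (h3 h').elim
      · exact h'
    have h7 : (h : ↥(P : Subgroup X)) = z := Subtype.ext h6
    have h8 : Subgroup.zpowers z ≤ H := by
      rw [Subgroup.zpowers_le, ← h7]
      exact h.2
    have h9 : Nat.card ↥H ≤ Nat.card ↥(Subgroup.zpowers z) := by
      rw [Nat.card_zpowers, hzo, hH]
    exact (Subgroup.eq_of_le_of_card_ge h8 h9).symm
  have hU : UniqueOrderP 2 ↥(P : Subgroup X) := by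
    intro H K hH hK
    rw [key H hH, key K hK]
  rcases UniqueOrderP.main P.isPGroup' hU with hcyc | ⟨-, n, ⟨θ⟩⟩
  · exfalso
    apply c.x_sq_ne_one
    haveI := hcyc
    have hcomm : (⟨x, hRP c.hx⟩ : ↥(P : Subgroup X)) * ⟨y, hRP c.hy⟩ =
        ⟨y, hRP c.hy⟩ * ⟨x, hRP c.hx⟩ := by
      obtain ⟨g, hg⟩ := IsCyclic.exists_generator (α := ↥(P : Subgroup X))
      obtain ⟨a, ha⟩ := Subgroup.mem_zpowers_iff.mp (hg ⟨x, hRP c.hx⟩)
      obtain ⟨b, hb⟩ := Subgroup.mem_zpowers_iff.mp (hg ⟨y, hRP c.hy⟩)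
      rw [← ha, ← hb, ← zpow_add, ← zpow_add, add_comm]
    have h1 : x * y = y * x := congrArg Subtype.val hcomm
    have h2 : x = x⁻¹ := by
      calc x = y * x * y⁻¹ := by rw [← h1]; group
        _ = x⁻¹ := c.hyx
    calc x ^ 2 = x * x := sq x
      _ = x * x⁻¹ := by rw [← h2]
      _ = 1 := mul_inv_cancel x
  · haveI : NeZero (2 ^ n) := ⟨by positivity⟩
    have h1 : Nat.card ↥(P : Subgroup X) = 4 * 2 ^ n := by
      rw [Nat.card_congr θ.toEquiv, Nat.card_eq_fintype_card, QuaternionGroup.card]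
    rw [hcardP] at h1
    have h2 : 2 ^ n = 2 ^ 2 := by omega
    have h3 : n = 2 := Nat.pow_right_injective (le_refl 2) h2
    subst h3
    have θ' : ↥(P : Subgroup X) ≃* QuaternionGroup 4 := by
      simpa using θ
    exact ⟨θ'⟩

end cfg

end Cfsg.Agent.Lib.Helper7.GL23
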