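import Mathlib

set_option autoImplicit false

namespace Cfsg.Agent.Lib.Helper7.GL3

open Matrix Module

variable {K : Type*} [Field K]

/-- eigenspace of a `3 × 3` matrix for the eigenvalue `s` -/
def eig (M : Matrix (Fin 3) (Fin 3) K) (s : K) : Submodule K (Fin 3 → K) where
  carrier := {v | M *ᵥ v = s • v}
  add_mem' := by
    intro a b ha hb
    simp only [Set.mem_ofPred_eq] at *
    rw [Matrix.mulVec_add, ha, hb, smul_add]
  zero_mem' := by simp
  smul_mem' := by
    intro c v hv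
    simp only [Set.mem_ofPred_eq] at *
    rw [Matrix.mulVec_smul, hv, smul_comm]

theorem mem_eig {M : Matrix (Fin 3) (Fin 3) K} {s : K} {v : Fin 3 → K} :
    v ∈ eig M s ↔ M *ᵥ v = s • v := Iff.rfl

/-- splitting an invariant subspace along an involution -/
theorem finrank_split (h2 : (2 : K) ≠ 0) {M : Matrix (Fin 3) (Fin 3) K} (hM : M * M = 1)
    (U : Submodule K (Fin 3 → K)) (hU : ∀ u ∈ U, M *ᵥ u ∈ U) :
    finrank K ↥(U ⊓ eig M 1) + finrank K ↥(U ⊓ eig M (-1)) = finrank K ↥U := by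
  have hinf : (U ⊓ eig M 1) ⊓ (U ⊓ eig M (-1)) = ⊥ := by
    rw [eq_bot_iff]
    intro v hv
    obtain ⟨⟨-, h1⟩, ⟨-, h2'⟩⟩ := hv
    rw [SetLike.mem_coe, mem_eig] at h1 h2'
    rw [Submodule.mem_bot]
    have h3 : (2 : K) • v = 0 := by
      have : (1 : K) • v = (-1 : K) • v := by rw [← h1, ← h2']
      rw [one_smul, neg_one_smul] at this
      rw [two_smul]
      nth_rewrite 1 [this]
      simp
    rcases smul_eq_zero.mp h3 with h | h
    · exact absurd h h2
    · exact h
  have hsup : (U ⊓ eig M 1) ⊔ (U ⊓ eig M (-1)) = U := by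
    apply le_antisymm
    · exact sup_le inf_le_left inf_le_left
    · intro u hu
      have hMM : M *ᵥ (M *ᵥ u) = u := by
        rw [Matrix.mulVec_mulVec, hM, Matrix.one_mulVec]
      have e1 : (2 : K)⁻¹ • (u + M *ᵥ u) ∈ U ⊓ eig M 1 := by
        refine ⟨U.smul_mem _ (U.add_mem hu (hU u hu)), ?_⟩
        rw [SetLike.mem_coe, mem_eig, Matrix.mulVec_smul, Matrix.mulVec_add, hMM, one_smul,
          add_comm]
      have e2 : (2 : K)⁻¹ • (u - M *ᵥ u) ∈ U ⊓ eig M (-1) := by
        refine ⟨U.smul_mem _ (U.sub_mem hu (hU u hu)), ?_⟩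
        rw [SetLike.mem_coe, mem_eig, Matrix.mulVec_smul, Matrix.mulVec_sub, hMM, neg_one_smul,
          ← smul_neg, neg_sub]
      have : u = (2 : K)⁻¹ • (u + M *ᵥ u) + (2 : K)⁻¹ • (u - M *ᵥ u) := by
        rw [← smul_add, add_add_sub_cancel, ← two_smul K u, smul_smul, inv_mul_cancel₀ h2,
          one_smul]
      rw [this]
      exact Submodule.add_mem_sup e1 e2
  have := Submodule.finrank_sup_add_finrank_inf_eq (U ⊓ eig M 1) (U ⊓ eig M (-1))
  rw [hinf, hsup, finrank_bot, add_zero] at this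
  exact this.symm


theorem eig_eq_top_of_finrank (M : Matrix (Fin 3) (Fin 3) K) (s : K)
    (h : finrank K ↥(eig M s) = 3) : M = s • (1 : Matrix (Fin 3) (Fin 3) K) := by
  have htop : eig M s = ⊤ := by
    apply Submodule.eq_top_of_finrank_eq
    rw [h, Module.finrank_fin_fun]
  apply Matrix.toLin'.injective
  apply LinearMap.ext
  intro v
  have hv : v ∈ eig M s := by rw [htop]; trivial
  rw [Matrix.toLin'_apply, mem_eig.mp hv, Matrix.toLin'_apply, Matrix.smul_mulVec,
    Matrix.one_mulVec]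

theorem eig_mulVec_mem {M N : Matrix (Fin 3) (Fin 3) K} (hc : N * M = M * N) (s : K)
    (v : Fin 3 → K) (hv : v ∈ eig M s) : N *ᵥ v ∈ eig M s := by
  rw [mem_eig] at hv ⊢
  rw [Matrix.mulVec_mulVec, ← hc, ← Matrix.mulVec_mulVec, hv, Matrix.mulVec_smul]

/-- the four joint eigenspaces of two commuting non-scalar involutions with non-scalar product
are at most one-dimensional, and the dimensions add up to three -/
theorem joint_dims (h2 : (2 : K) ≠ 0) {A B : Matrix (Fin 3) (Fin 3) K} (hA : A * A = 1)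
    (hB : B * B = 1) (hAB : A * B = B * A) (hA1 : A ≠ 1) (hA2 : A ≠ -1) (hB1 : B ≠ 1)
    (hB2 : B ≠ -1) (hC1 : A * B ≠ 1) (hC2 : A * B ≠ -1) :
    finrank K ↥(eig A 1 ⊓ eig B 1) ≤ 1 ∧ finrank K ↥(eig A 1 ⊓ eig B (-1)) ≤ 1 ∧
    finrank K ↥(eig A (-1) ⊓ eig B 1) ≤ 1 ∧ finrank K ↥(eig A (-1) ⊓ eig B (-1)) ≤ 1 ∧
    finrank K ↥(eig A 1 ⊓ eig B 1) + finrank K ↥(eig A 1 ⊓ eig B (-1)) +
      finrank K ↥(eig A (-1) ⊓ eig B 1) + finrank K ↥(eig A (-1) ⊓ eig B (-1)) = 3 := by
  have hC : (A * B) * (A * B) = 1 := by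
    calc (A * B) * (A * B) = A * (B * A) * B := by simp only [mul_assoc]
      _ = A * (A * B) * B := by rw [hAB]
      _ = (A * A) * (B * B) := by simp only [mul_assoc]
      _ = 1 := by rw [hA, hB, mul_one]
  have hCB : B * (A * B) = (A * B) * B := by rw [← mul_assoc, ← hAB]
  have htop : finrank K ↥(⊤ : Submodule K (Fin 3 → K)) = 3 := by
    rw [finrank_top, Module.finrank_fin_fun]
  -- A on the whole space
  have a0 := finrank_split h2 hA ⊤ (fun _ _ => trivial)
  have b0 := finrank_split h2 hB ⊤ (fun _ _ => trivial)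
  have c0 := finrank_split h2 hC ⊤ (fun _ _ => trivial)
  rw [top_inf_eq, top_inf_eq, htop] at a0 b0 c0
  -- B on the eigenspaces of A
  have a1 := finrank_split h2 hB (eig A 1) (eig_mulVec_mem hAB.symm 1)
  have a2 := finrank_split h2 hB (eig A (-1)) (eig_mulVec_mem hAB.symm (-1))
  -- A on the eigenspaces of B
  have b1 := finrank_split h2 hA (eig B 1) (eig_mulVec_mem hAB 1)
  have b2 := finrank_split h2 hA (eig B (-1)) (eig_mulVec_mem hAB (-1))
  -- B on the eigenspaces of AB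
  have c1 := finrank_split h2 hB (eig (A * B) 1) (eig_mulVec_mem hCB 1)
  have c2 := finrank_split h2 hB (eig (A * B) (-1)) (eig_mulVec_mem hCB (-1))
  -- identify the pieces
  have key : ∀ (s t : K), t * t = 1 → eig (A * B) s ⊓ eig B t = eig A (s * t) ⊓ eig B t := by
    intro s t ht
    ext v
    simp only [Submodule.mem_inf, mem_eig]
    constructor
    · rintro ⟨h1, h2'⟩
      refine ⟨?_, h2'⟩
      have : A *ᵥ (B *ᵥ v) = s • v := by rw [Matrix.mulVec_mulVec]; exact h1
      rw [h2', Matrix.mulVec_smul] at this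
      have h3 : t • (t • A *ᵥ v) = t • (s • v) := by rw [this]
      rw [smul_smul, ht, one_smul] at h3
      rw [h3, smul_smul, mul_comm]
    · rintro ⟨h1, h2'⟩
      refine ⟨?_, h2'⟩
      rw [← Matrix.mulVec_mulVec, h2', Matrix.mulVec_smul, h1, smul_smul, mul_comm t, mul_assoc,
        ht, mul_one]
  have k1 := key 1 1 (by ring)
  have k2 := key 1 (-1) (by ring)
  have k3 := key (-1) 1 (by ring)
  have k4 := key (-1) (-1) (by ring)
  simp only [mul_one, mul_neg, neg_neg, one_mul] at k1 k2 k3 k4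
  rw [k1, k2] at c1
  rw [k3, k4] at c2
  rw [inf_comm (eig B 1), inf_comm (eig B 1)] at b1
  rw [inf_comm (eig B (-1)), inf_comm (eig B (-1))] at b2
  -- non-scalar conditions
  have nz : ∀ (M : Matrix (Fin 3) (Fin 3) K), M ≠ 1 → M ≠ -1 →
      finrank K ↥(eig M 1) + finrank K ↥(eig M (-1)) = 3 →
      1 ≤ finrank K ↥(eig M 1) ∧ 1 ≤ finrank K ↥(eig M (-1)) := by
    intro M h1 h2' h3
    constructor
    · by_contra hc
      have : finrank K ↥(eig M (-1)) = 3 := by omega
      have := eig_eq_top_of_finrank M (-1) this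
      rw [neg_one_smul] at this
      exact h2' this
    · by_contra hc
      have : finrank K ↥(eig M 1) = 3 := by omega
      have := eig_eq_top_of_finrank M 1 this
      rw [one_smul] at this
      exact h1 this
  obtain ⟨na1, na2⟩ := nz A hA1 hA2 a0
  obtain ⟨nb1, nb2⟩ := nz B hB1 hB2 b0
  obtain ⟨nc1, nc2⟩ := nz (A * B) hC1 hC2 c0
  omega

end Cfsg.Agent.Lib.Helper7.GL3
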