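import Mathlib
import Cfsg.Agent.Lib.Helper7.GL3Lin

set_option autoImplicit false

namespace Cfsg.Agent.Lib.Helper7.GL3

open Matrix Module

variable {K : Type*} [Field K]

/-- sign attached to a boolean -/
def sg (b : Bool) : K := if b then 1 else -1

theorem sg_true : (sg true : K) = 1 := if_pos rfl

theorem sg_false : (sg false : K) = -1 := if_neg (by decide)

theorem sg_mul_self (b : Bool) : (sg b : K) * sg b = 1 := by
  cases b <;> simp [sg]

/-- the joint spectral projection of two commuting involutions -/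
noncomputable def prj (A B : Matrix (Fin 3) (Fin 3) K) (p q : Bool) : Matrix (Fin 3) (Fin 3) K :=
  (4 : K)⁻¹ • ((1 + (sg p : K) • A) * (1 + (sg q : K) • B))

theorem prj_sum (h2 : (2 : K) ≠ 0) (A B : Matrix (Fin 3) (Fin 3) K) :
    prj A B true true + prj A B true false + prj A B false true + prj A B false false = 1 := by
  have h4 : (4 : K) ≠ 0 := by
    have : (4 : K) = 2 * 2 := by norm_num
    rw [this]; exact mul_ne_zero h2 h2
  have key : (1 + A) * (1 + B) + (1 + A) * (1 - B) + (1 - A) * (1 + B) + (1 - A) * (1 - B)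
      = (4 : K) • (1 : Matrix (Fin 3) (Fin 3) K) := by
    have : (4 : K) • (1 : Matrix (Fin 3) (Fin 3) K) = 1 + 1 + 1 + 1 := by
      rw [show (4 : K) = 1 + 1 + 1 + 1 by norm_num, add_smul, add_smul, add_smul, one_smul]
    rw [this]
    noncomm_ring
  simp only [prj, sg_true, sg_false, one_smul, neg_smul]
  rw [← smul_add, ← smul_add, ← smul_add, ← sub_eq_add_neg, ← sub_eq_add_neg, key, smul_smul,
    inv_mul_cancel₀ h4, one_smul]

theorem mul_prj_left {A B : Matrix (Fin 3) (Fin 3) K} (hA : A * A = 1) (p q : Bool) :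
    A * prj A B p q = (sg p : K) • prj A B p q := by
  have : A * (1 + (sg p : K) • A) = (sg p : K) • (1 + (sg p : K) • A) := by
    rw [mul_add, mul_one, Matrix.mul_smul, hA, smul_add, smul_smul, sg_mul_self, one_smul,
      add_comm]
  rw [prj, Matrix.mul_smul, ← mul_assoc, this, Matrix.smul_mul, smul_comm]

theorem mul_prj_right {A B : Matrix (Fin 3) (Fin 3) K} (hB : B * B = 1) (hAB : A * B = B * A)
    (p q : Bool) : B * prj A B p q = (sg q : K) • prj A B p q := by
  have h1 : B * (1 + (sg p : K) • A) = (1 + (sg p : K) • A) * B := by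
    rw [mul_add, add_mul, mul_one, one_mul, Matrix.mul_smul, Matrix.smul_mul, hAB]
  have h2 : B * (1 + (sg q : K) • B) = (sg q : K) • (1 + (sg q : K) • B) := by
    rw [mul_add, mul_one, Matrix.mul_smul, hB, smul_add, smul_smul, sg_mul_self, one_smul,
      add_comm]
  rw [prj, Matrix.mul_smul, ← mul_assoc, h1, mul_assoc, h2, Matrix.mul_smul, smul_comm]

theorem prj_mulVec_mem {A B : Matrix (Fin 3) (Fin 3) K} (hA : A * A = 1) (hB : B * B = 1)
    (hAB : A * B = B * A) (p q : Bool) (v : Fin 3 → K) :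
    prj A B p q *ᵥ v ∈ eig A (sg p) ⊓ eig B (sg q) := by
  refine ⟨?_, ?_⟩
  · rw [SetLike.mem_coe, mem_eig, Matrix.mulVec_mulVec, mul_prj_left hA, Matrix.smul_mulVec]
  · rw [SetLike.mem_coe, mem_eig, Matrix.mulVec_mulVec, mul_prj_right hB hAB, Matrix.smul_mulVec]

theorem prj_eq_zero {A B : Matrix (Fin 3) (Fin 3) K} (hA : A * A = 1) (hB : B * B = 1)
    (hAB : A * B = B * A) (p q : Bool) (h : finrank K ↥(eig A (sg p) ⊓ eig B (sg q)) = 0) :
    prj A B p q = 0 := by
  have hbot : eig A (sg p) ⊓ eig B (sg q) = ⊥ := by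
    rwa [Submodule.finrank_eq_zero] at h
  apply Matrix.toLin'.injective
  apply LinearMap.ext
  intro v
  have := prj_mulVec_mem hA hB hAB p q v
  rw [hbot, Submodule.mem_bot] at this
  rw [Matrix.toLin'_apply, this, map_zero, LinearMap.zero_apply]

/-- a matrix commuting with `A` and `B` acts as a scalar on a joint eigenspace of dimension at most
one -/
theorem mul_prj_scalar {A B : Matrix (Fin 3) (Fin 3) K} (hA : A * A = 1) (hB : B * B = 1)
    (hAB : A * B = B * A) (p q : Bool) (h : finrank K ↥(eig A (sg p) ⊓ eig B (sg q)) ≤ 1)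
    (x : Matrix (Fin 3) (Fin 3) K) (hxA : x * A = A * x) (hxB : x * B = B * x) :
    ∃ s : K, x * prj A B p q = s • prj A B p q ∧
      (x * x = 1 → prj A B p q ≠ 0 → s * s = 1) := by
  obtain ⟨w₀, hw₀⟩ := finrank_le_one_iff.mp h
  have hxw : x *ᵥ (w₀ : Fin 3 → K) ∈ eig A (sg p) ⊓ eig B (sg q) :=
    ⟨eig_mulVec_mem hxA _ _ w₀.2.1, eig_mulVec_mem hxB _ _ w₀.2.2⟩
  obtain ⟨s, hs⟩ := hw₀ ⟨_, hxw⟩
  have hs' : s • (w₀ : Fin 3 → K) = x *ᵥ (w₀ : Fin 3 → K) := by
    have := congrArg Subtype.val hs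
    simpa using this
  refine ⟨s, ?_, ?_⟩
  · apply Matrix.toLin'.injective
    apply LinearMap.ext
    intro v
    obtain ⟨c, hc⟩ := hw₀ ⟨_, prj_mulVec_mem hA hB hAB p q v⟩
    have hc' : c • (w₀ : Fin 3 → K) = prj A B p q *ᵥ v := by
      have := congrArg Subtype.val hc
      simpa using this
    rw [Matrix.toLin'_apply, Matrix.toLin'_apply, ← Matrix.mulVec_mulVec, ← hc',
      Matrix.mulVec_smul, ← hs', Matrix.smul_mulVec, ← hc', smul_comm]
  · intro hxx hne
    have hw0 : (w₀ : Fin 3 → K) ≠ 0 := by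
      intro h0
      apply hne
      apply Matrix.toLin'.injective
      apply LinearMap.ext
      intro v
      obtain ⟨c, hc⟩ := hw₀ ⟨_, prj_mulVec_mem hA hB hAB p q v⟩
      have hc' : c • (w₀ : Fin 3 → K) = prj A B p q *ᵥ v := by
        have := congrArg Subtype.val hc
        simpa using this
      rw [Matrix.toLin'_apply, ← hc', h0, smul_zero, map_zero, LinearMap.zero_apply]
    have h1 : x *ᵥ (x *ᵥ (w₀ : Fin 3 → K)) = (w₀ : Fin 3 → K) := by
      rw [Matrix.mulVec_mulVec, hxx, Matrix.one_mulVec]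
    rw [← hs', Matrix.mulVec_smul, ← hs', smul_smul] at h1
    have h2 : (s * s - 1) • (w₀ : Fin 3 → K) = 0 := by
      rw [sub_smul, h1, one_smul, sub_self]
    rcases smul_eq_zero.mp h2 with h | h
    · exact sub_eq_zero.mp h
    · exact absurd h hw0

end Cfsg.Agent.Lib.Helper7.GL3
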