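import Mathlib
import Cfsg.Agent.Lib.Helper7.GL3Proj

set_option autoImplicit false

namespace Cfsg.Agent.Lib.Helper7.GL3

open Matrix Module

variable {K : Type*} [Field K]

theorem joint_le_one' (h2 : (2 : K) ≠ 0) {A B : Matrix (Fin 3) (Fin 3) K} (hA : A * A = 1)
    (hB : B * B = 1) (hAB : A * B = B * A) (hA1 : A ≠ 1) (hA2 : A ≠ -1) (hB1 : B ≠ 1)
    (hB2 : B ≠ -1) (hC1 : A * B ≠ 1) (hC2 : A * B ≠ -1) (p q : Bool) :
    finrank K ↥(eig A (sg p) ⊓ eig B (sg q)) ≤ 1 := by
  obtain ⟨h1, h2', h3, h4, -⟩ := joint_dims h2 hA hB hAB hA1 hA2 hB1 hB2 hC1 hC2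
  cases p <;> cases q
  exacts [h4, h3, h2', h1]

theorem joint_exists_zero (h2 : (2 : K) ≠ 0) {A B : Matrix (Fin 3) (Fin 3) K} (hA : A * A = 1)
    (hB : B * B = 1) (hAB : A * B = B * A) (hA1 : A ≠ 1) (hA2 : A ≠ -1) (hB1 : B ≠ 1)
    (hB2 : B ≠ -1) (hC1 : A * B ≠ 1) (hC2 : A * B ≠ -1) :
    ∃ p q : Bool, finrank K ↥(eig A (sg p) ⊓ eig B (sg q)) = 0 := by
  obtain ⟨h1, h2', h3, h4, h5⟩ := joint_dims h2 hA hB hAB hA1 hA2 hB1 hB2 hC1 hC2
  by_contra hc
  push Not at hc
  have e1 : finrank K ↥(eig A 1 ⊓ eig B 1) ≠ 0 := hc true true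
  have e2 : finrank K ↥(eig A 1 ⊓ eig B (-1)) ≠ 0 := hc true false
  have e3 : finrank K ↥(eig A (-1) ⊓ eig B 1) ≠ 0 := hc false true
  have e4 : finrank K ↥(eig A (-1) ⊓ eig B (-1)) ≠ 0 := hc false false
  omega

/-- expansion of a matrix along the four projections -/
theorem eq_sum_mul_prj (h2 : (2 : K) ≠ 0) (A B x : Matrix (Fin 3) (Fin 3) K) :
    x = x * prj A B true true + x * prj A B true false + x * prj A B false true
      + x * prj A B false false := by
  rw [← mul_add, ← mul_add, ← mul_add, prj_sum h2, mul_one]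

/-- **Lemma D**: matrices commuting with two commuting non-scalar involutions whose product is
non-scalar commute with each other -/
theorem commute_of_commute_invol (h2 : (2 : K) ≠ 0) {A B : Matrix (Fin 3) (Fin 3) K}
    (hA : A * A = 1) (hB : B * B = 1) (hAB : A * B = B * A) (hA1 : A ≠ 1) (hA2 : A ≠ -1)
    (hB1 : B ≠ 1) (hB2 : B ≠ -1) (hC1 : A * B ≠ 1) (hC2 : A * B ≠ -1)
    (x y : Matrix (Fin 3) (Fin 3) K) (hxA : x * A = A * x) (hxB : x * B = B * x)
    (hyA : y * A = A * y) (hyB : y * B = B * y) : x * y = y * x := by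
  have hterm : ∀ p q : Bool, (x * y) * prj A B p q = (y * x) * prj A B p q := by
    intro p q
    have hle := joint_le_one' h2 hA hB hAB hA1 hA2 hB1 hB2 hC1 hC2 p q
    obtain ⟨s, hs, -⟩ := mul_prj_scalar hA hB hAB p q hle x hxA hxB
    obtain ⟨t, ht, -⟩ := mul_prj_scalar hA hB hAB p q hle y hyA hyB
    rw [mul_assoc, ht, Matrix.mul_smul, hs, mul_assoc, hs, Matrix.mul_smul, ht, smul_comm]
  rw [eq_sum_mul_prj h2 A B (x * y), eq_sum_mul_prj h2 A B (y * x), hterm, hterm, hterm, hterm]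

/-- the sign pattern matrix -/
noncomputable def pat (A B : Matrix (Fin 3) (Fin 3) K) (σ : Bool × Bool → Bool) :
    Matrix (Fin 3) (Fin 3) K :=
  (sg (σ (true, true)) : K) • prj A B true true + (sg (σ (true, false)) : K) • prj A B true false
    + (sg (σ (false, true)) : K) • prj A B false true
    + (sg (σ (false, false)) : K) • prj A B false false

theorem card_filter_eight : ∀ k₀ : Bool × Bool,
    (Finset.univ.filter (fun σ : Bool × Bool → Bool => σ k₀ = true)).card = 8 := by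
  decide

/-- an involution commuting with `A` and `B` is a sign pattern, normalised at a vanishing
projection -/
theorem exists_pat (h2 : (2 : K) ≠ 0) {A B : Matrix (Fin 3) (Fin 3) K} (hA : A * A = 1)
    (hB : B * B = 1) (hAB : A * B = B * A) (hA1 : A ≠ 1) (hA2 : A ≠ -1) (hB1 : B ≠ 1)
    (hB2 : B ≠ -1) (hC1 : A * B ≠ 1) (hC2 : A * B ≠ -1) (p₀ q₀ : Bool)
    (h0 : prj A B p₀ q₀ = 0) (e : Matrix (Fin 3) (Fin 3) K) (he : e * e = 1)
    (heA : e * A = A * e) (heB : e * B = B * e) :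
    ∃ σ : Bool × Bool → Bool, σ (p₀, q₀) = true ∧ e = pat A B σ := by
  have hex : ∀ k : Bool × Bool, ∃ b : Bool, (k = (p₀, q₀) → b = true) ∧
      e * prj A B k.1 k.2 = (sg b : K) • prj A B k.1 k.2 := by
    intro k
    by_cases hk : k = (p₀, q₀)
    · refine ⟨true, fun _ => rfl, ?_⟩
      rw [hk, h0, mul_zero, smul_zero]
    · have hle := joint_le_one' h2 hA hB hAB hA1 hA2 hB1 hB2 hC1 hC2 k.1 k.2
      obtain ⟨s, hs, hs2⟩ := mul_prj_scalar hA hB hAB k.1 k.2 hle e heA heB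
      by_cases hz : prj A B k.1 k.2 = 0
      · refine ⟨true, fun h => absurd h hk, ?_⟩
        rw [hz, mul_zero, smul_zero]
      · rcases mul_self_eq_one_iff.mp (hs2 he hz) with h | h
        · refine ⟨true, fun h => absurd h hk, ?_⟩
          rw [hs, h, sg_true]
        · refine ⟨false, fun h => absurd h hk, ?_⟩
          rw [hs, h, sg_false]
  choose σ hσ1 hσ2 using hex
  refine ⟨σ, hσ1 _ rfl, ?_⟩
  have := eq_sum_mul_prj h2 A B e
  rw [hσ2 (true, true), hσ2 (true, false), hσ2 (false, true), hσ2 (false, false)] at this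
  exact this

/-- **(a)**: a set of eight pairwise commuting involutions of `3 × 3` matrices closed under
multiplication contains `-1` -/
theorem neg_one_mem (h2 : (2 : K) ≠ 0) (S : Finset (Matrix (Fin 3) (Fin 3) K))
    (hcard : S.card = 8) (hinv : ∀ e ∈ S, e * e = 1)
    (hcomm : ∀ e ∈ S, ∀ e' ∈ S, e * e' = e' * e) (hmul : ∀ e ∈ S, ∀ e' ∈ S, e * e' ∈ S) :
    (-1 : Matrix (Fin 3) (Fin 3) K) ∈ S := by
  classical
  by_contra hneg
  have hne : S.Nonempty := by
    rw [← Finset.card_pos, hcard]; norm_num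
  obtain ⟨e₀, he₀⟩ := hne
  have h1S : (1 : Matrix (Fin 3) (Fin 3) K) ∈ S := by
    have := hmul e₀ he₀ e₀ he₀
    rwa [hinv e₀ he₀] at this
  obtain ⟨a, haS, ha1⟩ := Finset.exists_mem_ne (by rw [hcard]; norm_num : 1 < S.card) 1
  have hcard' : 1 < (S.erase 1).card := by
    rw [Finset.card_erase_of_mem h1S, hcard]; norm_num
  obtain ⟨b, hbS', hba⟩ := Finset.exists_mem_ne hcard' a
  have hbS : b ∈ S := Finset.mem_of_mem_erase hbS'
  have hb1 : b ≠ 1 := Finset.ne_of_mem_erase hbS'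
  have hA := hinv a haS
  have hB := hinv b hbS
  have hAB := hcomm a haS b hbS
  have habS := hmul a haS b hbS
  have hA2 : a ≠ -1 := fun h => hneg (h ▸ haS)
  have hB2 : b ≠ -1 := fun h => hneg (h ▸ hbS)
  have hC2 : a * b ≠ -1 := fun h => hneg (h ▸ habS)
  have hC1 : a * b ≠ 1 := by
    intro h
    apply hba
    calc b = (a * a) * b := by rw [hA, one_mul]
      _ = a * (a * b) := by rw [mul_assoc]
      _ = a := by rw [h, mul_one]
  obtain ⟨p₀, q₀, h0⟩ := joint_exists_zero h2 hA hB hAB ha1 hA2 hb1 hB2 hC1 hC2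
  have hz := prj_eq_zero hA hB hAB p₀ q₀ h0
  let T : Finset (Matrix (Fin 3) (Fin 3) K) :=
    (Finset.univ.filter (fun σ : Bool × Bool → Bool => σ (p₀, q₀) = true)).image (pat a b)
  have hT : T.card ≤ 8 := by
    calc T.card ≤ (Finset.univ.filter (fun σ : Bool × Bool → Bool => σ (p₀, q₀) = true)).card :=
          Finset.card_image_le
      _ = 8 := card_filter_eight _
  have hsub : insert (-1 : Matrix (Fin 3) (Fin 3) K) S ⊆ T := by
    intro e he
    rw [Finset.mem_insert] at he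
    have hprop : e * e = 1 ∧ e * a = a * e ∧ e * b = b * e := by
      rcases he with he | he
      · subst he
        refine ⟨by simp, by simp, by simp⟩
      · exact ⟨hinv e he, hcomm e he a haS, hcomm e he b hbS⟩
    obtain ⟨σ, hσ, heσ⟩ := exists_pat h2 hA hB hAB ha1 hA2 hb1 hB2 hC1 hC2 p₀ q₀ hz e hprop.1
      hprop.2.1 hprop.2.2
    rw [Finset.mem_image]
    exact ⟨σ, by simp [hσ], heσ.symm⟩
  have h9 : (insert (-1 : Matrix (Fin 3) (Fin 3) K) S).card = 9 := by
    rw [Finset.card_insert_of_notMem hneg, hcard]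
  have := Finset.card_le_card hsub
  omega

end Cfsg.Agent.Lib.Helper7.GL3
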