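import Mathlib
import Cfsg.Prelude.Def_Transfer
import Cfsg.Agent.Lib.Helper7.GL3Cons
import Cfsg.Agent.Lib.Lead.Nilpotent

set_option autoImplicit false

namespace Cfsg.Agent.Lib.Helper7.GL3

open Matrix
open scoped commutatorElement

/-- odd order of a finite field means `2 ≠ 0` -/
theorem two_ne_zero_of_odd_card {F : Type*} [Field F] [Fintype F] (hF : Odd (Fintype.card F)) :
    (2 : F) ≠ 0 := by
  intro h
  have hchar : ringChar F = 2 := by
    apply CharP.ringChar_of_prime_eq_zero Nat.prime_two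
    exact_mod_cast h
  have := FiniteField.even_card_of_char_two hchar
  rcases hF with ⟨k, hk⟩
  omega

/-- a non-commutative finite `2`-group has a central involution inside its commutator subgroup -/
theorem exists_central_invol_commutator {S : Type*} [Group S] [Finite S] (hS : IsPGroup 2 S)
    (hnc : ¬ ∀ x y : S, x * y = y * x) :
    ∃ k : S, k ≠ 1 ∧ k * k = 1 ∧ (∀ s : S, s * k = k * s) ∧ k ∈ commutator S := by
  have : Group.IsNilpotent S := hS.isNilpotent
  have hne : commutator S ≠ ⊥ := by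
    intro h
    apply hnc
    intro x y
    have h1 : ⁅x, y⁆ ∈ commutator S := by
      rw [commutator_def]
      exact Subgroup.commutator_mem_commutator (Subgroup.mem_top x) (Subgroup.mem_top y)
    rw [h, Subgroup.mem_bot, commutatorElement_def] at h1
    have : x * y * x⁻¹ * y⁻¹ * (y * x) = 1 * (y * x) := by rw [h1]
    simpa [mul_assoc] using this
  have h2 := Cfsg.Agent.Lib.Lead.inf_center_ne_bot (commutator S) hne
  obtain ⟨⟨x, hxN⟩, hx1'⟩ := (Subgroup.ne_bot_iff_exists_ne_one).mp h2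
  have hx1 : x ≠ 1 := fun h => hx1' (Subtype.ext h)
  obtain ⟨e, he⟩ := (IsPGroup.iff_orderOf.mp hS) x
  have he1 : 1 ≤ e := by
    rcases Nat.eq_zero_or_pos e with h | h
    · exfalso; apply hx1
      rw [h, pow_zero, orderOf_eq_one_iff] at he; exact he
    · exact h
  obtain ⟨e', rfl⟩ : ∃ e', e = e' + 1 := ⟨e - 1, by omega⟩
  have hmem : x ^ 2 ^ e' ∈ commutator S ⊓ Subgroup.center S := Subgroup.pow_mem _ hxN _
  refine ⟨x ^ 2 ^ e', ?_, ?_, ?_, hmem.1⟩
  · intro h
    have h1 : orderOf x ∣ 2 ^ e' := orderOf_dvd_of_pow_eq_one h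
    rw [he] at h1
    have h2 := Nat.le_of_dvd (by positivity) h1
    have h3 : 2 ^ e' < 2 ^ (e' + 1) := Nat.pow_lt_pow_right (by norm_num) (by omega)
    omega
  · rw [← pow_two, ← pow_mul, ← pow_succ, ← he]; exact pow_orderOf_eq_one x
  · intro s
    exact Subgroup.mem_center_iff.mp hmem.2 s


/-- conjugation by an element of the normaliser preserves the commutator subgroup -/
theorem conj_mem_commutator_of_mem_normalizer {G : Type*} [Group G] (X : Subgroup G) (n : G)
    (hn : n ∈ Subgroup.normalizer (X : Set G)) (c : G) (hcX : c ∈ X)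
    (hc : (⟨c, hcX⟩ : ↥X) ∈ commutator ↥X) (h' : n * c * n⁻¹ ∈ X) :
    (⟨n * c * n⁻¹, h'⟩ : ↥X) ∈ commutator ↥X := by
  have hmap : (commutator ↥X).map X.subtype = ⁅X, X⁆ := by
    rw [commutator_def, Subgroup.map_commutator, ← MonoidHom.range_eq_map, Subgroup.range_subtype]
  have h1 : c ∈ ⁅X, X⁆ := by
    rw [← hmap]
    exact ⟨⟨c, hcX⟩, hc, rfl⟩
  have hXn : X.map (MulAut.conj n).toMonoidHom = X := by
    ext y
    constructor
    · rintro ⟨x, hx, rfl⟩
      exact (Subgroup.mem_normalizer_iff.mp hn x).mp hx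
    · intro hy
      refine ⟨n⁻¹ * y * n, ?_, ?_⟩
      · have := (Subgroup.mem_normalizer_iff.mp (Subgroup.inv_mem _ hn) y).mp hy
        simpa using this
      · simp [MulAut.conj_apply, mul_assoc]
  have h2 : n * c * n⁻¹ ∈ ⁅X, X⁆ := by
    have : (MulAut.conj n).toMonoidHom c ∈ (⁅X, X⁆).map (MulAut.conj n).toMonoidHom :=
      Subgroup.mem_map_of_mem _ h1
    rw [Subgroup.map_commutator, hXn] at this
    simpa [MulAut.conj_apply] using this
  rw [← hmap] at h2
  obtain ⟨y, hy, hy'⟩ := h2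
  have : y = ⟨n * c * n⁻¹, h'⟩ := Subtype.ext hy'
  rw [← this]
  exact hy

end Cfsg.Agent.Lib.Helper7.GL3
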