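import Mathlib
import Cfsg.Prelude.Def_Transfer
import Cfsg.Agent.Lib.Helper7.GL3Asm

set_option autoImplicit false

namespace Cfsg.Agent.Lib.Helper7.GL3

open Matrix

theorem neg_one_ne_one_mat {F : Type*} [Field F] (h2 : (2 : F) ≠ 0) :
    (-1 : Matrix (Fin 3) (Fin 3) F) ≠ 1 := by
  intro h
  have := congrFun (congrFun h 0) 0
  simp only [Matrix.neg_apply, Matrix.one_apply_eq] at this
  apply h2
  have h3 : (2 : F) = 1 - (-1) := by norm_num
  rw [h3, this, sub_self]

theorem det_neg_one_mat {F : Type*} [Field F] :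
    (-1 : Matrix (Fin 3) (Fin 3) F).det = -1 := by
  rw [Matrix.det_neg, Matrix.det_one, Fintype.card_fin]; norm_num

/-- the assembly of S1906, with the transfer lemma as a hypothesis -/
theorem gl3_main {G : Type*} [Group G] [Finite G] (hG : ∀ H : Subgroup G, H.index ≠ 2)
    (X : Sylow 2 G) {F : Type*} [Field F] [Fintype F] (hF : Odd (Fintype.card F))
    (f : ↥(X : Subgroup G) →* GL (Fin 3) F) (hf : Function.Injective f)
    (E : Subgroup G) (hE : E ≤ (X : Subgroup G)) (hEa : Cfsg.IsElementaryAbelian 2 E)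
    (hE8 : Nat.card E = 8)
    (hT : ∀ (χ : ↥(X : Subgroup G) →* Fˣ) (z : G) (_ : z ∈ (X : Subgroup G)), z * z = 1 →
      (∀ x ∈ (X : Subgroup G), x * z = z * x) →
      (∀ n : G, n ∈ Subgroup.normalizer ((X : Subgroup G) : Set G) →
        ∀ h : n⁻¹ * z * n ∈ (X : Subgroup G), χ ⟨n⁻¹ * z * n, h⟩ ≠ 1) →
      ∃ H : Subgroup G, H.index = 2) :
    IsMulCommutative (X : Subgroup G) := by
  classical
  have h2 := two_ne_zero_of_odd_card hF
  have h11 : (1 : F) ≠ -1 := by
    intro h
    apply h2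
    have h3 : (2 : F) = 1 - (-1) := by norm_num
    rw [h3, ← h, sub_self]
  let m : ↥(X : Subgroup G) → Matrix (Fin 3) (Fin 3) F :=
    fun x => ((f x : GL (Fin 3) F) : Matrix (Fin 3) (Fin 3) F)
  have hm_mul : ∀ x y : ↥(X : Subgroup G), m (x * y) = m x * m y := by
    intro x y
    show ((f (x * y) : GL (Fin 3) F) : Matrix (Fin 3) (Fin 3) F) = _
    rw [map_mul, Units.val_mul]
  have hm_one : m 1 = 1 := by
    show ((f 1 : GL (Fin 3) F) : Matrix (Fin 3) (Fin 3) F) = _
    rw [map_one, Units.val_one]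
  have hm_inj : Function.Injective m := fun x y h => hf (Units.ext h)
  -- the character
  let χ : ↥(X : Subgroup G) →* Fˣ := Matrix.GeneralLinearGroup.det.comp f
  have hχ : ∀ x : ↥(X : Subgroup G), ((χ x : Fˣ) : F) = (m x).det := by
    intro x
    show ((Matrix.GeneralLinearGroup.det (f x) : Fˣ) : F) = _
    rw [Matrix.GeneralLinearGroup.val_det_apply]
  have hdet_of_ker : ∀ x : ↥(X : Subgroup G), x ∈ commutator ↥(X : Subgroup G) →
      (m x).det = 1 := by
    intro x hx
    have := Abelianization.commutator_subset_ker χ hx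
    rw [MonoidHom.mem_ker] at this
    rw [← hχ, this, Units.val_one]
  -- step (a): `-1` is the image of an element of `E`
  let _ : Fintype ↥E := Fintype.ofFinite _
  let g : ↥E → Matrix (Fin 3) (Fin 3) F := fun e => m ⟨e.1, hE e.2⟩
  have hg_inj : Function.Injective g := by
    intro a b hab
    have := hm_inj hab
    have h3 : (a : G) = (b : G) := congrArg (fun t : ↥(X : Subgroup G) => (t : G)) this
    exact Subtype.ext h3
  let S : Finset (Matrix (Fin 3) (Fin 3) F) := Finset.univ.image g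
  have hScard : S.card = 8 := by
    rw [Finset.card_image_of_injective _ hg_inj, Finset.card_univ, ← Nat.card_eq_fintype_card,
      hE8]
  have hg_mul : ∀ a b : ↥E, g (a * b) = g a * g b := by
    intro a b
    rw [← hm_mul]
    rfl
  have hg_one : g 1 = 1 := hm_one
  have hEsq : ∀ a : ↥E, a * a = 1 := by
    intro a
    apply Subtype.ext
    have := hEa.2 a.1 a.2
    rw [pow_two] at this
    exact this
  have hEcomm : ∀ a b : ↥E, a * b = b * a := fun a b => hEa.1.is_comm.comm a b
  have hmem : (-1 : Matrix (Fin 3) (Fin 3) F) ∈ S := by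
    apply neg_one_mem h2 S hScard
    · intro e he
      obtain ⟨a, -, rfl⟩ := Finset.mem_image.mp he
      rw [← hg_mul, hEsq, hg_one]
    · intro e he e' he'
      obtain ⟨a, -, rfl⟩ := Finset.mem_image.mp he
      obtain ⟨b, -, rfl⟩ := Finset.mem_image.mp he'
      rw [← hg_mul, ← hg_mul, hEcomm]
    · intro e he e' he'
      obtain ⟨a, -, rfl⟩ := Finset.mem_image.mp he
      obtain ⟨b, -, rfl⟩ := Finset.mem_image.mp he'
      rw [← hg_mul]
      exact Finset.mem_image_of_mem _ (Finset.mem_univ _)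
  obtain ⟨e, -, he⟩ := Finset.mem_image.mp hmem
  -- the central involution `z`
  have hzX : (e : G) ∈ (X : Subgroup G) := hE e.2
  have hmz : m ⟨(e : G), hzX⟩ = -1 := he
  have hz2 : (e : G) * (e : G) = 1 := congrArg Subtype.val (hEsq e)
  have hzc : ∀ x ∈ (X : Subgroup G), x * (e : G) = (e : G) * x := by
    intro x hx
    have : (⟨x, hx⟩ : ↥(X : Subgroup G)) * ⟨(e : G), hzX⟩ = ⟨(e : G), hzX⟩ * ⟨x, hx⟩ := by
      apply hm_inj
      rw [hm_mul, hm_mul, hmz, mul_neg, neg_mul, mul_one, one_mul]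
    exact congrArg Subtype.val this
  have hz1 : (e : G) ≠ 1 := by
    intro h
    have : (⟨(e : G), hzX⟩ : ↥(X : Subgroup G)) = 1 := Subtype.ext h
    rw [this, hm_one] at hmz
    exact neg_one_ne_one_mat h2 hmz.symm
  -- suppose `X` is not commutative
  by_contra hnc
  have hnc' : ¬ ∀ x y : ↥(X : Subgroup G), x * y = y * x := fun h => hnc ⟨⟨h⟩⟩
  -- the transfer
  have hex : ∃ n : G, n ∈ Subgroup.normalizer ((X : Subgroup G) : Set G) ∧
      ∃ h : n⁻¹ * (e : G) * n ∈ (X : Subgroup G), χ ⟨n⁻¹ * (e : G) * n, h⟩ = 1 := by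
    by_contra hno
    push Not at hno
    obtain ⟨H, hH⟩ := hT χ (e : G) hzX hz2 hzc (fun n hn h => hno n hn h)
    exact hG H hH
  obtain ⟨n, hn, h, hχ1⟩ := hex
  set c : ↥(X : Subgroup G) := ⟨n⁻¹ * (e : G) * n, h⟩ with hc
  have hc_cent : ∀ x : ↥(X : Subgroup G), x * c = c * x := by
    intro x
    apply Subtype.ext
    have hmem' : n * (x : G) * n⁻¹ ∈ (X : Subgroup G) :=
      (Subgroup.mem_normalizer_iff.mp hn x).mp x.2
    have key := hzc _ hmem'
    show (x : G) * (n⁻¹ * (e : G) * n) = (n⁻¹ * (e : G) * n) * (x : G)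
    calc (x : G) * (n⁻¹ * (e : G) * n) = n⁻¹ * (n * (x : G) * n⁻¹ * (e : G)) * n := by group
      _ = n⁻¹ * ((e : G) * (n * (x : G) * n⁻¹)) * n := by rw [key]
      _ = (n⁻¹ * (e : G) * n) * (x : G) := by group
  have hc2 : c * c = 1 := by
    apply Subtype.ext
    show (n⁻¹ * (e : G) * n) * (n⁻¹ * (e : G) * n) = 1
    calc (n⁻¹ * (e : G) * n) * (n⁻¹ * (e : G) * n) = n⁻¹ * ((e : G) * (e : G)) * n := by group
      _ = 1 := by rw [hz2]; group
  have hc1 : c ≠ 1 := by
    intro h1
    apply hz1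
    have h3 : n⁻¹ * (e : G) * n = 1 := congrArg Subtype.val h1
    calc (e : G) = n * (n⁻¹ * (e : G) * n) * n⁻¹ := by group
      _ = 1 := by rw [h3]; group
  have hcdet : (m c).det = 1 := by
    rw [← hχ, hχ1, Units.val_one]
  -- the central involution in the commutator subgroup
  obtain ⟨k, hk1, hk2, hkc, hkcomm⟩ := exists_central_invol_commutator X.isPGroup' hnc'
  have hkdet : (m k).det = 1 := hdet_of_ker k hkcomm
  have hne_neg : ∀ x : ↥(X : Subgroup G), (m x).det = 1 → m x ≠ -1 := by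
    intro x hx hneg
    rw [hneg, det_neg_one_mat] at hx
    exact h11 hx.symm
  have hne_one : ∀ x : ↥(X : Subgroup G), x ≠ 1 → m x ≠ 1 := by
    intro x hx h1
    apply hx
    apply hm_inj
    rw [h1, hm_one]
  have hck : c = k := by
    by_contra hck
    apply hnc'
    intro x y
    apply hm_inj
    rw [hm_mul, hm_mul]
    have hcomm : ∀ (u v : ↥(X : Subgroup G)), (∀ w, w * v = v * w) → m u * m v = m v * m u := by
      intro u v hv
      rw [← hm_mul, ← hm_mul, hv]
    apply commute_of_commute_invol h2 (A := m c) (B := m k)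
    · rw [← hm_mul, hc2, hm_one]
    · rw [← hm_mul, hk2, hm_one]
    · exact hcomm c k hkc
    · exact hne_one c hc1
    · exact hne_neg c hcdet
    · exact hne_one k hk1
    · exact hne_neg k hkdet
    · rw [← hm_mul]
      apply hne_one
      intro h1
      apply hck
      calc c = c * (k * k) := by rw [hk2, mul_one]
        _ = (c * k) * k := by rw [mul_assoc]
        _ = k := by rw [h1, one_mul]
    · rw [← hm_mul]
      apply hne_neg
      rw [hm_mul, Matrix.det_mul, hcdet, hkdet, mul_one]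
    · exact hcomm x c hc_cent
    · exact hcomm x k hkc
    · exact hcomm y c hc_cent
    · exact hcomm y k hkc
  -- hence `z` lies in the commutator subgroup
  have hccomm : c ∈ commutator ↥(X : Subgroup G) := hck ▸ hkcomm
  have h' : n * (n⁻¹ * (e : G) * n) * n⁻¹ ∈ (X : Subgroup G) := by
    have : n * (n⁻¹ * (e : G) * n) * n⁻¹ = (e : G) := by group
    rw [this]; exact hzX
  have hzcomm := conj_mem_commutator_of_mem_normalizer (X : Subgroup G) n hn
    (n⁻¹ * (e : G) * n) h hccomm h'
  have hzeq : (⟨n * (n⁻¹ * (e : G) * n) * n⁻¹, h'⟩ : ↥(X : Subgroup G)) = ⟨(e : G), hzX⟩ := by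
    apply Subtype.ext
    show n * (n⁻¹ * (e : G) * n) * n⁻¹ = (e : G)
    group
  rw [hzeq] at hzcomm
  have := hdet_of_ker _ hzcomm
  rw [hmz, det_neg_one_mat] at this
  exact h11 this.symm

end Cfsg.Agent.Lib.Helper7.GL3
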