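import Mathlib
import Cfsg.Agent.Lib.Helper2.GR2MDefs
import Cfsg.Agent.Lib.Helper6.PPMB
import Cfsg.Agent.Lib.Helper4.HH12
import Cfsg.Agent.Lib.Lead.PPMF2

set_option autoImplicit false
set_option linter.unusedVariables false
set_option linter.unusedSectionVars false

/-! S3795 (Gross, `p = 2`), package AB: an `x`-invariant commutative subgroup of order prime to `ℓ`
commutes with `τ = x ^ (2 ^ n)` on an `ℓ`-torsion module on which `x` is fixed-point-free and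
`x ^ (2 ^ (n + 1))` is trivial.  Frame: image in `Aut M`, normaliser of the image of `B`, base change
to the algebraic closure, then `Helper6.PPMB.ab_comm_trivial_pp`. -/

namespace Cfsg.Agent.Lib.Helper7.GR2AB

open Module Cfsg.Agent.Lib.Helper4.FM Cfsg.Agent.Lib.Helper4.HH Cfsg.Agent.Lib.Helper4.PP
  Cfsg.Agent.Lib.Helper2.GR2M

open scoped commutatorElement TensorProduct

universe u

section gen

variable {G : Type*} [Group G]

/-- `x ^ (p ^ n)` lies in every non-trivial subgroup of `⟨x⟩` when `x ^ (p ^ (n + 1)) = 1`. -/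
theorem cyc_of_pow (x : G) (p n : ℕ) (hp : p.Prime) (hx : x ^ (p ^ (n + 1)) = 1) :
    ∀ e ∈ Subgroup.zpowers x, e ≠ 1 → x ^ (p ^ n) ∈ Subgroup.zpowers e := by
  intro e he he1
  have hfin : IsOfFinOrder x :=
    isOfFinOrder_iff_pow_eq_one.2 ⟨p ^ (n + 1), pow_pos hp.pos _, hx⟩
  rw [← hfin.mem_powers_iff_mem_zpowers, Submonoid.mem_powers_iff] at he
  obtain ⟨k, rfl⟩ := he
  have hk0 : k ≠ 0 := by
    rintro rfl
    exact he1 (pow_zero x)
  obtain ⟨a, m, hm, rfl⟩ := Nat.exists_eq_pow_mul_and_not_dvd hk0 p hp.ne_one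
  have han : a ≤ n := by
    by_contra h
    apply he1
    have h1 : n + 1 ≤ a := by omega
    obtain ⟨c, rfl⟩ := Nat.exists_eq_add_of_le h1
    rw [pow_add, mul_assoc, pow_mul, hx, one_pow]
  have hcop : Nat.Coprime m p := ((Nat.Prime.coprime_iff_not_dvd hp).2 hm).symm
  obtain ⟨m', hm'⟩ := Nat.exists_mul_mod_eq_one_of_coprime hcop hp.one_lt
  have hτp : (x ^ (p ^ n)) ^ p = 1 := by
    rw [← pow_mul, ← pow_succ]; exact hx
  have key : ((x ^ (p ^ a * m)) ^ (p ^ (n - a))) ^ m' = x ^ (p ^ n) := by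
    have e1 : (x ^ (p ^ a * m)) ^ (p ^ (n - a)) = (x ^ (p ^ n)) ^ m := by
      rw [← pow_mul, ← pow_mul]
      congr 1
      have : p ^ n = p ^ a * p ^ (n - a) := by rw [← pow_add]; congr 1; omega
      rw [this]; ring
    rw [e1, ← pow_mul]
    have e2 : m * m' = p * (m * m' / p) + 1 := by
      have := Nat.div_add_mod (m * m') p
      omega
    rw [e2, pow_add, pow_mul, hτp, one_pow, one_mul, pow_one]
  rw [← key]
  exact Subgroup.pow_mem _ (Subgroup.pow_mem _ (Subgroup.mem_zpowers _) _) _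

end gen

section rep

variable {k : Type*} [Field k] {G : Type*} [Group G] {V : Type*} [AddCommGroup V]
  [Module k V] [FiniteDimensional k V]

/-- the representation form of (AB): no finiteness of `G`, the commutative subgroup is normal. -/
theorem ab_rep (ρ : Representation k G V) (B : Subgroup G) [hBn : B.Normal] [Finite B]
    (hBk : (Nat.card B : k) ≠ 0) (hcomm : ∀ a b : B, Commute (ρ (a : G)) (ρ (b : G)))
    (x : G) (n : ℕ) (hx : x ^ (2 ^ (n + 1)) = 1) (h2k : ((2 : ℕ) : k) ≠ 0)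
    (H4 : ∀ v : V, ρ x v = v → v = 0) :
    ∀ b ∈ B, Commute (ρ (x ^ (2 ^ n))) (ρ b) := by
  have hfin : IsOfFinOrder x :=
    isOfFinOrder_iff_pow_eq_one.2 ⟨2 ^ (n + 1), pow_pos (by norm_num) _, hx⟩
  have hZfin : Finite (Subgroup.zpowers x) := by
    apply Nat.finite_of_card_ne_zero
    rw [Nat.card_zpowers]
    exact (orderOf_pos_iff.2 hfin).ne'
  have hXk : (Nat.card (Subgroup.zpowers x) : k) ≠ 0 := by
    rw [Nat.card_zpowers]
    obtain ⟨j, _, hj⟩ := (Nat.dvd_prime_pow Nat.prime_two).1 (orderOf_dvd_of_pow_eq_one hx)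
    rw [hj, Nat.cast_pow]
    exact pow_ne_zero _ h2k
  have H4inv : inv ρ (Subgroup.zpowers x) = ⊥ := by
    rw [Submodule.eq_bot_iff]
    intro w hw
    exact H4 w (hw x (Subgroup.mem_zpowers x))
  have H4σ : inv (bc (AlgebraicClosure k) ρ) (Subgroup.zpowers x) = ⊥ := by
    rw [inv_bc (AlgebraicClosure k) ρ _ hXk, H4inv, Submodule.baseChange_bot]
  have H4' : ∀ w : AlgebraicClosure k ⊗[k] V, bc (AlgebraicClosure k) ρ x w = w → w = 0 := by
    intro w hw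
    have hmem : w ∈ inv (bc (AlgebraicClosure k) ρ) (Subgroup.zpowers x) := by
      intro s hs
      rw [← hfin.mem_powers_iff_mem_zpowers, Submonoid.mem_powers_iff] at hs
      obtain ⟨j, rfl⟩ := hs
      induction j with
      | zero => rw [pow_zero, map_one, Module.End.one_apply]
      | succ j ih => rw [pow_succ, map_mul, Module.End.mul_apply, hw, ih]
    rw [H4σ] at hmem
    exact (Submodule.mem_bot _).1 hmem
  have hcommσ : ∀ a b : B, Commute (bc (AlgebraicClosure k) ρ (a : G))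
      (bc (AlgebraicClosure k) ρ (b : G)) := by
    intro a b
    show bc (AlgebraicClosure k) ρ (a : G) * bc (AlgebraicClosure k) ρ (b : G) =
      bc (AlgebraicClosure k) ρ (b : G) * bc (AlgebraicClosure k) ρ (a : G)
    rw [← map_mul, ← map_mul, bc_apply, bc_apply, map_mul, map_mul, (hcomm a b).eq]
  have hmain := Cfsg.Agent.Lib.Helper6.PPMB.ab_comm_trivial_pp (bc (AlgebraicClosure k) ρ) B
    (cast_card_ne_zero_bc (AlgebraicClosure k) _ hBk) hcommσ x (x ^ (2 ^ n)) hfin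
    (cyc_of_pow x 2 n Nat.prime_two hx) H4'
  intro b hb
  have h1 := hmain b hb
  have h2 : ρ (b⁻¹ * (x ^ (2 ^ n))⁻¹ * b * x ^ (2 ^ n)) = 1 := by
    have h3 : (ρ (b⁻¹ * (x ^ (2 ^ n))⁻¹ * b * x ^ (2 ^ n))).baseChange (AlgebraicClosure k) =
        (1 : V →ₗ[k] V).baseChange (AlgebraicClosure k) :=
      h1.trans (LinearMap.baseChange_one k V).symm
    exact LinearMap.baseChangeHom_injective k V (AlgebraicClosure k) h3
  show ρ (x ^ (2 ^ n)) * ρ b = ρ b * ρ (x ^ (2 ^ n))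
  have h4 : ρ (x ^ (2 ^ n) * b) * ρ (b⁻¹ * (x ^ (2 ^ n))⁻¹ * b * x ^ (2 ^ n)) =
      ρ (b * x ^ (2 ^ n)) := by
    rw [← map_mul]
    congr 1
    group
  rw [h2, mul_one] at h4
  rw [← map_mul, ← map_mul, h4]

end rep

theorem ab_mod_aux {A : Type u} [Group A] [Finite A] {M : Type u} [AddCommGroup M] [Finite M]
    [DistribMulAction A M] (ℓ : ℕ) [hℓ : Fact ℓ.Prime] [Module (ZMod ℓ) M] (n : ℕ) (hℓ2 : ℓ ≠ 2)
    (x : A) (hxp : ∃ N : ℕ, x ^ (2 ^ N) = 1) (hx : ∀ m : M, x ^ (2 ^ (n + 1)) • m = m)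
    (H4 : ∀ m : M, x • m = m → m = 0)
    (B : Subgroup A) (hBc : ∀ b ∈ B, ∀ b' ∈ B, b * b' = b' * b) (hBℓ : (Nat.card B).Coprime ℓ)
    (hxB : ∀ b ∈ B, x * b * x⁻¹ ∈ B) :
    ∀ b ∈ B, ∀ m : M, x ^ (2 ^ n) • b • m = b • x ^ (2 ^ n) • m := by
  obtain ⟨N, hN⟩ := hxp
  set ρ : Representation (ZMod ℓ) A M := Cfsg.Agent.Lib.Lead.PPMF2.addRepA (A := A) (M := M) ℓ
    with hρ
  have hρa : ∀ (a : A) (m : M), ρ a m = a • m := fun a m => rfl
  let f : A →* (M →ₗ[ZMod ℓ] M)ˣ := ρ.asGroupHom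
  have hf : ∀ a : A, ((f a : (M →ₗ[ZMod ℓ] M)ˣ) : M →ₗ[ZMod ℓ] M) = ρ a :=
    fun a => ρ.asGroupHom_apply a
  set Bb : Subgroup (M →ₗ[ZMod ℓ] M)ˣ := B.map f with hBb
  have hBbfin : Finite Bb := Finite.of_surjective (f.subgroupMap B) (f.subgroupMap_surjective B)
  have hxinv : ∀ b ∈ B, x⁻¹ * b * x ∈ B :=
    conj_inv_mem B x (2 ^ N) (pow_pos (by norm_num) _) hN hxB
  have hxN : f x ∈ Subgroup.normalizer (Bb : Set (M →ₗ[ZMod ℓ] M)ˣ) := by
    rw [Subgroup.mem_normalizer_iff]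
    intro h
    constructor
    · rintro ⟨b, hb, rfl⟩
      exact ⟨x * b * x⁻¹, hxB b hb, by rw [map_mul, map_mul, map_inv]⟩
    · rintro ⟨b, hb, hbe⟩
      refine ⟨x⁻¹ * b * x, hxinv b hb, ?_⟩
      rw [map_mul, map_mul, map_inv, hbe]
      group
  set Nn : Subgroup (M →ₗ[ZMod ℓ] M)ˣ :=
    Subgroup.normalizer (Bb : Set (M →ₗ[ZMod ℓ] M)ˣ) with hNn
  have hBN : Bb ≤ Nn := Subgroup.le_normalizer
  set B' : Subgroup Nn := Bb.subgroupOf Nn with hB'
  have hB'n : B'.Normal := Subgroup.normal_in_normalizer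
  have hB'fin : Finite B' :=
    Finite.of_equiv _ (Subgroup.subgroupOfEquivOfLe hBN).symm.toEquiv
  let ρ' : Representation (ZMod ℓ) Nn M :=
    (Units.coeHom (M →ₗ[ZMod ℓ] M)).comp Nn.subtype
  have hρ' : ∀ g : Nn, ρ' g = ((g : (M →ₗ[ZMod ℓ] M)ˣ) : M →ₗ[ZMod ℓ] M) := fun g => rfl
  have hcard : Nat.card B' ∣ Nat.card B := by
    rw [Nat.card_congr (Subgroup.subgroupOfEquivOfLe hBN).toEquiv]
    exact Subgroup.card_map_dvd B f
  have hB'k : (Nat.card B' : ZMod ℓ) ≠ 0 := by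
    apply cast_ne_zero_of_not_dvd
    intro hd
    have h1 : ℓ ∣ Nat.card B := dvd_trans hd hcard
    have h2 : ℓ ∣ Nat.gcd (Nat.card B) ℓ := Nat.dvd_gcd h1 dvd_rfl
    rw [hBℓ] at h2
    exact hℓ.out.one_lt.ne' (Nat.dvd_one.1 h2)
  have hcomm : ∀ a b : B', Commute (ρ' (a : Nn)) (ρ' (b : Nn)) := by
    intro a b
    obtain ⟨a₁, ha₁, hae⟩ := Subgroup.mem_subgroupOf.1 a.2
    obtain ⟨b₁, hb₁, hbe⟩ := Subgroup.mem_subgroupOf.1 b.2
    rw [hρ', hρ', ← hae, ← hbe, hf, hf]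
    show ρ a₁ * ρ b₁ = ρ b₁ * ρ a₁
    rw [← map_mul, ← map_mul, hBc a₁ ha₁ b₁ hb₁]
  have h2k : ((2 : ℕ) : ZMod ℓ) ≠ 0 := by
    apply cast_ne_zero_of_not_dvd
    intro hd
    exact hℓ2 ((Nat.prime_dvd_prime_iff_eq hℓ.out Nat.prime_two).1 hd)
  have hx' : (⟨f x, hxN⟩ : Nn) ^ (2 ^ (n + 1)) = 1 := by
    apply Subtype.ext
    apply Units.ext
    rw [Subgroup.coe_pow, Subgroup.coe_one, ← map_pow, hf, Units.val_one]
    apply LinearMap.ext
    intro m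
    rw [hρa]
    exact hx m
  have hmain := ab_rep ρ' B' hB'k hcomm ⟨f x, hxN⟩ n hx' h2k
    (by
      intro v hv
      rw [hρ'] at hv
      exact H4 v hv)
  intro b hb m
  have hbN : f b ∈ Nn := hBN ⟨b, hb, rfl⟩
  have h1 := hmain ⟨f b, hbN⟩ (Subgroup.mem_subgroupOf.2 ⟨b, hb, rfl⟩)
  have h2 := LinearMap.congr_fun h1.eq m
  rw [Module.End.mul_apply, Module.End.mul_apply, hρ', hρ'] at h2
  rw [Subgroup.coe_pow] at h2
  change ((f x ^ (2 ^ n) : (M →ₗ[ZMod ℓ] M)ˣ) : M →ₗ[ZMod ℓ] M)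
      (((f b : (M →ₗ[ZMod ℓ] M)ˣ) : M →ₗ[ZMod ℓ] M) m) =
    ((f b : (M →ₗ[ZMod ℓ] M)ˣ) : M →ₗ[ZMod ℓ] M)
      (((f x ^ (2 ^ n) : (M →ₗ[ZMod ℓ] M)ˣ) : M →ₗ[ZMod ℓ] M) m) at h2
  rw [← map_pow, hf, hf, hρa, hρa, hρa, hρa] at h2
  exact h2

theorem ab_mod : ABStatement.{u} := by
  intro A _ _ M _ _ _ ℓ n hℓ hℓ2 htor x hxp hx H4 B hBc hBℓ hxB
  have : Fact ℓ.Prime := ⟨hℓ⟩
  let iM : Module (ZMod ℓ) M := AddCommGroup.zmodModule htor
  exact ab_mod_aux ℓ n hℓ2 x hxp hx H4 B hBc hBℓ hxB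

end Cfsg.Agent.Lib.Helper7.GR2AB
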