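import Mathlib
import Cfsg.Agent.Lib.Helper5.GUC0
import Cfsg.Agent.Lib.Helper5.Wall3
import Cfsg.Agent.S2588

set_option autoImplicit false

/-!
Package D of S2646: the isometry group of an invertible Hermitian or skew-Hermitian matrix over
`F_{q^2}` has the order of `GU`.
-/

namespace Cfsg.Agent.Lib.Helper7.GUIsometry

open Matrix Cfsg.Agent.S0278 Cfsg.Agent.Lib.Helper5.GUC Cfsg.Agent.Lib.Helper5.Wall

variable {K : Type*} [Field K] [Fintype K] {q : ℕ}

/-- matrices with `ct W * W = 1` correspond to `GU`. -/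
noncomputable def unitaryEquivGU (hK : Fintype.card K = q ^ 2) (n : ℕ) :
    {W : Matrix (Fin n) (Fin n) K // ct hK W * W = 1} ≃ ↥(Cfsg.GU n K q) where
  toFun W := ⟨⟨W.1, ct hK W.1, mul_eq_one_comm.1 W.2, W.2⟩, by
    rw [mem_GU_iff hK]; exact W.2⟩
  invFun g := ⟨((g : GL (Fin n) K) : Matrix (Fin n) (Fin n) K), (mem_GU_iff hK _).1 g.2⟩
  left_inv W := rfl
  right_inv g := by
    apply Subtype.ext
    apply Units.ext
    rfl

theorem card_unitary (hK : Fintype.card K = q ^ 2) (n : ℕ) :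
    Nat.card {W : Matrix (Fin n) (Fin n) K // ct hK W * W = 1} = Nat.card (Cfsg.GU n K q) :=
  Nat.card_congr (unitaryEquivGU hK n)

/-- Hermitian case over `Fin n`. -/
theorem card_isometry_fin_herm (hK : Fintype.card K = q ^ 2) {n : ℕ}
    (B : Matrix (Fin n) (Fin n) K) (hB : IsUnit B) (hH : ct hK B = B) :
    Nat.card {Z : Matrix (Fin n) (Fin n) K // ct hK Z * B * Z = B} =
      Nat.card (Cfsg.GU n K q) := by
  classical
  obtain ⟨X, hXu, hXB⟩ := Cfsg.Agent.S2588.exists_ct_mul_self hK B hH hB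
  obtain ⟨Xu, rfl⟩ := hXu
  set Xm : Matrix (Fin n) (Fin n) K := (Xu : Matrix (Fin n) (Fin n) K) with hXm
  set X' : Matrix (Fin n) (Fin n) K := ((Xu⁻¹ : (Matrix (Fin n) (Fin n) K)ˣ) :
    Matrix (Fin n) (Fin n) K) with hX'
  have hXX' : Xm * X' = 1 := Units.mul_inv Xu
  have hX'X : X' * Xm = 1 := Units.inv_mul Xu
  have hcX : ct hK X' * ct hK Xm = 1 := by rw [← ct_mul, hXX', ct_one]
  have hcX' : ct hK Xm * ct hK X' = 1 := by rw [← ct_mul, hX'X, ct_one]
  rw [← card_unitary hK n]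
  refine Nat.card_congr ?_
  refine
    { toFun := fun Z => ⟨Xm * Z.1 * X', ?_⟩
      invFun := fun W => ⟨X' * W.1 * Xm, ?_⟩
      left_inv := ?_
      right_inv := ?_ }
  · have hZ := Z.2
    rw [ct_mul, ct_mul]
    calc ct hK X' * (ct hK Z.1 * ct hK Xm) * (Xm * Z.1 * X')
        = ct hK X' * (ct hK Z.1 * (ct hK Xm * Xm) * Z.1) * X' := by simp only [mul_assoc]
      _ = ct hK X' * (ct hK Xm * Xm) * X' := by rw [hXB, hZ]
      _ = (ct hK X' * ct hK Xm) * (Xm * X') := by simp only [mul_assoc]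
      _ = 1 := by rw [hcX, hXX', mul_one]
  · have hW := W.2
    rw [ct_mul, ct_mul, ← hXB]
    calc ct hK Xm * (ct hK W.1 * ct hK X') * (ct hK Xm * Xm) * (X' * W.1 * Xm)
        = ct hK Xm * (ct hK W.1 * ((ct hK X' * ct hK Xm) * (Xm * X')) * W.1) * Xm := by
          simp only [mul_assoc]
      _ = ct hK Xm * (ct hK W.1 * W.1) * Xm := by rw [hcX, hXX', mul_one, mul_one]
      _ = ct hK Xm * Xm := by rw [hW, mul_one]
  · intro Z
    apply Subtype.ext
    show X' * (Xm * Z.1 * X') * Xm = Z.1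
    calc X' * (Xm * Z.1 * X') * Xm = (X' * Xm) * Z.1 * (X' * Xm) := by simp only [mul_assoc]
      _ = Z.1 := by rw [hX'X, one_mul, mul_one]
  · intro W
    apply Subtype.ext
    show Xm * (X' * W.1 * Xm) * X' = W.1
    calc Xm * (X' * W.1 * Xm) * X' = (Xm * X') * W.1 * (Xm * X') := by simp only [mul_assoc]
      _ = W.1 := by rw [hXX', one_mul, mul_one]

/-- a nonzero `θ` with `θ ^ q = -θ`. -/
theorem exists_skew_scalar (hK : Fintype.card K = q ^ 2) : ∃ θ : K, θ ≠ 0 ∧ θ ^ q = -θ := by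
  obtain ⟨η, hη⟩ := exists_pow_ne hK
  refine ⟨η - η ^ q, ?_, ?_⟩
  · intro h
    apply hη
    exact (sub_eq_zero.1 h).symm
  · have h1 : (η - η ^ q) ^ q = powQ hK (η - η ^ q) := rfl
    rw [h1, map_sub, powQ_apply, powQ_apply, pow_q_pow_q hK]
    ring

/-- Hermitian or skew-Hermitian case over `Fin n`. -/
theorem card_isometry_fin (hK : Fintype.card K = q ^ 2) {n : ℕ}
    (B : Matrix (Fin n) (Fin n) K) (hB : IsUnit B) (hε : ct hK B = B ∨ ct hK B = -B) :
    Nat.card {Z : Matrix (Fin n) (Fin n) K // ct hK Z * B * Z = B} =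
      Nat.card (Cfsg.GU n K q) := by
  classical
  rcases hε with hH | hS
  · exact card_isometry_fin_herm hK B hB hH
  · obtain ⟨θ, hθ0, hθ⟩ := exists_skew_scalar hK
    have hB' : IsUnit (θ • B) := by
      obtain ⟨Bu, rfl⟩ := hB
      refine ⟨⟨θ • (Bu : Matrix (Fin n) (Fin n) K), θ⁻¹ • ((Bu⁻¹ : (Matrix (Fin n) (Fin n) K)ˣ) :
        Matrix (Fin n) (Fin n) K), ?_, ?_⟩, rfl⟩
      · rw [smul_mul_smul_comm, mul_inv_cancel₀ hθ0, one_smul, Units.mul_inv]
      · rw [smul_mul_smul_comm, inv_mul_cancel₀ hθ0, one_smul, Units.inv_mul]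
    have hH' : ct hK (θ • B) = θ • B := by
      rw [ct_smul, hS, hθ, neg_smul, smul_neg, neg_neg]
    rw [← card_isometry_fin_herm hK (θ • B) hB' hH']
    refine Nat.card_congr (Equiv.subtypeEquivRight ?_)
    intro Z
    constructor
    · intro h
      rw [Matrix.mul_smul, Matrix.smul_mul, h]
    · intro h
      rw [Matrix.mul_smul, Matrix.smul_mul] at h
      have := congrArg (fun M => θ⁻¹ • M) h
      simpa [smul_smul, inv_mul_cancel₀ hθ0] using this

/-- **Package D.** -/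
theorem card_isometry {K : Type*} [Field K] [Fintype K] {q : ℕ} (hK : Fintype.card K = q ^ 2)
    {ι : Type*} [Fintype ι] [DecidableEq ι]
    (B : Matrix ι ι K) (hB : IsUnit B) (hε : cT hK B = B ∨ cT hK B = -B) :
    Nat.card {Z : Matrix ι ι K // cT hK Z * B * Z = B} =
      Nat.card (Cfsg.GU (Fintype.card ι) K q) := by
  classical
  set e : ι ≃ Fin (Fintype.card ι) := Fintype.equivFin ι with he
  set R : Matrix ι ι K ≃ Matrix (Fin (Fintype.card ι)) (Fin (Fintype.card ι)) K :=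
    Matrix.reindex e e with hR
  have hRmul : ∀ X Y : Matrix ι ι K, R (X * Y) = R X * R Y := by
    intro X Y
    simp only [hR, Matrix.reindex_apply]
    exact (Matrix.submatrix_mul_equiv X Y e.symm e.symm e.symm).symm
  have hRcT : ∀ X : Matrix ι ι K, R (cT hK X) = ct hK (R X) := by
    intro X
    rw [← cT_eq_ct, hR, cT_reindex]
  have hRB : IsUnit (R B) := by
    obtain ⟨Bu, rfl⟩ := hB
    refine ⟨⟨R (Bu : Matrix ι ι K), R ((Bu⁻¹ : (Matrix ι ι K)ˣ) : Matrix ι ι K), ?_, ?_⟩, rfl⟩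
    · rw [← hRmul, Units.mul_inv]
      simp [hR]
    · rw [← hRmul, Units.inv_mul]
      simp [hR]
  have hRε : ct hK (R B) = R B ∨ ct hK (R B) = -R B := by
    rcases hε with h | h
    · left; rw [← hRcT, h]
    · right; rw [← hRcT, h]; rfl
  rw [← card_isometry_fin hK (R B) hRB hRε]
  refine Nat.card_congr (Equiv.subtypeEquiv R ?_)
  intro Z
  rw [← hRcT, ← hRmul, ← hRmul]
  exact (R.injective.eq_iff).symm

end Cfsg.Agent.Lib.Helper7.GUIsometry
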