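import Mathlib
import Cfsg.Prelude.Def_Solvable
import Cfsg.Prelude.Def_Local
import Cfsg.Agent.Lib.Lead.Core
import Cfsg.Agent.Lib.Lead.OddStable2
import Cfsg.Agent.Lib.Helper3.PComp1
import Cfsg.Agent.Lib.Helper6.PPrimeCore

set_option autoImplicit false

/-!
# Gaschütz–Yen, part 1

Groups whose automorphism group permutes the subgroups of order `p` transitively: every element of
order `p` lies in the centre of `O_p`; the subgroup `O_{p,p'}` and its invariance.
-/

namespace Cfsg.Agent.Lib.Helper7.GYen

open Cfsg Cfsg.Agent.Lib.Lead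

universe u

/-- the automorphism group permutes the subgroups of order `p` transitively -/
def AutTrans (p : ℕ) (X : Type*) [Group X] : Prop :=
  ∀ U V : Subgroup X, Nat.card U = p → Nat.card V = p →
    ∃ a : MulAut X, U.map a.toMonoidHom = V

variable {X : Type u} [Group X] {p : ℕ}

theorem pCore_map_aut (a : MulAut X) : (pCore p X).map a.toMonoidHom = pCore p X := by
  haveI : (pCore p X).Characteristic := OddStable.pCore_characteristic' p
  exact Subgroup.characteristic_iff_map_eq.mp inferInstance a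

theorem aut_mem_pCore (a : MulAut X) {x : X} (hx : x ∈ pCore p X) : a x ∈ pCore p X := by
  rw [← pCore_map_aut (p := p) a]
  exact ⟨x, hx, rfl⟩

/-- an element of order `p` is a power-image of any other under an automorphism -/
theorem exists_aut_pow [hp : Fact p.Prime] (htr : AutTrans p X) {z x : X} (hz : orderOf z = p)
    (hx : orderOf x = p) : ∃ a : MulAut X, ∃ j : ℤ, a (z ^ j) = x := by
  have h1 : Nat.card (Subgroup.zpowers z) = p := by rw [Nat.card_zpowers, hz]
  have h2 : Nat.card (Subgroup.zpowers x) = p := by rw [Nat.card_zpowers, hx]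
  obtain ⟨a, ha⟩ := htr _ _ h1 h2
  have hx' : x ∈ (Subgroup.zpowers z).map a.toMonoidHom := by
    rw [ha]; exact Subgroup.mem_zpowers x
  obtain ⟨w, hw, hwx⟩ := hx'
  obtain ⟨j, rfl⟩ := Subgroup.mem_zpowers_iff.mp hw
  exact ⟨a, j, hwx⟩

variable [Finite X]

/-- every element of order `p` lies in `O_p` and centralises it -/
theorem order_p_central [hp : Fact p.Prime] (htr : AutTrans p X) (hP : pCore p X ≠ ⊥) {x : X}
    (hx : orderOf x = p) : x ∈ pCore p X ∧ ∀ y ∈ pCore p X, x * y = y * x := by
  classical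
  haveI : Nontrivial ↥(pCore p X) := (Subgroup.nontrivial_iff_ne_bot _).mpr hP
  have hPp : IsPGroup p ↥(pCore p X) := pCore_isPGroup p
  haveI : Nontrivial ↥(Subgroup.center ↥(pCore p X)) := hPp.center_nontrivial
  have hZp : IsPGroup p ↥(Subgroup.center ↥(pCore p X)) := hPp.to_subgroup _
  have hdvd : p ∣ Nat.card ↥(Subgroup.center ↥(pCore p X)) := by
    obtain ⟨n, hn⟩ := IsPGroup.iff_card.mp hZp
    rw [hn]
    have hn0 : n ≠ 0 := by
      rintro rfl
      rw [pow_zero] at hn
      have : Subsingleton ↥(Subgroup.center ↥(pCore p X)) :=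
        (Nat.card_eq_one_iff_unique.mp hn).1
      exact not_nontrivial _ ‹Nontrivial ↥(Subgroup.center ↥(pCore p X))›
    exact dvd_pow_self p hn0
  obtain ⟨v, hv⟩ := exists_prime_orderOf_dvd_card' p hdvd
  -- `v : center P`, order `p`
  have hvX : orderOf ((v : ↥(pCore p X)) : X) = p := by
    rw [Subgroup.orderOf_coe, Subgroup.orderOf_coe, hv]
  obtain ⟨a, j, haj⟩ := exists_aut_pow htr hvX hx
  have hvj : ((v : ↥(pCore p X)) : X) ^ j ∈ pCore p X :=
    Subgroup.zpow_mem _ (v : ↥(pCore p X)).2 j
  refine ⟨?_, ?_⟩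
  · rw [← haj]; exact aut_mem_pCore a hvj
  · intro y hy
    have hy' : a.symm y ∈ pCore p X := aut_mem_pCore a.symm hy
    have hcomm : ((v : ↥(pCore p X)) : X) * a.symm y = a.symm y * ((v : ↥(pCore p X)) : X) := by
      have h1 := Subgroup.mem_center_iff.mp v.2 ⟨a.symm y, hy'⟩
      have h2 := congrArg (Subtype.val) h1
      simpa using h2.symm
    have hcomm' : ((v : ↥(pCore p X)) : X) ^ j * a.symm y = a.symm y * ((v : ↥(pCore p X)) : X) ^ j :=
      (Commute.zpow_left (show Commute ((v : ↥(pCore p X)) : X) (a.symm y) from hcomm) j).eq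
    have := congrArg a hcomm'
    rw [map_mul, map_mul, haj, MulEquiv.apply_symm_apply] at this
    exact this

end Cfsg.Agent.Lib.Helper7.GYen
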