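import Mathlib
import Cfsg.Agent.Lib.Helper7.GYen1
import Cfsg.Agent.Lib.Helper2.PSeries
import Cfsg.Agent.Lib.Lead.SZConjB3

set_option autoImplicit false

/-!
# Gaschütz–Yen, part 2

The subgroup `K = O_{p,p'}(X)`: invariance under automorphisms, a complement `K₀` of `O_p(X)` in `K`
and the Frattini argument `X = O_p(X) N_X(K₀)`.
-/

namespace Cfsg.Agent.Lib.Helper7.GYen

open Cfsg Cfsg.Agent.Lib.Lead
open scoped Pointwise

universe u

variable {X : Type u} [Group X] {p : ℕ}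

/-- `O_{p,p'}(X)`: the preimage of `O_{p'}(X / O_p(X))` -/
def Kgrp (p : ℕ) (X : Type*) [Group X] : Subgroup X :=
  haveI := pCore_normal (G := X) p
  (pPrimeCore p (X ⧸ pCore p X)).comap (QuotientGroup.mk' (pCore p X))

instance Kgrp_normal : (Kgrp p X).Normal := by
  haveI := pCore_normal (G := X) p
  unfold Kgrp
  exact Subgroup.Normal.comap inferInstance _

theorem pCore_le_Kgrp : pCore p X ≤ Kgrp p X := by
  haveI := pCore_normal (G := X) p
  intro x hx
  unfold Kgrp
  rw [Subgroup.mem_comap]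
  have : QuotientGroup.mk' (pCore p X) x = 1 := (QuotientGroup.eq_one_iff x).mpr hx
  rw [this]
  exact Subgroup.one_mem _

theorem mem_Kgrp_iff {x : X} :
    haveI := pCore_normal (G := X) p
    x ∈ Kgrp p X ↔ (QuotientGroup.mk' (pCore p X) x) ∈ pPrimeCore p (X ⧸ pCore p X) := by
  haveI := pCore_normal (G := X) p
  unfold Kgrp
  exact Subgroup.mem_comap

/-- `O_{p,p'}(X)` is invariant under automorphisms -/
theorem aut_mem_Kgrp (a : MulAut X) {x : X} (hx : x ∈ Kgrp p X) : a x ∈ Kgrp p X := by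
  haveI := pCore_normal (G := X) p
  have hmap : (pCore p X).map (a : X →* X) = pCore p X := pCore_map_aut a
  -- the induced automorphism of the quotient
  let e : X ⧸ pCore p X ≃* X ⧸ pCore p X := QuotientGroup.congr (pCore p X) (pCore p X) a hmap
  rw [mem_Kgrp_iff] at hx ⊢
  have h1 : e (QuotientGroup.mk' (pCore p X) x) ∈ pPrimeCore p (X ⧸ pCore p X) := by
    rw [← Cfsg.Agent.Lib.Helper3.pPrimeCore_map_mulEquiv p e]
    exact ⟨_, hx, rfl⟩
  have h2 : e (QuotientGroup.mk' (pCore p X) x) = QuotientGroup.mk' (pCore p X) (a x) := by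
    simp [e, QuotientGroup.congr_mk]
  rwa [h2] at h1

variable [Finite X] [hp : Fact p.Prime]

theorem relIndex_pCore_Kgrp_coprime : ((pCore p X).relIndex (Kgrp p X)).Coprime p := by
  haveI := pCore_normal (G := X) p
  unfold Kgrp
  rw [Cfsg.Agent.Lib.Helper2.PSeries.relIndex_comap_mk]
  exact Cfsg.Agent.Lib.Helper6.pPrimeCore_coprime p

/-- complement of `O_p(X)` in `O_{p,p'}(X)`, with the Frattini argument -/
theorem exists_compl :
    ∃ K₀ : Subgroup X, K₀ ≤ Kgrp p X ∧ (Nat.card K₀).Coprime p ∧ pCore p X ⊓ K₀ = ⊥ ∧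
      (∀ k ∈ Kgrp p X, ∃ u ∈ pCore p X, ∃ h ∈ K₀, k = u * h) ∧
      (∀ g : X, ∃ u ∈ pCore p X, ∀ h ∈ K₀, (u⁻¹ * g) * h * (u⁻¹ * g)⁻¹ ∈ K₀) := by
  classical
  haveI hPn := pCore_normal (G := X) p
  have hPK : pCore p X ≤ Kgrp p X := pCore_le_Kgrp
  have hPp : IsPGroup p ↥(pCore p X) := pCore_isPGroup p
  -- inside `K`
  set K := Kgrp p X with hK
  set N : Subgroup ↥K := (pCore p X).subgroupOf K with hN
  haveI hNn : N.Normal := by rw [hN]; exact Subgroup.Normal.subgroupOf hPn K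
  have hNcard : Nat.card N = Nat.card ↥(pCore p X) := by
    rw [hN]
    exact Nat.card_congr (Subgroup.subgroupOfEquivOfLe hPK).toEquiv
  have hNidx : N.index = (pCore p X).relIndex K := rfl
  obtain ⟨n, hn⟩ := IsPGroup.iff_card.mp hPp
  have hcop : (Nat.card N).Coprime N.index := by
    rw [hNcard, hn, hNidx]
    exact Nat.Coprime.pow_left n (relIndex_pCore_Kgrp_coprime).symm
  obtain ⟨H, hH⟩ := Subgroup.exists_right_complement'_of_coprime hcop
  have hHcard : Nat.card H = N.index := by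
    have h1 := hH.card_mul_card
    have h2 := N.card_mul_index
    rw [← h2] at h1
    exact Nat.eq_of_mul_eq_mul_left Nat.card_pos h1
  have hHcop : (Nat.card H).Coprime p := by
    rw [hHcard, hNidx]; exact relIndex_pCore_Kgrp_coprime
  have hNsolv : Group.IsSolvable N := by
    have hNp : IsPGroup p N := by
      rw [hN]; exact hPp.comap_subtype
    haveI := hNp.isNilpotent
    infer_instance
  refine ⟨H.map K.subtype, ?_, ?_, ?_, ?_, ?_⟩
  · exact Subgroup.map_subtype_le H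
  · rwa [Nat.card_congr (Subgroup.equivMapOfInjective H K.subtype K.subtype_injective).symm.toEquiv]
  · rw [eq_bot_iff]
    rintro x ⟨hxP, ⟨y, hyH, rfl⟩⟩
    have hyN : y ∈ N := by rw [hN, Subgroup.mem_subgroupOf]; exact hxP
    have : y ∈ N ⊓ H := ⟨hyN, hyH⟩
    rw [hH.isCompl.inf_eq_bot, Subgroup.mem_bot] at this
    rw [Subgroup.mem_bot, this]; rfl
  · intro k hk
    have : (⟨k, hk⟩ : ↥K) ∈ (N : Set ↥K) * (H : Set ↥K) := by
      rw [hH.mul_eq]; exact Set.mem_univ _
    obtain ⟨u, hu, h, hh, huh⟩ := this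
    refine ⟨(u : X), ?_, (h : X), ⟨h, hh, rfl⟩, ?_⟩
    · rw [hN] at hu; exact Subgroup.mem_subgroupOf.mp hu
    · have := congrArg Subtype.val huh
      simpa using this.symm
  · intro g
    -- the conjugate complement
    have hgK : ∀ y : ↥K, g * (y : X) * g⁻¹ ∈ K := fun y => Kgrp_normal.conj_mem _ y.2 g
    let φ : ↥K ≃* ↥K :=
      { toFun := fun y => ⟨g * (y : X) * g⁻¹, hgK y⟩
        invFun := fun y => ⟨g⁻¹ * (y : X) * g, by
          have := Kgrp_normal.conj_mem _ y.2 g⁻¹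
          simpa using this⟩
        left_inv := fun y => by ext; simp [mul_assoc]
        right_inv := fun y => by ext; simp [mul_assoc]
        map_mul' := fun y z => by ext; simp [mul_assoc] }
    set H' : Subgroup ↥K := H.map (φ : ↥K →* ↥K) with hH'
    have hH'card : Nat.card H' = N.index := by
      rw [← hHcard, hH']
      exact Nat.card_congr (Subgroup.equivMapOfInjective H (φ : ↥K →* ↥K) φ.injective).symm.toEquiv
    obtain ⟨k, hk⟩ := schur_zassenhaus_conj N hcop (Or.inl hNsolv) H H' hHcard hH'card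
    -- `k H k⁻¹ = g H g⁻¹`
    have hkK : k ∈ (N : Set ↥K) * (H : Set ↥K) := by
      rw [hH.mul_eq]; exact Set.mem_univ _
    obtain ⟨u, hu, h₀, hh₀, huh⟩ := hkK
    have hk_eq : (k : X) = (u : X) * (h₀ : X) := by
      have := congrArg Subtype.val huh
      simpa using this.symm
    refine ⟨(u : X), by rw [hN] at hu; exact Subgroup.mem_subgroupOf.mp hu, ?_⟩
    rintro x ⟨y, hyH, rfl⟩
    -- `g y g⁻¹ ∈ H' = k H k⁻¹`
    have h1 : φ y ∈ H' := ⟨y, hyH, rfl⟩
    rw [← hk] at h1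
    obtain ⟨w, hwH, hw⟩ := h1
    -- `hw : conj k w = φ y`
    have hw' : (k : X) * (w : X) * (k : X)⁻¹ = g * (y : X) * g⁻¹ := by
      have := congrArg Subtype.val hw
      simpa [φ] using this
    -- so `u⁻¹ g y g⁻¹ u = h₀ w h₀⁻¹ ∈ H`
    have hmem : h₀ * w * h₀⁻¹ ∈ H := H.mul_mem (H.mul_mem hh₀ hwH) (H.inv_mem hh₀)
    refine ⟨h₀ * w * h₀⁻¹, hmem, ?_⟩
    have : (u : X)⁻¹ * g * (K.subtype y) * ((u : X)⁻¹ * g)⁻¹
        = (u : X)⁻¹ * (g * (y : X) * g⁻¹) * (u : X) := by
      simp [mul_assoc]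
    rw [this, ← hw', hk_eq]
    simp [mul_assoc]

end Cfsg.Agent.Lib.Helper7.GYen
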