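import Mathlib
import Cfsg.Agent.Lib.Helper7.GYen2
import Cfsg.Agent.Lib.Helper7.PSolvable
import Cfsg.Agent.Lib.Helper4.HallHigman
import Cfsg.Agent.Lib.Helper8.KZ7
import Cfsg.Agent.S0120

set_option autoImplicit false

/-!
# Gaschütz–Yen, part 3

The reduced case `O_{p'}(X) = 1`: `O_p(X)` is a Sylow `p`-subgroup.
-/

namespace Cfsg.Agent.Lib.Helper7.GYen

open Cfsg Cfsg.Agent.Lib.Lead

universe u

variable {X : Type u} [Group X] [Finite X] {p : ℕ} [hp : Fact p.Prime]

/-- an element whose `p`-th power lies in `O_p(X)` has `p`-power order -/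
theorem exists_orderOf_eq_pow {y : X} (hy : y ^ p ∈ pCore p X) : ∃ a : ℕ, orderOf y = p ^ a := by
  have hPp : IsPGroup p ↥(pCore p X) := pCore_isPGroup p
  obtain ⟨b, hb⟩ := hPp ⟨y ^ p, hy⟩
  have hb' : (y ^ p) ^ (p ^ b) = 1 := by
    have := congrArg Subtype.val hb
    simpa using this
  have h1 : y ^ (p ^ (b + 1)) = 1 := by
    rw [pow_succ', pow_mul]; exact hb'
  exact (Nat.dvd_prime_pow hp.out).mp (orderOf_dvd_of_pow_eq_one h1) |>.imp fun a ha => ha.2

/-- **Reduced case**: if `O_{p'}(X) = 1` then `O_p(X)` has index prime to `p`. -/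
theorem index_pCore_coprime (hp2 : p ≠ 2) (hX : IsPSolvable p X) (hO : pPrimeCore p X = ⊥)
    (htr : AutTrans p X) : ((pCore p X).index).Coprime p := by
  classical
  haveI hPn := pCore_normal (G := X) p
  have hPp : IsPGroup p ↥(pCore p X) := pCore_isPGroup p
  have hCP : Subgroup.centralizer ((pCore p X : Subgroup X) : Set X) ≤ pCore p X :=
    Cfsg.Agent.Lib.Helper4.centralizer_pCore_le_of_isPSolvable hX hO
  by_contra hnot
  have hdvd : p ∣ Nat.card (X ⧸ pCore p X) := by
    rw [← Subgroup.index_eq_card]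
    by_contra h
    exact hnot ((Nat.Prime.coprime_iff_not_dvd hp.out).mpr h).symm
  obtain ⟨ybar, hybar⟩ := exists_prime_orderOf_dvd_card' p hdvd
  obtain ⟨y₀, rfl⟩ := QuotientGroup.mk'_surjective (pCore p X) ybar
  obtain ⟨K₀, hK₀K, hK₀cop, hPK₀, hKdec, hfrat⟩ := exists_compl (X := X) (p := p)
  obtain ⟨u, hu, hnorm⟩ := hfrat y₀
  set y := u⁻¹ * y₀ with hy
  have hmk : QuotientGroup.mk' (pCore p X) y = QuotientGroup.mk' (pCore p X) y₀ := by
    have hu1 : QuotientGroup.mk' (pCore p X) u = 1 := (QuotientGroup.eq_one_iff u).mpr hu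
    rw [hy, map_mul, map_inv, hu1, inv_one, one_mul]
  have hyP : y ∉ pCore p X := by
    intro h
    have h1 : QuotientGroup.mk' (pCore p X) y = 1 := (QuotientGroup.eq_one_iff y).mpr h
    rw [hmk] at h1
    rw [h1, orderOf_one] at hybar
    exact hp.out.one_lt.ne hybar
  have hypP : y ^ p ∈ pCore p X := by
    have h1 : (QuotientGroup.mk' (pCore p X) y₀) ^ p = 1 := by
      have := pow_orderOf_eq_one (QuotientGroup.mk' (pCore p X) y₀)
      rwa [hybar] at this
    have h2 : QuotientGroup.mk' (pCore p X) (y ^ p) = 1 := by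
      rw [map_pow, hmk, h1]
    exact (QuotientGroup.eq_one_iff (y ^ p)).mp h2
  have hPne : pCore p X ≠ ⊥ := by
    intro h
    apply hyP
    have : Subgroup.centralizer ((pCore p X : Subgroup X) : Set X) = ⊤ := by
      rw [h]; simp
    rw [this] at hCP
    exact hCP (Subgroup.mem_top y)
  -- `y ^ p` commutes with `K₀`
  have hcomm : ∀ h ∈ K₀, Commute (y ^ p) h := by
    intro h hh
    have h1 : y ^ p * h * (y ^ p)⁻¹ ∈ K₀ := by
      have : ∀ n : ℕ, y ^ n * h * (y ^ n)⁻¹ ∈ K₀ := by
        intro n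
        induction n with
        | zero => simpa using hh
        | succ n ih =>
          have := hnorm _ ih
          have e : y * (y ^ n * h * (y ^ n)⁻¹) * y⁻¹ = y ^ (n + 1) * h * (y ^ (n + 1))⁻¹ := by
            rw [pow_succ']; simp [mul_assoc]
          rwa [e] at this
      exact this p
    have h2 : y ^ p * h * (y ^ p)⁻¹ * h⁻¹ ∈ K₀ := K₀.mul_mem h1 (K₀.inv_mem hh)
    have h3 : y ^ p * h * (y ^ p)⁻¹ * h⁻¹ ∈ pCore p X := by
      have : h * (y ^ p)⁻¹ * h⁻¹ ∈ pCore p X := hPn.conj_mem _ ((pCore p X).inv_mem hypP) h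
      have := (pCore p X).mul_mem hypP this
      simpa [mul_assoc] using this
    have h4 : y ^ p * h * (y ^ p)⁻¹ * h⁻¹ ∈ pCore p X ⊓ K₀ := ⟨h3, h2⟩
    rw [hPK₀, Subgroup.mem_bot] at h4
    have : y ^ p * h = h * y ^ p := by
      have := congrArg (fun t => t * h * y ^ p) h4
      simpa [mul_assoc] using this
    exact this
  -- order of `y`
  obtain ⟨a, ha⟩ := exists_orderOf_eq_pow hypP
  have ha0 : a ≠ 0 := by
    rintro rfl
    rw [pow_zero, orderOf_eq_one_iff] at ha
    exact hyP (ha ▸ (pCore p X).one_mem)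
  have ha1 : a ≠ 1 := by
    rintro rfl
    rw [pow_one] at ha
    exact hyP (order_p_central htr hPne ha).1
  obtain ⟨a', rfl⟩ : ∃ a', a = a' + 2 := ⟨a - 2, by omega⟩
  set z := y ^ (p ^ (a' + 1)) with hz
  have hzord : orderOf z = p := by
    rw [hz, orderOf_pow_of_dvd (pow_ne_zero _ hp.out.ne_zero) (by rw [ha]; exact pow_dvd_pow p (by omega)), ha]
    rw [show a' + 2 = (a' + 1) + 1 from rfl, pow_succ, Nat.mul_div_cancel_left _ (pow_pos hp.out.pos _)]
  have hzpow : z = (y ^ p) ^ (p ^ a') := by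
    rw [hz, ← pow_mul, pow_succ']
  have hzK₀ : ∀ h ∈ K₀, Commute z h := by
    intro h hh
    rw [hzpow]
    exact (hcomm h hh).pow_left _
  have hzP := order_p_central htr hPne hzord
  have hzK : ∀ k ∈ Kgrp p X, Commute z k := by
    intro k hk
    obtain ⟨u', hu', h, hh, rfl⟩ := hKdec k hk
    exact (show Commute z u' from hzP.2 u' hu').mul_right (hzK₀ h hh)
  -- every element of order `p` commutes with `K`
  have hall : ∀ x : X, orderOf x = p → ∀ k ∈ Kgrp p X, Commute x k := by
    intro x hx k hk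
    obtain ⟨α, j, hαj⟩ := exists_aut_pow htr hzord hx
    have hk' : α.symm k ∈ Kgrp p X := aut_mem_Kgrp α.symm hk
    have h1 : Commute (z ^ j) (α.symm k) := (hzK _ hk').zpow_left j
    have h2 := congrArg α h1.eq
    rw [map_mul, map_mul, hαj, MulEquiv.apply_symm_apply] at h2
    exact h2
  -- hence `K₀` centralises `O_p(X)`
  have hK₀bot : K₀ = ⊥ := by
    rw [eq_bot_iff]
    intro h hh
    have hhK : h ∈ Kgrp p X := hK₀K hh
    set β : MulAut ↥(pCore p X) := MulAut.conjNormal h with hβ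
    have hβord : (orderOf β).Coprime p := by
      have h1 : orderOf β ∣ orderOf h := by
        rw [hβ]; exact orderOf_map_dvd _ h
      have h2 : orderOf h ∣ Nat.card K₀ := by
        have := orderOf_dvd_natCard (⟨h, hh⟩ : ↥K₀)
        rwa [Subgroup.orderOf_mk] at this
      exact Nat.Coprime.coprime_dvd_left (h1.trans h2) hK₀cop
    have hfix : ∀ x : ↥(pCore p X), x ^ p = 1 → β x = x := by
      intro x hx
      by_cases hx1 : x = 1
      · rw [hx1, map_one]
      · have hxo : orderOf (x : X) = p := by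
          rw [Subgroup.orderOf_coe]
          exact orderOf_eq_prime hx hx1
        have hc := hall (x : X) hxo h hhK
        apply Subtype.ext
        rw [hβ, MulAut.conjNormal_apply]
        rw [← hc.eq]; simp
    have hβ1 : β = 1 := Cfsg.Agent.S0120.result hp2 hPp β hβord hfix
    have hcent : h ∈ Subgroup.centralizer ((pCore p X : Subgroup X) : Set X) := by
      rw [Subgroup.mem_centralizer_iff]
      intro x hx
      have := congrArg (fun γ : MulAut ↥(pCore p X) => ((γ ⟨x, hx⟩ : ↥(pCore p X)) : X)) hβ1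
      simp only [hβ, MulAut.conjNormal_apply, MulAut.one_apply] at this
      -- this : h * x * h⁻¹ = x
      have e : h * x = x * h := by
        have := congrArg (fun t => t * h) this
        simpa [mul_assoc] using this
      exact e.symm
    have : h ∈ pCore p X ⊓ K₀ := ⟨hCP hcent, hh⟩
    rwa [hPK₀] at this
  -- so `O_{p'}(X / O_p(X)) = 1`
  have hq1 : pPrimeCore p (X ⧸ pCore p X) = ⊥ := by
    rw [eq_bot_iff]
    intro q hq
    obtain ⟨g, rfl⟩ := QuotientGroup.mk'_surjective (pCore p X) q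
    have hg : g ∈ Kgrp p X := mem_Kgrp_iff.mpr hq
    obtain ⟨u', hu', h, hh, rfl⟩ := hKdec g hg
    rw [hK₀bot, Subgroup.mem_bot] at hh
    rw [hh, mul_one, Subgroup.mem_bot]
    exact (QuotientGroup.eq_one_iff u').mpr hu'
  have hq2 : pCore p (X ⧸ pCore p X) = ⊥ := Cfsg.Agent.Lib.Helper8.KZ.pCore_quotient_pCore_eq_bot p
  have hqs : IsPSolvable p (X ⧸ pCore p X) := isPSolvable_quotient hX _
  haveI : Nontrivial (X ⧸ pCore p X) := by
    refine ⟨⟨QuotientGroup.mk' (pCore p X) y, 1, ?_⟩⟩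
    intro h
    exact hyP ((QuotientGroup.eq_one_iff y).mp h)
  obtain ⟨N, hNn, hNne, hN⟩ := exists_normal_of_isPSolvable hqs
  rcases hN with ⟨m, hm⟩ | hcop
  · have : N ≤ pCore p (X ⧸ pCore p X) := le_pCore hNn (IsPGroup.of_card hm)
    rw [hq2, le_bot_iff] at this
    exact hNne this
  · have : N ≤ pPrimeCore p (X ⧸ pCore p X) := Cfsg.Agent.Lib.Helper6.le_pPrimeCore hNn hcop
    rw [hq1, le_bot_iff] at this
    exact hNne this

end Cfsg.Agent.Lib.Helper7.GYen
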