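import Mathlib
import Cfsg.Agent.Lib.Helper7.GYen3
import Cfsg.Agent.Lib.Helper4.Rk2j

set_option autoImplicit false

/-!
# Gaschütz–Yen, part 4

Passage to `G / O_{p'}(G)` and the theorem.
-/

namespace Cfsg.Agent.Lib.Helper7.GYen

open Cfsg Cfsg.Agent.Lib.Lead

universe u

variable {G : Type u} [Group G] [Finite G] {p : ℕ} [hp : Fact p.Prime]

/-- a subgroup of order `p` of `G / N`, `N` a normal `p'`-subgroup, is the image of a subgroup of
order `p` of `G` -/
theorem exists_lift_card_p (N : Subgroup G) [N.Normal] (hN : (Nat.card N).Coprime p)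
    (U : Subgroup (G ⧸ N)) (hU : Nat.card U = p) :
    ∃ U' : Subgroup G, Nat.card U' = p ∧ U'.map (QuotientGroup.mk' N) = U := by
  classical
  -- a generator of `U`
  haveI : Fact (Nat.card U = p) := ⟨hU⟩
  have hUne : ∃ ubar : G ⧸ N, ubar ∈ U ∧ ubar ≠ 1 := by
    by_contra h
    push_neg at h
    have : U = ⊥ := by
      rw [eq_bot_iff]; intro x hx; rw [Subgroup.mem_bot]; exact h x hx
    rw [this] at hU
    simp at hU
    exact hp.out.one_lt.ne hU
  obtain ⟨ubar, hubarU, hubar1⟩ := hUne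
  obtain ⟨u, rfl⟩ := QuotientGroup.mk'_surjective N ubar
  have hUz : U = Subgroup.zpowers (QuotientGroup.mk' N u) := by
    symm
    apply Subgroup.eq_of_le_of_card_ge
    · rw [Subgroup.zpowers_le]; exact hubarU
    · rw [hU, Nat.card_zpowers]
      have h1 : orderOf (QuotientGroup.mk' N u) ∣ p := by
        have := orderOf_dvd_natCard (⟨_, hubarU⟩ : ↥U)
        rwa [Subgroup.orderOf_mk, hU] at this
      rcases (Nat.dvd_prime hp.out).mp h1 with h | h
      · exact absurd (orderOf_eq_one_iff.mp h) hubar1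
      · rw [h]
  have hord : orderOf (QuotientGroup.mk' N u) = p := by
    rw [← Nat.card_zpowers, ← hUz, hU]
  -- split the order of `u`
  obtain ⟨e, r, hr, hor⟩ := Nat.exists_eq_pow_mul_and_not_dvd (orderOf_pos u).ne' p hp.out.ne_one
  set u₁ := u ^ r with hu₁
  have hrcop : r.Coprime p := ((Nat.Prime.coprime_iff_not_dvd hp.out).mpr hr).symm
  have hr0 : r ≠ 0 := by rintro rfl; simp at hr
  have hu₁ord : orderOf u₁ = p ^ e := by
    rw [hu₁, orderOf_pow_of_dvd hr0 (by rw [hor]; exact dvd_mul_left _ _), hor,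
      Nat.mul_div_cancel _ (Nat.pos_of_ne_zero hr0)]
  have hmk₁ : QuotientGroup.mk' N u₁ = (QuotientGroup.mk' N u) ^ r := by rw [hu₁, map_pow]
  have hmk₁ne : QuotientGroup.mk' N u₁ ≠ 1 := by
    rw [hmk₁]
    intro h
    have h1 : p ∣ r := by rw [← hord]; exact orderOf_dvd_of_pow_eq_one h
    exact hr h1
  have hmk₁U : QuotientGroup.mk' N u₁ ∈ U := by
    rw [hmk₁]; exact U.pow_mem hubarU r
  -- `u₁ ^ p ∈ N` is a `p`-element of a `p'`-group
  have hu₁pN : u₁ ^ p ∈ N := by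
    rw [← QuotientGroup.eq_one_iff]
    have : (QuotientGroup.mk' N u₁) ^ p = 1 := by
      rw [hmk₁, ← pow_mul, mul_comm, pow_mul, ← hord, pow_orderOf_eq_one, one_pow]
    rw [← map_pow] at this
    exact this
  have hu₁p : u₁ ^ p = 1 := by
    have h1 : orderOf (u₁ ^ p) ∣ Nat.card N := by
      have := orderOf_dvd_natCard (⟨u₁ ^ p, hu₁pN⟩ : ↥N)
      rwa [Subgroup.orderOf_mk] at this
    have h2 : orderOf (u₁ ^ p) ∣ p ^ e := by
      rw [← hu₁ord]; exact orderOf_pow_dvd p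
    have h3 : orderOf (u₁ ^ p) = 1 :=
      Nat.eq_one_of_dvd_coprimes (Nat.Coprime.pow_right e hN) h1 h2
    exact orderOf_eq_one_iff.mp h3
  have hu₁ne : u₁ ≠ 1 := by
    intro h
    apply hmk₁ne
    rw [h, map_one]
  have hu₁o : orderOf u₁ = p := orderOf_eq_prime hu₁p hu₁ne
  refine ⟨Subgroup.zpowers u₁, by rw [Nat.card_zpowers, hu₁o], ?_⟩
  rw [MonoidHom.map_zpowers]
  apply Subgroup.eq_of_le_of_card_ge
  · rw [Subgroup.zpowers_le]; exact hmk₁U
  · rw [hU, Nat.card_zpowers]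
    have h1 : orderOf (QuotientGroup.mk' N u₁) ∣ p := by
      apply orderOf_dvd_of_pow_eq_one
      rw [← map_pow, hu₁p, map_one]
    rcases (Nat.dvd_prime hp.out).mp h1 with h | h
    · exact absurd (orderOf_eq_one_iff.mp h) hmk₁ne
    · rw [h]

/-- the transitivity hypothesis passes to `G / O_{p'}(G)` -/
theorem autTrans_quotient (htr : AutTrans p G) :
    AutTrans p (G ⧸ pPrimeCore p G) := by
  intro U V hU hV
  have hcop : (Nat.card (pPrimeCore p G)).Coprime p := Cfsg.Agent.Lib.Helper6.pPrimeCore_coprime p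
  obtain ⟨U', hU', hUU'⟩ := exists_lift_card_p (pPrimeCore p G) hcop U hU
  obtain ⟨V', hV', hVV'⟩ := exists_lift_card_p (pPrimeCore p G) hcop V hV
  obtain ⟨a, ha⟩ := htr U' V' hU' hV'
  have hmap : (pPrimeCore p G).map (a : G →* G) = pPrimeCore p G :=
    Cfsg.Agent.Lib.Helper3.pPrimeCore_map_mulEquiv p a
  refine ⟨QuotientGroup.congr (pPrimeCore p G) (pPrimeCore p G) a hmap, ?_⟩
  rw [← hUU', ← hVV', ← ha]
  ext q
  constructor
  · rintro ⟨q', ⟨x, hx, rfl⟩, rfl⟩
    refine ⟨a x, ⟨x, hx, rfl⟩, ?_⟩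
    simp [QuotientGroup.congr_mk]
  · rintro ⟨x', ⟨x, hx, rfl⟩, rfl⟩
    refine ⟨QuotientGroup.mk' _ x, ⟨x, hx, rfl⟩, ?_⟩
    simp [QuotientGroup.congr_mk]

/-- **Gaschütz–Yen**: a `p`-soluble group, `p` odd, whose automorphism group permutes the subgroups of
order `p` transitively has `p`-length at most `1`. -/
theorem gaschutz_yen (hp2 : p ≠ 2) (hG : IsPSolvable p G) (htr : AutTrans p G) :
    PLengthLE p 1 G := by
  apply Cfsg.Agent.Lib.Helper4.Rk2.pLengthLE_one_of_index_coprime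
  have h1 : ((pCore p (G ⧸ pPrimeCore p G)).index).Coprime p :=
    index_pCore_coprime hp2 (isPSolvable_quotient hG _)
      (Cfsg.Agent.Lib.Helper3.pPrimeCore_quotient_eq_bot) (autTrans_quotient htr)
  unfold pPrimePCore
  rwa [Subgroup.index_comap_of_surjective _ (QuotientGroup.mk'_surjective _)]

end Cfsg.Agent.Lib.Helper7.GYen
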