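import Mathlib
import Cfsg.Prelude.Def_Characters
import Cfsg.Agent.Lib.Helper1.CharFound6
import Cfsg.Agent.Lib.Helper1.CharFound8
import Cfsg.Agent.Lib.Helper4.Characters
import Cfsg.Agent.Lib.Helper4.CharTools
import Cfsg.Agent.Lib.Helper4.GaloisTwist
import Cfsg.Agent.Lib.Helper8.GP1
import Cfsg.Agent.S0161

set_option autoImplicit false

/-! Products of Galois conjugate characters: the norm criterion. -/

namespace Cfsg.Agent.Lib.Helper7.GalProd

open Cfsg Cfsg.Agent.Lib.Helper1 Cfsg.Agent.Lib.Helper4 Cfsg.Agent.Lib.Helper8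
open scoped ComplexConjugate

universe u

section KL

variable {G : Type u} [Group G] [Fintype G]

theorem isCharacter_powFn {k : ℕ} (hk : k.Coprime (Nat.card G)) {χ : G → ℂ}
    (hχ : IsCharacter G χ) : IsCharacter G (powFn k χ) := by
  have : NeZero (Nat.card G) := ⟨Nat.card_pos.ne'⟩
  obtain ⟨τ, hτ⟩ := exists_complex_aut_pow (Nat.card G) k hk
  have h1 := isCharacter_twist (τ : ℂ →+* ℂ) hχ
  have h2 : (fun g => (τ : ℂ →+* ℂ) (χ g)) = powFn k χ := by
    funext g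
    exact twist_apply (τ : ℂ →+* ℂ) (Nat.card G) k hτ hχ g pow_card_eq_one'
  rwa [h2] at h1

theorem classInner_self_ne_zero {Θ : G → ℂ} (h1 : Θ 1 ≠ 0) : classInner Θ Θ ≠ 0 := by
  unfold classInner
  have hG0 : (Nat.card G : ℂ) ≠ 0 := Nat.cast_ne_zero.2 Nat.card_pos.ne'
  apply mul_ne_zero (inv_ne_zero hG0)
  have h2 : ∀ g : G, Θ g * conj (Θ g) = ((‖Θ g‖ ^ 2 : ℝ) : ℂ) := by
    intro g
    rw [Complex.mul_conj, Complex.normSq_eq_norm_sq]
  simp only [h2]
  rw [← Complex.ofReal_sum]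
  intro h
  have h3 : ∑ g : G, ‖Θ g‖ ^ 2 = 0 := by exact_mod_cast h
  have h4 := (Finset.sum_eq_zero_iff_of_nonneg (fun g _ => by positivity)).1 h3 1 (Finset.mem_univ _)
  have h5 : ‖Θ 1‖ = 0 := by
    have := pow_eq_zero_iff (two_ne_zero) |>.1 h4
    exact this
  exact h1 (norm_eq_zero.1 h5)

omit [Fintype G] in
theorem one_irr : IsIrrCharacter G (fun _ => (1 : ℂ)) := Cfsg.Agent.S0161.isIrrCharacter_one

/-- The key criterion. -/
theorem false_of_subchar {χ : G → ℂ} {k : ℕ} (hk : k.Coprime (Nat.card G))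
    (hirr : IsIrrCharacter G (fun g => χ g * χ (g ^ k)))
    {Θ₁ R : G → ℂ} (hΘ : IsCharacter G Θ₁) (hR : IsCharacter G R) (hΘ1 : Θ₁ 1 ≠ 0)
    (hinv : powFn k Θ₁ = Θ₁)
    (hdecomp : ∀ g, χ g * conj (χ g) = 1 + Θ₁ g + R g) : False := by
  set Φ : G → ℂ := fun g => χ g * conj (χ g) with hΦ
  have hone : IsCharacter G (fun _ : G => (1 : ℂ)) := isCharacter_of_irr one_irr
  have hR' : IsCharacter G (powFn k R) := isCharacter_powFn hk hR
  have hΦeq : Φ = (fun _ : G => (1 : ℂ)) + Θ₁ + R := by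
    funext g
    rw [hΦ]
    simp only [Pi.add_apply]
    exact hdecomp g
  have hΦ' : powFn k Φ = (fun _ : G => (1 : ℂ)) + Θ₁ + powFn k R := by
    funext g
    rw [powFn_apply, hΦeq]
    simp only [Pi.add_apply]
    rw [powFn_apply, ← powFn_apply k Θ₁ g, hinv]
  -- the norm of ψ
  have hnorm : classInner (fun g => χ g * χ (g ^ k)) (fun g => χ g * χ (g ^ k)) =
      classInner Φ (powFn k Φ) := by
    unfold classInner
    congr 1
    refine Finset.sum_congr rfl fun g _ => ?_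
    rw [powFn_apply, hΦ]
    simp only [map_mul, Complex.conj_conj]
    ring
  have h1 := classInner_irr_self hirr
  rw [hnorm, hΦeq] at h1
  have hΦ'' : powFn k ((fun _ : G => (1 : ℂ)) + Θ₁ + R) = (fun _ : G => (1 : ℂ)) + Θ₁ + powFn k R := by
    rw [← hΦeq]; exact hΦ'
  rw [hΦ''] at h1
  simp only [classInner_add_left, classInner_add_right] at h1
  obtain ⟨a1, ha1⟩ := classInner_char_nat hone hΘ
  obtain ⟨a2, ha2⟩ := classInner_char_nat hone hR'
  obtain ⟨a3, ha3⟩ := classInner_char_nat hΘ hone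
  obtain ⟨a4, ha4⟩ := classInner_char_nat hΘ hΘ
  obtain ⟨a5, ha5⟩ := classInner_char_nat hΘ hR'
  obtain ⟨a6, ha6⟩ := classInner_char_nat hR hone
  obtain ⟨a7, ha7⟩ := classInner_char_nat hR hΘ
  obtain ⟨a8, ha8⟩ := classInner_char_nat hR hR'
  have h0 := classInner_irr_self (one_irr (G := G))
  have ha40 : a4 ≠ 0 := by
    intro h
    apply classInner_self_ne_zero hΘ1
    rw [ha4, h]; simp
  rw [h0, ha1, ha2, ha3, ha4, ha5, ha6, ha7, ha8] at h1
  have h2 : (1 + a3 + a6 + (a1 + a4 + a7) + (a2 + a5 + a8) : ℕ) = 1 := by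
    have : ((1 + a3 + a6 + (a1 + a4 + a7) + (a2 + a5 + a8) : ℕ) : ℂ) = ((1 : ℕ) : ℂ) := by
      push_cast
      exact h1
    exact_mod_cast this
  omega

end KL

end Cfsg.Agent.Lib.Helper7.GalProd
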