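import Mathlib
import Cfsg.Prelude.Def_Characters
import Cfsg.Agent.Lib.Helper7.GalProd1
import Cfsg.Agent.Lib.Helper1.IndFun
import Cfsg.Agent.Lib.Helper1.CliffordCorr
import Cfsg.Agent.Lib.Helper8.BQ5
import Cfsg.Agent.S0146
import Cfsg.Agent.S0148
import Cfsg.Agent.S0177

set_option autoImplicit false

/-! An irreducible character whose product with a Galois conjugate is irreducible is not induced
from a proper subgroup. -/

namespace Cfsg.Agent.Lib.Helper7.GalProd

open Cfsg Cfsg.Agent.Lib.Helper1 Cfsg.Agent.Lib.Helper4 Cfsg.Agent.Lib.Helper8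
open scoped ComplexConjugate

universe u

section IND

variable {G : Type u} [Group G] [Fintype G]

theorem classInner_conj_conj (a b : G → ℂ) :
    classInner (fun g => conj (a g)) (fun g => conj (b g)) = conj (classInner a b) := by
  unfold classInner
  rw [map_mul, map_inv₀, Complex.conj_natCast, map_sum]
  congr 1
  refine Finset.sum_congr rfl fun g _ => ?_
  rw [map_mul]

theorem classInner_mul_conj_one (a : G → ℂ) :
    classInner (a * fun g => conj (a g)) (fun _ => (1 : ℂ)) = classInner a a := by
  unfold classInner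
  congr 1
  refine Finset.sum_congr rfl fun g _ => ?_
  simp

/-- the permutation character is invariant under coprime power maps -/
theorem powFn_indFun_one {k : ℕ} (hk : k.Coprime (Nat.card G)) (T : Subgroup G) :
    powFn k (indFun T (fun _ => (1 : ℂ))) = indFun T (fun _ => (1 : ℂ)) := by
  funext g
  rw [powFn_apply, indFun_apply, indFun_apply]
  congr 1
  refine Finset.sum_congr rfl fun x _ => ?_
  have h1 : x⁻¹ * g ^ k * x = (x⁻¹ * g * x) ^ k := by
    have := conj_pow (a := x⁻¹) (b := g) (i := k)
    simp only [inv_inv] at this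
    exact this.symm
  rw [h1]
  set y := x⁻¹ * g * x with hy
  by_cases hyT : y ∈ T
  · rw [extendByZero_of_mem _ _ hyT, extendByZero_of_mem _ _ (T.pow_mem hyT k)]
  · have hykT : y ^ k ∉ T := by
      intro h
      apply hyT
      have hco : k.Coprime (orderOf y) :=
        Nat.Coprime.coprime_dvd_right (orderOf_dvd_natCard y) hk
      obtain ⟨m, hm⟩ := exists_pow_eq_self_of_coprime hco
      rw [← hm]
      exact T.pow_mem h m
    rw [extendByZero_of_notMem _ _ hyT, extendByZero_of_notMem _ _ hykT]

theorem false_of_induced {χ : G → ℂ} (hχ : IsIrrCharacter G χ) {k : ℕ}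
    (hk : k.Coprime (Nat.card G))
    (hirr : IsIrrCharacter G (fun g => χ g * χ (g ^ k)))
    (T : Subgroup G) (hT : T ≠ ⊤) (η : T → ℂ) (hη : IsIrrCharacter T η)
    (hind : χ = indFun T η) : False := by
  classical
  have : Fintype T := Fintype.ofFinite T
  set cχ : G → ℂ := fun g => conj (χ g) with hcχ
  set cη : T → ℂ := fun t => conj (η t) with hcη
  have hcχirr : IsIrrCharacter G cχ := isIrrCharacter_conj hχ
  have hcηirr : IsIrrCharacter T cη := isIrrCharacter_conj hη
  have hηc : IsCharacter T η := isCharacter_of_irr hη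
  have hcηc : IsCharacter T cη := isCharacter_of_irr hcηirr
  -- Frobenius reciprocity
  have hfr : classInner (fun t : T => χ t) η = 1 := by
    have h1 := Cfsg.Agent.S0146.result T η χ (isClassFunction_irr hχ)
    rw [← hind, classInner_irr_self hχ] at h1
    rw [← classInner_conj_symm, ← h1]
    simp
  have hfr' : classInner (fun t : T => cχ t) cη = ((1 : ℕ) : ℂ) := by
    have := classInner_conj_conj (fun t : T => χ t) η
    rw [hfr] at this
    simpa using this
  have hcχT : IsCharacter T (fun t : T => cχ t) :=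
    Cfsg.Agent.S0148.isCharacter_restrict T (isCharacter_of_irr hcχirr)
  have hB1 : IsCharacter T ((fun t : T => cχ t) - cη) :=
    isCharacter_sub_irr hcχT hcηirr Nat.one_pos hfr'
  have hηη : IsCharacter T (η * cη) := Cfsg.Agent.S0177.isCharacter_mul hηc hcηc
  have hB2 : IsCharacter T (η * cη - fun _ => (1 : ℂ)) := by
    apply isCharacter_sub_irr hηη one_irr Nat.one_pos
    rw [classInner_mul_conj_one, classInner_irr_self hη]
    simp
  set A : T → ℂ := (η * cη - fun _ => (1 : ℂ)) + η * ((fun t : T => cχ t) - cη) with hA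
  have hAc : IsCharacter T A :=
    isCharacter_add hB2 (Cfsg.Agent.S0177.isCharacter_mul hηc hB1)
  have hprod : (η * fun a : T => cχ a) = (fun _ => (1 : ℂ)) + A := by
    funext t
    simp only [hA, Pi.mul_apply, Pi.add_apply, Pi.sub_apply]
    ring
  -- the induced decomposition
  have hΦ : χ * cχ = indFun T (fun _ => (1 : ℂ)) + indFun T A := by
    conv_lhs => rw [hind]
    rw [Cfsg.Agent.S0177.indFun_mul T η cχ (isClassFunction_irr hcχirr), hprod, indFun_add]
  set Pc : G → ℂ := indFun T (fun _ => (1 : ℂ)) with hPc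
  have hPcc : IsCharacter G Pc :=
    Cfsg.Agent.S0148.result T _ (isCharacter_of_irr one_irr)
  have hPc1 : classInner Pc (fun _ => (1 : ℂ)) = ((1 : ℕ) : ℂ) := by
    rw [hPc, Cfsg.Agent.S0146.result T _ _ (isClassFunction_irr one_irr)]
    rw [classInner_irr_self (one_irr (G := T))]
    simp
  have hΘc : IsCharacter G (Pc - fun _ => (1 : ℂ)) :=
    isCharacter_sub_irr hPcc one_irr Nat.one_pos hPc1
  have hRc : IsCharacter G (indFun T A) := Cfsg.Agent.S0148.result T A hAc
  have hΘ1 : (Pc - fun _ : G => (1 : ℂ)) 1 ≠ 0 := by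
    rw [Pi.sub_apply, hPc, Cfsg.Agent.Lib.Helper8.BQ.indFun_one', mul_one]
    intro h
    have h2 : (T.index : ℂ) = 1 := by linear_combination h
    have h3 : T.index = 1 := by exact_mod_cast h2
    exact hT (Subgroup.index_eq_one.1 h3)
  have hinv : powFn k (Pc - fun _ => (1 : ℂ)) = Pc - fun _ => (1 : ℂ) := by
    funext g
    rw [powFn_apply, Pi.sub_apply, Pi.sub_apply, ← powFn_apply k Pc g, hPc, powFn_indFun_one hk]
  refine false_of_subchar hk hirr hΘc hRc hΘ1 hinv ?_
  intro g
  have := congrFun hΦ g
  simp only [Pi.mul_apply, Pi.add_apply, Pi.sub_apply] at this ⊢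
  rw [this]
  ring

end IND

end Cfsg.Agent.Lib.Helper7.GalProd
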