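import Mathlib
import Cfsg.Prelude.Def_Characters
import Cfsg.Agent.Lib.Helper7.GalProd2
import Cfsg.Agent.Lib.Helper2.ChiefRestrict
import Cfsg.Agent.Lib.Helper4.AbelianIrr

set_option autoImplicit false

/-! Quasi-primitivity; abelian normal subgroups are central. -/

namespace Cfsg.Agent.Lib.Helper7.GalProd

open Cfsg Cfsg.Agent.Lib.Helper1 Cfsg.Agent.Lib.Helper4 Cfsg.Agent.Lib.Helper8
open Cfsg.Agent.S0193
open scoped ComplexConjugate

universe u

section QP

variable {G : Type u} [Group G] [Fintype G]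

theorem quasi_primitive {χ : G → ℂ} (hχ : IsIrrCharacter G χ) {k : ℕ}
    (hk : k.Coprime (Nat.card G))
    (hirr : IsIrrCharacter G (fun g => χ g * χ (g ^ k)))
    (N : Subgroup G) [hN : N.Normal] [Fintype N] (θ : N → ℂ) (hθ : IsIrrCharacter N θ)
    (hcon : classInner (fun n : N => χ n) θ ≠ 0) :
    (∀ g : G, Cfsg.Agent.S0193.conjFun N θ g = θ) ∧
      (fun n : N => χ n) = classInner (fun n : N => χ n) θ • θ := by
  classical
  have hNT : N ≤ inertia N θ := le_inertia N (isClassFunction_irr hθ)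
  obtain ⟨ψ, hψ, hind, -⟩ := clifford_correspondence N θ hθ χ hχ hcon (inertia N θ) rfl hNT
  have hT : inertia N θ = ⊤ := by
    by_contra hT
    exact false_of_induced hχ hk hirr (inertia N θ) hT ψ hψ hind
  have hinv : ∀ g : G, Cfsg.Agent.S0193.conjFun N θ g = θ := by
    intro g
    have : g ∈ inertia N θ := by rw [hT]; exact Subgroup.mem_top g
    exact this
  refine ⟨hinv, ?_⟩
  obtain ⟨F, hFirr, hθF, hFconj, hFcard, hres⟩ :=
    Cfsg.Agent.Lib.Helper2.ChiefRestrict.clifford_finset N hχ hθ hcon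
  have hF : F = {θ} := by
    apply Finset.eq_singleton_iff_unique_mem.2
    refine ⟨hθF, ?_⟩
    intro ψ' hψ'
    obtain ⟨g, rfl⟩ := hFconj ψ' hψ'
    exact hinv g
  rw [hF, Finset.sum_singleton] at hres
  exact hres

/-- abelian normal subgroups are central -/
theorem abelian_normal_central {χ : G → ℂ} (hχ : IsIrrCharacter G χ)
    (hfaith : ∀ g : G, χ g = χ 1 → g = 1) {k : ℕ}
    (hk : k.Coprime (Nat.card G))
    (hirr : IsIrrCharacter G (fun g => χ g * χ (g ^ k)))
    (A : Subgroup G) [hA : A.Normal] (hab : ∀ a ∈ A, ∀ b ∈ A, a * b = b * a) :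
    A ≤ Subgroup.center G := by
  classical
  have : Fintype A := Fintype.ofFinite A
  have hχA : IsCharacter A (fun a : A => χ a) :=
    Cfsg.Agent.S0148.isCharacter_restrict A (isCharacter_of_irr hχ)
  have h1 : (fun a : A => χ a) 1 ≠ 0 := by
    show χ ((1 : A) : G) ≠ 0
    rw [Subgroup.coe_one]
    exact irr_apply_one_ne_zero hχ
  obtain ⟨lam, hlam, m, hm, hin⟩ := exists_constituent hχA h1
  have hcon : classInner (fun a : A => χ a) lam ≠ 0 := by
    rw [hin]
    exact Nat.cast_ne_zero.2 hm.ne'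
  obtain ⟨hinv, hres⟩ := quasi_primitive hχ hk hirr A lam hlam hcon
  have hcomm : ∀ a b : A, a * b = b * a := by
    intro a b
    apply Subtype.ext
    exact hab a a.2 b b.2
  obtain ⟨φ, hφ⟩ := exists_hom_of_comm hcomm hlam
  -- value of χ on A
  have hval : ∀ a : A, χ a = (m : ℂ) * (φ a : ℂ) := by
    intro a
    have := congrFun hres a
    rw [hin, hφ] at this
    simpa using this
  intro a ha
  rw [Subgroup.mem_center_iff]
  intro g
  -- the commutator lies in A and χ takes its degree there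
  have hmem : g * a * g⁻¹ ∈ A := hA.conj_mem a ha g
  have hc : g * a * g⁻¹ * a⁻¹ ∈ A := A.mul_mem hmem (A.inv_mem ha)
  have h2 : χ (g * a * g⁻¹ * a⁻¹) = χ 1 := by
    have e1 := hval ⟨g * a * g⁻¹ * a⁻¹, hc⟩
    have e2 := hval 1
    rw [Subgroup.coe_one, map_one] at e2
    have e3 : (⟨g * a * g⁻¹ * a⁻¹, hc⟩ : A) = ⟨g * a * g⁻¹, hmem⟩ * (⟨a, ha⟩ : A)⁻¹ := by
      apply Subtype.ext
      rfl
    have e4 : (φ ⟨g * a * g⁻¹, hmem⟩ : ℂ) = (φ ⟨a, ha⟩ : ℂ) := by
      have := congrFun (hinv g) ⟨a, ha⟩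
      rw [hφ] at this
      exact this
    have e5 : φ ⟨g * a * g⁻¹, hmem⟩ = φ ⟨a, ha⟩ := Units.ext e4
    show χ ((⟨g * a * g⁻¹ * a⁻¹, hc⟩ : A) : G) = χ 1
    rw [e1, e2, e3, map_mul, map_inv, e5, mul_inv_cancel]
  have h3 := hfaith _ h2
  have h4 : g * a * g⁻¹ = a := by
    have := mul_inv_eq_one.1 h3
    exact this
  calc g * a = g * a * g⁻¹ * g := by group
    _ = a * g := by rw [h4]

end QP

end Cfsg.Agent.Lib.Helper7.GalProd
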