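import Mathlib
import Cfsg.Prelude.Def_Characters
import Cfsg.Agent.Lib.Helper4.CharTools
import Cfsg.Agent.Lib.Helper4.Characters

set_option autoImplicit false

/-! Central elements act by scalars; a faithful irreducible character vanishes on the non-central
elements of a normal subgroup of class two whose centre is central. -/

namespace Cfsg.Agent.Lib.Helper7.GalProd

open Cfsg Cfsg.Agent.Lib.Helper4
open scoped ComplexConjugate

section Scalars

variable {G : Type*} [Group G] [Fintype G] {d : ℕ} (ρ : Representation ℂ G (Fin d → ℂ))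
  [hirr : ρ.IsIrreducible]

include hirr in
theorem dim_ne_zero : (d : ℂ) ≠ 0 := by
  have h : IsIrrCharacter G ρ.character := ⟨d, ρ, hirr, rfl⟩
  have := irr_apply_one_ne_zero h
  rw [Representation.char_one, Module.finrank_fin_fun] at this
  exact this

/-- central elements act by nonzero scalars -/
theorem central_scalar {z : G} (hz : z ∈ Subgroup.center G) :
    ∃ s : ℂ, s ≠ 0 ∧ ρ z = s • LinearMap.id ∧ ρ z⁻¹ = s⁻¹ • LinearMap.id ∧
      ρ.character z = s * d := by
  have hcomm : ∀ (g : G) (v : Fin d → ℂ), ρ z (ρ g v) = ρ g (ρ z v) := by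
    intro g v
    have h1 : ρ (z * g) = ρ (g * z) := by rw [(Subgroup.mem_center_iff.1 hz g)]
    have h3 := congrArg (fun f => f v) h1
    simpa [map_mul] using h3
  obtain ⟨s, hs⟩ := schur_scalar ρ (ρ z) hcomm
  have hd := dim_ne_zero ρ
  have hinv : ρ z * ρ z⁻¹ = 1 := by rw [← map_mul, mul_inv_cancel, map_one]
  have hs0 : s ≠ 0 := by
    intro h
    rw [hs, h, zero_smul, zero_mul] at hinv
    have h2 := congrArg (LinearMap.trace ℂ (Fin d → ℂ)) hinv
    rw [map_zero, LinearMap.trace_one, Module.finrank_fin_fun] at h2
    exact hd h2.symm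
  refine ⟨s, hs0, hs, ?_, ?_⟩
  · rw [hs] at hinv
    have h2 : s • ρ z⁻¹ = 1 := by
      rw [← hinv]
      ext v
      simp
    have h3 : ρ z⁻¹ = s⁻¹ • (s • ρ z⁻¹) := by rw [smul_smul, inv_mul_cancel₀ hs0, one_smul]
    rw [h3, h2]
    rfl
  · unfold Representation.character
    rw [hs, map_smul, ← Module.End.one_eq_id, LinearMap.trace_one, Module.finrank_fin_fun, smul_eq_mul]

theorem char_mul_central {z : G} (hz : z ∈ Subgroup.center G) (y : G) :
    ρ.character (y * z) * d = ρ.character z * ρ.character y := by
  obtain ⟨s, hs0, hs, -, hχ⟩ := central_scalar ρ hz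
  have h1 : ρ.character (y * z) = s * ρ.character y := by
    unfold Representation.character
    rw [map_mul, hs, Module.End.mul_eq_comp, LinearMap.comp_smul, LinearMap.comp_id, map_smul, smul_eq_mul]
  rw [h1, hχ]
  ring

omit [Fintype G] hirr in
/-- faithfulness on the centre -/
theorem central_eq_one_of_char {z : G}
    (hfaith : ∀ g : G, ρ.character g = ρ.character 1 → g = 1)
    (h : ρ.character z = d) : z = 1 := by
  apply hfaith
  rw [h, Representation.char_one, Module.finrank_fin_fun]

/-- vanishing off the centre -/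
theorem char_eq_zero_of_noncomm
    (hfaith : ∀ g : G, ρ.character g = ρ.character 1 → g = 1)
    {n m : G} (hc : m * n * m⁻¹ * n⁻¹ ∈ Subgroup.center G) (hne : m * n ≠ n * m) :
    ρ.character n = 0 := by
  set c := m * n * m⁻¹ * n⁻¹ with hcdef
  have hd := dim_ne_zero ρ
  have h1 : m * n * m⁻¹ = n * c := by
    have := Subgroup.mem_center_iff.1 hc n
    rw [this, hcdef]
    group
  have h2 : ρ.character (m * n * m⁻¹) = ρ.character n := Representation.char_conj ρ n m
  rw [h1] at h2
  have h3 := char_mul_central ρ hc n
  rw [h2] at h3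
  by_contra h0
  have h4 : ρ.character c = d := by
    have : (ρ.character c - d) * ρ.character n = 0 := by linear_combination -h3
    rcases mul_eq_zero.1 this with h | h
    · linear_combination h
    · exact absurd h h0
  have h5 := central_eq_one_of_char ρ hfaith h4
  apply hne
  have : m * n * m⁻¹ * n⁻¹ = 1 := h5
  calc m * n = (m * n * m⁻¹ * n⁻¹) * (n * m) := by group
    _ = n * m := by rw [this, one_mul]

end Scalars

end Cfsg.Agent.Lib.Helper7.GalProd
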