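import Mathlib
import Cfsg.Prelude.Def_Characters
import Cfsg.Agent.Lib.Helper7.GalProd4

set_option autoImplicit false

/-! The equivariant projection of `End W` onto the span of `ρ(M)`. -/

namespace Cfsg.Agent.Lib.Helper7.GalProd

open Cfsg Cfsg.Agent.Lib.Helper4
open scoped ComplexConjugate

section Proj

variable {G : Type*} [Group G] [Fintype G] {d : ℕ} (ρ : Representation ℂ G (Fin d → ℂ))
  (M : Subgroup G) [Fintype M]

/-- the functional `A ↦ tr(ρ(n)⁻¹ A)` -/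
noncomputable def phi (n : G) : Module.End ℂ (Fin d → ℂ) →ₗ[ℂ] ℂ :=
  (LinearMap.trace ℂ (Fin d → ℂ)).comp (LinearMap.mulLeft ℂ (ρ n⁻¹))

theorem phi_apply (n : G) (A : Module.End ℂ (Fin d → ℂ)) :
    phi ρ n A = LinearMap.trace ℂ (Fin d → ℂ) (ρ n⁻¹ * A) := rfl

theorem phi_rho (n m : G) : phi ρ n (ρ m) = ρ.character (n⁻¹ * m) := by
  rw [phi_apply, ← map_mul]
  rfl

open Classical in
/-- the number of central elements of `M` -/
noncomputable def zc : ℕ := (Finset.univ.filter (fun w : M => (w : G) ∈ Subgroup.center G)).card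

theorem zc_pos : 0 < zc M := by
  classical
  unfold zc
  apply Finset.card_pos.2
  refine ⟨1, ?_⟩
  rw [Finset.mem_filter]
  exact ⟨Finset.mem_univ _, by rw [Subgroup.coe_one]; exact Subgroup.one_mem _⟩

/-- the unnormalised projection -/
noncomputable def proj0 : Module.End ℂ (Fin d → ℂ) →ₗ[ℂ] Module.End ℂ (Fin d → ℂ) :=
  ∑ n : M, (phi ρ (n : G)).smulRight (ρ (n : G))

theorem proj0_apply (A : Module.End ℂ (Fin d → ℂ)) :
    proj0 ρ M A = ∑ n : M, phi ρ (n : G) A • ρ (n : G) := by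
  unfold proj0
  rw [LinearMap.sum_apply]
  rfl

/-- the projection -/
noncomputable def proj : Module.End ℂ (Fin d → ℂ) →ₗ[ℂ] Module.End ℂ (Fin d → ℂ) :=
  (((d : ℂ) * (zc M : ℂ))⁻¹) • proj0 ρ M

theorem proj_apply (A : Module.End ℂ (Fin d → ℂ)) :
    proj ρ M A = (((d : ℂ) * (zc M : ℂ))⁻¹) • ∑ n : M, phi ρ (n : G) A • ρ (n : G) := by
  unfold proj
  rw [LinearMap.smul_apply, proj0_apply]

end Proj

section ProjProps

variable {G : Type*} [Group G] [Fintype G] {d : ℕ} (ρ : Representation ℂ G (Fin d → ℂ))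
  [hirr : ρ.IsIrreducible] (M : Subgroup G) [hM : M.Normal] [Fintype M]
  (hfaith : ∀ g : G, ρ.character g = ρ.character 1 → g = 1)
  (hcl : ∀ a ∈ M, ∀ b ∈ M, a * b * a⁻¹ * b⁻¹ ∈ Subgroup.center G)
  (hcen : ∀ a ∈ M, (∀ b ∈ M, a * b = b * a) → a ∈ Subgroup.center G)

include hirr hfaith hcl hcen in
theorem char_vanish {n : G} (hn : n ∈ M) (hnz : n ∉ Subgroup.center G) : ρ.character n = 0 := by
  have h1 : ¬ ∀ b ∈ M, n * b = b * n := fun h => hnz (hcen n hn h)
  push Not at h1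
  obtain ⟨b, hb, hne⟩ := h1
  exact char_eq_zero_of_noncomm ρ hfaith (hcl b hb n hn) (fun h => hne h.symm)

include hirr hfaith hcl hcen in
/-- `Σ_w χ(w) ρ(m w⁻¹) = d · zc · ρ(m)` -/
theorem sum_char_smul (m : G) :
    ∑ w : M, ρ.character (w : G) • ρ (m * (w : G)⁻¹) = ((d : ℂ) * (zc M : ℂ)) • ρ m := by
  classical
  have h1 : ∀ w : M, ρ.character (w : G) • ρ (m * (w : G)⁻¹) =
      if (w : G) ∈ Subgroup.center G then (d : ℂ) • ρ m else 0 := by
    intro w
    by_cases hw : (w : G) ∈ Subgroup.center G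
    · rw [if_pos hw]
      obtain ⟨s, hs0, -, hs', hχ⟩ := central_scalar ρ hw
      rw [map_mul, hs', hχ, Module.End.mul_eq_comp, LinearMap.comp_smul, LinearMap.comp_id, smul_smul]
      congr 1
      field_simp
    · rw [if_neg hw, char_vanish ρ M hfaith hcl hcen w.2 hw, zero_smul]
  rw [Finset.sum_congr rfl (fun w _ => h1 w), Finset.sum_ite, Finset.sum_const_zero, add_zero,
    Finset.sum_const]
  unfold zc
  rw [← Nat.cast_smul_eq_nsmul ℂ, smul_smul, mul_comm]

include hirr hfaith hcl hcen in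
/-- `P` fixes `ρ(m)` for `m ∈ M`. -/
theorem proj_rho {m : G} (hm : m ∈ M) : proj ρ M (ρ m) = ρ m := by
  classical
  rw [proj_apply]
  have h1 : ∑ n : M, phi ρ (n : G) (ρ m) • ρ (n : G) =
      ∑ w : M, ρ.character (w : G) • ρ (m * (w : G)⁻¹) := by
    let e : M ≃ M := (Equiv.inv M).trans (Equiv.mulRight (⟨m, hm⟩ : M))
    rw [← Equiv.sum_comp e (fun w : M => ρ.character (w : G) • ρ (m * (w : G)⁻¹))]
    refine Finset.sum_congr rfl fun n _ => ?_
    have he : ((e n : M) : G) = (n : G)⁻¹ * m := rfl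
    rw [he, phi_rho]
    congr 2
    group
  rw [h1, sum_char_smul ρ M hfaith hcl hcen, smul_smul, inv_mul_cancel₀, one_smul]
  exact mul_ne_zero (dim_ne_zero ρ) (Nat.cast_ne_zero.2 (zc_pos M).ne')

include hirr hfaith hcl hcen in
theorem proj_idem : proj ρ M ∘ₗ proj ρ M = proj ρ M := by
  ext1 A
  rw [LinearMap.comp_apply]
  conv_lhs => rw [proj_apply ρ M A]
  rw [map_smul, map_sum]
  conv_rhs => rw [proj_apply ρ M A]
  congr 1
  refine Finset.sum_congr rfl fun n _ => ?_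
  rw [map_smul, proj_rho ρ M hfaith hcl hcen n.2]

include hirr hfaith hcl hcen in
/-- `tr(P A) = tr A` -/
theorem trace_proj (A : Module.End ℂ (Fin d → ℂ)) :
    LinearMap.trace ℂ (Fin d → ℂ) (proj ρ M A) = LinearMap.trace ℂ (Fin d → ℂ) A := by
  classical
  rw [proj_apply, map_smul, map_sum]
  have h1 : ∀ n : M, LinearMap.trace ℂ (Fin d → ℂ) (phi ρ (n : G) A • ρ (n : G)) =
      if (n : G) ∈ Subgroup.center G then (d : ℂ) * LinearMap.trace ℂ (Fin d → ℂ) A else 0 := by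
    intro n
    rw [map_smul, smul_eq_mul]
    by_cases hn : (n : G) ∈ Subgroup.center G
    · rw [if_pos hn]
      obtain ⟨s, hs0, -, hs', hχ⟩ := central_scalar ρ hn
      have h2 : LinearMap.trace ℂ (Fin d → ℂ) (ρ (n : G)) = s * d := hχ
      rw [h2, phi_apply, hs', Module.End.mul_eq_comp, LinearMap.smul_comp, LinearMap.id_comp,
        map_smul, smul_eq_mul]
      field_simp
    · rw [if_neg hn]
      have h2 : LinearMap.trace ℂ (Fin d → ℂ) (ρ (n : G)) = 0 :=
        char_vanish ρ M hfaith hcl hcen n.2 hn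
      rw [h2, mul_zero]
  rw [Finset.sum_congr rfl (fun n _ => h1 n), Finset.sum_ite, Finset.sum_const_zero, add_zero,
    Finset.sum_const, smul_eq_mul, nsmul_eq_mul]
  have h0 : ((d : ℂ) * (zc M : ℂ)) ≠ 0 :=
    mul_ne_zero (dim_ne_zero ρ) (Nat.cast_ne_zero.2 (zc_pos M).ne')
  unfold zc at h0 ⊢
  have hgen : ∀ (c t : ℂ), ((d : ℂ) * c) ≠ 0 → ((d : ℂ) * c)⁻¹ * (c * ((d : ℂ) * t)) = t := by
    intro c t h
    rw [show c * ((d : ℂ) * t) = ((d : ℂ) * c) * t by ring, inv_mul_cancel_left₀ h]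
  exact hgen _ _ h0

end ProjProps

end Cfsg.Agent.Lib.Helper7.GalProd
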