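import Mathlib
import Cfsg.Prelude.Def_Characters
import Cfsg.Agent.Lib.Helper1.CharFound1
import Cfsg.Agent.Lib.Helper7.GalProd5

set_option autoImplicit false

/-! Equivariant idempotents give sub-characters. -/

namespace Cfsg.Agent.Lib.Helper7.GalProd

open Cfsg Cfsg.Agent.Lib.Helper1 Cfsg.Agent.Lib.Helper4
open scoped ComplexConjugate

section Idem

variable {G : Type*} [Group G] {E : Type*} [AddCommGroup E] [Module ℂ E] [FiniteDimensional ℂ E]

/-- the trace of `σ g ∘ Q` for an equivariant idempotent `Q` is a character -/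
theorem isCharacter_trace_comp (σ : Representation ℂ G E) (Q : E →ₗ[ℂ] E) (hQ : Q ∘ₗ Q = Q)
    (hcomm : ∀ g, σ g ∘ₗ Q = Q ∘ₗ σ g) :
    IsCharacter G (fun g => LinearMap.trace ℂ E (σ g ∘ₗ Q)) := by
  let S : Subrepresentation σ :=
    { toSubmodule := LinearMap.range Q
      apply_mem_toSubmodule := by
        intro g v hv
        obtain ⟨w, rfl⟩ := hv
        refine ⟨σ g w, ?_⟩
        have := LinearMap.congr_fun (hcomm g) w
        simp only [LinearMap.comp_apply] at this
        exact this.symm }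
  have hc := isCharacter_character S.toRepresentation
  have heq : S.toRepresentation.character = fun g => LinearMap.trace ℂ E (σ g ∘ₗ Q) := by
    funext g
    unfold Representation.character
    let ι : LinearMap.range Q →ₗ[ℂ] E := (LinearMap.range Q).subtype
    let π : E →ₗ[ℂ] LinearMap.range Q := Q.rangeRestrict
    have h1 : π ∘ₗ ι = LinearMap.id := by
      ext u
      obtain ⟨w, hw⟩ := u.2
      show Q (u : E) = (u : E)
      rw [← hw]
      have := LinearMap.congr_fun hQ w
      simpa using this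
    have h2 : σ g ∘ₗ Q = ι ∘ₗ (S.toRepresentation g ∘ₗ π) := by
      ext x
      rfl
    rw [h2, LinearMap.trace_comp_comm', LinearMap.comp_assoc, h1, LinearMap.comp_id]
  rw [heq] at hc
  exact hc

end Idem

section Equivariance

variable {G : Type*} [Group G] [Fintype G] {d : ℕ} (ρ : Representation ℂ G (Fin d → ℂ))
  (M : Subgroup G) [hM : M.Normal] [Fintype M]

theorem linHom_rho (g n : G) : Representation.linHom ρ ρ g (ρ n) = ρ (g * n * g⁻¹) := by
  rw [Representation.linHom_apply, map_mul, map_mul]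
  rfl

theorem phi_linHom (g n : G) (A : Module.End ℂ (Fin d → ℂ)) :
    phi ρ n (Representation.linHom ρ ρ g A) = phi ρ (g⁻¹ * n * g) A := by
  rw [phi_apply, phi_apply, Representation.linHom_apply]
  have h1 : ρ n⁻¹ * (ρ g ∘ₗ A ∘ₗ ρ g⁻¹) = (ρ n⁻¹ * ρ g * A) * ρ g⁻¹ := by
    simp only [Module.End.mul_eq_comp, LinearMap.comp_assoc]
  rw [h1, LinearMap.trace_mul_comm]
  congr 1
  rw [← mul_assoc, ← mul_assoc, ← map_mul, ← map_mul]
  congr 2
  group

include hM in
theorem proj_comm (g : G) (A : Module.End ℂ (Fin d → ℂ)) :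
    Representation.linHom ρ ρ g (proj ρ M A) = proj ρ M (Representation.linHom ρ ρ g A) := by
  rw [proj_apply, proj_apply, map_smul, map_sum]
  congr 1
  rw [← Equiv.sum_comp (MulAut.conjNormal g : M ≃* M).toEquiv
    (fun n : M => phi ρ (n : G) (Representation.linHom ρ ρ g A) • ρ (n : G))]
  refine Finset.sum_congr rfl fun m _ => ?_
  have he : (((MulAut.conjNormal g : M ≃* M).toEquiv m : M) : G) = g * (m : G) * g⁻¹ := rfl
  rw [he, map_smul, linHom_rho, phi_linHom]
  congr 2
  group

omit hM in
/-- the trace formula -/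
theorem trace_linHom_proj (g : G) :
    LinearMap.trace ℂ _ (Representation.linHom ρ ρ g ∘ₗ proj ρ M) =
      (((d : ℂ) * (zc M : ℂ))⁻¹) * ∑ n : M, ρ.character ((n : G)⁻¹ * (g * (n : G) * g⁻¹)) := by
  have h1 : Representation.linHom ρ ρ g ∘ₗ proj ρ M =
      (((d : ℂ) * (zc M : ℂ))⁻¹) • ∑ n : M, (phi ρ (n : G)).smulRight (ρ (g * (n : G) * g⁻¹)) := by
    ext1 A
    rw [LinearMap.comp_apply, proj_apply, map_smul, map_sum, LinearMap.smul_apply,
      LinearMap.sum_apply]
    congr 1
    refine Finset.sum_congr rfl fun n _ => ?_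
    rw [map_smul, linHom_rho]
    rfl
  rw [h1, map_smul, map_sum, smul_eq_mul]
  congr 1
  refine Finset.sum_congr rfl fun n _ => ?_
  rw [LinearMap.trace_smulRight, phi_rho]

end Equivariance

end Cfsg.Agent.Lib.Helper7.GalProd
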