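import Mathlib
import Cfsg.Prelude.Def_Characters
import Cfsg.Agent.Lib.Helper7.GalProd6

set_option autoImplicit false

/-! The conjugation sum `S(g) = Σ_{n ∈ M} χ(n⁻¹ g n g⁻¹)` is invariant under coprime powers. -/

namespace Cfsg.Agent.Lib.Helper7.GalProd

open Cfsg Cfsg.Agent.Lib.Helper1 Cfsg.Agent.Lib.Helper4
open scoped ComplexConjugate

section Good

variable {G : Type*} [Group G]

/-- `g` is good for `M`: commutators with elements of `M` that are central are trivial -/
def Good (M : Subgroup G) (g : G) : Prop :=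
  ∀ m ∈ M, m⁻¹ * (g * m * g⁻¹) ∈ Subgroup.center G → m⁻¹ * (g * m * g⁻¹) = 1

theorem comm_iff_pow {x n : G} {a b : ℕ} (hab : (x ^ a) ^ b = x) :
    n⁻¹ * (x * n * x⁻¹) = 1 ↔ n⁻¹ * (x ^ a * n * (x ^ a)⁻¹) = 1 := by
  have h1 : ∀ y : G, n⁻¹ * (y * n * y⁻¹) = 1 ↔ Commute y n := by
    intro y
    constructor
    · intro h
      have h2 : y * n * y⁻¹ = n := by
        have := congrArg (fun t => n * t) h
        simpa [mul_assoc] using this
      show y * n = n * y
      calc y * n = y * n * y⁻¹ * y := by group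
        _ = n * y := by rw [h2]
    · intro h
      have h2 : y * n = n * y := h
      rw [h2]
      group
  rw [h1, h1]
  constructor
  · intro h
    exact h.pow_left a
  · intro h
    have := h.pow_left b
    rwa [hab] at this

theorem good_pow (M : Subgroup G) {x : G} {a b : ℕ} (hab : (x ^ a) ^ b = x) (hx : Good M x) :
    Good M (x ^ a) := by
  intro m hm hz
  set z := m⁻¹ * (x ^ a * m * (x ^ a)⁻¹) with hzdef
  have hzc : ∀ y : G, z * y = y * z := fun y => (Subgroup.mem_center_iff.1 hz y).symm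
  -- m⁻¹ x^a m = z x^a
  have h1 : m⁻¹ * x ^ a * m = z * x ^ a := by
    rw [hzdef]; group
  have h2 : ∀ j : ℕ, m⁻¹ * (x ^ a) ^ j * m = z ^ j * (x ^ a) ^ j := by
    intro j
    induction j with
    | zero => simp
    | succ j ih =>
      have e1 : m⁻¹ * (x ^ a) ^ (j + 1) * m = (m⁻¹ * (x ^ a) ^ j * m) * (m⁻¹ * x ^ a * m) := by
        rw [pow_succ]; group
      rw [e1, ih, h1, pow_succ, pow_succ]
      calc z ^ j * (x ^ a) ^ j * (z * x ^ a) = z ^ j * ((x ^ a) ^ j * z) * x ^ a := by group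
        _ = z ^ j * (z * (x ^ a) ^ j) * x ^ a := by rw [hzc]
        _ = z ^ j * z * ((x ^ a) ^ j * x ^ a) := by group
  have h3 := h2 b
  rw [hab] at h3
  have h4 : m⁻¹ * (x * m * x⁻¹) = z ^ b := by
    have : m⁻¹ * (x * m * x⁻¹) = (m⁻¹ * x * m) * x⁻¹ := by group
    rw [this, h3]; group
  have h5 : m⁻¹ * (x * m * x⁻¹) = 1 := by
    apply hx m hm
    rw [h4]
    exact Subgroup.pow_mem _ hz b
  exact (comm_iff_pow hab).1 h5

end Good

section Sum

variable {G : Type*} [Group G] [Fintype G] {d : ℕ} (ρ : Representation ℂ G (Fin d → ℂ))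
  [hirr : ρ.IsIrreducible] (M : Subgroup G) [hM : M.Normal] [Fintype M]
  (hfaith : ∀ g : G, ρ.character g = ρ.character 1 → g = 1)
  (hcl : ∀ a ∈ M, ∀ b ∈ M, a * b * a⁻¹ * b⁻¹ ∈ Subgroup.center G)
  (hcen : ∀ a ∈ M, (∀ b ∈ M, a * b = b * a) → a ∈ Subgroup.center G)

/-- the conjugation sum -/
noncomputable def csum (g : G) : ℂ := ∑ n : M, ρ.character ((n : G)⁻¹ * (g * (n : G) * g⁻¹))

include hirr hfaith in
theorem csum_eq_zero_of_not_good {g : G} (hg : ¬ Good M g) : csum ρ M g = 0 := by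
  classical
  unfold Good at hg
  push Not at hg
  obtain ⟨m, hm, hz, hz1⟩ := hg
  set z := m⁻¹ * (g * m * g⁻¹) with hzdef
  have hd := dim_ne_zero ρ
  -- translation
  have h1 : ∀ n : M, ρ.character (((n * ⟨m, hm⟩ : M) : G)⁻¹ * (g * ((n * ⟨m, hm⟩ : M) : G) * g⁻¹)) * d
      = ρ.character z * ρ.character ((n : G)⁻¹ * (g * (n : G) * g⁻¹)) := by
    intro n
    have e1 : ((n * ⟨m, hm⟩ : M) : G)⁻¹ * (g * ((n * ⟨m, hm⟩ : M) : G) * g⁻¹) =
        (m⁻¹ * ((n : G)⁻¹ * (g * (n : G) * g⁻¹)) * m⁻¹⁻¹) * z := by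
      rw [hzdef, Subgroup.coe_mul]
      show ((n : G) * m)⁻¹ * (g * ((n : G) * m) * g⁻¹) = _
      group
    rw [e1, char_mul_central ρ hz, Representation.char_conj]
  have hsum : csum ρ M g = ∑ n : M,
      ρ.character (((n * ⟨m, hm⟩ : M) : G)⁻¹ * (g * ((n * ⟨m, hm⟩ : M) : G) * g⁻¹)) := by
    unfold csum
    exact (Equiv.sum_comp (Equiv.mulRight (⟨m, hm⟩ : M))
      (fun n : M => ρ.character ((n : G)⁻¹ * (g * (n : G) * g⁻¹)))).symm
  have h2 : csum ρ M g * d = ρ.character z * csum ρ M g := by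
    conv_lhs => rw [hsum]
    unfold csum
    rw [Finset.sum_mul, Finset.mul_sum]
    exact Finset.sum_congr rfl fun n _ => h1 n
  by_contra h0
  have h3 : ρ.character z = d := by
    have : (ρ.character z - d) * csum ρ M g = 0 := by linear_combination -h2
    rcases mul_eq_zero.1 this with h | h
    · linear_combination h
    · exact absurd h h0
  exact hz1 (central_eq_one_of_char ρ hfaith h3)

open Classical in
include hirr hfaith hcl hcen in
theorem csum_of_good {g : G} (hg : Good M g) :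
    csum ρ M g = (d : ℂ) *
      ((Finset.univ.filter (fun n : M => (n : G)⁻¹ * (g * (n : G) * g⁻¹) = 1)).card : ℂ) := by
  classical
  unfold csum
  have h1 : ∀ n : M, ρ.character ((n : G)⁻¹ * (g * (n : G) * g⁻¹)) =
      if (n : G)⁻¹ * (g * (n : G) * g⁻¹) = 1 then (d : ℂ) else 0 := by
    intro n
    by_cases h : (n : G)⁻¹ * (g * (n : G) * g⁻¹) = 1
    · rw [if_pos h, h, Representation.char_one, Module.finrank_fin_fun]
    · rw [if_neg h]
      have hmem : (n : G)⁻¹ * (g * (n : G) * g⁻¹) ∈ M :=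
        M.mul_mem (M.inv_mem n.2) (hM.conj_mem _ n.2 g)
      apply char_vanish ρ M hfaith hcl hcen hmem
      intro hc
      exact h (hg n n.2 hc)
  rw [Finset.sum_congr rfl (fun n _ => h1 n), Finset.sum_ite, Finset.sum_const_zero, add_zero,
    Finset.sum_const, nsmul_eq_mul, mul_comm]

include hirr hfaith hcl hcen in
theorem csum_pow {k : ℕ} (hk : k.Coprime (Nat.card G)) (g : G) :
    csum ρ M (g ^ k) = csum ρ M g := by
  classical
  have hco : k.Coprime (orderOf g) := Nat.Coprime.coprime_dvd_right (orderOf_dvd_natCard g) hk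
  obtain ⟨b, hb⟩ := exists_pow_eq_self_of_coprime hco
  have hb' : ((g ^ k) ^ b) ^ k = g ^ k := by rw [hb]
  by_cases hg : Good M g
  · have hgk : Good M (g ^ k) := good_pow M hb hg
    rw [csum_of_good ρ M hfaith hcl hcen hg, csum_of_good ρ M hfaith hcl hcen hgk]
    have hf : (Finset.univ.filter (fun n : M => (n : G)⁻¹ * (g ^ k * (n : G) * (g ^ k)⁻¹) = 1)) =
        (Finset.univ.filter (fun n : M => (n : G)⁻¹ * (g * (n : G) * g⁻¹) = 1)) := by
      apply Finset.filter_congr
      intro n _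
      exact (comm_iff_pow hb).symm
    rw [hf]
  · have hgk : ¬ Good M (g ^ k) := by
      intro h
      apply hg
      have := good_pow M hb' h
      rwa [hb] at this
    rw [csum_eq_zero_of_not_good ρ M hfaith hg, csum_eq_zero_of_not_good ρ M hfaith hgk]

end Sum

end Cfsg.Agent.Lib.Helper7.GalProd
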