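import Mathlib
import Cfsg.Prelude.Def_Characters
import Cfsg.Agent.Lib.Helper7.GalProd3
import Cfsg.Agent.Lib.Helper7.GalProd7

set_option autoImplicit false

/-! The class-two case. -/

namespace Cfsg.Agent.Lib.Helper7.GalProd

open Cfsg Cfsg.Agent.Lib.Helper1 Cfsg.Agent.Lib.Helper4 Cfsg.Agent.Lib.Helper8
open scoped ComplexConjugate

section ProjOne

variable {G : Type*} [Group G] [Fintype G] {d : ℕ} (ρ : Representation ℂ G (Fin d → ℂ))

/-- the projection onto the scalars -/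
noncomputable def projOne : Module.End ℂ (Fin d → ℂ) →ₗ[ℂ] Module.End ℂ (Fin d → ℂ) :=
  (((d : ℂ)⁻¹) • LinearMap.trace ℂ (Fin d → ℂ)).smulRight (1 : Module.End ℂ (Fin d → ℂ))

omit [Fintype G] in
theorem projOne_apply (A : Module.End ℂ (Fin d → ℂ)) :
    projOne (d := d) A = ((d : ℂ)⁻¹ * LinearMap.trace ℂ (Fin d → ℂ) A) •
      (1 : Module.End ℂ (Fin d → ℂ)) := rfl

theorem linHom_one (g : G) : Representation.linHom ρ ρ g 1 = 1 := by
  have := linHom_rho ρ g 1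
  rw [map_one] at this
  rw [this]
  simp

omit [Fintype G] in
theorem trace_linHom (g : G) (A : Module.End ℂ (Fin d → ℂ)) :
    LinearMap.trace ℂ (Fin d → ℂ) (Representation.linHom ρ ρ g A) =
      LinearMap.trace ℂ (Fin d → ℂ) A := by
  rw [Representation.linHom_apply]
  have h1 : ρ g ∘ₗ A ∘ₗ ρ g⁻¹ = (ρ g * A) * ρ g⁻¹ := by
    simp only [Module.End.mul_eq_comp, LinearMap.comp_assoc]
  rw [h1, LinearMap.trace_mul_comm, ← mul_assoc, ← map_mul, inv_mul_cancel, map_one, one_mul]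

end ProjOne

section ClassTwo

variable {G : Type*} [Group G] [Fintype G] {d : ℕ} (ρ : Representation ℂ G (Fin d → ℂ))
  [hirr : ρ.IsIrreducible] (M : Subgroup G) [hM : M.Normal] [Fintype M]
  (hfaith : ∀ g : G, ρ.character g = ρ.character 1 → g = 1)
  (hcl : ∀ a ∈ M, ∀ b ∈ M, a * b * a⁻¹ * b⁻¹ ∈ Subgroup.center G)
  (hcen : ∀ a ∈ M, (∀ b ∈ M, a * b = b * a) → a ∈ Subgroup.center G)

include hirr hfaith hcl hcen in
theorem false_of_class_two {k : ℕ} (hk : k.Coprime (Nat.card G))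
    (hprod : IsIrrCharacter G (fun g => ρ.character g * ρ.character (g ^ k)))
    (hnc : ∃ a ∈ M, a ∉ Subgroup.center G) : False := by
  classical
  have hd := dim_ne_zero ρ
  set E := Module.End ℂ (Fin d → ℂ)
  set c := Representation.linHom ρ ρ with hc
  set P : E →ₗ[ℂ] E := proj ρ M with hP
  set P₀ : E →ₗ[ℂ] E := projOne (d := d) with hP₀
  have hPP : P ∘ₗ P = P := proj_idem ρ M hfaith hcl hcen
  have hPc : ∀ g, c g ∘ₗ P = P ∘ₗ c g := by
    intro g
    ext1 A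
    exact proj_comm ρ M g A
  have hP₀P₀ : P₀ ∘ₗ P₀ = P₀ := by
    ext1 A
    rw [LinearMap.comp_apply, hP₀, projOne_apply, projOne_apply, map_smul, LinearMap.trace_one,
      Module.finrank_fin_fun, smul_eq_mul]
    congr 1
    field_simp
  have hP₀c : ∀ g, c g ∘ₗ P₀ = P₀ ∘ₗ c g := by
    intro g
    ext1 A
    rw [LinearMap.comp_apply, LinearMap.comp_apply, hP₀, projOne_apply, projOne_apply, map_smul,
      hc, linHom_one, trace_linHom]
  have hPP₀ : P ∘ₗ P₀ = P₀ := by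
    ext1 A
    rw [LinearMap.comp_apply, hP₀, projOne_apply, map_smul]
    congr 1
    have := proj_rho ρ M hfaith hcl hcen (M.one_mem)
    rw [map_one] at this
    exact this
  have hP₀P : P₀ ∘ₗ P = P₀ := by
    ext1 A
    rw [LinearMap.comp_apply, hP₀, projOne_apply, projOne_apply, hP,
      trace_proj ρ M hfaith hcl hcen]
  -- the two idempotents
  set Q₁ : E →ₗ[ℂ] E := P - P₀ with hQ₁
  set Q₂ : E →ₗ[ℂ] E := LinearMap.id - P with hQ₂
  have hQ₁Q₁ : Q₁ ∘ₗ Q₁ = Q₁ := by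
    rw [hQ₁, LinearMap.sub_comp, LinearMap.comp_sub, LinearMap.comp_sub, hPP, hPP₀, hP₀P, hP₀P₀]
    abel
  have hQ₂Q₂ : Q₂ ∘ₗ Q₂ = Q₂ := by
    rw [hQ₂, LinearMap.sub_comp, LinearMap.comp_sub, LinearMap.comp_sub, hPP, LinearMap.id_comp,
      LinearMap.comp_id, LinearMap.id_comp]
    abel
  have hQ₁c : ∀ g, c g ∘ₗ Q₁ = Q₁ ∘ₗ c g := by
    intro g
    rw [hQ₁, LinearMap.comp_sub, LinearMap.sub_comp, hPc, hP₀c]
  have hQ₂c : ∀ g, c g ∘ₗ Q₂ = Q₂ ∘ₗ c g := by
    intro g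
    rw [hQ₂, LinearMap.comp_sub, LinearMap.sub_comp, hPc, LinearMap.comp_id, LinearMap.id_comp]
  have hΘc := isCharacter_trace_comp c Q₁ hQ₁Q₁ hQ₁c
  have hRc := isCharacter_trace_comp c Q₂ hQ₂Q₂ hQ₂c
  -- traces
  have htrP : ∀ g, LinearMap.trace ℂ E (c g ∘ₗ P) =
      (((d : ℂ) * (zc M : ℂ))⁻¹) * csum ρ M g := fun g => trace_linHom_proj ρ M g
  have htrP₀ : ∀ g, LinearMap.trace ℂ E (c g ∘ₗ P₀) = 1 := by
    intro g
    have h1 : c g ∘ₗ P₀ = P₀ := by
      ext1 A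
      rw [LinearMap.comp_apply, hP₀, projOne_apply, map_smul, hc, linHom_one]
    rw [h1, hP₀]
    unfold projOne
    rw [LinearMap.trace_smulRight, LinearMap.smul_apply, LinearMap.trace_one,
      Module.finrank_fin_fun, smul_eq_mul, inv_mul_cancel₀ hd]
  have htrc : ∀ g, LinearMap.trace ℂ E (c g) = ρ.character g * conj (ρ.character g) := by
    intro g
    have := Representation.char_linHom ρ ρ g
    unfold Representation.character at this ⊢
    rw [hc, this]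
    have h2 := character_inv ρ g
    unfold Representation.character at h2
    rw [h2, mul_comm]
  have hΘ : ∀ g, LinearMap.trace ℂ E (c g ∘ₗ Q₁) =
      (((d : ℂ) * (zc M : ℂ))⁻¹) * csum ρ M g - 1 := by
    intro g
    rw [hQ₁, LinearMap.comp_sub]
    have h := (LinearMap.trace ℂ E).map_sub (c g ∘ₗ P) (c g ∘ₗ P₀)
    rw [htrP, htrP₀] at h
    exact h
  have hR : ∀ g, LinearMap.trace ℂ E (c g ∘ₗ Q₂) =
      ρ.character g * conj (ρ.character g) - (((d : ℂ) * (zc M : ℂ))⁻¹) * csum ρ M g := by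
    intro g
    rw [hQ₂, LinearMap.comp_sub]
    have h := (LinearMap.trace ℂ E).map_sub (c g ∘ₗ LinearMap.id) (c g ∘ₗ P)
    rw [htrP, LinearMap.comp_id, htrc] at h
    exact h
  -- degree
  have hz0 : ((d : ℂ) * (zc M : ℂ)) ≠ 0 :=
    mul_ne_zero hd (Nat.cast_ne_zero.2 (zc_pos M).ne')
  have hcs1 : csum ρ M 1 = (d : ℂ) * (Fintype.card M : ℂ) := by
    unfold csum
    have : ∀ n : M, ρ.character ((n : G)⁻¹ * (1 * (n : G) * 1⁻¹)) = d := by
      intro n
      have e : (n : G)⁻¹ * (1 * (n : G) * 1⁻¹) = 1 := by group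
      rw [e, Representation.char_one, Module.finrank_fin_fun]
    rw [Finset.sum_congr rfl (fun n _ => this n), Finset.sum_const, Finset.card_univ, nsmul_eq_mul,
      mul_comm]
  have hlt : zc M < Fintype.card M := by
    unfold zc
    rw [← Finset.card_univ]
    apply Finset.card_lt_card
    rw [Finset.ssubset_iff_of_subset (Finset.filter_subset _ _)]
    obtain ⟨a, ha, hac⟩ := hnc
    refine ⟨⟨a, ha⟩, Finset.mem_univ _, ?_⟩
    rw [Finset.mem_filter]
    exact fun h => hac h.2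
  have hΘ1 : (fun g => LinearMap.trace ℂ E (c g ∘ₗ Q₁)) 1 ≠ 0 := by
    show LinearMap.trace ℂ E (c 1 ∘ₗ Q₁) ≠ 0
    rw [hΘ, hcs1]
    intro h
    have h' : ((d : ℂ) * (zc M : ℂ))⁻¹ * ((d : ℂ) * (Fintype.card M : ℂ)) = 1 := sub_eq_zero.1 h
    have h2 : (d : ℂ) * (Fintype.card M : ℂ) = (d : ℂ) * (zc M : ℂ) := by
      rw [inv_mul_eq_one₀ hz0] at h'
      exact h'.symm
    have h3 : (Fintype.card M : ℂ) = (zc M : ℂ) := mul_left_cancel₀ hd h2
    have h4 : Fintype.card M = zc M := by exact_mod_cast h3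
    omega
  have hinv : powFn k (fun g => LinearMap.trace ℂ E (c g ∘ₗ Q₁)) =
      fun g => LinearMap.trace ℂ E (c g ∘ₗ Q₁) := by
    funext g
    rw [powFn_apply, hΘ, hΘ, csum_pow ρ M hfaith hcl hcen hk]
  refine false_of_subchar hk hprod hΘc hRc hΘ1 hinv ?_
  intro g
  show _ = 1 + LinearMap.trace ℂ E (c g ∘ₗ Q₁) + LinearMap.trace ℂ E (c g ∘ₗ Q₂)
  rw [hΘ, hR]
  ring

end ClassTwo

end Cfsg.Agent.Lib.Helper7.GalProd
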