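import Mathlib
import Cfsg.Prelude.Def_Characters
import Cfsg.Prelude.Def_Solvable
import Cfsg.Agent.Lib.Helper7.GalProd8

set_option autoImplicit false

/-! Nilpotent normal subgroups are central. -/

namespace Cfsg.Agent.Lib.Helper7.GalProd

open Cfsg Cfsg.Agent.Lib.Helper1 Cfsg.Agent.Lib.Helper4 Cfsg.Agent.Lib.Helper8
open scoped ComplexConjugate

universe u

section ClassTwoSub

variable {G : Type u} [Group G]

/-- the elements of `N` whose commutators with `N` are central in `G` -/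
def secondCenter (N : Subgroup G) : Subgroup G where
  carrier := {n | n ∈ N ∧ ∀ f ∈ N, n * f * n⁻¹ * f⁻¹ ∈ Subgroup.center G}
  one_mem' := by
    refine ⟨N.one_mem, fun f _ => ?_⟩
    have : (1 : G) * f * 1⁻¹ * f⁻¹ = 1 := by group
    rw [this]
    exact Subgroup.one_mem _
  mul_mem' := by
    rintro a b ⟨ha, ha'⟩ ⟨hb, hb'⟩
    refine ⟨N.mul_mem ha hb, fun f hf => ?_⟩
    have h1 := ha' f hf
    have h2 := hb' f hf
    have e : a * b * f * (a * b)⁻¹ * f⁻¹ = a * (b * f * b⁻¹ * f⁻¹) * a⁻¹ * (a * f * a⁻¹ * f⁻¹) := by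
      group
    rw [e]
    have h3 : a * (b * f * b⁻¹ * f⁻¹) * a⁻¹ = b * f * b⁻¹ * f⁻¹ := by
      rw [Subgroup.mem_center_iff] at h2
      rw [h2 a, mul_assoc, mul_inv_cancel, mul_one]
    rw [h3]
    exact Subgroup.mul_mem _ h2 h1
  inv_mem' := by
    rintro a ⟨ha, ha'⟩
    refine ⟨N.inv_mem ha, fun f hf => ?_⟩
    have h1 := ha' f hf
    have e : a⁻¹ * f * a⁻¹⁻¹ * f⁻¹ = a⁻¹ * (a * f * a⁻¹ * f⁻¹)⁻¹ * a := by group
    rw [e]
    have h2 := Subgroup.inv_mem _ h1
    have h3 : a⁻¹ * (a * f * a⁻¹ * f⁻¹)⁻¹ * a = (a * f * a⁻¹ * f⁻¹)⁻¹ := by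
      rw [Subgroup.mem_center_iff] at h2
      rw [h2 a⁻¹, mul_assoc, inv_mul_cancel, mul_one]
    rw [h3]
    exact h2

theorem mem_secondCenter {N : Subgroup G} {n : G} :
    n ∈ secondCenter N ↔ n ∈ N ∧ ∀ f ∈ N, n * f * n⁻¹ * f⁻¹ ∈ Subgroup.center G := Iff.rfl

instance secondCenter_normal (N : Subgroup G) [hN : N.Normal] : (secondCenter N).Normal where
  conj_mem := by
    rintro n ⟨hn, hn'⟩ g
    refine ⟨hN.conj_mem n hn g, fun f hf => ?_⟩
    have hf' : g⁻¹ * f * g ∈ N := by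
      have := hN.conj_mem f hf g⁻¹
      rwa [inv_inv] at this
    have h1 := hn' _ hf'
    have e : g * n * g⁻¹ * f * (g * n * g⁻¹)⁻¹ * f⁻¹ =
        g * (n * (g⁻¹ * f * g) * n⁻¹ * (g⁻¹ * f * g)⁻¹) * g⁻¹ := by group
    rw [e]
    exact (inferInstance : (Subgroup.center G).Normal).conj_mem _ h1 g

theorem secondCenter_le (N : Subgroup G) : secondCenter N ≤ N := fun _ h => h.1

/-- for nilpotent `N` not central in `G`, the second centre is not central either -/
theorem secondCenter_not_le (N : Subgroup G) [hnil : Group.IsNilpotent N]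
    (hN : ¬ N ≤ Subgroup.center G) : ∃ a ∈ secondCenter N, a ∉ Subgroup.center G := by
  classical
  obtain ⟨c, hc⟩ := hnil.nilpotent'
  have hex : ∃ j, ¬ (Subgroup.upperCentralSeries N j).map N.subtype ≤ Subgroup.center G := by
    refine ⟨c, ?_⟩
    rw [hc, ← MonoidHom.range_eq_map, Subgroup.range_subtype]
    exact hN
  set j := Nat.find hex with hj
  have hj1 := Nat.find_spec hex
  have hj0 : j ≠ 0 := by
    intro h0
    rw [← hj, h0, Subgroup.upperCentralSeries_zero, Subgroup.map_bot] at hj1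
    exact hj1 bot_le
  obtain ⟨i, hi⟩ := Nat.exists_eq_succ_of_ne_zero hj0
  have hlt : i < j := by omega
  have hi1 := Nat.find_min hex hlt
  push Not at hi1
  rw [← hj, hi] at hj1
  rw [SetLike.not_le_iff_exists] at hj1
  obtain ⟨a, ha, hac⟩ := hj1
  obtain ⟨a', ha', rfl⟩ := Subgroup.mem_map.1 ha
  refine ⟨N.subtype a', ⟨a'.2, fun f hf => ?_⟩, hac⟩
  rw [Nat.succ_eq_add_one, Subgroup.mem_upperCentralSeries_succ_iff] at ha'
  have h1 := ha' ⟨f, hf⟩
  apply hi1
  refine Subgroup.mem_map.2 ⟨_, h1, ?_⟩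
  rw [commutatorElement_def]
  simp

end ClassTwoSub

section Final

variable {G : Type u} [Group G] [Fintype G]

theorem nilpotent_normal_central {χ : G → ℂ} (hχ : IsIrrCharacter G χ)
    (hfaith : ∀ g : G, χ g = χ 1 → g = 1) {k : ℕ}
    (hk : k.Coprime (Nat.card G))
    (hirr : IsIrrCharacter G (fun g => χ g * χ (g ^ k)))
    (N : Subgroup G) [hN : N.Normal] [hnil : Group.IsNilpotent N] :
    N ≤ Subgroup.center G := by
  classical
  by_contra hNc
  obtain ⟨d, ρ, hρ, rfl⟩ := hχ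
  have := hρ
  set M := secondCenter N with hM
  haveI : Fintype M := Fintype.ofFinite _
  have hcl : ∀ a ∈ M, ∀ b ∈ M, a * b * a⁻¹ * b⁻¹ ∈ Subgroup.center G :=
    fun a ha b hb => ha.2 b (secondCenter_le N hb)
  have hcen : ∀ a ∈ M, (∀ b ∈ M, a * b = b * a) → a ∈ Subgroup.center G := by
    intro a ha hab
    set A := M ⊓ Subgroup.centralizer (M : Set G) with hA
    haveI : A.Normal := Subgroup.normal_inf_normal _ _
    have hAab : ∀ x ∈ A, ∀ y ∈ A, x * y = y * x := by
      intro x hx y hy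
      have h1 := (Subgroup.mem_inf.1 hx).2
      rw [Subgroup.mem_centralizer_iff] at h1
      exact (h1 y (Subgroup.mem_inf.1 hy).1).symm
    have hAc := abelian_normal_central ⟨d, ρ, hρ, rfl⟩ hfaith hk hirr A hAab
    apply hAc
    refine Subgroup.mem_inf.2 ⟨ha, ?_⟩
    rw [Subgroup.mem_centralizer_iff]
    intro b hb
    exact (hab b hb).symm
  exact false_of_class_two ρ M hfaith hcl hcen hk hirr (secondCenter_not_le N hNc)

end Final

end Cfsg.Agent.Lib.Helper7.GalProd
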