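import Mathlib

set_option autoImplicit false

/-!
# Gallagher's inequalities for the class number

`k(G) ≤ |G : H| · k(H)` and `k(G) ≤ k(N) · k(G/N)`, by counting commuting pairs.
-/

namespace Cfsg.Agent.Lib.Helper7.Gallagher

open Subgroup

section general

/-- comparing the cardinalities of two sigma types fibrewise. -/
theorem card_sigma_le_mul {α : Type*} [Finite α] {β γ : α → Type*} [∀ a, Finite (β a)]
    [∀ a, Finite (γ a)] (c : ℕ) (h : ∀ a, Nat.card (β a) ≤ c * Nat.card (γ a)) :
    Nat.card (Σ a, β a) ≤ c * Nat.card (Σ a, γ a) := by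
  classical
  let _ := Fintype.ofFinite α
  rw [Nat.card_sigma, Nat.card_sigma, Finset.mul_sum]
  exact Finset.sum_le_sum fun a _ => h a

end general

section
variable {G : Type*} [Group G] [Finite G]

omit [Finite G] in
/-- the commuting pairs, fibred over the second coordinate. -/
theorem card_conjClasses_mul_card :
    Nat.card (ConjClasses G) * Nat.card G = Nat.card (Σ g : G, {x : G // x * g = g * x}) := by
  rw [← card_comm_eq_card_conjClasses_mul_card]
  refine Nat.card_congr
    { toFun := fun p => ⟨p.1.2, ⟨p.1.1, p.2⟩⟩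
      invFun := fun s => ⟨(s.2.1, s.1), s.2.2⟩
      left_inv := fun _ => rfl
      right_inv := fun _ => rfl }

/-- `|C_G(g)| ≤ |G : H| · |C_H(g)|`. -/
theorem card_centralizer_le (H : Subgroup G) (g : G) :
    Nat.card {x : G // x * g = g * x} ≤ H.index * Nat.card {h : H // (h : G) * g = g * (h : G)} := by
  have e1 : Nat.card {x : G // x * g = g * x} = Nat.card ↥(centralizer ({g} : Set G)) :=
    Nat.card_congr (Equiv.subtypeEquivRight fun x => mem_centralizer_singleton_iff.symm)
  have e2 : Nat.card {h : H // (h : G) * g = g * (h : G)} =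
      Nat.card ↥((centralizer ({g} : Set G)).subgroupOf H) :=
    Nat.card_congr (Equiv.subtypeEquivRight fun h => by
      rw [mem_subgroupOf, mem_centralizer_singleton_iff])
  rw [e1, e2]
  set K := centralizer ({g} : Set G)
  have h1 := K.card_mul_index
  have h2 := H.card_mul_index
  have h3 := (K.subgroupOf H).card_mul_index
  have h4 : (K.subgroupOf H).index ≤ K.index := by
    have := relIndex_le_of_le_right (H := K) (le_top : H ≤ ⊤)
      (by rw [relIndex_top_right]; exact K.index_ne_zero_of_finite)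
    rwa [relIndex_top_right] at this
  have hKpos : 0 < K.index := Nat.pos_of_ne_zero K.index_ne_zero_of_finite
  have : Nat.card ↥K * K.index ≤ (H.index * Nat.card ↥(K.subgroupOf H)) * K.index := by
    rw [h1, ← h2, ← h3]
    calc Nat.card ↥(K.subgroupOf H) * (K.subgroupOf H).index * H.index
        ≤ Nat.card ↥(K.subgroupOf H) * K.index * H.index := by gcongr
      _ = H.index * Nat.card ↥(K.subgroupOf H) * K.index := by ring
  exact Nat.le_of_mul_le_mul_right this hKpos

/-- **Gallagher**: `k(G) ≤ |G : H| · k(H)`. -/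
theorem card_conjClasses_le_index_mul (H : Subgroup G) :
    Nat.card (ConjClasses G) ≤ H.index * Nat.card (ConjClasses ↥H) := by
  classical
  -- first comparison
  have hA : Nat.card (Σ g : G, {x : G // x * g = g * x}) ≤
      H.index * Nat.card (Σ g : G, {h : H // (h : G) * g = g * (h : G)}) :=
    card_sigma_le_mul _ fun g => card_centralizer_le H g
  -- swap
  have hswap : Nat.card (Σ g : G, {h : H // (h : G) * g = g * (h : G)}) =
      Nat.card (Σ h : H, {g : G // g * (h : G) = (h : G) * g}) :=
    Nat.card_congr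
      { toFun := fun s => ⟨s.2.1, ⟨s.1, s.2.2.symm⟩⟩
        invFun := fun s => ⟨s.2.1, ⟨s.1, s.2.2.symm⟩⟩
        left_inv := fun _ => rfl
        right_inv := fun _ => rfl }
  -- second comparison
  have hB : Nat.card (Σ h : H, {g : G // g * (h : G) = (h : G) * g}) ≤
      H.index * Nat.card (Σ h : H, {h' : H // (h' : G) * (h : G) = (h : G) * (h' : G)}) :=
    card_sigma_le_mul _ fun h => card_centralizer_le H (h : G)
  have hH : Nat.card (Σ h : H, {h' : H // (h' : G) * (h : G) = (h : G) * (h' : G)}) =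
      Nat.card (ConjClasses ↥H) * Nat.card ↥H := by
    rw [card_conjClasses_mul_card]
    refine Nat.card_congr (Equiv.sigmaCongrRight fun h => Equiv.subtypeEquivRight fun h' => ?_)
    rw [Subtype.ext_iff, Subgroup.coe_mul, Subgroup.coe_mul]
  have hG := card_conjClasses_mul_card (G := G)
  have hidx := H.card_mul_index
  have hHpos : 0 < Nat.card ↥H := Nat.card_pos
  have hipos : 0 < H.index := Nat.pos_of_ne_zero H.index_ne_zero_of_finite
  have key : Nat.card (ConjClasses G) * (Nat.card ↥H * H.index) ≤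
      (H.index * Nat.card (ConjClasses ↥H)) * (Nat.card ↥H * H.index) := by
    rw [hidx, hG]
    calc Nat.card (Σ g : G, {x : G // x * g = g * x})
        ≤ H.index * (H.index * (Nat.card (ConjClasses ↥H) * Nat.card ↥H)) := by
          refine hA.trans ?_
          rw [hswap]
          refine Nat.mul_le_mul_left _ ?_
          rw [← hH]
          exact hB
      _ = H.index * Nat.card (ConjClasses ↥H) * Nat.card G := by rw [← hidx]; ring
  exact Nat.le_of_mul_le_mul_right key (Nat.mul_pos hHpos hipos)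

/-- `|C_G(g)| ≤ |C_N(g)| · |C_{G/N}(gN)|`. -/
theorem card_centralizer_le_mul (N : Subgroup G) [N.Normal] (g : G) :
    Nat.card {x : G // x * g = g * x} ≤
      Nat.card {n : N // (n : G) * g = g * (n : G)} *
        Nat.card {q : G ⧸ N // q * (g : G ⧸ N) = (g : G ⧸ N) * q} := by
  have e1 : Nat.card {x : G // x * g = g * x} = Nat.card ↥(centralizer ({g} : Set G)) :=
    Nat.card_congr (Equiv.subtypeEquivRight fun x => mem_centralizer_singleton_iff.symm)
  rw [e1]
  set K := centralizer ({g} : Set G)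
  let f : ↥K →* G ⧸ N := (QuotientGroup.mk' N).comp K.subtype
  have h1 := f.ker.card_mul_index
  rw [Subgroup.index_ker] at h1
  have h2 : Nat.card ↥f.ker = Nat.card {n : N // (n : G) * g = g * (n : G)} := by
    refine Nat.card_congr
      { toFun := fun k => ⟨⟨(k.1 : G), ?_⟩, mem_centralizer_singleton_iff.mp k.1.2⟩
        invFun := fun n => ⟨⟨(n.1 : G), mem_centralizer_singleton_iff.mpr n.2⟩, ?_⟩
        left_inv := fun _ => rfl
        right_inv := fun _ => rfl }
    · have hk := k.2
      rw [MonoidHom.mem_ker] at hk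
      exact (QuotientGroup.eq_one_iff _).mp hk
    · rw [MonoidHom.mem_ker]
      exact (QuotientGroup.eq_one_iff _).mpr n.1.2
  have h3 : Nat.card ↥f.range ≤ Nat.card {q : G ⧸ N // q * (g : G ⧸ N) = (g : G ⧸ N) * q} := by
    refine Nat.card_le_card_of_injective (fun q => ⟨q.1, ?_⟩) ?_
    · obtain ⟨k, hk⟩ := q.2
      rw [← hk]
      show ((k : G) : G ⧸ N) * (g : G ⧸ N) = (g : G ⧸ N) * ((k : G) : G ⧸ N)
      rw [← QuotientGroup.mk_mul, ← QuotientGroup.mk_mul, mem_centralizer_singleton_iff.mp k.2]
    · intro a b hab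
      simp only [Subtype.mk.injEq] at hab
      exact Subtype.ext hab
  rw [← h1, h2]
  exact Nat.mul_le_mul_left _ h3

/-- the elements of a coset commuting with `n ∈ N` are at most `|C_N(n)|`. -/
theorem card_fiber_le (N : Subgroup G) [N.Normal] (n : N) (q : G ⧸ N) :
    Nat.card {g : G // (g : G ⧸ N) = q ∧ (n : G) * g = g * (n : G)} ≤
      Nat.card {n' : N // n' * n = n * n'} := by
  by_cases hne : Nonempty {g : G // (g : G ⧸ N) = q ∧ (n : G) * g = g * (n : G)}
  · obtain ⟨⟨g₀, hg₀q, hg₀n⟩⟩ := hne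
    have hinv : (n : G) * g₀⁻¹ = g₀⁻¹ * (n : G) := by
      have := congrArg (fun t => g₀⁻¹ * t * g₀⁻¹) hg₀n
      simpa [mul_assoc] using this.symm
    refine Nat.card_le_card_of_injective (fun g => ⟨⟨g₀⁻¹ * g.1, ?_⟩, ?_⟩) ?_
    · exact QuotientGroup.eq.mp (hg₀q.trans g.2.1.symm)
    · apply Subtype.ext
      rw [Subgroup.coe_mul, Subgroup.coe_mul]
      show g₀⁻¹ * g.1 * (n : G) = (n : G) * (g₀⁻¹ * g.1)
      rw [mul_assoc, ← g.2.2, ← mul_assoc, ← mul_assoc, hinv]
    · intro a b hab
      apply Subtype.ext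
      have := congrArg (fun t : {n' : N // n' * n = n * n'} => ((t.1 : N) : G)) hab
      exact mul_left_cancel this
  · rw [not_nonempty_iff] at hne
    rw [Nat.card_of_isEmpty]
    exact Nat.zero_le _

/-- the sum of `|C_N(g)|` over a coset is at most `k(N) |N|`. -/
theorem card_sigma_fiber_le (N : Subgroup G) [N.Normal] (q : G ⧸ N) :
    Nat.card (Σ g : {g : G // (g : G ⧸ N) = q}, {n : N // (n : G) * (g : G) = (g : G) * (n : G)}) ≤
      Nat.card (ConjClasses ↥N) * Nat.card ↥N := by
  rw [card_conjClasses_mul_card]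
  have hswap : Nat.card (Σ g : {g : G // (g : G ⧸ N) = q},
        {n : N // (n : G) * (g : G) = (g : G) * (n : G)}) =
      Nat.card (Σ n : N, {g : G // (g : G ⧸ N) = q ∧ (n : G) * g = g * (n : G)}) :=
    Nat.card_congr
      { toFun := fun s => ⟨s.2.1, ⟨s.1.1, s.1.2, s.2.2⟩⟩
        invFun := fun s => ⟨⟨s.2.1, s.2.2.1⟩, ⟨s.1, s.2.2.2⟩⟩
        left_inv := fun _ => rfl
        right_inv := fun _ => rfl }
  rw [hswap]
  have := card_sigma_le_mul (α := ↥N)
    (β := fun n : N => {g : G // (g : G ⧸ N) = q ∧ (n : G) * g = g * (n : G)})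
    (γ := fun n : N => {n' : N // n' * n = n * n'}) 1
    (fun n => by rw [one_mul]; exact card_fiber_le N n q)
  rwa [one_mul] at this

/-- **Gallagher**: `k(G) ≤ k(N) · k(G/N)`. -/
theorem card_conjClasses_le_mul_quotient (N : Subgroup G) [N.Normal] :
    Nat.card (ConjClasses G) ≤ Nat.card (ConjClasses ↥N) * Nat.card (ConjClasses (G ⧸ N)) := by
  classical
  let _ := Fintype.ofFinite G
  let _ := Fintype.ofFinite (G ⧸ N)
  have hG := card_conjClasses_mul_card (G := G)
  have hQ := card_conjClasses_mul_card (G := G ⧸ N)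
  rw [Nat.card_sigma] at hG hQ
  have hcard := Subgroup.card_eq_card_quotient_mul_card_subgroup N
  -- pointwise bound
  have h1 : ∑ g : G, Nat.card {x : G // x * g = g * x} ≤
      ∑ g : G, Nat.card {n : N // (n : G) * g = g * (n : G)} *
        Nat.card {q : G ⧸ N // q * (g : G ⧸ N) = (g : G ⧸ N) * q} :=
    Finset.sum_le_sum fun g _ => card_centralizer_le_mul N g
  -- regroup by cosets
  have h2 : ∑ g : G, Nat.card {n : N // (n : G) * g = g * (n : G)} *
        Nat.card {q : G ⧸ N // q * (g : G ⧸ N) = (g : G ⧸ N) * q} =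
      ∑ q : G ⧸ N, ∑ g ∈ Finset.univ.filter (fun g : G => (g : G ⧸ N) = q),
        Nat.card {n : N // (n : G) * g = g * (n : G)} *
          Nat.card {q' : G ⧸ N // q' * (g : G ⧸ N) = (g : G ⧸ N) * q'} :=
    (Finset.sum_fiberwise _ _ _).symm
  have h3 : ∀ q : G ⧸ N, ∑ g ∈ Finset.univ.filter (fun g : G => (g : G ⧸ N) = q),
        Nat.card {n : N // (n : G) * g = g * (n : G)} *
          Nat.card {q' : G ⧸ N // q' * (g : G ⧸ N) = (g : G ⧸ N) * q'} ≤
      (Nat.card (ConjClasses ↥N) * Nat.card ↥N) * Nat.card {q' : G ⧸ N // q' * q = q * q'} := by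
    intro q
    have hrw : ∑ g ∈ Finset.univ.filter (fun g : G => (g : G ⧸ N) = q),
        Nat.card {n : N // (n : G) * g = g * (n : G)} *
          Nat.card {q' : G ⧸ N // q' * (g : G ⧸ N) = (g : G ⧸ N) * q'} =
        (∑ g ∈ Finset.univ.filter (fun g : G => (g : G ⧸ N) = q),
          Nat.card {n : N // (n : G) * g = g * (n : G)}) *
          Nat.card {q' : G ⧸ N // q' * q = q * q'} := by
      rw [Finset.sum_mul]
      refine Finset.sum_congr rfl fun g hg => ?_
      rw [Finset.mem_filter] at hg
      rw [hg.2]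
    rw [hrw]
    refine Nat.mul_le_mul_right _ ?_
    have hsub : ∑ g ∈ Finset.univ.filter (fun g : G => (g : G ⧸ N) = q),
        Nat.card {n : N // (n : G) * g = g * (n : G)} =
        ∑ g : {g : G // (g : G ⧸ N) = q}, Nat.card {n : N // (n : G) * (g : G) = (g : G) * (n : G)} :=
      Finset.sum_subtype _ (fun g => by simp) _
    rw [hsub, ← Nat.card_sigma]
    exact card_sigma_fiber_le N q
  have hNpos : 0 < Nat.card ↥N := Nat.card_pos
  have hQpos : 0 < Nat.card (G ⧸ N) := Nat.card_pos
  have key : Nat.card (ConjClasses G) * Nat.card G ≤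
      (Nat.card (ConjClasses ↥N) * Nat.card (ConjClasses (G ⧸ N))) * Nat.card G := by
    rw [hG]
    calc ∑ g : G, Nat.card {x : G // x * g = g * x}
        ≤ ∑ q : G ⧸ N, (Nat.card (ConjClasses ↥N) * Nat.card ↥N) *
            Nat.card {q' : G ⧸ N // q' * q = q * q'} := by
          refine h1.trans ?_
          rw [h2]
          exact Finset.sum_le_sum fun q _ => h3 q
      _ = (Nat.card (ConjClasses ↥N) * Nat.card ↥N) *
            (Nat.card (ConjClasses (G ⧸ N)) * Nat.card (G ⧸ N)) := by
          rw [← Finset.mul_sum, hQ]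
      _ = (Nat.card (ConjClasses ↥N) * Nat.card (ConjClasses (G ⧸ N))) * Nat.card G := by
          rw [hcard]; ring
  exact Nat.le_of_mul_le_mul_right key Nat.card_pos

end

end Cfsg.Agent.Lib.Helper7.Gallagher
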