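import Mathlib
import Cfsg.Agent.Lib.Helper1.GC0
import Cfsg.Agent.Lib.Helper4.GlFixP1

/-!
# S3067: (E5') in the stub shape (helper7)

An `a`-invariant subgroup `H ≤ G` containing `u = g⁻¹ τ g ∈ K`: the point `g⁻¹ a g` of `u` is
`H`-conjugate to `a`.
-/

set_option autoImplicit false

namespace Cfsg.Agent.Lib.Helper7.GlE5

open Cfsg.Agent.Lib.Helper1.GC

universe u

/-- An involutive self-map of a finite set of odd cardinality has a fixed point. -/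
theorem exists_fixed_of_involutive_of_odd {α : Type*} [Finite α] (f : α → α)
    (hf : ∀ x, f (f x) = x) (hodd : Odd (Nat.card α)) : ∃ x, f x = x := by
  haveI : Fact (Nat.Prime 2) := ⟨Nat.prime_two⟩
  apply Cfsg.Agent.Lib.Helper4.GlFixP1.exists_fixed_of_iterate (r := 2) f
  · intro x
    simp [hf]
  · intro h
    exact (Nat.not_even_iff_odd.mpr hodd) (even_iff_two_dvd.mpr h)

/-- An involutive self-map of a finite set with exactly one fixed point: the set has odd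
cardinality. -/
theorem odd_card_of_involutive_of_unique_fixed {α : Type*} [Finite α] (f : α → α)
    (hf : ∀ x, f (f x) = x) (b : α) (hb : f b = b) (huniq : ∀ x, f x = x → x = b) :
    Odd (Nat.card α) := by
  classical
  by_contra hcon
  have heven : Even (Nat.card α) := Nat.not_odd_iff_even.mp hcon
  -- remove `b`
  let β := {x : α // x ≠ b}
  have hfb : ∀ x : α, x ≠ b → f x ≠ b := by
    intro x hx h
    apply hx
    have := hf x
    rw [h, hb] at this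
    exact this.symm
  let f' : β → β := fun x => ⟨f x.1, hfb x.1 x.2⟩
  have hcard : Nat.card α = Nat.card β + 1 := by
    haveI := Fintype.ofFinite α
    rw [Nat.card_eq_fintype_card, Nat.card_eq_fintype_card]
    have := Fintype.card_subtype_compl (fun x : α => x = b)
    simp only [Fintype.card_subtype_eq] at this
    have h1 : Fintype.card β = Fintype.card α - 1 := by
      rw [← this]
    have hpos : 0 < Fintype.card α := Fintype.card_pos_iff.mpr ⟨b⟩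
    omega
  have hoddβ : Odd (Nat.card β) := by
    rcases Nat.even_or_odd (Nat.card β) with h | h
    · exfalso
      have : Odd (Nat.card α) := by rw [hcard]; exact h.add_one
      exact hcon this
    · exact h
  obtain ⟨x, hx⟩ := exists_fixed_of_involutive_of_odd f'
    (fun x => Subtype.ext (hf x.1)) hoddβ
  have : f x.1 = x.1 := congrArg Subtype.val hx
  exact x.2 (huniq x.1 this)

theorem conj_mem_of_inv_conj_mem {Γ : Type u} [Group Γ] (H : Subgroup Γ) (a : Γ) (r : ℕ)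
    (hr : 0 < r) (ha : a ^ r = 1) (hn : ∀ x ∈ H, a⁻¹ * x * a ∈ H) :
    ∀ x ∈ H, a * x * a⁻¹ ∈ H := by
  have hpow : ∀ n : ℕ, ∀ x ∈ H, (a ^ n)⁻¹ * x * a ^ n ∈ H := by
    intro n
    induction n with
    | zero => intro x hx; simpa using hx
    | succ n ih =>
      intro x hx
      have h1 := hn _ (ih x hx)
      have e : (a ^ (n + 1))⁻¹ * x * a ^ (n + 1) = a⁻¹ * ((a ^ n)⁻¹ * x * a ^ n) * a := by
        rw [pow_succ]; group
      rw [e]; exact h1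
  have hinv : a⁻¹ = a ^ (r - 1) := by
    apply inv_eq_of_mul_eq_one_right
    rw [← pow_succ']
    have : r - 1 + 1 = r := Nat.sub_add_cancel hr
    rw [this]; exact ha
  intro x hx
  have := hpow (r - 1) x hx
  rw [← hinv, inv_inv] at this
  exact this

section orbit

variable {Γ : Type u} [Group Γ] [Finite Γ] {G : Subgroup Γ} {a τ : Γ} {r : ℕ}

/-- the `H`-orbit of `p` under conjugation, as a set. -/
def orb (H : Subgroup Γ) (p : Γ) : Set Γ := {q | ∃ x ∈ H, q = x * p * x⁻¹}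

theorem mem_orb_self (H : Subgroup Γ) (p : Γ) : p ∈ orb H p := ⟨1, H.one_mem, by simp⟩

theorem orb_eq_of_mem {H : Subgroup Γ} {p q : Γ} (hq : q ∈ orb H p) : orb H q = orb H p := by
  obtain ⟨x, hx, rfl⟩ := hq
  ext z
  constructor
  · rintro ⟨y, hy, rfl⟩
    exact ⟨y * x, H.mul_mem hy hx, by group⟩
  · rintro ⟨y, hy, rfl⟩
    exact ⟨y * x⁻¹, H.mul_mem hy (H.inv_mem hx), by group⟩

theorem orb_ncard_dvd (H : Subgroup Γ) (p : Γ) : (orb H p).ncard ∣ Nat.card H := by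
  let φ : ↥H →* MulAut Γ := (MulAut.conj).comp H.subtype
  letI : MulAction ↥H Γ := MulAction.compHom Γ φ
  have hsm : ∀ (x : ↥H) (q : Γ), x • q = (x : Γ) * q * (x : Γ)⁻¹ := fun x q => rfl
  have hset : orb H p = MulAction.orbit ↥H p := by
    ext q
    rw [MulAction.mem_orbit_iff]
    constructor
    · rintro ⟨x, hx, rfl⟩
      exact ⟨⟨x, hx⟩, hsm _ _⟩
    · rintro ⟨x, rfl⟩
      exact ⟨x.1, x.2, hsm _ _⟩
  rw [hset, ← MulAction.index_stabilizer]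
  exact Subgroup.index_dvd_card _

/-- Lemma A: the `H`-orbit of the point of an element of `K ∩ H` has odd length. -/
theorem odd_orb (h : Hyp G a τ r) (H : Subgroup Γ) (hHG : H ≤ G) {g : Γ} (hg : g ∈ G)
    (hu : g⁻¹ * τ * g ∈ H) : Odd (Nat.card (orb H (g⁻¹ * a * g))) := by
  have huu : (g⁻¹ * τ * g) * (g⁻¹ * τ * g) = 1 := by
    calc (g⁻¹ * τ * g) * (g⁻¹ * τ * g) = g⁻¹ * (τ * τ) * g := by group
      _ = 1 := by rw [h.tau_sq]; group
  have huinv : (g⁻¹ * τ * g)⁻¹ = g⁻¹ * τ * g := inv_eq_of_mul_eq_one_right huu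
  have hcomm : Commute (g⁻¹ * τ * g) (g⁻¹ * a * g) := h.K_commute_pt
  have hmem : ∀ q ∈ orb H (g⁻¹ * a * g),
      (g⁻¹ * τ * g) * q * (g⁻¹ * τ * g)⁻¹ ∈ orb H (g⁻¹ * a * g) := by
    rintro q ⟨x, hx, rfl⟩
    exact ⟨(g⁻¹ * τ * g) * x, H.mul_mem hu hx, by group⟩
  let f : orb H (g⁻¹ * a * g) → orb H (g⁻¹ * a * g) :=
    fun q => ⟨(g⁻¹ * τ * g) * q.1 * (g⁻¹ * τ * g)⁻¹, hmem q.1 q.2⟩
  apply odd_card_of_involutive_of_unique_fixed f ?_ ⟨g⁻¹ * a * g, mem_orb_self H _⟩ ?_ ?_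
  · intro q
    apply Subtype.ext
    show (g⁻¹ * τ * g) * ((g⁻¹ * τ * g) * q.1 * (g⁻¹ * τ * g)⁻¹) * (g⁻¹ * τ * g)⁻¹ = q.1
    rw [huinv]
    calc g⁻¹ * τ * g * (g⁻¹ * τ * g * q.1 * (g⁻¹ * τ * g)) * (g⁻¹ * τ * g)
        = ((g⁻¹ * τ * g) * (g⁻¹ * τ * g)) * q.1 * ((g⁻¹ * τ * g) * (g⁻¹ * τ * g)) := by group
      _ = q.1 := by rw [huu]; group
  · apply Subtype.ext
    show (g⁻¹ * τ * g) * (g⁻¹ * a * g) * (g⁻¹ * τ * g)⁻¹ = g⁻¹ * a * g
    rw [hcomm.eq, mul_assoc, mul_inv_cancel, mul_one]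
  · intro q hq
    apply Subtype.ext
    have hq' : (g⁻¹ * τ * g) * q.1 * (g⁻¹ * τ * g)⁻¹ = q.1 := congrArg Subtype.val hq
    have hc : Commute (g⁻¹ * τ * g) q.1 := by
      show (g⁻¹ * τ * g) * q.1 = q.1 * (g⁻¹ * τ * g)
      calc (g⁻¹ * τ * g) * q.1
          = ((g⁻¹ * τ * g) * q.1 * (g⁻¹ * τ * g)⁻¹) * (g⁻¹ * τ * g) := by group
        _ = q.1 * (g⁻¹ * τ * g) := by rw [hq']
    obtain ⟨x, hx, hqx⟩ := q.2
    have hpt : IsPt G a q.1 :=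
      ⟨g * x⁻¹, G.mul_mem hg (G.inv_mem (hHG hx)), by rw [hqx]; group⟩
    exact h.point_unique hg hpt hc

/-- **(E5')**, stub shape. -/
theorem E5 (h : Hyp G a τ r) (H : Subgroup Γ) (hHG : H ≤ G) (hinv : ∀ x ∈ H, a⁻¹ * x * a ∈ H)
    {g : Γ} (hg : g ∈ G) (hu : g⁻¹ * τ * g ∈ H) : ∃ x ∈ H, x⁻¹ * (g⁻¹ * a * g) * x = a := by
  haveI : Fact r.Prime := ⟨h.hr⟩
  have hinv' : ∀ x ∈ H, a * x * a⁻¹ ∈ H :=
    conj_mem_of_inv_conj_mem H a r h.r_pos h.a_pow hinv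
  -- the conjugate data `g' = a g a⁻¹`
  have hg' : a * g * a⁻¹ ∈ G := h.norm_inv g hg
  have hτa : a * τ * a⁻¹ = τ := by
    have := h.tau_comm.eq
    calc a * τ * a⁻¹ = (a * τ) * a⁻¹ := by group
      _ = (τ * a) * a⁻¹ := by rw [this]
      _ = τ := by group
  have eu' : (a * g * a⁻¹)⁻¹ * τ * (a * g * a⁻¹) = a * (g⁻¹ * τ * g) * a⁻¹ := by
    calc (a * g * a⁻¹)⁻¹ * τ * (a * g * a⁻¹) = a * g⁻¹ * (a⁻¹ * τ * a) * g * a⁻¹ := by group
      _ = a * g⁻¹ * (a⁻¹ * (a * τ * a⁻¹) * a) * g * a⁻¹ := by rw [hτa]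
      _ = a * (g⁻¹ * τ * g) * a⁻¹ := by group
  have eb' : (a * g * a⁻¹)⁻¹ * a * (a * g * a⁻¹) = a * (g⁻¹ * a * g) * a⁻¹ := by group
  have hu' : (a * g * a⁻¹)⁻¹ * τ * (a * g * a⁻¹) ∈ H := by
    rw [eu']; exact hinv' _ hu
  have hodd' := odd_orb h H hHG hg' hu'
  rw [eb'] at hodd'
  -- `u` has a fixed point on the orbit of `b' = a b a⁻¹`
  have huu : (g⁻¹ * τ * g) * (g⁻¹ * τ * g) = 1 := by
    calc (g⁻¹ * τ * g) * (g⁻¹ * τ * g) = g⁻¹ * (τ * τ) * g := by group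
      _ = 1 := by rw [h.tau_sq]; group
  have huinv : (g⁻¹ * τ * g)⁻¹ = g⁻¹ * τ * g := inv_eq_of_mul_eq_one_right huu
  have hmem : ∀ q ∈ orb H (a * (g⁻¹ * a * g) * a⁻¹),
      (g⁻¹ * τ * g) * q * (g⁻¹ * τ * g)⁻¹ ∈ orb H (a * (g⁻¹ * a * g) * a⁻¹) := by
    rintro q ⟨x, hx, rfl⟩
    exact ⟨(g⁻¹ * τ * g) * x, H.mul_mem hu hx, by group⟩
  let f : orb H (a * (g⁻¹ * a * g) * a⁻¹) → orb H (a * (g⁻¹ * a * g) * a⁻¹) :=
    fun q => ⟨(g⁻¹ * τ * g) * q.1 * (g⁻¹ * τ * g)⁻¹, hmem q.1 q.2⟩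
  obtain ⟨q, hq⟩ := exists_fixed_of_involutive_of_odd f (by
    intro q
    apply Subtype.ext
    show (g⁻¹ * τ * g) * ((g⁻¹ * τ * g) * q.1 * (g⁻¹ * τ * g)⁻¹) * (g⁻¹ * τ * g)⁻¹ = q.1
    rw [huinv]
    calc g⁻¹ * τ * g * (g⁻¹ * τ * g * q.1 * (g⁻¹ * τ * g)) * (g⁻¹ * τ * g)
        = ((g⁻¹ * τ * g) * (g⁻¹ * τ * g)) * q.1 * ((g⁻¹ * τ * g) * (g⁻¹ * τ * g)) := by group
      _ = q.1 := by rw [huu]; group) hodd'
  have hq' : (g⁻¹ * τ * g) * q.1 * (g⁻¹ * τ * g)⁻¹ = q.1 := congrArg Subtype.val hq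
  have hc : Commute (g⁻¹ * τ * g) q.1 := by
    show (g⁻¹ * τ * g) * q.1 = q.1 * (g⁻¹ * τ * g)
    calc (g⁻¹ * τ * g) * q.1
        = ((g⁻¹ * τ * g) * q.1 * (g⁻¹ * τ * g)⁻¹) * (g⁻¹ * τ * g) := by group
      _ = q.1 * (g⁻¹ * τ * g) := by rw [hq']
  obtain ⟨x, hx, hqx⟩ := q.2
  have hpt : IsPt G a q.1 :=
    ⟨a * g * a⁻¹ * x⁻¹, G.mul_mem hg' (G.inv_mem (hHG hx)), by rw [hqx]; group⟩
  have hqb : q.1 = g⁻¹ * a * g := h.point_unique hg hpt hc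
  -- so the orbit of `b` equals the orbit of `b'`
  have horb : orb H (g⁻¹ * a * g) = orb H (a * (g⁻¹ * a * g) * a⁻¹) := by
    apply orb_eq_of_mem
    have := q.2
    rw [hqb] at this
    exact this
  -- the orbit of `b` is `a`-invariant
  have hsinv : ∀ p ∈ orb H (g⁻¹ * a * g), a * p * a⁻¹ ∈ orb H (g⁻¹ * a * g) := by
    rintro p ⟨x, hx, rfl⟩
    rw [horb]
    exact ⟨a * x * a⁻¹, hinv' x hx, by group⟩
  have hnd : ¬ r ∣ (orb H (g⁻¹ * a * g)).ncard := by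
    intro hd
    exact h.hcop ((hd.trans (orb_ncard_dvd H _)).trans (Subgroup.card_dvd_of_le hHG))
  obtain ⟨p, hp, hpa⟩ := Cfsg.Agent.Lib.Helper4.GlFixP1.exists_commute_of_invariant a h.a_pow
    (orb H (g⁻¹ * a * g)) hsinv hnd
  obtain ⟨x, hx, hpx⟩ := hp
  have hptp : IsPt G a p :=
    ⟨g * x⁻¹, G.mul_mem hg (G.inv_mem (hHG hx)), by rw [hpx]; group⟩
  have hpa' : p = a := hptp.eq_of_commute h hpa
  refine ⟨x⁻¹, H.inv_mem hx, ?_⟩
  calc x⁻¹⁻¹ * (g⁻¹ * a * g) * x⁻¹ = x * (g⁻¹ * a * g) * x⁻¹ := by rw [inv_inv]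
    _ = p := hpx.symm
    _ = a := hpa'

end orbit

end Cfsg.Agent.Lib.Helper7.GlE5
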