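import Mathlib

/-!
# S3067 final glue (helper7)

`s3067_of_core`: the statement of S3067 follows from the "core" theorem about a prime-order
element `a` of an ambient finite group `Gam` normalising a subgroup `G` of order prime to `r`.
-/

namespace Cfsg.Agent.Lib.Helper7.GlGlue1

open Subgroup

universe u

/-- The shape of the core theorem (Glauberman's fixed-point theorem for a prime-order coprime
operator centralising the centraliser of an involution), in ambient-group form. -/
def CoreStatement : Prop :=
  ∀ {Gam : Type u} [Group Gam] [Finite Gam] (G : Subgroup Gam) (a tau : Gam) (r : ℕ),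
    r.Prime → orderOf a = r → (∀ g ∈ G, a * g * a⁻¹ ∈ G) → ¬ r ∣ Nat.card G →
    tau ∈ G → orderOf tau = 2 → (∀ c ∈ G, Commute c tau → Commute c a) →
    Odd (Nat.card (Subgroup.closure {x : Gam | ∃ g ∈ G, x = g * a * g⁻¹ * a⁻¹}))

/-- the commutator subgroup `[G, β]` of an automorphism. -/
def autComm {G : Type u} [Group G] (β : MulAut G) : Subgroup G :=
  Subgroup.closure {y : G | ∃ g : G, y = g * (β g)⁻¹}

theorem autComm_normal {G : Type u} [Group G] (β : MulAut G) : (autComm β).Normal := by
  constructor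
  intro x hx h
  induction hx using Subgroup.closure_induction with
  | mem y hy =>
    obtain ⟨g, rfl⟩ := hy
    have e : h * (g * (β g)⁻¹) * h⁻¹ = ((h * g) * (β (h * g))⁻¹) * (h * (β h)⁻¹)⁻¹ := by
      rw [map_mul]; group
    rw [e]
    exact Subgroup.mul_mem _ (Subgroup.subset_closure ⟨h * g, rfl⟩)
      (Subgroup.inv_mem _ (Subgroup.subset_closure ⟨h, rfl⟩))
  | one => simp
  | mul x y _ _ hx hy =>
    have e : h * (x * y) * h⁻¹ = (h * x * h⁻¹) * (h * y * h⁻¹) := by group
    rw [e]; exact Subgroup.mul_mem _ hx hy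
  | inv x _ hx =>
    have e : h * x⁻¹ * h⁻¹ = (h * x * h⁻¹)⁻¹ := by group
    rw [e]; exact Subgroup.inv_mem _ hx

theorem autComm_eq_bot_iff {G : Type u} [Group G] (β : MulAut G) :
    autComm β = ⊥ ↔ β = 1 := by
  constructor
  · intro h
    ext g
    have : g * (β g)⁻¹ ∈ autComm β := Subgroup.subset_closure ⟨g, rfl⟩
    rw [h, Subgroup.mem_bot] at this
    have : g = β g := mul_inv_eq_one.mp this
    simpa using this.symm
  · rintro rfl
    rw [autComm, Subgroup.closure_eq_bot_iff]
    rintro y ⟨g, rfl⟩
    simp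

/-- **Final glue for S3067**: the statement follows from the core theorem. -/
theorem s3067_of_core (core : CoreStatement.{u}) {G : Type u} [Group G] [Finite G]
    [IsSimpleGroup G] (τ : G) (hτ : orderOf τ = 2) (α : MulAut G) (hα : α ≠ 1)
    (hcop : (orderOf α).Coprime (Nat.card G)) :
    ∃ c ∈ centralizer ({τ} : Set G), α c ≠ c := by
  by_contra hcon
  push_neg at hcon
  -- a prime divisor of the order of α
  have ho1 : orderOf α ≠ 1 := by
    intro h; exact hα (orderOf_eq_one_iff.mp h)
  have ho0 : orderOf α ≠ 0 := (orderOf_pos α).ne'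
  obtain ⟨r, hr, hrd⟩ := Nat.exists_prime_and_dvd ho1
  set β : MulAut G := α ^ (orderOf α / r) with hβ
  have hβo : orderOf β = r := orderOf_pow_orderOf_div ho0 hrd
  have hrG : ¬ r ∣ Nat.card G := by
    intro h
    have := Nat.dvd_gcd hrd h
    rw [Nat.Coprime] at hcop
    rw [hcop] at this
    exact hr.one_lt.ne' (Nat.dvd_one.mp this)
  have hβfix : ∀ c ∈ centralizer ({τ} : Set G), β c = c := by
    intro c hc
    have : ∀ k : ℕ, (α ^ k) c = c := by
      intro k
      induction k with
      | zero => simp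
      | succ k ih => rw [pow_succ, MulAut.mul_apply, hcon c hc, ih]
    exact this _
  -- the ambient group
  let φ : (Subgroup.zpowers β) →* MulAut G := (Subgroup.zpowers β).subtype
  let Gam := G ⋊[φ] (Subgroup.zpowers β)
  haveI : Finite Gam := Finite.of_equiv _ (SemidirectProduct.equivProd (φ := φ)).symm
  let i : G →* Gam := SemidirectProduct.inl
  have hi : Function.Injective i := SemidirectProduct.inl_injective
  let b : Subgroup.zpowers β := ⟨β, Subgroup.mem_zpowers β⟩
  let a : Gam := SemidirectProduct.inr b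
  have hconj : ∀ g : G, a * i g * a⁻¹ = i (β g) := by
    intro g
    have := SemidirectProduct.inl_aut (φ := φ) b g
    rw [map_inv] at this
    exact this.symm
  have hao : orderOf a = r := by
    rw [orderOf_injective (SemidirectProduct.inr : _ →* Gam) SemidirectProduct.inr_injective b]
    rw [← hβo]
    exact Subgroup.orderOf_mk β _
  have hnorm : ∀ g ∈ i.range, a * g * a⁻¹ ∈ i.range := by
    rintro _ ⟨g, rfl⟩
    exact ⟨β g, (hconj g).symm⟩
  have hcard : Nat.card i.range = Nat.card G :=
    (Nat.card_congr (MonoidHom.ofInjective hi).toEquiv).symm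
  have hcent : ∀ c ∈ i.range, Commute c (i τ) → Commute c a := by
    rintro _ ⟨g, rfl⟩ hc
    have hgτ : g * τ = τ * g := by
      apply hi
      rw [map_mul, map_mul]; exact hc
    have hg : g ∈ centralizer ({τ} : Set G) := by
      rw [Subgroup.mem_centralizer_iff]
      intro h hh
      rw [Set.mem_singleton_iff] at hh
      subst hh
      exact hgτ.symm
    have h1 := hconj g
    rw [hβfix g hg] at h1
    -- a * i g * a⁻¹ = i g
    have : a * i g = i g * a := by
      have := congrArg (· * a) h1
      simpa [mul_assoc] using this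
    exact this.symm
  have hodd := core i.range a (i τ) r hr hao hnorm (by rwa [hcard]) ⟨τ, rfl⟩
    (by rw [orderOf_injective i hi]; exact hτ) hcent
  -- identify the commutator subgroup
  have hset : {x : Gam | ∃ g ∈ i.range, x = g * a * g⁻¹ * a⁻¹}
      = i '' {y : G | ∃ g : G, y = g * (β g)⁻¹} := by
    have hcomm : ∀ g : G, i g * a * (i g)⁻¹ * a⁻¹ = i (g * (β g)⁻¹) := by
      intro g
      have h1 := hconj g⁻¹
      calc i g * a * (i g)⁻¹ * a⁻¹ = i g * (a * i g⁻¹ * a⁻¹) := by rw [map_inv]; simp only [mul_assoc]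
        _ = i g * i (β g⁻¹) := by rw [h1]
        _ = i (g * (β g)⁻¹) := by rw [map_inv β, map_mul]
    ext x
    constructor
    · rintro ⟨_, ⟨g, rfl⟩, rfl⟩
      exact ⟨g * (β g)⁻¹, ⟨g, rfl⟩, (hcomm g).symm⟩
    · rintro ⟨_, ⟨g, rfl⟩, rfl⟩
      exact ⟨i g, ⟨g, rfl⟩, (hcomm g).symm⟩
  rw [hset, ← MonoidHom.map_closure, Subgroup.card_map_of_injective hi] at hodd
  change Odd (Nat.card (autComm β)) at hodd
  rcases (autComm_normal β).eq_bot_or_eq_top with h | h
  · rw [autComm_eq_bot_iff] at h
    rw [h, orderOf_one] at hβo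
    exact hr.one_lt.ne' hβo.symm
  · rw [h, Subgroup.card_top] at hodd
    have : 2 ∣ Nat.card G := hτ ▸ orderOf_dvd_natCard τ
    exact (Nat.not_even_iff_odd.mpr hodd) (even_iff_two_dvd.mpr this)

end Cfsg.Agent.Lib.Helper7.GlGlue1
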