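import Mathlib
import Cfsg.Agent.Lib.Helper1.GC0
import Cfsg.Agent.Lib.Helper7.GlGlue1

/-!
# S3067: `CoreStatement` (of `GlGlue1`) from the main theorem in `Helper1.GC0` shape  (helper7)
-/

set_option autoImplicit false

namespace Cfsg.Agent.Lib.Helper7.GlGlue2

open Cfsg.Agent.Lib.Helper1.GC

universe u

/-- The shape of helper1's `main`. -/
def MainStatement : Prop :=
  ∀ (Γ : Type u) [Group Γ] [Finite Γ] (G : Subgroup Γ) (a τ : Γ) (r : ℕ),
    Hyp G a τ r → Concl G a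

theorem conj_inv_mem_of_conj_mem {Γ : Type u} [Group Γ] (G : Subgroup Γ) (a : Γ) (r : ℕ)
    (hr : 0 < r) (ha : a ^ r = 1) (hn : ∀ g ∈ G, a * g * a⁻¹ ∈ G) :
    ∀ g ∈ G, a⁻¹ * g * a ∈ G := by
  have hpow : ∀ n : ℕ, ∀ g ∈ G, a ^ n * g * (a ^ n)⁻¹ ∈ G := by
    intro n
    induction n with
    | zero => intro g hg; simpa using hg
    | succ n ih =>
      intro g hg
      have h1 := hn _ (ih g hg)
      have e : a ^ (n + 1) * g * (a ^ (n + 1))⁻¹ = a * (a ^ n * g * (a ^ n)⁻¹) * a⁻¹ := by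
        rw [pow_succ']; group
      rw [e]; exact h1
  have hinv : a⁻¹ = a ^ (r - 1) := by
    apply inv_eq_of_mul_eq_one_right
    rw [← pow_succ']
    have : r - 1 + 1 = r := Nat.sub_add_cancel hr
    rw [this]; exact ha
  intro g hg
  have := hpow (r - 1) g hg
  rw [← hinv, inv_inv] at this
  exact this

theorem coreStatement_of_main (main : MainStatement.{u}) :
    Cfsg.Agent.Lib.Helper7.GlGlue1.CoreStatement.{u} := by
  intro Gam _ _ G a tau r hr ha hn hcop htauG htau hcent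
  have hyp : Hyp G a tau r :=
    { hr := hr
      ha := ha
      hnorm := conj_inv_mem_of_conj_mem G a r hr.pos (by rw [← ha]; exact pow_orderOf_eq_one a) hn
      hcop := hcop
      hτG := htauG
      hτ := htau
      hcent := hcent }
  obtain ⟨R, hRG, hRodd, hR⟩ := main Gam G a tau r hyp
  have hle : Subgroup.closure {x : Gam | ∃ g ∈ G, x = g * a * g⁻¹ * a⁻¹} ≤ R := by
    rw [Subgroup.closure_le]
    rintro x ⟨h, hh, rfl⟩
    have hg : a * h⁻¹ * a⁻¹ ∈ G := hn h⁻¹ (G.inv_mem hh)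
    have := hR _ hg
    have e : h * a * h⁻¹ * a⁻¹ = ((a * h⁻¹ * a⁻¹)⁻¹ * a⁻¹ * (a * h⁻¹ * a⁻¹) * a)⁻¹ := by group
    rw [e]
    exact R.inv_mem this
  exact hRodd.of_dvd_nat (Subgroup.card_dvd_of_le hle)

/-- S3067 from helper1's `main`. -/
theorem s3067_of_main (main : MainStatement.{u}) {G : Type u} [Group G] [Finite G]
    [IsSimpleGroup G] (τ : G) (hτ : orderOf τ = 2) (α : MulAut G) (hα : α ≠ 1)
    (hcop : (orderOf α).Coprime (Nat.card G)) :
    ∃ c ∈ Subgroup.centralizer ({τ} : Set G), α c ≠ c :=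
  Cfsg.Agent.Lib.Helper7.GlGlue1.s3067_of_core (coreStatement_of_main main) τ hτ α hα hcop

end Cfsg.Agent.Lib.Helper7.GlGlue2
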