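import Mathlib

/-!
# An isomorphism from an invariant relation

Let `K` and `Γ` be finite groups with `|K| ≤ |Γ|`, `Γ` simple, `Γ` a central quotient of a group
`G` generated by two elements `g₁, g₂`, and `a₁, a₂ ∈ K`.  If `K` acts on `X`, `G` acts on `Y` and a
finite relation between `X` and `Y` is preserved by the pairs `(a₁, g₁)`, `(a₂, g₂)` but not by
`(1, [g₁, g₂])`, then the subgroup of `K × Γ` generated by the pairs is the graph of an
isomorphism.
-/

set_option autoImplicit false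

namespace Cfsg.Agent.Lib.Helper7.GraphIso

variable {K G Γ : Type*} [Group K] [Group G] [Group Γ] {X Y : Type*} [MulAction K X]
  [MulAction G Y]

/-- the pairs preserving a relation -/
def stab (K G : Type*) [Group K] [Group G] {X Y : Type*} [MulAction K X] [MulAction G Y]
    (R : Set (X × Y)) : Subgroup (K × G) where
  carrier := {q | ∀ p : X × Y, (q.1 • p.1, q.2 • p.2) ∈ R ↔ p ∈ R}
  one_mem' := by
    intro p
    simp
  mul_mem' := by
    intro q q' hq hq' p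
    have h1 := hq (q'.1 • p.1, q'.2 • p.2)
    have h2 := hq' p
    simp only [Prod.fst_mul, Prod.snd_mul, mul_smul]
    exact h1.trans h2
  inv_mem' := by
    intro q hq p
    have h1 := hq (q.1⁻¹ • p.1, q.2⁻¹ • p.2)
    simp only [smul_inv_smul] at h1
    simp only [Prod.fst_inv, Prod.snd_inv]
    exact h1.symm

theorem mem_stab_of_forall (R : Set (X × Y)) (hfin : R.Finite) (a : K) (g : G)
    (h : ∀ p ∈ R, (a • p.1, g • p.2) ∈ R) : (a, g) ∈ stab K G R := by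
  classical
  let f : X × Y → X × Y := fun p => (a • p.1, g • p.2)
  have hinj : Function.Injective f := by
    intro p p' e
    simp only [f, Prod.mk.injEq] at e
    exact Prod.ext (MulAction.injective a e.1) (MulAction.injective g e.2)
  have himg : f '' R = R := by
    apply Set.eq_of_subset_of_ncard_le
    · rintro _ ⟨p, hp, rfl⟩
      exact h p hp
    · rw [Set.ncard_image_of_injective _ hinj]
    · exact hfin
  intro p
  show f p ∈ R ↔ p ∈ R
  constructor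
  · intro hp
    rw [← himg] at hp
    obtain ⟨p', hp', e⟩ := hp
    rw [← hinj e]
    exact hp'
  · intro hp
    exact h p hp

theorem comm_central {g₁ g₂ z₁ z₂ : G} (hz₁ : ∀ g, g * z₁ = z₁ * g) (hz₂ : ∀ g, g * z₂ = z₂ * g) :
    (g₁ * z₁) * (g₂ * z₂) * (g₁ * z₁)⁻¹ * (g₂ * z₂)⁻¹ = g₁ * g₂ * g₁⁻¹ * g₂⁻¹ := by
  have e1 : z₁ * (g₂ * z₂) * z₁⁻¹ = g₂ * z₂ := by
    rw [← hz₁ (g₂ * z₂), mul_inv_cancel_right]
  have e2 : z₂ * g₁⁻¹ * z₂⁻¹ = g₁⁻¹ := by
    rw [← hz₂ g₁⁻¹, mul_inv_cancel_right]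
  calc (g₁ * z₁) * (g₂ * z₂) * (g₁ * z₁)⁻¹ * (g₂ * z₂)⁻¹
      = g₁ * (z₁ * (g₂ * z₂) * z₁⁻¹) * g₁⁻¹ * (g₂ * z₂)⁻¹ := by group
    _ = g₁ * (g₂ * z₂) * g₁⁻¹ * (g₂ * z₂)⁻¹ := by rw [e1]
    _ = g₁ * g₂ * (z₂ * g₁⁻¹ * z₂⁻¹) * g₂⁻¹ := by group
    _ = g₁ * g₂ * g₁⁻¹ * g₂⁻¹ := by rw [e2]

theorem nonempty_mulEquiv [Finite K] [Finite Γ] [IsSimpleGroup Γ]
    (hcard : Nat.card K ≤ Nat.card Γ)
    (π : G →* Γ) (hπ : Function.Surjective π) (hker : π.ker ≤ Subgroup.center G)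
    (a₁ a₂ : K) (g₁ g₂ : G) (hgen : Subgroup.closure {g₁, g₂} = ⊤)
    (R : Set (X × Y)) (hfin : R.Finite)
    (h1 : ∀ p ∈ R, (a₁ • p.1, g₁ • p.2) ∈ R) (h2 : ∀ p ∈ R, (a₂ • p.1, g₂ • p.2) ∈ R)
    (p₀ : X × Y) (hp₀ : p₀ ∈ R) (hc : (p₀.1, (g₁ * g₂ * g₁⁻¹ * g₂⁻¹) • p₀.2) ∉ R) :
    Nonempty (K ≃* Γ) := by
  classical
  set Dt : Subgroup (K × G) := Subgroup.closure {(a₁, g₁), (a₂, g₂)} with hDt
  have hDtS : Dt ≤ stab K G R := by
    rw [hDt, Subgroup.closure_le]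
    rintro q (rfl | rfl)
    · exact mem_stab_of_forall R hfin a₁ g₁ h1
    · exact mem_stab_of_forall R hfin a₂ g₂ h2
  have hsnd : ∀ h : G, ∃ k : K, (k, h) ∈ Dt := by
    have e : Dt.map (MonoidHom.snd K G) = ⊤ := by
      rw [hDt, MonoidHom.map_closure, ← hgen]
      congr 1
      ext x
      simp [Set.image_insert_eq]
    intro h
    have hh : h ∈ Dt.map (MonoidHom.snd K G) := by
      rw [e]
      trivial
    obtain ⟨⟨k, h'⟩, hk, rfl⟩ := hh
    exact ⟨k, hk⟩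
  set D : Subgroup (K × Γ) := Dt.map (MonoidHom.prodMap (MonoidHom.id K) π) with hD
  have memD : ∀ k h, (k, h) ∈ Dt → (k, π h) ∈ D := fun k h hk => ⟨(k, h), hk, rfl⟩
  have hsndD : ∀ y : Γ, ∃ k : K, (k, y) ∈ D := by
    intro y
    obtain ⟨h, rfl⟩ := hπ y
    obtain ⟨k, hk⟩ := hsnd h
    exact ⟨k, memD k h hk⟩
  let N₁ : Subgroup Γ := D.comap (MonoidHom.inr K Γ)
  have hN₁ : N₁.Normal := by
    constructor
    intro γ hγ y
    obtain ⟨k, hk⟩ := hsndD y
    show ((1 : K), y * γ * y⁻¹) ∈ D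
    have e : ((1 : K), y * γ * y⁻¹) = (k, y) * (1, γ) * (k, y)⁻¹ := by
      ext <;> simp
    rw [e]
    exact D.mul_mem (D.mul_mem hk hγ) (D.inv_mem hk)
  rcases hN₁.eq_bot_or_eq_top with hbot | htop
  · -- the two projections of `D` are bijective
    let φ₁ : D →* K := (MonoidHom.fst K Γ).comp D.subtype
    let φ₂ : D →* Γ := (MonoidHom.snd K Γ).comp D.subtype
    have hinj : Function.Injective φ₁ := by
      rw [injective_iff_map_eq_one]
      rintro ⟨⟨k, γ⟩, hd⟩ hk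
      have hk1 : k = 1 := hk
      subst hk1
      have hγ : γ ∈ N₁ := hd
      rw [hbot, Subgroup.mem_bot] at hγ
      subst hγ
      rfl
    have hsurj : Function.Surjective φ₂ := by
      intro y
      obtain ⟨k, hk⟩ := hsndD y
      exact ⟨⟨(k, y), hk⟩, rfl⟩
    have c1 : Nat.card Γ ≤ Nat.card D := Nat.card_le_card_of_surjective φ₂ hsurj
    have c2 : Nat.card D ≤ Nat.card K := Nat.card_le_card_of_injective φ₁ hinj
    have hb1 : Function.Bijective φ₁ :=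
      hinj.bijective_of_nat_card_le (hcard.trans c1)
    have hb2 : Function.Bijective φ₂ :=
      hsurj.bijective_of_nat_card_le (c2.trans hcard)
    exact ⟨(MulEquiv.ofBijective φ₁ hb1).symm.trans (MulEquiv.ofBijective φ₂ hb2)⟩
  · exfalso
    have hall : ∀ g : G, ∃ z : G, (∀ h, h * z = z * h) ∧ ((1 : K), g * z) ∈ Dt := by
      intro g
      have hg : π g ∈ N₁ := by
        rw [htop]
        trivial
      obtain ⟨⟨k, h'⟩, hmem, e⟩ := hg
      have ek : k = 1 := congrArg Prod.fst e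
      have eh : π h' = π g := congrArg Prod.snd e
      subst ek
      refine ⟨g⁻¹ * h', ?_, ?_⟩
      · have hz : g⁻¹ * h' ∈ Subgroup.center G := by
          apply hker
          rw [MonoidHom.mem_ker, map_mul, map_inv, eh, inv_mul_cancel]
        intro h
        exact Subgroup.mem_center_iff.mp hz h
      · rw [mul_inv_cancel_left]
        exact hmem
    obtain ⟨z₁, hz₁, m₁⟩ := hall g₁
    obtain ⟨z₂, hz₂, m₂⟩ := hall g₂
    have hm : ((1 : K), g₁ * g₂ * g₁⁻¹ * g₂⁻¹) ∈ Dt := by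
      have h3 := Dt.mul_mem (Dt.mul_mem (Dt.mul_mem m₁ m₂) (Dt.inv_mem m₁)) (Dt.inv_mem m₂)
      have e : ((1 : K), g₁ * z₁) * (1, g₂ * z₂) * ((1 : K), g₁ * z₁)⁻¹ * ((1 : K), g₂ * z₂)⁻¹ =
          ((1 : K), g₁ * g₂ * g₁⁻¹ * g₂⁻¹) := by
        ext
        · simp
        · simp only [Prod.snd_mul, Prod.snd_inv]
          exact comm_central hz₁ hz₂
      rw [e] at h3
      exact h3
    have h4 := (hDtS hm) p₀
    simp only [one_smul] at h4
    exact hc (h4.mpr hp₀)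

end Cfsg.Agent.Lib.Helper7.GraphIso
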