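import Mathlib
import Cfsg.Prelude
import Cfsg.Agent.Lib.Helper1.MatCode3

/-!
# Vanishing of the first cohomology of a two-generator matrix group over `ZMod 2` by a finite check

A crossed homomorphism `f : G → V` (with `V = ι → ZMod 2`, `G` acting through matrices) is determined by
its values on generators; the relations of the group give conditions on these values, which are
evaluated on codes of the vectors.
-/

set_option autoImplicit false

namespace Cfsg.Agent.Lib.Helper7.H1Coh

open Matrix Cfsg.Agent.Lib.Helper1.MatCode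

section abstract

variable {G : Type*} [Group G] {ι : Type*} [Fintype ι] [DecidableEq ι] {R : Type*} [CommRing R]

theorem coc_one (M : G →* Matrix ι ι R) (f : G → ι → R)
    (hf : ∀ g h : G, f (g * h) = f g + M g *ᵥ f h) : f 1 = 0 := by
  have h := hf 1 1
  rw [mul_one, map_one, Matrix.one_mulVec] at h
  exact left_eq_add.mp h

/-- a crossed homomorphism which is principal on a generating set is principal -/
theorem principal_of_gens (M : G →* Matrix ι ι R) (f : G → ι → R)
    (hf : ∀ g h : G, f (g * h) = f g + M g *ᵥ f h) (S : Set G) (hS : Subgroup.closure S = ⊤)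
    (v : ι → R) (hv : ∀ s ∈ S, f s = M s *ᵥ v - v) (g : G) : f g = M g *ᵥ v - v := by
  have h1 := coc_one M f hf
  let H : Subgroup G :=
    { carrier := {g | f g = M g *ᵥ v - v}
      one_mem' := by
        show f 1 = M 1 *ᵥ v - v
        rw [h1, map_one, Matrix.one_mulVec, sub_self]
      mul_mem' := by
        intro a b ha hb
        show f (a * b) = M (a * b) *ᵥ v - v
        have ha' : f a = M a *ᵥ v - v := ha
        have hb' : f b = M b *ᵥ v - v := hb
        rw [hf, ha', hb', map_mul, Matrix.mulVec_sub, Matrix.mulVec_mulVec]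
        abel
      inv_mem' := by
        intro a ha
        show f a⁻¹ = M a⁻¹ *ᵥ v - v
        have ha' : f a = M a *ᵥ v - v := ha
        have h := hf a⁻¹ a
        rw [inv_mul_cancel, h1, ha', Matrix.mulVec_sub, Matrix.mulVec_mulVec, ← map_mul,
          inv_mul_cancel, map_one, Matrix.one_mulVec] at h
        have h' : f a⁻¹ = -(v - M a⁻¹ *ᵥ v) := eq_neg_of_add_eq_zero_left h.symm
        rw [h', neg_sub] }
  have hle : Subgroup.closure S ≤ H := (Subgroup.closure_le H).2 hv
  rw [hS] at hle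
  exact hle (Subgroup.mem_top g)

end abstract

/-- evaluation of a crossed homomorphism on a word, on codes -/
def FwN (T : ℕ → ℕ → ℕ) (c : ℕ → ℕ) : List ℕ → ℕ
  | [] => 0
  | i :: w => c i ^^^ T i (FwN T c w)

/-- the values on the two generators -/
def cOf (x y : ℕ) (i : ℕ) : ℕ := if i = 0 then x else y

/-- the finite check: every pair of values compatible with the relations is a coboundary -/
def chk (N : ℕ) (T : ℕ → ℕ → ℕ) (rels : List (List ℕ × List ℕ)) : Bool :=
  (List.range N).all (fun x => (List.range N).all (fun y =>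
    !(rels.all (fun r => FwN T (cOf x y) r.1 == FwN T (cOf x y) r.2)) ||
      (List.range N).any (fun v => (x == T 0 v ^^^ v) && (y == T 1 v ^^^ v))))

/-- the words use the two generators only -/
def chkW (rels : List (List ℕ × List ℕ)) : Bool :=
  rels.all (fun r => r.1.all (fun i => decide (i < 2)) && r.2.all (fun i => decide (i < 2)))

/-- the data of a coded two-generator matrix group -/
structure Setup (G : Type*) [Group G] (ι : Type*) [Fintype ι] [DecidableEq ι] where
  M : G →* Matrix ι ι (ZMod 2)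
  gA : G
  gB : G
  E : (ι → ZMod 2) → ℕ
  N : ℕ
  T : ℕ → ℕ → ℕ
  E_inj : Function.Injective E
  E_add : ∀ x y, E (x + y) = E x ^^^ E y
  E_lt : ∀ x, E x < N
  E_surj : ∀ n, n < N → ∃ x, E x = n
  E_actA : ∀ x, E (M gA *ᵥ x) = T 0 (E x)
  E_actB : ∀ x, E (M gB *ᵥ x) = T 1 (E x)

namespace Setup

variable {G : Type*} [Group G] {ι : Type*} [Fintype ι] [DecidableEq ι] (S : Setup G ι)

theorem E_zero : S.E 0 = 0 := by
  have h := S.E_add 0 0
  rw [add_zero, Nat.xor_self] at h
  exact h

theorem sub_eq_add' (x y : ι → ZMod 2) : x - y = x + y := by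
  funext i
  have : ∀ a b : ZMod 2, a - b = a + b := by decide
  exact this _ _

theorem E_act (i : ℕ) (hi : i < 2) (x : ι → ZMod 2) :
    S.E (S.M ([S.gA, S.gB].getD i 1) *ᵥ x) = S.T i (S.E x) := by
  interval_cases i
  · exact S.E_actA x
  · exact S.E_actB x

theorem E_word (f : G → ι → ZMod 2) (hf : ∀ g h : G, f (g * h) = f g + S.M g *ᵥ f h)
    (w : List ℕ) (hw : ∀ i ∈ w, i < 2) :
    S.E (f (wordProd [S.gA, S.gB] w)) = FwN S.T (cOf (S.E (f S.gA)) (S.E (f S.gB))) w := by
  induction w with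
  | nil =>
    rw [wordProd_nil, coc_one S.M f hf, S.E_zero]
    rfl
  | cons i w ih =>
    have hi : i < 2 := hw i (List.mem_cons_self)
    have hw' : ∀ j ∈ w, j < 2 := fun j hj => hw j (List.mem_cons_of_mem _ hj)
    rw [wordProd_cons, hf, S.E_add, S.E_act i hi, ih hw']
    show _ = cOf (S.E (f S.gA)) (S.E (f S.gB)) i ^^^ _
    congr 1
    interval_cases i
    · rfl
    · rfl

theorem main (hgen : Subgroup.closure ({S.gA, S.gB} : Set G) = ⊤)
    (rels : List (List ℕ × List ℕ))
    (hrel : ∀ r ∈ rels, wordProd [S.gA, S.gB] r.1 = wordProd [S.gA, S.gB] r.2)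
    (hW : chkW rels = true) (hchk : chk S.N S.T rels = true)
    (f : G → ι → ZMod 2) (hf : ∀ g h : G, f (g * h) = f g + S.M g *ᵥ f h) :
    ∃ v : ι → ZMod 2, ∀ g : G, f g = S.M g *ᵥ v - v := by
  have hx := S.E_lt (f S.gA)
  have hy := S.E_lt (f S.gB)
  unfold chk at hchk
  rw [List.all_eq_true] at hchk
  have h1 := hchk _ (List.mem_range.2 hx)
  rw [List.all_eq_true] at h1
  have h2 := h1 _ (List.mem_range.2 hy)
  rw [Bool.or_eq_true] at h2
  have hall : (rels.all (fun r => FwN S.T (cOf (S.E (f S.gA)) (S.E (f S.gB))) r.1 ==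
      FwN S.T (cOf (S.E (f S.gA)) (S.E (f S.gB))) r.2)) = true := by
    rw [List.all_eq_true]
    intro r hr
    unfold chkW at hW
    rw [List.all_eq_true] at hW
    have hWr := hW r hr
    rw [Bool.and_eq_true, List.all_eq_true, List.all_eq_true] at hWr
    have hw1 : ∀ i ∈ r.1, i < 2 := fun i hi => of_decide_eq_true (hWr.1 i hi)
    have hw2 : ∀ i ∈ r.2, i < 2 := fun i hi => of_decide_eq_true (hWr.2 i hi)
    rw [beq_iff_eq, ← S.E_word f hf r.1 hw1, ← S.E_word f hf r.2 hw2, hrel r hr]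
  rcases h2 with h2 | h2
  · rw [hall] at h2
    exact absurd h2 (by decide)
  · rw [List.any_eq_true] at h2
    obtain ⟨v, hv, hxy⟩ := h2
    rw [Bool.and_eq_true, beq_iff_eq, beq_iff_eq] at hxy
    obtain ⟨v', hv'⟩ := S.E_surj v (List.mem_range.1 hv)
    refine ⟨v', ?_⟩
    apply principal_of_gens S.M f hf _ hgen
    intro s hs
    rcases hs with rfl | hs
    · apply S.E_inj
      rw [hxy.1, sub_eq_add', S.E_add, S.E_actA, hv']
    · rw [Set.mem_singleton_iff] at hs
      subst hs
      apply S.E_inj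
      rw [hxy.2, sub_eq_add', S.E_add, S.E_actB, hv']

end Setup

/-- transport along an equality of forms -/
theorem transport {ι : Type} [Fintype ι] [DecidableEq ι] (Q Q' : (ι → ZMod 2) → ZMod 2) (h : Q = Q')
    (H : ∀ f : ↥(Cfsg.Omega (ZMod 2) Q) → (ι → ZMod 2),
      (∀ g h : ↥(Cfsg.Omega (ZMod 2) Q), f (g * h) = f g +
        Matrix.mulVec (((g : ↥(Cfsg.isometryGroup (ZMod 2) Q)) : GL ι (ZMod 2)) :
          Matrix ι ι (ZMod 2)) (f h)) →
      ∃ v : ι → ZMod 2, ∀ g : ↥(Cfsg.Omega (ZMod 2) Q), f g =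
        Matrix.mulVec (((g : ↥(Cfsg.isometryGroup (ZMod 2) Q)) : GL ι (ZMod 2)) :
          Matrix ι ι (ZMod 2)) v - v) :
    ∀ f : ↥(Cfsg.Omega (ZMod 2) Q') → (ι → ZMod 2),
      (∀ g h : ↥(Cfsg.Omega (ZMod 2) Q'), f (g * h) = f g +
        Matrix.mulVec (((g : ↥(Cfsg.isometryGroup (ZMod 2) Q')) : GL ι (ZMod 2)) :
          Matrix ι ι (ZMod 2)) (f h)) →
      ∃ v : ι → ZMod 2, ∀ g : ↥(Cfsg.Omega (ZMod 2) Q'), f g =
        Matrix.mulVec (((g : ↥(Cfsg.isometryGroup (ZMod 2) Q')) : GL ι (ZMod 2)) :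
          Matrix ι ι (ZMod 2)) v - v := by
  subst h
  exact H

/-- the matrix of an element of `Ω(Q)`, as a homomorphism -/
def matHom {ι : Type} [Fintype ι] [DecidableEq ι] (Q : (ι → ZMod 2) → ZMod 2) :
    ↥(Cfsg.Omega (ZMod 2) Q) →* Matrix ι ι (ZMod 2) :=
  (Units.coeHom (Matrix ι ι (ZMod 2))).comp
    ((Cfsg.isometryGroup (ZMod 2) Q).subtype.comp (Cfsg.Omega (ZMod 2) Q).subtype)

theorem matHom_apply {ι : Type} [Fintype ι] [DecidableEq ι] (Q : (ι → ZMod 2) → ZMod 2)
    (g : ↥(Cfsg.Omega (ZMod 2) Q)) :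
    matHom Q g = (((g : ↥(Cfsg.isometryGroup (ZMod 2) Q)) : GL ι (ZMod 2)) :
      Matrix ι ι (ZMod 2)) := rfl

end Cfsg.Agent.Lib.Helper7.H1Coh
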