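import Mathlib
import Cfsg.Agent.Lib.Helper1.O8G
import Cfsg.Agent.Lib.Helper7.H1Coh1

/-!
# `H¹(Ω₈⁺(2), V) = 0` for the natural module `V`
-/

set_option autoImplicit false
set_option maxRecDepth 100000

namespace Cfsg.Agent.Lib.Helper7.H1Coh

open Matrix Cfsg.Agent.Lib.Helper1 Cfsg.Agent.Lib.Helper1.MatCode
  Cfsg.Agent.Lib.Helper5.QuadGlue Cfsg.Agent.Lib.Helper2

theorem enc_add8 : ∀ m n : Fin 256, (O8.enc (O8.dec m + O8.dec n)).val = m.val ^^^ n.val := by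
  decide +kernel

/-- the coded group `Ω₈⁺(2)` -/
noncomputable def setup8 : Setup O8.G8 (Fin 4 ⊕ Fin 4) where
  M := matHom ⇑O8.QF
  gA := O8.gA
  gB := O8.gB
  E := fun x => (O8.enc x).val
  N := 256
  T := O8.fT
  E_inj := by
    intro x y h
    have h' : O8.enc x = O8.enc y := Fin.ext h
    rw [← O8.dec_enc x, ← O8.dec_enc y, h']
  E_add := by
    intro x y
    obtain ⟨m, rfl⟩ := O8.dec_surjective x
    obtain ⟨n, rfl⟩ := O8.dec_surjective y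
    show (O8.enc (O8.dec m + O8.dec n)).val = (O8.enc (O8.dec m)).val ^^^ (O8.enc (O8.dec n)).val
    rw [enc_add8, O8.enc_dec, O8.enc_dec]
  E_lt := fun x => (O8.enc x).isLt
  E_surj := by
    intro n hn
    exact ⟨O8.dec ⟨n, hn⟩, by show (O8.enc (O8.dec ⟨n, hn⟩)).val = n; rw [O8.enc_dec]⟩
  E_actA := by
    intro x
    have h := O8.φ_gA (O8.enc x)
    rw [O8.φ_apply, O8.φO_apply, O8.dec_enc] at h
    exact h
  E_actB := by
    intro x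
    have h := O8.φ_gB (O8.enc x)
    rw [O8.φ_apply, O8.φO_apply, O8.dec_enc] at h
    exact h

theorem chkW8 : chkW O8.relsL = true := by decide +kernel

theorem chk8 : chk 256 O8.fT O8.relsL = true := by decide +kernel

theorem h1_O8 (f : O8.G8 → (Fin 4 ⊕ Fin 4 → ZMod 2))
    (hf : ∀ g h : O8.G8, f (g * h) = f g + matHom (⇑O8.QF) g *ᵥ f h) :
    ∃ v : Fin 4 ⊕ Fin 4 → ZMod 2, ∀ g : O8.G8, f g = matHom (⇑O8.QF) g *ᵥ v - v :=
  setup8.main O8.closure_GG O8.relsL O8.hrel chkW8 chk8 f hf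

/-- the first cohomology group of `Ω₈⁺(2)` on the natural module vanishes -/
theorem h1_plus8 : ∀ f : ↥(Cfsg.Omega (ZMod 2) (Cfsg.quadFormPlus 4 (ZMod 2))) →
      (Fin 4 ⊕ Fin 4 → ZMod 2),
    (∀ g h : ↥(Cfsg.Omega (ZMod 2) (Cfsg.quadFormPlus 4 (ZMod 2))), f (g * h) = f g +
      Matrix.mulVec (((g : ↥(Cfsg.isometryGroup (ZMod 2) (Cfsg.quadFormPlus 4 (ZMod 2)))) :
        GL (Fin 4 ⊕ Fin 4) (ZMod 2)) : Matrix (Fin 4 ⊕ Fin 4) (Fin 4 ⊕ Fin 4) (ZMod 2)) (f h)) →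
    ∃ v : Fin 4 ⊕ Fin 4 → ZMod 2, ∀ g : ↥(Cfsg.Omega (ZMod 2) (Cfsg.quadFormPlus 4 (ZMod 2))),
      f g = Matrix.mulVec (((g : ↥(Cfsg.isometryGroup (ZMod 2) (Cfsg.quadFormPlus 4 (ZMod 2)))) :
        GL (Fin 4 ⊕ Fin 4) (ZMod 2)) : Matrix (Fin 4 ⊕ Fin 4) (Fin 4 ⊕ Fin 4) (ZMod 2)) v - v :=
  transport (⇑O8.QF) (Cfsg.quadFormPlus 4 (ZMod 2)) (QuadStd.QP_coe 4) h1_O8

end Cfsg.Agent.Lib.Helper7.H1Coh
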