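import Mathlib
import Cfsg.Agent.S2635
import Cfsg.Agent.Lib.Helper2.QuadStd
import Cfsg.Agent.Lib.Helper2.CDGen
import Cfsg.Agent.Lib.Helper7.H1Coh1

/-!
# The group `Ω₆⁻(2)` acting on the 64 coded vectors
-/

set_option autoImplicit false
set_option maxRecDepth 100000

namespace Cfsg.Agent.Lib.Helper7.H1Coh.O6

open Matrix Cfsg.Agent.Lib.Helper5.QuadGlue Cfsg.Agent.Lib.Helper2
  Cfsg.Agent.Lib.Helper2.CDG Cfsg.Agent.Lib.Helper1.MatCode

/-- the index type -/
abbrev I6 : Type := (Fin 2 ⊕ Fin 2) ⊕ Fin 2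

/-- the quadratic form -/
noncomputable abbrev QF : QuadraticForm (ZMod 2) (I6 → ZMod 2) := QM 2 (ZMod 2) 1 1

/-- the orthogonal group -/
abbrev O6 := ↥(Cfsg.isometryGroup (ZMod 2) ⇑QF)

/-- the group -/
abbrev G6 := ↥(Cfsg.Omega (ZMod 2) ⇑QF)

/-- the vectors -/
abbrev V6 := I6 → ZMod 2

/-- the vector with a given code -/
def dec (n : Fin 64) : V6 := fun i =>
  match i with
  | .inl (.inl i) => if n.val.testBit i.val then 1 else 0
  | .inl (.inr i) => if n.val.testBit (2 + i.val) then 1 else 0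
  | .inr i => if n.val.testBit (4 + i.val) then 1 else 0

/-- the code of a vector -/
def enc (x : V6) : Fin 64 :=
  Fin.ofNat 64 ((x (.inl (.inl 0))).val + 2 * (x (.inl (.inl 1))).val +
    4 * (x (.inl (.inr 0))).val + 8 * (x (.inl (.inr 1))).val + 16 * (x (.inr 0)).val +
    32 * (x (.inr 1)).val)

theorem enc_dec : ∀ n : Fin 64, enc (dec n) = n := by decide +kernel

theorem dec_injective : Function.Injective dec :=
  Function.LeftInverse.injective enc_dec

theorem dec_surjective : Function.Surjective dec := by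
  have hc : Fintype.card V6 = Fintype.card (Fin 64) := by
    rw [Fintype.card_fun, Fintype.card_sum, Fintype.card_sum, Fintype.card_fin, ZMod.card,
      Fintype.card_fin]
    norm_num
  exact ((Fintype.bijective_iff_injective_and_card dec).mpr ⟨dec_injective, hc.symm⟩).2

theorem dec_enc (x : V6) : dec (enc x) = x := by
  obtain ⟨n, rfl⟩ := dec_surjective x
  rw [enc_dec]

theorem enc_add : ∀ m n : Fin 64, (enc (dec m + dec n)).val = m.val ^^^ n.val := by
  decide +kernel

/-- the matrix of an isometry -/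
abbrev mat (g : O6) : Matrix I6 I6 (ZMod 2) :=
  ((g : Matrix.GeneralLinearGroup I6 (ZMod 2)) : Matrix _ _ (ZMod 2))

/-- the action on the codes -/
noncomputable def cod (g : O6) (n : Fin 64) : Fin 64 := enc (mat g *ᵥ dec n)

theorem dec_cod (g : O6) (n : Fin 64) : dec (cod g n) = mat g *ᵥ dec n := dec_enc _

theorem cod_mul (g h : O6) (n : Fin 64) : cod (g * h) n = cod g (cod h n) := by
  unfold cod
  rw [dec_enc, mul_mulVec]

theorem cod_one (n : Fin 64) : cod 1 n = n := by
  unfold cod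
  rw [one_mulVec', enc_dec]

theorem cod_ext {g h : O6} (hgh : ∀ n, cod g n = cod h n) : g = h := by
  apply iso_ext
  intro x
  obtain ⟨n, rfl⟩ := dec_surjective x
  rw [← dec_cod, ← dec_cod, hgh]

/-- the quadratic form on the codes -/
def qN (n : ℕ) : Bool :=
  (n.testBit 0 && n.testBit 2) ^^ (n.testBit 1 && n.testBit 3) ^^ (n.testBit 4 || n.testBit 5)

/-- the polar form on the codes -/
def bN (n k : ℕ) : Bool := qN (n ^^^ k) ^^ qN n ^^ qN k

/-- the reflections on the codes -/
def rfN (k n : ℕ) : ℕ := if bN n k then n ^^^ k else n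

theorem q_chk : ∀ k : Fin 64,
    Cfsg.quadFormMinus 2 (ZMod 2) 1 1 (dec k) = if qN k.val then 1 else 0 := by
  decide +kernel

theorem QF_dec (k : Fin 64) : QF (dec k) = if qN k.val then 1 else 0 := by
  rw [QM_apply]; exact q_chk k

theorem rf_chk : ∀ k n : Fin 64, qN k.val = true →
    (enc (dec n - ((Cfsg.quadFormMinus 2 (ZMod 2) 1 1 (dec k))⁻¹ *
      (Cfsg.quadFormMinus 2 (ZMod 2) 1 1 (dec k + dec n) -
        Cfsg.quadFormMinus 2 (ZMod 2) 1 1 (dec k) -
        Cfsg.quadFormMinus 2 (ZMod 2) 1 1 (dec n))) • dec k)).val = rfN k.val n.val := by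
  decide +kernel

theorem polar_chk : ∀ m : Fin 64, m ≠ 0 → ∃ n : Fin 64,
    Cfsg.quadFormMinus 2 (ZMod 2) 1 1 (dec m + dec n) -
      Cfsg.quadFormMinus 2 (ZMod 2) 1 1 (dec m) -
      Cfsg.quadFormMinus 2 (ZMod 2) 1 1 (dec n) ≠ 0 := by
  decide +kernel

theorem dec_zero : dec 0 = 0 := by
  funext i
  rcases i with (i | i) | i <;> fin_cases i <;> rfl

theorem QF_nondeg : (QuadraticMap.polarBilin QF).Nondegenerate := by
  have hleft : ∀ u : V6, (∀ v, QuadraticMap.polar (⇑QF) u v = 0) → u = 0 := by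
    intro u hu
    obtain ⟨m, rfl⟩ := dec_surjective u
    by_contra hne
    have hm : m ≠ 0 := by
      rintro rfl
      exact hne dec_zero
    obtain ⟨n, hn⟩ := polar_chk m hm
    apply hn
    have h := hu (dec n)
    unfold QuadraticMap.polar at h
    rw [QM_apply, QM_apply, QM_apply] at h
    exact h
  constructor
  · intro u hu
    exact hleft u hu
  · intro v hv
    apply hleft v
    intro u
    rw [QuadraticMap.polar_comm]
    exact hv u

/-- the reflection with the vector of code `k` -/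
noncomputable def rf (k : Fin 64) : O6 :=
  if h : QF (dec k) ≠ 0 then refl QF (dec k) h else 1

theorem QF_ne_zero (k : Fin 64) (hk : qN k.val = true) : QF (dec k) ≠ 0 := by
  rw [QF_dec, if_pos hk]; exact one_ne_zero

theorem rf_eq (k : Fin 64) (hk : qN k.val = true) : rf k = refl QF (dec k) (QF_ne_zero k hk) := by
  unfold rf
  rw [dif_pos (QF_ne_zero k hk)]

theorem cod_rf (k n : Fin 64) (hk : qN k.val = true) : (cod (rf k) n).val = rfN k.val n.val := by
  unfold cod
  rw [rf_eq k hk, refl_mulVec]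
  have h := rf_chk k n hk
  unfold QuadraticMap.polar
  rw [QM_apply, QM_apply, QM_apply]
  exact h

theorem rf_mul_self (k : Fin 64) : rf k * rf k = 1 := by
  unfold rf
  split_ifs with h
  · exact refl_mul_self _ h
  · exact one_mul 1

theorem rf_inv (k : Fin 64) : (rf k)⁻¹ = rf k := inv_eq_of_mul_eq_one_left (rf_mul_self k)

theorem card_idx : Fintype.card I6 = 6 := by
  rw [Fintype.card_sum, Fintype.card_sum, Fintype.card_fin]

theorem two_eq_zero : (2 : ZMod 2) = 0 := by decide

theorem comm_eq_closure : commutator O6 = Subgroup.closure {g : O6 | ∃ u v : V6, QF u ≠ 0 ∧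
    QF v ≠ 0 ∧ mat g = Cfsg.reflectionMatrix ⇑QF u * Cfsg.reflectionMatrix ⇑QF v} :=
  Cfsg.Agent.S2635.aux two_eq_zero (by rw [card_idx]; norm_num)
    (Or.inr (by rw [card_idx]; norm_num)) QF QF_nondeg

theorem rf_mul_mem (k l : Fin 64) (hk : qN k.val = true) (hl : qN l.val = true) :
    rf k * rf l ∈ Cfsg.Omega (ZMod 2) ⇑QF := by
  show rf k * rf l ∈ commutator O6
  rw [comm_eq_closure]
  apply Subgroup.subset_closure
  refine ⟨dec k, dec l, QF_ne_zero k hk, QF_ne_zero l hl, ?_⟩
  rw [rf_eq k hk, rf_eq l hl]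
  rfl

/-- every generator of the commutator subgroup is a product of two of the reflections `rf` -/
theorem gen_eq (g : O6) (u v : V6) (hu : QF u ≠ 0) (hv : QF v ≠ 0)
    (hg : mat g = Cfsg.reflectionMatrix ⇑QF u * Cfsg.reflectionMatrix ⇑QF v) :
    ∃ k l : Fin 64, qN k.val = true ∧ qN l.val = true ∧ g = rf k * rf l := by
  obtain ⟨k, rfl⟩ := dec_surjective u
  obtain ⟨l, rfl⟩ := dec_surjective v
  have hk : qN k.val = true := by
    by_contra h
    rw [QF_dec, if_neg h] at hu
    exact hu rfl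
  have hl : qN l.val = true := by
    by_contra h
    rw [QF_dec, if_neg h] at hv
    exact hv rfl
  refine ⟨k, l, hk, hl, ?_⟩
  rw [rf_eq k hk, rf_eq l hl]
  apply Subtype.ext
  apply Units.ext
  exact hg

end Cfsg.Agent.Lib.Helper7.H1Coh.O6
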