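import Mathlib
import Cfsg.Agent.Lib.Helper7.H1Coh3

/-!
# `H¹(Ω₆⁻(2), V) = 0` for the natural module `V`
-/

set_option autoImplicit false
set_option maxRecDepth 100000

namespace Cfsg.Agent.Lib.Helper7.H1Coh.O6

open Matrix Cfsg.Agent.Lib.Helper5.QuadGlue Cfsg.Agent.Lib.Helper2
  Cfsg.Agent.Lib.Helper2.CDG Cfsg.Agent.Lib.Helper1.MatCode

/-- the tables of the two generators -/
def TAB : List ℕ := [0x48c3d1d6ba3621654bbf1cacc2eb735c9294ab4de935340e70205fee59b81986c587ff22fa08fd64711a93ae670dd780, 0x87aee097efe4b76deca72ce86420d87461dc54e3d444a2d0c6aaf0d6ebf4f669fce628f82524c83565cc15e7c405a6c0]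

/-- the action of the generators on the codes -/
def fT (i x : ℕ) : ℕ := (TAB.getD i 0 >>> (6 * x)) &&& 63

/-- words for the products of the first reflection with the others -/
def wW : List (ℕ × List ℕ) := [(5, []), (7, [0, 0, 0, 1, 1, 1, 0, 0, 1, 1, 0, 1, 1, 1, 0, 0, 1]), (10, [0, 1, 0, 1, 0, 1, 1, 1, 1, 1, 0, 1, 1, 1, 0, 0]), (11, [1, 1, 0, 1, 0, 1, 0, 0, 1, 0, 1, 1, 0, 1]), (13, [0, 0, 1, 0, 0, 1, 0, 1, 1, 1, 0, 1, 0, 0, 1]), (14, [1, 0, 1, 0, 1, 0, 1, 1, 1, 1, 0, 0, 0, 1, 1]), (16, [0, 1, 1, 1, 1, 1, 0, 0, 1, 0, 1, 1, 0, 1]), (17, [0, 1, 0, 1, 1, 1, 0, 1, 0, 0, 0, 1, 1, 0]), (18, [1, 1, 1, 0, 1, 0, 0, 1, 1, 1, 0, 1, 1, 1]), (19, [1, 1, 1, 0, 1, 0, 1, 0, 1, 0, 0, 0]), (20, [0, 1, 0, 1, 0, 0, 1, 0, 0, 0, 1, 0, 1, 1, 0]), (22, [1, 0, 1, 0, 0, 0, 1, 1, 1, 0, 1, 1, 1, 0]), (24, [0, 0, 1, 1, 0, 1, 0, 1, 0, 0, 1, 0, 0, 1, 1, 0]), (25, [0, 1, 1, 0, 1, 1, 0, 1, 0, 0, 0, 1, 0, 1]),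 (28, [1, 1, 0, 1, 1, 1, 0, 1, 1, 1, 1, 0, 1, 0, 1, 0]), (31, [0, 0, 1, 0, 1, 0, 1, 1, 0, 0, 1, 0]), (32, [1, 1, 1, 1, 0, 0, 0, 1, 1, 1, 0, 1, 1]), (33, [1, 0, 0, 1, 1, 0, 1, 0, 1, 1, 0, 1, 0, 1, 0]), (34, [1, 1, 1, 0, 1, 0, 0, 1, 0, 1, 1, 1]), (35, [1, 1, 0, 1, 1, 1, 0, 1, 0, 1, 1, 0, 0, 0]), (36, [0, 0, 0, 1, 1, 0, 1, 1, 1, 1, 0, 1, 1]), (38, [1, 0, 1, 0, 0, 0, 1, 1, 1, 0, 1, 0]), (40, [1, 0, 1, 0, 1, 1, 1, 0, 1, 1, 1, 1, 1, 0, 1]), (41, [0, 0, 1, 0, 1, 0, 1, 1, 0, 1, 1, 1, 1, 0, 1, 0]), (44, [0, 0, 1, 1, 1, 0, 1, 0, 1, 0, 0, 1, 1, 1, 1, 0]), (47, [0, 1, 1, 0, 1, 0, 0, 0, 1, 1, 0, 1, 0, 0]), (48, [0, 1, 0, 1, 1, 0, 0, 1, 0, 0, 0, 1]), (49, [1, 0, 1, 1, 0, 0, 1, 0, 1, 1, 0, 1, 0, 1, 0, 0]), (50, [0, 1, 1, 1, 1, 1, 0, 1, 1, 0, 1, 0, 1, 1, 0, 1]), (51, [0, 1, 1, 1, 0, 0, 1, 1, 0, 1, 0, 0, 1, 1]), (52, [1, 0, 0, 1, 1, 0, 1, 0, 0, 1, 1, 1, 1, 1, 0]), (54, [0, 0, 0, 1, 0, 1, 0, 0, 1,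 1, 1, 1, 0, 1]), (56, [1, 0, 1, 1, 1, 1, 0, 1, 1, 1, 0, 1, 1, 1]), (57, [1, 1, 1, 0, 1, 1, 0, 0, 0, 1, 1, 1]), (60, [1, 1, 1, 0, 1, 1, 1, 1, 0, 0, 0, 1, 1, 1]), (63, [1, 1, 1, 1, 0, 1, 1, 0, 0, 1, 1, 1, 0, 1, 1])]

/-- relations -/
def relsL : List (List ℕ × List ℕ) := [([1, 1, 1, 1, 1, 1], []), ([0, 0, 1, 0, 0, 1, 0, 0, 1, 0, 0, 1], []), ([0, 1, 0, 1, 1, 0, 1, 0, 1, 1, 0, 1, 0, 1, 1, 0, 1, 0, 1, 1, 0, 1, 0, 1, 1], []), ([0, 1, 1, 1, 0, 1, 1, 1, 0, 1, 1, 1, 0, 1, 1, 1, 0, 1, 1, 1], []), ([0, 1, 0, 0, 1, 1, 0, 1, 0, 0, 1, 1, 0, 1, 0, 0, 1, 1, 0, 1, 0, 0, 1, 1], [])]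

/-- the generators, in the orthogonal group -/
noncomputable def aO : O6 := rf 18 * rf 13 * (rf 32 * rf 17)

noncomputable def bO : O6 := rf 54 * rf 50 * (rf 52 * rf 44)

theorem aO_mem : aO ∈ Cfsg.Omega (ZMod 2) ⇑QF :=
  Subgroup.mul_mem _ (rf_mul_mem 18 13 (by decide) (by decide))
    (rf_mul_mem 32 17 (by decide) (by decide))

theorem bO_mem : bO ∈ Cfsg.Omega (ZMod 2) ⇑QF :=
  Subgroup.mul_mem _ (rf_mul_mem 54 50 (by decide) (by decide))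
    (rf_mul_mem 52 44 (by decide) (by decide))

/-- the generators -/
noncomputable def gA : G6 := ⟨aO, aO_mem⟩

noncomputable def gB : G6 := ⟨bO, bO_mem⟩

theorem tabA_chk : ∀ x : Fin 64,
    rfN 18 (rfN 13 (rfN 32 (rfN 17 x.val))) = fT 0 x.val := by decide +kernel

theorem tabB_chk : ∀ x : Fin 64,
    rfN 54 (rfN 50 (rfN 52 (rfN 44 x.val))) = fT 1 x.val := by decide +kernel

theorem cod_rf4 (a b c e : Fin 64) (ha : qN a.val = true) (hb : qN b.val = true)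
    (hc : qN c.val = true) (he : qN e.val = true) (n : Fin 64) :
    (cod (rf a * rf b * (rf c * rf e)) n).val = rfN a.val (rfN b.val (rfN c.val (rfN e.val n.val))) := by
  rw [cod_mul, cod_mul, cod_mul, cod_rf _ _ ha, cod_rf _ _ hb, cod_rf _ _ hc, cod_rf _ _ he]

theorem cod_gA (x : Fin 64) : (cod gA.1 x).val = fT 0 x.val := by
  rw [← tabA_chk]
  exact cod_rf4 18 13 32 17 (by decide) (by decide) (by decide) (by decide) x

theorem cod_gB (x : Fin 64) : (cod gB.1 x).val = fT 1 x.val := by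
  rw [← tabB_chk]
  exact cod_rf4 54 50 52 44 (by decide) (by decide) (by decide) (by decide) x

/-- the action of a word on the codes -/
def wordTab (w : List ℕ) (x : ℕ) : ℕ := w.foldr (fun i x => fT i x) x

theorem fT_lt (i x : ℕ) : fT i x < 64 := by
  unfold fT
  exact Nat.lt_of_le_of_lt Nat.and_le_right (by norm_num)

theorem cod_word (w : List ℕ) (hw : ∀ i ∈ w, i < 2) (x : Fin 64) :
    (cod (wordProd [gA, gB] w).1 x).val = wordTab w x.val := by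
  induction w generalizing x with
  | nil =>
    rw [wordProd_nil]
    show (cod 1 x).val = x.val
    rw [cod_one]
  | cons i w ih =>
    have hi : i < 2 := hw i List.mem_cons_self
    have hw' : ∀ j ∈ w, j < 2 := fun j hj => hw j (List.mem_cons_of_mem _ hj)
    rw [wordProd_cons]
    show (cod (([gA, gB].getD i 1).1 * (wordProd [gA, gB] w).1) x).val = fT i (wordTab w x.val)
    rw [cod_mul, ← ih hw']
    interval_cases i
    · exact cod_gA _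
    · exact cod_gB _

theorem wW_chk : wW.all (fun p => decide (p.1 < 64) && qN p.1 &&
    (p.2.all fun i => decide (i < 2)) &&
    (List.range 64).all (fun n => rfN 5 (rfN p.1 n) == wordTab p.2 n)) = true := by
  decide +kernel

theorem wW_all : (List.range 64).all (fun v => !qN v || wW.any (fun p => p.1 == v)) = true := by
  decide +kernel

theorem rels_chk : relsL.all (fun r => (r.1.all fun i => decide (i < 2)) &&
    (r.2.all fun i => decide (i < 2)) &&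
    (List.range 64).all (fun n => wordTab r.1 n == wordTab r.2 n)) = true := by
  decide +kernel

theorem q5 : qN 5 = true := by decide

/-- the products of the first reflection with the others are words in the generators -/
theorem tw_mem (v : Fin 64) (hv : qN v.val = true) :
    ∃ w : List ℕ, rf 5 * rf v = (wordProd [gA, gB] w).1 := by
  have h1 := wW_all
  rw [List.all_eq_true] at h1
  have h2 := h1 v.val (List.mem_range.2 v.isLt)
  rw [hv] at h2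
  simp only [Bool.not_true, Bool.false_or, List.any_eq_true, beq_iff_eq] at h2
  obtain ⟨p, hp, hpv⟩ := h2
  have h3 := wW_chk
  rw [List.all_eq_true] at h3
  have h4 := h3 p hp
  rw [Bool.and_eq_true, Bool.and_eq_true, Bool.and_eq_true, decide_eq_true_eq,
    List.all_eq_true, List.all_eq_true] at h4
  obtain ⟨⟨⟨_, _⟩, h5⟩, h6⟩ := h4
  refine ⟨p.2, ?_⟩
  apply cod_ext
  intro n
  apply Fin.ext
  rw [cod_mul, cod_rf _ _ q5, cod_rf _ _ hv, cod_word p.2 (fun i hi => of_decide_eq_true (h5 i hi))]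
  have h7 := h6 n.val (List.mem_range.2 n.isLt)
  rw [beq_iff_eq, hpv] at h7
  exact h7

/-- the two elements generate the group -/
theorem closure_GG : Subgroup.closure ({gA, gB} : Set G6) = ⊤ := by
  set L := Subgroup.closure ({gA, gB} : Set G6) with hL
  have ha : gA ∈ L := Subgroup.subset_closure (by simp)
  have hb : gB ∈ L := Subgroup.subset_closure (by simp)
  have hword : ∀ w : List ℕ, wordProd [gA, gB] w ∈ L := by
    intro w
    apply wordProd_mem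
    intro g hg
    simp only [List.mem_cons, List.not_mem_nil, or_false] at hg
    rcases hg with rfl | rfl
    · exact ha
    · exact hb
  set L' : Subgroup O6 := L.map (Subgroup.subtype _) with hL'
  have hword' : ∀ w : List ℕ, (wordProd [gA, gB] w).1 ∈ L' := fun w => ⟨_, hword w, rfl⟩
  have htw : ∀ v : Fin 64, qN v.val = true → rf 5 * rf v ∈ L' := by
    intro v hv
    obtain ⟨w, hw⟩ := tw_mem v hv
    rw [hw]
    exact hword' w
  have hpair : ∀ k l : Fin 64, qN k.val = true → qN l.val = true → rf k * rf l ∈ L' := by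
    intro k l hk hl
    have h : rf k * rf l = (rf 5 * rf k)⁻¹ * (rf 5 * rf l) := by
      rw [_root_.mul_inv_rev, rf_inv, rf_inv, mul_assoc, ← mul_assoc (rf 5), rf_mul_self, one_mul]
    rw [h]
    exact L'.mul_mem (L'.inv_mem (htw k hk)) (htw l hl)
  have hcomm : commutator O6 ≤ L' := by
    rw [comm_eq_closure, Subgroup.closure_le]
    rintro g ⟨u, v, hu, hv, hg⟩
    obtain ⟨k, l, hk, hl, rfl⟩ := gen_eq g u v hu hv hg
    exact hpair k l hk hl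
  rw [eq_top_iff]
  intro g _
  obtain ⟨l, hl, hlg⟩ := hcomm g.2
  have : l = g := Subtype.ext hlg
  rw [← this]
  exact hl

theorem hrel : ∀ r ∈ relsL, wordProd [gA, gB] r.1 = wordProd [gA, gB] r.2 := by
  intro r hr
  have h := rels_chk
  rw [List.all_eq_true] at h
  have h1 := h r hr
  rw [Bool.and_eq_true, Bool.and_eq_true, List.all_eq_true, List.all_eq_true,
    List.all_eq_true] at h1
  obtain ⟨⟨h2, h3⟩, h4⟩ := h1
  apply Subtype.ext
  apply cod_ext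
  intro n
  apply Fin.ext
  rw [cod_word r.1 (fun i hi => of_decide_eq_true (h2 i hi)),
    cod_word r.2 (fun i hi => of_decide_eq_true (h3 i hi))]
  have h5 := h4 n.val (List.mem_range.2 n.isLt)
  rw [beq_iff_eq] at h5
  exact h5

/-- the coded group `Ω₆⁻(2)` -/
noncomputable def setup6 : Setup G6 I6 where
  M := matHom ⇑QF
  gA := gA
  gB := gB
  E := fun x => (enc x).val
  N := 64
  T := fT
  E_inj := by
    intro x y h
    have h' : enc x = enc y := Fin.ext h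
    rw [← dec_enc x, ← dec_enc y, h']
  E_add := by
    intro x y
    obtain ⟨m, rfl⟩ := dec_surjective x
    obtain ⟨n, rfl⟩ := dec_surjective y
    show (enc (dec m + dec n)).val = (enc (dec m)).val ^^^ (enc (dec n)).val
    rw [enc_add, enc_dec, enc_dec]
  E_lt := fun x => (enc x).isLt
  E_surj := by
    intro n hn
    exact ⟨dec ⟨n, hn⟩, by show (enc (dec ⟨n, hn⟩)).val = n; rw [enc_dec]⟩
  E_actA := by
    intro x
    have h := cod_gA (enc x)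
    unfold cod at h
    rw [dec_enc] at h
    exact h
  E_actB := by
    intro x
    have h := cod_gB (enc x)
    unfold cod at h
    rw [dec_enc] at h
    exact h

theorem chkW6 : chkW relsL = true := by decide +kernel

theorem chk6 : chk 64 fT relsL = true := by decide +kernel

theorem h1_O6 (f : G6 → (I6 → ZMod 2))
    (hf : ∀ g h : G6, f (g * h) = f g + matHom (⇑QF) g *ᵥ f h) :
    ∃ v : I6 → ZMod 2, ∀ g : G6, f g = matHom (⇑QF) g *ᵥ v - v :=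
  setup6.main closure_GG relsL hrel chkW6 chk6 f hf

end Cfsg.Agent.Lib.Helper7.H1Coh.O6

namespace Cfsg.Agent.Lib.Helper7.H1Coh

open Cfsg.Agent.Lib.Helper2

/-- the first cohomology group of `Ω₆⁻(2)` on the natural module vanishes -/
theorem h1_minus6 : ∀ f : ↥(Cfsg.Omega (ZMod 2) (Cfsg.quadFormMinus 2 (ZMod 2) 1 1)) →
      ((Fin 2 ⊕ Fin 2) ⊕ Fin 2 → ZMod 2),
    (∀ g h : ↥(Cfsg.Omega (ZMod 2) (Cfsg.quadFormMinus 2 (ZMod 2) 1 1)), f (g * h) = f g +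
      Matrix.mulVec (((g : ↥(Cfsg.isometryGroup (ZMod 2) (Cfsg.quadFormMinus 2 (ZMod 2) 1 1))) :
        GL ((Fin 2 ⊕ Fin 2) ⊕ Fin 2) (ZMod 2)) :
          Matrix ((Fin 2 ⊕ Fin 2) ⊕ Fin 2) ((Fin 2 ⊕ Fin 2) ⊕ Fin 2) (ZMod 2)) (f h)) →
    ∃ v : (Fin 2 ⊕ Fin 2) ⊕ Fin 2 → ZMod 2,
      ∀ g : ↥(Cfsg.Omega (ZMod 2) (Cfsg.quadFormMinus 2 (ZMod 2) 1 1)),
      f g = Matrix.mulVec
        (((g : ↥(Cfsg.isometryGroup (ZMod 2) (Cfsg.quadFormMinus 2 (ZMod 2) 1 1))) :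
        GL ((Fin 2 ⊕ Fin 2) ⊕ Fin 2) (ZMod 2)) :
          Matrix ((Fin 2 ⊕ Fin 2) ⊕ Fin 2) ((Fin 2 ⊕ Fin 2) ⊕ Fin 2) (ZMod 2)) v - v :=
  transport (⇑O6.QF) (Cfsg.quadFormMinus 2 (ZMod 2) 1 1) (QuadStd.QM_coe 2 1 1) O6.h1_O6

end Cfsg.Agent.Lib.Helper7.H1Coh
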