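import Mathlib
import Cfsg.Agent.Lib.Helper2.OMinus4
import Cfsg.Agent.Lib.Helper7.H1Coh1

/-!
# `H¹(Ω₄⁻(2), V) = 0` for the natural module `V`
-/

set_option autoImplicit false
set_option maxRecDepth 100000

namespace Cfsg.Agent.Lib.Helper7.H1Coh.O4m

open Matrix Cfsg.Agent.Lib.Helper2.OMinus Cfsg.Agent.Lib.Helper1.MatCode

open scoped commutatorElement

/-- the vector with a given code -/
def dec (n : Fin 16) : Vec := fun i =>
  match i with
  | .inl (.inl _) => if n.val.testBit 0 then 1 else 0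
  | .inl (.inr _) => if n.val.testBit 1 then 1 else 0
  | .inr i => if n.val.testBit (2 + i.val) then 1 else 0

/-- the code of a vector -/
def enc (x : Vec) : Fin 16 :=
  Fin.ofNat 16 ((x ix).val + 2 * (x iy).val + 4 * (x iz).val + 8 * (x iw).val)

theorem enc_dec : ∀ n : Fin 16, enc (dec n) = n := by decide +kernel

theorem dec_injective : Function.Injective dec :=
  Function.LeftInverse.injective enc_dec

theorem dec_surjective : Function.Surjective dec := by
  have hc : Fintype.card Vec = Fintype.card (Fin 16) := by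
    rw [Fintype.card_fun, Fintype.card_sum, Fintype.card_sum, Fintype.card_fin, Fintype.card_fin,
      ZMod.card, Fintype.card_fin]
    norm_num
  exact ((Fintype.bijective_iff_injective_and_card dec).mpr ⟨dec_injective, hc.symm⟩).2

theorem dec_enc (x : Vec) : dec (enc x) = x := by
  obtain ⟨n, rfl⟩ := dec_surjective x
  rw [enc_dec]

theorem enc_add : ∀ m n : Fin 16, (enc (dec m + dec n)).val = m.val ^^^ n.val := by
  decide +kernel

/-- the action on the codes -/
def cod (g : O4) (n : Fin 16) : Fin 16 := enc (g.1.1 *ᵥ dec n)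

theorem dec_cod (g : O4) (n : Fin 16) : dec (cod g n) = g.1.1 *ᵥ dec n := dec_enc _

theorem cod_mul (g h : O4) (n : Fin 16) : cod (g * h) n = cod g (cod h n) := by
  unfold cod
  rw [dec_enc, Matrix.mulVec_mulVec]
  rfl

theorem cod_one (n : Fin 16) : cod 1 n = n := by
  unfold cod
  show enc ((1 : Matrix I4 I4 (ZMod 2)) *ᵥ dec n) = n
  rw [Matrix.one_mulVec, enc_dec]

theorem cod_ext {g h : O4} (hgh : ∀ n, cod g n = cod h n) : g = h := by
  apply Subtype.ext
  apply Units.ext
  apply Matrix.mulVec_injective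
  funext x
  obtain ⟨n, rfl⟩ := dec_surjective x
  rw [← dec_cod, ← dec_cod, hgh]

/-- the tables of the four transpositions -/
def TABS : List ℕ := [0xfdecb9a875643120, 0xfe89bacd23546710, 0xfedc7654ba983210, 0xba98fedc76543210]

def fS (i x : ℕ) : ℕ := (TABS.getD i 0 >>> (4 * x)) &&& 15

/-- the tables of the two generators -/
def TAB : List ℕ := [0xf8e9bcad25346170, 0xbcad2534f8e96170]

/-- the action of the generators on the codes -/
def fT (i x : ℕ) : ℕ := (TAB.getD i 0 >>> (4 * x)) &&& 15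

/-- sixty words with different values -/
def wL : List (List ℕ) := [[], [0], [1], [0, 0], [0, 1], [1, 0], [1, 1], [0, 0, 1], [0, 1, 0], [0, 1, 1], [1, 0, 0], [1, 0, 1], [1, 1, 0], [1, 1, 1], [0, 0, 1, 0], [0, 0, 1, 1], [0, 1, 0, 0], [0, 1, 0, 1], [0, 1, 1, 1], [1, 0, 0, 1], [1, 0, 1, 0], [1, 0, 1, 1], [1, 1, 0, 0], [1, 1, 0, 1], [1, 1, 1, 0], [1, 1, 1, 1], [0, 0, 1, 0, 0], [0, 0, 1, 0, 1], [0, 1, 0, 0, 1], [0, 1, 0, 1, 0], [0, 1, 0, 1, 1], [0, 1, 1, 1, 0], [0, 1, 1, 1, 1], [1, 0, 0, 1, 1], [1, 0, 1, 0, 0], [1, 0, 1, 0, 1], [1, 0, 1, 1, 1], [1, 1, 0, 0, 1], [1, 1, 1, 0, 1], [1, 1, 1, 1, 0], [0, 0, 1, 0, 1, 0], [0, 0, 1, 0, 1, 1], [0, 1, 0, 0, 1, 1], [0, 1, 0, 1, 0, 0], [0, 1, 0, 1, 1, 1], [0, 1, 1, 1, 0, 1], [1, 0, 1, 0, 0, 1], [1, 0, 1, 0, 1, 1], [1, 0, 1, 1, 1, 0], [1, 0, 1, 1, 1, 1], [1, 1, 1, 1, 0, 1], [0, 0, 1, 0, 1, 1, 1], [0, 1, 0, 1, 0, 0, 1], [0, 1, 0, 1, 1, 1, 0], [0, 1, 0, 1, 1, 1, 1], [1, 0, 1, 0, 0, 1, 1], [1, 0, 1, 0, 1, 1, 1], [0, 0, 1, 0, 1, 1, 1,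 0], [0, 0, 1, 0, 1, 1, 1, 1], [0, 1, 0, 1, 0, 0, 1, 1]]

/-- relations -/
def relsL : List (List ℕ × List ℕ) := [([0, 0, 0], []), ([0, 1, 1, 0, 1, 1], [])]

theorem tab01 : ∀ n : Fin 16, (enc (M01 *ᵥ dec n)).val = fS 0 n.val := by decide +kernel
theorem tab12 : ∀ n : Fin 16, (enc (M12 *ᵥ dec n)).val = fS 1 n.val := by decide +kernel
theorem tab23 : ∀ n : Fin 16, (enc (M23 *ᵥ dec n)).val = fS 2 n.val := by decide +kernel
theorem tab34 : ∀ n : Fin 16, (enc (M34 *ᵥ dec n)).val = fS 3 n.val := by decide +kernel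

theorem cod_g01 (n : Fin 16) : (cod g01 n).val = fS 0 n.val := tab01 n
theorem cod_g12 (n : Fin 16) : (cod g12 n).val = fS 1 n.val := tab12 n
theorem cod_g23 (n : Fin 16) : (cod g23 n).val = fS 2 n.val := tab23 n
theorem cod_g34 (n : Fin 16) : (cod g34 n).val = fS 3 n.val := tab34 n

theorem g01_inv : g01⁻¹ = g01 :=
  inv_eq_of_mul_eq_one_left (Subtype.ext (Units.ext M01_sq))
theorem g12_inv : g12⁻¹ = g12 :=
  inv_eq_of_mul_eq_one_left (Subtype.ext (Units.ext M12_sq))
theorem g23_inv : g23⁻¹ = g23 :=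
  inv_eq_of_mul_eq_one_left (Subtype.ext (Units.ext M23_sq))
theorem g34_inv : g34⁻¹ = g34 :=
  inv_eq_of_mul_eq_one_left (Subtype.ext (Units.ext M34_sq))

/-- the generators, in the orthogonal group -/
def aO : O4 := ⁅g01, g12⁆

def bO : O4 := ⁅g01, g12⁆ * ⁅g23, g34⁆

theorem aO_mem : aO ∈ commutator O4 := by
  rw [commutator_def]
  exact Subgroup.commutator_mem_commutator (Subgroup.mem_top _) (Subgroup.mem_top _)

theorem bO_mem : bO ∈ commutator O4 := by
  rw [commutator_def]
  exact Subgroup.mul_mem _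
    (Subgroup.commutator_mem_commutator (Subgroup.mem_top _) (Subgroup.mem_top _))
    (Subgroup.commutator_mem_commutator (Subgroup.mem_top _) (Subgroup.mem_top _))

/-- the group -/
abbrev G4 := ↥(commutator O4)

/-- the generators -/
def gA : G4 := ⟨aO, aO_mem⟩

def gB : G4 := ⟨bO, bO_mem⟩

theorem fS_lt (i x : ℕ) : fS i x < 16 := by
  unfold fS
  exact Nat.lt_of_le_of_lt Nat.and_le_right (by norm_num)

theorem tabA_chk : ∀ x : Fin 16, fS 0 (fS 1 (fS 0 (fS 1 x.val))) = fT 0 x.val := by decide +kernel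

theorem tabB_chk : ∀ x : Fin 16,
    fS 0 (fS 1 (fS 0 (fS 1 (fS 2 (fS 3 (fS 2 (fS 3 x.val))))))) = fT 1 x.val := by decide +kernel

theorem cod_comm01 (x : Fin 16) : (cod ⁅g01, g12⁆ x).val = fS 0 (fS 1 (fS 0 (fS 1 x.val))) := by
  rw [commutatorElement_def, g01_inv, g12_inv, cod_mul, cod_mul, cod_mul, cod_g01, cod_g12,
    cod_g01, cod_g12]

theorem cod_comm23 (x : Fin 16) : (cod ⁅g23, g34⁆ x).val = fS 2 (fS 3 (fS 2 (fS 3 x.val))) := by
  rw [commutatorElement_def, g23_inv, g34_inv, cod_mul, cod_mul, cod_mul, cod_g23, cod_g34,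
    cod_g23, cod_g34]

theorem cod_gA (x : Fin 16) : (cod gA.1 x).val = fT 0 x.val := by
  rw [← tabA_chk]
  exact cod_comm01 x

theorem cod_gB (x : Fin 16) : (cod gB.1 x).val = fT 1 x.val := by
  rw [← tabB_chk]
  show (cod (⁅g01, g12⁆ * ⁅g23, g34⁆) x).val = _
  rw [cod_mul, cod_comm01, cod_comm23]

/-- the action of a word on the codes -/
def wordTab (w : List ℕ) (x : ℕ) : ℕ := w.foldr (fun i x => fT i x) x

theorem cod_word (w : List ℕ) (hw : ∀ i ∈ w, i < 2) (x : Fin 16) :
    (cod (wordProd [gA, gB] w).1 x).val = wordTab w x.val := by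
  induction w generalizing x with
  | nil =>
    rw [wordProd_nil]
    show (cod 1 x).val = x.val
    rw [cod_one]
  | cons i w ih =>
    have hi : i < 2 := hw i List.mem_cons_self
    have hw' : ∀ j ∈ w, j < 2 := fun j hj => hw j (List.mem_cons_of_mem _ hj)
    rw [wordProd_cons]
    show (cod (([gA, gB].getD i 1).1 * (wordProd [gA, gB] w).1) x).val = fT i (wordTab w x.val)
    rw [cod_mul, ← ih hw']
    interval_cases i
    · exact cod_gA _
    · exact cod_gB _

theorem wL_chk : wL.all (fun w => w.all fun i => decide (i < 2)) = true := by decide +kernel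

theorem wL_length : wL.length = 60 := by decide +kernel

theorem wL_ne : wL.Pairwise (fun w w' =>
    (List.range 16).any (fun n => wordTab w n != wordTab w' n) = true) := by decide +kernel

theorem rels_chk : relsL.all (fun r => (r.1.all fun i => decide (i < 2)) &&
    (r.2.all fun i => decide (i < 2)) &&
    (List.range 16).all (fun n => wordTab r.1 n == wordTab r.2 n)) = true := by
  decide +kernel

theorem card_O4comm : Nat.card G4 = 60 := by
  have h1 : (commutator O4).map isoPerm.toMonoidHom = commutator (Equiv.Perm (Fin 5)) := by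
    rw [commutator_def, Subgroup.map_commutator, commutator_def]
    have : (⊤ : Subgroup O4).map isoPerm.toMonoidHom = ⊤ := by
      rw [← MonoidHom.range_eq_map, MonoidHom.range_eq_top]
      exact isoPerm.surjective
    rw [this]
  have h2 : Nat.card ((commutator O4).map isoPerm.toMonoidHom) = Nat.card (commutator O4) :=
    Subgroup.card_map_of_injective isoPerm.injective
  rw [← h2, h1, alternatingGroup.commutator_perm_eq (by simp), nat_card_alternatingGroup]
  simp
  decide

/-- the two elements generate the group -/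
theorem closure_GG : Subgroup.closure ({gA, gB} : Set G4) = ⊤ := by
  set L := Subgroup.closure ({gA, gB} : Set G4) with hL
  have ha : gA ∈ L := Subgroup.subset_closure (by simp)
  have hb : gB ∈ L := Subgroup.subset_closure (by simp)
  have hword : ∀ w : List ℕ, wordProd [gA, gB] w ∈ L := by
    intro w
    apply wordProd_mem
    intro g hg
    simp only [List.mem_cons, List.not_mem_nil, or_false] at hg
    rcases hg with rfl | rfl
    · exact ha
    · exact hb
  haveI : Finite G4 := Nat.finite_of_card_ne_zero (by rw [card_O4comm]; norm_num)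
  apply Subgroup.eq_top_of_le_card
  rw [card_O4comm]
  -- sixty different elements of `L`
  let φ : Fin 60 → L := fun i => ⟨wordProd [gA, gB] (wL.getD i.val []), hword _⟩
  have hφ : Function.Injective φ := by
    intro i j hij
    by_contra hne
    have hij' : wordProd [gA, gB] (wL.getD i.val []) = wordProd [gA, gB] (wL.getD j.val []) :=
      congrArg Subtype.val hij
    have hlen : wL.length = 60 := wL_length
    have hi : i.val < wL.length := by rw [hlen]; exact i.isLt
    have hj : j.val < wL.length := by rw [hlen]; exact j.isLt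
    have hall := wL_chk
    rw [List.all_eq_true] at hall
    have hwi : ∀ k ∈ wL.getD i.val [], k < 2 := by
      intro k hk
      rw [List.getD_eq_getElem _ _ hi] at hk
      have := hall _ (List.getElem_mem hi)
      rw [List.all_eq_true] at this
      exact of_decide_eq_true (this k hk)
    have hwj : ∀ k ∈ wL.getD j.val [], k < 2 := by
      intro k hk
      rw [List.getD_eq_getElem _ _ hj] at hk
      have := hall _ (List.getElem_mem hj)
      rw [List.all_eq_true] at this
      exact of_decide_eq_true (this k hk)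
    have hsame : ∀ n : Fin 16, wordTab (wL.getD i.val []) n.val = wordTab (wL.getD j.val []) n.val := by
      intro n
      rw [← cod_word _ hwi, ← cod_word _ hwj, hij']
    have hpw := wL_ne
    rw [List.pairwise_iff_getElem] at hpw
    rcases lt_or_gt_of_ne (fun h => hne (Fin.ext h)) with hlt | hgt
    · have h := hpw i.val j.val hi hj hlt
      rw [List.any_eq_true] at h
      obtain ⟨n, hn, hne'⟩ := h
      rw [bne_iff_ne] at hne'
      apply hne'
      have := hsame ⟨n, List.mem_range.1 hn⟩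
      rw [List.getD_eq_getElem _ _ hi, List.getD_eq_getElem _ _ hj] at this
      exact this
    · have h := hpw j.val i.val hj hi hgt
      rw [List.any_eq_true] at h
      obtain ⟨n, hn, hne'⟩ := h
      rw [bne_iff_ne] at hne'
      apply hne'
      have := hsame ⟨n, List.mem_range.1 hn⟩
      rw [List.getD_eq_getElem _ _ hi, List.getD_eq_getElem _ _ hj] at this
      exact this.symm
  have hcard := Nat.card_le_card_of_injective φ hφ
  rw [Nat.card_eq_fintype_card, Fintype.card_fin] at hcard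
  exact hcard

theorem hrel : ∀ r ∈ relsL, wordProd [gA, gB] r.1 = wordProd [gA, gB] r.2 := by
  intro r hr
  have h := rels_chk
  rw [List.all_eq_true] at h
  have h1 := h r hr
  rw [Bool.and_eq_true, Bool.and_eq_true, List.all_eq_true, List.all_eq_true,
    List.all_eq_true] at h1
  obtain ⟨⟨h2, h3⟩, h4⟩ := h1
  apply Subtype.ext
  apply cod_ext
  intro n
  apply Fin.ext
  rw [cod_word r.1 (fun i hi => of_decide_eq_true (h2 i hi)),
    cod_word r.2 (fun i hi => of_decide_eq_true (h3 i hi))]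
  have h5 := h4 n.val (List.mem_range.2 n.isLt)
  rw [beq_iff_eq] at h5
  exact h5

/-- the coded group `Ω₄⁻(2)` -/
def setup4 : Setup G4 I4 where
  M := matHom Qm
  gA := gA
  gB := gB
  E := fun x => (enc x).val
  N := 16
  T := fT
  E_inj := by
    intro x y h
    have h' : enc x = enc y := Fin.ext h
    rw [← dec_enc x, ← dec_enc y, h']
  E_add := by
    intro x y
    obtain ⟨m, rfl⟩ := dec_surjective x
    obtain ⟨n, rfl⟩ := dec_surjective y
    show (enc (dec m + dec n)).val = (enc (dec m)).val ^^^ (enc (dec n)).val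
    rw [enc_add, enc_dec, enc_dec]
  E_lt := fun x => (enc x).isLt
  E_surj := by
    intro n hn
    exact ⟨dec ⟨n, hn⟩, by show (enc (dec ⟨n, hn⟩)).val = n; rw [enc_dec]⟩
  E_actA := by
    intro x
    have h := cod_gA (enc x)
    unfold cod at h
    rw [dec_enc] at h
    exact h
  E_actB := by
    intro x
    have h := cod_gB (enc x)
    unfold cod at h
    rw [dec_enc] at h
    exact h

theorem chkW4 : chkW relsL = true := by decide +kernel

theorem chk4 : chk 16 fT relsL = true := by decide +kernel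

end Cfsg.Agent.Lib.Helper7.H1Coh.O4m

namespace Cfsg.Agent.Lib.Helper7.H1Coh

open Cfsg.Agent.Lib.Helper2.OMinus

/-- the first cohomology group of `Ω₄⁻(2)` on the natural module vanishes -/
theorem h1_minus4 : ∀ f : ↥(Cfsg.Omega (ZMod 2) (Cfsg.quadFormMinus 1 (ZMod 2) 1 1)) →
      ((Fin 1 ⊕ Fin 1) ⊕ Fin 2 → ZMod 2),
    (∀ g h : ↥(Cfsg.Omega (ZMod 2) (Cfsg.quadFormMinus 1 (ZMod 2) 1 1)), f (g * h) = f g +
      Matrix.mulVec (((g : ↥(Cfsg.isometryGroup (ZMod 2) (Cfsg.quadFormMinus 1 (ZMod 2) 1 1))) :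
        GL ((Fin 1 ⊕ Fin 1) ⊕ Fin 2) (ZMod 2)) :
          Matrix ((Fin 1 ⊕ Fin 1) ⊕ Fin 2) ((Fin 1 ⊕ Fin 1) ⊕ Fin 2) (ZMod 2)) (f h)) →
    ∃ v : (Fin 1 ⊕ Fin 1) ⊕ Fin 2 → ZMod 2,
      ∀ g : ↥(Cfsg.Omega (ZMod 2) (Cfsg.quadFormMinus 1 (ZMod 2) 1 1)),
      f g = Matrix.mulVec
        (((g : ↥(Cfsg.isometryGroup (ZMod 2) (Cfsg.quadFormMinus 1 (ZMod 2) 1 1))) :
        GL ((Fin 1 ⊕ Fin 1) ⊕ Fin 2) (ZMod 2)) :
          Matrix ((Fin 1 ⊕ Fin 1) ⊕ Fin 2) ((Fin 1 ⊕ Fin 1) ⊕ Fin 2) (ZMod 2)) v - v :=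
  fun f hf => O4m.setup4.main O4m.closure_GG O4m.relsL O4m.hrel O4m.chkW4 O4m.chk4 f hf

end Cfsg.Agent.Lib.Helper7.H1Coh
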