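import Mathlib
import Cfsg.Prelude
import Cfsg.Agent.Lib.Helper7.U35D

set_option autoImplicit false
set_option maxRecDepth 100000

/-! The special unitary group of degree 3 over the field with 25 elements: a concrete field with
25 elements, the two generators and the 3024 isotropic vectors. -/

namespace Cfsg.Agent.Lib.Helper7.U35

open Cfsg Matrix

/-- the field with 25 elements, concretely: `a + b t` with `t ^ 2 = 2` -/
structure F25c : Type where
  re : ZMod 5
  im : ZMod 5
  deriving DecidableEq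

namespace F25c

/-- the elements as pairs -/
def equivProd : F25c ≃ ZMod 5 × ZMod 5 where
  toFun x := (x.re, x.im)
  invFun p := ⟨p.1, p.2⟩
  left_inv _ := rfl
  right_inv _ := rfl

instance : Fintype F25c := Fintype.ofEquiv _ equivProd.symm

instance : Zero F25c := ⟨⟨0, 0⟩⟩
instance : One F25c := ⟨⟨1, 0⟩⟩
instance : Add F25c := ⟨fun x y => ⟨x.re + y.re, x.im + y.im⟩⟩
instance : Neg F25c := ⟨fun x => ⟨-x.re, -x.im⟩⟩
instance : Mul F25c :=
  ⟨fun x y => ⟨x.re * y.re + 2 * (x.im * y.im), x.re * y.im + x.im * y.re⟩⟩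

/-- the norm -/
def nrm (x : F25c) : ZMod 5 := x.re * x.re - 2 * (x.im * x.im)

instance : Inv F25c :=
  ⟨fun x => ⟨x.re * (nrm x * nrm x * nrm x), -x.im * (nrm x * nrm x * nrm x)⟩⟩

set_option maxHeartbeats 4000000 in
instance : Field F25c where
  add_assoc := by decide +kernel
  zero_add := by decide +kernel
  add_zero := by decide +kernel
  add_comm := by decide +kernel
  neg_add_cancel := by decide +kernel
  mul_assoc := by decide +kernel
  one_mul := by decide +kernel
  mul_one := by decide +kernel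
  left_distrib := by decide +kernel
  right_distrib := by decide +kernel
  zero_mul := by decide +kernel
  mul_zero := by decide +kernel
  mul_comm := by decide +kernel
  exists_pair_ne := ⟨0, 1, by decide +kernel⟩
  mul_inv_cancel := by decide +kernel
  inv_zero := rfl
  nsmul := nsmulRec
  zsmul := zsmulRec
  qsmul := _
  nnqsmul := _

theorem card : Fintype.card F25c = 5 ^ 2 := rfl

/-- the conjugation -/
def conj (x : F25c) : F25c := ⟨x.re, -x.im⟩

theorem conj_eq_pow : ∀ x : F25c, conj x = x ^ 5 := by decide +kernel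

theorem conj_add : ∀ x y : F25c, conj (x + y) = conj x + conj y := by decide +kernel

theorem conj_mul : ∀ x y : F25c, conj (x * y) = conj x * conj y := by decide +kernel

end F25c

open F25c

/-- the Hermitian form with the conjugation -/
theorem hermForm_eq (u v : Fin 3 → F25c) :
    Cfsg.hermForm 3 F25c 5 u v = u 0 * conj (v 0) + u 1 * conj (v 1) + u 2 * conj (v 2) := by
  unfold Cfsg.hermForm
  rw [Fin.sum_univ_three, conj_eq_pow, conj_eq_pow, conj_eq_pow]

/-- the product of a matrix and a vector -/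
def mv (M : Matrix (Fin 3) (Fin 3) F25c) (v : Fin 3 → F25c) : Fin 3 → F25c :=
  fun i => M i 0 * v 0 + M i 1 * v 1 + M i 2 * v 2

theorem mulVec_eq (M : Matrix (Fin 3) (Fin 3) F25c) (v : Fin 3 → F25c) : M *ᵥ v = mv M v := by
  funext i
  unfold mv
  rw [Matrix.mulVec, dotProduct, Fin.sum_univ_three]

/-- the matrices with orthonormal columns preserve the form -/
theorem herm_mv (M : Matrix (Fin 3) (Fin 3) F25c)
    (h : ∀ a b : Fin 3, M 0 a * conj (M 0 b) + M 1 a * conj (M 1 b) + M 2 a * conj (M 2 b) =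
      if a = b then 1 else 0) (u v : Fin 3 → F25c) :
    Cfsg.hermForm 3 F25c 5 (mv M u) (mv M v) = Cfsg.hermForm 3 F25c 5 u v := by
  rw [hermForm_eq, hermForm_eq]
  unfold mv
  simp only [conj_add, conj_mul]
  have h00 := h 0 0
  have h01 := h 0 1
  have h02 := h 0 2
  have h10 := h 1 0
  have h11 := h 1 1
  have h12 := h 1 2
  have h20 := h 2 0
  have h21 := h 2 1
  have h22 := h 2 2
  simp only [Fin.isValue, if_true, show ((0 : Fin 3) = 1) = False from by decide,
    show ((0 : Fin 3) = 2) = False from by decide, show ((1 : Fin 3) = 0) = False from by decide,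
    show ((1 : Fin 3) = 2) = False from by decide, show ((2 : Fin 3) = 0) = False from by decide,
    show ((2 : Fin 3) = 1) = False from by decide, if_false] at h00 h01 h02 h10 h11 h12 h20 h21 h22
  linear_combination (u 0 * conj (v 0)) * h00 + (u 0 * conj (v 1)) * h01 +
    (u 0 * conj (v 2)) * h02 + (u 1 * conj (v 0)) * h10 + (u 1 * conj (v 1)) * h11 +
    (u 1 * conj (v 2)) * h12 + (u 2 * conj (v 0)) * h20 + (u 2 * conj (v 1)) * h21 +
    (u 2 * conj (v 2)) * h22

/-- an element of the field from a number below 25 -/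
def elt (n : ℕ) : F25c := ⟨((n % 5 : ℕ) : ZMod 5), ((n / 5 : ℕ) : ZMod 5)⟩

/-- the number of an element -/
def num (x : F25c) : ℕ := x.re.val + 5 * x.im.val

theorem num_elt : ∀ n : Fin 25, num (elt n.val) = n.val := by decide +kernel

/-- the matrix of a list of lists of numbers -/
def matOf (l : List (List ℕ)) : Matrix (Fin 3) (Fin 3) F25c :=
  Matrix.of fun i j => elt ((l.getD i.val []).getD j.val 0)

/-- the matrices of the two generators -/
def MA : Matrix (Fin 3) (Fin 3) F25c := matOf lA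

def MB : Matrix (Fin 3) (Fin 3) F25c := matOf lB

theorem MA_det : MA.det = 1 := by
  rw [Matrix.det_fin_three]
  decide +kernel

theorem MB_det : MB.det = 1 := by
  rw [Matrix.det_fin_three]
  decide +kernel

theorem MA_unit : ∀ a b : Fin 3, MA 0 a * conj (MA 0 b) + MA 1 a * conj (MA 1 b) +
    MA 2 a * conj (MA 2 b) = if a = b then 1 else 0 := by decide +kernel

theorem MB_unit : ∀ a b : Fin 3, MB 0 a * conj (MB 0 b) + MB 1 a * conj (MB 1 b) +
    MB 2 a * conj (MB 2 b) = if a = b then 1 else 0 := by decide +kernel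

/-- the group -/
abbrev Gs : Type := ↥(Cfsg.SU 3 F25c 5)

theorem mem_SU_of (M : Matrix (Fin 3) (Fin 3) F25c) (hd : M.det = 1)
    (h : ∀ a b : Fin 3, M 0 a * conj (M 0 b) + M 1 a * conj (M 1 b) + M 2 a * conj (M 2 b) =
      if a = b then 1 else 0) :
    (⟨M, hd⟩ : Matrix.SpecialLinearGroup (Fin 3) F25c) ∈ Cfsg.SU 3 F25c 5 := by
  intro u v
  show Cfsg.hermForm 3 F25c 5 (M *ᵥ u) (M *ᵥ v) = Cfsg.hermForm 3 F25c 5 u v
  rw [mulVec_eq, mulVec_eq]
  exact herm_mv M h u v

/-- the two generators -/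
def gA : Gs := ⟨⟨MA, MA_det⟩, mem_SU_of MA MA_det MA_unit⟩

def gB : Gs := ⟨⟨MB, MB_det⟩, mem_SU_of MB MB_det MB_unit⟩

theorem smul_eq (g : Gs) (v : Fin 3 → F25c) :
    g • v = mv (g.1.1 : Matrix (Fin 3) (Fin 3) F25c) v := by
  rw [← mulVec_eq]
  rfl

theorem gA_smul (v : Fin 3 → F25c) : gA • v = mv MA v := smul_eq gA v

theorem gB_smul (v : Fin 3 → F25c) : gB • v = mv MB v := smul_eq gB v

/-- the code of the `j`-th isotropic vector -/
def ptc (j : ℕ) : ℕ := (ptN >>> (14 * j)) % 16384

/-- the vector of a code -/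
def vecOf (c : ℕ) : Fin 3 → F25c := fun i => elt (c / 25 ^ i.val % 25)

/-- the `j`-th isotropic vector -/
def pt (j : ℕ) : Fin 3 → F25c := vecOf (ptc j)

/-- the code of a vector -/
def codeOf (v : Fin 3 → F25c) : ℕ := num (v 0) + 25 * num (v 1) + 625 * num (v 2)

theorem codeOf_vecOf (c : ℕ) (hc : c < 15625) : codeOf (vecOf c) = c := by
  unfold codeOf vecOf
  have h0 := num_elt ⟨c / 25 ^ 0 % 25, Nat.mod_lt _ (by norm_num)⟩
  have h1 := num_elt ⟨c / 25 ^ 1 % 25, Nat.mod_lt _ (by norm_num)⟩
  have h2 := num_elt ⟨c / 25 ^ 2 % 25, Nat.mod_lt _ (by norm_num)⟩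
  simp only at h0 h1 h2
  show num (elt (c / 25 ^ (0 : Fin 3).val % 25)) + 25 * num (elt (c / 25 ^ (1 : Fin 3).val % 25)) +
    625 * num (elt (c / 25 ^ (2 : Fin 3).val % 25)) = c
  have e0 : ((0 : Fin 3).val) = 0 := rfl
  have e1 : ((1 : Fin 3).val) = 1 := rfl
  have e2 : ((2 : Fin 3).val) = 2 := rfl
  rw [e0, e1, e2, h0, h1, h2]
  omega

/-- the action of the generators on the indices -/
def P (i j : ℕ) : ℕ := (PN.getD i 0 >>> (12 * j)) % 4096

end Cfsg.Agent.Lib.Helper7.U35
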