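import Mathlib
import Cfsg.Agent.Lib.Helper7.U35A

set_option autoImplicit false
set_option maxRecDepth 100000

/-! The special unitary group of degree 3 over the field with 25 elements: the checks of the
data. -/

namespace Cfsg.Agent.Lib.Helper7.U35

open Cfsg Matrix F25c

/-- the loop -/
def allN (f : ℕ → Bool) (n : ℕ) : Bool :=
  Nat.rec (motive := fun _ => Bool) true (fun k r => Bool.rec false r (f k)) n

theorem allN_spec {f : ℕ → Bool} {n : ℕ} (h : allN f n = true) : ∀ i < n, f i = true := by
  induction n with
  | zero => intro i hi; omega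
  | succ k ih =>
    have h' : Bool.rec false (allN f k) (f k) = true := h
    intro i hi
    cases hfk : f k with
    | false => rw [hfk] at h'; exact absurd h' Bool.false_ne_true
    | true =>
      rw [hfk] at h'
      rcases Nat.lt_succ_iff_lt_or_eq.mp hi with hlt | rfl
      · exact ih h' i hlt
      · exact hfk

/-- equality of vectors -/
def vecEqB (u v : Fin 3 → F25c) : Bool :=
  decide (u 0 = v 0) && decide (u 1 = v 1) && decide (u 2 = v 2)

theorem vecEqB_spec {u v : Fin 3 → F25c} (h : vecEqB u v = true) : u = v := by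
  unfold vecEqB at h
  simp only [Bool.and_eq_true, decide_eq_true_eq] at h
  funext i
  fin_cases i
  · exact h.1.1
  · exact h.1.2
  · exact h.2

/-- the parent of an index in the spanning tree -/
def parc (j : ℕ) : ℕ := (parN >>> (13 * j)) % 8192 % 2

def parp (j : ℕ) : ℕ := (parN >>> (13 * j)) % 8192 / 2

/-- the action of a word on an index (the last letter acts first) -/
def wact (w : List ℕ) (j : ℕ) : ℕ := w.foldr (fun c j => P c j) j

theorem chk_pt : allN (fun j => Nat.blt (ptc j) 15625 &&
    Nat.beq ((invN >>> (12 * ptc j)) % 4096) (j + 1)) 3024 = true := by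
  decide +kernel

theorem chk_act : allN (fun j => vecEqB (mv MA (pt j)) (pt (P 0 j)) &&
    vecEqB (mv MB (pt j)) (pt (P 1 j)) && Nat.blt (P 0 j) 3024 && Nat.blt (P 1 j) 3024) 3024 =
      true := by
  decide +kernel

theorem chk_tree : allN (fun j => Nat.beq j 0 || (Nat.blt (parc j) 2 && Nat.blt (parp j) j &&
    Nat.beq (P (parc j) (parp j)) j)) 3024 = true := by
  decide +kernel

theorem chk_sW : (sW.all fun w => (w.all fun c => Nat.blt c 2) && Nat.beq (wact w 0) 0) = true ∧
    sW.length = 2 := by
  decide +kernel

theorem chk_ND : allN (fun k => Nat.blt (ND.getD k 0) 3024 && (Nat.beq k 0 ||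
    (Nat.blt (NPar.getD k (0, 0)).1 2 && Nat.blt (NPar.getD k (0, 0)).2 k &&
      Nat.beq (wact (sW.getD (NPar.getD k (0, 0)).1 []) (ND.getD (NPar.getD k (0, 0)).2 0))
        (ND.getD k 0)))) 125 = true ∧ ND.Nodup ∧ ND.length = 125 := by
  decide +kernel

end Cfsg.Agent.Lib.Helper7.U35
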