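import Mathlib
import Cfsg.Agent.Lib.Helper7.HSU1
import Cfsg.Agent.Lib.Helper7.U35B
import Cfsg.Agent.Lib.Helper1.LeechEnum7
import Cfsg.Agent.Lib.Helper1.EnP10aDef

set_option autoImplicit false
set_option maxRecDepth 100000

/-! The stabilizer of three vectors in the Higman–Sims configuration: the checks of the data. -/

namespace Cfsg.Agent.Lib.Helper7.HSU

open Cfsg Cfsg.Agent.Lib.Helper1 Cfsg.Agent.Lib.Helper1.LeechEnum
open Cfsg.Agent.Lib.Helper7.U35 (allN P)

/-- the third vector -/
def pZ0 : ℕ := EnP10a.prob.z0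

/-- the packed vector of an index -/
def vL (i : ℕ) : ℕ := L176.getD i 0

/-- the generator of a code -/
def gOf (c : ℕ) : List (List ℕ) :=
  Nat.rec (motive := fun _ => List (List ℕ)) ga
    (fun k _ => Nat.rec (motive := fun _ => List (List ℕ)) gb (fun _ _ => gh) k) c

theorem ga_ok : genOK [pD0, pU', pZ0] ga = true := by decide +kernel

theorem gb_ok : genOK [pD0, pU', pZ0] gb = true := by decide +kernel

theorem gh_ok : genOK [pD0, pU'] gh = true := by decide +kernel

theorem tree_ok : allB (fun i => Nat.beq i 0 ||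
    (Nat.beq (applyGen (gOf (pargL.getD i 0)) (vL (parL.getD i 0))) (vL i) &&
      Nat.blt (parL.getD i 0) i)) 176 = true := by decide +kernel

theorem act_ok : allB (fun i => Nat.beq (applyGen ga (vL i)) (vL (T1L.getD i 0)) &&
    Nat.beq (applyGen gb (vL i)) (vL (T2L.getD i 0)) &&
    Nat.blt (T1L.getD i 0) 176 && Nat.blt (T2L.getD i 0) 176) 176 = true := by decide +kernel

theorem L176_nodup : L176.Nodup := by decide +kernel

theorem L176_length : L176.length = 176 := by decide +kernel

theorem L176_lt : allB (fun i => Nat.blt (vL i) (65536 ^ 24)) 176 = true := by decide +kernel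

theorem vL_zero : vL 0 = pZ0 := by decide +kernel

/-- membership in the relation -/
def Rm (x j : ℕ) : Bool := Nat.beq (Nat.land (Nat.shiftRight (RL.getD x 0) j) 1) 1

/-- the relation is invariant under the two pairs -/
theorem chk_inv1 : allN (fun x => allN (fun j =>
    !(Rm x j) || Rm (T1L.getD x 0) (P 0 j)) 3024) 176 = true := by
  decide +kernel

theorem chk_inv2 : allN (fun x => allN (fun j =>
    !(Rm x j) || Rm (T2L.getD x 0) (P 1 j)) 3024) 176 = true := by
  decide +kernel

theorem chk_p0 : Rm 1 1 = true ∧ Rm 1 1900 = false ∧ P 1 1242 = 1 ∧ P 0 750 = 1242 ∧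
    P 1 750 = 1243 ∧ P 0 1243 = 1900 := by
  decide +kernel

end Cfsg.Agent.Lib.Helper7.HSU
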