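import Mathlib
import Cfsg.Agent.Lib.Helper7.HSU2
import Cfsg.Agent.Lib.Helper1.EnP10aAll
import Cfsg.Agent.Lib.Helper1.EnC10a
import Cfsg.Agent.Lib.Helper1.LeechEnum12

set_option autoImplicit false
set_option maxRecDepth 100000

/-! The stabilizer of three vectors in the Higman–Sims configuration: the 352 vectors in the
standard position. -/

namespace Cfsg.Agent.Lib.Helper7.HSU

open Cfsg MulAction Cfsg.Agent.Lib.Helper1 Cfsg.Agent.Lib.Helper1.LeechEnum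
  Cfsg.Agent.Lib.Helper1.LeechConn Cfsg.Agent.Lib.Helper1.LeechAut

theorem hY2 : ∀ y ∈ [pD0, pU'], Good y := by
  intro y hy
  have : y = pD0 ∨ y = pU' := by simpa using hy
  rcases this with rfl | rfl
  · exact good_pD0
  · exact good_pU'

/-- the condition defining the 352 vectors in the standard position -/
def CS (z : GolayPt → ℤ) : Prop := dotInt d₀ z = -16 ∧ dotInt Cfsg.Spor.vecU' z = 8

theorem cond_iff_CS (v : ℕ) (hv : v < 65536 ^ 24) (hg : Good v) :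
    EnP10a.prob.cond v = true ↔ CS (vec v) := by
  have h2 := dot_d0 v
  rw [sum_flds hv hg] at h2
  have h3 := dot_vecU' v
  show (Nat.beq (v % 65535 + 4 * fld 23 v) 7152 && Nat.beq (fld 0 v + 2) (fld 23 v)) = true ↔
    (dotInt d₀ (vec v) = -16 ∧ dotInt Cfsg.Spor.vecU' (vec v) = 8)
  rw [Bool.and_eq_true, nbeq_iff, nbeq_iff, h2, h3]
  omega

theorem census352 : {z : GolayPt → ℤ | z ∈ leechLattice ∧ sqNorm z = 32 ∧ CS z}.ncard = 352 :=
  EnC10a.census CS cond_iff_CS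

/-- every vector of the 352 is carried to the third vector by an automorphism fixing the first
two vectors -/
theorem reach352 (z : GolayPt → ℤ) (hz : z ∈ leechLattice) (hn : sqNorm z = 32) (hc : CS z) :
    ReachG [d₀, Cfsg.Spor.vecU'] z (vec pZ0) := by
  have h := (reach_of_checks (P := EnP10a.prob) hY2 EnP10a.gens_ok ⟨_, EnP10a.chkA_ok⟩
    EnP10a.all_ok hz hn
    (fun v hv hvz => (cond_iff_CS v hv (good_of hvz hz (by rw [hn]; norm_num))).2
      (by rw [hvz]; exact hc))).toG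
  have e1 : EnP10a.prob.Y.map vec = [d₀, Cfsg.Spor.vecU'] := by
    show [vec pD0, vec pU'] = _
    rw [vec_pD0, vec_pU']
  rwa [e1] at h

theorem good_pZ0 : Good pZ0 := by
  obtain ⟨z, hz, hn, hc⟩ := Set.nonempty_of_ncard_ne_zero
    (s := {z : GolayPt → ℤ | z ∈ leechLattice ∧ sqNorm z = 32 ∧ CS z})
    (by rw [census352]; norm_num)
  obtain ⟨g, -, hg⟩ := reach352 z hz hn hc
  have h := hg ⟨z, hz⟩ rfl
  refine ⟨?_, ?_⟩
  · rw [← h]
    exact (g • (⟨z, hz⟩ : leechLattice)).2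
  · rw [← h, smul_norm]
    show sqNorm z ≤ 64
    rw [hn]
    norm_num

theorem norm_pZ0 : sqNorm (vec pZ0) = 32 ∧ CS (vec pZ0) := by
  obtain ⟨z, hz, hn, hc⟩ := Set.nonempty_of_ncard_ne_zero
    (s := {z : GolayPt → ℤ | z ∈ leechLattice ∧ sqNorm z = 32 ∧ CS z})
    (by rw [census352]; norm_num)
  obtain ⟨g, hgY, hg⟩ := reach352 z hz hn hc
  have h := hg ⟨z, hz⟩ rfl
  have g1 : g • (⟨d₀, d0_mem⟩ : leechLattice) = ⟨d₀, d0_mem⟩ :=
    hgY d₀ (by simp) ⟨d₀, d0_mem⟩ rfl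
  have g2 : g • (⟨Cfsg.Spor.vecU', vecU'_mem⟩ : leechLattice) = ⟨Cfsg.Spor.vecU', vecU'_mem⟩ :=
    hgY Cfsg.Spor.vecU' (by simp) ⟨Cfsg.Spor.vecU', vecU'_mem⟩ rfl
  refine ⟨?_, ?_, ?_⟩
  · rw [← h, smul_norm]
    exact hn
  · have e := smul_dot g ⟨d₀, d0_mem⟩ ⟨z, hz⟩
    rw [g1, h] at e
    exact e.trans hc.1
  · have e := smul_dot g ⟨Cfsg.Spor.vecU', vecU'_mem⟩ ⟨z, hz⟩
    rw [g2, h] at e
    exact e.trans hc.2

theorem hY3 : ∀ y ∈ [pD0, pU', pZ0], Good y := by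
  intro y hy
  have : y = pD0 ∨ y = pU' ∨ y = pZ0 := by simpa using hy
  rcases this with rfl | rfl | rfl
  · exact good_pD0
  · exact good_pU'
  · exact good_pZ0

/-- the three standard vectors -/
def D0L : leechLattice := ⟨d₀, d0_mem⟩

def UpL : leechLattice := ⟨Cfsg.Spor.vecU', vecU'_mem⟩

def Z0L : leechLattice := ⟨vec pZ0, good_pZ0.1⟩

/-- the stabilizer of the three standard vectors -/
def S3 : Subgroup Co0 := stabilizer Co0 D0L ⊓ stabilizer Co0 UpL ⊓ stabilizer Co0 Z0L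

theorem mem_S3 (g : Co0) : g ∈ S3 ↔ g • D0L = D0L ∧ g • UpL = UpL ∧ g • Z0L = Z0L := by
  unfold S3
  rw [Subgroup.mem_inf, Subgroup.mem_inf, mem_stabilizer_iff, mem_stabilizer_iff,
    mem_stabilizer_iff, and_assoc]

end Cfsg.Agent.Lib.Helper7.HSU
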