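import Mathlib
import Cfsg.Agent.Lib.Helper7.U35B
import Cfsg.Agent.S0279
import Cfsg.Agent.S0280
import Cfsg.Agent.S0283

set_option autoImplicit false
set_option maxRecDepth 100000

/-! The special unitary group of degree 3 over the field with 25 elements is generated by the
two matrices. -/

namespace Cfsg.Agent.Lib.Helper7.U35

open Cfsg Matrix F25c

/-! ### the order -/

theorem card_center_Gs : Nat.card (Subgroup.center (Cfsg.SU 3 F25c 5)) = 3 := by
  have h := Cfsg.Agent.S0279.result (F := F25c) (q := 5) F25c.card 3 (by norm_num)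
  rw [h]
  decide

/-- the projective group -/
abbrev Ps : Type := Cfsg.PSU 3 F25c 5

theorem card_Ps : Nat.card Ps = 126000 := by
  have h := Cfsg.Agent.S0280.result (F := F25c) (q := 5) F25c.card 3 (by norm_num)
  have e : (5 ^ (3 * (3 - 1) / 2) * ∏ i ∈ Finset.range 3,
      (if Even i then 5 ^ (i + 1) + 1 else 5 ^ (i + 1) - 1) : ℕ) = 2268000 := by decide
  rw [e] at h
  have e2 : Nat.gcd 3 (5 + 1) = 3 := by decide
  rw [e2] at h
  have h' : 3 * (6 * Nat.card Ps) = 2268000 := h
  omega

theorem card_Gs : Nat.card Gs = 378000 := by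
  have h := Subgroup.card_eq_card_quotient_mul_card_subgroup (Subgroup.center (Cfsg.SU 3 F25c 5))
  rw [card_center_Gs] at h
  have h' : Nat.card (Gs ⧸ Subgroup.center (Cfsg.SU 3 F25c 5)) = 126000 := card_Ps
  rw [h'] at h
  exact h

instance finite_Gs : Finite Gs := Nat.finite_of_card_ne_zero (by rw [card_Gs]; norm_num)

instance simple_Ps : IsSimpleGroup Ps :=
  Cfsg.Agent.S0283.result (F := F25c) (q := 5) F25c.card 3 (by norm_num) (by omega)

/-! ### the vectors -/

theorem ptc_lt (j : ℕ) (hj : j < 3024) : ptc j < 15625 := by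
  have h := allN_spec chk_pt j hj
  rw [Bool.and_eq_true] at h
  exact Nat.blt_eq.mp h.1

theorem ptc_inj (j : ℕ) (hj : j < 3024) (j' : ℕ) (hj' : j' < 3024) (h : ptc j = ptc j') :
    j = j' := by
  have h1 := allN_spec chk_pt j hj
  have h2 := allN_spec chk_pt j' hj'
  rw [Bool.and_eq_true] at h1 h2
  have e1 := Nat.eq_of_beq_eq_true h1.2
  have e2 := Nat.eq_of_beq_eq_true h2.2
  rw [h] at e1
  omega

theorem pt_inj (j : ℕ) (hj : j < 3024) (j' : ℕ) (hj' : j' < 3024) (h : pt j = pt j') : j = j' := by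
  apply ptc_inj j hj j' hj'
  have := congrArg codeOf h
  unfold pt at this
  rwa [codeOf_vecOf _ (ptc_lt j hj), codeOf_vecOf _ (ptc_lt j' hj')] at this

/-- the generators -/
def GG : List Gs := [gA, gB]

theorem GG_zero : GG.getD 0 1 = gA := rfl

theorem GG_one : GG.getD 1 1 = gB := rfl

theorem P_lt (c : ℕ) (hc : c < 2) (j : ℕ) (hj : j < 3024) : P c j < 3024 := by
  have h := allN_spec chk_act j hj
  simp only [Bool.and_eq_true] at h
  interval_cases c
  · exact Nat.blt_eq.mp h.1.2
  · exact Nat.blt_eq.mp h.2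

theorem pi_act (c : ℕ) (hc : c < 2) (j : ℕ) (hj : j < 3024) : GG.getD c 1 • pt j = pt (P c j) := by
  have h := allN_spec chk_act j hj
  simp only [Bool.and_eq_true] at h
  interval_cases c
  · rw [GG_zero, gA_smul]
    exact vecEqB_spec h.1.1.1
  · rw [GG_one, gB_smul]
    exact vecEqB_spec h.1.1.2

/-- the subgroup generated by the two matrices -/
def H0 : Subgroup Gs := Subgroup.closure {gA, gB}

theorem GG_mem (c : ℕ) (hc : c < 2) : GG.getD c 1 ∈ H0 := by
  interval_cases c
  · exact Subgroup.subset_closure (by rw [GG_zero]; simp)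
  · exact Subgroup.subset_closure (by rw [GG_one]; simp)

/-- every vector is reached from the first one -/
theorem exists_reach (j : ℕ) (hj : j < 3024) : ∃ h ∈ H0, h • pt 0 = pt j := by
  induction j using Nat.strong_induction_on with
  | _ j ih =>
    have h := allN_spec chk_tree j hj
    rw [Bool.or_eq_true] at h
    rcases h with h | h
    · have hj0 : j = 0 := Nat.eq_of_beq_eq_true h
      subst hj0
      exact ⟨1, H0.one_mem, one_smul _ _⟩
    · simp only [Bool.and_eq_true] at h
      have h1 : parc j < 2 := Nat.blt_eq.mp h.1.1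
      have h2 : parp j < j := Nat.blt_eq.mp h.1.2
      have h3 : P (parc j) (parp j) = j := Nat.eq_of_beq_eq_true h.2
      obtain ⟨g, hg, hact⟩ := ih _ h2 (by omega)
      refine ⟨GG.getD (parc j) 1 * g, H0.mul_mem (GG_mem _ h1) hg, ?_⟩
      rw [mul_smul, hact, pi_act _ h1 _ (by omega), h3]

/-! ### words -/

/-- the element of a word -/
def wp (w : List ℕ) : Gs := (w.map fun c => GG.getD c 1).prod

theorem wp_nil : wp [] = 1 := rfl

theorem wp_cons (c : ℕ) (w : List ℕ) : wp (c :: w) = GG.getD c 1 * wp w := by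
  unfold wp
  rw [List.map_cons, List.prod_cons]

theorem wp_mem (w : List ℕ) (hw : ∀ c ∈ w, c < 2) : wp w ∈ H0 := by
  induction w with
  | nil => exact H0.one_mem
  | cons c w ih =>
    rw [wp_cons]
    exact H0.mul_mem (GG_mem c (hw c (by simp))) (ih fun d hd => hw d (by simp [hd]))

theorem wact_cons (c : ℕ) (w : List ℕ) (j : ℕ) : wact (c :: w) j = P c (wact w j) := rfl

theorem wp_smul (w : List ℕ) (hw : ∀ c ∈ w, c < 2) (j : ℕ) (hj : j < 3024) :
    wact w j < 3024 ∧ wp w • pt j = pt (wact w j) := by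
  induction w with
  | nil => exact ⟨hj, one_smul _ _⟩
  | cons c w ih =>
    obtain ⟨h1, h2⟩ := ih fun d hd => hw d (by simp [hd])
    have hc : c < 2 := hw c (by simp)
    refine ⟨P_lt c hc _ h1, ?_⟩
    rw [wp_cons, mul_smul, h2, pi_act c hc _ h1, wact_cons]

/-! ### the stabilizer of the first vector -/

theorem sW_lt (i : ℕ) (hi : i < 2) : ∀ c ∈ sW.getD i [], c < 2 := by
  have h := chk_sW.1
  rw [List.all_eq_true] at h
  have hmem : sW.getD i [] ∈ sW := by
    rw [List.getD_eq_getElem _ _ (by rw [chk_sW.2]; exact hi)]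
    exact List.getElem_mem _
  have h1 := h _ hmem
  rw [Bool.and_eq_true, List.all_eq_true] at h1
  intro c hc
  exact Nat.blt_eq.mp (h1.1 c hc)

theorem sW_fix (i : ℕ) (hi : i < 2) : wact (sW.getD i []) 0 = 0 := by
  have h := chk_sW.1
  rw [List.all_eq_true] at h
  have hmem : sW.getD i [] ∈ sW := by
    rw [List.getD_eq_getElem _ _ (by rw [chk_sW.2]; exact hi)]
    exact List.getElem_mem _
  have h1 := h _ hmem
  rw [Bool.and_eq_true] at h1
  exact Nat.eq_of_beq_eq_true h1.2

/-- the subgroup generated by the two words -/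
def H1 : Subgroup Gs := Subgroup.closure {g | ∃ i < 2, g = wp (sW.getD i [])}

theorem H1_le_H0 : H1 ≤ H0 := by
  unfold H1
  rw [Subgroup.closure_le]
  rintro g ⟨i, hi, rfl⟩
  exact wp_mem _ (sW_lt i hi)

theorem H1_le_stab : H1 ≤ MulAction.stabilizer Gs (pt 0) := by
  unfold H1
  rw [Subgroup.closure_le]
  rintro g ⟨i, hi, rfl⟩
  show wp (sW.getD i []) • pt 0 = pt 0
  rw [(wp_smul _ (sW_lt i hi) 0 (by norm_num)).2, sW_fix i hi]

theorem ND_lt (k : ℕ) (hk : k < 125) : ND.getD k 0 < 3024 := by
  have h := allN_spec chk_ND.1 k hk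
  rw [Bool.and_eq_true] at h
  exact Nat.blt_eq.mp h.1

theorem exists_reach1 (k : ℕ) (hk : k < 125) :
    ∃ h ∈ H1, h • pt (ND.getD 0 0) = pt (ND.getD k 0) := by
  induction k using Nat.strong_induction_on with
  | _ k ih =>
    have h := allN_spec chk_ND.1 k hk
    rw [Bool.and_eq_true, Bool.or_eq_true] at h
    rcases h.2 with h | h
    · have hk0 : k = 0 := Nat.eq_of_beq_eq_true h
      subst hk0
      exact ⟨1, H1.one_mem, one_smul _ _⟩
    · simp only [Bool.and_eq_true] at h
      have h1 : (NPar.getD k (0, 0)).1 < 2 := Nat.blt_eq.mp h.1.1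
      have h2 : (NPar.getD k (0, 0)).2 < k := Nat.blt_eq.mp h.1.2
      have h3 := Nat.eq_of_beq_eq_true h.2
      obtain ⟨g, hg, hact⟩ := ih _ h2 (by omega)
      refine ⟨wp (sW.getD (NPar.getD k (0, 0)).1 []) * g,
        H1.mul_mem (Subgroup.subset_closure ⟨_, h1, rfl⟩) hg, ?_⟩
      rw [mul_smul, hact, (wp_smul _ (sW_lt _ h1) _ (ND_lt _ (by omega))).2, h3]

/-- a subgroup, a point with enough images under it, and a subgroup fixing the point -/
theorem card_mul_le_of_orbit {G X : Type*} [Group G] [Finite G] [MulAction G X]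
    (H L : Subgroup G) (x : X) (hLH : L ≤ H) (hLx : L ≤ MulAction.stabilizer G x)
    (S : Finset X) (hS : ∀ y ∈ S, ∃ h ∈ H, h • x = y) : S.card * Nat.card L ≤ Nat.card H := by
  classical
  haveI : Finite ↑(MulAction.orbit ↥H x) := Finite.of_surjective
    (fun h : ↥H => (⟨h • x, MulAction.mem_orbit x h⟩ : MulAction.orbit ↥H x)) (by
      rintro ⟨y, h, rfl⟩
      exact ⟨h, rfl⟩)
  have h1 := Subgroup.card_mul_index (MulAction.stabilizer ↥H x)
  rw [MulAction.index_stabilizer] at h1
  have h2 : S.card ≤ (MulAction.orbit ↥H x).ncard := by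
    rw [← Set.ncard_coe_finset S]
    apply Set.ncard_le_ncard _ (Set.toFinite _)
    intro y hy
    obtain ⟨h, hh, rfl⟩ := hS y (Finset.mem_coe.mp hy)
    exact ⟨⟨h, hh⟩, rfl⟩
  have h3 : Nat.card L ≤ Nat.card (MulAction.stabilizer ↥H x) := by
    let f : L → MulAction.stabilizer ↥H x := fun g => ⟨⟨g.1, hLH g.2⟩, by
      rw [MulAction.mem_stabilizer_iff]
      exact MulAction.mem_stabilizer_iff.mp (hLx g.2)⟩
    apply Nat.card_le_card_of_injective f
    intro g g' hgg
    apply Subtype.ext
    exact congrArg (fun t : MulAction.stabilizer ↥H x => (t.1.1 : G)) hgg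
  calc S.card * Nat.card L ≤ (MulAction.orbit ↥H x).ncard * Nat.card (MulAction.stabilizer ↥H x) :=
        Nat.mul_le_mul h2 h3
    _ = Nat.card ↥H := by rw [mul_comm]; exact h1

theorem card_H1 : 125 ≤ Nat.card H1 := by
  classical
  have h := card_mul_le_of_orbit H1 ⊥ (pt (ND.getD 0 0)) bot_le bot_le
    ((Finset.range 125).image fun k => pt (ND.getD k 0)) (by
      intro y hy
      rw [Finset.mem_image] at hy
      obtain ⟨k, hk, rfl⟩ := hy
      exact exists_reach1 k (Finset.mem_range.mp hk))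
  rw [Subgroup.card_bot, mul_one, Finset.card_image_of_injOn, Finset.card_range] at h
  · exact h
  · intro k hk k' hk' e
    have hk1 : k < 125 := Finset.mem_range.mp (Finset.mem_coe.mp hk)
    have hk2 : k' < 125 := Finset.mem_range.mp (Finset.mem_coe.mp hk')
    have e1 := pt_inj _ (ND_lt k hk1) _ (ND_lt k' hk2) e
    have hl := chk_ND.2.2
    rw [List.getD_eq_getElem _ _ (by rw [hl]; exact hk1),
      List.getD_eq_getElem _ _ (by rw [hl]; exact hk2)] at e1
    exact (List.Nodup.getElem_inj_iff chk_ND.2.1).mp e1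

theorem card_H0 : 378000 ≤ Nat.card H0 := by
  classical
  have h := card_mul_le_of_orbit H0 H1 (pt 0) H1_le_H0 H1_le_stab
    ((Finset.range 3024).image pt) (by
      intro y hy
      rw [Finset.mem_image] at hy
      obtain ⟨j, hj, rfl⟩ := hy
      exact exists_reach j (Finset.mem_range.mp hj))
  rw [Finset.card_image_of_injOn, Finset.card_range] at h
  · have h1 := card_H1
    nlinarith
  · intro j hj j' hj' e
    exact pt_inj _ (Finset.mem_range.mp (Finset.mem_coe.mp hj)) _
      (Finset.mem_range.mp (Finset.mem_coe.mp hj')) e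

/-- the two matrices generate the group -/
theorem hgen : Subgroup.closure {gA, gB} = (⊤ : Subgroup Gs) := by
  have h1 := card_H0
  have h2 : Nat.card H0 ≤ Nat.card Gs := Subgroup.card_le_card_group H0
  rw [card_Gs] at h2
  have h3 : Nat.card H0 = Nat.card Gs := by rw [card_Gs]; omega
  exact (Subgroup.card_eq_iff_eq_top H0).mp h3

end Cfsg.Agent.Lib.Helper7.U35
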