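import Mathlib
import Cfsg.Agent.Lib.Helper7.HSU3
import Cfsg.Agent.Lib.Helper7.U35C
import Cfsg.Agent.Lib.Helper7.GraphIso

set_option autoImplicit false
set_option maxRecDepth 100000

/-! The stabilizer of three vectors in the Higman–Sims configuration is `PSU₃(5)`: the standard
position. -/

namespace Cfsg.Agent.Lib.Helper7.HSU

open Cfsg MulAction Cfsg.Agent.Lib.Helper1 Cfsg.Agent.Lib.Helper1.LeechEnum
  Cfsg.Agent.Lib.Helper1.LeechConn Cfsg.Agent.Lib.Helper1.LeechAut
open Cfsg.Agent.Lib.Helper7.U35 (allN allN_spec P F25c Gs Ps pt gA gB)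

/-! ### the vectors -/

theorem vec_inj {v w : ℕ} (hv : v < 65536 ^ 24) (hw : w < 65536 ^ 24) (h : vec v = vec w) :
    v = w := by
  have hf : ∀ k < 24, fld k v = fld k w := by
    intro k hk
    have := congrFun h (gUnidx k)
    rw [vec_apply, vec_apply, gIdx_gUnidx k hk] at this
    have h3 : (fld k v : ℤ) = (fld k w : ℤ) := by linarith
    exact_mod_cast h3
  have h1 : pkr 24 (fun k => fld k v) = v := by
    rw [pkr_flds]
    exact Nat.mod_eq_of_lt hv
  have h2 : pkr 24 (fun k => fld k w) = w := by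
    rw [pkr_flds]
    exact Nat.mod_eq_of_lt hw
  have h3 : (List.range 24).map (fun k => fld k v) = (List.range 24).map (fun k => fld k w) := by
    apply List.map_congr_left
    intro k hk
    exact hf k (List.mem_range.mp hk)
  have h4 : pkr 24 (fun k => fld k v) = pkr 24 (fun k => fld k w) := by
    unfold pkr
    rw [h3]
  rw [← h1, h4, h2]

theorem vL_lt (i : ℕ) (hi : i < 176) : vL i < 65536 ^ 24 := by
  have := (allB_iff _ _).mp L176_lt i hi
  rwa [Nat.blt_eq] at this

theorem vL_inj (i j : ℕ) (hi : i < 176) (hj : j < 176) (h : vL i = vL j) : i = j := by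
  unfold vL at h
  rw [List.getD_eq_getElem _ _ (by rw [L176_length]; exact hi),
    List.getD_eq_getElem _ _ (by rw [L176_length]; exact hj)] at h
  exact (List.Nodup.getElem_inj_iff L176_nodup).mp h

theorem tracks_gOf (c : ℕ) : TracksFix [pD0, pU'] (applyGen (gOf c)) := by
  have weaken : ∀ g, genOK [pD0, pU', pZ0] g = true → genOK [pD0, pU'] g = true := by
    intro g h
    unfold genOK at h ⊢
    rw [Bool.and_eq_true] at h ⊢
    refine ⟨h.1, ?_⟩
    have h2 := h.2
    rw [List.all_eq_true] at h2 ⊢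
    intro y hy
    exact h2 y (by
      have : y = pD0 ∨ y = pU' := by simpa using hy
      rcases this with rfl | rfl <;> simp)
  cases c with
  | zero => exact genOK_sound hY2 (weaken _ ga_ok)
  | succ n =>
    cases n with
    | zero => exact genOK_sound hY2 (weaken _ gb_ok)
    | succ m => exact genOK_sound hY2 gh_ok

/-- the vectors of the list are lattice vectors -/
theorem vL_good : ∀ i < 176, Good (vL i) := by
  intro i
  induction i using Nat.strong_induction_on with
  | _ i ih =>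
    intro hi
    have h := (allB_iff _ _).mp tree_ok i hi
    rw [Bool.or_eq_true] at h
    rcases h with h | h
    · have hi0 : i = 0 := (nbeq_iff _ _).mp h
      rw [hi0, vL_zero]
      exact good_pZ0
    · rw [Bool.and_eq_true] at h
      have h1 := (nbeq_iff _ _).mp h.1
      have h2 : parL.getD i 0 < i := by
        have := h.2
        rwa [Nat.blt_eq] at this
      have hg := ih _ h2 (lt_trans h2 hi)
      obtain ⟨F, hF, -, hFv⟩ := tracks_gOf (pargL.getD i 0)
      have e := hFv _ hg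
      rw [h1] at e
      exact IsAct.good hF hg e

/-- the lattice vector of an index -/
def xL (i : Fin 176) : leechLattice := ⟨vec (vL i), (vL_good i i.isLt).1⟩

theorem xL_injective : Function.Injective xL := by
  intro i j h
  have h1 : vec (vL i) = vec (vL j) := congrArg Subtype.val h
  exact Fin.ext (vL_inj i j i.isLt j.isLt (vec_inj (vL_lt i i.isLt) (vL_lt j j.isLt) h1))

/-! ### the two elements -/

/-- an element of the stabilizer from a generator with its table -/
theorem exists_elt (g : List (List ℕ)) (T : List ℕ) (hok : genOK [pD0, pU', pZ0] g = true)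
    (hact : ∀ i < 176, applyGen g (vL i) = vL (T.getD i 0)) (hlt : ∀ i < 176, T.getD i 0 < 176) :
    ∃ a : S3, ∀ i : Fin 176, a • xL i = xL ⟨T.getD i.val 0, hlt i.val i.isLt⟩ := by
  obtain ⟨F, ⟨a, ha⟩, hFY, hFv⟩ := genOK_sound hY3 hok
  have m1 : a • D0L = D0L := by
    apply Subtype.ext
    rw [ha]
    show F d₀ = d₀
    have := hFY pD0 (by simp)
    rwa [vec_pD0] at this
  have m2 : a • UpL = UpL := by
    apply Subtype.ext
    rw [ha]
    show F Cfsg.Spor.vecU' = Cfsg.Spor.vecU'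
    have := hFY pU' (by simp)
    rwa [vec_pU'] at this
  have m3 : a • Z0L = Z0L := by
    apply Subtype.ext
    rw [ha]
    exact hFY pZ0 (by simp)
  refine ⟨⟨a, (mem_S3 a).2 ⟨m1, m2, m3⟩⟩, fun i => ?_⟩
  apply Subtype.ext
  show ((a • xL i : leechLattice) : GolayPt → ℤ) = vec (vL (T.getD i.val 0))
  rw [ha, ← hact i.val i.isLt]
  exact (hFv _ (vL_good i i.isLt)).symm

theorem act_spec (i : ℕ) (hi : i < 176) :
    applyGen ga (vL i) = vL (T1L.getD i 0) ∧ applyGen gb (vL i) = vL (T2L.getD i 0) ∧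
      T1L.getD i 0 < 176 ∧ T2L.getD i 0 < 176 := by
  have h := (allB_iff _ _).mp act_ok i hi
  simp only [Bool.and_eq_true] at h
  exact ⟨(nbeq_iff _ _).mp h.1.1.1, (nbeq_iff _ _).mp h.1.1.2, Nat.blt_eq.mp h.1.2,
    Nat.blt_eq.mp h.2⟩

/-! ### the relation -/

/-- the relation -/
def Rel : Set (leechLattice × (Fin 3 → F25c)) :=
  {p | ∃ (x : Fin 176) (j : ℕ), j < 3024 ∧ Rm x.val j = true ∧ p.1 = xL x ∧ p.2 = pt j}

theorem Rel_finite : Rel.Finite := by
  apply Set.Finite.subset (Set.finite_range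
    (fun q : Fin 176 × Fin 3024 => ((xL q.1, pt q.2.val) : leechLattice × (Fin 3 → F25c))))
  rintro ⟨x, M⟩ ⟨i, j, hj, -, rfl, rfl⟩
  exact ⟨(i, ⟨j, hj⟩), rfl⟩

theorem gA_pt (j : ℕ) (hj : j < 3024) : gA • pt j = pt (P 0 j) :=
  Cfsg.Agent.Lib.Helper7.U35.pi_act 0 (by norm_num) j hj

theorem gB_pt (j : ℕ) (hj : j < 3024) : gB • pt j = pt (P 1 j) :=
  Cfsg.Agent.Lib.Helper7.U35.pi_act 1 (by norm_num) j hj

theorem comm_smul : (gA * gB * gA⁻¹ * gB⁻¹) • pt 1 = pt 1900 := by
  obtain ⟨-, -, e1, e2, e3, e4⟩ := chk_p0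
  have h1 : gB⁻¹ • pt 1 = pt 1242 := by
    rw [inv_smul_eq_iff, gB_pt 1242 (by norm_num), e1]
  have h2 : gA⁻¹ • pt 1242 = pt 750 := by
    rw [inv_smul_eq_iff, gA_pt 750 (by norm_num), e2]
  rw [mul_smul, mul_smul, mul_smul, h1, h2, gB_pt 750 (by norm_num), e3,
    gA_pt 1243 (by norm_num), e4]

/-- the stabilizer of the three standard vectors is the projective special unitary group -/
theorem nonempty_S3_equiv (hcard : Nat.card S3 = 126000) : Nonempty (S3 ≃* Ps) := by
  obtain ⟨a1, ha1⟩ := exists_elt ga T1L ga_ok (fun i hi => (act_spec i hi).1)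
    (fun i hi => (act_spec i hi).2.2.1)
  obtain ⟨a2, ha2⟩ := exists_elt gb T2L gb_ok (fun i hi => (act_spec i hi).2.1)
    (fun i hi => (act_spec i hi).2.2.2)
  haveI : Finite S3 := Nat.finite_of_card_ne_zero (by rw [hcard]; norm_num)
  apply Cfsg.Agent.Lib.Helper7.GraphIso.nonempty_mulEquiv (K := S3) (G := Gs) (Γ := Ps)
    (X := leechLattice) (Y := Fin 3 → F25c)
    (by rw [hcard, Cfsg.Agent.Lib.Helper7.U35.card_Ps])
    (QuotientGroup.mk' (Subgroup.center (Cfsg.SU 3 F25c 5)))
    (QuotientGroup.mk'_surjective _) (by rw [QuotientGroup.ker_mk']) a1 a2 gA gB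
    Cfsg.Agent.Lib.Helper7.U35.hgen Rel Rel_finite ?_ ?_
    (xL ⟨1, by norm_num⟩, pt 1)
  · exact ⟨⟨1, by norm_num⟩, 1, by norm_num, chk_p0.1, rfl, rfl⟩
  · rintro ⟨x, j, hj, hR, e1, e2⟩
    have e1' : xL ⟨1, by norm_num⟩ = xL x := e1
    have hx := xL_injective e1'
    subst hx
    have e2' : pt 1900 = pt j := by
      rw [← comm_smul]
      exact e2
    have hj' := Cfsg.Agent.Lib.Helper7.U35.pt_inj 1900 (by norm_num) j hj e2'
    subst hj'
    have h2 : Rm 1 1900 = true := hR
    rw [chk_p0.2.1] at h2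
    exact absurd h2 (by decide)
  · rintro ⟨x, M⟩ ⟨i, j, hj, hR, rfl, rfl⟩
    refine ⟨⟨T1L.getD i.val 0, (act_spec i.val i.isLt).2.2.1⟩, P 0 j,
      Cfsg.Agent.Lib.Helper7.U35.P_lt 0 (by norm_num) j hj, ?_, ha1 i, gA_pt j hj⟩
    have h := allN_spec (allN_spec chk_inv1 i.val i.isLt) j hj
    rw [hR] at h
    simpa using h
  · rintro ⟨x, M⟩ ⟨i, j, hj, hR, rfl, rfl⟩
    refine ⟨⟨T2L.getD i.val 0, (act_spec i.val i.isLt).2.2.2⟩, P 1 j,
      Cfsg.Agent.Lib.Helper7.U35.P_lt 1 (by norm_num) j hj, ?_, ha2 i, gB_pt j hj⟩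
    have h := allN_spec (allN_spec chk_inv2 i.val i.isLt) j hj
    rw [hR] at h
    simpa using h

end Cfsg.Agent.Lib.Helper7.HSU
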