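import Mathlib
import Cfsg.Agent.Lib.Helper7.HSU4
import Cfsg.Agent.Lib.Helper1.ConwayOrd1
import Cfsg.Agent.Lib.Helper1.SUCongr

set_option autoImplicit false
set_option maxRecDepth 100000

/-! The Higman–Sims group on 352 vectors, with stabilizer `PSU₃(5)`: all pairs of vectors. -/

namespace Cfsg.Agent.Lib.Helper7.HSU

open Cfsg MulAction Cfsg.Agent.Lib.Helper1 Cfsg.Agent.Lib.Helper1.LeechEnum
  Cfsg.Agent.Lib.Helper1.LeechConn Cfsg.Agent.Lib.Helper1.LeechAut
  Cfsg.Agent.Lib.Helper1.LeechCross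
open Cfsg.Agent.Lib.Helper7.U35 (F25c Ps)

/-- the 352 vectors of a pair -/
def XS (v w : leechLattice) : Set leechLattice :=
  {x | sqNorm (x : GolayPt → ℤ) = 32 ∧ dotInt (v : GolayPt → ℤ) (x : GolayPt → ℤ) = 16 ∧
    dotInt (w : GolayPt → ℤ) (x : GolayPt → ℤ) = -24}

theorem map_conj_stab3' {G Ω : Type*} [Group G] [MulAction G Ω] (h : G) (a b c : Ω) :
    (stabilizer G a ⊓ stabilizer G b ⊓ stabilizer G c).map (MulAut.conj h).toMonoidHom =
      stabilizer G (h • a) ⊓ stabilizer G (h • b) ⊓ stabilizer G (h • c) := by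
  rw [Subgroup.map_inf_eq _ _ _ (MulAut.conj h).injective,
    Subgroup.map_inf_eq _ _ _ (MulAut.conj h).injective,
    stabilizer_smul_eq_stabilizer_map_conj, stabilizer_smul_eq_stabilizer_map_conj,
    stabilizer_smul_eq_stabilizer_map_conj]

section

variable (v w : leechLattice) (hv : sqNorm (v : GolayPt → ℤ) = 48)
  (hw : sqNorm (w : GolayPt → ℤ) = 48)
  (hvw : dotInt (v : GolayPt → ℤ) (w : GolayPt → ℤ) = -32)

include hv hw hvw

/-- the standard position -/
theorem exists_std : ∃ h : Co0, ((h • (-v) : leechLattice) : GolayPt → ℤ) = d₀ ∧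
    ((h • (-(v + w)) : leechLattice) : GolayPt → ℤ) = Cfsg.Spor.vecU' := by
  apply std_pair_B (-v) (-(v + w))
  · rw [coe_neg', norm_neg, hv]
  · rw [coe_neg', norm_neg, coe_add', sqNorm_add, hv, hw, hvw]
    norm_num
  · rw [coe_neg', coe_neg', dot_neg_left, dot_neg_right, neg_neg, coe_add', dot_add_right,
      dot_self', hv, hvw]
    norm_num

omit hv hw hvw in
theorem conds {h : Co0} (hh1 : ((h • (-v) : leechLattice) : GolayPt → ℤ) = d₀)
    (hh2 : ((h • (-(v + w)) : leechLattice) : GolayPt → ℤ) = Cfsg.Spor.vecU')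
    (y : leechLattice) : y ∈ XS v w ↔
      (sqNorm ((h • y : leechLattice) : GolayPt → ℤ) = 32 ∧
        CS ((h • y : leechLattice) : GolayPt → ℤ)) := by
  unfold CS
  show (_ ∧ _ ∧ _) ↔ _
  rw [smul_norm h y, ← hh1, ← hh2, smul_dot, smul_dot, coe_neg', coe_neg', dot_neg_left,
    dot_neg_left, coe_add', dot_add_left]
  constructor
  · rintro ⟨a, b, c⟩
    exact ⟨a, by rw [b], by rw [b, c]; norm_num⟩
  · rintro ⟨a, b, c⟩
    exact ⟨a, by omega, by omega⟩

theorem ncard_XS : (XS v w).ncard = 352 := by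
  obtain ⟨h, hh1, hh2⟩ := exists_std v w hv hw hvw
  exact count_via h (XS v w) CS 352 (conds v w hh1 hh2) census352

omit hv in
theorem closed_XS (x : leechLattice) (hx : x ∈ XS v w) : -w - x ∈ XS v w := by
  obtain ⟨a, b, c⟩ := hx
  have e : ((-w - x : leechLattice) : GolayPt → ℤ) =
      -(w : GolayPt → ℤ) + -(x : GolayPt → ℤ) := by
    rw [coe_sub'', coe_neg', sub_eq_add_neg]
  refine ⟨?_, ?_, ?_⟩
  · rw [e, sqNorm_add, norm_neg, norm_neg, dot_neg_left, dot_neg_right, hw, a, c]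
    norm_num
  · rw [e, dot_add_right, dot_neg_right, dot_neg_right]
    have := hvw
    omega
  · rw [e, dot_add_right, dot_neg_right, dot_neg_right, dot_self', hw, c]
    norm_num

theorem trans_XS (x x' : leechLattice) (hx : x ∈ XS v w) (hx' : x' ∈ XS v w) :
    ∃ g : Co0, g • v = v ∧ g • w = w ∧ g • x = x' := by
  obtain ⟨h, hh1, hh2⟩ := exists_std v w hv hw hvw
  obtain ⟨g, hg1, hg2⟩ := stab_trans (Ys := [d₀, Cfsg.Spor.vecU']) (t := vec pZ0)
    (C := fun z => sqNorm z = 32 ∧ CS z)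
    (fun z hz hc => reach352 z hz hc.1 hc.2) h x x'
    ((conds v w hh1 hh2 x).1 hx) ((conds v w hh1 hh2 x').1 hx')
  have gnv : g • (-v) = -v := hg1 (-v) (by rw [hh1]; simp)
  have gnvw : g • (-(v + w)) = -(v + w) := hg1 (-(v + w)) (by rw [hh2]; simp)
  have gv : g • v = v := by
    have := smul_neg' g v
    rw [gnv] at this
    exact (neg_injective this).symm
  have gvw : g • (v + w) = v + w := by
    have := smul_neg' g (v + w)
    rw [gnvw] at this
    exact (neg_injective this).symm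
  have gw : g • w = w := by
    rw [smul_add', gv] at gvw
    exact add_left_cancel gvw
  exact ⟨g, gv, gw, hg2⟩

theorem card_stab3 (x : leechLattice) (hx : x ∈ XS v w) :
    Nat.card ↥(stabilizer Co0 v ⊓ stabilizer Co0 w ⊓ stabilizer Co0 x) = 126000 := by
  have h := Cfsg.Agent.Lib.Helper1.ConwayOrd.card_of_orbit
    (stabilizer Co0 v ⊓ stabilizer Co0 w) x (XS v w)
    (fun g hg => by
      obtain ⟨gv, gw⟩ := Subgroup.mem_inf.mp hg
      have gv' : g • v = v := gv
      have gw' : g • w = w := gw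
      obtain ⟨a, b, c⟩ := hx
      refine ⟨(smul_norm g x).trans a, ?_, ?_⟩
      · have e := smul_dot g v x
        rw [gv'] at e
        exact e.trans b
      · have e := smul_dot g w x
        rw [gw'] at e
        exact e.trans c)
    (fun z hz => by
      obtain ⟨g, gv, gw, gx⟩ := trans_XS v w hv hw hvw x z hx hz
      exact ⟨g, Subgroup.mem_inf.mpr ⟨gv, gw⟩, gx⟩)
  rw [Cfsg.Agent.Lib.Helper1.ConwayOrd.hs_card v w hv hw hvw, ncard_XS v w hv hw hvw] at h
  omega

/-- the stabilizer of a vector of the 352 -/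
theorem stab3_equiv (x : leechLattice) (hx : x ∈ XS v w) :
    Nonempty (↥(stabilizer Co0 v ⊓ stabilizer Co0 w ⊓ stabilizer Co0 x) ≃* Ps) := by
  obtain ⟨h, hh1, hh2⟩ := exists_std v w hv hw hvw
  obtain ⟨hn, hc⟩ := (conds v w hh1 hh2 x).1 hx
  obtain ⟨g0, hg0Y, hg0⟩ := reach352 _ (h • x).2 hn hc
  have k1 : g0 • D0L = D0L := hg0Y d₀ (by simp) D0L rfl
  have k2 : g0 • UpL = UpL := hg0Y Cfsg.Spor.vecU' (by simp) UpL rfl
  have k3 : g0 • (h • x) = Z0L := Subtype.ext (hg0 (h • x) rfl)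
  set g : Co0 := g0 * h with hg
  have g1 : g • (-v) = D0L := by
    rw [hg, mul_smul, show h • (-v) = D0L from Subtype.ext hh1, k1]
  have g2 : g • (-(v + w)) = UpL := by
    rw [hg, mul_smul, show h • (-(v + w)) = UpL from Subtype.ext hh2, k2]
  have g3 : g • x = Z0L := by
    rw [hg, mul_smul, k3]
  -- the stabilizers
  have hst : stabilizer Co0 v ⊓ stabilizer Co0 w ⊓ stabilizer Co0 x =
      stabilizer Co0 (-v) ⊓ stabilizer Co0 (-(v + w)) ⊓ stabilizer Co0 x := by
    ext k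
    simp only [Subgroup.mem_inf, mem_stabilizer_iff]
    constructor
    · rintro ⟨⟨a, b⟩, c⟩
      refine ⟨⟨?_, ?_⟩, c⟩
      · rw [smul_neg', a]
      · rw [smul_neg', smul_add', a, b]
    · rintro ⟨⟨a, b⟩, c⟩
      have a' : k • v = v := by
        rw [smul_neg'] at a
        exact neg_injective a
      have b' : k • (v + w) = v + w := by
        rw [smul_neg'] at b
        exact neg_injective b
      refine ⟨⟨a', ?_⟩, c⟩
      rw [smul_add', a'] at b'
      exact add_left_cancel b'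
  have hmap := map_conj_stab3' g (-v) (-(v + w)) x
  rw [g1, g2, g3] at hmap
  have eq1 := (stabilizer Co0 (-v) ⊓ stabilizer Co0 (-(v + w)) ⊓
    stabilizer Co0 x).equivMapOfInjective
    (MulAut.conj g).toMonoidHom (MulAut.conj g).injective
  have e0 : ↥(stabilizer Co0 v ⊓ stabilizer Co0 w ⊓ stabilizer Co0 x) ≃* ↥S3 :=
    ((MulEquiv.subgroupCongr hst).trans eq1).trans (MulEquiv.subgroupCongr hmap)
  have hcard : Nat.card S3 = 126000 := by
    rw [← Nat.card_congr e0.toEquiv]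
    exact card_stab3 v w hv hw hvw x hx
  obtain ⟨e⟩ := nonempty_S3_equiv hcard
  exact ⟨e0.trans e⟩

end

/-- every field of order 25 -/
theorem main (v w : leechLattice) (hv : sqNorm (v : GolayPt → ℤ) = 48)
    (hw : sqNorm (w : GolayPt → ℤ) = 48)
    (hvw : dotInt (v : GolayPt → ℤ) (w : GolayPt → ℤ) = -32)
    (F : Type) [Field F] [Fintype F] (hF : Fintype.card F = 25) :
    (XS v w).ncard = 352 ∧ (∀ x ∈ XS v w, -w - x ∈ XS v w) ∧
      (∀ x ∈ XS v w, ∀ x' ∈ XS v w, ∃ g : Co0, g • v = v ∧ g • w = w ∧ g • x = x') ∧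
      ∀ x ∈ XS v w, Nonempty (↥(stabilizer Co0 v ⊓ stabilizer Co0 w ⊓ stabilizer Co0 x) ≃*
        Cfsg.PSU 3 F 5) := by
  refine ⟨ncard_XS v w hv hw hvw, closed_XS v w hw hvw,
    fun x hx x' hx' => trans_XS v w hv hw hvw x x' hx hx', fun x hx => ?_⟩
  obtain ⟨e⟩ := stab3_equiv v w hv hw hvw x hx
  have e25 : F ≃+* F25c := FiniteField.ringEquivOfCardEq (by rw [hF]; rfl)
  exact ⟨e.trans (Cfsg.Agent.Lib.Helper1.SUCongr.psuCongr e25).symm⟩

end Cfsg.Agent.Lib.Helper7.HSU
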