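import Mathlib

namespace Cfsg.Agent.Lib.Helper7.Half

variable {G : Type*} [Group G]

/-- the centralizer of `x` in `H`, as a subgroup of `G` -/
def cH (H : Subgroup G) (x : G) : Subgroup G := H ⊓ Subgroup.centralizer {x}

lemma mem_cH {H : Subgroup G} {x h : G} : h ∈ cH H x ↔ h ∈ H ∧ h * x * h⁻¹ = x := by
  unfold cH
  rw [Subgroup.mem_inf, Subgroup.mem_centralizer_singleton_iff, mul_inv_eq_iff_eq_mul]

lemma cH_le (H : Subgroup G) (x : G) : cH H x ≤ H := inf_le_left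

/-- conjugation action of a subgroup on a conjugation-closed set -/
@[reducible] def conjOn (P : Subgroup G) (C : Set G) (hC : ∀ g ∈ P, ∀ y ∈ C, g * y * g⁻¹ ∈ C) :
    MulAction P C where
  smul g y := ⟨(g : G) * y * (g : G)⁻¹, hC g g.2 y y.2⟩
  one_smul y := by
    apply Subtype.ext
    show ((1 : P) : G) * y * ((1 : P) : G)⁻¹ = y
    simp
  mul_smul g h y := by
    apply Subtype.ext
    show ((g * h : P) : G) * y * ((g * h : P) : G)⁻¹ = (g : G) * ((h : G) * y * (h : G)⁻¹) * (g : G)⁻¹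
    simp [mul_assoc]

/-- conjugation action of a subgroup on the whole group -/
@[reducible] def conjG (P : Subgroup G) : MulAction P G where
  smul g y := (g : G) * y * (g : G)⁻¹
  one_smul y := by
    show ((1 : P) : G) * y * ((1 : P) : G)⁻¹ = y
    simp
  mul_smul g h y := by
    show ((g * h : P) : G) * y * ((g * h : P) : G)⁻¹ = (g : G) * ((h : G) * y * (h : G)⁻¹) * (g : G)⁻¹
    simp [mul_assoc]

lemma fix_of_not_dvd [Finite G] {p : ℕ} [Fact p.Prime] (P : Subgroup G) (hP : IsPGroup p P)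
    (C : Set G) (hC : ∀ g ∈ P, ∀ y ∈ C, g * y * g⁻¹ ∈ C) (hp : ¬ p ∣ Nat.card C) :
    ∃ y ∈ C, ∀ g ∈ P, g * y * g⁻¹ = y := by
  letI := conjOn P C hC
  obtain ⟨y, hy⟩ := hP.nonempty_fixed_point_of_prime_not_dvd_card C hp
  refine ⟨y, y.2, fun g hg => ?_⟩
  have := hy ⟨g, hg⟩
  exact congrArg Subtype.val this

lemma fix_of_dvd [Finite G] {p : ℕ} [Fact p.Prime] (P : Subgroup G) (hP : IsPGroup p P)
    (C : Set G) (hC : ∀ g ∈ P, ∀ y ∈ C, g * y * g⁻¹ ∈ C) (hp : p ∣ Nat.card C)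
    (y0 : G) (hy0 : y0 ∈ C) (hfix : ∀ g ∈ P, g * y0 * g⁻¹ = y0) :
    ∃ y ∈ C, y ≠ y0 ∧ ∀ g ∈ P, g * y * g⁻¹ = y := by
  letI := conjOn P C hC
  have h0 : (⟨y0, hy0⟩ : C) ∈ MulAction.fixedPoints P C := by
    intro g
    apply Subtype.ext
    exact hfix g g.2
  obtain ⟨y, hy, hne⟩ := hP.exists_fixed_point_of_prime_dvd_card_of_fixed_point C hp h0
  refine ⟨y, y.2, fun h => hne (Subtype.ext h.symm), fun g hg => ?_⟩
  have := hy ⟨g, hg⟩
  exact congrArg Subtype.val this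

lemma card_mul_relIndex [Finite G] {K M : Subgroup G} (h : K ≤ M) :
    Nat.card K * K.relIndex M = Nat.card M := by
  have := Subgroup.relIndex_mul_relIndex (⊥ : Subgroup G) K M bot_le h
  rwa [Subgroup.relIndex_bot_left, Subgroup.relIndex_bot_left] at this

lemma relIndex_eq_of_card [Finite G] {K1 K2 M : Subgroup G} (h1 : K1 ≤ M) (h2 : K2 ≤ M)
    (hc : Nat.card K1 = Nat.card K2) : K1.relIndex M = K2.relIndex M := by
  have e1 := card_mul_relIndex h1
  have e2 := card_mul_relIndex h2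
  rw [hc] at e1
  have hpos : 0 < Nat.card K2 := Nat.card_pos
  exact Nat.eq_of_mul_eq_mul_left hpos (e1.trans e2.symm)

lemma sylow_le_not_dvd [Finite G] {p : ℕ} [Fact p.Prime] (M : Subgroup G) (Q : Sylow p M)
    (K : Subgroup G) (hK : (Q : Subgroup M).map M.subtype ≤ K) : ¬ p ∣ K.relIndex M := by
  have h1 : (Q : Subgroup M) ≤ K.subgroupOf M := by
    intro g hg
    rw [Subgroup.mem_subgroupOf]
    exact hK (Subgroup.mem_map_of_mem _ hg)
  have h2 : (K.subgroupOf M).index ∣ (Q : Subgroup M).index := Subgroup.index_dvd_of_le h1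
  intro hp
  exact Q.not_dvd_index (dvd_trans hp h2)

end Cfsg.Agent.Lib.Helper7.Half
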