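import Mathlib
import Cfsg.Agent.Lib.Helper7.Half1

namespace Cfsg.Agent.Lib.Helper7.Half

variable {G : Type*} [Group G] [Finite G]

/-- `H` acts by conjugation on `N`, faithfully, with all point stabilizers of non-identity
elements of the same order. -/
structure Hyp (N H : Subgroup G) : Prop where
  norm : ∀ h ∈ H, ∀ n ∈ N, h * n * h⁻¹ ∈ N
  card_eq : ∀ x ∈ N, ∀ y ∈ N, x ≠ 1 → y ≠ 1 → Nat.card (cH H x) = Nat.card (cH H y)
  faithful : ∀ h ∈ H, (∀ n ∈ N, h * n * h⁻¹ = n) → h = 1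

variable {N H : Subgroup G}

lemma Hyp.eq_of_le (hyp : Hyp N H) {x y : G} (hx : x ∈ N) (hy : y ∈ N) (hx1 : x ≠ 1) (hy1 : y ≠ 1)
    (hle : cH H x ≤ cH H y) : cH H x = cH H y :=
  Subgroup.eq_of_le_of_card_ge hle (hyp.card_eq x hx y hy hx1 hy1).ge

/-- for a prime `p` dividing `|N|`, the index of `C_H(x)` in `H` is prime to `p`. -/
lemma Hyp.not_dvd (hyp : Hyp N H) {p : ℕ} (hp : p.Prime) (hpN : p ∣ Nat.card N) {x : G}
    (hx : x ∈ N) (hx1 : x ≠ 1) : ¬ p ∣ (cH H x).relIndex H := by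
  haveI : Fact p.Prime := ⟨hp⟩
  obtain ⟨P⟩ : Nonempty (Sylow p H) := inferInstance
  have hPH : (P : Subgroup H).map H.subtype ≤ H := by
    intro g hg
    obtain ⟨g', _, rfl⟩ := Subgroup.mem_map.mp hg
    exact g'.2
  have hPp : IsPGroup p ((P : Subgroup H).map H.subtype) := P.2.map _
  obtain ⟨x1, hx1N, hx11, hfix⟩ := fix_of_dvd ((P : Subgroup H).map H.subtype) hPp (N : Set G)
    (fun g hg y hy => hyp.norm g (hPH hg) y hy) hpN 1 N.one_mem (fun g _ => by simp)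
  have hle : (P : Subgroup H).map H.subtype ≤ cH H x1 := by
    intro g hg
    exact mem_cH.mpr ⟨hPH hg, hfix g hg⟩
  have h1 := sylow_le_not_dvd H P (cH H x1) hle
  rwa [relIndex_eq_of_card (cH_le H x) (cH_le H x1) (hyp.card_eq x hx x1 hx1N hx1 hx11)]

/-- Key lemma: on a set `C` of non-identity elements of `N`, of size "prime to the orbit size",
which is invariant under all the stabilizers of its own points, the stabilizer is constant. -/
theorem Hyp.key (hyp : Hyp N H) (C : Set G) (hCN : C ⊆ N) (hC1 : (1 : G) ∉ C)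
    (hinv : ∀ y ∈ C, ∀ h ∈ cH H y, ∀ y' ∈ C, h * y' * h⁻¹ ∈ C)
    (hcard : ∀ p : ℕ, p.Prime → p ∣ Nat.card C → p ∣ Nat.card N) :
    ∀ y ∈ C, ∀ y' ∈ C, cH H y = cH H y' := by
  -- the setwise stabilizer
  let M : Subgroup G :=
    { carrier := {h | h ∈ H ∧ ∀ z, z ∈ C ↔ h * z * h⁻¹ ∈ C}
      one_mem' := ⟨H.one_mem, fun z => by simp⟩
      mul_mem' := by
        rintro a b ⟨ha, ha'⟩ ⟨hb, hb'⟩
        refine ⟨H.mul_mem ha hb, fun z => ?_⟩
        rw [hb' z, ha' (b * z * b⁻¹)]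
        simp [mul_assoc]
      inv_mem' := by
        rintro a ⟨ha, ha'⟩
        refine ⟨H.inv_mem ha, fun z => ?_⟩
        rw [ha' (a⁻¹ * z * a⁻¹⁻¹)]
        simp [mul_assoc] }
  have hMH : M ≤ H := fun h hh => hh.1
  have hMC : ∀ h ∈ M, ∀ z ∈ C, h * z * h⁻¹ ∈ C := fun h hh z hz => (hh.2 z).mp hz
  have hle : ∀ y ∈ C, cH H y ≤ M := by
    intro y hy h hh
    refine ⟨(mem_cH.mp hh).1, fun z => ⟨fun hz => hinv y hy h hh z hz, fun hz => ?_⟩⟩
    have := hinv y hy h⁻¹ ((cH H y).inv_mem hh) _ hz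
    simpa [mul_assoc] using this
  have hne1 : ∀ y ∈ C, y ≠ 1 := fun y hy h => hC1 (h ▸ hy)
  have heq : ∀ y ∈ C, cH H y = M := by
    intro y hy
    refine le_antisymm (hle y hy) ?_
    rw [← Subgroup.relIndex_eq_one]
    by_contra hne
    obtain ⟨p, hp, hpd⟩ := Nat.exists_prime_and_dvd hne
    haveI : Fact p.Prime := ⟨hp⟩
    have hpH : p ∣ (cH H y).relIndex H := by
      rw [← Subgroup.relIndex_mul_relIndex _ _ _ (hle y hy) hMH]
      exact dvd_mul_of_dvd_left hpd _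
    have hpN : ¬ p ∣ Nat.card N := fun h => hyp.not_dvd hp h (hCN hy) (hne1 y hy) hpH
    have hpC : ¬ p ∣ Nat.card C := fun h => hpN (hcard p hp h)
    obtain ⟨Q⟩ : Nonempty (Sylow p M) := inferInstance
    have hQM : (Q : Subgroup M).map M.subtype ≤ M := by
      intro g hg
      obtain ⟨g', _, rfl⟩ := Subgroup.mem_map.mp hg
      exact g'.2
    have hQp : IsPGroup p ((Q : Subgroup M).map M.subtype) := Q.2.map _
    obtain ⟨y1, hy1C, hfix⟩ := fix_of_not_dvd ((Q : Subgroup M).map M.subtype) hQp C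
      (fun g hg z hz => hMC g (hQM hg) z hz) hpC
    have hQle : (Q : Subgroup M).map M.subtype ≤ cH H y1 := by
      intro g hg
      exact mem_cH.mpr ⟨hMH (hQM hg), hfix g hg⟩
    have h1 := sylow_le_not_dvd M Q (cH H y1) hQle
    rw [relIndex_eq_of_card (hle y1 hy1C) (hle y hy)
      (hyp.card_eq y1 (hCN hy1C) y (hCN hy) (hne1 y1 hy1C) (hne1 y hy))] at h1
    exact h1 hpd
  intro y hy y' hy'
  rw [heq y hy, heq y' hy']

end Cfsg.Agent.Lib.Helper7.Half
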