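import Mathlib
import Cfsg.Agent.Lib.Helper7.Half2

namespace Cfsg.Agent.Lib.Helper7.Half

variable {G : Type*} [Group G] [Finite G] {N H : Subgroup G}

/-- the size of an `N`-conjugacy class divides `|N|` -/
lemma card_class_dvd (N : Subgroup G) (x : G) :
    Nat.card {y : G | ∃ n ∈ N, y = n * x * n⁻¹} ∣ Nat.card N := by
  letI := conjG N
  have h1 : {y : G | ∃ n ∈ N, y = n * x * n⁻¹} = MulAction.orbit N x := by
    ext y
    constructor
    · rintro ⟨n, hn, rfl⟩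
      exact ⟨⟨n, hn⟩, rfl⟩
    · rintro ⟨n, rfl⟩
      exact ⟨n, n.2, rfl⟩
  rw [h1, Nat.card_coe_set_eq, ← MulAction.index_stabilizer]
  exact Subgroup.index_dvd_card _

/-- the stabilizer in `H` is constant on `N`-conjugacy classes -/
theorem Hyp.conj_stab (hyp : Hyp N H) {x : G} (hx : x ∈ N) (hx1 : x ≠ 1) {n : G} (hn : n ∈ N) :
    cH H (n * x * n⁻¹) = cH H x := by
  have hN : ∀ h ∈ H, ∀ m ∈ N, h * m * h⁻¹ ∈ N := hyp.norm
  refine hyp.key {y : G | ∃ n ∈ N, y = n * x * n⁻¹} ?_ ?_ ?_ ?_ _ ⟨n, hn, rfl⟩ _ ⟨1, N.one_mem, by simp⟩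
  · rintro y ⟨m, hm, rfl⟩
    exact N.mul_mem (N.mul_mem hm hx) (N.inv_mem hm)
  · rintro ⟨m, hm, h1⟩
    apply hx1
    have : x = m⁻¹ * (m * x * m⁻¹) * m := by group
    rw [this, ← h1]; simp
  · rintro y ⟨m, hm, rfl⟩ h hh y' ⟨m', hm', rfl⟩
    obtain ⟨hhH, hfix⟩ := mem_cH.mp hh
    -- h x h⁻¹ = (h m⁻¹ h⁻¹) m x m⁻¹ (h m h⁻¹)
    have hx' : h * x * h⁻¹ = (h * m⁻¹ * h⁻¹ * m) * x * (h * m⁻¹ * h⁻¹ * m)⁻¹ := by
      have : h * x * h⁻¹ = (h * m⁻¹ * h⁻¹) * (h * (m * x * m⁻¹) * h⁻¹) * (h * m⁻¹ * h⁻¹)⁻¹ := by group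
      rw [this, hfix]; group
    refine ⟨(h * m' * h⁻¹) * (h * m⁻¹ * h⁻¹ * m), ?_, ?_⟩
    · exact N.mul_mem (hN h hhH m' hm') (N.mul_mem (hN h hhH _ (N.inv_mem hm)) hm)
    · have : h * (m' * x * m'⁻¹) * h⁻¹ = (h * m' * h⁻¹) * (h * x * h⁻¹) * (h * m' * h⁻¹)⁻¹ := by group
      rw [this, hx']; group
  · intro p _ hp
    exact dvd_trans hp (card_class_dvd N x)

/-- If some non-identity element of `N` has a non-trivial stabilizer, `N` is abelian. -/
theorem Hyp.comm (hyp : Hyp N H) {x0 : G} (hx0 : x0 ∈ N) (hx01 : x0 ≠ 1) (hS : cH H x0 ≠ ⊥) :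
    ∀ a ∈ N, ∀ b ∈ N, a * b = b * a := by
  -- two non-identity elements with different stabilizers commute
  have hcomm : ∀ a ∈ N, ∀ b ∈ N, a ≠ 1 → b ≠ 1 → cH H a ≠ cH H b → a * b = b * a := by
    intro a ha b hb ha1 hb1 hne
    by_contra hab
    set w := a * b * a⁻¹ * b⁻¹ with hw
    have hw1 : w ≠ 1 := by
      intro h; apply hab
      have : a * b = w * (b * a) := by rw [hw]; group
      rw [this, h, one_mul]
    have hwN : w ∈ N := N.mul_mem (N.mul_mem (N.mul_mem ha hb) (N.inv_mem ha)) (N.inv_mem hb)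
    -- w = (a b a⁻¹) b⁻¹ : fixed by S_b ; w = a (b a⁻¹ b⁻¹) : fixed by S_a
    have h1 : cH H b ≤ cH H w := by
      intro h hh
      obtain ⟨hhH, hfix⟩ := mem_cH.mp hh
      have h2 := hyp.conj_stab hb hb1 ha
      have hh' : h ∈ cH H (a * b * a⁻¹) := h2 ▸ hh
      obtain ⟨_, hfix'⟩ := mem_cH.mp hh'
      refine mem_cH.mpr ⟨hhH, ?_⟩
      have : h * w * h⁻¹ = (h * (a * b * a⁻¹) * h⁻¹) * (h * b * h⁻¹)⁻¹ := by rw [hw]; group
      rw [this, hfix, hfix']
    have h2 : cH H a ≤ cH H w := by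
      intro h hh
      obtain ⟨hhH, hfix⟩ := mem_cH.mp hh
      have h2 := hyp.conj_stab ha ha1 hb
      have hh' : h ∈ cH H (b * a * b⁻¹) := h2 ▸ hh
      obtain ⟨_, hfix'⟩ := mem_cH.mp hh'
      refine mem_cH.mpr ⟨hhH, ?_⟩
      have : h * w * h⁻¹ = (h * a * h⁻¹) * (h * (b * a * b⁻¹) * h⁻¹)⁻¹ := by rw [hw]; group
      rw [this, hfix, hfix', hw]; group
    exact hne ((hyp.eq_of_le ha hwN ha1 hw1 h2).trans (hyp.eq_of_le hb hwN hb1 hw1 h1).symm)
  -- some element y0 of N has a stabilizer different from that of x0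
  have hex : ∃ y0 ∈ N, y0 ≠ 1 ∧ cH H y0 ≠ cH H x0 := by
    by_contra hcon
    push Not at hcon
    apply hS
    rw [Subgroup.eq_bot_iff_forall]
    intro h hh
    apply hyp.faithful h (cH_le H x0 hh)
    intro n hn
    by_cases hn1 : n = 1
    · subst hn1; simp
    · have := hcon n hn hn1
      rw [← this] at hh
      exact (mem_cH.mp hh).2
  obtain ⟨y0, hy0, hy01, hy0ne⟩ := hex
  -- elements with the stabilizer of x0 commute with everything
  have hmain : ∀ a ∈ N, ∀ b ∈ N, a ≠ 1 → b ≠ 1 → cH H a = cH H b → a * b = b * a := by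
    intro a ha b hb ha1 hb1 hab
    -- pick c with different stabilizer from a (and b)
    obtain ⟨c, hc, hc1, hcne⟩ : ∃ c ∈ N, c ≠ 1 ∧ cH H c ≠ cH H a := by
      by_cases h : cH H a = cH H x0
      · exact ⟨y0, hy0, hy01, h ▸ hy0ne⟩
      · exact ⟨x0, hx0, hx01, fun h' => h h'.symm⟩
    have hac : a * c = c * a := hcomm a ha c hc ha1 hc1 (Ne.symm hcne)
    -- b * c has a stabilizer different from that of a
    have hbc1 : b * c ≠ 1 ∨ True := Or.inr trivial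
    by_cases hbc : b * c = 1
    · have : b = c⁻¹ := eq_inv_of_mul_eq_one_left hbc
      rw [this]
      have := hac
      calc a * c⁻¹ = c⁻¹ * (c * a) * c⁻¹ := by group
        _ = c⁻¹ * (a * c) * c⁻¹ := by rw [hac]
        _ = c⁻¹ * a := by group
    · have hbcN : b * c ∈ N := N.mul_mem hb hc
      have hne : cH H a ≠ cH H (b * c) := by
        intro heq
        apply hcne
        symm
        apply hyp.eq_of_le ha hc ha1 hc1
        intro h hh
        have hb' : h ∈ cH H b := hab ▸ hh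
        have hbc' : h ∈ cH H (b * c) := heq ▸ hh
        obtain ⟨hhH, hfb⟩ := mem_cH.mp hb'
        obtain ⟨_, hfbc⟩ := mem_cH.mp hbc'
        refine mem_cH.mpr ⟨hhH, ?_⟩
        have : h * c * h⁻¹ = (h * b * h⁻¹)⁻¹ * (h * (b * c) * h⁻¹) := by group
        rw [this, hfb, hfbc]; group
      have h3 : a * (b * c) = (b * c) * a := hcomm a ha (b * c) hbcN ha1 hbc hne
      calc a * b = a * (b * c) * c⁻¹ := by group
        _ = b * c * a * c⁻¹ := by rw [h3]
        _ = b * (c * a) * c⁻¹ := by group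
        _ = b * (a * c) * c⁻¹ := by rw [hac]
        _ = b * a := by group
  intro a ha b hb
  by_cases ha1 : a = 1
  · subst ha1; simp
  by_cases hb1 : b = 1
  · subst hb1; simp
  by_cases h : cH H a = cH H b
  · exact hmain a ha b hb ha1 hb1 h
  · exact hcomm a ha b hb ha1 hb1 h

end Cfsg.Agent.Lib.Helper7.Half
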