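import Mathlib
import Cfsg.Agent.Lib.Helper7.Half3

namespace Cfsg.Agent.Lib.Helper7.Half

variable {G : Type*} [Group G] [Finite G] {N H : Subgroup G}

lemma card_coset (K : Subgroup G) (x : G) : Nat.card {y : G | x⁻¹ * y ∈ K} = Nat.card K := by
  apply Nat.card_congr
  exact
    { toFun := fun y => ⟨x⁻¹ * y.1, y.2⟩
      invFun := fun k => ⟨x * k.1, by simp⟩
      left_inv := fun y => by apply Subtype.ext; simp
      right_inv := fun k => by apply Subtype.ext; simp }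

/-- Wielandt's block argument: if some non-identity element of `N` has a non-trivial stabilizer,
then `N` has no proper non-trivial `H`-invariant subgroup. -/
theorem Hyp.no_invariant (hyp : Hyp N H) {x0 : G} (hx0 : x0 ∈ N) (hx01 : x0 ≠ 1)
    (hS : cH H x0 ≠ ⊥) (K : Subgroup G) (hKN : K ≤ N)
    (hKH : ∀ h ∈ H, ∀ k ∈ K, h * k * h⁻¹ ∈ K) (hK1 : K ≠ ⊥) : K = N := by
  by_contra hne
  have hlt : K < N := lt_of_le_of_ne hKN hne
  obtain ⟨x1, hx1N, hx1K⟩ := SetLike.exists_of_lt hlt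
  obtain ⟨k0, hk0K, hk01⟩ : ∃ k0 ∈ K, k0 ≠ 1 := by
    obtain ⟨k, hk⟩ := Subgroup.ne_bot_iff_exists_ne_one.mp hK1
    exact ⟨(k : G), k.2, fun h => hk (Subtype.ext h)⟩
  -- the stabilizer of x ∉ K fixes K pointwise
  have hstep : ∀ x ∈ N, x ∉ K → ∀ k ∈ K, cH H x ≤ cH H k := by
    intro x hxN hxK k hk
    have hkey := hyp.key {y : G | x⁻¹ * y ∈ K} ?_ ?_ ?_ ?_ x (by simp) (x * k) (by simpa using hk)
    · intro h hh
      have hh' : h ∈ cH H (x * k) := hkey ▸ hh
      obtain ⟨hhH, hf⟩ := mem_cH.mp hh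
      obtain ⟨_, hf'⟩ := mem_cH.mp hh'
      refine mem_cH.mpr ⟨hhH, ?_⟩
      have : h * k * h⁻¹ = (h * x * h⁻¹)⁻¹ * (h * (x * k) * h⁻¹) := by group
      rw [this, hf, hf']; group
    · intro y hy
      have hy' : x⁻¹ * y ∈ K := hy
      have : y = x * (x⁻¹ * y) := by group
      rw [this]
      exact N.mul_mem hxN (hKN hy')
    · intro h1
      apply hxK
      have h1' : x⁻¹ * 1 ∈ K := h1
      rw [mul_one] at h1'
      simpa using K.inv_mem h1'
    · intro y hy h hh y' hy'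
      have hy1 : x⁻¹ * y ∈ K := hy
      have hy2 : x⁻¹ * y' ∈ K := hy'
      obtain ⟨hhH, hf⟩ := mem_cH.mp hh
      show x⁻¹ * (h * y' * h⁻¹) ∈ K
      have e : x⁻¹ * (h * y' * h⁻¹)
          = (x⁻¹ * (h * y * h⁻¹)) * (h * ((x⁻¹ * y)⁻¹ * (x⁻¹ * y')) * h⁻¹) := by group
      rw [e, hf]
      exact K.mul_mem hy1 (hKH h hhH _ (K.mul_mem (K.inv_mem hy1) hy2))
    · intro p _ hp
      rw [card_coset] at hp
      exact dvd_trans hp (Subgroup.card_dvd_of_le hKN)
  have hx11 : x1 ≠ 1 := fun h => hx1K (h ▸ K.one_mem)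
  -- all stabilizers are equal to that of k0
  have hall : ∀ y ∈ N, y ≠ 1 → cH H y = cH H k0 := by
    intro y hy hy1
    have hx1k0 : cH H x1 = cH H k0 :=
      hyp.eq_of_le hx1N (hKN hk0K) hx11 hk01 (hstep x1 hx1N hx1K k0 hk0K)
    by_cases hyK : y ∈ K
    · have := hyp.eq_of_le hx1N hy hx11 hy1 (hstep x1 hx1N hx1K y hyK)
      rw [← this, hx1k0]
    · exact hyp.eq_of_le hy (hKN hk0K) hy1 hk01 (hstep y hy hyK k0 hk0K)
  apply hS
  rw [Subgroup.eq_bot_iff_forall]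
  intro h hh
  apply hyp.faithful h (cH_le H x0 hh)
  intro n hn
  by_cases hn1 : n = 1
  · subst hn1; simp
  · rw [hall x0 hx0 hx01, ← hall n hn hn1] at hh
    exact (mem_cH.mp hh).2

/-- Isaacs--Passman: a half-transitive, non-semiregular group of automorphisms acts on an
elementary abelian group without proper invariant subgroups. -/
theorem Hyp.elementary (hyp : Hyp N H) {x0 : G} (hx0 : x0 ∈ N) (hx01 : x0 ≠ 1)
    (hS : cH H x0 ≠ ⊥) : ∃ p : ℕ, p.Prime ∧ ∀ x ∈ N, x ^ p = 1 := by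
  have hcomm := hyp.comm hx0 hx01 hS
  have hN1 : Nat.card N ≠ 1 := by
    intro h
    have : N = ⊥ := Subgroup.card_eq_one.mp h
    apply hx01
    rw [this] at hx0
    exact Subgroup.mem_bot.mp hx0
  obtain ⟨p, hp, hpd⟩ := Nat.exists_prime_and_dvd hN1
  haveI : Fact p.Prime := ⟨hp⟩
  refine ⟨p, hp, ?_⟩
  let K : Subgroup G :=
    { carrier := {x | x ∈ N ∧ x ^ p = 1}
      one_mem' := ⟨N.one_mem, one_pow p⟩
      mul_mem' := by
        rintro a b ⟨ha, ha'⟩ ⟨hb, hb'⟩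
        refine ⟨N.mul_mem ha hb, ?_⟩
        have : Commute a b := hcomm a ha b hb
        rw [this.mul_pow, ha', hb', one_mul]
      inv_mem' := by
        rintro a ⟨ha, ha'⟩
        exact ⟨N.inv_mem ha, by rw [inv_pow, ha', inv_one]⟩ }
  have hKN : K ≤ N := fun x hx => hx.1
  have hKH : ∀ h ∈ H, ∀ k ∈ K, h * k * h⁻¹ ∈ K := by
    rintro h hh k ⟨hk, hk'⟩
    exact ⟨hyp.norm h hh k hk, by rw [conj_pow, hk']; simp⟩
  have hK1 : K ≠ ⊥ := by
    obtain ⟨x, hx⟩ := exists_prime_orderOf_dvd_card' (G := N) p hpd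
    intro hbot
    have hxK : (x : G) ∈ K := by
      refine ⟨x.2, ?_⟩
      have : x ^ p = 1 := by rw [← hx]; exact pow_orderOf_eq_one x
      have := congrArg Subtype.val this
      simpa using this
    rw [hbot, Subgroup.mem_bot] at hxK
    have hx1 : x = 1 := Subtype.ext hxK
    rw [hx1, orderOf_one] at hx
    exact hp.one_lt.ne hx
  have hKeq := hyp.no_invariant hx0 hx01 hS K hKN hKH hK1
  intro x hx
  have : x ∈ K := hKeq ▸ hx
  exact this.2

end Cfsg.Agent.Lib.Helper7.Half
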