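import Mathlib
import Cfsg.Agent.Lib.Helper7.Burnside

set_option autoImplicit false

namespace Cfsg.Agent.Lib.Helper7

/-- Jordan: in a transitive action of a finite group on a finite nonempty set, if every element
fixes a point, the set is a singleton. -/
theorem card_eq_one_of_forall_fixed {K Ω : Type*} [Group K] [Finite K] [MulAction K Ω] [Finite Ω]
    [Nonempty Ω] [MulAction.IsPretransitive K Ω]
    (hfix : ∀ k : K, ∃ ω : Ω, k • ω = ω) : Nat.card Ω = 1 := by
  classical
  have := Fintype.ofFinite K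
  have hB := burnside_nat K Ω
  rw [card_orbits_of_pretransitive K Ω, one_mul] at hB
  have hge : ∀ k : K, 1 ≤ Nat.card (MulAction.fixedBy Ω k) := by
    intro k
    obtain ⟨ω, hω⟩ := hfix k
    haveI : Nonempty (MulAction.fixedBy Ω k) := ⟨⟨ω, hω⟩⟩
    exact Nat.card_pos
  have h1 : Nat.card (MulAction.fixedBy Ω (1 : K)) = Nat.card Ω := by
    have : MulAction.fixedBy Ω (1 : K) = Set.univ := by
      ext ω; simp
    rw [this, Nat.card_coe_set_eq, Set.ncard_univ]
  have hsplit : ∑ k : K, Nat.card (MulAction.fixedBy Ω k) =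
      Nat.card (MulAction.fixedBy Ω (1 : K)) +
        ∑ k ∈ Finset.univ.erase (1 : K), Nat.card (MulAction.fixedBy Ω k) := by
    exact (Finset.add_sum_erase Finset.univ (fun k => Nat.card (MulAction.fixedBy Ω k))
      (Finset.mem_univ 1)).symm
  have hrest : (Finset.univ.erase (1 : K)).card ≤
      ∑ k ∈ Finset.univ.erase (1 : K), Nat.card (MulAction.fixedBy Ω k) := by
    calc (Finset.univ.erase (1 : K)).card = ∑ k ∈ Finset.univ.erase (1 : K), 1 := by simp
      _ ≤ _ := Finset.sum_le_sum fun k _ => hge k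
  have hcard : (Finset.univ.erase (1 : K)).card = Nat.card K - 1 := by
    rw [Finset.card_erase_of_mem (Finset.mem_univ _), Finset.card_univ, Nat.card_eq_fintype_card]
  have hKpos : 0 < Nat.card K := Nat.card_pos
  have hΩpos : 0 < Nat.card Ω := Nat.card_pos
  omega

/-- If `p ∤ |G : H|`, every `p`-subgroup of `H` lies in a Sylow `p`-subgroup of `G`
contained in `H`. -/
theorem exists_sylow_between {G : Type*} [Group G] [Finite G] {p : ℕ} [Fact p.Prime]
    (H : Subgroup G) (hH : ¬ p ∣ H.index) (Y : Subgroup G) (hY : IsPGroup p Y) (hYH : Y ≤ H) :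
    ∃ R : Sylow p G, Y ≤ R ∧ (R : Subgroup G) ≤ H := by
  have hY' : IsPGroup p (Y.subgroupOf H) :=
    hY.comap_of_injective H.subtype H.subtype_injective
  obtain ⟨R, hR⟩ := hY'.exists_le_sylow
  have hcard : Nat.card ((R : Subgroup H).map H.subtype) =
      p ^ (Nat.card G).factorization p := by
    rw [Subgroup.card_map_of_injective H.subtype_injective, R.card_eq_multiplicity]
    congr 1
    rw [← H.card_mul_index, Nat.factorization_mul Nat.card_pos.ne' (Subgroup.index_ne_zero_of_finite)]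
    simp [Nat.factorization_eq_zero_of_not_dvd hH]
  refine ⟨Sylow.ofCard _ hcard, ?_, ?_⟩
  · intro y hy
    change y ∈ (R : Subgroup H).map H.subtype
    refine ⟨⟨y, hYH hy⟩, hR ?_, rfl⟩
    exact Subgroup.mem_subgroupOf.mpr hy
  · intro y hy
    change y ∈ (R : Subgroup H).map H.subtype at hy
    obtain ⟨z, _, rfl⟩ := hy
    exact z.2

/-- `p`-part / `p'`-part decomposition of an element of a finite group. -/
theorem exists_p_decomp {G : Type*} [Group G] [Finite G] (p : ℕ) [hp : Fact p.Prime] (g : G) :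
    ∃ x y : G, Commute x y ∧ (orderOf x).Coprime p ∧ IsPGroup p (Subgroup.zpowers y) ∧
      g ∈ Subgroup.closure {x, y} := by
  have hn : orderOf g ≠ 0 := (orderOf_pos g).ne'
  obtain ⟨a, m, hm, hnm⟩ := Nat.exists_eq_pow_mul_and_not_dvd hn p hp.out.ne_one
  have hcop : Nat.Coprime (p ^ a) m := Nat.Coprime.pow_left _ ((Nat.Prime.coprime_iff_not_dvd hp.out).mpr hm)
  refine ⟨g ^ (p ^ a), g ^ m, (Commute.refl g).pow_pow _ _, ?_, ?_, ?_⟩
  · have : orderOf (g ^ (p ^ a)) = m := by
      rw [orderOf_pow_of_dvd (pow_ne_zero _ hp.out.ne_zero) (hnm ▸ dvd_mul_right _ _), hnm,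
        Nat.mul_div_cancel_left _ (pow_pos hp.out.pos _)]
    rw [this]
    exact ((Nat.Prime.coprime_iff_not_dvd hp.out).mpr hm).symm
  · have hm0 : m ≠ 0 := by
      intro h0; rw [h0, mul_zero] at hnm; exact hn hnm
    have : orderOf (g ^ m) = p ^ a := by
      rw [orderOf_pow_of_dvd hm0 (hnm ▸ dvd_mul_left _ _), hnm,
        Nat.mul_div_cancel _ (Nat.pos_of_ne_zero hm0)]
    rw [IsPGroup.iff_card, Nat.card_zpowers, this]
    exact ⟨a, rfl⟩
  · have hgcd : Nat.gcd (p ^ a) m = 1 := hcop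
    have hbez := Nat.gcd_eq_gcd_ab (p ^ a) m
    rw [hgcd] at hbez
    have : g = (g ^ (p ^ a)) ^ (Nat.gcdA (p ^ a) m) * (g ^ m) ^ (Nat.gcdB (p ^ a) m) := by
      rw [← zpow_natCast g (p ^ a), ← zpow_natCast g m, ← zpow_mul, ← zpow_mul, ← zpow_add]
      have : ((p ^ a : ℕ) : ℤ) * Nat.gcdA (p ^ a) m + (m : ℤ) * Nat.gcdB (p ^ a) m = 1 := by
        rw [← hbez]; simp
      rw [this, zpow_one]
    have hmem : (g ^ (p ^ a)) ^ (Nat.gcdA (p ^ a) m) * (g ^ m) ^ (Nat.gcdB (p ^ a) m) ∈
        Subgroup.closure ({g ^ (p ^ a), g ^ m} : Set G) := by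
      refine Subgroup.mul_mem _ (Subgroup.zpow_mem _ (Subgroup.subset_closure ?_) _)
        (Subgroup.zpow_mem _ (Subgroup.subset_closure ?_) _)
      · simp
      · simp
    rwa [← this] at hmem

end Cfsg.Agent.Lib.Helper7
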