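import Mathlib
import Cfsg.Prelude.Def_OddOrderLocal
import Cfsg.Agent.Lib.Helper7.SylowFix
import Cfsg.Agent.Lib.Helper7.Conj
import Cfsg.Agent.Lib.Lead.CoprimeTools

set_option autoImplicit false

open scoped Pointwise

namespace Cfsg.Agent.Lib.Helper7

section
variable {G : Type*} [Group G] [Finite G]

/-- a subgroup normalizing a Hall subgroup `H`, all of whose prime divisors divide `|H|`,
lies in `H`. -/
theorem le_of_hall_of_le_normalizer (H K : Subgroup G) (hHall : (Nat.card H).Coprime H.index)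
    (hKN : K ≤ Subgroup.normalizer (H : Set G))
    (hK : ∀ q : ℕ, q.Prime → q ∣ Nat.card K → q ∣ Nat.card H) : K ≤ H := by
  rw [← Subgroup.relIndex_eq_one]
  have h1 := Cfsg.Agent.Lib.Lead.relIndex_sup_of_le_normalizer K H hKN
  have h2 : H.relIndex (K ⊔ H) * (K ⊔ H).index = H.index :=
    Subgroup.relIndex_mul_index le_sup_right
  rw [h1] at h2
  have h3 : H.relIndex K ∣ Nat.card K := Subgroup.relIndex_dvd_card _ _
  have h4 : H.relIndex K ∣ H.index := Dvd.intro _ h2
  by_contra hne
  obtain ⟨q, hq, hqd⟩ := Nat.exists_prime_and_dvd hne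
  have h5 : q ∣ Nat.card H := hK q hq (hqd.trans h3)
  have h6 : q ∣ H.index := hqd.trans h4
  exact hq.one_lt.ne' (Nat.eq_one_of_dvd_coprimes hHall h5 h6)

/-- elements of order involving only primes dividing `|H|`, in the normalizer of the Hall
subgroup `H`, lie in `H`. -/
theorem mem_of_hall_of_mem_normalizer (H : Subgroup G) (hHall : (Nat.card H).Coprime H.index)
    (x : G) (hxN : x ∈ Subgroup.normalizer (H : Set G))
    (hx : ∀ q : ℕ, q.Prime → q ∣ orderOf x → q ∣ Nat.card H) : x ∈ H := by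
  have := le_of_hall_of_le_normalizer H (Subgroup.zpowers x) hHall
    (by rw [Subgroup.zpowers_le]; exact hxN) (by rw [Nat.card_zpowers]; exact hx)
  exact this (Subgroup.mem_zpowers x)

theorem orderOf_inv_mul_mul (a x : G) : orderOf (a⁻¹ * x * a) = orderOf x := by
  have h := MulEquiv.orderOf_eq (MulAut.conj a⁻¹) x
  rw [MulAut.conj_apply, inv_inv] at h
  exact h

theorem smul_mk_eq_iff (N : Subgroup G) (x a : G) :
    x • (a : G ⧸ N) = (a : G ⧸ N) ↔ a⁻¹ * x * a ∈ N := by
  rw [MulAction.Quotient.smul_mk, QuotientGroup.eq, smul_eq_mul]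
  constructor
  · intro h
    have := N.inv_mem h
    have e : ((x * a)⁻¹ * a)⁻¹ = a⁻¹ * x * a := by group
    rwa [e] at this
  · intro h
    have := N.inv_mem h
    have e : (a⁻¹ * x * a)⁻¹ = (x * a)⁻¹ * a := by group
    rwa [e] at this

/-- uniqueness of the fixed coset of a nonidentity `π(H)`-element, `H` a TI Hall subgroup. -/
theorem fixed_unique (H : Subgroup G) (hHall : (Nat.card H).Coprime H.index)
    (hTI : Cfsg.IsTISubset (H : Set G)) (x : G) (hx1 : x ≠ 1)
    (hx : ∀ q : ℕ, q.Prime → q ∣ orderOf x → q ∣ Nat.card H)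
    (ω₁ ω₂ : G ⧸ Subgroup.normalizer (H : Set G)) (h1 : x • ω₁ = ω₁) (h2 : x • ω₂ = ω₂) :
    ω₁ = ω₂ := by
  induction ω₁ using QuotientGroup.induction_on with
  | H a =>
  induction ω₂ using QuotientGroup.induction_on with
  | H b =>
  rw [smul_mk_eq_iff] at h1 h2
  have ha : a⁻¹ * x * a ∈ H := mem_of_hall_of_mem_normalizer H hHall _ h1
    (by rw [orderOf_inv_mul_mul]; exact hx)
  have hb : b⁻¹ * x * b ∈ H := mem_of_hall_of_mem_normalizer H hHall _ h2
    (by rw [orderOf_inv_mul_mul]; exact hx)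
  have hne : a⁻¹ * x * a ≠ 1 := by
    intro h
    apply hx1
    have e : x = a * (a⁻¹ * x * a) * a⁻¹ := by group
    rw [e, h]; group
  have hmem : b⁻¹ * a ∈ Subgroup.normalizer (H : Set G) := by
    by_contra hn
    apply hne
    apply hTI (b⁻¹ * a) hn (a⁻¹ * x * a) ha
    have e : b⁻¹ * a * (a⁻¹ * x * a) * (b⁻¹ * a)⁻¹ = b⁻¹ * x * b := by group
    rw [e]; exact hb
  rw [QuotientGroup.eq]
  have := (Subgroup.normalizer (H : Set G)).inv_mem hmem
  have e : (b⁻¹ * a)⁻¹ = a⁻¹ * b := by group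
  rwa [e] at this

/-- existence of a fixed coset. -/
theorem fixed_exists (H : Subgroup G) (hHall : (Nat.card H).Coprime H.index)
    (hTI : Cfsg.IsTISubset (H : Set G)) (x : G) (hx1 : x ≠ 1)
    (hx : ∀ q : ℕ, q.Prime → q ∣ orderOf x → q ∣ Nat.card H) :
    ∃ ω : G ⧸ Subgroup.normalizer (H : Set G), x • ω = ω := by
  have hn1 : orderOf x ≠ 1 := fun h => hx1 (orderOf_eq_one_iff.mp h)
  have hp : (orderOf x).minFac.Prime := Nat.minFac_prime hn1
  set p := (orderOf x).minFac with hpdef
  have hpn : p ∣ orderOf x := Nat.minFac_dvd _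
  haveI : Fact p.Prime := ⟨hp⟩
  set y := x ^ (orderOf x / p) with hy
  have hyord : orderOf y = p := orderOf_pow_orderOf_div (orderOf_pos x).ne' hpn
  have hpH : p ∣ Nat.card H := hx p hp hpn
  have hidx : ¬ p ∣ H.index := by
    intro h
    exact hp.one_lt.ne' (Nat.eq_one_of_dvd_coprimes hHall hpH h)
  obtain ⟨R, -, hRH⟩ := exists_sylow_between H hidx ⊥ IsPGroup.of_bot bot_le
  have hyp : IsPGroup p (Subgroup.zpowers y) := by
    apply IsPGroup.of_card (n := 1)
    rw [Nat.card_zpowers, hyord, pow_one]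
  obtain ⟨Q, hQ⟩ := hyp.exists_le_sylow
  obtain ⟨g, hg⟩ := MulAction.exists_smul_eq G R Q
  have hyQ : y ∈ (Q : Subgroup G) := hQ (Subgroup.mem_zpowers y)
  have hyg : g⁻¹ * y * g ∈ H := by
    apply hRH
    rw [← hg, Sylow.smul_def, Sylow.pointwise_smul_def,
      Subgroup.mem_pointwise_smul_iff_inv_smul_mem] at hyQ
    have e : (MulAut.conj g)⁻¹ • y = g⁻¹ * y * g := by
      rw [← map_inv, MulAut.smul_def, MulAut.conj_apply, inv_inv]
    rwa [e] at hyQ
  have hy1 : y ≠ 1 := by
    intro h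
    rw [h, orderOf_one] at hyord
    exact hp.one_lt.ne hyord
  have hyfix : y • ((g : G) : G ⧸ Subgroup.normalizer (H : Set G)) = (g : G) := by
    rw [smul_mk_eq_iff]
    exact Subgroup.le_normalizer hyg
  have hyx : ∀ q : ℕ, q.Prime → q ∣ orderOf y → q ∣ Nat.card H := by
    intro q hq hqd
    rw [hyord] at hqd
    rw [(Nat.prime_dvd_prime_iff_eq hq hp).mp hqd]
    exact hpH
  refine ⟨(g : G), ?_⟩
  apply fixed_unique H hHall hTI y hy1 hyx _ _ _ hyfix
  have hcomm : y * x = x * y := by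
    rw [hy]
    exact ((Commute.refl x).pow_left _).eq
  rw [← mul_smul, hcomm, mul_smul, hyfix]

end

section count

open MulAction

/-- if all stabilizers are nontrivial, every orbit has at most `|K|/2` points. -/
theorem two_mul_card_le_orbits_mul_card {K X : Type*} [Group K] [Finite K] [MulAction K X]
    [Finite X] (h : ∀ x : X, stabilizer K x ≠ ⊥) :
    2 * Nat.card X ≤ Nat.card (orbitRel.Quotient K X) * Nat.card K := by
  classical
  have := Fintype.ofFinite X
  haveI : Fintype (orbitRel.Quotient K X) := Fintype.ofFinite _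
  rw [Nat.card_congr (selfEquivSigmaOrbits K X), Nat.card_sigma, Finset.mul_sum,
    Nat.card_eq_fintype_card (α := orbitRel.Quotient K X), ← Finset.card_univ, ← smul_eq_mul,
    ← Finset.sum_const]
  apply Finset.sum_le_sum
  intro ω _
  rw [Nat.card_coe_set_eq, ← index_stabilizer]
  have h1 := (stabilizer K (Quotient.out ω)).index_mul_card
  have h2 : 2 ≤ Nat.card (stabilizer K (Quotient.out ω)) := by
    have hnt : Nontrivial (stabilizer K (Quotient.out ω)) :=
      (Subgroup.nontrivial_iff_ne_bot _).mpr (h _)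
    exact Finite.one_lt_card
  calc 2 * (stabilizer K (Quotient.out ω)).index
      ≤ Nat.card (stabilizer K (Quotient.out ω)) * (stabilizer K (Quotient.out ω)).index :=
        Nat.mul_le_mul_right _ h2
    _ = Nat.card K := by rw [mul_comm]; exact h1

end count

end Cfsg.Agent.Lib.Helper7

namespace Cfsg.Agent.Lib.Helper7

section main

open MulAction

variable {G : Type*} [Group G] [Finite G]

/-- cosets of `N_G(H)` fixed by some nonidentity element of `K`, as a `K`-set. -/
def fixedCosets (H K : Subgroup G) :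
    SubMulAction K (G ⧸ Subgroup.normalizer (H : Set G)) where
  carrier := {ω | ∃ k : K, k ≠ 1 ∧ k • ω = ω}
  smul_mem' := by
    rintro c ω ⟨k, hk1, hk⟩
    refine ⟨c * k * c⁻¹, ?_, ?_⟩
    · intro h
      apply hk1
      have : k = c⁻¹ * (c * k * c⁻¹) * c := by group
      rw [this, h]; group
    · rw [mul_smul, mul_smul, inv_smul_smul, hk]

/-- A TI Hall subgroup `H` contains a conjugate of every `π(H)`-subgroup. -/
theorem hall_ti_dominates (H : Subgroup G) (hHall : (Nat.card H).Coprime H.index)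
    (hTI : Cfsg.IsTISubset (H : Set G)) (K : Subgroup G)
    (hK : ∀ q : ℕ, q.Prime → q ∣ Nat.card K → q ∣ Nat.card H) :
    ∃ g : G, K ≤ H.map (MulAut.conj g).toMonoidHom := by
  classical
  by_cases hK1 : K = ⊥
  · exact ⟨1, hK1 ▸ bot_le⟩
  have hKcard : 2 ≤ Nat.card K := by
    have hnt : Nontrivial K := (Subgroup.nontrivial_iff_ne_bot _).mpr hK1
    exact Finite.one_lt_card
  have hord : ∀ k : K, ∀ q : ℕ, q.Prime → q ∣ orderOf (k : G) → q ∣ Nat.card H := by
    intro k q hq hqd
    apply hK q hq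
    rw [Subgroup.orderOf_coe] at hqd
    exact hqd.trans (orderOf_dvd_natCard k)
  haveI := Fintype.ofFinite K
  have hne1 : ∀ k : K, k ≠ 1 → (k : G) ≠ 1 := fun k hk h => hk (Subtype.ext h)
  -- fixed point counts on Ω'
  have hfix1 : ∀ k : K, k ≠ 1 → Nat.card (fixedBy (fixedCosets H K) k) = 1 := by
    intro k hk
    rw [Nat.card_eq_one_iff_unique]
    constructor
    · constructor
      rintro ⟨ω₁, h1⟩ ⟨ω₂, h2⟩
      apply Subtype.ext
      apply Subtype.ext
      have h1' : (k : G) • (ω₁ : G ⧸ Subgroup.normalizer (H : Set G)) = ω₁ :=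
        congrArg Subtype.val h1
      have h2' : (k : G) • (ω₂ : G ⧸ Subgroup.normalizer (H : Set G)) = ω₂ :=
        congrArg Subtype.val h2
      exact fixed_unique H hHall hTI (k : G) (hne1 k hk) (hord k) _ _ h1' h2'
    · obtain ⟨ω, hω⟩ := fixed_exists H hHall hTI (k : G) (hne1 k hk) (hord k)
      exact ⟨⟨⟨ω, ⟨k, hk, hω⟩⟩, Subtype.ext hω⟩⟩
  have hfix0 : Nat.card (fixedBy (fixedCosets H K) (1 : K)) = Nat.card (fixedCosets H K) := by
    have : fixedBy (fixedCosets H K) (1 : K) = Set.univ := by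
      ext ω; simp
    rw [this, Nat.card_coe_set_eq, Set.ncard_univ]
  have hB := burnside_nat K (fixedCosets H K)
  have hsplit : ∑ k : K, Nat.card (fixedBy (fixedCosets H K) k) =
      Nat.card (fixedCosets H K) + (Nat.card K - 1) := by
    rw [← Finset.add_sum_erase Finset.univ _ (Finset.mem_univ (1 : K)), hfix0]
    congr 1
    rw [Finset.sum_congr rfl (fun k hk => hfix1 k (Finset.ne_of_mem_erase hk))]
    rw [Finset.sum_const, Finset.card_erase_of_mem (Finset.mem_univ _), Finset.card_univ,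
      smul_eq_mul, mul_one, Nat.card_eq_fintype_card]
  rw [hsplit] at hB
  have hstab : ∀ ω : fixedCosets H K, stabilizer K ω ≠ ⊥ := by
    rintro ⟨ω, k, hk1, hk⟩ h
    have : k ∈ stabilizer K (⟨ω, k, hk1, hk⟩ : fixedCosets H K) := by
      rw [mem_stabilizer_iff]
      exact Subtype.ext hk
    rw [h, Subgroup.mem_bot] at this
    exact hk1 this
  have hle := two_mul_card_le_orbits_mul_card hstab
  set c := Nat.card (fixedCosets H K) with hc
  set t := Nat.card (orbitRel.Quotient K (fixedCosets H K)) with ht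
  set n := Nat.card K with hn
  have hc1 : c = 1 := by
    rcases t with _ | _ | t
    · simp at hB; omega
    · omega
    · exfalso
      have h1 : (t + 1 + 1) * n = t * n + 2 * n := by ring
      rw [h1] at hB hle
      omega
  -- the unique point is fixed by all of K
  obtain ⟨ω₀, hω₀⟩ := Nat.card_eq_one_iff_exists.mp hc1
  have hfixall : ∀ k : K, k • ω₀ = ω₀ := fun k => hω₀ _
  obtain ⟨⟨ω, hωmem⟩, rfl⟩ : ∃ ω' : fixedCosets H K, ω' = ω₀ := ⟨ω₀, rfl⟩
  induction ω using QuotientGroup.induction_on with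
  | H g =>
  refine ⟨g, ?_⟩
  intro k hk
  rw [mem_cj]
  have h1 : (k : G) • ((g : G) : G ⧸ Subgroup.normalizer (H : Set G)) = (g : G) :=
    congrArg Subtype.val (hfixall ⟨k, hk⟩)
  rw [smul_mk_eq_iff] at h1
  apply mem_of_hall_of_mem_normalizer H hHall _ h1
  rw [orderOf_inv_mul_mul]
  exact hord ⟨k, hk⟩

end main

end Cfsg.Agent.Lib.Helper7
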