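import Mathlib
import Cfsg.Prelude.Def_HallClasses

set_option autoImplicit false

/-!
Hall subgroups contain conjugates of all `p`-elements, `p ∈ π`; D_π implies E_π.
-/

namespace Cfsg.Agent.Lib.Helper7.HallUniv

open scoped Pointwise

variable {G : Type*} [Group G] [Finite G]

/-- a Hall `π`-subgroup contains a Sylow `p`-subgroup of `G` for `p ∈ π` -/
theorem exists_sylow_le_of_hall {π : Set ℕ} {H : Subgroup G} (hH : Cfsg.IsPiHall π H)
    {p : ℕ} [hp : Fact p.Prime] (hpπ : p ∈ π) : ∃ P : Sylow p G, (P : Subgroup G) ≤ H := by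
  obtain PH : Sylow p H := default
  have hidx : ¬ p ∣ H.index := hH.2 p hp.out hpπ
  have hfac : (Nat.card H).factorization p = (Nat.card G).factorization p := by
    have h1 : Nat.card H * H.index = Nat.card G := Subgroup.card_mul_index H
    rw [← h1, Nat.factorization_mul Nat.card_pos.ne' Subgroup.index_ne_zero_of_finite]
    simp [Nat.factorization_eq_zero_of_not_dvd hidx]
  have hcard : Nat.card ((PH : Subgroup H).map H.subtype) = p ^ (Nat.card G).factorization p := by
    rw [Subgroup.card_map_of_injective H.subtype_injective, Sylow.card_eq_multiplicity, hfac]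
  refine ⟨Sylow.ofCard ((PH : Subgroup H).map H.subtype) hcard, ?_⟩
  intro x hx
  have hx' : x ∈ (PH : Subgroup H).map H.subtype := hx
  obtain ⟨y, _, hy⟩ := Subgroup.mem_map.mp hx'
  rw [← hy]
  exact y.2

/-- a Hall `π`-subgroup contains a conjugate of every `p`-element, `p ∈ π` -/
theorem exists_conj_mem_of_hall {π : Set ℕ} {H : Subgroup G} (hH : Cfsg.IsPiHall π H)
    {p : ℕ} [hp : Fact p.Prime] (hpπ : p ∈ π) (x : G) (k : ℕ) (hx : orderOf x = p ^ k) :
    ∃ g : G, g * x * g⁻¹ ∈ H := by
  obtain ⟨P, hP⟩ := exists_sylow_le_of_hall hH hpπ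
  have hpg : IsPGroup p (Subgroup.zpowers x) := by
    apply IsPGroup.of_card (n := k)
    rw [Nat.card_zpowers, hx]
  obtain ⟨Q, hQ⟩ := hpg.exists_le_sylow
  obtain ⟨g, hg⟩ := MulAction.exists_smul_eq G Q P
  refine ⟨g, hP ?_⟩
  rw [← hg, Sylow.coe_subgroup_smul]
  have := Subgroup.smul_mem_pointwise_smul x (MulAut.conj g) (Q : Subgroup G)
    (hQ (Subgroup.mem_zpowers x))
  simpa [MulAut.smul_def] using this

/-- `D_π` implies `E_π` for a finite group -/
theorem isEPiGroup_of_isDPiGroup {π : Set ℕ} (hD : Cfsg.IsDPiGroup π G) : Cfsg.IsEPiGroup π G := by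
  classical
  -- a maximal π-subgroup
  have hbot : Cfsg.IsPiSubgroup π (⊥ : Subgroup G) := by
    intro p hp hd
    rw [Subgroup.card_bot] at hd
    exact absurd (Nat.dvd_one.mp hd) hp.one_lt.ne'
  obtain ⟨M, _, hM⟩ := Finite.exists_le_maximal hbot
  refine ⟨M, hM.prop, ?_⟩
  intro p hp hpπ hdvd
  haveI : Fact p.Prime := ⟨hp⟩
  obtain P : Sylow p G := default
  have hP : Cfsg.IsPiSubgroup π (P : Subgroup G) := by
    intro r hr hd
    rw [Sylow.card_eq_multiplicity] at hd
    have := (Nat.prime_dvd_prime_iff_eq hr hp).mp (hr.dvd_of_dvd_pow hd)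
    rw [this]
    exact hpπ
  obtain ⟨MP, hPle, hMP⟩ := Finite.exists_le_maximal hP
  obtain ⟨g, hg⟩ := hD M MP hM hMP
  have hcard : Nat.card MP = Nat.card M := by
    rw [hg]
    exact Subgroup.card_map_of_injective (MulAut.conj g).injective
  have h1 : Nat.card (P : Subgroup G) ∣ Nat.card M := by
    rw [← hcard]
    exact Subgroup.card_dvd_of_le hPle
  -- p-part of |M| is full
  have h2 : Nat.card M * M.index = Nat.card G := Subgroup.card_mul_index M
  have h1' : p ^ (Nat.card G).factorization p ∣ Nat.card M := by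
    rw [← Sylow.card_eq_multiplicity P]
    exact h1
  have h3 : p ^ ((Nat.card G).factorization p + 1) ∣ Nat.card G := by
    rw [pow_succ]
    calc p ^ (Nat.card G).factorization p * p ∣ Nat.card M * M.index := Nat.mul_dvd_mul h1' hdvd
      _ = Nat.card G := h2
  have h4 := (Nat.Prime.pow_dvd_iff_le_factorization hp Nat.card_pos.ne').mp h3
  omega

end Cfsg.Agent.Lib.Helper7.HallUniv
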