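import Mathlib
import Cfsg.Prelude.Def_HallClasses
import Cfsg.Agent.Lib.Helper7.HallUniv1

set_option autoImplicit false

/-!
Subgroups of symmetric groups containing suitable cycles.
-/

namespace Cfsg.Agent.Lib.Helper7.HallUniv

open Equiv Equiv.Perm MulAction

/-- existence of a cycle of length `k` in `Perm (Fin n)`, `2 ≤ k ≤ n` -/
theorem exists_cycle (n k : ℕ) (hk : 2 ≤ k) (hkn : k ≤ n) :
    ∃ g : Perm (Fin n), g.IsCycle ∧ g.support.card = k ∧ orderOf g = k := by
  haveI : NeZero n := ⟨by omega⟩
  let i : Fin n := ⟨k - 1, by omega⟩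
  have h0 : i ≠ 0 := by
    intro h
    have := congrArg Fin.val h
    simp [i] at this
    omega
  have hc := Fin.isCycle_cycleRange h0
  have ht := Fin.cycleType_cycleRange h0
  have hcard : (Fin.cycleRange i).support.card = k := by
    rw [← sum_cycleType, ht]
    simp [i]
    omega
  exact ⟨Fin.cycleRange i, hc, hcard, by rw [hc.orderOf, hcard]⟩

/-- a subgroup containing a full cycle is transitive -/
theorem pretransitive_of_cycle {n : ℕ} (H : Subgroup (Perm (Fin n))) (c : Perm (Fin n))
    (hcH : c ∈ H) (hc : c.IsCycle) (hs : c.support.card = n) : IsPretransitive H (Fin n) := by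
  have hsupp : c.support = Finset.univ := by
    apply Finset.eq_univ_of_card
    rw [hs, Fintype.card_fin]
  constructor
  intro x y
  have hx : c x ≠ x := by
    rw [← mem_support, hsupp]; exact Finset.mem_univ x
  have hy : c y ≠ y := by
    rw [← mem_support, hsupp]; exact Finset.mem_univ y
  obtain ⟨i, hi⟩ := hc.exists_pow_eq hx hy
  exact ⟨⟨c, hcH⟩ ^ i, hi⟩

/-- conjugates of cycles -/
theorem conj_cycle {n : ℕ} (g c : Perm (Fin n)) (hc : c.IsCycle) :
    (g * c * g⁻¹).IsCycle ∧ (g * c * g⁻¹).support.card = c.support.card :=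
  ⟨hc.conj, card_support_conj⟩

/-- a transitive subgroup of prime degree `q` containing a cycle of length `p`, `1 < p < q`,
has even order -/
theorem two_dvd_card_of_cycles {q p : ℕ} (hq : q.Prime) (hp2 : 2 ≤ p) (hpq : p < q)
    (H : Subgroup (Perm (Fin q))) (c g : Perm (Fin q)) (hcH : c ∈ H) (hc : c.IsCycle)
    (hcs : c.support.card = q) (hgH : g ∈ H) (hg : g.IsCycle) (hgs : g.support.card = p) :
    2 ∣ Nat.card H := by
  classical
  haveI := pretransitive_of_cycle H c hcH hc hcs
  have hprim : IsPreprimitive H (Fin q) := by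
    apply IsPreprimitive.of_prime_card
    rw [Nat.card_eq_fintype_card, Fintype.card_fin]
    exact hq
  obtain ⟨n, hn⟩ : ∃ n, q = p + (n + 1) := ⟨q - p - 1, by omega⟩
  have hsc : Set.ncard ((g.support : Set (Fin q))ᶜ) = n + 1 := by
    apply Nat.add_left_cancel (n := Set.ncard (g.support : Set (Fin q)))
    rw [Set.ncard_add_ncard_compl, Set.ncard_coe_finset, hgs, Nat.card_eq_fintype_card,
      Fintype.card_fin, hn]
  have htr := isPretransitive_of_isCycle_mem hg hgH
  have h2 : IsMultiplyPretransitive H (Fin q) 2 := by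
    apply hprim.is_two_pretransitive hsc _ htr
    rw [Nat.card_eq_fintype_card, Fintype.card_fin]
    omega
  rw [is_two_pretransitive_iff] at h2
  haveI : NeZero q := ⟨hq.ne_zero⟩
  have h01 : (0 : Fin q) ≠ ⟨1, hq.one_lt⟩ := by
    intro h
    have := congrArg Fin.val h
    simp at this
  obtain ⟨h, hh0, hh1⟩ := h2 h01 (Ne.symm h01)
  -- h has even order
  have hodd : ∀ k : ℕ, (h ^ (2 * k + 1)) • (0 : Fin q) = ⟨1, hq.one_lt⟩ := by
    intro k
    induction k with
    | zero => simpa using hh0
    | succ k ih =>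
      have : 2 * (k + 1) + 1 = 2 + (2 * k + 1) := by ring
      rw [this, pow_add, mul_smul, ih, pow_two, mul_smul, hh1, hh0]
  have heven : 2 ∣ orderOf h := by
    by_contra hnd
    obtain ⟨k, hk⟩ : ∃ k, orderOf h = 2 * k + 1 := ⟨orderOf h / 2, by omega⟩
    have := hodd k
    rw [← hk, pow_orderOf_eq_one, one_smul] at this
    exact h01 this
  exact heven.trans (orderOf_dvd_natCard h)

end Cfsg.Agent.Lib.Helper7.HallUniv
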