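import Mathlib
import Cfsg.Prelude.Def_HallClasses
import Cfsg.Agent.Lib.Helper7.HallUniv1
import Cfsg.Agent.Lib.Helper7.HallUniv2

set_option autoImplicit false

/-!
Symmetric groups without Hall `π`-subgroups.
-/

namespace Cfsg.Agent.Lib.Helper7.HallUniv

open Equiv Equiv.Perm MulAction

/-- a Hall `π`-subgroup of `Perm (Fin n)` contains a cycle of length `p`, for a prime
`p ∈ π`, `p ≤ n` -/
theorem exists_cycle_mem_of_hall {π : Set ℕ} {n : ℕ} {H : Subgroup (Perm (Fin n))}
    (hH : Cfsg.IsPiHall π H) {p : ℕ} (hp : p.Prime) (hpπ : p ∈ π) (hpn : p ≤ n) :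
    ∃ g ∈ H, g.IsCycle ∧ g.support.card = p := by
  haveI : Fact p.Prime := ⟨hp⟩
  obtain ⟨c, hc, hcs, hco⟩ := exists_cycle n p hp.two_le hpn
  obtain ⟨g, hg⟩ := exists_conj_mem_of_hall hH hpπ c 1 (by rw [hco, pow_one])
  obtain ⟨h1, h2⟩ := conj_cycle g c hc
  exact ⟨_, hg, h1, by rw [h2, hcs]⟩

/-- case `2 ∉ π` -/
theorem not_isEPiGroup_of_two_notMem {π : Set ℕ} (h2 : 2 ∉ π) {p q : ℕ} (hp : p.Prime)
    (hq : q.Prime) (hpπ : p ∈ π) (hqπ : q ∈ π) (hpq : p < q) :
    ¬ Cfsg.IsEPiGroup π (Perm (Fin q)) := by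
  rintro ⟨H, hH⟩
  obtain ⟨c, hcH, hc, hcs⟩ := exists_cycle_mem_of_hall hH hq hqπ le_rfl
  obtain ⟨g, hgH, hg, hgs⟩ := exists_cycle_mem_of_hall hH hp hpπ hpq.le
  have := two_dvd_card_of_cycles hq hp.two_le hpq H c g hcH hc hcs hgH hg hgs
  exact h2 (hH.1 2 Nat.prime_two this)

/-- case `2 ∈ π` with a prime of `π` above a prime outside `π` -/
theorem not_isEPiGroup_of_lt {π : Set ℕ} (h2 : 2 ∈ π) {q r : ℕ} (hq : q.Prime) (hr : r.Prime)
    (hqπ : q ∈ π) (hrπ : r ∉ π) (hrq : r < q) : ¬ Cfsg.IsEPiGroup π (Perm (Fin q)) := by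
  classical
  rintro ⟨H, hH⟩
  obtain ⟨c, hcH, hc, hcs⟩ := exists_cycle_mem_of_hall hH hq hqπ le_rfl
  obtain ⟨g, hgH, hg, hgs⟩ := exists_cycle_mem_of_hall hH Nat.prime_two h2 hq.two_le
  haveI := pretransitive_of_cycle H c hcH hc hcs
  have hprim : IsPreprimitive H (Fin q) := by
    apply IsPreprimitive.of_prime_card
    rw [Nat.card_eq_fintype_card, Fintype.card_fin]
    exact hq
  have hswap : IsSwap g := card_support_eq_two.mp hgs
  have htop := subgroup_eq_top_of_isPreprimitive_of_isSwap_mem hprim g hswap hgH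
  have hcard : Nat.card H = q.factorial := by
    rw [htop, Subgroup.card_top, Nat.card_perm, Nat.card_eq_fintype_card, Fintype.card_fin]
  have : r ∣ Nat.card H := by
    rw [hcard]
    exact Nat.dvd_factorial hr.pos hrq.le
  exact hrπ (hH.1 r hr this)

/-- `Perm (Fin (r + 1))` has no subgroup of index `r` for `r ≥ 5` -/
theorem index_ne_of_five_le {r : ℕ} (hr5 : 5 ≤ r) (H : Subgroup (Perm (Fin (r + 1)))) :
    H.index ≠ r := by
  classical
  intro hidx
  by_cases hK : Nontrivial H.normalCore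
  · have h1 : alternatingGroup (Fin (r + 1)) ≤ H.normalCore :=
      alternatingGroup_le_of_normal (by rw [Nat.card_eq_fintype_card, Fintype.card_fin]; omega) hK
    have h2 : alternatingGroup (Fin (r + 1)) ≤ H := h1.trans (Subgroup.normalCore_le H)
    have h3 := Subgroup.index_dvd_of_le h2
    haveI : Nontrivial (Fin (r + 1)) := by
      rw [← Fintype.one_lt_card_iff_nontrivial, Fintype.card_fin]; omega
    rw [alternatingGroup.index_eq_two, hidx] at h3
    have := Nat.le_of_dvd (by norm_num) h3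
    omega
  · rw [Subgroup.nontrivial_iff_ne_bot, not_not] at hK
    have hker : (MulAction.toPermHom (Perm (Fin (r + 1))) (Perm (Fin (r + 1)) ⧸ H)).ker = ⊥ := by
      rw [← Subgroup.normalCore_eq_ker, hK]
    have hinj := (MonoidHom.ker_eq_bot_iff _).mp hker
    have hle := Nat.card_le_card_of_injective _ hinj
    rw [Nat.card_perm, Nat.card_perm, Nat.card_eq_fintype_card (α := Fin (r + 1)),
      Fintype.card_fin, ← Subgroup.index_eq_card, hidx] at hle
    have : r.factorial < (r + 1).factorial := by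
      rw [Nat.factorial_succ]
      have := Nat.factorial_pos r
      nlinarith
    omega

/-- case where the primes of `π` are exactly the primes below `r` -/
theorem not_isEPiGroup_of_initial {π : Set ℕ} {r : ℕ} (hr : r.Prime) (hr5 : 5 ≤ r)
    (hrπ : r ∉ π) (hlt : ∀ s : ℕ, s.Prime → s < r → s ∈ π) :
    ¬ Cfsg.IsEPiGroup π (Perm (Fin (r + 1))) := by
  classical
  rintro ⟨H, hH⟩
  apply index_ne_of_five_le hr5 H
  have hG : Nat.card (Perm (Fin (r + 1))) = (r + 1).factorial := by
    rw [Nat.card_perm, Nat.card_eq_fintype_card, Fintype.card_fin]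
  have hmul : Nat.card H * H.index = (r + 1).factorial := by
    rw [← hG]; exact Subgroup.card_mul_index H
  have hidx0 : H.index ≠ 0 := Subgroup.index_ne_zero_of_finite
  -- every prime divisor of the index is r
  have hs : ∀ {s : ℕ}, s.Prime → s ∣ H.index → s = r := by
    intro s hs hd
    have h1 : s ∉ π := fun h => hH.2 s hs h hd
    have h2 : s ∣ (r + 1).factorial := by
      rw [← hmul]; exact Dvd.dvd.mul_left hd _
    have h3 : s ≤ r + 1 := (Nat.Prime.dvd_factorial hs).mp h2
    have h4 : r ≤ s := by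
      by_contra hcon
      exact h1 (hlt s hs (by omega))
    rcases Nat.eq_or_lt_of_le h4 with h5 | h5
    · exact h5.symm
    · exfalso
      have h6 : s = r + 1 := by omega
      have hodd : ¬ 2 ∣ r := by
        intro h
        have := (Nat.prime_dvd_prime_iff_eq Nat.prime_two hr).mp h
        omega
      have h7 : 2 ∣ s := by rw [h6]; omega
      have := (Nat.prime_dvd_prime_iff_eq Nat.prime_two hs).mp h7
      omega
  have hpow := Nat.eq_prime_pow_of_unique_prime_dvd hidx0 hs
  set k := H.index.primeFactorsList.length with hk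
  -- r² does not divide (r+1)!
  have hsq : ¬ r ^ 2 ∣ (r + 1).factorial := by
    intro hd
    obtain ⟨m, hm⟩ : ∃ m, r = m + 1 := ⟨r - 1, by omega⟩
    have e : (r + 1).factorial = r * ((r + 1) * m.factorial) := by
      rw [Nat.factorial_succ, hm, Nat.factorial_succ]; ring
    rw [e, pow_two] at hd
    have h1 : r ∣ (r + 1) * m.factorial := Nat.dvd_of_mul_dvd_mul_left hr.pos hd
    rcases (Nat.Prime.dvd_mul hr).mp h1 with h2 | h2
    · have : r ∣ 1 := (Nat.dvd_add_right (dvd_refl r)).mp h2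
      exact hr.one_lt.ne' (Nat.dvd_one.mp this)
    · have := (Nat.Prime.dvd_factorial hr).mp h2
      omega
  -- k = 1
  have hk1 : k ≠ 0 := by
    intro h0
    rw [h0, pow_zero] at hpow
    have htop : H = ⊤ := Subgroup.index_eq_one.mp hpow
    have : r ∣ Nat.card H := by
      rw [htop, Subgroup.card_top, hG]
      exact Nat.dvd_factorial hr.pos (by omega)
    exact hrπ (hH.1 r hr this)
  have hk2 : k < 2 := by
    by_contra hcon
    push Not at hcon
    apply hsq
    have h1 : r ^ 2 ∣ r ^ k := pow_dvd_pow r hcon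
    have h2 : r ^ k ∣ (r + 1).factorial := by
      rw [← hpow, ← hmul]; exact Dvd.intro_left _ rfl
    exact h1.trans h2
  have : k = 1 := by omega
  rw [hpow, this, pow_one]

end Cfsg.Agent.Lib.Helper7.HallUniv
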