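import Mathlib

set_option autoImplicit false

/-!
The isometry group of the Hamming scheme `H(r, m)` on `ι → Fin m` is primitive for `m ≥ 3`
and not doubly transitive for `|ι| ≥ 2`.
-/

namespace Cfsg.Agent.Lib.Helper7.Ham

open MulAction
open scoped Pointwise

variable {ι : Type*} [Fintype ι] [DecidableEq ι] {m : ℕ}

/-- the isometry group of the Hamming metric -/
def isoGp (ι : Type*) [Fintype ι] (m : ℕ) : Subgroup (Equiv.Perm (ι → Fin m)) where
  carrier := {σ | ∀ x y, hammingDist (σ x) (σ y) = hammingDist x y}
  mul_mem' := by
    intro a b ha hb x y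
    rw [Equiv.Perm.mul_apply, Equiv.Perm.mul_apply, ha, hb]
  one_mem' := fun x y => rfl
  inv_mem' := by
    intro σ h x y
    have := h (σ⁻¹ x) (σ⁻¹ y)
    have e1 : σ (σ⁻¹ x) = x := Equiv.apply_symm_apply σ x
    have e2 : σ (σ⁻¹ y) = y := Equiv.apply_symm_apply σ y
    rw [e1, e2] at this
    exact this.symm

theorem mem_isoGp (σ : Equiv.Perm (ι → Fin m)) :
    σ ∈ isoGp ι m ↔ ∀ x y, hammingDist (σ x) (σ y) = hammingDist x y := Iff.rfl

/-- coordinatewise permutations -/
def cw (ρ : ι → Equiv.Perm (Fin m)) : Equiv.Perm (ι → Fin m) := Equiv.piCongrRight ρ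

@[simp] theorem cw_apply (ρ : ι → Equiv.Perm (Fin m)) (w : ι → Fin m) (i : ι) :
    cw ρ w i = ρ i (w i) := rfl

theorem cw_mem (ρ : ι → Equiv.Perm (Fin m)) : cw ρ ∈ isoGp ι m := by
  intro x y
  exact hammingDist_comp (fun i => (ρ i : Fin m → Fin m)) (fun i => (ρ i).injective)

/-- permutation of the coordinates -/
def tw (τ : Equiv.Perm ι) : Equiv.Perm (ι → Fin m) :=
  Equiv.arrowCongr τ.symm (Equiv.refl (Fin m))

@[simp] theorem tw_apply (τ : Equiv.Perm ι) (w : ι → Fin m) (i : ι) :
    tw τ w i = w (τ i) := by
  simp [tw, Equiv.arrowCongr]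

theorem tw_mem (τ : Equiv.Perm ι) : tw (m := m) τ ∈ isoGp ι m := by
  intro x y
  unfold hammingDist
  apply Finset.card_bij (fun i _ => τ i)
  · intro i hi
    simp only [Finset.mem_filter, Finset.mem_univ, true_and, tw_apply] at hi ⊢
    exact hi
  · intro i _ j _ hij
    exact τ.injective hij
  · intro j hj
    refine ⟨τ.symm j, ?_, by simp⟩
    simp only [Finset.mem_filter, Finset.mem_univ, true_and, tw_apply] at hj ⊢
    simpa using hj

instance : IsPretransitive (isoGp ι m) (ι → Fin m) := by
  constructor
  intro x y
  refine ⟨⟨cw (fun i => Equiv.swap (x i) (y i)), cw_mem _⟩, ?_⟩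
  funext i
  show cw (fun i => Equiv.swap (x i) (y i)) x i = y i
  simp

/-- block property in elementwise form -/
theorem block_mem {B : Set (ι → Fin m)} (hB : IsBlock (isoGp ι m) B)
    (g : Equiv.Perm (ι → Fin m)) (hg : g ∈ isoGp ι m) {a b : ι → Fin m} (ha : a ∈ B)
    (hga : g a ∈ B) (hb : b ∈ B) : g b ∈ B := by
  have hga' : (⟨g, hg⟩ : isoGp ι m) • a ∈ B := hga
  have h1 : (⟨g, hg⟩ : isoGp ι m) • B = B := hB.smul_eq_of_mem ha hga'
  rw [← h1]
  exact ⟨b, hb, rfl⟩

/-- the permutation which is `π` at coordinate `j` and the identity elsewhere -/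
def at' (j : ι) (π : Equiv.Perm (Fin m)) : ι → Equiv.Perm (Fin m) :=
  Function.update (fun _ => 1) j π

theorem cw_at'_update (j : ι) (π : Equiv.Perm (Fin m)) (a : ι → Fin m) (c : Fin m) :
    cw (at' j π) (Function.update a j c) = Function.update a j (π c) := by
  funext i
  by_cases hi : i = j
  · subst hi; simp [at']
  · simp [at', hi]

theorem cw_at'_self (j : ι) (π : Equiv.Perm (Fin m)) (a : ι → Fin m) (h : π (a j) = a j) :
    cw (at' j π) a = a := by
  have := cw_at'_update j π a (a j)
  rw [Function.update_eq_self, h, Function.update_eq_self] at this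
  exact this

theorem step_same {B : Set (ι → Fin m)} (hB : IsBlock (isoGp ι m) B) (a : ι → Fin m) (ha : a ∈ B)
    (j : ι) (c1 : Fin m) (hc1 : c1 ≠ a j) (hz : Function.update a j c1 ∈ B) (c' : Fin m) :
    Function.update a j c' ∈ B := by
  by_cases hc' : c' = a j
  · rw [hc', Function.update_eq_self]; exact ha
  · have hfix : cw (at' j (Equiv.swap c1 c')) a = a :=
      cw_at'_self j _ a (Equiv.swap_apply_of_ne_of_ne (Ne.symm hc1) (Ne.symm hc'))
    have := block_mem hB _ (cw_mem (at' j (Equiv.swap c1 c'))) ha (by rw [hfix]; exact ha) hz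
    rw [cw_at'_update, Equiv.swap_apply_left] at this
    exact this

theorem exists_third (hm : 3 ≤ m) (u v : Fin m) : ∃ c : Fin m, c ≠ u ∧ c ≠ v := by
  by_contra h
  push Not at h
  have h1 : (Finset.univ : Finset (Fin m)) ⊆ {u, v} := by
    intro c _
    by_cases hcu : c = u
    · simp [hcu]
    · simp [h c hcu]
  have h2 := Finset.card_le_card h1
  rw [Finset.card_univ, Fintype.card_fin] at h2
  have h3 : ({u, v} : Finset (Fin m)).card ≤ 2 := Finset.card_le_two
  omega

/-- a block containing two distinct points contains all points at distance one from each of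
its points -/
theorem block_update (hm : 3 ≤ m) {B : Set (ι → Fin m)} (hB : IsBlock (isoGp ι m) B)
    (a y : ι → Fin m) (ha : a ∈ B) (hy : y ∈ B) (hya : y ≠ a) (j : ι) (c' : Fin m) :
    Function.update a j c' ∈ B := by
  obtain ⟨i0, hi0⟩ := Function.ne_iff.mp hya
  obtain ⟨c, hca, hcy⟩ := exists_third hm (a i0) (y i0)
  -- (A): a point at distance one from `a` in the coordinate `i0`
  have hz : Function.update a i0 c ∈ B := by
    have hfix : cw (at' i0 (Equiv.swap (y i0) c)) a = a :=
      cw_at'_self i0 _ a (Equiv.swap_apply_of_ne_of_ne (Ne.symm hi0) (Ne.symm hca))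
    have hy2 := block_mem hB _ (cw_mem (at' i0 (Equiv.swap (y i0) c))) ha (by rw [hfix]; exact ha) hy
    have hy2' : cw (at' i0 (Equiv.swap (y i0) c)) y = Function.update y i0 c := by
      have := cw_at'_update i0 (Equiv.swap (y i0) c) y (y i0)
      rw [Function.update_eq_self, Equiv.swap_apply_left] at this
      exact this
    rw [hy2'] at hy2
    have hh : cw (fun i => Equiv.swap (y i) (a i)) y = a := by
      funext i; simp
    have h3 := block_mem hB _ (cw_mem (fun i => Equiv.swap (y i) (a i))) hy (by rw [hh]; exact ha) hy2
    have h4 : cw (fun i => Equiv.swap (y i) (a i)) (Function.update y i0 c) =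
        Function.update a i0 c := by
      funext i
      by_cases hi : i = i0
      · subst hi
        simp [Equiv.swap_apply_of_ne_of_ne hcy hca]
      · simp [hi]
    rw [h4] at h3
    exact h3
  by_cases hj : j = i0
  · subst hj
    exact step_same hB a ha j c hca hz c'
  · -- (B2): move the coordinate
    set τ : Equiv.Perm ι := Equiv.swap i0 j with hτ
    set ρ : ι → Equiv.Perm (Fin m) := fun i => Equiv.swap (a (τ i)) (a i) with hρ
    set g : Equiv.Perm (ι → Fin m) := cw ρ * tw τ with hg
    have hgmem : g ∈ isoGp ι m := (isoGp ι m).mul_mem (cw_mem ρ) (tw_mem τ)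
    have hga : g a = a := by
      funext i
      simp [hg, hρ, Equiv.Perm.mul_apply]
    have hgz : g (Function.update a i0 c) =
        Function.update a j (Equiv.swap (a i0) (a j) c) := by
      funext i
      simp only [hg, Equiv.Perm.mul_apply, cw_apply, tw_apply, hρ]
      by_cases hi : i = j
      · subst hi
        have : τ i = i0 := by rw [hτ, Equiv.swap_apply_right]
        rw [this]; simp
      · have hτi : τ i ≠ i0 := by
          intro h
          apply hi
          have : τ (τ i) = τ i0 := by rw [h]
          rw [hτ, Equiv.swap_apply_self, Equiv.swap_apply_left] at this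
          exact this
        rw [Function.update_of_ne hτi, Function.update_of_ne hi, Equiv.swap_apply_left]
    have h5 := block_mem hB g hgmem ha (by rw [hga]; exact ha) hz
    rw [hgz] at h5
    have hc1 : Equiv.swap (a i0) (a j) c ≠ a j := by
      intro h
      have h6 : Equiv.swap (a i0) (a j) c = Equiv.swap (a i0) (a j) (a i0) := by
        rw [h, Equiv.swap_apply_left]
      exact hca ((Equiv.swap (a i0) (a j)).injective h6)
    exact step_same hB a ha j _ hc1 h5 c'

theorem isPreprimitive (hm : 3 ≤ m) : IsPreprimitive (isoGp ι m) (ι → Fin m) where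
  isTrivialBlock_of_isBlock := by
    intro B hB
    by_cases hsub : B.Subsingleton
    · exact Or.inl hsub
    · right
      rw [Set.not_subsingleton_iff] at hsub
      obtain ⟨a, ha, y, hy, hay⟩ := hsub
      have hupd : ∀ w ∈ B, ∀ (j : ι) (c' : Fin m), Function.update w j c' ∈ B := by
        intro w hw j c'
        by_cases hwa : w = a
        · subst hwa
          exact block_update hm hB w y hw hy (Ne.symm hay) j c'
        · exact block_update hm hB w a hw ha (Ne.symm hwa) j c'
      apply Set.eq_univ_of_forall
      intro v
      have key : ∀ S : Finset ι, (fun i => if i ∈ S then v i else a i) ∈ B := by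
        intro S
        induction S using Finset.induction_on with
        | empty => simpa using ha
        | insert j S _ ih =>
          have := hupd _ ih j (v j)
          convert this using 1
          funext i
          by_cases hi : i = j
          · subst hi; simp
          · simp [hi]
      have := key Finset.univ
      simpa using this

/-- isometries fixing a point preserve the distance to it -/
theorem not_two_pretransitive (hι : 2 ≤ Fintype.card ι) (hm : 2 ≤ m) :
    ¬ IsMultiplyPretransitive (isoGp ι m) (ι → Fin m) 2 := by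
  intro h2
  rw [MulAction.is_two_pretransitive_iff] at h2
  obtain ⟨i, j, hij⟩ := Fintype.exists_pair_of_one_lt_card (α := ι) (by omega)
  let c0 : Fin m := ⟨0, by omega⟩
  let c1 : Fin m := ⟨1, by omega⟩
  have hc : c0 ≠ c1 := by
    intro h
    have := congrArg Fin.val h
    simp [c0, c1] at this
  set x : ι → Fin m := fun _ => c0 with hx
  set y : ι → Fin m := Function.update x i c1 with hy
  set y' : ι → Fin m := Function.update y j c1 with hy'
  have hxy : x ≠ y := by
    intro h
    have := congrFun h i
    simp [hx, hy] at this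
    exact hc this
  have hxy' : x ≠ y' := by
    intro h
    have := congrFun h j
    simp [hx, hy'] at this
    exact hc this
  obtain ⟨g, hgx, hgy⟩ := h2 (a := x) (b := y) (c := x) (d := y') hxy hxy'
  have h3 := g.2 x y
  have hgx' : (g : Equiv.Perm (ι → Fin m)) x = x := hgx
  have hgy' : (g : Equiv.Perm (ι → Fin m)) y = y' := hgy
  rw [hgx', hgy'] at h3
  have h4 : hammingDist x y = 1 := by
    unfold hammingDist
    rw [Finset.card_eq_one]
    refine ⟨i, ?_⟩
    ext k
    simp only [Finset.mem_filter, Finset.mem_univ, true_and, Finset.mem_singleton]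
    constructor
    · intro hk
      by_contra hki
      apply hk
      simp [hy, hx, Function.update_of_ne hki]
    · intro hk
      subst hk
      simp [hy, hx]
      exact hc
  have h5 : 2 ≤ hammingDist x y' := by
    unfold hammingDist
    have hsub : ({i, j} : Finset ι) ⊆ Finset.univ.filter (fun k => x k ≠ y' k) := by
      intro k hk
      simp only [Finset.mem_insert, Finset.mem_singleton] at hk
      simp only [Finset.mem_filter, Finset.mem_univ, true_and]
      rcases hk with hk | hk
      · subst hk
        simp [hy', hy, hx, Function.update_of_ne hij]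
        exact hc
      · subst hk
        simp [hy', hx]
        exact hc
    have := Finset.card_le_card hsub
    rw [Finset.card_pair hij] at this
    exact this
  omega

end Cfsg.Agent.Lib.Helper7.Ham
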