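import Mathlib
import Cfsg.Prelude.Def_KGroupFacts

set_option autoImplicit false

open scoped commutatorElement

namespace Cfsg.Agent.Lib.Helper7

/-- Heisenberg-type group on `ZMod n × ZMod m × ZMod n` (for `n ∣ m`), a central extension of
`ZMod m × ZMod n` by `ZMod n`. -/
@[ext] structure Heis (m n : ℕ) where
  c : ZMod n
  a : ZMod m
  b : ZMod n

namespace Heis

variable {m n : ℕ}

/-- reduction `ZMod m → ZMod n` -/
def φ (m n : ℕ) [h : Fact (n ∣ m)] : ZMod m →+* ZMod n := ZMod.castHom h.out (ZMod n)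

variable [Fact (n ∣ m)]

instance : Mul (Heis m n) := ⟨fun x y => ⟨x.c + y.c + φ m n x.a * y.b, x.a + y.a, x.b + y.b⟩⟩
instance : One (Heis m n) := ⟨⟨0, 0, 0⟩⟩
instance : Inv (Heis m n) := ⟨fun x => ⟨-x.c + φ m n x.a * x.b, -x.a, -x.b⟩⟩

@[simp] theorem mul_c (x y : Heis m n) : (x * y).c = x.c + y.c + φ m n x.a * y.b := rfl
@[simp] theorem mul_a (x y : Heis m n) : (x * y).a = x.a + y.a := rfl
@[simp] theorem mul_b (x y : Heis m n) : (x * y).b = x.b + y.b := rfl
@[simp] theorem one_c : (1 : Heis m n).c = 0 := rfl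
@[simp] theorem one_a : (1 : Heis m n).a = 0 := rfl
@[simp] theorem one_b : (1 : Heis m n).b = 0 := rfl
@[simp] theorem inv_c (x : Heis m n) : (x⁻¹).c = -x.c + φ m n x.a * x.b := rfl
@[simp] theorem inv_a (x : Heis m n) : (x⁻¹).a = -x.a := rfl
@[simp] theorem inv_b (x : Heis m n) : (x⁻¹).b = -x.b := rfl

instance : Group (Heis m n) :=
  Group.ofLeftAxioms
    (by
      intro x y z
      ext
      · simp only [mul_c, mul_a, mul_b, map_add]; ring
      · simp only [mul_a]; ring
      · simp only [mul_b]; ring)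
    (by
      intro x
      ext
      · simp
      · simp
      · simp)
    (by
      intro x
      ext
      · simp only [mul_c, inv_c, inv_a, map_neg, one_c]; ring
      · simp
      · simp)

instance [NeZero m] [NeZero n] : Finite (Heis m n) :=
  Finite.of_injective (fun x : Heis m n => (x.c, x.a, x.b)) (by
    intro x y h
    simp only [Prod.mk.injEq] at h
    exact Heis.ext h.1 h.2.1 h.2.2)

/-- the projection onto `ZMod m × ZMod n`. -/
def proj (m n : ℕ) [Fact (n ∣ m)] : Heis m n →* Multiplicative (ZMod m × ZMod n) where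
  toFun x := Multiplicative.ofAdd (x.a, x.b)
  map_one' := rfl
  map_mul' _ _ := rfl

theorem mem_ker_proj (x : Heis m n) : x ∈ (proj m n).ker ↔ x.a = 0 ∧ x.b = 0 := by
  rw [MonoidHom.mem_ker]
  change Multiplicative.ofAdd (x.a, x.b) = Multiplicative.ofAdd ((0 : ZMod m), (0 : ZMod n)) ↔ _
  rw [Multiplicative.ofAdd.injective.eq_iff, Prod.mk.injEq]

theorem proj_isStemExtension : Cfsg.IsStemExtension (proj m n) := by
  refine ⟨?_, ?_, ?_⟩
  · intro q
    exact ⟨⟨0, (Multiplicative.toAdd q).1, (Multiplicative.toAdd q).2⟩, rfl⟩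
  · intro x hx
    rw [mem_ker_proj] at hx
    rw [Subgroup.mem_center_iff]
    intro g
    ext
    · simp only [mul_c, hx.1, hx.2, map_zero]; ring
    · simp only [mul_a]; ring
    · simp only [mul_b]; ring
  · intro x hx
    rw [mem_ker_proj] at hx
    have hcomm : x = ⁅(⟨0, 1, 0⟩ : Heis m n), (⟨0, 0, x.c⟩ : Heis m n)⁆ := by
      have h1 : (⟨0, 1, 0⟩ : Heis m n) * ⟨0, 0, x.c⟩ = x * ((⟨0, 0, x.c⟩ : Heis m n) * ⟨0, 1, 0⟩) := by
        ext
        · simp [hx.1]
        · simp [hx.1]
        · simp [hx.2]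
      rw [commutatorElement_def, h1]
      group
    rw [hcomm]
    exact Subgroup.commutator_mem_commutator (Subgroup.mem_top _) (Subgroup.mem_top _)

/-- the kernel of the projection is `ZMod n`. -/
def kerEquiv (m n : ℕ) [Fact (n ∣ m)] : (proj m n).ker ≃* Multiplicative (ZMod n) where
  toFun x := Multiplicative.ofAdd x.1.c
  invFun z := ⟨⟨Multiplicative.toAdd z, 0, 0⟩, (mem_ker_proj _).mpr ⟨rfl, rfl⟩⟩
  left_inv x := by
    have hx := (mem_ker_proj x.1).mp x.2
    apply Subtype.ext
    ext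
    · rfl
    · exact hx.1.symm
    · exact hx.2.symm
  right_inv z := rfl
  map_mul' x y := by
    have hy := (mem_ker_proj y.1).mp y.2
    change Multiplicative.ofAdd (x.1 * y.1).c = Multiplicative.ofAdd x.1.c * Multiplicative.ofAdd y.1.c
    rw [mul_c, hy.2, mul_zero, add_zero]
    rfl

end Heis

end Cfsg.Agent.Lib.Helper7
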