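import Mathlib
import Cfsg.Agent.Lib.Helper5.HigDefs
import Cfsg.Agent.Lib.Helper6.HigQuot

/-!
# S3050 swarm, package T (core): Theorem II by induction on `|Q|`, with the class-two step (SB)
and the abelian case (AB) as hypotheses
-/

set_option autoImplicit false
set_option linter.unusedSectionVars false

universe u

namespace Cfsg.Agent.Lib.Helper5.Hig

namespace ThmII

section
variable {K : Type*} [Field K] [Fintype K] [CharP K 2]

/-- the statement of the class-two step for all configurations in a fixed universe -/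
def SBProp (K : Type*) [Field K] [Fintype K] : Prop :=
  ∀ {Γ : Type u} [Group Γ] [Finite Γ] {Q : Subgroup Γ} [Q.Normal] (c : Cfg K Γ Q), c.Ok →
    IsPGroup 2 Q → (∀ p ∈ Q, ∀ q ∈ Q, p * q * p⁻¹ * q⁻¹ ∈ omZ Q) → (∀ q ∈ Q, q ^ 2 ∈ omZ Q) →
    ∀ p ∈ Q, ∀ q ∈ Q, p * q = q * p

/-- the statement of the abelian case for all configurations in a fixed universe -/
def ABProp (K : Type*) [Field K] [Fintype K] : Prop :=
  ∀ {Γ : Type u} [Group Γ] [Finite Γ] {Q : Subgroup Γ} [Q.Normal] (c : Cfg K Γ Q), c.Ok →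
    IsPGroup 2 Q → (∀ p ∈ Q, ∀ q ∈ Q, p * q = q * p) → (∀ q ∈ Q, q ^ 4 = 1) →
    ∀ q ∈ Q, q ^ 2 = 1

theorem elemAb_aux (hSB : SBProp.{u} K) (hAB : ABProp.{u} K) (n : ℕ) :
    ∀ {Γ : Type u} [Group Γ] [Finite Γ] {Q : Subgroup Γ} [Q.Normal] (c : Cfg K Γ Q), c.Ok →
      IsPGroup 2 Q → Nat.card Q = n →
      (∀ p ∈ Q, ∀ q ∈ Q, p * q = q * p) ∧ ∀ q ∈ Q, q ^ 2 = 1 := by
  induction n using Nat.strong_induction_on with
  | _ n ih =>
    intro Γ _ _ Q _ c hc hQ hn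
    by_cases hne : Q = ⊥
    · subst hne
      constructor
      · intro p hp q hq
        rw [Subgroup.mem_bot] at hp hq
        rw [hp, hq]
      · intro q hq
        rw [Subgroup.mem_bot] at hq
        rw [hq, one_pow]
    · have hZne : omZ Q ≠ ⊥ := omZ_ne_bot hQ hne
      have hZle : omZ Q ≤ Q := omZ_le Q
      have hlt : Nat.card (Q.map (QuotientGroup.mk' (omZ Q))) < n := by
        rw [← hn]; exact card_map_lt (omZ Q) hZle hZne
      obtain ⟨hab', hsq'⟩ := ih _ hlt (c.quot (omZ Q) hZle) (Cfg.quot_ok c hc hQ (omZ Q) hZle)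
        (isPGroup_map hQ (omZ Q)) rfl
      have hmem : ∀ q ∈ Q, (QuotientGroup.mk' (omZ Q)) q ∈ Q.map (QuotientGroup.mk' (omZ Q)) :=
        fun q hq => Subgroup.mem_map_of_mem _ hq
      have hcomm : ∀ p ∈ Q, ∀ q ∈ Q, p * q * p⁻¹ * q⁻¹ ∈ omZ Q := by
        intro p hp q hq
        have h := hab' _ (hmem p hp) _ (hmem q hq)
        rw [← QuotientGroup.eq_one_iff]
        have h1 : ((p * q * p⁻¹ * q⁻¹ : Γ) : Γ ⧸ omZ Q) =
            (QuotientGroup.mk' (omZ Q)) p * (QuotientGroup.mk' (omZ Q)) q *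
            ((QuotientGroup.mk' (omZ Q)) p)⁻¹ * ((QuotientGroup.mk' (omZ Q)) q)⁻¹ := by
          simp
        rw [h1, h, mul_inv_cancel_right, mul_inv_cancel]
      have hsq : ∀ q ∈ Q, q ^ 2 ∈ omZ Q := by
        intro q hq
        have h := hsq' _ (hmem q hq)
        rw [← QuotientGroup.eq_one_iff]
        have h1 : ((q ^ 2 : Γ) : Γ ⧸ omZ Q) = ((QuotientGroup.mk' (omZ Q)) q) ^ 2 := by
          simp
        rw [h1, h]
      have hab := hSB c hc hQ hcomm hsq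
      have h4Q : ∀ q ∈ Q, q ^ 4 = 1 := by
        intro q hq
        have h := (mem_omZ.mp (hsq q hq)).2.1
        rw [← pow_mul] at h
        exact h
      exact ⟨hab, hAB c hc hQ hab h4Q⟩

/-- Theorem II from SB and AB -/
theorem elemAb_of (hSB : SBProp.{u} K) (hAB : ABProp.{u} K) {Γ : Type u} [Group Γ] [Finite Γ]
    {Q : Subgroup Γ} [Q.Normal] (c : Cfg K Γ Q) (hc : c.Ok) (hQ : IsPGroup 2 Q) :
    (∀ p ∈ Q, ∀ q ∈ Q, p * q = q * p) ∧ ∀ q ∈ Q, q ^ 2 = 1 :=
  elemAb_aux hSB hAB _ c hc hQ rfl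

end

end ThmII

end Cfsg.Agent.Lib.Helper5.Hig
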