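import Mathlib
import Cfsg.Agent.Lib.Helper5.HigDefs
import Cfsg.Agent.Lib.Helper6.HigClassTwo
import Cfsg.Agent.Lib.Helper6.HigAbelian
import Cfsg.Agent.Lib.Helper7.HigThmII0

/-!
# S3050 swarm, package T: Theorem II — `Q` is elementary abelian
-/

set_option autoImplicit false
set_option linter.unusedSectionVars false

namespace Cfsg.Agent.Lib.Helper5.Hig

section T
variable {K : Type*} [Field K] [Fintype K] [CharP K 2] {Γ : Type*} [Group Γ] [Finite Γ]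
  {Q : Subgroup Γ} [Q.Normal]

theorem elemAb (c : Cfg K Γ Q) (hc : c.Ok) (hQ : IsPGroup 2 Q) (h4 : 4 ≤ Fintype.card K) :
    (∀ p ∈ Q, ∀ q ∈ Q, p * q = q * p) ∧ ∀ q ∈ Q, q ^ 2 = 1 :=
  ThmII.elemAb_of (fun c hc hQ hcomm hsq => abelian_of_quot c hc hQ h4 hcomm hsq)
    (fun c hc hQ hab h4Q => sq_of_abelian c hc hQ h4 hab h4Q) c hc hQ

end T

end Cfsg.Agent.Lib.Helper5.Hig
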