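import Mathlib

set_option autoImplicit false

namespace Cfsg.Agent.Lib.Helper7.Hopf

/-- Kernel of an integer matrix map whose range has finite index: it is generated by
`card ι - n` elements. -/
theorem exists_ker_gens {ι : Type*} [Fintype ι] {n : ℕ} (lam : (ι → ℤ) →ₗ[ℤ] (Fin n → ℤ))
    (hfin : (LinearMap.range lam).toAddSubgroup.FiniteIndex) :
    ∃ (m : ℕ) (b : Fin m → (ι → ℤ)), m + n = Fintype.card ι ∧ (∀ i, lam (b i) = 0) ∧
      ∀ v, lam v = 0 → v ∈ Submodule.span ℤ (Set.range b) := by
  classical
  have h1 : Module.finrank ℤ (LinearMap.range lam) + Module.finrank ℤ (LinearMap.ker lam) =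
      Module.finrank ℤ (ι → ℤ) := by
    have := (LinearMap.ker lam).finrank_quotient_add_finrank
    rw [LinearEquiv.finrank_eq lam.quotKerEquivRange] at this
    exact this
  have h2 : Module.finrank ℤ (LinearMap.range lam) = Module.finrank ℤ (Fin n → ℤ) :=
    AddSubgroup.finrank_eq_of_finiteIndex (LinearMap.range lam).toAddSubgroup
  have h3 : Module.finrank ℤ (Fin n → ℤ) = n := by simp
  have h4 : Module.finrank ℤ (ι → ℤ) = Fintype.card ι := by simp
  let B := Module.finBasis ℤ (LinearMap.ker lam)
  refine ⟨Module.finrank ℤ (LinearMap.ker lam), fun i => (B i : ι → ℤ), by omega, ?_, ?_⟩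
  · intro i
    exact (B i).2
  · intro v hv
    have hv' : (⟨v, hv⟩ : LinearMap.ker lam) ∈ Submodule.span ℤ (Set.range B) := by
      rw [B.span_eq]
      trivial
    have := Submodule.apply_mem_span_image_of_mem_span (LinearMap.ker lam).subtype hv'
    rw [← Set.range_comp] at this
    exact this

end Cfsg.Agent.Lib.Helper7.Hopf
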