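import Mathlib

set_option autoImplicit false
set_option maxHeartbeats 800000
set_option linter.unusedVariables false
set_option linter.unusedSectionVars false

/-!
# Primitive groups of degree `2p` with Sylow normalizer of order `2p`, part 1

The arithmetic core: a third-moment argument for an integer-valued function.
-/

namespace Cfsg.Agent.H7I2p

open scoped ComplexConjugate

/-- the third-moment argument, over the integers -/
theorem moment_int {G : Type*} [Fintype G] [DecidableEq G] (one : G) (sing : G → Prop)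
    [DecidablePred sing] (f : G → ℤ) (p c n s : ℤ) (hp : 3 ≤ p)
    (hn : n = (Fintype.card G : ℤ)) (hs : s = ((Finset.univ.filter sing).card : ℤ))
    (hone : ¬ sing one) (hf1 : f one = p - 1)
    (hS : ∀ g, sing g → f g = -1)
    (hR0 : ∀ g, ¬ sing g → 0 ≤ f g)
    (hR1 : ∀ g, ¬ sing g → g ≠ one → f g < p - 1)
    (h1 : ∑ g, f g = 0) (h2 : ∑ g, f g ^ 2 = n) (h3 : ∑ g, f g ^ 3 = c * n)
    (hcount : 2 * p * s = (p - 1) * n) :
    n = p * (p - 1) * (p - 2) := by
  have hnpos : 0 < n := by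
    rw [hn]
    exact_mod_cast Fintype.card_pos_iff.2 ⟨one⟩
  have hsplit : ∀ F : G → ℤ, ∑ g, F g =
      ∑ g ∈ Finset.univ.filter sing, F g + ∑ g ∈ Finset.univ.filter (fun g => ¬ sing g), F g :=
    fun F => (Finset.sum_filter_add_sum_filter_not Finset.univ sing F).symm
  have hsing : ∀ (F : G → ℤ) (v : ℤ), (∀ g, sing g → F g = v) →
      ∑ g ∈ Finset.univ.filter sing, F g = s * v := by
    intro F v hF
    rw [Finset.sum_congr rfl (fun g hg => hF g (Finset.mem_filter.1 hg).2), Finset.sum_const, hs,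
      nsmul_eq_mul]
  -- `c ≥ 1`
  have hB : ∑ g, f g ^ 2 * (f g - 1) = (c - 1) * n := by
    have : ∀ g, f g ^ 2 * (f g - 1) = f g ^ 3 - f g ^ 2 := fun g => by ring
    rw [Finset.sum_congr rfl (fun g _ => this g), Finset.sum_sub_distrib, h3, h2]
    ring
  have hBns : 0 ≤ ∑ g ∈ Finset.univ.filter (fun g => ¬ sing g), f g ^ 2 * (f g - 1) := by
    apply Finset.sum_nonneg
    intro g hg
    have h0 := hR0 g (Finset.mem_filter.1 hg).2
    rcases h0.eq_or_lt with h | h
    · rw [← h]; norm_num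
    · exact mul_nonneg (sq_nonneg _) (by omega)
  have hc1 : 1 ≤ c := by
    have e1 := hsplit (fun g => f g ^ 2 * (f g - 1))
    rw [hB, hsing (fun g => f g ^ 2 * (f g - 1)) (-2) (fun g hg => by rw [hS g hg]; norm_num)] at e1
    by_contra hcon
    have hc0 : c - 1 ≤ -1 := by omega
    have h4 : (c - 1) * n ≤ -1 * n := mul_le_mul_of_nonneg_right hc0 hnpos.le
    have h5 : n ≤ 2 * s := by linarith
    have h6 : p * n ≤ p * (2 * s) := mul_le_mul_of_nonneg_left h5 (by omega)
    nlinarith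
  -- the main sum
  have hA : ∑ g, f g * (f g - 1) * (p - 1 - f g) = (p - c) * n := by
    have : ∀ g, f g * (f g - 1) * (p - 1 - f g) =
        - f g ^ 3 + p * f g ^ 2 - (p - 1) * f g := fun g => by ring
    rw [Finset.sum_congr rfl (fun g _ => this g), Finset.sum_sub_distrib, Finset.sum_add_distrib,
      Finset.sum_neg_distrib, ← Finset.mul_sum, ← Finset.mul_sum, h1, h2, h3]
    ring
  have hterm : ∀ g, ¬ sing g → 0 ≤ f g * (f g - 1) * (p - 1 - f g) := by
    intro g hg
    have h0 := hR0 g hg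
    have hle : f g ≤ p - 1 := by
      by_cases h : g = one
      · rw [h, hf1]
      · exact (hR1 g hg h).le
    have h01 : 0 ≤ f g * (f g - 1) := by
      rcases h0.eq_or_lt with h | h
      · rw [← h]; norm_num
      · exact mul_nonneg h0 (by omega)
    exact mul_nonneg h01 (by omega)
  have e2 := hsplit (fun g => f g * (f g - 1) * (p - 1 - f g))
  rw [hA, hsing (fun g => f g * (f g - 1) * (p - 1 - f g)) (2 * p)
    (fun g hg => by rw [hS g hg]; ring)] at e2
  have hTnn : 0 ≤ ∑ g ∈ Finset.univ.filter (fun g => ¬ sing g),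
      f g * (f g - 1) * (p - 1 - f g) :=
    Finset.sum_nonneg (fun g hg => hterm g (Finset.mem_filter.1 hg).2)
  have hcn : n ≤ c * n := le_mul_of_one_le_left hnpos.le hc1
  have hT0 : ∑ g ∈ Finset.univ.filter (fun g => ¬ sing g),
      f g * (f g - 1) * (p - 1 - f g) = 0 := by
    apply le_antisymm _ hTnn
    linarith
  have hzero := (Finset.sum_eq_zero_iff_of_nonneg
    (fun g hg => hterm g (Finset.mem_filter.1 hg).2)).1 hT0
  have hff : ∀ g, ¬ sing g → g ≠ one → f g * (f g - 1) = 0 := by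
    intro g hg hne
    have h4 := hzero g (Finset.mem_filter.2 ⟨Finset.mem_univ g, hg⟩)
    have h5 : p - 1 - f g ≠ 0 := by
      have := hR1 g hg hne
      omega
    exact (mul_eq_zero.1 h4).resolve_right h5
  -- the second moment
  have hD : ∑ g, f g * (f g - 1) = n := by
    have : ∀ g, f g * (f g - 1) = f g ^ 2 - f g := fun g => by ring
    rw [Finset.sum_congr rfl (fun g _ => this g), Finset.sum_sub_distrib, h1, h2]
    ring
  have e3 := hsplit (fun g => f g * (f g - 1))
  rw [hD, hsing (fun g => f g * (f g - 1)) 2 (fun g hg => by rw [hS g hg]; norm_num)] at e3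
  have hns : ∑ g ∈ Finset.univ.filter (fun g => ¬ sing g), f g * (f g - 1) =
      (p - 1) * (p - 2) := by
    rw [Finset.sum_eq_single_of_mem one (Finset.mem_filter.2 ⟨Finset.mem_univ one, hone⟩)
      (fun g hg hne => hff g (Finset.mem_filter.1 hg).2 hne), hf1]
    ring
  rw [hns] at e3
  have h5 : p * n = p * (s * 2 + (p - 1) * (p - 2)) := by rw [← e3]
  have h6 : n = p * (p - 1) * (p - 2) := by linarith
  exact h6

/-- a rational algebraic integer which is nonnegative is a natural number -/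
theorem nat_of_isIntegral_div {z : ℂ} (hz : IsIntegral ℤ z) (a b : ℕ)
    (h : z = (a : ℂ) / (b : ℂ)) : ∃ k : ℕ, z = k := by
  have h1 : z = algebraMap ℚ ℂ ((a : ℚ) / (b : ℚ)) := by rw [h]; simp
  rw [h1, isIntegral_algebraMap_iff (algebraMap ℚ ℂ).injective] at hz
  obtain ⟨m, hm⟩ := IsIntegrallyClosed.isIntegral_iff.1 hz
  have hm' : ((m : ℤ) : ℚ) = (a : ℚ) / (b : ℚ) := hm
  have hm0 : 0 ≤ m := by
    have : (0 : ℚ) ≤ (m : ℚ) := by rw [hm']; positivity
    exact_mod_cast this
  refine ⟨m.toNat, ?_⟩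
  have h2 : ((m.toNat : ℕ) : ℤ) = m := Int.toNat_of_nonneg hm0
  have h3 : (a : ℂ) / (b : ℂ) = ((m : ℤ) : ℂ) := by
    have : ((((a : ℚ) / (b : ℚ) : ℚ)) : ℂ) = (((m : ℤ) : ℚ) : ℂ) := by rw [hm']
    push_cast at this
    exact this
  rw [h, h3]
  have h4 : ((m : ℤ) : ℂ) = (((m.toNat : ℕ) : ℤ) : ℂ) := by rw [h2]
  rw [h4, Int.cast_natCast]

/-- the third-moment argument for a complex function with integer values -/
theorem moment_complex {G : Type*} [Group G] [Fintype G] (ψ : G → ℂ) (p c : ℕ) (hp : 3 ≤ p)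
    (sing : G → Prop) (hone : ¬ sing 1) (hψ1 : ψ 1 = (p : ℂ) - 1)
    (hS : ∀ g, sing g → ψ g = -1)
    (hR : ∀ g, ¬ sing g → ∃ k : ℕ, ψ g = k ∧ (g ≠ 1 → k + 1 < p))
    (h1 : ∑ g, ψ g = 0) (h2 : ∑ g, ψ g * conj (ψ g) = (Nat.card G : ℂ))
    (h3 : ∑ g, ψ g * ψ g * conj (ψ g) = (c : ℂ) * (Nat.card G : ℂ))
    (hcount : 2 * p * Nat.card {g : G // sing g} + Nat.card G = p * Nat.card G) :
    Nat.card G = p * (p - 1) * (p - 2) := by
  classical
  have hval : ∀ g, ∃ k : ℤ, ψ g = (k : ℂ) ∧ (sing g → k = -1) ∧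
      (¬ sing g → 0 ≤ k ∧ (g ≠ 1 → k < p - 1)) := by
    intro g
    by_cases hg : sing g
    · exact ⟨-1, by rw [hS g hg]; simp, fun _ => rfl, fun h => absurd hg h⟩
    · obtain ⟨k, hk, hk2⟩ := hR g hg
      refine ⟨k, by rw [hk]; simp, fun h => absurd h hg, fun _ => ⟨by positivity, fun hne => ?_⟩⟩
      have := hk2 hne
      omega
  choose f hf hfS hfR using hval
  have hconj : ∀ g, conj (ψ g) = ψ g := fun g => by rw [hf g, map_intCast]
  have e1 : ∑ g, f g = 0 := by
    have : ((∑ g, f g : ℤ) : ℂ) = 0 := by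
      rw [Int.cast_sum, ← h1]
      exact Finset.sum_congr rfl (fun g _ => (hf g).symm)
    exact_mod_cast this
  have e2 : ∑ g, f g ^ 2 = (Fintype.card G : ℤ) := by
    have : ((∑ g, f g ^ 2 : ℤ) : ℂ) = ((Fintype.card G : ℤ) : ℂ) := by
      rw [Int.cast_sum]
      push_cast
      rw [← Nat.card_eq_fintype_card, ← h2]
      refine Finset.sum_congr rfl (fun g _ => ?_)
      rw [hconj g, hf g]
      ring
    exact_mod_cast this
  have e3 : ∑ g, f g ^ 3 = (c : ℤ) * (Fintype.card G : ℤ) := by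
    have : ((∑ g, f g ^ 3 : ℤ) : ℂ) = (((c : ℤ) * (Fintype.card G : ℤ) : ℤ) : ℂ) := by
      rw [Int.cast_sum]
      push_cast
      rw [← Nat.card_eq_fintype_card, ← h3]
      refine Finset.sum_congr rfl (fun g _ => ?_)
      rw [hconj g, hf g]
      ring
    exact_mod_cast this
  have hf1 : f 1 = (p : ℤ) - 1 := by
    have : ((f 1 : ℤ) : ℂ) = (((p : ℤ) - 1 : ℤ) : ℂ) := by
      rw [← hf 1, hψ1]
      push_cast
      ring
    exact_mod_cast this
  have hcardS : Nat.card {g : G // sing g} = (Finset.univ.filter sing).card := by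
    rw [Nat.card_eq_fintype_card, Fintype.card_subtype]
  have hcount' : 2 * (p : ℤ) * ((Finset.univ.filter sing).card : ℤ) =
      ((p : ℤ) - 1) * (Fintype.card G : ℤ) := by
    rw [hcardS, Nat.card_eq_fintype_card] at hcount
    have : (2 * (p : ℤ) * ((Finset.univ.filter sing).card : ℤ)) + (Fintype.card G : ℤ) =
        (p : ℤ) * (Fintype.card G : ℤ) := by exact_mod_cast hcount
    linarith
  have hmain := moment_int (1 : G) sing f (p : ℤ) (c : ℤ) (Fintype.card G : ℤ)
    ((Finset.univ.filter sing).card : ℤ) (by exact_mod_cast hp) rfl rfl hone hf1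
    (fun g hg => hfS g hg) (fun g hg => (hfR g hg).1) (fun g hg hne => (hfR g hg).2 hne)
    e1 e2 e3 hcount'
  have hp1 : 1 ≤ p := by omega
  have hp2 : 2 ≤ p := by omega
  rw [Nat.card_eq_fintype_card]
  have : ((Fintype.card G : ℕ) : ℤ) = ((p * (p - 1) * (p - 2) : ℕ) : ℤ) := by
    rw [hmain]
    push_cast [Nat.cast_sub hp1, Nat.cast_sub hp2]
    ring
  exact_mod_cast this

end Cfsg.Agent.H7I2p
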