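import Mathlib
import Cfsg.Agent.Lib.Helper7.Brn22
import Cfsg.Agent.Lib.Helper7.I2p1

set_option autoImplicit false
set_option maxHeartbeats 1600000
set_option linter.unusedVariables false
set_option linter.unusedSectionVars false
set_option linter.style.haveILetI false

/-!
# Primitive groups of degree `2p` with Sylow normalizer of order `2p`, part 2

Character values for a block of defect one with inertial index `2` containing a character of
degree `p - 1`.
-/

namespace Cfsg.Agent.H7I2p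

open Subgroup Cfsg Cfsg.Agent.Lib.Helper1 Cfsg.Agent.Lib.Helper4 Cfsg.Agent.Lib.Helper8
open Cfsg.Agent.Lib.Helper7 Cfsg.Agent.H7Brauer
open scoped ComplexConjugate

universe u

variable {G : Type u} [Group G] [Fintype G] [Fintype (IrrCharacter G)] {p : ℕ}
  [hp : Fact p.Prime] {x : G} {M : Ideal AlgInt} {C : Subgroup G} [Fintype C]
  {b : Set (IrrCharacter C)} {B : Set (IrrCharacter G)}

/-- the irreducible characters of `C = ⟨x⟩` sum to zero off the identity -/
theorem sum_irr_C (ctx : D1Ctx p M x C b B (trivIrr C))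
    (hself : ∀ t : G, t * x = x * t → t ∈ zpowers x) [Fintype (IrrCharacter C)] {c : C}
    (hc : c ≠ 1) : ∑ ξ : IrrCharacter C, (ξ : C → ℂ) c = 0 := by
  have h := col_one (G := C) c
  rw [if_neg hc] at h
  have hlin : ∀ ξ : IrrCharacter C, (charDegree (ξ : C → ℂ) : ℂ) = 1 := by
    intro ξ
    have e1 := br_principal_linear ctx (Cfsg.Agent.H7W2p.mem_b ctx hself ξ)
    rw [(irr_apply_one_eq_charDegree ξ.2).1] at e1
    exact e1
  simpa [hlin] using h

/-- the sum over the nontrivial characters of `C` -/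
theorem sum_Bn_apply (ctx : D1Ctx p M x C b B (trivIrr C))
    (hself : ∀ t : G, t * x = x * t → t ∈ zpowers x) {c : C} (hc : c ≠ 1) :
    ∑ ξ : ctx.Bn, (ξ.1 : C → ℂ) c = -1 := by
  classical
  have : Fintype (IrrCharacter C) := Fintype.ofFinite _
  have h3 := ctx.sum_b_eq (fun ξ => (ξ : C → ℂ) c)
  rw [Finset.sum_congr rfl (fun ξ _ => if_pos (Cfsg.Agent.H7W2p.mem_b ctx hself ξ)),
    sum_irr_C ctx hself hc, trivIrr_apply] at h3
  linear_combination -h3

/-- the values of the non-exceptional characters on `⟨x⟩ ∖ 1` -/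
theorem nonexc_apply {ctx : D1Ctx p M x C b B (trivIrr C)} {ε : ℤ} {W : IrrCharacter G → ℤ}
    {a : ctx.Q → IrrCharacter G} (S : ctx.Str ε W a)
    (hself : ∀ t : G, t * x = x * t → t ∈ zpowers x) {χ : IrrCharacter G}
    (hχ : χ ∉ Set.range a) {c : C} (hc : c ≠ 1) : (χ : G → ℂ) c = -(W χ : ℂ) := by
  classical
  have : Fintype (IrrCharacter C) := Fintype.ofFinite _
  have h1 := d1_restrict_expansion C χ c
  have h2 := ctx.sum_b_eq (fun ξ => (d1m C χ ξ : ℂ) * (ξ : C → ℂ) c)
  rw [Finset.sum_congr rfl (fun ξ _ => if_pos (Cfsg.Agent.H7W2p.mem_b ctx hself ξ))] at h2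
  have h4 : ∀ ξ : ctx.Bn, (d1m C χ ξ.1 : ℂ) = (d1m C χ (trivIrr C) : ℂ) + (W χ : ℂ) := by
    intro ξ
    have := Cfsg.Agent.H7W2p.mult_nonexc S hχ ξ
    exact_mod_cast this
  rw [h1, h2, Finset.sum_congr rfl (fun ξ _ => by rw [h4 ξ]), ← Finset.mul_sum,
    sum_Bn_apply ctx hself hc, trivIrr_apply]
  ring


/-- the pattern forced by a character of degree `p - 1` when the inertial index is `2` -/
structure Pattern {ctx : D1Ctx p M x C b B (trivIrr C)} {ε : ℤ} {W : IrrCharacter G → ℤ}
    {a : ctx.Q → IrrCharacter G} (S : ctx.Str ε W a) (ψ : IrrCharacter G) : Prop where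
  hr : ψ ∉ Set.range a
  hW : W ψ = 1
  hε : ε = -1
  hdeg : ∀ q, charDegree (a q : G → ℂ) = p - 2
  hSA : SA W = {ψ}
  hSB : SB W = ∅
  ht2 : 2 ≤ Fintype.card ctx.Q
  hdegψ : charDegree (ψ : G → ℂ) = p - 1
  hp5 : 5 ≤ p

theorem pattern_of_degree {ctx : D1Ctx p M x C b B (trivIrr C)} {ε : ℤ}
    {W : IrrCharacter G → ℤ} {a : ctx.Q → IrrCharacter G} (S : ctx.Str ε W a)
    (hself : ∀ t : G, t * x = x * t → t ∈ zpowers x) (hp5 : 5 ≤ p) (he : ctx.e = 2)
    (ψ : IrrCharacter G) (hdeg : charDegree (ψ : G → ℂ) = p - 1) : Pattern S ψ := by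
  classical
  have P := pat_of_str S hself
  have hx := ctx.hx
  have ht2 : 2 ≤ Fintype.card ctx.Q := by
    have := ctx.card_Q_mul_e
    rw [he] at this
    omega
  have htriv := P.triv_notMem hx ht2
  have hWt := P.W_triv hx ht2
  have hp5' : (5 : ℤ) ≤ p := by exact_mod_cast hp5
  have hdeg' : (charDegree (ψ : G → ℂ) : ℤ) = (p : ℤ) - 1 := by
    rw [hdeg, Nat.cast_sub (by omega)]
    simp
  -- `ψ` is not exceptional
  have hr : ψ ∉ Set.range a := by
    rintro ⟨q, rfl⟩
    have h1 := Cfsg.Agent.H7W2p.degree_exc S hself q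
    rw [hdeg', he] at h1
    set m : ℕ := d1m C (a q) (trivIrr C) with hm
    rcases Nat.lt_or_ge m 2 with h2 | h2
    · rcases S.hε with h | h <;> rw [h] at h1 <;> interval_cases m <;> push_cast at h1 <;> omega
    · have h3 : (2 : ℤ) ≤ m := by exact_mod_cast h2
      rcases S.hε with h | h <;> rw [h] at h1 <;> push_cast at h1 <;> nlinarith
  -- its sign
  have hW : W ψ = 1 := by
    have h1 := Cfsg.Agent.H7W2p.degree_nonexc S hself hr
    rw [hdeg'] at h1
    set m : ℕ := d1m C ψ (trivIrr C) with hm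
    rcases P.hW3 ψ with h | h | h
    · exfalso
      rw [h] at h1
      rcases Nat.eq_zero_or_pos m with h2 | h2
      · rw [h2] at h1
        push_cast at h1
        omega
      · have h3 : (1 : ℤ) ≤ m := by exact_mod_cast h2
        nlinarith
    · exact h
    · exfalso
      rw [h] at h1
      rcases Nat.lt_or_ge m 2 with h2 | h2
      · interval_cases m <;> push_cast at h1 <;> omega
      · have h3 : (2 : ℤ) ≤ m := by exact_mod_cast h2
        nlinarith
  have hψA : ψ ∈ SA W := mem_SA.2 hW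
  have hAB := P.card_SA_add_card_SB htriv hWt
  rw [he] at hAB
  have hApos : 0 < (SA W).card := Finset.card_pos.2 ⟨ψ, hψA⟩
  have hSA : SA W = {ψ} := by
    obtain ⟨χ, hχ⟩ := Finset.card_eq_one.1 (by omega : (SA W).card = 1)
    rw [hχ] at hψA ⊢
    rw [Finset.mem_singleton.1 hψA]
  have hSB : SB W = ∅ := Finset.card_eq_zero.1 (by omega)
  -- the relation at the identity
  have hrel : ∀ q, ((p : ℤ) - 2) + ε * (charDegree (a q : G → ℂ) : ℤ) = 0 := by
    intro q
    have h1 := P.rel_one q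
    rw [P.sum_split htriv hWt, hSA, hSB] at h1
    simp only [Finset.sum_singleton, Finset.sum_empty] at h1
    have h5 : ∑ q' : ctx.Q, W (a q') * (charDegree (a q' : G → ℂ) : ℤ) = 0 := by
      apply Finset.sum_eq_zero
      intro q' _
      rw [P.hWa q', zero_mul]
    have h6 : ∑ χ ∈ SD W a, W χ * (charDegree (χ : G → ℂ) : ℤ) = 0 := by
      apply Finset.sum_eq_zero
      intro χ hχ
      rw [(mem_SD.1 hχ).1, zero_mul]
    rw [h5, h6, hWt, hW, hdeg', charDegree_trivIrr'] at h1
    push_cast at h1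
    linarith
  obtain ⟨q₀⟩ : Nonempty ctx.Q := Fintype.card_pos_iff.1 (by omega)
  have hpos : ∀ q, (0 : ℤ) < (charDegree (a q : G → ℂ) : ℤ) := fun q => by
    exact_mod_cast (irr_apply_one_eq_charDegree (a q).2).2
  have hε : ε = -1 := by
    rcases S.hε with h | h
    · exfalso
      have := hrel q₀
      have := hpos q₀
      rw [h] at *
      linarith
    · exact h
  refine ⟨hr, hW, hε, ?_, hSA, hSB, ht2, hdeg, hp5⟩
  intro q
  have h1 := hrel q
  rw [hε] at h1
  have h2 : (charDegree (a q : G → ℂ) : ℤ) = ((p - 2 : ℕ) : ℤ) := by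
    rw [Nat.cast_sub (by omega)]
    push_cast
    linarith
  exact_mod_cast h2


section values

variable {ctx : D1Ctx p M x C b B (trivIrr C)} {ε : ℤ} {W : IrrCharacter G → ℤ}
  {a : ctx.Q → IrrCharacter G} {S : ctx.Str ε W a} {ψ : IrrCharacter G}

theorem z_ne_one (ctx : D1Ctx p M x C b B (trivIrr C)) : ctx.z ≠ 1 := by
  intro h
  have h1 : x = 1 := congrArg Subtype.val h
  have h2 := ctx.hx
  rw [h1, orderOf_one] at h2
  exact hp.out.one_lt.ne h2

/-- the exceptional characters on `p`-regular elements -/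
theorem Pattern.exc_apply (H : Pattern S ψ) (hself : ∀ t : G, t * x = x * t → t ∈ zpowers x)
    {g : G} (hg : ¬ p ∣ orderOf g) (q : ctx.Q) :
    (a q : G → ℂ) g = (ψ : G → ℂ) g - 1 := by
  classical
  have P := pat_of_str S hself
  have htriv := P.triv_notMem ctx.hx H.ht2
  have hWt := P.W_triv ctx.hx H.ht2
  have hrel := P.rel g hg q
  rw [P.sum_split htriv hWt (fun χ => (W χ : ℂ) * (χ : G → ℂ) g), H.hSA, H.hSB] at hrel
  simp only [Finset.sum_singleton, Finset.sum_empty] at hrel
  have hsumQ : ∑ q : ctx.Q, (W (a q) : ℂ) * (a q : G → ℂ) g = 0 :=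
    Finset.sum_eq_zero (fun q _ => by rw [P.hWa q]; simp)
  have hsumD : ∑ χ ∈ SD W a, (W χ : ℂ) * (χ : G → ℂ) g = 0 :=
    Finset.sum_eq_zero (fun χ hχ => by rw [(mem_SD.1 hχ).1]; simp)
  rw [hsumQ, hsumD, hWt, H.hW, H.hε] at hrel
  simp only [trivIrr_apply] at hrel
  push_cast at hrel
  linear_combination -hrel

theorem Pattern.psi_apply (H : Pattern S ψ) (hself : ∀ t : G, t * x = x * t → t ∈ zpowers x)
    {c : C} (hc : c ≠ 1) : (ψ : G → ℂ) c = -1 := by
  have := nonexc_apply S hself H.hr hc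
  rw [H.hW] at this
  simpa using this

theorem Pattern.SD_apply (H : Pattern S ψ) (hself : ∀ t : G, t * x = x * t → t ∈ zpowers x)
    {χ : IrrCharacter G} (hχ : χ ∈ SD W a) {c : C} (hc : c ≠ 1) : (χ : G → ℂ) c = 0 := by
  have := nonexc_apply S hself (mem_SD.1 hχ).2 hc
  rw [(mem_SD.1 hχ).1] at this
  simpa using this

theorem card_centralizer_eq (hx : orderOf x = p)
    (hself : ∀ t : G, t * x = x * t → t ∈ zpowers x) :
    Nat.card (centralizer ({x} : Set G)) = p := by
  have : centralizer ({x} : Set G) = zpowers x := by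
    apply le_antisymm
    · intro g hg
      rw [mem_centralizer_singleton_iff] at hg
      exact hself g hg
    · rw [zpowers_le]
      exact mem_centralizer_singleton_iff.2 rfl
  rw [this, Nat.card_zpowers, hx]

/-- the squares of the exceptional characters at `x` -/
theorem Pattern.sum_exc_sq (H : Pattern S ψ) (hself : ∀ t : G, t * x = x * t → t ∈ zpowers x) :
    ∑ q : ctx.Q, (a q : G → ℂ) x * conj ((a q : G → ℂ) x) = (p : ℂ) - 2 := by
  classical
  have P := pat_of_str S hself
  have htriv := P.triv_notMem ctx.hx H.ht2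
  have hWt := P.W_triv ctx.hx H.ht2
  have hcol := column_orthogonality (G := G) x x
  have hind : classIndicator x x = 1 := by
    unfold classIndicator
    rw [if_pos (IsConj.refl x)]
  rw [card_centralizer_eq ctx.hx hself, hind, mul_one,
    P.sum_split htriv hWt (fun χ => (χ : G → ℂ) x * conj ((χ : G → ℂ) x)), H.hSA, H.hSB] at hcol
  simp only [Finset.sum_singleton, Finset.sum_empty, trivIrr_apply] at hcol
  have hψx : (ψ : G → ℂ) x = -1 := H.psi_apply hself (z_ne_one ctx)
  have hD : ∑ χ ∈ SD W a, (χ : G → ℂ) x * conj ((χ : G → ℂ) x) = 0 :=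
    Finset.sum_eq_zero (fun χ hχ => by
      have h0 : (χ : G → ℂ) x = 0 := H.SD_apply hself hχ (z_ne_one ctx)
      rw [h0]
      simp)
  rw [hψx, hD] at hcol
  simp only [map_one, map_neg, mul_one, mul_neg, neg_neg, add_zero] at hcol
  linear_combination hcol

/-- the class multiplication constant -/
theorem Pattern.conv_eq (H : Pattern S ψ) (hself : ∀ t : G, t * x = x * t → t ∈ zpowers x)
    {g : G} (hg : ¬ p ∣ orderOf g) :
    conv (classIndicator x) (classIndicator x⁻¹) g * ((p : ℂ) * ((p : ℂ) - 1)) =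
      (Nat.card G : ℂ) * conj ((ψ : G → ℂ) g) := by
  classical
  have P := pat_of_str S hself
  have htriv := P.triv_notMem ctx.hx H.ht2
  have hWt := P.W_triv ctx.hx H.ht2
  have hp5 := H.hp5
  have h0 := RK.conv_classIndicator_eq_sum x x g
  set idx : ℂ := ((centralizer ({x} : Set G)).index : ℂ) with hidx
  have hidxp : idx * p = Nat.card G := by
    have := (centralizer ({x} : Set G)).index_mul_card
    rw [card_centralizer_eq ctx.hx hself] at this
    rw [hidx]
    exact_mod_cast this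
  have hp0 : (p : ℂ) ≠ 0 := Nat.cast_ne_zero.2 hp.out.ne_zero
  have hp1 : (p : ℂ) - 1 ≠ 0 := by
    have : ((p - 1 : ℕ) : ℂ) ≠ 0 := Nat.cast_ne_zero.2 (by omega)
    rwa [Nat.cast_sub (by omega), Nat.cast_one] at this
  have hp2 : (p : ℂ) - 2 ≠ 0 := by
    have : ((p - 2 : ℕ) : ℂ) ≠ 0 := Nat.cast_ne_zero.2 (by omega)
    rwa [Nat.cast_sub (by omega), Nat.cast_ofNat] at this
  have hG0 : (Nat.card G : ℂ) ≠ 0 := Nat.cast_ne_zero.2 Nat.card_pos.ne'
  have hidx0 : idx ≠ 0 := by
    intro h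
    rw [h, zero_mul] at hidxp
    exact hG0 hidxp.symm
  have hψx : (ψ : G → ℂ) x = -1 := H.psi_apply hself (z_ne_one ctx)
  rw [P.sum_split htriv hWt, H.hSA, H.hSB] at h0
  simp only [Finset.sum_singleton, Finset.sum_empty] at h0
  have t1 : centralChar (trivIrr G : G → ℂ) x * (idx * conj ((trivIrr G : G → ℂ) x)) *
      conj ((trivIrr G : G → ℂ) g) = idx * idx := by
    unfold centralChar
    simp only [trivIrr_apply, map_one, mul_one, div_one]
    rw [hidx]
  have t2 : centralChar (ψ : G → ℂ) x * (idx * conj ((ψ : G → ℂ) x)) * conj ((ψ : G → ℂ) g) =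
      idx * idx * conj ((ψ : G → ℂ) g) / ((p : ℂ) - 1) := by
    unfold centralChar
    rw [hψx, (irr_apply_one_eq_charDegree ψ.2).1, H.hdegψ, Nat.cast_sub (by omega), Nat.cast_one,
      map_neg, map_one, ← hidx]
    field_simp
  have t3 : ∀ q : ctx.Q, centralChar (a q : G → ℂ) x * (idx * conj ((a q : G → ℂ) x)) *
      conj ((a q : G → ℂ) g) = idx * idx / ((p : ℂ) - 2) * (conj ((ψ : G → ℂ) g) - 1) *
        ((a q : G → ℂ) x * conj ((a q : G → ℂ) x)) := by
    intro q
    unfold centralChar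
    rw [H.exc_apply hself hg q, (irr_apply_one_eq_charDegree (a q).2).1, H.hdeg q,
      Nat.cast_sub (by omega), Nat.cast_ofNat, map_sub, map_one, ← hidx]
    field_simp
  have t4 : ∑ χ ∈ SD W a, centralChar (χ : G → ℂ) x * (idx * conj ((χ : G → ℂ) x)) *
      conj ((χ : G → ℂ) g) = 0 :=
    Finset.sum_eq_zero (fun χ hχ => by
      have h0 : (χ : G → ℂ) x = 0 := H.SD_apply hself hχ (z_ne_one ctx)
      rw [h0]
      simp)
  rw [t1, t2, Finset.sum_congr rfl (fun q _ => t3 q), ← Finset.mul_sum, H.sum_exc_sq hself,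
    t4] at h0
  rw [h0, ← hidxp]
  field_simp
  ring

/-- the class multiplication constants are natural numbers -/
theorem conv_classIndicator_nat (u v g : G) :
    ∃ N : ℕ, conv (classIndicator u) (classIndicator v) g = N := by
  classical
  refine ⟨(Finset.univ.filter (fun y : G => IsConj u y ∧ IsConj v (y⁻¹ * g))).card, ?_⟩
  rw [conv_apply, Finset.card_filter, Nat.cast_sum]
  refine Finset.sum_congr rfl (fun y _ => ?_)
  unfold classIndicator
  by_cases h1 : IsConj u y
  · by_cases h2 : IsConj v (y⁻¹ * g)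
    · rw [if_pos h1, if_pos h2, if_pos ⟨h1, h2⟩]
      norm_num
    · rw [if_pos h1, if_neg h2, if_neg (fun h : IsConj u y ∧ IsConj v (y⁻¹ * g) => h2 h.2)]
      norm_num
  · rw [if_neg h1, if_neg (fun h : IsConj u y ∧ IsConj v (y⁻¹ * g) => h1 h.1)]
    norm_num

/-- the character of degree `p - 1` has natural values on `p`-regular elements -/
theorem Pattern.psi_nat (H : Pattern S ψ) (hself : ∀ t : G, t * x = x * t → t ∈ zpowers x)
    {g : G} (hg : ¬ p ∣ orderOf g) : ∃ k : ℕ, (ψ : G → ℂ) g = k := by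
  have hp5 := H.hp5
  obtain ⟨N, hN⟩ := conv_classIndicator_nat x x⁻¹ g
  have h1 := H.conv_eq hself hg
  rw [hN] at h1
  have hG0 : (Nat.card G : ℂ) ≠ 0 := Nat.cast_ne_zero.2 Nat.card_pos.ne'
  have h2 : (ψ : G → ℂ) g = ((N * (p * (p - 1)) : ℕ) : ℂ) / ((Nat.card G : ℕ) : ℂ) := by
    have h3 := congrArg conj h1
    simp only [map_mul, map_sub, map_one, Complex.conj_conj, Complex.conj_natCast] at h3
    rw [eq_div_iff hG0]
    push_cast [Nat.cast_sub (by omega : 1 ≤ p)]
    linear_combination -h3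
  exact nat_of_isIntegral_div (isIntegral_char_apply (isCharacter_of_irr ψ.2) g) _ _ h2

end values

end Cfsg.Agent.H7I2p
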