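import Mathlib

/-!
# Transitivity modules (Schur rings) of a permutation group with a regular subgroup

`IsReg ι ω₀` : the homomorphism `ι : H →* G` makes `H` act regularly on `Ω` (base point `ω₀`).
The action of `G` is transported to `H` (`IsReg.act`), the stabilizer `K` of `ω₀` then acts on
`H` fixing `1`, and the `K`-invariant subsets / elements of the group algebra form a Schur ring.
-/

set_option autoImplicit false

namespace Cfsg.Agent.Lib.Helper7.SchurRing

open MulAction

variable {G Ω H : Type*} [Group G] [MulAction G Ω] [Group H]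

/-- `ι : H →* G` makes `H` act regularly on `Ω` (with base point `ω₀`). -/
def IsReg (ι : H →* G) (ω₀ : Ω) : Prop := Function.Bijective fun h : H => ι h • ω₀

namespace IsReg

variable {ι : H →* G} {ω₀ : Ω} (hr : IsReg ι ω₀)

/-- The bijection `H ≃ Ω`. -/
noncomputable def equiv : H ≃ Ω := Equiv.ofBijective _ hr

@[simp] lemma equiv_apply (h : H) : hr.equiv h = ι h • ω₀ := rfl

/-- The action of `G` transported to `H`. -/
noncomputable def act (g : G) (h : H) : H := hr.equiv.symm (g • ι h • ω₀)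

lemma act_spec (g : G) (h : H) : ι (hr.act g h) • ω₀ = g • ι h • ω₀ := by
  have := hr.equiv.apply_symm_apply (g • ι h • ω₀)
  rwa [equiv_apply] at this

lemma act_eq_iff (g : G) (h h' : H) : hr.act g h = h' ↔ g • ι h • ω₀ = ι h' • ω₀ := by
  unfold act
  rw [Equiv.symm_apply_eq, equiv_apply]

lemma act_one (h : H) : hr.act 1 h = h := by
  rw [act_eq_iff, one_smul]

lemma act_mul (g g' : G) (h : H) : hr.act (g * g') h = hr.act g (hr.act g' h) := by
  rw [act_eq_iff, act_spec, act_spec, mul_smul]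

lemma act_map (a h : H) : hr.act (ι a) h = a * h := by
  rw [act_eq_iff, map_mul, mul_smul]

lemma act_inv_act (g : G) (h : H) : hr.act g⁻¹ (hr.act g h) = h := by
  rw [← act_mul, inv_mul_cancel, act_one]

lemma act_act_inv (g : G) (h : H) : hr.act g (hr.act g⁻¹ h) = h := by
  rw [← act_mul, mul_inv_cancel, act_one]

lemma act_injective (g : G) : Function.Injective (hr.act g) := by
  intro a b hab
  have := congrArg (hr.act g⁻¹) hab
  rwa [act_inv_act, act_inv_act] at this

lemma act_stab_one {k : G} (hk : k ∈ stabilizer G ω₀) : hr.act k 1 = 1 := by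
  rw [act_eq_iff, map_one, one_smul]
  exact hk

lemma act_eq_one_iff {k : G} (hk : k ∈ stabilizer G ω₀) {x : H} : hr.act k x = 1 ↔ x = 1 := by
  constructor
  · intro h
    apply hr.act_injective k
    rw [h, hr.act_stab_one hk]
  · rintro rfl
    exact hr.act_stab_one hk

/-- The basic "twisting" property: `g (a x) = g(a) · k(x)` for some `k` in the stabilizer. -/
lemma exists_twist (g : G) (a : H) :
    ∃ k ∈ stabilizer G ω₀, ∀ x : H, hr.act g (a * x) = hr.act g a * hr.act k x := by
  refine ⟨(ι (hr.act g a))⁻¹ * g * ι a, ?_, ?_⟩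
  · rw [mem_stabilizer_iff, mul_smul, mul_smul, ← hr.act_spec g a, inv_smul_smul]
  · intro x
    rw [act_eq_iff, map_mul, map_mul, mul_smul, mul_smul, act_spec, mul_smul, mul_smul,
      smul_inv_smul]

/-- `K`-invariant subsets of `H`. -/
def Inv (T : Set H) : Prop := ∀ k ∈ stabilizer G ω₀, ∀ t ∈ T, hr.act k t ∈ T

lemma Inv.act_mem_iff {T : Set H} (hT : hr.Inv T) {k : G} (hk : k ∈ stabilizer G ω₀) {t : H} :
    hr.act k t ∈ T ↔ t ∈ T := by
  constructor
  · intro h
    have := hT k⁻¹ (inv_mem hk) _ h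
    rwa [act_inv_act] at this
  · exact hT k hk t

lemma Inv.closure {T : Set H} (hT : hr.Inv T) : hr.Inv (Subgroup.closure T : Set H) := by
  intro k hk t ht
  have key : ∀ t ∈ Subgroup.closure T, ∀ k ∈ stabilizer G ω₀, hr.act k t ∈ Subgroup.closure T := by
    intro t ht
    induction ht using Subgroup.closure_induction with
    | mem x hx => intro k hk; exact Subgroup.subset_closure (hT k hk x hx)
    | one => intro k hk; rw [hr.act_stab_one hk]; exact one_mem _
    | mul x y _ _ hx hy =>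
      intro k hk
      obtain ⟨k', hk', h⟩ := hr.exists_twist k x
      rw [h y]
      exact mul_mem (hx k hk) (hy k' hk')
    | inv x _ hx =>
      intro k hk
      obtain ⟨k', hk', h⟩ := hr.exists_twist k x⁻¹
      have h1 := h x
      rw [inv_mul_cancel, hr.act_stab_one hk] at h1
      have h2 : hr.act k x⁻¹ = (hr.act k' x)⁻¹ := eq_inv_of_mul_eq_one_left h1.symm
      rw [h2]
      exact inv_mem (hx k' hk')
  exact key t ht k hk

open Pointwise in
lemma Inv.stabilizer {T : Set H} (hT : hr.Inv T) (hfin : T.Finite) :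
    hr.Inv (MulAction.stabilizer H T : Set H) := by
  intro k hk h hh
  rw [SetLike.mem_coe, mem_stabilizer_set' hfin] at hh ⊢
  intro t ht
  obtain ⟨k', hk', hk2⟩ := hr.exists_twist k h
  have h1 : hr.act k'⁻¹ t ∈ T := hT _ (inv_mem hk') t ht
  have h2 := hk2 (hr.act k'⁻¹ t)
  rw [act_act_inv] at h2
  rw [smul_eq_mul, ← h2]
  exact hT k hk _ (hh h1)

open Pointwise in
/-- Invariant subgroups give blocks; in a primitive group they are trivial. -/
lemma Inv.eq_bot_or_eq_top (hprim : IsPreprimitive G Ω) (L : Subgroup H) (hL : hr.Inv (L : Set H)) :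
    L = ⊥ ∨ L = ⊤ := by
  set B : Set Ω := (fun l : H => ι l • ω₀) '' (L : Set H) with hB
  have hmemB : ∀ x : H, ι x • ω₀ ∈ B ↔ x ∈ L := by
    intro x
    constructor
    · rintro ⟨l, hl, hlx⟩
      have := hr.injective hlx
      rw [← this]; exact hl
    · intro hx; exact ⟨x, hx, rfl⟩
  have hLB : ∀ l ∈ L, ι l • B = B := by
    intro l hl
    apply Set.Subset.antisymm
    · rintro _ ⟨_, ⟨x, hx, rfl⟩, rfl⟩
      show ι l • ι x • ω₀ ∈ B
      rw [← mul_smul, ← map_mul, hmemB]
      exact mul_mem hl hx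
    · rintro _ ⟨x, hx, rfl⟩
      refine ⟨ι (l⁻¹ * x) • ω₀, (hmemB _).mpr (mul_mem (inv_mem hl) hx), ?_⟩
      show ι l • ι (l⁻¹ * x) • ω₀ = ι x • ω₀
      rw [← mul_smul, ← map_mul, mul_inv_cancel_left]
  have hKB : ∀ k ∈ MulAction.stabilizer G ω₀, k • B = B := by
    have hsub : ∀ k ∈ MulAction.stabilizer G ω₀, k • B ⊆ B := by
      rintro k hk _ ⟨_, ⟨x, hx, rfl⟩, rfl⟩
      show k • ι x • ω₀ ∈ B
      rw [← hr.act_spec, hmemB]
      exact hL k hk x hx
    intro k hk
    apply Set.Subset.antisymm (hsub k hk)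
    have := hsub k⁻¹ (inv_mem hk)
    intro b hb
    exact ⟨k⁻¹ • b, this ⟨b, hb, rfl⟩, smul_inv_smul k b⟩
  have hblock : IsBlock G B := by
    rw [isBlock_iff_smul_eq_of_mem]
    rintro g _ ⟨l, hl, rfl⟩ ⟨l', hl', hll'⟩
    have hk : (ι l')⁻¹ * g * ι l ∈ MulAction.stabilizer G ω₀ := by
      rw [mem_stabilizer_iff, mul_smul, mul_smul, ← hll', inv_smul_smul]
    have hg : g = ι l' * ((ι l')⁻¹ * g * ι l) * (ι l)⁻¹ := by group
    have e1 : (ι l)⁻¹ • B = B := by
      rw [← map_inv]; exact hLB _ (inv_mem hl)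
    rw [hg, mul_smul, mul_smul, e1, hKB _ hk, hLB _ hl']
  rcases hprim.isTrivialBlock_of_isBlock hblock with h | h
  · left
    rw [Subgroup.eq_bot_iff_forall]
    intro x hx
    have h1 : ι x • ω₀ ∈ B := (hmemB x).mpr hx
    have h2 : ι (1 : H) • ω₀ ∈ B := (hmemB 1).mpr (one_mem _)
    exact hr.injective (h h1 h2)
  · right
    rw [Subgroup.eq_top_iff']
    intro x
    rw [← hmemB, h]
    exact Set.mem_univ _

end IsReg

end Cfsg.Agent.Lib.Helper7.SchurRing
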