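import Mathlib
import Cfsg.Agent.Lib.Helper7.SchurRing1

/-!
# Schur rings, part 2: the group-algebra side (Schur's closure theorem, the `p`-th power map)
-/

set_option autoImplicit false

namespace Cfsg.Agent.Lib.Helper7.SchurRing

open MulAction

namespace IsReg

section General

variable {G Ω H : Type*} [Group G] [MulAction G Ω] [Group H] {ι : H →* G} {ω₀ : Ω}
  (hr : IsReg ι ω₀) {R : Type*} [Semiring R]

/-- `K`-invariant elements of the group algebra (the transitivity module). -/
def AInv (η : MonoidAlgebra R H) : Prop :=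
  ∀ k ∈ stabilizer G ω₀, ∀ x : H, η.coeff (hr.act k x) = η.coeff x

lemma act_bijective (g : G) : Function.Bijective (hr.act g) :=
  Function.bijective_iff_has_inverse.mpr ⟨hr.act g⁻¹, hr.act_inv_act g, hr.act_act_inv g⟩

/-- Schur: the transitivity module is closed under multiplication. -/
lemma AInv.mul [Finite H] {η ζ : MonoidAlgebra R H} (h1 : hr.AInv η) (h2 : hr.AInv ζ) :
    hr.AInv (η * ζ) := by
  classical
  haveI := Fintype.ofFinite H
  intro k hk x
  rw [MonoidAlgebra.coeff_mul_apply_left, MonoidAlgebra.coeff_mul_apply_left,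
    Finsupp.sum_fintype _ _ (by simp), Finsupp.sum_fintype _ _ (by simp)]
  symm
  apply Fintype.sum_bijective (hr.act k) (hr.act_bijective k)
  intro a
  obtain ⟨k', hk', hk2⟩ := hr.exists_twist k a
  rw [h1 k hk a]
  congr 1
  have := hk2 (a⁻¹ * x)
  rw [mul_inv_cancel_left] at this
  rw [this, inv_mul_cancel_left, h2 k' hk']

lemma AInv.one : hr.AInv (1 : MonoidAlgebra R H) := by
  classical
  intro k hk x
  rw [MonoidAlgebra.one_def, MonoidAlgebra.coeff_single, Finsupp.single_apply, Finsupp.single_apply]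
  have := hr.act_eq_one_iff hk (x := x)
  simp only [eq_comm (a := (1 : H)), this]

lemma AInv.pow [Finite H] {η : MonoidAlgebra R H} (h1 : hr.AInv η) (n : ℕ) : hr.AInv (η ^ n) := by
  induction n with
  | zero => rw [pow_zero]; exact AInv.one hr
  | succ n ih => rw [pow_succ]; exact ih.mul hr h1

lemma coeff_indicator [DecidableEq H] (T : Finset H) (x : H) :
    (∑ t ∈ T, MonoidAlgebra.single t (1 : R)).coeff x = if x ∈ T then 1 else 0 := by
  rw [MonoidAlgebra.coeff_sum, Finsupp.finset_sum_apply]
  simp only [MonoidAlgebra.coeff_single, Finsupp.single_apply]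
  rw [Finset.sum_ite_eq' T x]

lemma ainv_indicator (T : Finset H) (hT : hr.Inv (T : Set H)) :
    hr.AInv (∑ t ∈ T, MonoidAlgebra.single t (1 : R)) := by
  classical
  intro k hk x
  rw [coeff_indicator, coeff_indicator]
  have := hT.act_mem_iff hr hk (t := x)
  simp only [Finset.mem_coe] at this
  simp only [this]

end General

section Comm

variable {G Ω H : Type*} [Group G] [MulAction G Ω] [CommGroup H] {ι : H →* G} {ω₀ : Ω}
  (hr : IsReg ι ω₀)

lemma pow_coeff [DecidableEq H] (p : ℕ) [Fact p.Prime] (T : Finset H) (u : H) :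
    ((∑ t ∈ T, MonoidAlgebra.single t (1 : ZMod p)) ^ p).coeff u =
      ((T.filter (fun t => t ^ p = u)).card : ZMod p) := by
  haveI : CharP (MonoidAlgebra (ZMod p) H) p :=
    charP_of_injective_algebraMap (R := ZMod p)
      (RingHom.injective (algebraMap (ZMod p) (MonoidAlgebra (ZMod p) H))) p
  rw [sum_pow_char]
  simp only [MonoidAlgebra.single_pow, one_pow]
  rw [MonoidAlgebra.coeff_sum, Finsupp.finset_sum_apply]
  simp only [MonoidAlgebra.coeff_single, Finsupp.single_apply]
  rw [Finset.sum_boole]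

/-- The `p`-th power theorem (Schur, Wielandt 23.9(b)). -/
lemma Inv.pow_set [Finite H] [DecidableEq H] (p : ℕ) [Fact p.Prime] (T : Finset H)
    (hT : hr.Inv (T : Set H)) :
    hr.Inv {u : H | ((T.filter (fun t => t ^ p = u)).card : ZMod p) ≠ 0} := by
  intro k hk u hu
  rw [Set.mem_ofPred_eq] at hu ⊢
  rw [← pow_coeff] at hu ⊢
  rwa [((hr.ainv_indicator (R := ZMod p) T hT).pow hr p) k hk u]

end Comm

end IsReg

end Cfsg.Agent.Lib.Helper7.SchurRing
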