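import Mathlib
import Cfsg.Agent.Lib.Helper7.SchurRing2

/-!
# Schur rings, part 3: Schur's theorem on primitive groups with a regular abelian subgroup
whose `p`-torsion has order `p` (Schur, Wielandt).
-/

set_option autoImplicit false

namespace Cfsg.Agent.Lib.Helper7.SchurRing

open MulAction

namespace IsReg

section Orbits

variable {G Ω H : Type*} [Group G] [MulAction G Ω] [Group H] {ι : H →* G} {ω₀ : Ω}
  (hr : IsReg ι ω₀)

/-- The orbit of `x` under the point stabilizer (a basic set). -/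
def orb (x : H) : Set H := {y | ∃ k ∈ stabilizer G ω₀, hr.act k x = y}

lemma mem_orb_self (x : H) : x ∈ hr.orb x := ⟨1, one_mem _, hr.act_one x⟩

lemma inv_orb (x : H) : hr.Inv (hr.orb x) := by
  rintro k hk _ ⟨k', hk', rfl⟩
  exact ⟨k * k', mul_mem hk hk', hr.act_mul k k' x⟩

lemma one_not_mem_orb {x : H} (hx : x ≠ 1) : (1 : H) ∉ hr.orb x := by
  rintro ⟨k, hk, h⟩
  exact hx ((hr.act_eq_one_iff hk).mp h)

lemma orb_symm {x y : H} (h : y ∈ hr.orb x) : x ∈ hr.orb y := by
  obtain ⟨k, hk, rfl⟩ := h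
  exact ⟨k⁻¹, inv_mem hk, hr.act_inv_act k x⟩

lemma orb_trans {x y z : H} (h1 : y ∈ hr.orb x) (h2 : z ∈ hr.orb y) : z ∈ hr.orb x := by
  obtain ⟨k, hk, rfl⟩ := h1
  obtain ⟨k', hk', rfl⟩ := h2
  exact ⟨k' * k, mul_mem hk' hk, hr.act_mul k' k x⟩

/-- The counting function `h ↦ #{b ∈ T | h b ∈ T}` (a structure constant). -/
def psi [DecidableEq H] (T : Finset H) (h : H) : ℕ := (T.filter (fun b => h * b ∈ T)).card

lemma psi_le_act [DecidableEq H] (T : Finset H) (hT : hr.Inv (T : Set H)) {k : G}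
    (hk : k ∈ stabilizer G ω₀) (h : H) : psi T h ≤ psi T (hr.act k h) := by
  obtain ⟨k', hk', hk2⟩ := hr.exists_twist k h
  apply Finset.card_le_card_of_injOn (hr.act k')
  · intro b hb
    rw [Finset.mem_coe, Finset.mem_filter] at hb ⊢
    refine ⟨hT k' hk' b hb.1, ?_⟩
    rw [← hk2 b]
    exact hT k hk _ hb.2
  · intro a _ b _ hab
    exact hr.act_injective k' hab

lemma psi_act [DecidableEq H] (T : Finset H) (hT : hr.Inv (T : Set H)) {k : G}
    (hk : k ∈ stabilizer G ω₀) (h : H) : psi T (hr.act k h) = psi T h := by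
  apply le_antisymm
  · have := hr.psi_le_act T hT (inv_mem hk) (hr.act k h)
    rwa [act_inv_act] at this
  · exact hr.psi_le_act T hT hk h

/-- If the point stabilizer is transitive on `H \ {1}` then `G` is `2`-transitive. -/
theorem isMultiplyPretransitive_two
    (h : ∀ x y : H, x ≠ 1 → y ≠ 1 → y ∈ hr.orb x) : IsMultiplyPretransitive G Ω 2 := by
  rw [is_two_pretransitive_iff]
  intro a b c d hab hcd
  obtain ⟨ha, rfl⟩ := hr.surjective a
  obtain ⟨hb, rfl⟩ := hr.surjective b
  obtain ⟨hc, rfl⟩ := hr.surjective c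
  obtain ⟨hd, rfl⟩ := hr.surjective d
  have hx1 : ha⁻¹ * hb ≠ 1 := by
    intro h1
    apply hab
    rw [inv_mul_eq_one] at h1
    rw [h1]
  have hx2 : hc⁻¹ * hd ≠ 1 := by
    intro h1
    apply hcd
    rw [inv_mul_eq_one] at h1
    rw [h1]
  obtain ⟨k, hk, hkx⟩ := h _ _ hx1 hx2
  rw [act_eq_iff] at hkx
  refine ⟨ι hc * k * (ι ha)⁻¹, ?_, ?_⟩
  · show (ι hc * k * (ι ha)⁻¹) • ι ha • ω₀ = ι hc • ω₀
    rw [mul_smul, inv_smul_smul, mul_smul]
    congr 1
  · show (ι hc * k * (ι ha)⁻¹) • ι hb • ω₀ = ι hd • ω₀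
    have e1 : (ι ha)⁻¹ • ι hb • ω₀ = ι (ha⁻¹ * hb) • ω₀ := by
      rw [map_mul, map_inv, mul_smul]
    have e2 : ι hd • ω₀ = ι hc • ι (hc⁻¹ * hd) • ω₀ := by
      rw [← mul_smul, ← map_mul, mul_inv_cancel_left]
    rw [mul_smul, mul_smul, e1, hkx, e2]

end Orbits

section Comm

variable {G Ω H : Type*} [Group G] [MulAction G Ω] [CommGroup H] {ι : H →* G} {ω₀ : Ω}
  (hr : IsReg ι ω₀)

lemma card_torsion_finset [Fintype H] [DecidableEq H] (p : ℕ)
    (hP : Nat.card (powMonoidHom p : H →* H).ker = p) :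
    (Finset.univ.filter (fun z : H => z ^ p = 1)).card = p := by
  have h1 : (Finset.univ.filter (fun z : H => z ^ p = 1)).card
      = Nat.card (powMonoidHom p : H →* H).ker := by
    rw [Nat.card_eq_fintype_card, Fintype.card_subtype]
    congr 1
    ext z
    simp [MonoidHom.mem_ker]
  rw [h1, hP]

/-- Cosets of the `p`-torsion outside it are contained in or disjoint from an invariant set. -/
lemma coset_mem [Finite H] [DecidableEq H] (hprim : IsPreprimitive G Ω) (p : ℕ) [Fact p.Prime]
    (hP : Nat.card (powMonoidHom p : H →* H).ker = p) (T : Finset H) (hT : hr.Inv (T : Set H))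
    {y : H} (hy : y ∈ T) (hyP : y ^ p ≠ 1) {z : H} (hz : z ^ p = 1) : y * z ∈ T := by
  haveI := Fintype.ofFinite H
  have hp := (Fact.out : p.Prime)
  set U : Set H := {u : H | ((T.filter (fun t => t ^ p = u)).card : ZMod p) ≠ 0} with hUdef
  have hU : hr.Inv U := IsReg.Inv.pow_set hr p T hT
  have hUr : U ⊆ ((powMonoidHom p : H →* H).range : Set H) := by
    intro u hu
    rw [hUdef, Set.mem_ofPred_eq] at hu
    have hne : (T.filter (fun t => t ^ p = u)).Nonempty := by
      rw [Finset.nonempty_iff_ne_empty]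
      intro h0
      rw [h0] at hu
      simp at hu
    obtain ⟨t, ht⟩ := hne
    exact ⟨t, (Finset.mem_filter.mp ht).2⟩
  set L := Subgroup.closure U with hLdef
  have hLr : L ≤ (powMonoidHom p : H →* H).range := (Subgroup.closure_le _).mpr hUr
  have hLbot : L = ⊥ := by
    rcases hU.closure.eq_bot_or_eq_top hr hprim L with h | h
    · exact h
    · exfalso
      rw [h, top_le_iff, MonoidHom.range_eq_top] at hLr
      have hinj : Function.Injective (powMonoidHom p : H →* H) :=
        Finite.injective_iff_surjective.mpr hLr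
      have hker : (powMonoidHom p : H →* H).ker = ⊥ := (MonoidHom.ker_eq_bot_iff _).mpr hinj
      rw [hker, Subgroup.card_bot] at hP
      exact hp.one_lt.ne hP
  have hyU : y ^ p ∉ U := by
    intro h
    have : y ^ p ∈ L := Subgroup.subset_closure h
    rw [hLbot, Subgroup.mem_bot] at this
    exact hyP this
  rw [hUdef, Set.mem_ofPred_eq, not_not, ZMod.natCast_eq_zero_iff] at hyU
  set F := T.filter (fun t => t ^ p = y ^ p) with hF
  have hyF : y ∈ F := Finset.mem_filter.mpr ⟨hy, rfl⟩
  have hFpos : 0 < F.card := Finset.card_pos.mpr ⟨y, hyF⟩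
  have hFge : p ≤ F.card := Nat.le_of_dvd hFpos hyU
  set Pf : Finset H := Finset.univ.filter (fun z : H => z ^ p = 1) with hPfdef
  have hPf : Pf.card = p := card_torsion_finset p hP
  have himg : F.image (fun t => y⁻¹ * t) ⊆ Pf := by
    intro w hw
    obtain ⟨t, ht, rfl⟩ := Finset.mem_image.mp hw
    rw [hPfdef, Finset.mem_filter]
    refine ⟨Finset.mem_univ _, ?_⟩
    rw [mul_pow, inv_pow, (Finset.mem_filter.mp ht).2, inv_mul_cancel]
  have hcardimg : (F.image (fun t => y⁻¹ * t)).card = F.card :=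
    Finset.card_image_of_injective _ (mul_right_injective y⁻¹)
  have heq : F.image (fun t => y⁻¹ * t) = Pf := by
    apply Finset.eq_of_subset_of_card_le himg
    rw [hcardimg, hPf]; exact hFge
  have hzPf : z ∈ Pf := Finset.mem_filter.mpr ⟨Finset.mem_univ _, hz⟩
  rw [← heq] at hzPf
  obtain ⟨t, ht, htz⟩ := Finset.mem_image.mp hzPf
  have : y * z = t := by rw [← htz, mul_inv_cancel_left]
  rw [this]
  exact (Finset.mem_filter.mp ht).1

/-- A nontrivial basic set is not contained in the `p`-torsion. -/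
lemma exists_not_torsion [Finite H] (hprim : IsPreprimitive G Ω) (p : ℕ)
    (hP : Nat.card (powMonoidHom p : H →* H).ker = p) (hne : Nat.card H ≠ p)
    {x : H} (hx : x ≠ 1) : ∃ t ∈ hr.orb x, t ^ p ≠ 1 := by
  by_contra hcon
  push Not at hcon
  have hle : Subgroup.closure (hr.orb x) ≤ (powMonoidHom p : H →* H).ker := by
    rw [Subgroup.closure_le]
    intro t ht
    exact hcon t ht
  rcases (hr.inv_orb x).closure.eq_bot_or_eq_top hr hprim _ with h | h
  · have : x ∈ Subgroup.closure (hr.orb x) := Subgroup.subset_closure (hr.mem_orb_self x)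
    rw [h, Subgroup.mem_bot] at this
    exact hx this
  · rw [h, top_le_iff] at hle
    rw [hle, Subgroup.card_top] at hP
    exact hne hP

open Pointwise in
/-- A nontrivial basic set meets the `p`-torsion. -/
lemma exists_torsion [Finite H] (hprim : IsPreprimitive G Ω) (p : ℕ) [Fact p.Prime]
    (hP : Nat.card (powMonoidHom p : H →* H).ker = p)
    {x : H} (hx : x ≠ 1) : ∃ t ∈ hr.orb x, t ^ p = 1 := by
  classical
  haveI := Fintype.ofFinite H
  have hp := (Fact.out : p.Prime)
  by_contra hcon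
  push Not at hcon
  set T : Finset H := Finset.univ.filter (fun y => y ∈ hr.orb x) with hTdef
  have hTmem : ∀ y, y ∈ T ↔ y ∈ hr.orb x := by
    intro y; rw [hTdef, Finset.mem_filter]; simp
  have hTinv : hr.Inv (T : Set H) := by
    intro k hk t ht
    rw [Finset.mem_coe, hTmem] at ht ⊢
    exact hr.inv_orb x k hk t ht
  have hfin : (hr.orb x).Finite := Set.toFinite _
  have hle : (powMonoidHom p : H →* H).ker ≤ MulAction.stabilizer H (hr.orb x) := by
    intro z hz
    rw [MonoidHom.mem_ker, powMonoidHom_apply] at hz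
    rw [mem_stabilizer_set' hfin]
    intro b hb
    rw [smul_eq_mul, mul_comm, ← hTmem]
    exact hr.coset_mem hprim p hP T hTinv ((hTmem b).mpr hb) (hcon b hb) hz
  rcases ((hr.inv_orb x).stabilizer hr hfin).eq_bot_or_eq_top hr hprim _ with h | h
  · rw [h, le_bot_iff] at hle
    rw [hle, Subgroup.card_bot] at hP
    exact hp.one_lt.ne hP
  · have : x⁻¹ ∈ MulAction.stabilizer H (hr.orb x) := by rw [h]; exact Subgroup.mem_top _
    rw [mem_stabilizer_set' hfin] at this
    have h1 := this (hr.mem_orb_self x)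
    rw [smul_eq_mul, inv_mul_cancel] at h1
    exact hr.one_not_mem_orb hx h1

end Comm

end IsReg

end Cfsg.Agent.Lib.Helper7.SchurRing
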