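import Mathlib
import Cfsg.Agent.Lib.Helper7.SchurRing3

/-!
# Schur rings, part 4: the main theorem
A primitive group containing a regular abelian subgroup `H` with `|H[p]| = p ≠ |H|` is
`2`-transitive (Schur for cyclic groups, Wielandt for abelian groups with a cyclic Sylow subgroup).
-/

set_option autoImplicit false

namespace Cfsg.Agent.Lib.Helper7.SchurRing

open MulAction

namespace IsReg

variable {G Ω H : Type*} [Group G] [MulAction G Ω] [CommGroup H] {ι : H →* G} {ω₀ : Ω}
  (hr : IsReg ι ω₀)

theorem orbit_transitive [Finite Ω] (hprim : IsPreprimitive G Ω) (p : ℕ) [Fact p.Prime]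
    (hP : Nat.card (powMonoidHom p : H →* H).ker = p) (hne : Nat.card H ≠ p) :
    ∀ x y : H, x ≠ 1 → y ≠ 1 → y ∈ hr.orb x := by
  classical
  haveI : Finite H := Finite.of_equiv Ω hr.equiv.symm
  haveI := Fintype.ofFinite H
  have hp := (Fact.out : p.Prime)
  by_contra hcon
  push Not at hcon
  obtain ⟨x₁, x₂, hx₁, hx₂, h12⟩ := hcon
  obtain ⟨O, hO⟩ : ∃ O : H → Finset H, ∀ x y, y ∈ O x ↔ y ∈ hr.orb x :=
    ⟨fun x => Finset.univ.filter (fun y => y ∈ hr.orb x), by intro x y; simp⟩
  have hOinv : ∀ x, hr.Inv (↑(O x) : Set H) := by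
    intro x k hk t ht
    rw [Finset.mem_coe, hO] at ht ⊢
    exact hr.inv_orb x k hk t ht
  set Pf : Finset H := Finset.univ.filter (fun z : H => z ^ p = 1) with hPfdef
  have hPf : Pf.card = p := card_torsion_finset p hP
  -- Step B : a basic set meeting the torsion in fewer than `p/2` points
  have hB : ∃ x, x ≠ 1 ∧ 2 * ((O x).filter (fun t => t ^ p = 1)).card < p := by
    by_contra hcon2
    push Not at hcon2
    have h1 := hcon2 x₁ hx₁
    have h2 := hcon2 x₂ hx₂
    have hdisj : Disjoint ((O x₁).filter (fun t => t ^ p = 1))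
        ((O x₂).filter (fun t => t ^ p = 1)) := by
      rw [Finset.disjoint_left]
      intro t ht1 ht2
      rw [Finset.mem_filter, hO] at ht1 ht2
      exact h12 (hr.orb_trans ht1.1 (hr.orb_symm ht2.1))
    have hsub : (O x₁).filter (fun t => t ^ p = 1) ∪ (O x₂).filter (fun t => t ^ p = 1)
        ⊆ Pf.erase 1 := by
      intro t ht
      rw [Finset.mem_union, Finset.mem_filter, Finset.mem_filter, hO, hO] at ht
      rw [Finset.mem_erase, hPfdef, Finset.mem_filter]
      rcases ht with ht | ht
      · refine ⟨?_, Finset.mem_univ _, ht.2⟩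
        rintro rfl
        exact hr.one_not_mem_orb hx₁ ht.1
      · refine ⟨?_, Finset.mem_univ _, ht.2⟩
        rintro rfl
        exact hr.one_not_mem_orb hx₂ ht.1
    have h3 := Finset.card_le_card hsub
    have h1mem : (1 : H) ∈ Pf := by
      rw [hPfdef, Finset.mem_filter]; exact ⟨Finset.mem_univ _, one_pow p⟩
    rw [Finset.card_union_of_disjoint hdisj, Finset.card_erase_of_mem h1mem, hPf] at h3
    have hp2 := hp.two_le
    omega
  obtain ⟨x, hx, hxlt⟩ := hB
  set T := O x with hTdef
  set T₀ := T.filter (fun t => t ^ p = 1) with hT₀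
  set S := T.filter (fun t => t ^ p ≠ 1) with hS
  have hA2 : ∀ y ∈ S, ∀ z : H, z ^ p = 1 → y * z ∈ S := by
    intro y hy z hz
    rw [hS, Finset.mem_filter] at hy ⊢
    refine ⟨hr.coset_mem hprim p hP T (hOinv x) hy.1 hy.2 hz, ?_⟩
    rw [mul_pow, hz, mul_one]
    exact hy.2
  have hclaim : ∀ y : H, y ^ p ≠ 1 → ∀ b ∈ S, y * b ∈ S := by
    intro y hy b₀ hb₀
    by_contra hyb
    have hy1 : y ≠ 1 := by
      rintro rfl; exact hy (one_pow p)
    obtain ⟨x', hx'O, hx'P⟩ := hr.exists_torsion hprim p hP hy1
    obtain ⟨k, hk, rfl⟩ := hx'O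
    have hpsi := hr.psi_act T (hOinv x) hk y
    have h1 : S.card ≤ psi T (hr.act k y) := by
      apply Finset.card_le_card
      intro b hb
      rw [Finset.mem_filter]
      refine ⟨(Finset.mem_filter.mp hb).1, ?_⟩
      rw [mul_comm]
      exact (Finset.mem_filter.mp (hA2 b hb _ hx'P)).1
    have h2 : psi T y + p ≤ 2 * T₀.card + S.card := by
      have hsub : T.filter (fun b => y * b ∈ T) ⊆
          T₀ ∪ (S.filter (fun b => y * b ∈ T₀)) ∪ (S.filter (fun b => y * b ∈ S)) := by
        intro b hb
        rw [Finset.mem_filter] at hb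
        rw [Finset.mem_union, Finset.mem_union]
        by_cases hbP : b ^ p = 1
        · left; left
          exact Finset.mem_filter.mpr ⟨hb.1, hbP⟩
        · have hbS : b ∈ S := Finset.mem_filter.mpr ⟨hb.1, hbP⟩
          by_cases hybP : (y * b) ^ p = 1
          · left; right
            exact Finset.mem_filter.mpr ⟨hbS, Finset.mem_filter.mpr ⟨hb.2, hybP⟩⟩
          · right
            exact Finset.mem_filter.mpr ⟨hbS, Finset.mem_filter.mpr ⟨hb.2, hybP⟩⟩
      have hc1 : (S.filter (fun b => y * b ∈ T₀)).card ≤ T₀.card := by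
        apply Finset.card_le_card_of_injOn (fun b => y * b)
        · intro b hb
          exact (Finset.mem_filter.mp hb).2
        · intro a _ b _ hab
          exact mul_left_cancel hab
      have himgS : Pf.image (fun z => b₀ * z) ⊆ S := by
        intro w hw
        obtain ⟨z, hz, rfl⟩ := Finset.mem_image.mp hw
        exact hA2 b₀ hb₀ z (Finset.mem_filter.mp hz).2
      have hcimg : (Pf.image (fun z => b₀ * z)).card = p := by
        rw [Finset.card_image_of_injective _ (mul_right_injective b₀), hPf]
      have hsub2 : S.filter (fun b => y * b ∈ S) ⊆ S \ Pf.image (fun z => b₀ * z) := by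
        intro b hb
        rw [Finset.mem_filter] at hb
        rw [Finset.mem_sdiff]
        refine ⟨hb.1, ?_⟩
        intro hbimg
        obtain ⟨z, hz, rfl⟩ := Finset.mem_image.mp hbimg
        have hz' : z ^ p = 1 := (Finset.mem_filter.mp hz).2
        have := hA2 _ hb.2 z⁻¹ (by rw [inv_pow, hz', inv_one])
        apply hyb
        have e : y * (b₀ * z) * z⁻¹ = y * b₀ := by
          rw [mul_assoc, mul_inv_cancel_right]
        rwa [e] at this
      have hc2 := Finset.card_le_card hsub2
      have hc3 := Finset.card_sdiff_add_card_eq_card himgS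
      have hc4 := Finset.card_le_card hsub
      have hc5 := Finset.card_union_le (T₀ ∪ (S.filter (fun b => y * b ∈ T₀)))
        (S.filter (fun b => y * b ∈ S))
      have hc6 := Finset.card_union_le T₀ (S.filter (fun b => y * b ∈ T₀))
      unfold psi
      omega
    omega
  obtain ⟨b, hbO, hbP⟩ := hr.exists_not_torsion hprim p hP hne hx
  have hbS : b ∈ S := Finset.mem_filter.mpr ⟨(hO x b).mpr hbO, hbP⟩
  have h1S := hclaim b⁻¹ (by rwa [inv_pow, ne_eq, inv_eq_one]) b hbS
  rw [inv_mul_cancel] at h1S
  exact hr.one_not_mem_orb hx ((hO x 1).mp (Finset.mem_filter.mp h1S).1)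

include hr in
/-- Schur–Wielandt: a primitive group containing a regular abelian subgroup `H` whose
`p`-torsion has order `p ≠ |H|` is `2`-transitive. -/
theorem two_transitive [Finite Ω] (hprim : IsPreprimitive G Ω) (p : ℕ) [Fact p.Prime]
    (hP : Nat.card (powMonoidHom p : H →* H).ker = p) (hne : Nat.card H ≠ p) :
    IsMultiplyPretransitive G Ω 2 :=
  hr.isMultiplyPretransitive_two (hr.orbit_transitive hprim p hP hne)

end IsReg

end Cfsg.Agent.Lib.Helper7.SchurRing
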