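import Mathlib
import Cfsg.Agent.Lib.Helper7.SchurRing4

/-!
# Schur rings, part 5: subgroup form of the Schur–Wielandt theorem
-/

set_option autoImplicit false

namespace Cfsg.Agent.Lib.Helper7.SchurRing

open MulAction

variable {G Ω : Type*} [Group G] [MulAction G Ω]

lemma isReg_subtype (C : Subgroup G)
    (hC : IsPretransitive ↥C Ω ∧ ∀ a : Ω, stabilizer ↥C a = ⊥) (ω₀ : Ω) :
    IsReg C.subtype ω₀ := by
  constructor
  · intro a b hab
    have hab' : (a : G) • ω₀ = (b : G) • ω₀ := hab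
    have h1 : b⁻¹ * a ∈ stabilizer ↥C ω₀ := by
      rw [mem_stabilizer_iff, mul_smul]
      show (b⁻¹ : ↥C) • ((a : G) • ω₀) = ω₀
      rw [hab']
      show ((b⁻¹ : ↥C) : G) • ((b : G) • ω₀) = ω₀
      rw [Subgroup.coe_inv, inv_smul_smul]
    rw [hC.2 ω₀, Subgroup.mem_bot, inv_mul_eq_one] at h1
    exact h1.symm
  · intro ω
    haveI := hC.1
    obtain ⟨c, hc⟩ := exists_smul_eq (↥C) ω₀ ω
    exact ⟨c, hc⟩

/-- Schur–Wielandt, subgroup form. -/
theorem two_transitive_of_subgroup [Finite Ω] [Nonempty Ω] (hprim : IsPreprimitive G Ω)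
    (C : Subgroup G) (hcomm : ∀ a b : ↥C, a * b = b * a)
    (hC : IsPretransitive ↥C Ω ∧ ∀ a : Ω, stabilizer ↥C a = ⊥)
    (p : ℕ) [Fact p.Prime] (hP : Nat.card {c : ↥C // c ^ p = 1} = p) (hne : Nat.card Ω ≠ p) :
    IsMultiplyPretransitive G Ω 2 := by
  obtain ⟨ω₀⟩ := ‹Nonempty Ω›
  letI : CommGroup ↥C := { (inferInstance : Group ↥C) with mul_comm := hcomm }
  have hr : IsReg C.subtype ω₀ := isReg_subtype C hC ω₀
  have hcard : Nat.card ↥C = Nat.card Ω := Nat.card_congr hr.equiv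
  apply hr.two_transitive hprim p
  · refine Eq.trans ?_ hP
    apply Nat.card_congr
    apply Equiv.subtypeEquivRight
    intro c
    rw [MonoidHom.mem_ker, powMonoidHom_apply]
  · rw [hcard]; exact hne

end Cfsg.Agent.Lib.Helper7.SchurRing
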