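import Mathlib
import Cfsg.Agent.S0713
import Cfsg.Agent.S3559
import Cfsg.Agent.Lib.Helper2.PermChar8

set_option autoImplicit false
set_option maxHeartbeats 800000
set_option linter.style.haveILetI false
set_option linter.unusedSectionVars false
set_option linter.unusedVariables false

/-!
# Wielandt's theorem on primitive groups of degree `2p`, part A

A primitive, not doubly transitive group of degree `2p` (`p` an odd prime) has a Sylow
`p`-subgroup of order `p` which is semiregular and self-centralizing.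
-/

namespace Cfsg.Agent.H7W2p

open MulAction

universe u

section PartA

variable {α : Type u} [Fintype α] [DecidableEq α]

/-- a permutation group containing the alternating group is `2`-transitive (degree `≥ 4`) -/
theorem two_trans_of_alt_le (G : Subgroup (Equiv.Perm α)) (h4 : 4 ≤ Fintype.card α)
    (hle : alternatingGroup α ≤ G) : IsMultiplyPretransitive G α 2 := by
  have h1 := alternatingGroup.isMultiplyPretransitive α
  have hc : Nat.card α = Fintype.card α := Nat.card_eq_fintype_card
  have h2 : IsMultiplyPretransitive (alternatingGroup α) α 2 :=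
    isMultiplyPretransitive_of_le (n := Nat.card α - 2) (by omega) (by omega)
  rw [is_two_pretransitive_iff] at h2 ⊢
  intro a b c d hab hcd
  obtain ⟨g, hg1, hg2⟩ := h2 hab hcd
  exact ⟨⟨g.1, hle g.2⟩, hg1, hg2⟩

/-- if the point stabilizer is transitive on the remaining points, the group is `2`-transitive -/
theorem two_trans_of_stab {G : Type*} [Group G] {Ω : Type*} [MulAction G Ω]
    [IsPretransitive G Ω] (a₀ : Ω)
    (h : ∀ b c : Ω, b ≠ a₀ → c ≠ a₀ → ∃ g : G, g • a₀ = a₀ ∧ g • b = c) :
    IsMultiplyPretransitive G Ω 2 := by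
  rw [is_two_pretransitive_iff]
  intro a b c d hab hcd
  obtain ⟨g₁, hg₁⟩ := exists_smul_eq G a a₀
  obtain ⟨g₂, hg₂⟩ := exists_smul_eq G c a₀
  have h1 : g₁ • b ≠ a₀ := by
    intro h1
    apply hab
    rw [← hg₁] at h1
    exact (MulAction.injective g₁ h1).symm
  have h2 : g₂ • d ≠ a₀ := by
    intro h1
    apply hcd
    rw [← hg₂] at h1
    exact (MulAction.injective g₂ h1).symm
  obtain ⟨k, hk1, hk2⟩ := h _ _ h1 h2
  refine ⟨g₂⁻¹ * k * g₁, ?_, ?_⟩
  · rw [mul_smul, mul_smul, hg₁, hk1, ← hg₂, inv_smul_smul]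
  · rw [mul_smul, mul_smul, hk2, inv_smul_smul]

/-- an element of order `p` in a primitive, not `2`-transitive group of degree `2p` has no
fixed points -/
theorem fpf_of_order {p : ℕ} (hp : p.Prime) (hp2 : p ≠ 2) (hα : Fintype.card α = 2 * p)
    (G : Subgroup (Equiv.Perm α)) (hG : IsPreprimitive G α)
    (h2 : ¬ IsMultiplyPretransitive G α 2) (y : G) (hy : orderOf y = p) (a : α) :
    y • a ≠ a := by
  have hp3 : 3 ≤ p := by
    have := hp.two_le
    omega
  have hy' : orderOf (y : Equiv.Perm α) = p := by rw [Subgroup.orderOf_coe, hy]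
  obtain ⟨n, hn⟩ := Equiv.Perm.cycleType_prime_order (σ := (y : Equiv.Perm α)) (hy'.symm ▸ hp)
  rw [hy'] at hn
  have hsum : (y : Equiv.Perm α).support.card = (n + 1) * p := by
    rw [← Equiv.Perm.sum_cycleType, hn, Multiset.sum_replicate, smul_eq_mul]
  have hle : (y : Equiv.Perm α).support.card ≤ 2 * p := by
    rw [← hα]
    exact Finset.card_le_univ _
  have hn1 : n ≤ 1 := by
    by_contra hcon
    have : 3 * p ≤ (n + 1) * p := Nat.mul_le_mul_right p (by omega)
    have hp0 := hp.pos
    omega
  rcases Nat.le_one_iff_eq_zero_or_eq_one.1 hn1 with h0 | h1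
  · exfalso
    apply h2
    subst h0
    have hcyc : (y : Equiv.Perm α).IsCycle := by
      rw [← Equiv.Perm.card_cycleType_eq_one, hn]
      simp
    have hsupp : (y : Equiv.Perm α).support.card = p := by rw [hsum]; simp
    have hle := Cfsg.Agent.S0713.result G hG hp (by omega) (by omega) hcyc hsupp y.2
    exact two_trans_of_alt_le G (by omega) hle
  · subst h1
    have hsupp : (y : Equiv.Perm α).support = Finset.univ := by
      apply Finset.eq_univ_of_card
      rw [hsum, hα]
    have ha : a ∈ (y : Equiv.Perm α).support := by rw [hsupp]; exact Finset.mem_univ a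
    rw [Equiv.Perm.mem_support] at ha
    exact ha

theorem not_sq_dvd {p : ℕ} (hp : p.Prime) (hp2 : p ≠ 2) (hα : Fintype.card α = 2 * p)
    (G : Subgroup (Equiv.Perm α)) (hG : IsPreprimitive G α)
    (h2 : ¬ IsMultiplyPretransitive G α 2) : ¬ p ^ 2 ∣ Nat.card G := by
  intro hdvd
  haveI : Fact p.Prime := ⟨hp⟩
  have hp3 : 3 ≤ p := by
    have := hp.two_le
    omega
  obtain ⟨Q, hQ⟩ := Sylow.exists_subgroup_card_pow_prime p hdvd
  have hne : Nonempty α := by
    rw [← Fintype.card_pos_iff, hα]
    have := hp.pos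
    omega
  obtain ⟨a⟩ := hne
  have h1 := (stabilizer Q a).index_mul_card
  rw [hQ, MulAction.index_stabilizer] at h1
  have h3 : (orbit Q a).ncard ≤ 2 * p := by
    rw [← hα, ← Nat.card_eq_fintype_card, ← Set.ncard_univ]
    exact Set.ncard_le_ncard (Set.subset_univ _) (Set.toFinite _)
  have h4 : Nat.card (stabilizer Q a) ≠ 1 := by
    intro h
    rw [h, mul_one] at h1
    rw [h1] at h3
    nlinarith
  have h5 : Nat.card (stabilizer Q a) ∣ p ^ 2 := ⟨_, by rw [← h1, mul_comm]⟩
  have h6 : p ∣ Nat.card (stabilizer Q a) := by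
    obtain ⟨k, hk, hk2⟩ := (Nat.dvd_prime_pow hp).1 h5
    rw [hk2]
    apply dvd_pow_self
    rintro rfl
    exact h4 (by rw [hk2, pow_zero])
  obtain ⟨y, hy⟩ := exists_prime_orderOf_dvd_card' p h6
  have hy2 : orderOf ((y : Q) : G) = p := by
    rw [Subgroup.orderOf_coe, Subgroup.orderOf_coe, hy]
  have hy3 : ((y : Q) : G) • a = a := y.2
  exact fpf_of_order hp hp2 hα G hG h2 _ hy2 a hy3

/-- nonidentity elements of a subgroup of prime order `p` have order `p` -/
theorem orderOf_of_mem_zpowers {H : Type*} [Group H] {p : ℕ} (hp : p.Prime) {x y : H}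
    (hx : orderOf x = p) (hy : y ∈ Subgroup.zpowers x) (hy1 : y ≠ 1) : orderOf y = p := by
  have h1 : Nat.card (Subgroup.zpowers x) = p := by rw [Nat.card_zpowers, hx]
  have : Finite (Subgroup.zpowers x) := Nat.finite_of_card_ne_zero (by rw [h1]; exact hp.ne_zero)
  have h2 : orderOf (⟨y, hy⟩ : Subgroup.zpowers x) ∣ p := by
    rw [← h1]
    exact orderOf_dvd_natCard _
  rw [Subgroup.orderOf_mk] at h2
  rcases (Nat.dvd_prime hp).1 h2 with h | h
  · exact absurd (orderOf_eq_one_iff.1 h) hy1
  · exact h

/-- the orbits of a semiregular group of order `p` have `p` elements -/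
theorem ncard_orbit_zpowers {p : ℕ} (hp : p.Prime)
    (G : Subgroup (Equiv.Perm α))
    (hfpf : ∀ y : G, orderOf y = p → ∀ a : α, y • a ≠ a) (x : G) (hx : orderOf x = p) (a : α) :
    (orbit (Subgroup.zpowers x) a).ncard = p := by
  have h1 : Nat.card (Subgroup.zpowers x) = p := by rw [Nat.card_zpowers, hx]
  have h2 : stabilizer (Subgroup.zpowers x) a = ⊥ := by
    rw [Subgroup.eq_bot_iff_forall]
    intro y hy
    by_contra hy1
    have hy1' : (y : G) ≠ 1 := fun h => hy1 (Subtype.ext h)
    exact hfpf y (orderOf_of_mem_zpowers hp hx y.2 hy1') a hy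
  rw [← MulAction.index_stabilizer, h2, Subgroup.index_bot, h1]

/-- the centralizer of `x` acts semiregularly -/
theorem centralizer_semiregular {p : ℕ} (hp : p.Prime) (hα : Fintype.card α = 2 * p)
    (G : Subgroup (Equiv.Perm α))
    (hfpf : ∀ y : G, orderOf y = p → ∀ a : α, y • a ≠ a) (x : G) (hx : orderOf x = p)
    (c : G) (hc : c * x = x * c) (a : α) (hca : c • a = a) : c = 1 := by
  by_contra hc1
  have hcomm : ∀ y ∈ Subgroup.zpowers x, c * y = y * c := by
    intro y hy
    obtain ⟨k, rfl⟩ := Subgroup.mem_zpowers_iff.1 hy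
    exact ((Commute.zpow_right (show Commute c x from hc) k)).eq
  -- a moved point
  obtain ⟨b, hb⟩ : ∃ b : α, c • b ≠ b := by
    by_contra hall
    push Not at hall
    apply hc1
    apply Subtype.ext
    apply Equiv.ext
    intro d
    exact hall d
  have hfixA : ∀ d ∈ orbit (Subgroup.zpowers x) a, c • d = d := by
    rintro d ⟨y, rfl⟩
    show c • ((y : G) • a) = (y : G) • a
    rw [← mul_smul, hcomm y y.2, mul_smul, hca]
  have hbA : b ∉ orbit (Subgroup.zpowers x) a := fun h => hb (hfixA b h)
  have hdisj : Disjoint (orbit (Subgroup.zpowers x) a) (orbit (Subgroup.zpowers x) b) := by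
    rw [Set.disjoint_left]
    intro d hda hdb
    apply hbA
    rw [← MulAction.orbit_eq_iff] at hda hdb
    rw [← hda, hdb]
    exact MulAction.mem_orbit_self b
  have hunion : orbit (Subgroup.zpowers x) a ∪ orbit (Subgroup.zpowers x) b = Set.univ := by
    rw [Set.eq_univ_iff_ncard, Set.ncard_union_eq hdisj, ncard_orbit_zpowers hp G hfpf x hx,
      ncard_orbit_zpowers hp G hfpf x hx, Nat.card_eq_fintype_card, hα]
    ring
  have hcb : c • b ∈ orbit (Subgroup.zpowers x) b := by
    have h1 : c • b ∈ orbit (Subgroup.zpowers x) a ∪ orbit (Subgroup.zpowers x) b := by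
      rw [hunion]; exact Set.mem_univ _
    rcases h1 with h1 | h1
    · exfalso
      apply hbA
      have h2 := hfixA _ h1
      have h3 : c • b = b := MulAction.injective c h2
      rw [h3] at h1
      exact h1
    · exact h1
  obtain ⟨y, hy⟩ := hcb
  have hy' : (y : G) • b = c • b := hy
  have hactB : ∀ d ∈ orbit (Subgroup.zpowers x) b, c • d = (y : G) • d := by
    rintro d ⟨w, rfl⟩
    show c • ((w : G) • b) = (y : G) • ((w : G) • b)
    rw [← mul_smul, hcomm w w.2, mul_smul, ← hy', ← mul_smul, ← mul_smul]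
    congr 1
    obtain ⟨k, hk⟩ := Subgroup.mem_zpowers_iff.1 w.2
    obtain ⟨l, hl⟩ := Subgroup.mem_zpowers_iff.1 y.2
    rw [← hk, ← hl, ← zpow_add, ← zpow_add, add_comm]
  -- `c ^ p = 1`
  have hpowA : ∀ (n : ℕ), ∀ d ∈ orbit (Subgroup.zpowers x) a, (c ^ n) • d = d := by
    intro n
    induction n with
    | zero => intro d _; rw [pow_zero, one_smul]
    | succ n ih =>
      intro d hd
      rw [pow_succ, mul_smul, hfixA d hd, ih d hd]
  have hpowB : ∀ (n : ℕ), ∀ d ∈ orbit (Subgroup.zpowers x) b, (c ^ n) • d = ((y : G) ^ n) • d := by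
    intro n
    induction n with
    | zero => intro d _; rw [pow_zero, pow_zero, one_smul]
    | succ n ih =>
      intro d hd
      have hd' : (y : G) • d ∈ orbit (Subgroup.zpowers x) b := by
        obtain ⟨w, rfl⟩ := hd
        exact ⟨y * w, mul_smul y w b⟩
      rw [pow_succ, mul_smul, hactB d hd, ih _ hd', pow_succ, mul_smul]
  have hyp : (y : G) ^ p = 1 := by
    have h1 : Nat.card (Subgroup.zpowers x) = p := by rw [Nat.card_zpowers, hx]
    have : Finite (Subgroup.zpowers x) :=
      Nat.finite_of_card_ne_zero (by rw [h1]; exact hp.ne_zero)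
    have h2 : y ^ p = 1 := by rw [← h1]; exact pow_card_eq_one'
    have h3 := congrArg (Subtype.val : Subgroup.zpowers x → G) h2
    rwa [Subgroup.coe_pow] at h3
  have hcp : c ^ p = 1 := by
    apply Subtype.ext
    apply Equiv.ext
    intro d
    have h1 : d ∈ orbit (Subgroup.zpowers x) a ∪ orbit (Subgroup.zpowers x) b := by
      rw [hunion]; exact Set.mem_univ _
    show (c ^ p) • d = d
    rcases h1 with h1 | h1
    · exact hpowA p d h1
    · rw [hpowB p d h1, hyp, one_smul]
  haveI : Fact p.Prime := ⟨hp⟩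
  have hord : orderOf c = p := orderOf_eq_prime hcp hc1
  exact hfpf c hord a hca

/-- **Part A**: a Sylow `p`-subgroup of a primitive, not `2`-transitive group of degree `2p` is
semiregular of order `p` and self-centralizing -/
theorem partA {p : ℕ} (hp : p.Prime) (hp2 : p ≠ 2) (hα : Fintype.card α = 2 * p)
    (G : Subgroup (Equiv.Perm α)) (hG : IsPreprimitive G α)
    (h2 : ¬ IsMultiplyPretransitive G α 2) :
    ∃ x : G, orderOf x = p ∧ ¬ p ^ 2 ∣ Nat.card G ∧
      (∀ t : G, t * x = x * t → t ∈ Subgroup.zpowers x) ∧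
      (∀ y ∈ Subgroup.zpowers x, y ≠ 1 → ∀ a : α, y • a ≠ a) := by
  haveI : Fact p.Prime := ⟨hp⟩
  have hp3 : 3 ≤ p := by
    have := hp.two_le
    omega
  haveI := hG.toIsPretransitive
  have hne : Nonempty α := by
    rw [← Fintype.card_pos_iff, hα]
    have := hp.pos
    omega
  obtain ⟨a₀⟩ := hne
  have hdvd : 2 * p ∣ Nat.card G := by
    have h1 := MulAction.index_stabilizer_of_transitive G a₀
    rw [Nat.card_eq_fintype_card, hα] at h1
    rw [← h1]
    exact Subgroup.index_dvd_card _
  obtain ⟨x, hx⟩ := exists_prime_orderOf_dvd_card' p ((Dvd.intro_left 2 rfl).trans hdvd)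
  have hfpf := fpf_of_order hp hp2 hα G hG h2
  refine ⟨x, hx, not_sq_dvd hp hp2 hα G hG h2, ?_, ?_⟩
  · -- self-centralizing
    set C : Subgroup G := Subgroup.centralizer ((Subgroup.zpowers x : Subgroup G) : Set G) with hC
    have hCmem : ∀ t : G, t ∈ C ↔ t * x = x * t := by
      intro t
      rw [hC, Subgroup.mem_centralizer_iff]
      constructor
      · intro h
        exact (h x (Subgroup.mem_zpowers x)).symm
      · intro h y hy
        obtain ⟨k, rfl⟩ := Subgroup.mem_zpowers_iff.1 hy
        exact ((Commute.zpow_right (show Commute t x from h) k)).eq.symm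
    have hXC : Subgroup.zpowers x ≤ C := by
      rw [Subgroup.zpowers_le, hCmem]
    have hstab : ∀ a : α, stabilizer C a = ⊥ := by
      intro a
      rw [Subgroup.eq_bot_iff_forall]
      intro c hc
      apply Subtype.ext
      exact centralizer_semiregular hp hα G hfpf x hx c ((hCmem c).1 c.2) a hc
    have hcardC : Nat.card C = (orbit C a₀).ncard := by
      rw [← MulAction.index_stabilizer, hstab, Subgroup.index_bot]
    have hle : Nat.card C ≤ 2 * p := by
      rw [hcardC, ← hα, ← Nat.card_eq_fintype_card, ← Set.ncard_univ]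
      exact Set.ncard_le_ncard (Set.subset_univ _) (Set.toFinite _)
    have hX : Nat.card (Subgroup.zpowers x) = p := by rw [Nat.card_zpowers, hx]
    have hpC : p ∣ Nat.card C := by
      rw [← hX]
      exact Subgroup.card_dvd_of_le hXC
    obtain ⟨k, hk⟩ := hpC
    have hCpos : 0 < Nat.card C := Nat.card_pos
    have hk12 : k = 1 ∨ k = 2 := by
      have hp0 := hp.pos
      have h1 : k ≤ 2 := by
        by_contra hcon
        have : p * 3 ≤ p * k := Nat.mul_le_mul_left p (by omega)
        omega
      have h2 : k ≠ 0 := by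
        rintro rfl
        omega
      omega
    rcases hk12 with rfl | rfl
    · -- `C = ⟨x⟩`
      intro t ht
      have heq : Subgroup.zpowers x = C := by
        apply Subgroup.eq_of_le_of_card_ge hXC
        rw [hX, hk, mul_one]
      rw [heq, hCmem]
      exact ht
    · -- `C` regular cyclic of order `2p`
      exfalso
      have htrans : IsPretransitive C α := by
        have h1 : orbit C a₀ = Set.univ := by
          rw [Set.eq_univ_iff_ncard, ← hcardC, hk, Nat.card_eq_fintype_card, hα, mul_comm]
        constructor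
        intro a b
        have ha : a ∈ orbit C a₀ := by rw [h1]; exact Set.mem_univ a
        have hb : b ∈ orbit C a₀ := by rw [h1]; exact Set.mem_univ b
        obtain ⟨g, rfl⟩ := ha
        obtain ⟨g', rfl⟩ := hb
        exact ⟨g' * g⁻¹, by simp [mul_smul]⟩
      have h2C : 2 ∣ Nat.card C := ⟨p, by rw [hk, mul_comm]⟩
      haveI : Fact (Nat.Prime 2) := ⟨Nat.prime_two⟩
      obtain ⟨v, hv⟩ := exists_prime_orderOf_dvd_card' 2 h2C
      have hxC : x ∈ C := hXC (Subgroup.mem_zpowers x)
      have hcomm : Commute (⟨x, hxC⟩ : C) v := by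
        have := (hCmem v).1 v.2
        show (⟨x, hxC⟩ : C) * v = v * ⟨x, hxC⟩
        apply Subtype.ext
        exact this.symm
      have hxo : orderOf (⟨x, hxC⟩ : C) = p := by rw [Subgroup.orderOf_mk, hx]
      have hcop : Nat.Coprime (orderOf (⟨x, hxC⟩ : C)) (orderOf v) := by
        rw [hxo, hv]
        exact (Nat.coprime_primes hp Nat.prime_two).2 hp2
      have hord := hcomm.orderOf_mul_eq_mul_orderOf_of_coprime hcop
      rw [hxo, hv] at hord
      have hcyc : IsCyclic C := isCyclic_of_orderOf_eq_card _ (by rw [hord, hk])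
      have hnpp : ¬ IsPrimePow (Nat.card α) := by
        rw [Nat.card_eq_fintype_card, hα]
        intro hpp
        rw [isPrimePow_nat_iff] at hpp
        obtain ⟨q, k, hq, hk0, hqk⟩ := hpp
        have h2q : 2 ∣ q ^ k := by rw [hqk]; exact Dvd.intro _ rfl
        have hpq : p ∣ q ^ k := by rw [hqk]; exact Dvd.intro_left _ rfl
        have e1 := (Nat.prime_dvd_prime_iff_eq Nat.prime_two hq).1 (Nat.prime_two.dvd_of_dvd_pow h2q)
        have e2 := (Nat.prime_dvd_prime_iff_eq hp hq).1 (hp.dvd_of_dvd_pow hpq)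
        exact hp2 (by rw [e2, ← e1])
      have hn2 : 2 ≤ Nat.card α := by
        rw [Nat.card_eq_fintype_card, hα]
        omega
      rcases Cfsg.Agent.S3559.result (G := G) (Ω := α) inferInstance hn2 hnpp C hcyc
        ⟨htrans, hstab⟩ with h | h
      · exact h hG
      · exact h2 h
  · intro y hy hy1 a
    exact hfpf y (orderOf_of_mem_zpowers hp hx hy hy1) a

end PartA

section Prim

/-- in a faithful primitive group of composite degree, the stabilizer of a point fixes no other
point -/
theorem exists_moves {G : Type*} [Group G] [Finite G] {Ω : Type*} [MulAction G Ω]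
    [FaithfulSMul G Ω] [Finite Ω] (hprim : IsPreprimitive G Ω) (hcard : ¬ (Nat.card Ω).Prime)
    (a b : Ω) (hab : b ≠ a) : ∃ h ∈ stabilizer G a, h • b ≠ b := by
  by_contra hcon
  push Not at hcon
  have h1 := Cfsg.Agent.Lib.Helper2.PermChar.stabilizer_trivial_of_fixes hprim a b hab hcon
  have hbot : stabilizer G a = ⊥ := by
    rw [Subgroup.eq_bot_iff_forall]
    intro h hh
    apply FaithfulSMul.eq_of_smul_eq_smul (α := Ω)
    intro ω
    rw [h1 h hh ω, one_smul]
  haveI := hprim.toIsPretransitive
  haveI : Nontrivial Ω := ⟨⟨b, a, hab⟩⟩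
  have hco : IsCoatom (stabilizer G a) := (isCoatom_stabilizer_iff_preprimitive G a).2 hprim
  rw [hbot] at hco
  have hcardG : Nat.card G = Nat.card Ω := by
    have := MulAction.index_stabilizer_of_transitive G a
    rw [hbot, Subgroup.index_bot] at this
    exact this
  have hne1 : Nat.card Ω ≠ 1 := by
    intro h
    have := (Nat.card_eq_one_iff_unique.1 h).1
    exact hab (Subsingleton.elim b a)
  obtain ⟨q, hq, hqd⟩ := Nat.exists_prime_and_dvd hne1
  haveI : Fact q.Prime := ⟨hq⟩
  obtain ⟨v, hv⟩ := exists_prime_orderOf_dvd_card' q (hcardG ▸ hqd)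
  have hlt : (⊥ : Subgroup G) < Subgroup.zpowers v := by
    rw [bot_lt_iff_ne_bot]
    intro h
    rw [Subgroup.zpowers_eq_bot] at h
    rw [h, orderOf_one] at hv
    exact hq.one_lt.ne hv
  have htop := hco.2 _ hlt
  have hc : Nat.card G = q := by
    rw [← Subgroup.card_top (G := G), ← htop, Nat.card_zpowers, hv]
  apply hcard
  rw [← hcardG, hc]
  exact hq

/-- if the number of suborbits is `2`, the group is `2`-transitive -/
theorem two_trans_of_rank_two {G : Type*} [Group G] {Ω : Type*} [MulAction G Ω]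
    [IsPretransitive G Ω] (a₀ : Ω)
    (hrank : Nat.card (orbitRel.Quotient (stabilizer G a₀) Ω) = 2) :
    IsMultiplyPretransitive G Ω 2 := by
  have key : ∀ b : Ω, b ≠ a₀ → (Quotient.mk'' b : orbitRel.Quotient (stabilizer G a₀) Ω) ≠
      Quotient.mk'' a₀ := by
    intro b hb h
    rw [Quotient.eq''] at h
    obtain ⟨g, hg⟩ := h
    apply hb
    rw [← hg]
    exact g.2
  rw [is_two_pretransitive_iff]
  intro a b c d hab hcd
  obtain ⟨g₁, hg₁⟩ := exists_smul_eq G a a₀
  obtain ⟨g₂, hg₂⟩ := exists_smul_eq G c a₀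
  have h1 : g₁ • b ≠ a₀ := by
    intro h1
    apply hab
    rw [← hg₁] at h1
    exact (MulAction.injective g₁ h1).symm
  have h2 : g₂ • d ≠ a₀ := by
    intro h1
    apply hcd
    rw [← hg₂] at h1
    exact (MulAction.injective g₂ h1).symm
  have h3 : (Quotient.mk'' (g₂ • d) : orbitRel.Quotient (stabilizer G a₀) Ω) =
      Quotient.mk'' (g₁ • b) := by
    obtain ⟨u, v, huv, huniv⟩ := Nat.card_eq_two_iff.1 hrank
    have hall : ∀ z : orbitRel.Quotient (stabilizer G a₀) Ω, z = u ∨ z = v := by
      intro z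
      have : z ∈ ({u, v} : Set _) := by rw [huniv]; exact Set.mem_univ z
      exact this
    have k1 := key _ h1
    have k2 := key _ h2
    rcases hall (Quotient.mk'' a₀) with e0 | e0 <;> rcases hall (Quotient.mk'' (g₁ • b)) with e1 | e1 <;>
      rcases hall (Quotient.mk'' (g₂ • d)) with e2 | e2
    all_goals first
      | exact absurd (e1.trans e0.symm) k1
      | exact absurd (e2.trans e0.symm) k2
      | exact e2.trans e1.symm
  rw [Quotient.eq''] at h3
  obtain ⟨k, hk⟩ := h3
  have hk' : (k : G) • g₁ • b = g₂ • d := hk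
  refine ⟨g₂⁻¹ * k * g₁, ?_, ?_⟩
  · rw [mul_smul, mul_smul, hg₁, (show (k : G) • a₀ = a₀ from k.2), ← hg₂, inv_smul_smul]
  · rw [mul_smul, mul_smul, hk', inv_smul_smul]

/-- primitive groups of degree `4` are `2`-transitive -/
theorem two_trans_of_card_four {α : Type u} [Fintype α] [DecidableEq α]
    (hα : Fintype.card α = 4) (G : Subgroup (Equiv.Perm α))
    (hG : IsPreprimitive G α) (a₀ : α) : IsMultiplyPretransitive G α 2 := by
  haveI := hG.toIsPretransitive
  have hnp : ¬ (Nat.card α).Prime := by
    rw [Nat.card_eq_fintype_card, hα]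
    norm_num
  apply two_trans_of_stab a₀
  intro b c hb hc
  by_contra hcon
  push Not at hcon
  obtain ⟨h, hh, hhb⟩ := exists_moves hG hnp a₀ b hb
  obtain ⟨h', hh', hhc⟩ := exists_moves hG hnp a₀ c hc
  have hfix : ∀ k ∈ stabilizer G a₀, ∀ d : α, d ≠ a₀ → k • d ≠ a₀ := by
    intro k hk d hd hkd
    apply hd
    have : k • d = k • a₀ := by rw [hkd]; exact hk.symm
    exact MulAction.injective k this
  have e1 : b ≠ c := fun e => hcon 1 (one_smul _ _) (by rw [one_smul]; exact e)
  have e2 : h • b ≠ c := hcon h hh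
  have e3 : h • b ≠ a₀ := hfix h hh b hb
  have huniv : ({a₀, c, b, h • b} : Finset α) = Finset.univ := by
    apply Finset.eq_univ_of_card
    rw [hα, Finset.card_insert_of_notMem, Finset.card_insert_of_notMem, Finset.card_pair
      (Ne.symm hhb)]
    · simp only [Finset.mem_insert, Finset.mem_singleton, not_or]
      exact ⟨Ne.symm e1, Ne.symm e2⟩
    · simp only [Finset.mem_insert, Finset.mem_singleton, not_or]
      exact ⟨Ne.symm hc, Ne.symm hb, Ne.symm e3⟩
  have hmem : h' • c ∈ ({a₀, c, b, h • b} : Finset α) := by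
    rw [huniv]; exact Finset.mem_univ _
  simp only [Finset.mem_insert, Finset.mem_singleton] at hmem
  rcases hmem with hm | hm | hm | hm
  · exact hfix h' hh' c hc hm
  · exact hhc hm
  · apply hcon h'⁻¹ (inv_mem hh')
    rw [← hm, inv_smul_smul]
  · apply hcon (h'⁻¹ * h) (mul_mem (inv_mem hh') hh)
    rw [mul_smul, ← hm, inv_smul_smul]

end Prim

end Cfsg.Agent.H7W2p
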