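import Mathlib
import Cfsg.Agent.Lib.Helper7.Brn5
import Cfsg.Agent.Lib.Helper7.W2p1
import Cfsg.Agent.Lib.Helper3.SylowCount

set_option autoImplicit false
set_option maxHeartbeats 800000
set_option linter.unusedVariables false
set_option linter.unusedSectionVars false
set_option linter.style.haveILetI false

/-!
# Primitive groups of degree `2p` with Sylow normalizer of order `2p`, part 3

The `p`-singular elements of a group with a self-centralizing subgroup `⟨x⟩` of order `p`.
-/

namespace Cfsg.Agent.H7I2p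

open Subgroup Cfsg.Agent.H7Brauer
open scoped Pointwise

variable {G : Type*} [Group G] {p : ℕ} [hp : Fact p.Prime] {x : G}
variable (hx : orderOf x = p) (hself : ∀ g : G, g * x = x * g → g ∈ zpowers x)

include hx hself in
/-- a `p`-singular element is conjugate into `⟨x⟩ ∖ 1` -/
theorem exists_conj_of_dvd [Finite G] {g : G} (hg : p ∣ orderOf g) :
    ∃ k : G, k * g * k⁻¹ ∈ zpowers x ∧ k * g * k⁻¹ ≠ 1 := by
  obtain ⟨Q, hQ⟩ := exists_sylow_eq hx hself
  have hg1 : g ≠ 1 := by
    rintro rfl
    rw [orderOf_one] at hg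
    exact hp.out.one_lt.ne' (Nat.dvd_one.1 hg)
  set u := g ^ (orderOf g / p) with hu
  have hou : orderOf u = p := orderOf_pow_orderOf_div (orderOf_pos g).ne' hg
  have hu1 : u ≠ 1 := by
    intro h
    rw [h, orderOf_one] at hou
    exact hp.out.one_lt.ne hou
  have hZ : IsPGroup p (zpowers u) :=
    IsPGroup.of_card (n := 1) (by rw [Nat.card_zpowers, hou, pow_one])
  obtain ⟨R, hR⟩ := hZ.exists_le_sylow
  obtain ⟨k, hk⟩ := MulAction.exists_smul_eq G R Q
  have hmem : MulAut.conj k • u ∈ MulAut.conj k • (R : Subgroup G) :=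
    Subgroup.smul_mem_pointwise_smul _ _ _ (hR (mem_zpowers u))
  rw [← Sylow.coe_subgroup_smul, hk, hQ, MulAut.smul_def, MulAut.conj_apply] at hmem
  have hne : k * u * k⁻¹ ≠ 1 := by
    intro h
    apply hu1
    calc u = k⁻¹ * (k * u * k⁻¹) * k := by group
      _ = 1 := by rw [h]; group
  refine ⟨k, ?_, ?_⟩
  · apply hself
    apply commute_gen_of_commute hx hmem hne
    have hgu : g * u = u * g := by
      rw [hu]
      exact (Commute.pow_right (Commute.refl g) _).eq
    calc k * g * k⁻¹ * (k * u * k⁻¹) = k * (g * u) * k⁻¹ := by group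
      _ = k * (u * g) * k⁻¹ := by rw [hgu]
      _ = k * u * k⁻¹ * (k * g * k⁻¹) := by group
  · intro h
    apply hg1
    calc g = k⁻¹ * (k * g * k⁻¹) * k := by group
      _ = 1 := by rw [h]; group

include hx hself in
/-- `p`-singular elements have order `p` -/
theorem orderOf_eq_of_dvd [Finite G] {g : G} (hg : p ∣ orderOf g) : orderOf g = p := by
  obtain ⟨k, hk, hk1⟩ := exists_conj_of_dvd hx hself hg
  have h1 := Cfsg.Agent.H7W2p.orderOf_of_mem_zpowers hp.out hx hk hk1
  have h2 : orderOf (k * g * k⁻¹) = orderOf g := by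
    have := orderOf_injective (MulAut.conj k).toMonoidHom (MulAut.conj k).injective g
    simpa [MulAut.conj_apply] using this
  rw [← h2, h1]

include hx hself in
/-- the number of `p`-singular elements -/
theorem card_singular [Finite G] (hN : Nat.card (nrm x) = 2 * p) :
    2 * p * Nat.card {g : G // p ∣ orderOf g} + Nat.card G = p * Nat.card G := by
  obtain ⟨Q, hQ⟩ := exists_sylow_eq hx hself
  have hQc : Nat.card Q = p := by
    have : Nat.card (Q : Subgroup G) = Nat.card (zpowers x) := by rw [hQ]
    rw [Nat.card_zpowers, hx] at this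
    exact this
  have h1 := Cfsg.Agent.Lib.Helper3.card_orderOf_eq_prime Q hQc
  have h2 := card_sylow_mul_card_nrm hx hself
  rw [hN] at h2
  have h3 : Nat.card {g : G // p ∣ orderOf g} = Nat.card {g : G // orderOf g = p} :=
    Nat.card_congr (Equiv.subtypeEquivRight (fun g =>
      ⟨fun h => orderOf_eq_of_dvd hx hself h, fun h => by rw [h]⟩))
  rw [h3, h1]
  have hp1 : 1 ≤ p := hp.out.one_lt.le
  obtain ⟨r, hr⟩ : ∃ r, p = r + 1 := ⟨p - 1, by omega⟩
  rw [← h2]
  have : p - 1 = r := by omega
  rw [this, hr]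
  ring

end Cfsg.Agent.H7I2p
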