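import Mathlib
import Cfsg.Agent.Lib.Helper7.W2p2

set_option autoImplicit false
set_option maxHeartbeats 1600000
set_option linter.unusedSectionVars false
set_option linter.style.haveILetI false
set_option linter.unusedVariables false

/-!
# Wielandt's theorem on primitive groups of degree `2p`, part B2

With two classes of exceptional characters, the difference of the two exceptional characters
takes only the values `0` and `±g₀`, where `g₀` is a quadratic Gauss sum, `|g₀|² = p`.
-/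

namespace Cfsg.Agent.H7W2p

open Cfsg Cfsg.Agent.Lib.Helper8 Cfsg.Agent.Lib.Helper7
open scoped ComplexConjugate
open Cfsg.Agent.Lib.Helper1 Cfsg.Agent.Lib.Helper4

universe u

section

variable {G : Type u} [Group G] [Fintype G] {M : Ideal AlgInt} {p : ℕ} [Fact p.Prime]
  {x : G} {C : Subgroup G} [Fintype C] {b : Set (IrrCharacter C)} {B : Set (IrrCharacter G)}
  {θ : IrrCharacter C}

/-- every nontrivial `p`-th root of unity is the value at `x` of a nonprincipal character
in the block `b` -/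
theorem exists_om_eq (ctx : D1Ctx p M x C b B θ) {ζ : ℂ} (hζ : ζ ^ p = 1) (hζ1 : ζ ≠ 1) :
    ∃ ξ : ctx.Bn, d1om ctx.z ξ.1 = ζ := by
  classical
  have hp : p.Prime := Fact.out
  have hprim : ∀ ξ : ctx.Bn, IsPrimitiveRoot (d1om ctx.z ξ.1) p := fun ξ =>
    d1om_isPrimitiveRoot ctx.hM ctx.hzc ctx.hz ctx.hb ctx.hDb ctx.hθ ctx.hker ξ.2.1 ξ.2.2
  have hpos : 0 < p := hp.pos
  let f : ctx.Bn → {z : ℂ // z ∈ primitiveRoots p ℂ} := fun ξ =>
    ⟨d1om ctx.z ξ.1, (mem_primitiveRoots hpos).2 (hprim ξ)⟩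
  have hinj : Function.Injective f := by
    intro ξ ξ' h
    have h1 : d1om ctx.z ξ.1 = d1om ctx.z ξ'.1 := congrArg Subtype.val h
    exact Subtype.ext (d1om_injOn ctx.hM ctx.hzc ctx.hb ctx.hDb ξ.2.1 ξ'.2.1 h1)
  have hcard : Fintype.card ctx.Bn = Fintype.card {z : ℂ // z ∈ primitiveRoots p ℂ} := by
    rw [ctx.card_Bn, Fintype.card_coe]
    have hζp : IsPrimitiveRoot ζ p := by
      have := IsPrimitiveRoot.orderOf ζ
      rwa [orderOf_eq_prime hζ hζ1] at this
    rw [hζp.card_primitiveRoots, Nat.totient_prime hp]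
  have hbij := (Fintype.bijective_iff_injective_and_card f).2 ⟨hinj, hcard⟩
  have hζp : IsPrimitiveRoot ζ p := by
    have := IsPrimitiveRoot.orderOf ζ
    rwa [orderOf_eq_prime hζ hζ1] at this
  obtain ⟨ξ, hξ⟩ := hbij.2 ⟨ζ, (mem_primitiveRoots hpos).2 hζp⟩
  exact ⟨ξ, congrArg Subtype.val hξ⟩

/-- the Gaussian period of a class -/
noncomputable def period (ctx : D1Ctx p M x C b B θ) (q : ctx.Q) (k : ℕ) : ℂ :=
  ∑ η : ctx.Bn, if ctx.mkQ η = q then d1om ctx.z η.1 ^ k else 0

/-- with two classes, the periods add up to `-1` -/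
theorem period_add (ctx : D1Ctx p M x C b B θ) (q' q'' : ctx.Q) (hne : q' ≠ q'')
    (hall : ∀ q : ctx.Q, q = q' ∨ q = q'') {k : ℕ} (hk : ¬ p ∣ k) :
    period ctx q' k + period ctx q'' k = -1 := by
  rw [← ctx.sum_Bn_om_pow hk]
  unfold period
  rw [← Finset.sum_add_distrib]
  refine Finset.sum_congr rfl fun η _ => ?_
  rcases hall (ctx.mkQ η) with h | h
  · rw [if_pos h, if_neg (by rw [h]; exact hne), add_zero]
  · rw [if_pos h, if_neg (by rw [h]; exact hne.symm), zero_add]

/-- the power maps permute the two periods -/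
theorem period_pow (ctx : D1Ctx p M x C b B θ) (q' q'' : ctx.Q) (hne : q' ≠ q'')
    (hall : ∀ q : ctx.Q, q = q' ∨ q = q'') {k : ℕ} (hk : ¬ p ∣ k) :
    (period ctx q' k = period ctx q' 1 ∧ period ctx q'' k = period ctx q'' 1) ∨
    (period ctx q' k = period ctx q'' 1 ∧ period ctx q'' k = period ctx q' 1) := by
  have hp : p.Prime := Fact.out
  have h1 : ¬ p ∣ 1 := fun h => hp.one_lt.ne' (Nat.dvd_one.1 h)
  obtain ⟨ξ', hξ'⟩ := ctx.mkQ_surj q'
  have hprim := d1om_isPrimitiveRoot ctx.hM ctx.hzc ctx.hz ctx.hb ctx.hDb ctx.hθ ctx.hker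
    ξ'.2.1 ξ'.2.2
  have hζp : (d1om ctx.z ξ'.1 ^ k) ^ p = 1 := by
    rw [← pow_mul, mul_comm, pow_mul, ctx.om_pow_p, one_pow]
  have hζ1 : d1om ctx.z ξ'.1 ^ k ≠ 1 := by
    intro h
    exact hk ((hprim.pow_eq_one_iff_dvd k).1 h)
  obtain ⟨ξ₂, hξ₂⟩ := exists_om_eq ctx hζp hζ1
  have h2 := ctx.class_sum_pow ξ' ξ₂ k hξ₂ id
  simp only [id] at h2
  rw [hξ'] at h2
  have hA := period_add ctx q' q'' hne hall hk
  have hB := period_add ctx q' q'' hne hall h1
  have e1 : period ctx (ctx.mkQ ξ₂) 1 = period ctx q' k := by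
    unfold period
    simp only [pow_one]
    exact h2
  rcases hall (ctx.mkQ ξ₂) with h | h
  · left
    rw [h] at e1
    refine ⟨e1.symm, ?_⟩
    linear_combination hA - hB + e1
  · right
    rw [h] at e1
    refine ⟨e1.symm, ?_⟩
    linear_combination hA - hB + e1

/-- the periods at `0` -/
theorem period_zero (ctx : D1Ctx p M x C b B θ) (q : ctx.Q) : period ctx q 0 = ctx.e := by
  classical
  unfold period
  simp only [pow_zero]
  rw [← Finset.sum_filter, Finset.sum_const, br_card_class_eq ctx q, nsmul_eq_mul, mul_one]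

/-- the norm of the Gauss sum -/
theorem gauss_norm (ctx : D1Ctx p M x C b B θ) (q' q'' : ctx.Q) (hne : q' ≠ q'')
    (hall : ∀ q : ctx.Q, q = q' ∨ q = q'') :
    (period ctx q' 1 - period ctx q'' 1) * conj (period ctx q' 1 - period ctx q'' 1) = p := by
  classical
  have hp : p.Prime := Fact.out
  set σ : ctx.Bn → ℂ := fun η => if ctx.mkQ η = q' then 1 else -1 with hσ
  have hσc : ∀ η, conj (σ η) = σ η := by
    intro η
    rw [hσ]
    show conj (if ctx.mkQ η = q' then (1 : ℂ) else -1) = if ctx.mkQ η = q' then (1 : ℂ) else -1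
    split_ifs <;> simp
  have hσ2 : ∀ η, σ η * σ η = 1 := by
    intro η
    rw [hσ]
    show (if ctx.mkQ η = q' then (1 : ℂ) else -1) * (if ctx.mkQ η = q' then (1 : ℂ) else -1) = 1
    split_ifs <;> norm_num
  set Fk : ℕ → ℂ := fun k => period ctx q' k - period ctx q'' k with hFk
  have hF : ∀ k, Fk k = ∑ η : ctx.Bn, σ η * d1om ctx.z η.1 ^ k := by
    intro k
    rw [hFk]
    show period ctx q' k - period ctx q'' k = _
    unfold period
    rw [← Finset.sum_sub_distrib]
    refine Finset.sum_congr rfl fun η _ => ?_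
    rw [hσ]
    show _ = (if ctx.mkQ η = q' then (1 : ℂ) else -1) * d1om ctx.z η.1 ^ k
    rcases hall (ctx.mkQ η) with h | h
    · rw [if_pos h, if_neg (by rw [h]; exact hne), if_pos h, sub_zero, one_mul]
    · rw [if_pos h, if_neg (by rw [h]; exact hne.symm), if_neg (by rw [h]; exact hne.symm)]
      ring
  have hsum : ∑ k ∈ Finset.range p, Fk k * conj (Fk k) = (p : ℂ) * ((p : ℂ) - 1) := by
    have e1 : ∀ k, Fk k * conj (Fk k) = ∑ η : ctx.Bn, ∑ η' : ctx.Bn,
        σ η * σ η' * (d1om ctx.z η.1 ^ k * conj (d1om ctx.z η'.1 ^ k)) := by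
      intro k
      rw [hF k, map_sum, Finset.sum_mul_sum]
      refine Finset.sum_congr rfl fun η _ => Finset.sum_congr rfl fun η' _ => ?_
      rw [map_mul, hσc]
      ring
    simp only [e1]
    rw [Finset.sum_comm]
    have e2 : ∀ η : ctx.Bn, ∑ k ∈ Finset.range p, ∑ η' : ctx.Bn,
        σ η * σ η' * (d1om ctx.z η.1 ^ k * conj (d1om ctx.z η'.1 ^ k)) = (p : ℂ) := by
      intro η
      rw [Finset.sum_comm]
      have e3 : ∀ η' : ctx.Bn, ∑ k ∈ Finset.range p,
          σ η * σ η' * (d1om ctx.z η.1 ^ k * conj (d1om ctx.z η'.1 ^ k)) =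
          if η' = η then (p : ℂ) else 0 := by
        intro η'
        rw [← Finset.mul_sum, d1_sum_range_om ctx.hM ctx.hzc ctx.hz ctx.hb ctx.hDb η.2.1 η'.2.1]
        by_cases h : η' = η
        · rw [if_pos h, if_pos (by rw [h]), h, hσ2, one_mul]
        · rw [if_neg h, if_neg (fun h' => h (Subtype.ext h'.symm)), mul_zero]
      simp only [e3]
      rw [Finset.sum_ite_eq' Finset.univ η, if_pos (Finset.mem_univ η)]
    simp only [e2]
    rw [Finset.sum_const, Finset.card_univ, ctx.card_Bn, nsmul_eq_mul, Nat.cast_sub hp.one_lt.le]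
    push_cast
    ring
  have hF0 : Fk 0 = 0 := by
    rw [hFk]
    show period ctx q' 0 - period ctx q'' 0 = 0
    rw [period_zero, period_zero, sub_self]
  have hFkk : ∀ k ∈ (Finset.range p).erase 0, Fk k * conj (Fk k) = Fk 1 * conj (Fk 1) := by
    intro k hk
    rw [Finset.mem_erase, Finset.mem_range] at hk
    have hk' : ¬ p ∣ k := fun h => by
      have := Nat.le_of_dvd (Nat.pos_of_ne_zero hk.1) h
      omega
    rw [hFk]
    show (period ctx q' k - period ctx q'' k) * conj (period ctx q' k - period ctx q'' k) =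
      (period ctx q' 1 - period ctx q'' 1) * conj (period ctx q' 1 - period ctx q'' 1)
    rcases period_pow ctx q' q'' hne hall hk' with ⟨h1, h2⟩ | ⟨h1, h2⟩
    · rw [h1, h2]
    · rw [h1, h2]
      have : period ctx q'' 1 - period ctx q' 1 = -(period ctx q' 1 - period ctx q'' 1) := by ring
      rw [this, map_neg]
      ring
  rw [← Finset.add_sum_erase (Finset.range p) _ (Finset.mem_range.2 hp.pos), hF0, zero_mul, zero_add,
    Finset.sum_congr rfl hFkk, Finset.sum_const, Finset.card_erase_of_mem (Finset.mem_range.2 hp.pos),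
    Finset.card_range, nsmul_eq_mul, Nat.cast_sub hp.one_lt.le] at hsum
  have hp1 : ((p : ℂ) - 1) ≠ 0 := by
    intro h
    have h2 : (p : ℂ) = 1 := by linear_combination h
    have h3 : (p : ℕ) = 1 := by exact_mod_cast h2
    exact hp.one_lt.ne' h3
  have hfin : Fk 1 * conj (Fk 1) = p := by
    push_cast at hsum
    have : ((p : ℂ) - 1) * (Fk 1 * conj (Fk 1)) = ((p : ℂ) - 1) * p := by
      rw [hsum]; ring
    exact mul_left_cancel₀ hp1 this
  exact hfin

end

section

variable {G : Type u} [Group G] [Fintype G] {M : Ideal AlgInt} {p : ℕ} [Fact p.Prime]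
  {x : G} {C : Subgroup G} [Fintype C] {b : Set (IrrCharacter C)} {B : Set (IrrCharacter G)}

/-- the values on `⟨x⟩` of an exceptional character not containing the trivial character -/
theorem exc_apply_pow {ε : ℤ} {W : IrrCharacter G → ℤ} {ctx : D1Ctx p M x C b B (trivIrr C)}
    {a : ctx.Q → IrrCharacter G} (S : ctx.Str ε W a)
    (hself : ∀ t : G, t * x = x * t → t ∈ Subgroup.zpowers x) (q : ctx.Q) (hε : ε = 1)
    (hT : d1m C (a q) (trivIrr C) = 0) (k : ℕ) :
    (a q : G → ℂ) (x ^ k) =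
      ∑ ξ : ctx.Bn, if ctx.mkQ ξ = q then d1om ctx.z ξ.1 ^ k else 0 := by
  classical
  have : Fintype (IrrCharacter C) := Fintype.ofFinite _
  have h1 := d1_restrict_expansion C (a q) (ctx.z ^ k)
  have hz : ((ctx.z ^ k : C) : G) = x ^ k := by
    rw [Subgroup.coe_pow]
    rfl
  rw [hz] at h1
  rw [h1]
  have hval : ∀ ξ : IrrCharacter C, (ξ : C → ℂ) (ctx.z ^ k) = d1om ctx.z ξ ^ k := by
    intro ξ
    rw [d1om_pow_apply ctx.hzc ξ k, br_principal_linear ctx (mem_b ctx hself ξ), mul_one]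
  simp only [hval]
  have h2 := ctx.sum_b_eq (fun ξ => (d1m C (a q) ξ : ℂ) * d1om ctx.z ξ ^ k)
  rw [Finset.sum_congr rfl (fun ξ _ => if_pos (mem_b ctx hself ξ))] at h2
  rw [h2, hT, Nat.cast_zero, zero_mul, zero_add]
  refine Finset.sum_congr rfl fun ξ _ => ?_
  have h3 := mult_exc S q ξ
  rw [hT, hε] at h3
  by_cases h : ctx.mkQ ξ = q
  · rw [if_pos h] at h3 ⊢
    have : d1m C (a q) ξ.1 = 1 := by
      have : (d1m C (a q) ξ.1 : ℤ) = 1 := by rw [h3]; simp
      exact_mod_cast this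
    rw [this, Nat.cast_one, one_mul]
  · rw [if_neg h] at h3 ⊢
    have : d1m C (a q) ξ.1 = 0 := by
      have : (d1m C (a q) ξ.1 : ℤ) = 0 := by rw [h3]; simp
      exact_mod_cast this
    rw [this, Nat.cast_zero, zero_mul]

/-- the difference of the two exceptional characters takes the values `0`, `±g₀` with
`|g₀|² = p` -/
theorem exc_diff {ε : ℤ} {W : IrrCharacter G → ℤ} {ctx : D1Ctx p M x C b B (trivIrr C)}
    {a : ctx.Q → IrrCharacter G} (S : ctx.Str ε W a)
    (hself : ∀ t : G, t * x = x * t → t ∈ Subgroup.zpowers x) (q' q'' : ctx.Q) (hne : q' ≠ q'')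
    (hall : ∀ q : ctx.Q, q = q' ∨ q = q'') (hε : ε = 1)
    (hT' : d1m C (a q') (trivIrr C) = 0) (hT'' : d1m C (a q'') (trivIrr C) = 0) :
    ∃ g₀ : ℂ, g₀ * conj g₀ = p ∧ ∀ g : G,
      (a q' : G → ℂ) g - (a q'' : G → ℂ) g = 0 ∨ (a q' : G → ℂ) g - (a q'' : G → ℂ) g = g₀ ∨
      (a q' : G → ℂ) g - (a q'' : G → ℂ) g = -g₀ := by
  have hp : p.Prime := Fact.out
  refine ⟨period ctx q' 1 - period ctx q'' 1, gauss_norm ctx q' q'' hne hall, ?_⟩
  intro g
  by_cases hg : p ∣ orderOf g
  · right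
    obtain ⟨t, u, y, htg, hu, hu1, hy⟩ := ctx.exists_conj_decomp hg
    have hy1 : y = 1 := by
      have h1 : orderOf y ∣ p := by
        rw [← card_C ctx hself]
        exact orderOf_dvd_natCard y
      rcases (Nat.dvd_prime hp).1 h1 with h | h
      · exact orderOf_eq_one_iff.1 h
      · exact absurd (by rw [h]) hy
    obtain ⟨k, hk, huk⟩ := ctx.exists_pow_of_mem hu hu1
    have hconj : t * g * t⁻¹ = x ^ k := by
      rw [htg, hy1, huk, Subgroup.coe_one, mul_one, Subgroup.coe_pow]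
      rfl
    have hv' : (a q' : G → ℂ) g = period ctx q' k := by
      rw [← isClassFunction_irr (a q').2 g t, hconj, exc_apply_pow S hself q' hε hT' k]
      rfl
    have hv'' : (a q'' : G → ℂ) g = period ctx q'' k := by
      rw [← isClassFunction_irr (a q'').2 g t, hconj, exc_apply_pow S hself q'' hε hT'' k]
      rfl
    rw [hv', hv'']
    rcases period_pow ctx q' q'' hne hall hk with ⟨h1, h2⟩ | ⟨h1, h2⟩
    · left
      rw [h1, h2]
    · right
      rw [h1, h2]
      ring
  · left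
    rw [S.exc_agree q' q'' hg, sub_self]

end

end Cfsg.Agent.H7W2p
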