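import Mathlib
import Cfsg.Agent.Lib.Helper2.PermChar8
import Cfsg.Agent.Lib.Helper7.W2p1

set_option autoImplicit false
set_option maxHeartbeats 1600000
set_option linter.unusedSectionVars false
set_option linter.style.haveILetI false
set_option linter.unusedVariables false
set_option linter.unusedSimpArgs false

/-!
# Wielandt's theorem on primitive groups of degree `2p`, part B3

A primitive group of degree `2p` cannot have permutation character `1 + χ₀ + χ₁ + χ₂` with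
`χ₀(1) = p`, `χ₁(1) = χ₂(1) = (p - 1) / 2` and `χ₁ - χ₂` taking only the values `0, ±g₀`,
`|g₀|² = p`.
-/

namespace Cfsg.Agent.H7W2p

open scoped ComplexConjugate
open Cfsg.Agent.Lib.Helper1 Cfsg.Agent.Lib.Helper4 Cfsg.Agent.Lib.Helper8
open Cfsg.Agent.Lib.Helper2.PermChar

theorem sum_four {ι : Type*} [Fintype ι] [DecidableEq ι] (F : ι → ℂ) (a b c d : ι) (hab : a ≠ b)
    (hac : a ≠ c) (had : a ≠ d) (hbc : b ≠ c) (hbd : b ≠ d) (hcd : c ≠ d)
    (hF : ∀ x, x ≠ a → x ≠ b → x ≠ c → x ≠ d → F x = 0) :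
    ∑ x, F x = F a + F b + F c + F d := by
  have hsub : ({a, b, c, d} : Finset ι) ⊆ Finset.univ := Finset.subset_univ _
  rw [← Finset.sum_subset hsub]
  · rw [Finset.sum_insert, Finset.sum_insert, Finset.sum_insert, Finset.sum_singleton]
    · ring
    · simpa using hcd
    · simp [hbc, hbd]
    · simp [hab, hac, had]
  · intro x _ hx
    simp only [Finset.mem_insert, Finset.mem_singleton, not_or] at hx
    exact hF x hx.1 hx.2.1 hx.2.2.1 hx.2.2.2

/-- the arithmetic of a nontrivial suborbit in case (B) -/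
theorem local_arith {p h : ℕ} (hp : p.Prime) (hph : p = 2 * h + 1) (hh : 1 ≤ h) (n : ℕ)
    (hn : 2 ≤ n) (θ k ρ : ℤ) (h1 : (n : ℤ) + θ = h * k)
    (h2 : (h : ℤ) * ρ ^ 2 = h * k * (4 - k) - 4 * θ * (θ + 1)) (h3 : Odd k → ρ ≠ 0) :
    2 ≤ k := by
  by_contra hk
  push Not at hk
  have hhz : (1 : ℤ) ≤ h := by exact_mod_cast hh
  have hθ : 0 ≤ θ * (θ + 1) := by
    rcases le_or_gt 0 θ with h0 | h0
    · exact mul_nonneg h0 (by linarith)
    · exact mul_nonneg_of_nonpos_of_nonpos (by linarith) (by linarith)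
  have hρ : 0 ≤ ρ ^ 2 := sq_nonneg ρ
  have hk0 : 0 ≤ k := by
    by_contra hneg
    push Not at hneg
    have : (h : ℤ) * k * (4 - k) < 0 := by
      have : (h : ℤ) * k < 0 := mul_neg_of_pos_of_neg (by linarith) hneg
      exact mul_neg_of_neg_of_pos this (by linarith)
    have : (0 : ℤ) ≤ h * ρ ^ 2 := mul_nonneg (by linarith) hρ
    linarith
  have hk01 : k = 0 ∨ k = 1 := by omega
  rcases hk01 with rfl | rfl
  · -- `k = 0`
    have e : (h : ℤ) * ρ ^ 2 = -4 * (θ * (θ + 1)) := by linarith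
    have : (0 : ℤ) ≤ h * ρ ^ 2 := mul_nonneg (by linarith) hρ
    have hθ0 : θ * (θ + 1) = 0 := by linarith
    rcases mul_eq_zero.1 hθ0 with h0 | h0
    · rw [h0] at h1
      have : (n : ℤ) = 0 := by linarith
      have : n = 0 := by exact_mod_cast this
      omega
    · have hθ1 : θ = -1 := by linarith
      rw [hθ1] at h1
      have : (n : ℤ) = 1 := by linarith
      have : n = 1 := by exact_mod_cast this
      omega
  · -- `k = 1`
    have hρ0 : ρ ≠ 0 := h3 (by decide)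
    have e : (h : ℤ) * ρ ^ 2 = 3 * h - 4 * (θ * (θ + 1)) := by linarith
    have hρ1 : 1 ≤ ρ ^ 2 := by
      have : 0 < ρ ^ 2 := by positivity
      linarith
    have hρ3 : ρ ^ 2 ≤ 3 := by
      by_contra hcon
      push Not at hcon
      have : (h : ℤ) * 4 ≤ h * ρ ^ 2 := mul_le_mul_of_nonneg_left (by linarith) (by linarith)
      linarith
    have hρsq : ρ ^ 2 = 1 := by
      have habs : ρ.natAbs ≤ 1 := by
        by_contra hcon
        push Not at hcon
        have : (2 : ℤ) ≤ |ρ| := by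
          rw [Int.abs_eq_natAbs]
          exact_mod_cast hcon
        have h4 : (4 : ℤ) ≤ |ρ| ^ 2 := by nlinarith
        rw [sq_abs] at h4
        linarith
      have : ρ = 1 ∨ ρ = -1 := by omega
      rcases this with h | h <;> rw [h] <;> norm_num
    rw [hρsq, mul_one] at e
    have hsq : (p : ℤ) = (2 * θ + 1) * (2 * θ + 1) := by
      rw [hph]
      push_cast
      linarith
    have hpi : Prime (p : ℤ) := Nat.prime_iff_prime_int.1 hp
    exact hpi.not_isSquare ⟨2 * θ + 1, hsq⟩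

/-- a rational number whose square times `p` is an integer is an integer -/
theorem rat_int_of_prime_mul_sq {p : ℕ} (hp : p.Prime) (r : ℚ) (K : ℤ)
    (h : (p : ℚ) * r ^ 2 = K) : ∃ ρ : ℤ, r = ρ := by
  have hp0 : (p : ℚ) ≠ 0 := Nat.cast_ne_zero.2 hp.ne_zero
  have h1 : ((p : ℚ) * r) ^ 2 = ((p * K : ℤ) : ℚ) := by
    push_cast
    rw [← h]
    ring
  have h2 : IsIntegral ℤ ((p : ℚ) * r) := by
    apply IsIntegral.of_pow (n := 2) (by norm_num)
    rw [h1]
    exact isIntegral_algebraMap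
  obtain ⟨y, hy⟩ := IsIntegrallyClosed.isIntegral_iff.1 h2
  have hy' : ((y : ℤ) : ℚ) = (p : ℚ) * r := hy
  have h3 : y ^ 2 = p * K := by
    have : ((y ^ 2 : ℤ) : ℚ) = ((p * K : ℤ) : ℚ) := by
      push_cast
      rw [hy']
      push_cast at h1
      exact h1
    exact_mod_cast this
  have hpi : Prime (p : ℤ) := Nat.prime_iff_prime_int.1 hp
  have h4 : (p : ℤ) ∣ y := hpi.dvd_of_dvd_pow ⟨K, h3⟩
  obtain ⟨ρ, hρ⟩ := h4
  refine ⟨ρ, ?_⟩
  have : (p : ℚ) * r = (p : ℚ) * ρ := by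
    rw [← hy', hρ]
    push_cast
    ring
  exact mul_left_cancel₀ hp0 this

section suborbits

variable {G : Type*} [Group G] [Fintype G] {Ω : Type*} [Fintype Ω] [MulAction G Ω]

open Classical in
/-- summing the inverse orbit lengths over an orbit gives `1` -/
theorem sum_inv_orbit (H : Subgroup G) (c : Ω) :
    ∑ b : Ω, (if b ∈ MulAction.orbit H c then (Nat.card (MulAction.orbit H b) : ℂ)⁻¹ else 0) =
      1 := by
  classical
  have h1 : ∀ b : Ω, (if b ∈ MulAction.orbit H c then (Nat.card (MulAction.orbit H b) : ℂ)⁻¹ else 0)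
      = if b ∈ MulAction.orbit H c then (Nat.card (MulAction.orbit H c) : ℂ)⁻¹ else 0 := by
    intro b
    by_cases h : b ∈ MulAction.orbit H c
    · rw [if_pos h, if_pos h, MulAction.orbit_eq_iff.2 h]
    · rw [if_neg h, if_neg h]
  simp only [h1]
  rw [← Finset.sum_filter, Finset.sum_const, nsmul_eq_mul]
  have h2 : (Finset.univ.filter (fun b : Ω => b ∈ MulAction.orbit H c)).card =
      Nat.card (MulAction.orbit H c) := by
    rw [Nat.card_eq_fintype_card, Fintype.card_subtype]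
  rw [h2]
  have h3 : (Nat.card (MulAction.orbit H c) : ℂ) ≠ 0 := by
    have : Nonempty (MulAction.orbit H c) := ⟨⟨c, MulAction.mem_orbit_self c⟩⟩
    exact Nat.cast_ne_zero.2 Nat.card_pos.ne'
  exact mul_inv_cancel₀ h3

/-- the number of orbits as a sum of inverse orbit lengths -/
theorem sum_inv_card_orbit (H : Subgroup G) :
    ∑ b : Ω, (Nat.card (MulAction.orbit H b) : ℂ)⁻¹ =
      (Nat.card (MulAction.orbitRel.Quotient H Ω) : ℂ) := by
  classical
  have : Fintype (MulAction.orbitRel.Quotient H Ω) := Fintype.ofFinite _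
  rw [← Finset.sum_fiberwise Finset.univ
    (fun b : Ω => (Quotient.mk'' b : MulAction.orbitRel.Quotient H Ω))
    (fun b => (Nat.card (MulAction.orbit H b) : ℂ)⁻¹)]
  have h1 : ∀ q : MulAction.orbitRel.Quotient H Ω,
      ∑ b ∈ Finset.univ.filter (fun b : Ω =>
        (Quotient.mk'' b : MulAction.orbitRel.Quotient H Ω) = q),
        (Nat.card (MulAction.orbit H b) : ℂ)⁻¹ = 1 := by
    intro q
    induction q using Quotient.inductionOn' with
    | h c =>
      rw [Finset.sum_filter, ← sum_inv_orbit H c]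
      refine Finset.sum_congr rfl fun b _ => ?_
      have : ((Quotient.mk'' b : MulAction.orbitRel.Quotient H Ω) = Quotient.mk'' c) ↔
          b ∈ MulAction.orbit H c := by
        rw [Quotient.eq'']
        exact MulAction.orbitRel_apply
      simp only [this]
  rw [Finset.sum_congr rfl (fun q _ => h1 q), Finset.sum_const, Finset.card_univ, nsmul_eq_mul,
    mul_one, Nat.card_eq_fintype_card]

/-- a weighted sum of the `cc` over all suborbits gives the sum over the group -/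
theorem sum_inv_cc (a₀ : Ω) (φ : G → ℂ) :
    ∑ b : Ω, (Nat.card (MulAction.orbit (MulAction.stabilizer G a₀) b) : ℂ)⁻¹ *
        cc (MulAction.stabilizer G a₀) (suborbitSet a₀ b) φ =
      (Nat.card (MulAction.stabilizer G a₀) : ℂ)⁻¹ * ∑ x : G, φ x := by
  classical
  unfold cc
  have h1 : ∀ b : Ω, (Nat.card (MulAction.orbit (MulAction.stabilizer G a₀) b) : ℂ)⁻¹ *
      ((Nat.card (MulAction.stabilizer G a₀) : ℂ)⁻¹ *
        ∑ x : G, (if x ∈ suborbitSet a₀ b then φ x else 0)) =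
      (Nat.card (MulAction.stabilizer G a₀) : ℂ)⁻¹ * ∑ x : G,
        (if b ∈ MulAction.orbit (MulAction.stabilizer G a₀) (x • a₀) then
          (Nat.card (MulAction.orbit (MulAction.stabilizer G a₀) b) : ℂ)⁻¹ else 0) * φ x := by
    intro b
    rw [mul_left_comm, Finset.mul_sum]
    congr 1
    refine Finset.sum_congr rfl fun x _ => ?_
    have : x ∈ suborbitSet a₀ b ↔ b ∈ MulAction.orbit (MulAction.stabilizer G a₀) (x • a₀) := by
      show x • a₀ ∈ MulAction.orbit (MulAction.stabilizer G a₀) b ↔ _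
      rw [← MulAction.orbit_eq_iff, ← MulAction.orbit_eq_iff, eq_comm]
    by_cases h : x ∈ suborbitSet a₀ b
    · rw [if_pos h, if_pos (this.1 h)]
    · rw [if_neg h, if_neg (fun h' => h (this.2 h')), mul_zero, zero_mul]
  rw [Finset.sum_congr rfl (fun b _ => h1 b), ← Finset.mul_sum, Finset.sum_comm]
  congr 1
  refine Finset.sum_congr rfl fun x _ => ?_
  rw [← Finset.sum_mul, sum_inv_orbit, one_mul]

end suborbits

section global

variable {G : Type*} [Group G] [Fintype G] {Ω : Type*} [Fintype Ω] [MulAction G Ω]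
  [MulAction.IsPretransitive G Ω]

/-- the basic equations for the eigenvalues of a suborbit in case (B) -/
theorem eigen_eqs {p h : ℕ} (hph : p = 2 * h + 1) (hh : 1 ≤ h) (hm : Fintype.card Ω = 2 * p) (a₀ : Ω)
    (χ₀ χ₁ χ₂ : G → ℂ) (h₀ : Cfsg.IsIrrCharacter G χ₀) (h₁ : Cfsg.IsIrrCharacter G χ₁)
    (h₂ : Cfsg.IsIrrCharacter G χ₂)
    (hπ : (fun g : G => (Nat.card (MulAction.fixedBy Ω g) : ℂ)) =
      fun g => 1 + χ₀ g + χ₁ g + χ₂ g)
    (hd₀ : χ₀ 1 = p) (hd₁ : χ₁ 1 = h) (hd₂ : χ₂ 1 = h) (hne12 : χ₁ ≠ χ₂)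
    (hne1 : χ₁ ≠ fun _ => 1) (hne2 : χ₂ ≠ fun _ => 1) (b : Ω) (hb : b ≠ a₀) :
    (Nat.card (MulAction.orbit (MulAction.stabilizer G a₀) b) : ℂ) +
        (p : ℂ) * cc (MulAction.stabilizer G a₀) (suborbitSet a₀ b) χ₀ +
        (h : ℂ) * cc (MulAction.stabilizer G a₀) (suborbitSet a₀ b) χ₁ +
        (h : ℂ) * cc (MulAction.stabilizer G a₀) (suborbitSet a₀ b) χ₂ = 0 ∧
    (Nat.card (MulAction.orbit (MulAction.stabilizer G a₀) b) : ℂ) *
        (Nat.card (MulAction.orbit (MulAction.stabilizer G a₀) b) : ℂ) +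
        (p : ℂ) * (cc (MulAction.stabilizer G a₀) (suborbitSet a₀ b) χ₀ *
          conj (cc (MulAction.stabilizer G a₀) (suborbitSet a₀ b) χ₀)) +
        (h : ℂ) * (cc (MulAction.stabilizer G a₀) (suborbitSet a₀ b) χ₁ *
          conj (cc (MulAction.stabilizer G a₀) (suborbitSet a₀ b) χ₁)) +
        (h : ℂ) * (cc (MulAction.stabilizer G a₀) (suborbitSet a₀ b) χ₂ *
          conj (cc (MulAction.stabilizer G a₀) (suborbitSet a₀ b) χ₂)) =
      2 * (p : ℂ) * (Nat.card (MulAction.orbit (MulAction.stabilizer G a₀) b) : ℂ) ∧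
    ∃ t : ℤ, cc (MulAction.stabilizer G a₀) (suborbitSet a₀ b) χ₀ +
      cc (MulAction.stabilizer G a₀) (suborbitSet a₀ b) χ₁ +
      cc (MulAction.stabilizer G a₀) (suborbitSet a₀ b) χ₂ = (t : ℂ) := by
  classical
  let _ : Fintype (Cfsg.IrrCharacter G) := Fintype.ofFinite _
  set H : Subgroup G := MulAction.stabilizer G a₀ with hH
  set k : ℕ := Nat.card (MulAction.orbit H b) with hk
  set D : Set G := suborbitSet a₀ b with hD
  have hc : (Nat.card H : ℂ) ≠ 0 := Nat.cast_ne_zero.2 Nat.card_pos.ne'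
  have hDr : ∀ x h, h ∈ H → (x * h ∈ D ↔ x ∈ D) := suborbitSet_right a₀ b
  have hDl : ∀ x h, h ∈ H → (h * x ∈ D ↔ x ∈ D) := suborbitSet_left a₀ b
  have h1D : (1 : G) ∉ D := one_notMem_suborbitSet a₀ b hb
  obtain ⟨hDr', hDl'⟩ := inv_biinv H D hDr hDl
  have hirr1 : Cfsg.IsIrrCharacter G (fun _ => (1 : ℂ)) := isIrrCharacter_of_hom (1 : G →* ℂˣ)
  set Xt : Cfsg.IrrCharacter G := ⟨fun _ => 1, hirr1⟩ with hXt
  set X₀ : Cfsg.IrrCharacter G := ⟨χ₀, h₀⟩ with hX₀
  set X₁ : Cfsg.IrrCharacter G := ⟨χ₁, h₁⟩ with hX₁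
  set X₂ : Cfsg.IrrCharacter G := ⟨χ₂, h₂⟩ with hX₂
  have hπ' : (fun g : G => (Nat.card (MulAction.fixedBy Ω g) : ℂ)) =
      (fun _ => (1 : ℂ)) + χ₀ + χ₁ + χ₂ := by
    rw [hπ]
    funext g
    simp only [Pi.add_apply]
  have hinner : ∀ ψ : Cfsg.IrrCharacter G,
      Cfsg.classInner (fun g : G => (Nat.card (MulAction.fixedBy Ω g) : ℂ)) (ψ : G → ℂ) =
        (if (fun _ => (1 : ℂ)) = (ψ : G → ℂ) then 1 else 0) +
          (if χ₀ = (ψ : G → ℂ) then 1 else 0) + (if χ₁ = (ψ : G → ℂ) then 1 else 0) +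
          (if χ₂ = (ψ : G → ℂ) then 1 else 0) := by
    intro ψ
    rw [hπ', classInner_add_left, classInner_add_left, classInner_add_left,
      classInner_irr hirr1 ψ.2, classInner_irr h₀ ψ.2, classInner_irr h₁ ψ.2,
      classInner_irr h₂ ψ.2]
  have hne0 : χ₀ ≠ fun _ => 1 := by
    intro hcon
    rw [hcon] at hd₀
    have : ((1 : ℕ) : ℂ) = (p : ℂ) := by simpa using hd₀
    have : 1 = p := by exact_mod_cast this
    omega
  have hne01 : χ₀ ≠ χ₁ := by
    intro hcon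
    rw [hcon, hd₁] at hd₀
    have : h = p := by exact_mod_cast hd₀
    omega
  have hne02 : χ₀ ≠ χ₂ := by
    intro hcon
    rw [hcon, hd₂] at hd₀
    have : h = p := by exact_mod_cast hd₀
    omega
  have nt0 : Xt ≠ X₀ := fun h => hne0 (congrArg Subtype.val h).symm
  have nt1 : Xt ≠ X₁ := fun h => hne1 (congrArg Subtype.val h).symm
  have nt2 : Xt ≠ X₂ := fun h => hne2 (congrArg Subtype.val h).symm
  have n01 : X₀ ≠ X₁ := fun h => hne01 (congrArg Subtype.val h)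
  have n02 : X₀ ≠ X₂ := fun h => hne02 (congrArg Subtype.val h)
  have n12 : X₁ ≠ X₂ := fun h => hne12 (congrArg Subtype.val h)
  have hcc : ∀ ψ : Cfsg.IrrCharacter G,
      Cfsg.classInner (fun g : G => (Nat.card (MulAction.fixedBy Ω g) : ℂ)) (ψ : G → ℂ) =
        conj (cc H (H : Set G) (ψ : G → ℂ)) :=
    fun ψ => classInner_permChar_eq_cc a₀ (ψ : G → ℂ) (isClassFunction_irr ψ.2)
  have hccH : ∀ ψ : Cfsg.IrrCharacter G, cc H (H : Set G) (ψ : G → ℂ) =
      (if (fun _ => (1 : ℂ)) = (ψ : G → ℂ) then 1 else 0) +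
          (if χ₀ = (ψ : G → ℂ) then 1 else 0) + (if χ₁ = (ψ : G → ℂ) then 1 else 0) +
          (if χ₂ = (ψ : G → ℂ) then 1 else 0) := by
    intro ψ
    have := (hcc ψ).symm.trans (hinner ψ)
    have h2 := congrArg conj this
    rw [Complex.conj_conj] at h2
    rw [h2]
    split_ifs <;> simp
  have hother : ∀ ψ : Cfsg.IrrCharacter G, ψ ≠ Xt → ψ ≠ X₀ → ψ ≠ X₁ → ψ ≠ X₂ →
      cc H (H : Set G) (ψ : G → ℂ) = 0 := by
    intro ψ n0 n1 n2 n3
    rw [hccH, if_neg, if_neg, if_neg, if_neg]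
    · ring
    · exact fun h => n3 (Subtype.ext h.symm)
    · exact fun h => n2 (Subtype.ext h.symm)
    · exact fun h => n1 (Subtype.ext h.symm)
    · exact fun h => n0 (Subtype.ext h.symm)
  have hcct : cc H (H : Set G) (Xt : G → ℂ) = 1 := by
    rw [hccH]
    have e2 : (Xt : G → ℂ) = fun _ => (1 : ℂ) := rfl
    rw [e2, if_pos rfl, if_neg hne0, if_neg hne1, if_neg hne2]
    ring
  have hcc0 : cc H (H : Set G) (X₀ : G → ℂ) = 1 := by
    rw [hccH]
    have e2 : (X₀ : G → ℂ) = χ₀ := rfl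
    rw [e2, if_pos rfl, if_neg (Ne.symm hne0), if_neg (Ne.symm hne01), if_neg (Ne.symm hne02)]
    ring
  have hcc1 : cc H (H : Set G) (X₁ : G → ℂ) = 1 := by
    rw [hccH]
    have e2 : (X₁ : G → ℂ) = χ₁ := rfl
    rw [e2, if_pos rfl, if_neg (Ne.symm hne1), if_neg hne01, if_neg (Ne.symm hne12)]
    ring
  have hcc2 : cc H (H : Set G) (X₂ : G → ℂ) = 1 := by
    rw [hccH]
    have e2 : (X₂ : G → ℂ) = χ₂ := rfl
    rw [e2, if_pos rfl, if_neg (Ne.symm hne2), if_neg hne02, if_neg hne12]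
    ring
  have hmf : ∀ ψ : Cfsg.IrrCharacter G, cc H (H : Set G) (ψ : G → ℂ) = 0 ∨
      cc H (H : Set G) (ψ : G → ℂ) = 1 := by
    intro ψ
    by_cases n0 : ψ = Xt
    · right; rw [n0]; exact hcct
    by_cases n1 : ψ = X₀
    · right; rw [n1]; exact hcc0
    by_cases n2 : ψ = X₁
    · right; rw [n2]; exact hcc1
    by_cases n3 : ψ = X₂
    · right; rw [n3]; exact hcc2
    left
    exact hother ψ n0 n1 n2 n3
  have hck : cc H D (Xt : G → ℂ) = (k : ℂ) := cc_one_suborbitSet a₀ b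
  have et : (Xt : G → ℂ) 1 = 1 := rfl
  have e0 : (X₀ : G → ℂ) 1 = (p : ℂ) := hd₀
  have e1 : (X₁ : G → ℂ) 1 = (h : ℂ) := hd₁
  have e2 : (X₂ : G → ℂ) 1 = (h : ℂ) := hd₂
  refine ⟨?_, ?_, ?_⟩
  · -- E1
    have e := sum_irr_cc H D
    rw [if_neg h1D, mul_zero] at e
    rw [sum_four _ Xt X₀ X₁ X₂ nt0 nt1 nt2 n01 n02 n12] at e
    · rw [et, e0, e1, e2, hck, one_mul] at e
      exact e
    · intro ψ n0 n1 n2 n3
      rw [cc_eq_zero H D hDl (isCharacter_of_irr ψ.2) (hother ψ n0 n1 n2 n3), mul_zero]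
  · -- E2
    have hGcard : (Nat.card G : ℂ) = 2 * (p : ℂ) * (Nat.card H : ℂ) := by
      have h1 : H.index = Nat.card Ω := MulAction.index_stabilizer_of_transitive G a₀
      have h2 := H.index_mul_card
      rw [h1, Nat.card_eq_fintype_card (α := Ω), hm] at h2
      rw [← h2]
      push_cast
      ring
    have e := sum_cc_mul H D {x | x⁻¹ ∈ D} hDr hDl hDr' hDl' hmf
    have hfilter : (Finset.univ.filter (fun x : G => x ∈ D ∧ x⁻¹ ∈ {x | x⁻¹ ∈ D})) =
        Finset.univ.filter (fun x : G => x ∈ D) := by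
      ext x
      simp only [Finset.mem_filter, Finset.mem_univ, true_and, Set.mem_ofPred_eq, inv_inv, and_self]
    rw [hfilter, card_filter_suborbitSet a₀ b, hGcard] at e
    rw [sum_four _ Xt X₀ X₁ X₂ nt0 nt1 nt2 n01 n02 n12] at e
    · rw [et, e0, e1, e2, cc_inv H D (isCharacter_of_irr Xt.2), cc_inv H D (isCharacter_of_irr X₀.2),
        cc_inv H D (isCharacter_of_irr X₁.2), cc_inv H D (isCharacter_of_irr X₂.2), hck, one_mul,
        Complex.conj_natCast] at e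
      have e' : (X₀ : G → ℂ) = χ₀ := rfl
      have e'' : (X₁ : G → ℂ) = χ₁ := rfl
      have e''' : (X₂ : G → ℂ) = χ₂ := rfl
      rw [e', e'', e'''] at e
      rw [e]
      field_simp
      ring
    · intro ψ n0 n1 n2 n3
      rw [cc_eq_zero H D hDl (isCharacter_of_irr ψ.2) (hother ψ n0 n1 n2 n3), zero_mul, mul_zero]
  · -- E3
    have hsum : cc H D (fun g : G => (Nat.card (MulAction.fixedBy Ω g) : ℂ)) =
        (k : ℂ) + cc H D χ₀ + cc H D χ₁ + cc H D χ₂ := by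
      rw [hπ', cc_add, cc_add, cc_add]
      congr 3
    set N : ℕ := ∑ x : G, (if x ∈ D then Nat.card (MulAction.fixedBy Ω x) else 0) with hN
    have hN' : cc H D (fun g : G => (Nat.card (MulAction.fixedBy Ω g) : ℂ)) =
        (Nat.card H : ℂ)⁻¹ * (N : ℂ) := by
      unfold cc
      congr 1
      rw [hN, Nat.cast_sum]
      refine Finset.sum_congr rfl fun x _ => ?_
      split_ifs <;> simp
    have hq : cc H D χ₀ + cc H D χ₁ + cc H D χ₂ =
        (((N : ℚ) / (Nat.card H : ℚ) - (k : ℚ) : ℚ) : ℂ) := by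
      push_cast
      have : cc H D χ₀ + cc H D χ₁ + cc H D χ₂ = (Nat.card H : ℂ)⁻¹ * (N : ℂ) - (k : ℂ) := by
        rw [← hN', hsum]
        ring
      rw [this]
      field_simp
    have hint : IsIntegral ℤ (cc H D χ₀ + cc H D χ₁ + cc H D χ₂) :=
      ((isIntegral_cc H D hDr hDl (isCharacter_of_irr h₀)).add
        (isIntegral_cc H D hDr hDl (isCharacter_of_irr h₁))).add
        (isIntegral_cc H D hDr hDl (isCharacter_of_irr h₂))
    rw [hq] at hint
    obtain ⟨t, ht⟩ := exists_int_of_isIntegral_rat _ hint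
    exact ⟨t, hq.trans ht⟩

/-- the integrality relations for the eigenvalues of a suborbit in case (B) -/
theorem local_eq {p h : ℕ} (hp : p.Prime) (hph : p = 2 * h + 1) (hh : 1 ≤ h)
    (hm : Fintype.card Ω = 2 * p) (a₀ : Ω)
    (χ₀ χ₁ χ₂ : G → ℂ) (h₀ : Cfsg.IsIrrCharacter G χ₀) (h₁ : Cfsg.IsIrrCharacter G χ₁)
    (h₂ : Cfsg.IsIrrCharacter G χ₂)
    (hπ : (fun g : G => (Nat.card (MulAction.fixedBy Ω g) : ℂ)) =
      fun g => 1 + χ₀ g + χ₁ g + χ₂ g)
    (hd₀ : χ₀ 1 = p) (hd₁ : χ₁ 1 = h) (hd₂ : χ₂ 1 = h) (hne12 : χ₁ ≠ χ₂)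
    (hne1 : χ₁ ≠ fun _ => 1) (hne2 : χ₂ ≠ fun _ => 1)
    (g₀ : ℂ) (hg₀ : g₀ * conj g₀ = p)
    (hdiff : ∀ g : G, χ₁ g - χ₂ g = 0 ∨ χ₁ g - χ₂ g = g₀ ∨ χ₁ g - χ₂ g = -g₀)
    (b : Ω) (hb : b ≠ a₀) :
    ∃ θ k ρ : ℤ, cc (MulAction.stabilizer G a₀) (suborbitSet a₀ b) χ₀ = (θ : ℂ) ∧
      (Nat.card (MulAction.orbit (MulAction.stabilizer G a₀) b) : ℤ) + θ = h * k ∧
      (h : ℤ) * ρ ^ 2 = h * k * (4 - k) - 4 * θ * (θ + 1) ∧ (Odd k → ρ ≠ 0) := by
  classical
  obtain ⟨E1, E2, t, E3⟩ := eigen_eqs hph hh hm a₀ χ₀ χ₁ χ₂ h₀ h₁ h₂ hπ hd₀ hd₁ hd₂ hne12 hne1 hne2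
    b hb
  set H : Subgroup G := MulAction.stabilizer G a₀ with hH
  set n : ℕ := Nat.card (MulAction.orbit H b) with hn
  set D : Set G := suborbitSet a₀ b with hD
  set θc : ℂ := cc H D χ₀ with hθc
  set u : ℂ := cc H D χ₁ with hu
  set v : ℂ := cc H D χ₂ with hv
  have hDr : ∀ x h, h ∈ H → (x * h ∈ D ↔ x ∈ D) := suborbitSet_right a₀ b
  have hDl : ∀ x h, h ∈ H → (h * x ∈ D ↔ x ∈ D) := suborbitSet_left a₀ b
  have hcH : (Nat.card H : ℂ) ≠ 0 := Nat.cast_ne_zero.2 Nat.card_pos.ne'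
  have hiθ : IsIntegral ℤ θc := isIntegral_cc H D hDr hDl (isCharacter_of_irr h₀)
  have hiu : IsIntegral ℤ u := isIntegral_cc H D hDr hDl (isCharacter_of_irr h₁)
  have hiv : IsIntegral ℤ v := isIntegral_cc H D hDr hDl (isCharacter_of_irr h₂)
  have hpc : (p : ℂ) = 2 * (h : ℂ) + 1 := by rw [hph]; push_cast; ring
  -- `θc` is an integer
  have hh1 : ((h : ℂ) + 1) ≠ 0 := by
    have : ((h + 1 : ℕ) : ℂ) ≠ 0 := Nat.cast_ne_zero.2 (by omega)
    simpa using this
  have hθq : θc = (((-((n : ℚ) + h * t)) / ((h : ℚ) + 1) : ℚ) : ℂ) := by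
    push_cast
    rw [eq_div_iff hh1]
    rw [hpc] at E1
    linear_combination E1 - (h : ℂ) * E3
  obtain ⟨θ, hθ⟩ : ∃ θ : ℤ, θc = θ := by
    rw [hθq] at hiθ
    obtain ⟨θ, hθ⟩ := exists_int_of_isIntegral_rat _ hiθ
    exact ⟨θ, hθq.trans hθ⟩
  -- `u + v` is an integer
  have hs : u + v = ((t - θ : ℤ) : ℂ) := by
    push_cast
    rw [← hθ]
    linear_combination E3
  -- `u - v` is a rational multiple of `g₀`
  have hg₀ne : g₀ ≠ 0 := by
    rintro rfl
    rw [zero_mul] at hg₀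
    exact hp.ne_zero (by exact_mod_cast hg₀.symm)
  set c : G → ℤ := fun x => if χ₁ x - χ₂ x = g₀ then 1 else if χ₁ x - χ₂ x = -g₀ then -1 else 0
    with hc
  have hcx : ∀ x : G, χ₁ x - χ₂ x = (c x : ℂ) * g₀ := by
    intro x
    rw [hc]
    show χ₁ x - χ₂ x = ((if χ₁ x - χ₂ x = g₀ then 1 else if χ₁ x - χ₂ x = -g₀ then -1 else 0 : ℤ) : ℂ)
      * g₀
    rcases hdiff x with hx | hx | hx
    · rw [hx, if_neg (Ne.symm hg₀ne), if_neg (by
        intro h0
        exact hg₀ne (neg_eq_zero.1 h0.symm))]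
      simp
    · rw [hx, if_pos rfl]
      simp
    · rw [hx, if_neg (by
        intro h0
        apply hg₀ne
        have : (2 : ℂ) * g₀ = 0 := by linear_combination -h0
        rcases mul_eq_zero.1 this with h2 | h2
        · norm_num at h2
        · exact h2), if_pos rfl]
      simp
  set Ns : ℤ := ∑ x : G, (if x ∈ D then c x else 0) with hNs
  set r : ℚ := (Ns : ℚ) / (Nat.card H : ℚ) with hr
  have hd : u - v = (r : ℂ) * g₀ := by
    rw [hu, hv, hr]
    unfold cc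
    rw [← mul_sub, ← Finset.sum_sub_distrib]
    have e1 : ∀ x : G, ((if x ∈ D then χ₁ x else 0) - (if x ∈ D then χ₂ x else 0) : ℂ) =
        ((if x ∈ D then c x else 0 : ℤ) : ℂ) * g₀ := by
      intro x
      by_cases hx : x ∈ D
      · rw [if_pos hx, if_pos hx, if_pos hx, hcx x]
      · rw [if_neg hx, if_neg hx, if_neg hx]
        simp
    rw [Finset.sum_congr rfl (fun x _ => e1 x), ← Finset.sum_mul, ← Int.cast_sum, ← hNs]
    push_cast
    field_simp
  have hconjr : conj (r : ℂ) = (r : ℂ) := map_ratCast (starRingEnd ℂ) r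
  -- `p r²` is an integer
  have hdd : (u - v) * conj (u - v) = (((p : ℚ) * r ^ 2 : ℚ) : ℂ) := by
    rw [hd, map_mul, hconjr]
    push_cast
    rw [← hg₀]
    ring
  have hidd : IsIntegral ℤ ((u - v) * conj (u - v)) :=
    (hiu.sub hiv).mul (map_isIntegral_int (starRingEnd ℂ) (hiu.sub hiv))
  rw [hdd] at hidd
  obtain ⟨K, hK⟩ := exists_int_of_isIntegral_rat _ hidd
  have hK' : (p : ℚ) * r ^ 2 = K := by exact_mod_cast hK
  obtain ⟨ρ, hρ⟩ := rat_int_of_prime_mul_sq hp r K hK'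
  have hdρ : u - v = (ρ : ℂ) * g₀ := by
    rw [hd, hρ]
    push_cast
    ring
  -- the two integer equations
  have hconjθ : conj θc = θc := by rw [hθ]; simp
  have huv : u * conj u + v * conj v =
      ((((t - θ : ℤ) : ℂ)) ^ 2 + (p : ℂ) * (ρ : ℂ) ^ 2) / 2 := by
    have e1 : (u + v) * conj (u + v) = ((t - θ : ℤ) : ℂ) ^ 2 := by
      rw [hs]
      simp only [map_intCast]
      ring
    have e2 : (u - v) * conj (u - v) = (p : ℂ) * (ρ : ℂ) ^ 2 := by
      rw [hdρ, map_mul]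
      simp only [map_intCast]
      rw [← hg₀]
      ring
    have e3 : u * conj u + v * conj v =
        ((u + v) * conj (u + v) + (u - v) * conj (u - v)) / 2 := by
      simp only [map_add, map_sub]
      ring
    rw [e3, e1, e2]
  set s : ℤ := t - θ with hsdef
  have I1 : (n : ℤ) + p * θ + h * s = 0 := by
    have : ((n : ℂ) + (p : ℂ) * (θ : ℂ) + (h : ℂ) * ((s : ℤ) : ℂ)) = 0 := by
      rw [← hθ, ← hs]
      linear_combination E1
    exact_mod_cast this
  have I2 : 2 * (n : ℤ) ^ 2 + 2 * p * θ ^ 2 + h * s ^ 2 + h * p * ρ ^ 2 = 4 * p * n := by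
    have : (2 * (n : ℂ) ^ 2 + 2 * p * (θ : ℂ) ^ 2 + h * ((s : ℤ) : ℂ) ^ 2 + h * p * (ρ : ℂ) ^ 2) =
        4 * p * n := by
      rw [hconjθ, hθ] at E2
      have e4 : (h : ℂ) * (u * conj u) + (h : ℂ) * (v * conj v) =
          (h : ℂ) * (u * conj u + v * conj v) := by ring
      rw [add_assoc, e4, huv] at E2
      linear_combination 2 * E2
    exact_mod_cast this
  have hpz : (p : ℤ) = 2 * h + 1 := by rw [hph]; push_cast; ring
  refine ⟨θ, -(2 * θ + s), ρ, hθ, ?_, ?_, ?_⟩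
  · rw [hpz] at I1
    linear_combination I1
  · have hp0 : (p : ℤ) ≠ 0 := by exact_mod_cast hp.ne_zero
    have hn' : (n : ℤ) = h * (-(2 * θ + s)) - θ := by
      rw [hpz] at I1
      linear_combination I1
    have : (p : ℤ) * ((h : ℤ) * ρ ^ 2) =
        p * (h * (-(2 * θ + s)) * (4 - (-(2 * θ + s))) - 4 * θ * (θ + 1)) := by
      have I2' := I2
      rw [hn'] at I2'
      rw [hpz] at I2' ⊢
      linear_combination I2'
    exact mul_left_cancel₀ hp0 this
  · intro hodd hρ0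
    have huv0 : u = v := by
      have : u - v = 0 := by rw [hdρ, hρ0]; simp
      exact sub_eq_zero.1 this
    have h2u : u = (((s : ℚ) / 2 : ℚ) : ℂ) := by
      have : u + u = ((s : ℤ) : ℂ) := by
        rw [← hs, ← huv0]
      push_cast
      linear_combination this / 2
    rw [h2u] at hiu
    obtain ⟨w, hw⟩ := exists_int_of_isIntegral_rat _ hiu
    have hsw : s = 2 * w := by
      have : ((s : ℚ) / 2 : ℚ) = w := by exact_mod_cast hw
      have h3 : (s : ℚ) = 2 * w := by linarith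
      exact_mod_cast h3
    rw [hsw] at hodd
    have : Even (-(2 * θ + 2 * w)) := ⟨-(θ + w), by ring⟩
    exact (Int.not_even_iff_odd.2 hodd) this

/-- the rank in case (B) is four -/
theorem rank_four (a₀ : Ω) (χ₀ χ₁ χ₂ : G → ℂ) (h₀ : Cfsg.IsIrrCharacter G χ₀)
    (h₁ : Cfsg.IsIrrCharacter G χ₁) (h₂ : Cfsg.IsIrrCharacter G χ₂)
    (hπ : (fun g : G => (Nat.card (MulAction.fixedBy Ω g) : ℂ)) =
      fun g => 1 + χ₀ g + χ₁ g + χ₂ g)
    (hne0 : χ₀ ≠ fun _ => 1) (hne1 : χ₁ ≠ fun _ => 1) (hne2 : χ₂ ≠ fun _ => 1)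
    (hne01 : χ₀ ≠ χ₁) (hne02 : χ₀ ≠ χ₂) (hne12 : χ₁ ≠ χ₂) :
    Nat.card (MulAction.orbitRel.Quotient (MulAction.stabilizer G a₀) Ω) = 4 := by
  have h := classInner_permChar_self (G := G) a₀
  have hirr1 : Cfsg.IsIrrCharacter G (fun _ => (1 : ℂ)) := isIrrCharacter_of_hom (1 : G →* ℂˣ)
  have hπ' : (fun g : G => (Nat.card (MulAction.fixedBy Ω g) : ℂ)) =
      (fun _ => (1 : ℂ)) + χ₀ + χ₁ + χ₂ := by
    rw [hπ]
    funext g
    simp only [Pi.add_apply]
  rw [hπ'] at h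
  simp only [classInner_add_left, classInner_add_right, classInner_irr hirr1 hirr1,
    classInner_irr hirr1 h₀, classInner_irr hirr1 h₁, classInner_irr hirr1 h₂,
    classInner_irr h₀ hirr1, classInner_irr h₀ h₀, classInner_irr h₀ h₁, classInner_irr h₀ h₂,
    classInner_irr h₁ hirr1, classInner_irr h₁ h₀, classInner_irr h₁ h₁, classInner_irr h₁ h₂,
    classInner_irr h₂ hirr1, classInner_irr h₂ h₀, classInner_irr h₂ h₁, classInner_irr h₂ h₂,
    if_pos rfl, if_neg hne0, if_neg hne1, if_neg hne2, if_neg hne01, if_neg hne02, if_neg hne12,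
    if_neg (Ne.symm hne0), if_neg (Ne.symm hne1), if_neg (Ne.symm hne2), if_neg (Ne.symm hne01),
    if_neg (Ne.symm hne02), if_neg (Ne.symm hne12)] at h
  have h4 : ((4 : ℕ) : ℂ) =
      (Nat.card (MulAction.orbitRel.Quotient (MulAction.stabilizer G a₀) Ω) : ℂ) := by
    rw [← h]
    norm_num
  exact_mod_cast h4.symm

/-- the sum of an irreducible character different from the trivial one over the group -/
theorem sum_irr_eq_zero (χ : G → ℂ) (hχ : Cfsg.IsIrrCharacter G χ) (hne : χ ≠ fun _ => 1) :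
    ∑ x : G, χ x = 0 := by
  have hirr1 : Cfsg.IsIrrCharacter G (fun _ => (1 : ℂ)) := isIrrCharacter_of_hom (1 : G →* ℂˣ)
  have h := classInner_irr hχ hirr1
  rw [if_neg hne] at h
  unfold Cfsg.classInner at h
  simp only [map_one, mul_one] at h
  have hc : (Nat.card G : ℂ)⁻¹ ≠ 0 := inv_ne_zero (Nat.cast_ne_zero.2 Nat.card_pos.ne')
  exact (mul_eq_zero.1 h).resolve_left hc

/-- the suborbit set of the base point is the stabilizer -/
theorem suborbitSet_self (a₀ : Ω) :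
    (suborbitSet a₀ a₀ : Set G) = (MulAction.stabilizer G a₀ : Set G) := by
  ext x
  show x • a₀ ∈ MulAction.orbit (MulAction.stabilizer G a₀) a₀ ↔ x ∈ MulAction.stabilizer G a₀
  constructor
  · rintro ⟨k, hk⟩
    have : (k : G) • a₀ = x • a₀ := hk
    rw [MulAction.mem_stabilizer_iff, ← this]
    exact k.2
  · intro hx
    rw [MulAction.mem_stabilizer_iff.1 hx]
    exact MulAction.mem_orbit_self a₀

/-- the orbit of the base point -/
theorem card_orbit_self (a₀ : Ω) :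
    Nat.card (MulAction.orbit (MulAction.stabilizer G a₀) a₀) = 1 := by
  rw [Nat.card_eq_one_iff_unique]
  refine ⟨⟨?_⟩, ⟨⟨a₀, MulAction.mem_orbit_self a₀⟩⟩⟩
  rintro ⟨x, k, hk⟩ ⟨y, l, hl⟩
  apply Subtype.ext
  show x = y
  have e1 : (k : G) • a₀ = x := hk
  have e2 : (l : G) • a₀ = y := hl
  rw [← e1, ← e2, MulAction.mem_stabilizer_iff.1 k.2, MulAction.mem_stabilizer_iff.1 l.2]

/-- case (B) is impossible -/
theorem caseB_false {p h : ℕ} (hp : p.Prime) (hph : p = 2 * h + 1) (hh : 1 ≤ h)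
    (hm : Fintype.card Ω = 2 * p) (a₀ : Ω) (hprim : MulAction.IsPreprimitive G Ω)
    [FaithfulSMul G Ω]
    (χ₀ χ₁ χ₂ : G → ℂ) (h₀ : Cfsg.IsIrrCharacter G χ₀) (h₁ : Cfsg.IsIrrCharacter G χ₁)
    (h₂ : Cfsg.IsIrrCharacter G χ₂)
    (hπ : (fun g : G => (Nat.card (MulAction.fixedBy Ω g) : ℂ)) =
      fun g => 1 + χ₀ g + χ₁ g + χ₂ g)
    (hd₀ : χ₀ 1 = p) (hd₁ : χ₁ 1 = h) (hd₂ : χ₂ 1 = h) (hne12 : χ₁ ≠ χ₂)
    (hne1 : χ₁ ≠ fun _ => 1) (hne2 : χ₂ ≠ fun _ => 1)
    (g₀ : ℂ) (hg₀ : g₀ * conj g₀ = p)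
    (hdiff : ∀ g : G, χ₁ g - χ₂ g = 0 ∨ χ₁ g - χ₂ g = g₀ ∨ χ₁ g - χ₂ g = -g₀) : False := by
  classical
  set H : Subgroup G := MulAction.stabilizer G a₀ with hH
  have hnp : ¬ (Nat.card Ω).Prime := by
    rw [Nat.card_eq_fintype_card, hm]
    intro hpr
    have h2 := (Nat.dvd_prime hpr).1 (Dvd.intro p rfl)
    have hp2 := hp.two_le
    omega
  have hne0 : χ₀ ≠ fun _ => 1 := by
    intro hcon
    rw [hcon] at hd₀
    have : ((1 : ℕ) : ℂ) = (p : ℂ) := by simpa using hd₀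
    have : 1 = p := by exact_mod_cast this
    omega
  have hne01 : χ₀ ≠ χ₁ := by
    intro hcon
    rw [hcon, hd₁] at hd₀
    have : h = p := by exact_mod_cast hd₀
    omega
  have hne02 : χ₀ ≠ χ₂ := by
    intro hcon
    rw [hcon, hd₂] at hd₀
    have : h = p := by exact_mod_cast hd₀
    omega
  -- local analysis
  have hloc : ∀ b : Ω, b ≠ a₀ → ∃ θ : ℤ, cc H (suborbitSet a₀ b) χ₀ = (θ : ℂ) ∧
      2 * (h : ℤ) ≤ (Nat.card (MulAction.orbit H b) : ℤ) + θ := by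
    intro b hb
    obtain ⟨θ, k, ρ, e1, e2, e3, e4⟩ := local_eq hp hph hh hm a₀ χ₀ χ₁ χ₂ h₀ h₁ h₂ hπ hd₀ hd₁ hd₂
      hne12 hne1 hne2 g₀ hg₀ hdiff b hb
    have hn2 : 2 ≤ Nat.card (MulAction.orbit H b) := by
      obtain ⟨k', hk', hkb⟩ := exists_moves hprim hnp a₀ b hb
      rw [Nat.card_coe_set_eq]
      have : 1 < (MulAction.orbit H b).ncard := by
        rw [Set.one_lt_ncard_iff]
        exact ⟨b, k' • b, MulAction.mem_orbit_self b, ⟨⟨k', hk'⟩, rfl⟩, Ne.symm hkb⟩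
      omega
    have hk2 := local_arith hp hph hh _ hn2 θ k ρ e2 e3 e4
    refine ⟨θ, e1, ?_⟩
    rw [e2]
    have : (0 : ℤ) ≤ h := by positivity
    nlinarith
  choose θ hθ1 hθ2 using hloc
  set θ' : Ω → ℤ := fun b => if hb : b = a₀ then 1 else θ b hb with hθ'def
  have hθ'0 : θ' a₀ = 1 := by
    rw [hθ'def]
    show (if hb : a₀ = a₀ then (1 : ℤ) else θ a₀ hb) = 1
    rw [dif_pos rfl]
  have hθ'ne : ∀ b (hb : b ≠ a₀), θ' b = θ b hb := by
    intro b hb
    rw [hθ'def]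
    show (if hb : b = a₀ then (1 : ℤ) else θ b hb) = θ b hb
    rw [dif_neg hb]
  have hirr1 : Cfsg.IsIrrCharacter G (fun _ => (1 : ℂ)) := isIrrCharacter_of_hom (1 : G →* ℂˣ)
  have hccH : cc H (H : Set G) χ₀ = 1 := by
    have h1 := classInner_permChar_eq_cc a₀ χ₀ (isClassFunction_irr h₀)
    have hπ' : (fun g : G => (Nat.card (MulAction.fixedBy Ω g) : ℂ)) =
        (fun _ => (1 : ℂ)) + χ₀ + χ₁ + χ₂ := by
      rw [hπ]
      funext g
      simp only [Pi.add_apply]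
    rw [hπ', classInner_add_left, classInner_add_left, classInner_add_left,
      classInner_irr hirr1 h₀, classInner_irr h₀ h₀, classInner_irr h₁ h₀, classInner_irr h₂ h₀,
      if_neg (Ne.symm hne0), if_pos rfl, if_neg (Ne.symm hne01), if_neg (Ne.symm hne02)] at h1
    have h2 := congrArg conj h1
    rw [Complex.conj_conj] at h2
    rw [← h2]
    simp
  have hθ' : ∀ b : Ω, cc H (suborbitSet a₀ b) χ₀ = (θ' b : ℂ) := by
    intro b
    by_cases hb : b = a₀
    · rw [hb, suborbitSet_self, hθ'0, hccH]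
      simp
    · rw [hθ'ne b hb]
      exact hθ1 b hb
  set N : Ω → ℕ := fun b => Nat.card (MulAction.orbit H b) with hN
  have hNpos : ∀ b, 0 < N b := by
    intro b
    have : Nonempty (MulAction.orbit H b) := ⟨⟨b, MulAction.mem_orbit_self b⟩⟩
    exact Nat.card_pos
  have hN0 : N a₀ = 1 := card_orbit_self a₀
  -- the global sums
  have G1 : ∑ b : Ω, ((N b : ℝ))⁻¹ * (θ' b : ℝ) = 0 := by
    have h1 := sum_inv_cc (G := G) a₀ χ₀
    rw [sum_irr_eq_zero χ₀ h₀ hne0, mul_zero] at h1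
    have h2 : ((∑ b : Ω, ((N b : ℝ))⁻¹ * (θ' b : ℝ) : ℝ) : ℂ) = ((0 : ℝ) : ℂ) := by
      push_cast
      rw [← h1]
      refine Finset.sum_congr rfl fun b _ => ?_
      rw [hθ' b]
    exact Complex.ofReal_injective h2
  have G2 : ∑ b : Ω, ((N b : ℝ))⁻¹ = 4 := by
    have h1 := sum_inv_card_orbit (Ω := Ω) H
    rw [rank_four a₀ χ₀ χ₁ χ₂ h₀ h₁ h₂ hπ hne0 hne1 hne2 hne01 hne02 hne12] at h1
    have h2 : ((∑ b : Ω, ((N b : ℝ))⁻¹ : ℝ) : ℂ) = ((4 : ℝ) : ℂ) := by
      push_cast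
      rw [← Nat.cast_ofNat (R := ℂ) (n := 4)]
      exact h1
    exact Complex.ofReal_injective h2
  have G3 : ∑ b : Ω, ((N b : ℝ))⁻¹ * (N b : ℝ) = 2 * (p : ℝ) := by
    have : ∀ b : Ω, ((N b : ℝ))⁻¹ * (N b : ℝ) = 1 := by
      intro b
      have : (N b : ℝ) ≠ 0 := Nat.cast_ne_zero.2 (hNpos b).ne'
      exact inv_mul_cancel₀ this
    rw [Finset.sum_congr rfl (fun b _ => this b), Finset.sum_const, Finset.card_univ, hm]
    simp
  have G4 : ∑ b : Ω, ((N b : ℝ))⁻¹ * ((N b : ℝ) + (θ' b : ℝ)) = 2 * (p : ℝ) := by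
    simp only [mul_add, Finset.sum_add_distrib]
    rw [G1, G3, add_zero]
  have S1 := Finset.add_sum_erase Finset.univ
    (fun b : Ω => ((N b : ℝ))⁻¹ * ((N b : ℝ) + (θ' b : ℝ))) (Finset.mem_univ a₀)
  have S2 := Finset.add_sum_erase Finset.univ (fun b : Ω => ((N b : ℝ))⁻¹) (Finset.mem_univ a₀)
  have T1 : ((N a₀ : ℝ))⁻¹ * ((N a₀ : ℝ) + (θ' a₀ : ℝ)) = 2 := by
    rw [hN0, hθ'0]
    norm_num
  have T2 : ((N a₀ : ℝ))⁻¹ = 1 := by
    rw [hN0]
    norm_num
  beta_reduce at S1 S2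
  rw [G4, T1] at S1
  rw [G2, T2] at S2
  have hbound : ∑ b ∈ Finset.univ.erase a₀, ((N b : ℝ))⁻¹ * (2 * (h : ℝ)) ≤
      ∑ b ∈ Finset.univ.erase a₀, ((N b : ℝ))⁻¹ * ((N b : ℝ) + (θ' b : ℝ)) := by
    apply Finset.sum_le_sum
    intro b hb
    have hb' : b ≠ a₀ := (Finset.mem_erase.1 hb).1
    have hpos : (0 : ℝ) ≤ ((N b : ℝ))⁻¹ := inv_nonneg.2 (Nat.cast_nonneg _)
    apply mul_le_mul_of_nonneg_left _ hpos
    have := hθ2 b hb'
    rw [hθ'ne b hb']
    have h3 : ((2 * (h : ℤ) : ℤ) : ℝ) ≤ (((Nat.card (MulAction.orbit H b) : ℤ) + θ b hb' : ℤ) : ℝ) := by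
      exact_mod_cast this
    push_cast at h3
    exact h3
  rw [← Finset.sum_mul] at hbound
  have hpr : (p : ℝ) = 2 * (h : ℝ) + 1 := by
    rw [hph]
    push_cast
    ring
  have hhr : (1 : ℝ) ≤ h := by exact_mod_cast hh
  have S2' : ∑ b ∈ Finset.univ.erase a₀, ((N b : ℝ))⁻¹ = 3 := by linarith
  rw [S2'] at hbound
  linarith

end global

end Cfsg.Agent.H7W2p
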