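import Mathlib
import Cfsg.Agent.Lib.Helper7.W2p3
import Cfsg.Agent.Lib.Helper7.W2p4
import Cfsg.Agent.S0719

set_option autoImplicit false
set_option maxHeartbeats 3200000
set_option linter.unusedSectionVars false
set_option linter.style.haveILetI false
set_option linter.unusedVariables false

/-!
# Wielandt's theorem on primitive groups of degree `2p`, part B4: assembly
-/

namespace Cfsg.Agent.H7W2p

open Cfsg Cfsg.Agent.Lib.Helper8 Cfsg.Agent.Lib.Helper7
open scoped ComplexConjugate
open Cfsg.Agent.Lib.Helper1 Cfsg.Agent.Lib.Helper4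
open Cfsg.Agent.Lib.Helper2.PermChar

universe u

section main

variable {G : Type u} [Group G] [Fintype G] {Ω : Type*} [Fintype Ω] [MulAction G Ω]

/-- the nonprincipal constituents of the permutation character of a faithful primitive group
are faithful -/
theorem constituent_faithful [FaithfulSMul G Ω] (hprim : MulAction.IsPreprimitive G Ω)
    [Fintype (IrrCharacter G)] (m : IrrCharacter G → ℕ)
    (hπm : (fun g : G => (Nat.card (MulAction.fixedBy Ω g) : ℂ)) =
      ∑ χ : IrrCharacter G, (m χ : ℂ) • (χ : G → ℂ))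
    (hm1 : m (trivIrr G) = 1) (χ : IrrCharacter G) (hχ : χ ≠ trivIrr G) (hmχ : m χ ≠ 0)
    (g : G) (hg : (χ : G → ℂ) g = (χ : G → ℂ) 1) : g = 1 := by
  classical
  obtain ⟨K, hKn, hK⟩ := exists_normal_ker (isCharacter_of_irr χ.2)
  by_contra hg1
  have hgK : g ∈ K := (hK g).2 hg
  have hfix : MulAction.fixedPoints K Ω ≠ Set.univ := by
    intro h
    apply hg1
    apply FaithfulSMul.eq_of_smul_eq_smul (α := Ω)
    intro ω
    have : ω ∈ MulAction.fixedPoints K Ω := by rw [h]; exact Set.mem_univ ω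
    rw [one_smul]
    exact this ⟨g, hgK⟩
  haveI : MulAction.IsPretransitive K Ω :=
    MulAction.IsQuasiPreprimitive.isPretransitive_of_normal hfix
  have : Fintype K := Fintype.ofFinite _
  have hne : Nonempty Ω := by
    by_contra h
    rw [not_nonempty_iff] at h
    apply hfix
    ext ω
    exact (h.false ω).elim
  obtain ⟨a₀⟩ := hne
  have : Fintype (IrrCharacter K) := Fintype.ofFinite _
  obtain ⟨mK, hmK, hmK1, -⟩ := exists_mult (G := K) a₀
  have e1 : classInner (fun k : K => (Nat.card (MulAction.fixedBy Ω (k : G)) : ℂ))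
      (trivIrr K : K → ℂ) = 1 := by
    have h1 := hmK (trivIrr K)
    rw [hmK1 (trivIrr K) (by funext k; exact trivIrr_apply k)] at h1
    rw [← Nat.cast_one (R := ℂ), ← h1]
    rfl
  have e2 : (fun k : K => (Nat.card (MulAction.fixedBy Ω (k : G)) : ℂ)) =
      ∑ ψ : IrrCharacter G, (m ψ : ℂ) • (fun k : K => (ψ : G → ℂ) k) := by
    funext k
    have := congrFun hπm (k : G)
    rw [Finset.sum_apply] at this ⊢
    exact this
  rw [e2, classInner_sum_left] at e1
  simp only [classInner_smul_left, d1m_spec] at e1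
  have e3 : ∑ ψ : IrrCharacter G, m ψ * d1m K ψ (trivIrr K) = 1 := by exact_mod_cast e1
  have hsub : ({trivIrr G, χ} : Finset (IrrCharacter G)) ⊆ Finset.univ := Finset.subset_univ _
  have e4 := Finset.sum_le_sum_of_subset (f := fun ψ => m ψ * d1m K ψ (trivIrr K)) hsub
  rw [e3, Finset.sum_pair (Ne.symm hχ), hm1, d1m_triv, if_pos rfl] at e4
  have e5 : d1m K χ (trivIrr K) = charDegree (χ : G → ℂ) := by
    have h1 := d1m_spec K χ (trivIrr K)
    have h2 : (fun c : K => (χ : G → ℂ) c) = fun _ => (χ : G → ℂ) 1 := by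
      funext c
      exact (hK c).1 c.2
    rw [h2] at h1
    unfold classInner at h1
    simp only [trivIrr_apply, map_one, mul_one, Finset.sum_const, Finset.card_univ,
      nsmul_eq_mul] at h1
    rw [← Nat.card_eq_fintype_card, ← mul_assoc, inv_mul_cancel₀
      (Nat.cast_ne_zero.2 Nat.card_pos.ne'), one_mul,
      (irr_apply_one_eq_charDegree χ.2).1] at h1
    exact_mod_cast h1.symm
  rw [e5] at e4
  have hdeg := (irr_apply_one_eq_charDegree χ.2).2
  have : 1 ≤ m χ * charDegree (χ : G → ℂ) :=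
    Nat.one_le_iff_ne_zero.2 (Nat.mul_ne_zero hmχ hdeg.ne')
  omega

/-- a faithful primitive group of composite degree has no nonprincipal linear constituent -/
theorem no_linear [FaithfulSMul G Ω] (hprim : MulAction.IsPreprimitive G Ω)
    (hcard : ¬ (Nat.card Ω).Prime) (hcard1 : 2 ≤ Nat.card Ω)
    [Fintype (IrrCharacter G)] (m : IrrCharacter G → ℕ)
    (hπm : (fun g : G => (Nat.card (MulAction.fixedBy Ω g) : ℂ)) =
      ∑ χ : IrrCharacter G, (m χ : ℂ) • (χ : G → ℂ))
    (hm1 : m (trivIrr G) = 1) (χ : IrrCharacter G) (hχ : χ ≠ trivIrr G) (hmχ : m χ ≠ 0) :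
    charDegree (χ : G → ℂ) ≠ 1 := by
  intro hdeg
  have h1 : (χ : G → ℂ) 1 = 1 := by
    rw [(irr_apply_one_eq_charDegree χ.2).1, hdeg, Nat.cast_one]
  obtain ⟨φ, hφ⟩ := exists_hom_of_isIrrCharacter χ.2 h1
  have hcomm : ∀ g k : G, g * k = k * g := by
    intro g k
    have h2 : (χ : G → ℂ) (g * k * g⁻¹ * k⁻¹) = (χ : G → ℂ) 1 := by
      rw [h1, hφ]
      show ((φ (g * k * g⁻¹ * k⁻¹) : ℂˣ) : ℂ) = 1
      rw [map_mul, map_mul, map_mul, map_inv, map_inv, mul_comm (φ g) (φ k), mul_inv_cancel_right,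
        mul_inv_cancel, Units.val_one]
    have h3 := constituent_faithful hprim m hπm hm1 χ hχ hmχ _ h2
    calc g * k = (g * k * g⁻¹ * k⁻¹) * k * g := by group
      _ = k * g := by rw [h3, one_mul]
  haveI := hprim.toIsPretransitive
  haveI : Finite Ω := Finite.of_fintype Ω
  obtain ⟨a₀, b, hab⟩ : ∃ a₀ b : Ω, b ≠ a₀ := by
    have : 1 < Nat.card Ω := by omega
    rw [Nat.card_eq_fintype_card, Fintype.one_lt_card_iff] at this
    obtain ⟨a, b, hab⟩ := this
    exact ⟨a, b, Ne.symm hab⟩
  obtain ⟨k, hk, hkb⟩ := exists_moves hprim hcard a₀ b hab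
  apply hkb
  obtain ⟨g, rfl⟩ := MulAction.exists_smul_eq G a₀ b
  rw [← mul_smul, hcomm k g, mul_smul, MulAction.mem_stabilizer_iff.1 hk]

/-- a nontrivial normal subgroup of a faithful primitive group is transitive, so its order is
divisible by the degree -/
theorem card_dvd_of_normal [FaithfulSMul G Ω] (hprim : MulAction.IsPreprimitive G Ω)
    (N : Subgroup G) [N.Normal] (y : G) (hy : y ∈ N) (hy1 : y ≠ 1) :
    Nat.card Ω ∣ Nat.card N := by
  have hfix : MulAction.fixedPoints N Ω ≠ Set.univ := by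
    intro h
    apply hy1
    apply FaithfulSMul.eq_of_smul_eq_smul (α := Ω)
    intro ω
    have : ω ∈ MulAction.fixedPoints N Ω := by rw [h]; exact Set.mem_univ ω
    rw [one_smul]
    exact this ⟨y, hy⟩
  haveI : MulAction.IsPretransitive N Ω :=
    MulAction.IsQuasiPreprimitive.isPretransitive_of_normal hfix
  have hne : Nonempty Ω := by
    by_contra h
    rw [not_nonempty_iff] at h
    apply hfix
    ext ω
    exact (h.false ω).elim
  obtain ⟨a₀⟩ := hne
  rw [← MulAction.index_stabilizer_of_transitive N a₀]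
  exact Subgroup.index_dvd_card _

/-- **Wielandt's theorem**, abstract form -/
theorem main_abstract [FaithfulSMul G Ω] (hprim : MulAction.IsPreprimitive G Ω) {p : ℕ}
    (hp : p.Prime) (hp2 : p ≠ 2) (hΩ : Fintype.card Ω = 2 * p) (x : G) (hx : orderOf x = p)
    (hsq : ¬ p ^ 2 ∣ Nat.card G)
    (hself : ∀ t : G, t * x = x * t → t ∈ Subgroup.zpowers x)
    (hsemi : ∀ y ∈ Subgroup.zpowers x, y ≠ 1 → ∀ a : Ω, y • a ≠ a)
    (h2 : ¬ MulAction.IsMultiplyPretransitive G Ω 2) (a₀ : Ω) :
    Nat.card (MulAction.orbitRel.Quotient (MulAction.stabilizer G a₀) Ω) = 3 ∧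
      ∃ a : ℕ, 0 < a ∧ p = 2 * a ^ 2 + 2 * a + 1 ∧ ∀ b : Ω, b ≠ a₀ →
        Nat.card (MulAction.orbit (MulAction.stabilizer G a₀) b) = a * (2 * a + 1) ∨
        Nat.card (MulAction.orbit (MulAction.stabilizer G a₀) b) = (a + 1) * (2 * a + 1) := by
  classical
  haveI : Fact p.Prime := ⟨hp⟩
  haveI := hprim.toIsPretransitive
  have hp3 : 3 ≤ p := by
    have := hp.two_le
    omega
  have : Fintype (IrrCharacter G) := Fintype.ofFinite _
  obtain ⟨M, hM⟩ := exists_isPModular p
  have instC : Fintype (Subgroup.centralizer ((Subgroup.zpowers x : Subgroup G) : Set G)) :=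
    Fintype.ofFinite _
  have ctx₀ := d1_principal_ctx (M := M) hM hx hsq
  obtain ⟨ε, W, a, S⟩ := ctx₀.exists_str
  -- multiplicities
  obtain ⟨m, hm, hπm⟩ := exists_nat_mult (isCharacter_permChar (G := G) a₀)
  obtain ⟨m', hm', hm'1, hrank⟩ := exists_mult (G := G) a₀
  have hmm : ∀ χ, m' χ = m χ := fun χ => by exact_mod_cast (hm' χ).symm.trans (hm χ)
  have htrivfun : (trivIrr G : G → ℂ) = fun _ => 1 := funext trivIrr_apply
  have hm1 : m (trivIrr G) = 1 := by rw [← hmm]; exact hm'1 _ htrivfun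
  simp only [hmm] at hrank
  -- values of the permutation character
  have h1 : (fun g : G => (Nat.card (MulAction.fixedBy Ω g) : ℂ)) 1 = 2 * p := by
    show (Nat.card (MulAction.fixedBy Ω (1 : G)) : ℂ) = 2 * p
    rw [MulAction.fixedBy_one_eq_univ, Nat.card_coe_set_eq, Set.ncard_univ, Nat.card_eq_fintype_card, hΩ]
    push_cast
    ring
  have h0 : ∀ c : (Subgroup.centralizer ((Subgroup.zpowers x : Subgroup G) : Set G)), c ≠ 1 →
      (fun g : G => (Nat.card (MulAction.fixedBy Ω g) : ℂ)) c = 0 := by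
    intro c hc
    have hcx : (c : G) ∈ Subgroup.zpowers x := hself c ((ctx₀.hC c).1 c.2)
    have hc1 : (c : G) ≠ 1 := fun h => hc (Subtype.ext h)
    have : MulAction.fixedBy Ω (c : G) = ∅ := by
      ext ω
      simp only [MulAction.mem_fixedBy, Set.mem_empty_iff_false, iff_false]
      exact hsemi c hcx hc1 ω
    show (Nat.card (MulAction.fixedBy Ω (c : G)) : ℂ) = 0
    rw [this]
    simp
  have hθ := mult_equation ctx₀ hself m _ hπm h1 h0
    (trivIrr (Subgroup.centralizer ((Subgroup.zpowers x : Subgroup G) : Set G)))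
  have hξ := fun ξ : ctx₀.Bn => mult_equation ctx₀ hself m _ hπm h1 h0 ξ.1
  have hnp : ¬ (Nat.card Ω).Prime := by
    rw [Nat.card_eq_fintype_card, hΩ]
    intro hpr
    have h2 := (Nat.dvd_prime hpr).1 (Dvd.intro p rfl)
    omega
  have hcard2 : 2 ≤ Nat.card Ω := by
    rw [Nat.card_eq_fintype_card, hΩ]
    omega
  have hlin := no_linear hprim hnp hcard2 m hπm hm1
  have hfaith := constituent_faithful hprim m hπm hm1
  obtain ⟨χ₀, h0t, hm0, hcases⟩ := decomp S hself m hθ hξ hm1 hlin
  have hπg : ∀ g : G, (Nat.card (MulAction.fixedBy Ω g) : ℂ) =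
      ∑ χ : IrrCharacter G, (m χ : ℂ) * (χ : G → ℂ) g := by
    intro g
    have := congrFun hπm g
    rw [Finset.sum_apply] at this
    simpa using this
  rcases hcases with hR2 | ⟨hd0, χ₁, h1t, h10, hm1', hd1, hoth⟩ |
    ⟨hd0, h0r, ⟨q₁, q₂, hq⟩, hε, hexc, hoth⟩
  · -- rank two
    exfalso
    apply h2
    apply two_trans_of_rank_two a₀
    rw [hrank]
    have hsub : ({trivIrr G, χ₀} : Finset (IrrCharacter G)) ⊆ Finset.univ := Finset.subset_univ _
    have hs := Finset.sum_subset (f := fun χ => m χ ^ 2) hsub (by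
      intro χ _ hχ
      simp only [Finset.mem_insert, Finset.mem_singleton, not_or] at hχ
      show m χ ^ 2 = 0
      rw [hR2 χ hχ.1 hχ.2]
      norm_num)
    rw [← hs, Finset.sum_pair (Ne.symm h0t)]
    show m (trivIrr G) ^ 2 + m χ₀ ^ 2 = 2
    rw [hm1, hm0]
    norm_num
  · -- case (A)
    have hrank3 : Nat.card (MulAction.orbitRel.Quotient (MulAction.stabilizer G a₀) Ω) = 3 := by
      rw [hrank]
      have hsub : ({trivIrr G, χ₀, χ₁} : Finset (IrrCharacter G)) ⊆ Finset.univ :=
        Finset.subset_univ _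
      have hs := Finset.sum_subset (f := fun χ => m χ ^ 2) hsub (by
        intro χ _ hχ
        simp only [Finset.mem_insert, Finset.mem_singleton, not_or] at hχ
        show m χ ^ 2 = 0
        rw [hoth χ hχ.1 hχ.2.1 hχ.2.2]
        norm_num)
      have hnot : trivIrr G ∉ ({χ₀, χ₁} : Finset (IrrCharacter G)) := by
        simp only [Finset.mem_insert, Finset.mem_singleton, not_or]
        exact ⟨Ne.symm h0t, Ne.symm h1t⟩
      rw [← hs, Finset.sum_insert hnot, Finset.sum_pair (Ne.symm h10)]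
      show m (trivIrr G) ^ 2 + (m χ₀ ^ 2 + m χ₁ ^ 2) = 3
      rw [hm1, hm0, hm1']
      norm_num
    refine ⟨hrank3, ?_⟩
    have hπ3 : (fun g : G => (Nat.card (MulAction.fixedBy Ω g) : ℂ)) =
        fun g => 1 + (χ₁ : G → ℂ) g + (χ₀ : G → ℂ) g := by
      funext g
      rw [hπg g, sum_three _ (trivIrr G) χ₀ χ₁ (Ne.symm h0t) (Ne.symm h1t) (Ne.symm h10)]
      · rw [hm1, hm0, hm1', trivIrr_apply]
        push_cast
        ring
      · intro χ n0 n1 n2
        rw [hoth χ n0 n1 n2]
        simp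
    have hdeg1 : (χ₁ : G → ℂ) 1 = (p : ℂ) - 1 := by
      rw [(irr_apply_one_eq_charDegree χ₁.2).1, hd1, Nat.cast_sub hp.one_lt.le]
      simp
    have hdeg0 : (χ₀ : G → ℂ) 1 = (p : ℂ) := by
      rw [(irr_apply_one_eq_charDegree χ₀.2).1, hd0]
    exact Cfsg.Agent.S0719.result hprim hΩ a₀ hrank3 χ₁ χ₀ χ₁.2 χ₀.2 hπ3 hdeg1 hdeg0
  · -- case (B)
    exfalso
    have hatriv : ∀ q, a q ≠ trivIrr G := by
      intro q h
      have := (hexc q).2
      rw [h, d1m_triv, if_pos rfl] at this
      exact absurd this one_ne_zero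
    have hdege : ∀ q, charDegree (a q : G → ℂ) = ctx₀.e := by
      intro q
      have := degree_exc S hself q
      rw [(hexc q).2, hε] at this
      have h3 : (charDegree (a q : G → ℂ) : ℤ) = (ctx₀.e : ℤ) := by
        rw [this]
        push_cast
        ring
      exact_mod_cast h3
    have hcardQ := ctx₀.card_Q_mul_e
    by_cases hall : ∀ q, q = q₁ ∨ q = q₂
    · -- exactly two classes
      have hQ2 : Fintype.card ctx₀.Q = 2 := by
        have : (Finset.univ : Finset ctx₀.Q) = {q₁, q₂} := by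
          ext q
          simp only [Finset.mem_univ, Finset.mem_insert, Finset.mem_singleton, true_iff]
          exact hall q
        rw [← Finset.card_univ, this, Finset.card_pair hq]
      rw [hQ2] at hcardQ
      have hph : p = 2 * ctx₀.e + 1 := by omega
      have hh : 1 ≤ ctx₀.e := ctx₀.e_pos
      obtain ⟨g₀, hg₀, hdiff⟩ := exc_diff S hself q₁ q₂ hq hall hε (hexc q₁).2 (hexc q₂).2
      have hne12 : a q₁ ≠ a q₂ := fun h => hq (S.inj h)
      have hπ4 : (fun g : G => (Nat.card (MulAction.fixedBy Ω g) : ℂ)) =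
          fun g => 1 + (χ₀ : G → ℂ) g + (a q₁ : G → ℂ) g + (a q₂ : G → ℂ) g := by
        funext g
        have n01 : χ₀ ≠ a q₁ := fun h => h0r ⟨q₁, h.symm⟩
        have n02 : χ₀ ≠ a q₂ := fun h => h0r ⟨q₂, h.symm⟩
        rw [hπg g, sum_four _ (trivIrr G) χ₀ (a q₁) (a q₂) (Ne.symm h0t) (Ne.symm (hatriv q₁))
          (Ne.symm (hatriv q₂)) n01 n02 hne12]
        · rw [hm1, hm0, (hexc q₁).1, (hexc q₂).1, trivIrr_apply]
          push_cast
          ring
        · intro χ n0 n1 n2 n3
          have hr : χ ∉ Set.range a := by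
            rintro ⟨q, rfl⟩
            rcases hall q with h | h
            · exact n2 (by rw [h])
            · exact n3 (by rw [h])
          rw [hoth χ n0 n1 hr]
          simp
      have hdeg0 : (χ₀ : G → ℂ) 1 = (p : ℂ) := by
        rw [(irr_apply_one_eq_charDegree χ₀.2).1, hd0]
      have hdeg1 : (a q₁ : G → ℂ) 1 = (ctx₀.e : ℂ) := by
        rw [(irr_apply_one_eq_charDegree (a q₁).2).1, hdege q₁]
      have hdeg2 : (a q₂ : G → ℂ) 1 = (ctx₀.e : ℂ) := by
        rw [(irr_apply_one_eq_charDegree (a q₂).2).1, hdege q₂]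
      have hnf1 : (a q₁ : G → ℂ) ≠ fun _ => 1 := by
        intro h
        apply hatriv q₁
        apply Subtype.ext
        rw [h, htrivfun]
      have hnf2 : (a q₂ : G → ℂ) ≠ fun _ => 1 := by
        intro h
        apply hatriv q₂
        apply Subtype.ext
        rw [h, htrivfun]
      exact caseB_false hp hph hh hΩ a₀ hprim (χ₀ : G → ℂ) (a q₁ : G → ℂ) (a q₂ : G → ℂ) χ₀.2
        (a q₁).2 (a q₂).2 hπ4 hdeg0 hdeg1 hdeg2 (fun h => hne12 (Subtype.ext h)) hnf1 hnf2 g₀ hg₀
        hdiff
    · -- at least three classes: Brauer's bound applies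
      push Not at hall
      obtain ⟨q₃, hq31, hq32⟩ := hall
      have hQ3 : 3 ≤ Fintype.card ctx₀.Q := by
        have h3 : ({q₁, q₂, q₃} : Finset ctx₀.Q).card = 3 := by
          rw [Finset.card_insert_of_notMem, Finset.card_pair (Ne.symm hq32)]
          simp only [Finset.mem_insert, Finset.mem_singleton, not_or]
          exact ⟨hq, Ne.symm hq31⟩
        rw [← h3]
        exact Finset.card_le_univ _
      have hebound : 2 * ctx₀.e + 1 < p := by
        have : 3 * ctx₀.e ≤ p - 1 := by
          rw [← hcardQ]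
          exact Nat.mul_le_mul_right _ hQ3
        have := ctx₀.e_pos
        omega
      have hnorm : (Subgroup.zpowers x).Normal :=
        br_main (Nat.card G) G rfl p x hx hsq (a q₁ : G → ℂ) (isCharacter_of_irr (a q₁).2)
          (hfaith (a q₁) (hatriv q₁) (by rw [(hexc q₁).1]; exact one_ne_zero))
          (by rw [hdege q₁]; exact hebound)
      have hx1 : x ≠ 1 := by
        rintro rfl
        rw [orderOf_one] at hx
        omega
      have hdvd := card_dvd_of_normal hprim (Subgroup.zpowers x) x (Subgroup.mem_zpowers x) hx1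
      rw [Nat.card_zpowers, hx, Nat.card_eq_fintype_card, hΩ] at hdvd
      have := Nat.le_of_dvd hp.pos hdvd
      omega

end main

end Cfsg.Agent.H7W2p
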