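import Mathlib
import Cfsg.Agent.Lib.Helper7.I2p2
import Cfsg.Agent.Lib.Helper7.I2p3
import Cfsg.Agent.Lib.Helper7.W2p5
import Cfsg.Agent.S0188

set_option autoImplicit false
set_option maxHeartbeats 1600000
set_option linter.unusedVariables false
set_option linter.unusedSectionVars false
set_option linter.style.haveILetI false

/-!
# Primitive groups of degree `2p` with Sylow normalizer of order `2p`, part 4

The order of a group with a self-centralizing element of order `p`, inertial index `2` and a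
faithful irreducible character of degree `p - 1`.
-/

namespace Cfsg.Agent.H7I2p

open Subgroup Cfsg Cfsg.Agent.Lib.Helper1 Cfsg.Agent.Lib.Helper4 Cfsg.Agent.Lib.Helper8
open Cfsg.Agent.Lib.Helper7 Cfsg.Agent.H7Brauer
open scoped ComplexConjugate

universe u

variable {G : Type u} [Group G] [Fintype G] [Fintype (IrrCharacter G)] {p : ℕ}
  [hp : Fact p.Prime] {x : G} {M : Ideal AlgInt} {C : Subgroup G} [Fintype C]
  {b : Set (IrrCharacter C)} {B : Set (IrrCharacter G)}

theorem isCharacter_mul_self {φ : G → ℂ} (hφ : IsCharacter G φ) :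
    IsCharacter G (fun g => φ g * φ g) := by
  have h1 := Cfsg.Agent.S0188.isCharacter_prod hφ hφ
  exact isCharacter_comp_hom h1 (MonoidHom.prod (MonoidHom.id G) (MonoidHom.id G))

/-- **the order of the group** -/
theorem card_eq_of_degree {ctx : D1Ctx p M x C b B (trivIrr C)} {ε : ℤ}
    {W : IrrCharacter G → ℤ} {a : ctx.Q → IrrCharacter G} (S : ctx.Str ε W a)
    (hself : ∀ t : G, t * x = x * t → t ∈ zpowers x) (hp5 : 5 ≤ p) (he : ctx.e = 2)
    (ψ : IrrCharacter G) (hdeg : charDegree (ψ : G → ℂ) = p - 1)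
    (hfaith : ∀ g : G, (ψ : G → ℂ) g = (ψ : G → ℂ) 1 → g = 1) :
    Nat.card G = p * (p - 1) * (p - 2) := by
  classical
  have H := pattern_of_degree S hself hp5 he ψ hdeg
  have hx := ctx.hx
  have hN : Nat.card (nrm x) = 2 * p := by
    rw [ctx_card_nrm ctx hself, he]
    ring
  have hCeq := ctx_C_eq ctx hself
  have hψ1 : (ψ : G → ℂ) 1 = (p : ℂ) - 1 := by
    rw [(irr_apply_one_eq_charDegree ψ.2).1, hdeg, Nat.cast_sub (by omega)]
    simp
  have hG0 : (Nat.card G : ℂ) ≠ 0 := Nat.cast_ne_zero.2 Nat.card_pos.ne'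
  obtain ⟨c, hc⟩ := classInner_char_irr_nat (isCharacter_mul_self (isCharacter_of_irr ψ.2)) ψ.2
  apply moment_complex (ψ : G → ℂ) p c (by omega) (fun g => p ∣ orderOf g)
  · rw [orderOf_one]
    exact fun h => hp.out.one_lt.ne' (Nat.dvd_one.1 h)
  · exact hψ1
  · intro g hg
    obtain ⟨k, hk, hk1⟩ := exists_conj_of_dvd hx hself hg
    have hkC : k * g * k⁻¹ ∈ C := by rw [hCeq]; exact hk
    have h1 := H.psi_apply hself (c := ⟨k * g * k⁻¹, hkC⟩) (fun h => hk1 (congrArg Subtype.val h))
    rw [← isClassFunction_irr ψ.2 g k]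
    exact h1
  · intro g hg
    obtain ⟨k, hk⟩ := H.psi_nat hself hg
    refine ⟨k, hk, fun hne => ?_⟩
    have h1 := br_norm_irr_le ψ g
    rw [hk, hdeg, Complex.norm_natCast] at h1
    have h2 : k ≤ p - 1 := by exact_mod_cast h1
    have h3 : k ≠ p - 1 := by
      intro h
      apply hne
      apply hfaith
      rw [hk, hψ1, h, Nat.cast_sub (by omega)]
      simp
    omega
  · apply Cfsg.Agent.H7W2p.sum_irr_eq_zero (ψ : G → ℂ) ψ.2
    intro h
    have h1 := congrFun h 1
    rw [hψ1] at h1
    have h2 : ((p : ℂ)) = 2 := by linear_combination h1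
    have h3 : p = 2 := by exact_mod_cast h2
    omega
  · have h1 := classInner_irr_self ψ.2
    unfold classInner at h1
    rw [inv_mul_eq_iff_eq_mul₀ hG0] at h1
    rw [h1, mul_one]
  · unfold classInner at hc
    rw [inv_mul_eq_iff_eq_mul₀ hG0] at hc
    rw [hc]
    ring
  · exact card_singular hx hself hN

end Cfsg.Agent.H7I2p
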