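import Mathlib
import Cfsg.Agent.Lib.Helper7.I2p4

set_option autoImplicit false
set_option maxHeartbeats 3200000
set_option linter.unusedSectionVars false
set_option linter.style.haveILetI false
set_option linter.unusedVariables false

/-!
# Primitive groups of degree `2p` with Sylow normalizer of order `2p`, part 5

The order of the group.
-/

namespace Cfsg.Agent.H7I2p

open Cfsg Cfsg.Agent.Lib.Helper8 Cfsg.Agent.Lib.Helper7
open scoped ComplexConjugate
open Cfsg.Agent.Lib.Helper1 Cfsg.Agent.Lib.Helper4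
open Cfsg.Agent.Lib.Helper2.PermChar
open Cfsg.Agent.H7W2p Cfsg.Agent.H7Brauer

universe u

variable {G : Type u} [Group G] [Fintype G] {Ω : Type*} [Fintype Ω] [MulAction G Ω]

/-- the order of a primitive, not doubly transitive group of degree `2p` whose Sylow
`p`-normalizer has order `2p` -/
theorem card_abstract [FaithfulSMul G Ω] (hprim : MulAction.IsPreprimitive G Ω) {p : ℕ}
    [hpf : Fact p.Prime] (hp5 : 5 ≤ p) (hΩ : Fintype.card Ω = 2 * p) (x : G) (hx : orderOf x = p)
    (hsq : ¬ p ^ 2 ∣ Nat.card G)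
    (hself : ∀ t : G, t * x = x * t → t ∈ Subgroup.zpowers x)
    (hsemi : ∀ y ∈ Subgroup.zpowers x, y ≠ 1 → ∀ a : Ω, y • a ≠ a)
    (h2 : ¬ MulAction.IsMultiplyPretransitive G Ω 2) (a₀ : Ω)
    (hN : Nat.card (nrm x) = 2 * p) :
    Nat.card G = p * (p - 1) * (p - 2) := by
  classical
  have hp : p.Prime := hpf.out
  have hp2 : p ≠ 2 := by omega
  haveI := hprim.toIsPretransitive
  have : Fintype (IrrCharacter G) := Fintype.ofFinite _
  obtain ⟨M, hM⟩ := exists_isPModular p
  have instC : Fintype (Subgroup.centralizer ((Subgroup.zpowers x : Subgroup G) : Set G)) :=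
    Fintype.ofFinite _
  have ctx₀ := d1_principal_ctx (M := M) hM hx hsq
  obtain ⟨ε, W, a, S⟩ := ctx₀.exists_str
  have he : ctx₀.e = 2 := by
    have h1 := ctx_card_nrm ctx₀ hself
    rw [hN] at h1
    have hp0 : 0 < p := hp.pos
    have : p * 2 = p * ctx₀.e := by rw [← h1]; ring
    exact (Nat.eq_of_mul_eq_mul_left hp0 this).symm
  -- multiplicities
  obtain ⟨m, hm, hπm⟩ := exists_nat_mult (isCharacter_permChar (G := G) a₀)
  obtain ⟨m', hm', hm'1, hrank⟩ := exists_mult (G := G) a₀
  have hmm : ∀ χ, m' χ = m χ := fun χ => by exact_mod_cast (hm' χ).symm.trans (hm χ)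
  have htrivfun : (trivIrr G : G → ℂ) = fun _ => 1 := funext trivIrr_apply
  have hm1 : m (trivIrr G) = 1 := by rw [← hmm]; exact hm'1 _ htrivfun
  simp only [hmm] at hrank
  have h1 : (fun g : G => (Nat.card (MulAction.fixedBy Ω g) : ℂ)) 1 = 2 * p := by
    show (Nat.card (MulAction.fixedBy Ω (1 : G)) : ℂ) = 2 * p
    rw [MulAction.fixedBy_one_eq_univ, Nat.card_coe_set_eq, Set.ncard_univ,
      Nat.card_eq_fintype_card, hΩ]
    push_cast
    ring
  have h0 : ∀ c : (Subgroup.centralizer ((Subgroup.zpowers x : Subgroup G) : Set G)), c ≠ 1 →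
      (fun g : G => (Nat.card (MulAction.fixedBy Ω g) : ℂ)) c = 0 := by
    intro c hc
    have hcx : (c : G) ∈ Subgroup.zpowers x := hself c ((ctx₀.hC c).1 c.2)
    have hc1 : (c : G) ≠ 1 := fun h => hc (Subtype.ext h)
    have : MulAction.fixedBy Ω (c : G) = ∅ := by
      ext ω
      simp only [MulAction.mem_fixedBy, Set.mem_empty_iff_false, iff_false]
      exact hsemi c hcx hc1 ω
    show (Nat.card (MulAction.fixedBy Ω (c : G)) : ℂ) = 0
    rw [this]
    simp
  have hθ := mult_equation ctx₀ hself m _ hπm h1 h0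
    (trivIrr (Subgroup.centralizer ((Subgroup.zpowers x : Subgroup G) : Set G)))
  have hξ := fun ξ : ctx₀.Bn => mult_equation ctx₀ hself m _ hπm h1 h0 ξ.1
  have hnp : ¬ (Nat.card Ω).Prime := by
    rw [Nat.card_eq_fintype_card, hΩ]
    intro hpr
    have h2 := (Nat.dvd_prime hpr).1 (Dvd.intro p rfl)
    omega
  have hcard2 : 2 ≤ Nat.card Ω := by
    rw [Nat.card_eq_fintype_card, hΩ]
    omega
  have hlin := no_linear hprim hnp hcard2 m hπm hm1
  have hfaith := constituent_faithful hprim m hπm hm1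
  obtain ⟨χ₀, h0t, hm0, hcases⟩ := decomp S hself m hθ hξ hm1 hlin
  have hrank3 := (main_abstract hprim hp hp2 hΩ x hx hsq hself hsemi h2 a₀).1
  rw [hrank] at hrank3
  rcases hcases with hR2 | ⟨hd0, χ₁, h1t, h10, hm1', hd1, hoth⟩ |
    ⟨hd0, h0r, ⟨q₁, q₂, hq⟩, hε, hexc, hoth⟩
  · -- rank two
    exfalso
    have hsub : ({trivIrr G, χ₀} : Finset (IrrCharacter G)) ⊆ Finset.univ := Finset.subset_univ _
    have hs := Finset.sum_subset (f := fun χ => m χ ^ 2) hsub (by
      intro χ _ hχ
      simp only [Finset.mem_insert, Finset.mem_singleton, not_or] at hχ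
      show m χ ^ 2 = 0
      rw [hR2 χ hχ.1 hχ.2]
      norm_num)
    rw [← hs, Finset.sum_pair (Ne.symm h0t)] at hrank3
    simp only [hm1, hm0] at hrank3
    norm_num at hrank3
  · -- the main case
    exact card_eq_of_degree S hself hp5 he χ₁ hd1
      (hfaith χ₁ h1t (by rw [hm1']; norm_num))
  · -- all exceptional characters occur: the rank is at least four
    exfalso
    have hatriv : ∀ q, a q ≠ trivIrr G := by
      intro q h
      have := (hexc q).2
      rw [h, d1m_triv, if_pos rfl] at this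
      exact absurd this one_ne_zero
    have hne12 : a q₁ ≠ a q₂ := fun h => hq (S.inj h)
    have n01 : χ₀ ≠ a q₁ := fun h => h0r ⟨q₁, h.symm⟩
    have n02 : χ₀ ≠ a q₂ := fun h => h0r ⟨q₂, h.symm⟩
    have hsub : ({trivIrr G, χ₀, a q₁, a q₂} : Finset (IrrCharacter G)) ⊆ Finset.univ :=
      Finset.subset_univ _
    have hle := Finset.sum_le_sum_of_subset (f := fun χ => m χ ^ 2) hsub
    have hn2 : χ₀ ∉ ({a q₁, a q₂} : Finset (IrrCharacter G)) := by
      simp only [Finset.mem_insert, Finset.mem_singleton, not_or]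
      exact ⟨n01, n02⟩
    have hn3 : trivIrr G ∉ ({χ₀, a q₁, a q₂} : Finset (IrrCharacter G)) := by
      simp only [Finset.mem_insert, Finset.mem_singleton, not_or]
      exact ⟨Ne.symm h0t, Ne.symm (hatriv q₁), Ne.symm (hatriv q₂)⟩
    have h4 : ∑ χ ∈ ({trivIrr G, χ₀, a q₁, a q₂} : Finset (IrrCharacter G)), m χ ^ 2 = 4 := by
      rw [Finset.sum_insert hn3, Finset.sum_insert hn2, Finset.sum_pair hne12, hm1, hm0,
        (hexc q₁).1, (hexc q₂).1]
      norm_num
    omega

end Cfsg.Agent.H7I2p
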