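import Mathlib
import Cfsg.Agent.Lib.Helper7.Ord60

set_option autoImplicit false
set_option linter.unusedSectionVars false
set_option linter.style.haveILetI false

/-!
A solvable group with the same set of element orders as `PSp(4,3)`:
a `3`-group `A` of exponent `9` and class `3` on seven coordinates over the field `K` with `81`
elements, extended by a Frobenius group of order `20` generated by a diagonal automorphism
of order `5` and the coordinatewise Frobenius map.
-/

namespace Cfsg.Agent.Lib.Helper7.Iso43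

variable (K : Type*) [Field K] [CharP K 3]

/-- the underlying set `K⁷` of the `3`-group -/
@[ext] structure A7 where
  x : K
  y : K
  p1 : K
  p2 : K
  q1 : K
  q2 : K
  r : K

variable {K}

/-- the Frobenius endomorphism -/
noncomputable abbrev fr : K →+* K := frobenius K 3

namespace A7

noncomputable instance : Mul (A7 K) where
  mul g h :=
    { x := g.x + h.x
      y := g.y + h.y
      p1 := g.p1 + h.p1 + g.x * fr h.x
      p2 := g.p2 + h.p2 + fr (fr g.x) * fr h.x
      q1 := g.q1 + h.q1 + fr g.x * fr (fr h.y)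
      q2 := g.q2 + h.q2 - fr g.x * h.y
      r := g.r + h.r + g.x * h.q1 + fr (fr g.x) * h.q2 + g.p1 * fr (fr h.y) - g.p2 * h.y }

instance : One (A7 K) where
  one := ⟨0, 0, 0, 0, 0, 0, 0⟩

noncomputable instance : Inv (A7 K) where
  inv g :=
    { x := -g.x
      y := -g.y
      p1 := -g.p1 + g.x * fr g.x
      p2 := -g.p2 + fr (fr g.x) * fr g.x
      q1 := -g.q1 + fr g.x * fr (fr g.y)
      q2 := -g.q2 - fr g.x * g.y
      r := -g.r + g.x * g.q1 + fr (fr g.x) * g.q2
        - (-g.p1 + g.x * fr g.x) * fr (fr g.y) + (-g.p2 + fr (fr g.x) * fr g.x) * g.y }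

@[simp] theorem mul_x (g h : A7 K) : (g * h).x = g.x + h.x := rfl
@[simp] theorem mul_y (g h : A7 K) : (g * h).y = g.y + h.y := rfl
@[simp] theorem mul_p1 (g h : A7 K) : (g * h).p1 = g.p1 + h.p1 + g.x * fr h.x := rfl
@[simp] theorem mul_p2 (g h : A7 K) : (g * h).p2 = g.p2 + h.p2 + fr (fr g.x) * fr h.x := rfl
@[simp] theorem mul_q1 (g h : A7 K) : (g * h).q1 = g.q1 + h.q1 + fr g.x * fr (fr h.y) := rfl
@[simp] theorem mul_q2 (g h : A7 K) : (g * h).q2 = g.q2 + h.q2 - fr g.x * h.y := rfl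
@[simp] theorem mul_r (g h : A7 K) : (g * h).r =
    g.r + h.r + g.x * h.q1 + fr (fr g.x) * h.q2 + g.p1 * fr (fr h.y) - g.p2 * h.y := rfl
@[simp] theorem one_x : (1 : A7 K).x = 0 := rfl
@[simp] theorem one_y : (1 : A7 K).y = 0 := rfl
@[simp] theorem one_p1 : (1 : A7 K).p1 = 0 := rfl
@[simp] theorem one_p2 : (1 : A7 K).p2 = 0 := rfl
@[simp] theorem one_q1 : (1 : A7 K).q1 = 0 := rfl
@[simp] theorem one_q2 : (1 : A7 K).q2 = 0 := rfl
@[simp] theorem one_r : (1 : A7 K).r = 0 := rfl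
@[simp] theorem inv_x (g : A7 K) : (g⁻¹).x = -g.x := rfl
@[simp] theorem inv_y (g : A7 K) : (g⁻¹).y = -g.y := rfl
@[simp] theorem inv_p1 (g : A7 K) : (g⁻¹).p1 = -g.p1 + g.x * fr g.x := rfl
@[simp] theorem inv_p2 (g : A7 K) : (g⁻¹).p2 = -g.p2 + fr (fr g.x) * fr g.x := rfl
@[simp] theorem inv_q1 (g : A7 K) : (g⁻¹).q1 = -g.q1 + fr g.x * fr (fr g.y) := rfl
@[simp] theorem inv_q2 (g : A7 K) : (g⁻¹).q2 = -g.q2 - fr g.x * g.y := rfl
@[simp] theorem inv_r (g : A7 K) : (g⁻¹).r = -g.r + g.x * g.q1 + fr (fr g.x) * g.q2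
    - (-g.p1 + g.x * fr g.x) * fr (fr g.y) + (-g.p2 + fr (fr g.x) * fr g.x) * g.y := rfl

noncomputable instance : Group (A7 K) :=
  Group.ofLeftAxioms
    (by
      intro a b c
      ext <;> simp only [mul_x, mul_y, mul_p1, mul_p2, mul_q1, mul_q2, mul_r, map_add] <;> ring)
    (by
      intro a
      ext <;> simp)
    (by
      intro a
      ext <;> simp only [mul_x, mul_y, mul_p1, mul_p2, mul_q1, mul_q2, mul_r, inv_x, inv_y,
        inv_p1, inv_p2, inv_q1, inv_q2, inv_r, one_x, one_y, one_p1, one_p2, one_q1, one_q2,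
        one_r, map_neg] <;> ring)


theorem three_eq_zero : (3 : K) = 0 := by
  have := CharP.cast_eq_zero K 3
  exact_mod_cast this

theorem cube (g : A7 K) : g * g * g =
    ⟨0, 0, 0, 0, 0, 0, fr g.x * (g.x * fr (fr g.y) - fr (fr g.x) * g.y)⟩ := by
  have h3 : (3 : K) = 0 := three_eq_zero
  ext <;> simp only [mul_x, mul_y, mul_p1, mul_p2, mul_q1, mul_q2, mul_r, map_add]
  · linear_combination g.x * h3
  · linear_combination g.y * h3
  · linear_combination (g.p1 + g.x * fr g.x) * h3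
  · linear_combination (g.p2 + fr (fr g.x) * fr g.x) * h3
  · linear_combination (g.q1 + fr g.x * fr (fr g.y)) * h3
  · linear_combination (g.q2 - fr g.x * g.y) * h3
  · linear_combination (g.r + g.x * g.q1 + fr (fr g.x) * g.q2 + g.p1 * fr (fr g.y)
      - g.p2 * g.y) * h3

theorem pow_three (g : A7 K) : g ^ 3 =
    ⟨0, 0, 0, 0, 0, 0, fr g.x * (g.x * fr (fr g.y) - fr (fr g.x) * g.y)⟩ := by
  rw [pow_succ, pow_two, cube]

theorem pow_nine (g : A7 K) : g ^ 9 = 1 := by
  have h9 : (9 : ℕ) = 3 * 3 := by norm_num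
  rw [h9, pow_mul, pow_three g, pow_three]
  ext <;> simp

/-- the cube of `g` is trivial as soon as both `x` and `y` are eigenvectors of `fr²` with the
same nonzero eigenvalue -/
theorem pow_three_eq_one (g : A7 K) (w : K) (hw : w ≠ 0) (hx : w * fr (fr g.x) = g.x)
    (hy : w * fr (fr g.y) = g.y) : g ^ 3 = 1 := by
  rw [pow_three]
  have h0 : g.x * fr (fr g.y) - fr (fr g.x) * g.y = 0 := by
    apply (mul_right_injective₀ hw)
    simp only [mul_zero]
    linear_combination g.x * hy - g.y * hx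
  rw [h0, mul_zero]
  rfl

theorem conj_x (a b : A7 K) : (a⁻¹ * b * a).x = b.x := by
  simp
theorem conj_y (a b : A7 K) : (a⁻¹ * b * a).y = b.y := by
  simp

end A7


section autos

open A7

/-- the diagonal automorphism attached to a unit `u` -/
noncomputable def dl (u : Kˣ) : A7 K ≃* A7 K where
  toFun g :=
    { x := (u : K) * g.x
      y := (u : K) * g.y
      p1 := ((u : K) * fr (u : K)) * g.p1
      p2 := (fr (fr (u : K)) * fr (u : K)) * g.p2
      q1 := (fr (u : K) * fr (fr (u : K))) * g.q1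
      q2 := (fr (u : K) * (u : K)) * g.q2
      r := ((u : K) * fr (u : K) * fr (fr (u : K))) * g.r }
  invFun g :=
    { x := ((u⁻¹ : Kˣ) : K) * g.x
      y := ((u⁻¹ : Kˣ) : K) * g.y
      p1 := (((u⁻¹ : Kˣ) : K) * fr ((u⁻¹ : Kˣ) : K)) * g.p1
      p2 := (fr (fr ((u⁻¹ : Kˣ) : K)) * fr ((u⁻¹ : Kˣ) : K)) * g.p2
      q1 := (fr ((u⁻¹ : Kˣ) : K) * fr (fr ((u⁻¹ : Kˣ) : K))) * g.q1
      q2 := (fr ((u⁻¹ : Kˣ) : K) * ((u⁻¹ : Kˣ) : K)) * g.q2
      r := (((u⁻¹ : Kˣ) : K) * fr ((u⁻¹ : Kˣ) : K) * fr (fr ((u⁻¹ : Kˣ) : K))) * g.r }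
  left_inv g := by
    have h1 : ((u⁻¹ : Kˣ) : K) * u = 1 := Units.inv_mul u
    have h2 : fr ((u⁻¹ : Kˣ) : K) * fr (u : K) = 1 := by rw [← map_mul, h1, map_one]
    have h3 : fr (fr ((u⁻¹ : Kˣ) : K)) * fr (fr (u : K)) = 1 := by rw [← map_mul, h2, map_one]
    ext <;> dsimp only
    · linear_combination g.x * h1
    · linear_combination g.y * h1
    · linear_combination (g.p1 * fr ((u⁻¹ : Kˣ) : K) * fr (u : K)) * h1 + g.p1 * h2
    · linear_combination (g.p2 * fr ((u⁻¹ : Kˣ) : K) * fr (u : K)) * h3 + g.p2 * h2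
    · linear_combination (g.q1 * fr ((u⁻¹ : Kˣ) : K) * fr (u : K)) * h3 + g.q1 * h2
    · linear_combination (g.q2 * fr ((u⁻¹ : Kˣ) : K) * fr (u : K)) * h1 + g.q2 * h2
    · linear_combination (g.r * fr ((u⁻¹ : Kˣ) : K) * fr (u : K) * fr (fr ((u⁻¹ : Kˣ) : K))
        * fr (fr (u : K))) * h1 + (g.r * fr (fr ((u⁻¹ : Kˣ) : K)) * fr (fr (u : K))) * h2
        + g.r * h3
  right_inv g := by
    have h1 : (u : K) * ((u⁻¹ : Kˣ) : K) = 1 := Units.mul_inv u
    have h2 : fr (u : K) * fr ((u⁻¹ : Kˣ) : K) = 1 := by rw [← map_mul, h1, map_one]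
    have h3 : fr (fr (u : K)) * fr (fr ((u⁻¹ : Kˣ) : K)) = 1 := by rw [← map_mul, h2, map_one]
    ext <;> dsimp only
    · linear_combination g.x * h1
    · linear_combination g.y * h1
    · linear_combination (g.p1 * fr ((u⁻¹ : Kˣ) : K) * fr (u : K)) * h1 + g.p1 * h2
    · linear_combination (g.p2 * fr ((u⁻¹ : Kˣ) : K) * fr (u : K)) * h3 + g.p2 * h2
    · linear_combination (g.q1 * fr ((u⁻¹ : Kˣ) : K) * fr (u : K)) * h3 + g.q1 * h2
    · linear_combination (g.q2 * fr ((u⁻¹ : Kˣ) : K) * fr (u : K)) * h1 + g.q2 * h2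
    · linear_combination (g.r * fr ((u⁻¹ : Kˣ) : K) * fr (u : K) * fr (fr ((u⁻¹ : Kˣ) : K))
        * fr (fr (u : K))) * h1 + (g.r * fr (fr ((u⁻¹ : Kˣ) : K)) * fr (fr (u : K))) * h2
        + g.r * h3
  map_mul' g h := by
    ext <;> simp only [mul_x, mul_y, mul_p1, mul_p2, mul_q1, mul_q2, mul_r, map_mul] <;> ring


@[simp] theorem dl_x (u : Kˣ) (g : A7 K) : (dl u g).x = (u : K) * g.x := rfl
@[simp] theorem dl_y (u : Kˣ) (g : A7 K) : (dl u g).y = (u : K) * g.y := rfl
@[simp] theorem dl_p1 (u : Kˣ) (g : A7 K) : (dl u g).p1 = ((u : K) * fr (u : K)) * g.p1 := rfl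
@[simp] theorem dl_p2 (u : Kˣ) (g : A7 K) :
    (dl u g).p2 = (fr (fr (u : K)) * fr (u : K)) * g.p2 := rfl
@[simp] theorem dl_q1 (u : Kˣ) (g : A7 K) :
    (dl u g).q1 = (fr (u : K) * fr (fr (u : K))) * g.q1 := rfl
@[simp] theorem dl_q2 (u : Kˣ) (g : A7 K) : (dl u g).q2 = (fr (u : K) * (u : K)) * g.q2 := rfl
@[simp] theorem dl_r (u : Kˣ) (g : A7 K) :
    (dl u g).r = ((u : K) * fr (u : K) * fr (fr (u : K))) * g.r := rfl

theorem dl_mul (u v : Kˣ) : dl (u * v) = (dl u * dl v : MulAut (A7 K)) := by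
  ext g <;> simp only [MulAut.mul_apply, dl_x, dl_y, dl_p1, dl_p2, dl_q1, dl_q2, dl_r,
    Units.val_mul, map_mul] <;> ring

theorem dl_one : dl (1 : Kˣ) = (1 : MulAut (A7 K)) := by
  ext g <;> simp

/-- `dl` as a homomorphism -/
noncomputable def dlHom : Kˣ →* MulAut (A7 K) where
  toFun := dl
  map_one' := dl_one
  map_mul' := dl_mul

theorem dl_pow (u : Kˣ) (n : ℕ) : (dl u : MulAut (A7 K)) ^ n = dl (u ^ n) :=
  (map_pow dlHom u n).symm

variable [Finite K]

/-- the coordinatewise Frobenius automorphism -/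
noncomputable def gm : A7 K ≃* A7 K where
  toFun g := ⟨fr g.x, fr g.y, fr g.p1, fr g.p2, fr g.q1, fr g.q2, fr g.r⟩
  invFun g := ⟨(frobeniusEquiv K 3).symm g.x, (frobeniusEquiv K 3).symm g.y,
    (frobeniusEquiv K 3).symm g.p1, (frobeniusEquiv K 3).symm g.p2,
    (frobeniusEquiv K 3).symm g.q1, (frobeniusEquiv K 3).symm g.q2,
    (frobeniusEquiv K 3).symm g.r⟩
  left_inv g := by
    ext <;> exact frobeniusEquiv_symm_apply_frobenius K 3 _
  right_inv g := by
    ext <;> exact frobenius_apply_frobeniusEquiv_symm K 3 _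
  map_mul' g h := by
    ext <;> simp only [mul_x, mul_y, mul_p1, mul_p2, mul_q1, mul_q2, mul_r, map_mul, map_add,
      map_sub]

@[simp] theorem gm_x (g : A7 K) : (gm g).x = fr g.x := rfl
@[simp] theorem gm_y (g : A7 K) : (gm g).y = fr g.y := rfl
@[simp] theorem gm_p1 (g : A7 K) : (gm g).p1 = fr g.p1 := rfl
@[simp] theorem gm_p2 (g : A7 K) : (gm g).p2 = fr g.p2 := rfl
@[simp] theorem gm_q1 (g : A7 K) : (gm g).q1 = fr g.q1 := rfl
@[simp] theorem gm_q2 (g : A7 K) : (gm g).q2 = fr g.q2 := rfl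
@[simp] theorem gm_r (g : A7 K) : (gm g).r = fr g.r := rfl

/-- Frobenius on units -/
noncomputable def frU : Kˣ →* Kˣ := Units.map ((fr : K →+* K) : K →* K)

@[simp] theorem frU_coe (u : Kˣ) : ((frU u : Kˣ) : K) = fr (u : K) := rfl

theorem frU_eq_pow (u : Kˣ) : frU u = u ^ 3 := by
  ext
  simp [frobenius_def]

theorem gm_mul_dl (u : Kˣ) : (gm * dl u : MulAut (A7 K)) = dl (frU u) * gm := by
  ext g <;> simp only [MulAut.mul_apply, dl_x, dl_y, dl_p1, dl_p2, dl_q1, dl_q2, dl_r,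
    gm_x, gm_y, gm_p1, gm_p2, gm_q1, gm_q2, gm_r, frU_coe, map_mul]

theorem gm_pow_mul_dl (j : ℕ) (u : Kˣ) :
    ((gm : MulAut (A7 K)) ^ j * dl u : MulAut (A7 K)) = dl (frU^[j] u) * gm ^ j := by
  induction j generalizing u with
  | zero => simp
  | succ j ih =>
    rw [pow_succ, mul_assoc, gm_mul_dl, ← mul_assoc, ih, mul_assoc, Function.iterate_succ_apply]


instance : Finite (A7 K) := by
  have hinj : Function.Injective
      (fun g : A7 K => (g.x, g.y, g.p1, g.p2, g.q1, g.q2, g.r)) := by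
    intro g h hgh
    simp only [Prod.mk.injEq] at hgh
    obtain ⟨h1, h2, h3, h4, h5, h6, h7⟩ := hgh
    exact A7.ext h1 h2 h3 h4 h5 h6 h7
  exact Finite.of_injective _ hinj

theorem pow81 (hK : Nat.card K = 81) (a : K) : a ^ 81 = a := by
  haveI := Fintype.ofFinite K
  have := FiniteField.pow_card a
  rwa [← Nat.card_eq_fintype_card, hK] at this

theorem fr4 (hK : Nat.card K = 81) (a : K) : fr (fr (fr (fr a))) = a := by
  simp only [frobenius_def]
  rw [← pow_mul, ← pow_mul, ← pow_mul]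
  exact pow81 hK a

theorem gm_pow_four (hK : Nat.card K = 81) : (gm : MulAut (A7 K)) ^ 4 = 1 := by
  ext g <;> simp [pow_succ, fr4 hK]

/-- the Frobenius group of order `20` of automorphisms, as a submonoid -/
noncomputable def Hmon : Submonoid (MulAut (A7 K)) where
  carrier := {h | ∃ (u : Kˣ) (j : ℕ), u ^ 5 = 1 ∧ h = dl u * gm ^ j}
  one_mem' := ⟨1, 0, one_pow 5, by simp [dl_one]⟩
  mul_mem' := by
    rintro h₁ h₂ ⟨u, j, hu, rfl⟩ ⟨v, k, hv, rfl⟩
    refine ⟨u * frU^[j] v, j + k, ?_, ?_⟩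
    · rw [mul_pow, hu, ← iterate_map_pow, hv, iterate_map_one, mul_one]
    · rw [dl_mul, pow_add, mul_assoc, mul_assoc, ← mul_assoc (gm ^ j), gm_pow_mul_dl]
      simp only [mul_assoc]

/-- the Frobenius group of order `20` of automorphisms -/
noncomputable def H : Subgroup (MulAut (A7 K)) :=
  { Hmon with
    inv_mem' := by
      intro h hh
      have hpos : 0 < orderOf h := orderOf_pos h
      have : h⁻¹ = h ^ (orderOf h - 1) := by
        apply inv_eq_of_mul_eq_one_right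
        rw [← pow_succ', Nat.sub_add_cancel hpos, pow_orderOf_eq_one]
      rw [this]
      exact Submonoid.pow_mem _ hh _ }

theorem mem_H (h : MulAut (A7 K)) :
    h ∈ (H : Subgroup (MulAut (A7 K))) ↔ ∃ (u : Kˣ) (j : ℕ), u ^ 5 = 1 ∧ h = dl u * gm ^ j :=
  Iff.rfl

end autos


section sdp

variable {N : Type*} [Group N] (S : Subgroup (MulAut N))

/-- partial norms `a * h a * ⋯ * h^(n-1) a` -/
def nrm (h : MulAut N) (a : N) : ℕ → N
  | 0 => 1
  | n + 1 => nrm h a n * (h ^ n) a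

theorem nrm_succ' (h : MulAut N) (a : N) (n : ℕ) : a * h (nrm h a n) = nrm h a (n + 1) := by
  induction n with
  | zero => simp [nrm]
  | succ n ih =>
    have : nrm h a (n + 1) = nrm h a n * (h ^ n) a := rfl
    rw [this, map_mul, ← mul_assoc, ih]
    show nrm h a (n + 1) * h ((h ^ n) a) = nrm h a (n + 1) * (h ^ (n + 1)) a
    rw [pow_succ', MulAut.mul_apply]

theorem map_nrm (h : MulAut N) (a : N) (n : ℕ) (hn : h ^ n = 1) :
    h (nrm h a n) = a⁻¹ * nrm h a n * a := by
  have h1 := nrm_succ' h a n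
  have h2 : nrm h a (n + 1) = nrm h a n * a := by
    show nrm h a n * (h ^ n) a = _
    rw [hn, MulAut.one_apply]
  rw [h2] at h1
  rw [mul_assoc, ← h1]
  group

theorem pow_left_right (g : N ⋊[S.subtype] S) (n : ℕ) :
    (g ^ n).left = nrm (g.right : MulAut N) g.left n ∧ (g ^ n).right = g.right ^ n := by
  induction n with
  | zero => simp [nrm]
  | succ n ih =>
    rw [pow_succ, SemidirectProduct.mul_left, SemidirectProduct.mul_right, ih.1, ih.2]
    refine ⟨?_, rfl⟩
    show _ = nrm (g.right : MulAut N) g.left n * ((g.right : MulAut N) ^ n) g.left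
    simp

theorem pow_eq_inl (g : N ⋊[S.subtype] S) (n : ℕ) (hn : (g.right : MulAut N) ^ n = 1) :
    g ^ n = SemidirectProduct.inl (nrm (g.right : MulAut N) g.left n) := by
  have h := pow_left_right S g n
  refine SemidirectProduct.ext ?_ ?_
  · rw [h.1]; rfl
  · rw [h.2, SemidirectProduct.right_inl]
    apply Subtype.ext
    rw [SubgroupClass.coe_pow, hn]; rfl

theorem pow_eq_one_of_fpf [Finite N] (g : N ⋊[S.subtype] S) (n : ℕ)
    (hfix : ∀ a : N, (g.right : MulAut N) a = a → a = 1)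
    (hn : (g.right : MulAut N) ^ n = 1) : g ^ n = 1 := by
  have hinj : Function.Injective (fun v : N => v⁻¹ * (g.right : MulAut N) v) := by
    intro v w hvw
    simp only at hvw
    have h1 : (g.right : MulAut N) (w * v⁻¹) = w * v⁻¹ := by
      rw [map_mul, map_inv]
      have : (g.right : MulAut N) w = w * (v⁻¹ * (g.right : MulAut N) v) := by
        rw [hvw]; group
      rw [this]; group
    have h2 := hfix _ h1
    exact (mul_inv_eq_one.mp h2).symm
  obtain ⟨v, hv⟩ := Finite.surjective_of_injective hinj g.left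
  simp only at hv
  have hg : g = (SemidirectProduct.inl v)⁻¹ * SemidirectProduct.inr g.right *
      SemidirectProduct.inl v := by
    refine SemidirectProduct.ext ?_ ?_
    · simp [hv]
    · simp
  have hr : g.right ^ n = 1 := by
    apply Subtype.ext
    rw [SubgroupClass.coe_pow, hn]; rfl
  have key : g ^ n = (SemidirectProduct.inl v)⁻¹ * (SemidirectProduct.inr g.right) ^ n *
      ((SemidirectProduct.inl v)⁻¹)⁻¹ := by
    rw [← conj_pow, inv_inv]
    exact congrArg (· ^ n) hg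
  rw [key, ← map_pow, hr, map_one]
  group

end sdp


section main

open A7

variable [Finite K]

variable (K) in
/-- the solvable group with the element orders of `PSp(4,3)` -/
abbrev GG : Type _ :=
  A7 K ⋊[(H : Subgroup (MulAut (A7 K))).subtype] (H : Subgroup (MulAut (A7 K)))

theorem gm_pow_mod (hK : Nat.card K = 81) (j : ℕ) :
    (gm : MulAut (A7 K)) ^ j = gm ^ (j % 4) := by
  conv_lhs => rw [← Nat.div_add_mod j 4, pow_add, pow_mul, gm_pow_four hK, one_pow, one_mul]

theorem gm2_x (g : A7 K) : (((gm : MulAut (A7 K)) ^ 2) g).x = fr (fr g.x) := by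
  simp [pow_succ]

theorem gm2_y (g : A7 K) : (((gm : MulAut (A7 K)) ^ 2) g).y = fr (fr g.y) := by
  simp [pow_succ]

theorem sq_eq_one (hK : Nat.card K = 81) (u : Kˣ) (hu : u ^ 5 = 1) :
    (dl u * gm ^ 2 : MulAut (A7 K)) ^ 2 = 1 := by
  have h1 : u * frU^[2] u = 1 := by
    simp only [Function.iterate_succ, Function.iterate_zero, Function.comp_apply, id_eq,
      frU_eq_pow]
    rw [← pow_mul, ← pow_succ']
    have : (3 * 3 + 1 : ℕ) = 5 * 2 := by norm_num
    rw [this, pow_mul, hu, one_pow]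
  rw [pow_two, mul_assoc, ← mul_assoc (gm ^ 2), gm_pow_mul_dl, mul_assoc, ← pow_add,
    ← mul_assoc, ← dl_mul, h1, dl_one, one_mul]
  exact gm_pow_four hK

theorem case_even (hK : Nat.card K = 81) (g : GG K) (u : Kˣ) (hu : u ^ 5 = 1)
    (hg : (g.right : MulAut (A7 K)) = dl u * gm ^ 2) : g ^ 6 = 1 := by
  have h2 : (g.right : MulAut (A7 K)) ^ 2 = 1 := by rw [hg]; exact sq_eq_one hK u hu
  have e2 := pow_eq_inl (H : Subgroup (MulAut (A7 K))) g 2 h2
  have hfix := map_nrm (g.right : MulAut (A7 K)) g.left 2 h2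
  obtain ⟨b, hb⟩ : ∃ b, b = nrm (g.right : MulAut (A7 K)) g.left 2 := ⟨_, rfl⟩
  rw [← hb] at e2 hfix
  have hx : (u : K) * fr (fr b.x) = b.x := by
    have := congrArg A7.x hfix
    rw [conj_x, hg, MulAut.mul_apply, dl_x, gm2_x] at this
    exact this
  have hy : (u : K) * fr (fr b.y) = b.y := by
    have := congrArg A7.y hfix
    rw [conj_y, hg, MulAut.mul_apply, dl_y, gm2_y] at this
    exact this
  have hb3 : b ^ 3 = 1 := pow_three_eq_one b u (Units.ne_zero u) hx hy
  have h6 : (6 : ℕ) = 2 * 3 := by norm_num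
  rw [h6, pow_mul, e2, ← map_pow, hb3, map_one]

theorem case_one (hK : Nat.card K = 81) (g : GG K) (u : Kˣ) (hu : u ^ 5 = 1)
    (hg : (g.right : MulAut (A7 K)) = dl u * gm) : g ^ 12 = 1 := by
  have hsq : (dl u * gm : MulAut (A7 K)) ^ 2 = dl (u * frU u) * gm ^ 2 := by
    rw [pow_two, mul_assoc, ← mul_assoc gm, gm_mul_dl, mul_assoc, ← pow_two, ← mul_assoc,
      ← dl_mul]
  have hu' : (u * frU u) ^ 5 = 1 := by
    rw [mul_pow, ← map_pow, hu, map_one, mul_one]
  have h4 : (g.right : MulAut (A7 K)) ^ 4 = 1 := by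
    have : (4 : ℕ) = 2 * 2 := by norm_num
    rw [hg, this, pow_mul, hsq]
    exact sq_eq_one hK _ hu'
  have e4 := pow_eq_inl (H : Subgroup (MulAut (A7 K))) g 4 h4
  have hfix := map_nrm (g.right : MulAut (A7 K)) g.left 4 h4
  obtain ⟨b, hb⟩ : ∃ b, b = nrm (g.right : MulAut (A7 K)) g.left 4 := ⟨_, rfl⟩
  rw [← hb] at e4 hfix
  have hx : (u : K) * fr b.x = b.x := by
    have := congrArg A7.x hfix
    rw [conj_x, hg, MulAut.mul_apply, dl_x] at this
    exact this
  have hy : (u : K) * fr b.y = b.y := by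
    have := congrArg A7.y hfix
    rw [conj_y, hg, MulAut.mul_apply, dl_y] at this
    exact this
  have hx2 : ((u : K) * fr (u : K)) * fr (fr b.x) = b.x := by
    calc ((u : K) * fr (u : K)) * fr (fr b.x) = (u : K) * fr ((u : K) * fr b.x) := by
          rw [map_mul]; ring
      _ = b.x := by rw [hx, hx]
  have hy2 : ((u : K) * fr (u : K)) * fr (fr b.y) = b.y := by
    calc ((u : K) * fr (u : K)) * fr (fr b.y) = (u : K) * fr ((u : K) * fr b.y) := by
          rw [map_mul]; ring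
      _ = b.y := by rw [hy, hy]
  have hw : (u : K) * fr (u : K) ≠ 0 :=
    mul_ne_zero (Units.ne_zero u) ((map_ne_zero _).mpr (Units.ne_zero u))
  have hb3 : b ^ 3 = 1 := pow_three_eq_one b _ hw hx2 hy2
  have h12 : (12 : ℕ) = 4 * 3 := by norm_num
  rw [h12, pow_mul, e4, ← map_pow, hb3, map_one]

theorem case_three (hK : Nat.card K = 81) (g : GG K) (u : Kˣ) (hu : u ^ 5 = 1)
    (hg : (g.right : MulAut (A7 K)) = dl u * gm ^ 3) : g ^ 12 = 1 := by
  have hinv : ((g⁻¹).right : MulAut (A7 K)) = dl (frU u⁻¹) * gm := by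
    rw [SemidirectProduct.inv_right, InvMemClass.coe_inv, hg, ← gm_mul_dl]
    apply inv_eq_of_mul_eq_one_right
    rw [mul_assoc, ← mul_assoc (gm ^ 3), ← pow_succ, gm_pow_four hK, one_mul, ← dl_mul,
      mul_inv_cancel, dl_one]
  have hu' : (frU u⁻¹) ^ 5 = 1 := by
    rw [← map_pow, inv_pow, hu, inv_one, map_one]
  have := case_one hK g⁻¹ _ hu' hinv
  rw [inv_pow, inv_eq_one] at this
  exact this

theorem eq_zero_of_wt (c a : K) (hc : c ≠ 1) (h : c * a = a) : a = 0 := by
  have h1 : (c - 1) * a = 0 := by linear_combination h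
  rcases mul_eq_zero.mp h1 with h2 | h2
  · exact absurd (sub_eq_zero.mp h2) hc
  · exact h2

theorem wt_ne_one (u : Kˣ) (hu : u ^ 5 = 1) (hne : u ≠ 1) (k : ℕ) (hk : ¬ 5 ∣ k) :
    (u : K) ^ k ≠ 1 := by
  haveI : Fact (Nat.Prime 5) := ⟨by norm_num⟩
  have ho : orderOf u = 5 := orderOf_eq_prime hu hne
  intro h
  have h1 : u ^ k = 1 := by
    ext
    rw [Units.val_pow_eq_pow_val, h, Units.val_one]
  have := orderOf_dvd_of_pow_eq_one h1
  rw [ho] at this
  exact hk this

theorem case_zero (g : GG K) (u : Kˣ) (hu : u ^ 5 = 1)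
    (hg : (g.right : MulAut (A7 K)) = dl u) : g ^ 9 = 1 ∨ g ^ 5 = 1 := by
  by_cases h1 : u = 1
  · left
    have hr : (g.right : MulAut (A7 K)) ^ 1 = 1 := by rw [pow_one, hg, h1, dl_one]
    have e1 := pow_eq_inl (H : Subgroup (MulAut (A7 K))) g 1 hr
    rw [pow_one] at e1
    rw [e1, ← map_pow, pow_nine, map_one]
  · right
    apply pow_eq_one_of_fpf (H : Subgroup (MulAut (A7 K))) g 5
    · intro a ha
      rw [hg] at ha
      have w1 : (u : K) ≠ 1 := by
        have := wt_ne_one u hu h1 1 (by norm_num)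
        rwa [pow_one] at this
      have w4 : (u : K) * fr (u : K) ≠ 1 := by
        have := wt_ne_one u hu h1 4 (by norm_num)
        rw [frobenius_def]
        intro h; apply this; rw [← h]; ring
      have w12 : fr (fr (u : K)) * fr (u : K) ≠ 1 := by
        have := wt_ne_one u hu h1 12 (by norm_num)
        rw [frobenius_def, frobenius_def]
        intro h; apply this; rw [← h]; ring
      have w13 : (u : K) * fr (u : K) * fr (fr (u : K)) ≠ 1 := by
        have := wt_ne_one u hu h1 13 (by norm_num)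
        rw [frobenius_def, frobenius_def]
        intro h; apply this; rw [← h]; ring
      ext
      · exact eq_zero_of_wt _ _ w1 (congrArg A7.x ha)
      · exact eq_zero_of_wt _ _ w1 (congrArg A7.y ha)
      · exact eq_zero_of_wt _ _ w4 (congrArg A7.p1 ha)
      · exact eq_zero_of_wt _ _ w12 (congrArg A7.p2 ha)
      · refine eq_zero_of_wt _ _ ?_ (congrArg A7.q1 ha)
        rw [mul_comm]; exact w12
      · refine eq_zero_of_wt _ _ ?_ (congrArg A7.q2 ha)
        rw [mul_comm]; exact w4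
      · exact eq_zero_of_wt _ _ w13 (congrArg A7.r ha)
    · rw [hg, dl_pow, hu, dl_one]

theorem dvd_cases (n : ℕ) (h : n ∣ 9 ∨ n ∣ 5 ∨ n ∣ 6 ∨ n ∣ 12) :
    n ∈ ({1, 2, 3, 4, 5, 6, 9, 12} : Set ℕ) := by
  rcases h with h | h | h | h <;>
  · have hle := Nat.le_of_dvd (by norm_num) h
    interval_cases n <;> first | (exfalso; revert h; decide) | simp

theorem orderOf_mem (hK : Nat.card K = 81) (g : GG K) :
    orderOf g ∈ ({1, 2, 3, 4, 5, 6, 9, 12} : Set ℕ) := by
  obtain ⟨u, j, hu, hg⟩ := (mem_H _).mp g.right.2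
  rw [gm_pow_mod hK j] at hg
  have hj : j % 4 < 4 := Nat.mod_lt _ (by norm_num)
  obtain ⟨k, hk⟩ : ∃ k, k = j % 4 := ⟨_, rfl⟩
  rw [← hk] at hg hj
  apply dvd_cases
  interval_cases k
  · rw [pow_zero, mul_one] at hg
    rcases case_zero g u hu hg with h | h
    · exact Or.inl (orderOf_dvd_of_pow_eq_one h)
    · exact Or.inr (Or.inl (orderOf_dvd_of_pow_eq_one h))
  · rw [pow_one] at hg
    exact Or.inr (Or.inr (Or.inr (orderOf_dvd_of_pow_eq_one (case_one hK g u hu hg))))
  · exact Or.inr (Or.inr (Or.inl (orderOf_dvd_of_pow_eq_one (case_even hK g u hu hg))))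
  · exact Or.inr (Or.inr (Or.inr (orderOf_dvd_of_pow_eq_one (case_three hK g u hu hg))))

end main


section lower

open A7

variable [Finite K]

theorem exists_zeta (hK : Nat.card K = 81) :
    ∃ z : Kˣ, z ^ 5 = 1 ∧ z ≠ 1 ∧ fr (fr (z : K)) ≠ (z : K) := by
  haveI := Fintype.ofFinite K
  haveI : Fact (Nat.Prime 5) := ⟨by norm_num⟩
  obtain ⟨z, hz⟩ : ∃ z : Kˣ, orderOf z = 5 := by
    apply exists_prime_orderOf_dvd_card' 5
    rw [Nat.card_units, hK]
    norm_num
  have h5 : z ^ 5 = 1 := by rw [← hz]; exact pow_orderOf_eq_one z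
  have h1 : z ≠ 1 := by
    intro h
    rw [h, orderOf_one] at hz
    norm_num at hz
  refine ⟨z, h5, h1, ?_⟩
  intro h
  have h8 := wt_ne_one z h5 h1 8 (by norm_num)
  apply h8
  rw [frobenius_def, frobenius_def] at h
  have hz0 : (z : K) ≠ 0 := Units.ne_zero z
  have h9 : (z : K) * (z : K) ^ 8 = (z : K) * 1 := by
    rw [mul_one]
    calc (z : K) * (z : K) ^ 8 = ((z : K) ^ 3) ^ 3 := by ring
      _ = (z : K) := h
  exact mul_left_cancel₀ hz0 h9

theorem nrm_of_fixed {N : Type*} [Group N] (h : MulAut N) (a : N) (hfix : h a = a) (n : ℕ) :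
    nrm h a n = a ^ n := by
  have hp : ∀ m : ℕ, (h ^ m) a = a := by
    intro m
    induction m with
    | zero => simp
    | succ m ih => rw [pow_succ, MulAut.mul_apply, hfix, ih]
  induction n with
  | zero => simp [nrm]
  | succ n ih =>
    show nrm h a n * (h ^ n) a = _
    rw [ih, hp, pow_succ]

/-- an element of order `9` -/
noncomputable def a9 (z : Kˣ) : A7 K := ⟨1, z, 0, 0, 0, 0, 0⟩

theorem orderOf_a9 (z : Kˣ) (hz : fr (fr (z : K)) ≠ (z : K)) : orderOf (a9 z) = 9 := by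
  haveI : Fact (Nat.Prime 3) := ⟨by norm_num⟩
  have h := orderOf_eq_prime_pow (x := a9 z) (p := 3) (n := 1) ?_ ?_
  · rw [h]; norm_num
  · rw [pow_one, A7.pow_three]
    intro h
    have hr := congrArg A7.r h
    simp only [a9, map_one, one_mul, one_r] at hr
    exact hz (sub_eq_zero.mp hr)
  · have : (3 : ℕ) ^ (1 + 1) = 9 := by norm_num
    rw [this, pow_nine]

/-- a fixed point of `gm` of order `3` -/
def a0 : A7 K := ⟨0, 0, 0, 0, 0, 0, 1⟩

theorem a0_pow_three : (a0 : A7 K) ^ 3 = 1 := by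
  rw [A7.pow_three]
  ext <;> simp [a0]

theorem a0_ne_one : (a0 : A7 K) ≠ 1 := by
  intro h
  have := congrArg A7.r h
  simp [a0] at this

theorem gm_a0 : gm (a0 : A7 K) = a0 := by
  ext <;> simp [a0]

theorem gm_mem_H : (gm : MulAut (A7 K)) ∈ (H : Subgroup (MulAut (A7 K))) :=
  ⟨1, 1, one_pow 5, by rw [dl_one, one_mul, pow_one]⟩

theorem dl_mem_H (z : Kˣ) (hz : z ^ 5 = 1) :
    (dl z : MulAut (A7 K)) ∈ (H : Subgroup (MulAut (A7 K))) :=
  ⟨z, 0, hz, by rw [pow_zero, mul_one]⟩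

theorem gm_sq_ne_one (z : Kˣ) (hz : fr (fr (z : K)) ≠ (z : K)) :
    (gm : MulAut (A7 K)) ^ 2 ≠ 1 := by
  intro h
  have := congrArg (fun f : MulAut (A7 K) => (f ⟨z, 0, 0, 0, 0, 0, 0⟩).x) h
  simp only [gm2_x, MulAut.one_apply] at this
  exact hz this

theorem dl_ne_one (z : Kˣ) (hz : z ≠ 1) : (dl z : MulAut (A7 K)) ≠ 1 := by
  intro h
  have := congrArg (fun f : MulAut (A7 K) => (f ⟨1, 0, 0, 0, 0, 0, 0⟩).x) h
  simp only [dl_x, mul_one, MulAut.one_apply] at this
  apply hz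
  ext
  rw [this, Units.val_one]

theorem exists_order_five (z : Kˣ) (hz : z ^ 5 = 1) (hz1 : z ≠ 1) :
    ∃ g : GG K, orderOf g = 5 := by
  haveI : Fact (Nat.Prime 5) := ⟨by norm_num⟩
  refine ⟨SemidirectProduct.inr ⟨dl z, dl_mem_H z hz⟩, orderOf_eq_prime ?_ ?_⟩
  · rw [← map_pow]
    have : (⟨dl z, dl_mem_H z hz⟩ : (H : Subgroup (MulAut (A7 K)))) ^ 5 = 1 := by
      apply Subtype.ext
      rw [SubgroupClass.coe_pow]
      show (dl z : MulAut (A7 K)) ^ 5 = 1
      rw [dl_pow, hz, dl_one]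
    rw [this, map_one]
  · intro h
    have h1 := SemidirectProduct.inr_injective (h.trans (map_one _).symm)
    exact dl_ne_one z hz1 (congrArg Subtype.val h1)

theorem exists_order_nine (z : Kˣ) (hz : fr (fr (z : K)) ≠ (z : K)) :
    ∃ g : GG K, orderOf g = 9 :=
  ⟨SemidirectProduct.inl (a9 z), by
    rw [orderOf_injective _ SemidirectProduct.inl_injective, orderOf_a9 z hz]⟩

theorem exists_order_twelve (hK : Nat.card K = 81) (z : Kˣ)
    (hz : fr (fr (z : K)) ≠ (z : K)) : ∃ g : GG K, orderOf g = 12 := by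
  let g : GG K := ⟨a0, ⟨gm, gm_mem_H⟩⟩
  have hl : ∀ n : ℕ, (g ^ n).left = a0 ^ n := by
    intro n
    rw [(pow_left_right _ g n).1]
    exact nrm_of_fixed _ _ gm_a0 n
  have hr : ∀ n : ℕ, (((g ^ n).right : (H : Subgroup (MulAut (A7 K)))) : MulAut (A7 K))
      = gm ^ n := by
    intro n
    rw [(pow_left_right _ g n).2, SubgroupClass.coe_pow]
  refine ⟨g, orderOf_eq_of_pow_and_pow_div_prime (by norm_num) ?_ ?_⟩
  · refine SemidirectProduct.ext ?_ ?_
    · rw [hl, SemidirectProduct.one_left]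
      have : (12 : ℕ) = 3 * 4 := by norm_num
      rw [this, pow_mul, a0_pow_three, one_pow]
    · apply Subtype.ext
      rw [hr, SemidirectProduct.one_right]
      have : (12 : ℕ) = 4 * 3 := by norm_num
      rw [this, pow_mul, gm_pow_four hK, one_pow]
      rfl
  · intro p hp hpd
    have hp' : p = 2 ∨ p = 3 := by
      have h12 : (12 : ℕ) = 2 ^ 2 * 3 := by norm_num
      rw [h12] at hpd
      rcases (Nat.Prime.dvd_mul hp).mp hpd with h | h
      · exact Or.inl ((Nat.prime_dvd_prime_iff_eq hp (by norm_num)).mp (hp.dvd_of_dvd_pow h))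
      · exact Or.inr ((Nat.prime_dvd_prime_iff_eq hp (by norm_num)).mp h)
    rcases hp' with rfl | rfl
    · -- g ^ 6 ≠ 1
      intro h
      have h1 := hr 6
      rw [show (12 / 2 : ℕ) = 6 by norm_num] at h
      rw [h, SemidirectProduct.one_right, gm_pow_mod hK 6] at h1
      exact gm_sq_ne_one z hz h1.symm
    · -- g ^ 4 ≠ 1
      intro h
      have h1 := hl 4
      rw [show (12 / 3 : ℕ) = 4 by norm_num] at h
      rw [h, SemidirectProduct.one_left] at h1
      have : (a0 : A7 K) ^ 4 = a0 := by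
        rw [pow_succ, a0_pow_three, one_mul]
      rw [this] at h1
      exact a0_ne_one h1.symm

theorem orders_of_three {G : Type*} [Group G] (a b c : G) (ha : orderOf a = 5)
    (hb : orderOf b = 9) (hc : orderOf c = 12) :
    ({1, 2, 3, 4, 5, 6, 9, 12} : Set ℕ) ⊆ Set.range (orderOf : G → ℕ) := by
  intro n hn
  simp only [Set.mem_insert_iff, Set.mem_singleton_iff] at hn
  have key : ∀ (x : G) (m d : ℕ), orderOf x = m → 0 < m → d ∣ m →
      m / d ∈ Set.range (orderOf : G → ℕ) := by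
    intro x m d hx hm hd
    refine ⟨x ^ d, ?_⟩
    rw [orderOf_pow' x (by rintro rfl; simp at hd; omega), hx, Nat.gcd_eq_right hd]
  rcases hn with rfl | rfl | rfl | rfl | rfl | rfl | rfl | rfl
  · exact ⟨1, orderOf_one⟩
  · exact key c 12 6 hc (by norm_num) (by norm_num)
  · exact key c 12 4 hc (by norm_num) (by norm_num)
  · exact key c 12 3 hc (by norm_num) (by norm_num)
  · exact ⟨a, ha⟩
  · exact key c 12 2 hc (by norm_num) (by norm_num)
  · exact ⟨b, hb⟩
  · exact ⟨c, hc⟩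

theorem spectrum (hK : Nat.card K = 81) :
    Set.range (orderOf : GG K → ℕ) = {1, 2, 3, 4, 5, 6, 9, 12} := by
  apply Set.Subset.antisymm
  · rintro n ⟨g, rfl⟩
    exact orderOf_mem hK g
  · obtain ⟨z, hz5, hz1, hz9⟩ := exists_zeta hK
    obtain ⟨a, ha⟩ := exists_order_five z hz5 hz1
    obtain ⟨b, hb⟩ := exists_order_nine z hz9
    obtain ⟨c, hc⟩ := exists_order_twelve hK z hz9
    exact orders_of_three a b c ha hb hc

end lower

section solv

open A7

variable [Finite K]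

instance : Finite (GG K) := Finite.of_equiv _ SemidirectProduct.equivProd.symm

theorem solvable_A7 : Group.IsSolvable (A7 K) := by
  haveI : Fact (Nat.Prime 3) := ⟨by norm_num⟩
  have hp : IsPGroup 3 (A7 K) := fun g => ⟨2, by norm_num [pow_nine]⟩
  haveI := hp.isNilpotent
  infer_instance

theorem card_H_le (hK : Nat.card K = 81) :
    Nat.card (H : Subgroup (MulAut (A7 K))) ≤ 20 := by
  let Φ : (rootsOfUnity 5 K) × Fin 4 → (H : Subgroup (MulAut (A7 K))) := fun p =>
    ⟨dl (p.1 : Kˣ) * gm ^ (p.2 : ℕ), ⟨p.1, p.2, (mem_rootsOfUnity 5 _).mp p.1.2, rfl⟩⟩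
  have hsurj : Function.Surjective Φ := by
    rintro ⟨h, u, j, hu, rfl⟩
    refine ⟨(⟨u, (mem_rootsOfUnity 5 u).mpr hu⟩, ⟨j % 4, Nat.mod_lt _ (by norm_num)⟩), ?_⟩
    apply Subtype.ext
    show dl u * gm ^ (j % 4) = dl u * gm ^ j
    rw [← gm_pow_mod hK j]
  have h1 := Nat.card_le_card_of_surjective Φ hsurj
  have h2 : Nat.card ((rootsOfUnity 5 K) × Fin 4) = Nat.card (rootsOfUnity 5 K) * 4 := by
    rw [Nat.card_prod, Nat.card_eq_fintype_card (α := Fin 4), Fintype.card_fin]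
  have h3 := card_rootsOfUnity (R := K) (k := 5)
  omega

theorem solvable_GG (hK : Nat.card K = 81) : Group.IsSolvable (GG K) := by
  haveI := solvable_A7 (K := K)
  haveI : Group.IsSolvable (H : Subgroup (MulAut (A7 K))) :=
    Cfsg.Agent.Lib.Helper7.Ord60.solvable_of_card_lt_sixty _ _ rfl
      (lt_of_le_of_lt (card_H_le hK) (by norm_num))
  exact Group.isSolvable_of_ker_le_range (SemidirectProduct.inl : A7 K →* GG K)
    (SemidirectProduct.rightHom : GG K →* _) SemidirectProduct.range_inl_eq_ker_rightHom.ge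

end solv

/-- the final statement: a finite solvable group with spectrum `{1,2,3,4,5,6,9,12}` -/
theorem exists_solvable :
    ∃ (G : Type) (_ : Group G) (_ : Fintype G), Group.IsSolvable G ∧
      Set.range (orderOf : G → ℕ) = {1, 2, 3, 4, 5, 6, 9, 12} := by
  have hK : Nat.card (GaloisField 3 4) = 81 := by
    rw [GaloisField.card 3 4 (by norm_num)]; norm_num
  exact ⟨GG (GaloisField 3 4), inferInstance, Fintype.ofFinite _, solvable_GG hK, spectrum hK⟩

end Cfsg.Agent.Lib.Helper7.Iso43
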