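import Mathlib
import Cfsg.Prelude.Def_Amalgam
import Cfsg.Prelude.Def_Local
import Cfsg.Agent.Lib.Helper3.Components4

set_option autoImplicit false

/-!
Package T of S3044/S3045: transfer between `↥Y ⧸ O_p(↥Y)` and the image `N` of `Y` in
`G ⧸ O_p(Y)` (pure transport of structure).
-/

namespace Cfsg.Agent.Lib.Helper7.IsoMinT

open Subgroup Cfsg.Agent.Lib.Helper3
open scoped commutatorElement

set_option linter.unusedSectionVars false

variable {G : Type*} [Group G] {p : ℕ} (Y : Subgroup G)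

theorem mem_pCoreOf_iff (y : ↥Y) : (y : G) ∈ Cfsg.pCoreOf p Y ↔ y ∈ Cfsg.pCore p ↥Y := by
  unfold Cfsg.pCoreOf
  constructor
  · rintro ⟨z, hz, hzy⟩
    have : z = y := Subtype.ext hzy
    rwa [← this]
  · intro h
    exact ⟨y, h, rfl⟩

theorem pCoreOf_le : Cfsg.pCoreOf p Y ≤ Y := by
  unfold Cfsg.pCoreOf
  rintro _ ⟨z, _, rfl⟩
  exact z.2

variable [hR : (Cfsg.pCoreOf p Y).Normal] [hn : (Cfsg.pCore p ↥Y).Normal]

/-- the image of `Y` in `G ⧸ O_p(Y)`. -/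
abbrev imN : Subgroup (G ⧸ Cfsg.pCoreOf p Y) := Y.map (QuotientGroup.mk' (Cfsg.pCoreOf p Y))

/-- the natural map `↥Y → ↥N`. -/
def toN : ↥Y →* ↥(imN (p := p) Y) where
  toFun y := ⟨QuotientGroup.mk' (Cfsg.pCoreOf p Y) (y : G), ⟨(y : G), y.2, rfl⟩⟩
  map_one' := by
    apply Subtype.ext
    simp
  map_mul' a b := by
    apply Subtype.ext
    simp

theorem toN_coe (y : ↥Y) :
    ((toN (p := p) Y y : ↥(imN (p := p) Y)) : G ⧸ Cfsg.pCoreOf p Y) =
      QuotientGroup.mk' (Cfsg.pCoreOf p Y) (y : G) := rfl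

theorem toN_surjective : Function.Surjective (toN (p := p) Y) := by
  rintro ⟨_, ⟨y, hy, rfl⟩⟩
  exact ⟨⟨y, hy⟩, rfl⟩

theorem toN_ker : (toN (p := p) Y).ker = Cfsg.pCore p ↥Y := by
  ext y
  rw [MonoidHom.mem_ker, ← mem_pCoreOf_iff]
  constructor
  · intro h
    have h1 := congrArg Subtype.val h
    rw [toN_coe] at h1
    exact (QuotientGroup.eq_one_iff _).1 h1
  · intro h
    apply Subtype.ext
    rw [toN_coe]
    exact (QuotientGroup.eq_one_iff _).2 h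

/-- (T1) the isomorphism `↥Y ⧸ O_p(↥Y) ≃* ↥N`. -/
noncomputable def equivN : (↥Y ⧸ Cfsg.pCore p ↥Y) ≃* ↥(imN (p := p) Y) :=
  (QuotientGroup.quotientMulEquivOfEq (toN_ker (p := p) Y).symm).trans
    (QuotientGroup.quotientKerEquivOfSurjective (toN (p := p) Y) (toN_surjective Y))

theorem equivN_mk (y : ↥Y) :
    equivN (p := p) Y (QuotientGroup.mk' (Cfsg.pCore p ↥Y) y) = toN (p := p) Y y := rfl

theorem equivN_mk_coe (y : ↥Y) :
    ((equivN (p := p) Y (QuotientGroup.mk' (Cfsg.pCore p ↥Y) y) : ↥(imN (p := p) Y)) :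
      G ⧸ Cfsg.pCoreOf p Y) = QuotientGroup.mk' (Cfsg.pCoreOf p Y) (y : G) := rfl

/-- (T2a) -/
theorem isPGroup_quot {t : ℕ} (h : IsPGroup t ↥(imN (p := p) Y)) :
    IsPGroup t (↥Y ⧸ Cfsg.pCore p ↥Y) :=
  h.of_equiv (equivN (p := p) Y).symm

/-- (T2b) -/
theorem card_quot : Nat.card (↥Y ⧸ Cfsg.pCore p ↥Y) = Nat.card ↥(imN (p := p) Y) :=
  Nat.card_congr (equivN (p := p) Y).toEquiv

/-- (T3) -/
theorem nilpotencyClass_quot_le_two
    (h : ⁅⁅imN (p := p) Y, imN (p := p) Y⁆, imN (p := p) Y⁆ = ⊥) :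
    ∃ _ : Group.IsNilpotent (↥Y ⧸ Cfsg.pCore p ↥Y),
      Group.nilpotencyClass (↥Y ⧸ Cfsg.pCore p ↥Y) ≤ 2 := by
  have hcomm : ∀ a b c : ↥Y ⧸ Cfsg.pCore p ↥Y, ⁅⁅a, b⁆, c⁆ = 1 := by
    intro a b c
    have hinj := (equivN (p := p) Y).injective
    apply hinj
    apply Subtype.ext
    rw [map_one, map_commutatorElement, map_commutatorElement]
    have h1 : ⁅⁅((equivN (p := p) Y a : ↥(imN (p := p) Y)) : G ⧸ Cfsg.pCoreOf p Y),
        ((equivN (p := p) Y b : ↥(imN (p := p) Y)) : G ⧸ Cfsg.pCoreOf p Y)⁆,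
        ((equivN (p := p) Y c : ↥(imN (p := p) Y)) : G ⧸ Cfsg.pCoreOf p Y)⁆ ∈
        ⁅⁅imN (p := p) Y, imN (p := p) Y⁆, imN (p := p) Y⁆ :=
      Subgroup.commutator_mem_commutator
        (Subgroup.commutator_mem_commutator (equivN (p := p) Y a).2 (equivN (p := p) Y b).2)
        (equivN (p := p) Y c).2
    rw [h, Subgroup.mem_bot] at h1
    simpa [commutatorElement_def] using h1
  have hlcs : (⊤ : Subgroup (↥Y ⧸ Cfsg.pCore p ↥Y)).lowerCentralSeries 2 = ⊥ := by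
    rw [eq_bot_iff]
    show ⁅⁅(⊤ : Subgroup (↥Y ⧸ Cfsg.pCore p ↥Y)), ⊤⁆, ⊤⁆ ≤ ⊥
    have h1 : ⁅(⊤ : Subgroup (↥Y ⧸ Cfsg.pCore p ↥Y)), ⊤⁆ ≤
        Subgroup.center (↥Y ⧸ Cfsg.pCore p ↥Y) := by
      rw [Subgroup.commutator_le]
      intro a _ b _
      rw [Subgroup.mem_center_iff]
      intro c
      have := hcomm a b c
      exact (commutatorElement_eq_one_iff_commute.1 this).eq.symm
    rw [Subgroup.commutator_le]
    intro z hz c _
    rw [Subgroup.mem_bot, commutatorElement_eq_one_iff_commute]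
    exact (Subgroup.mem_center_iff.1 (h1 hz) c).symm
  have hnil : Group.IsNilpotent (↥Y ⧸ Cfsg.pCore p ↥Y) :=
    Subgroup.nilpotent_iff_lowerCentralSeries.2 ⟨2, hlcs⟩
  exact ⟨hnil, Subgroup.lowerCentralSeries_eq_bot_iff_nilpotencyClass_le.1 hlcs⟩

/-- the layer under an isomorphism, one inclusion. -/
theorem layer_map_mulEquiv_le {A : Type*} {B : Type*} [Group A] [Group B] (e : A ≃* B) :
    (Cfsg.layer A).map (e : A →* B) ≤ Cfsg.layer B := by
  rw [Subgroup.map_le_iff_le_comap, layer_le_iff]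
  intro K hK
  rw [← Subgroup.map_le_iff_le_comap]
  exact IsComponent.le_layer (IsComponent.map_equiv e hK)

/-- the layer under an isomorphism. -/
theorem layer_map_mulEquiv {A : Type*} {B : Type*} [Group A] [Group B] (e : A ≃* B) :
    (Cfsg.layer A).map (e : A →* B) = Cfsg.layer B := by
  apply le_antisymm (layer_map_mulEquiv_le e)
  intro x hx
  have h2 : e.symm x ∈ Cfsg.layer A := layer_map_mulEquiv_le e.symm ⟨x, hx, rfl⟩
  exact ⟨_, h2, by simp⟩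

/-- (T4) -/
theorem layer_quot_eq_top (h : Cfsg.layer ↥(imN (p := p) Y) = ⊤) :
    Cfsg.layer (↥Y ⧸ Cfsg.pCore p ↥Y) = ⊤ := by
  have h1 := layer_map_mulEquiv (equivN (p := p) Y)
  rw [h] at h1
  rw [eq_top_iff]
  intro x _
  have hx : equivN (p := p) Y x ∈ (Cfsg.layer (↥Y ⧸ Cfsg.pCore p ↥Y)).map
      ((equivN (p := p) Y : (↥Y ⧸ Cfsg.pCore p ↥Y) ≃* ↥(imN (p := p) Y)) :
        (↥Y ⧸ Cfsg.pCore p ↥Y) →* ↥(imN (p := p) Y)) := by
    rw [h1]; exact mem_top _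
  obtain ⟨z, hz, hzx⟩ := hx
  have : z = x := (equivN (p := p) Y).injective hzx
  rwa [← this]

/-- key identity for (T5). -/
theorem comap_map_eq (K : Subgroup (↥Y ⧸ Cfsg.pCore p ↥Y)) :
    (K.comap (QuotientGroup.mk' (Cfsg.pCore p ↥Y))).map Y.subtype =
      ((K.map ((equivN (p := p) Y : (↥Y ⧸ Cfsg.pCore p ↥Y) ≃* ↥(imN (p := p) Y)) :
        (↥Y ⧸ Cfsg.pCore p ↥Y) →* ↥(imN (p := p) Y))).map (imN (p := p) Y).subtype).comap
        (QuotientGroup.mk' (Cfsg.pCoreOf p Y)) := by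
  ext g
  constructor
  · intro hg
    obtain ⟨y, hy, rfl⟩ := Subgroup.mem_map.1 hg
    rw [Subgroup.mem_comap] at hy ⊢
    refine ⟨equivN (p := p) Y (QuotientGroup.mk' (Cfsg.pCore p ↥Y) y), ⟨_, hy, rfl⟩, ?_⟩
    rfl
  · intro hg
    rw [Subgroup.mem_comap] at hg
    obtain ⟨n, ⟨k, hk, rfl⟩, hn⟩ := hg
    obtain ⟨y, rfl⟩ := QuotientGroup.mk'_surjective (Cfsg.pCore p ↥Y) k
    have h1 : QuotientGroup.mk' (Cfsg.pCoreOf p Y) (y : G) =
        QuotientGroup.mk' (Cfsg.pCoreOf p Y) g := hn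
    have h2 : (y : G)⁻¹ * g ∈ Cfsg.pCoreOf p Y := by
      rw [← QuotientGroup.eq]
      exact h1
    have hgY : g ∈ Y := by
      have := Y.mul_mem y.2 (pCoreOf_le (p := p) Y h2)
      simpa using this
    refine Subgroup.mem_map.2 ⟨⟨g, hgY⟩, ?_, rfl⟩
    rw [Subgroup.mem_comap]
    have h3 : QuotientGroup.mk' (Cfsg.pCore p ↥Y) (⟨g, hgY⟩ : ↥Y) =
        QuotientGroup.mk' (Cfsg.pCore p ↥Y) y := by
      symm
      rw [QuotientGroup.mk'_apply, QuotientGroup.mk'_apply, QuotientGroup.eq,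
        ← mem_pCoreOf_iff]
      exact h2
    rw [h3]
    exact hk

/-- `comap` along a surjection commutes with conjugation. -/
theorem comap_map_conj {A B : Type*} [Group A] [Group B] (f : A →* B)
    (H : Subgroup B) (s : A) :
    (H.map (MulAut.conj (f s)).toMonoidHom).comap f =
      (H.comap f).map (MulAut.conj s).toMonoidHom := by
  ext g
  constructor
  · intro hg
    rw [Subgroup.mem_comap] at hg
    obtain ⟨h, hh, hhg⟩ := Subgroup.mem_map.1 hg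
    refine Subgroup.mem_map.2 ⟨s⁻¹ * g * s, ?_, ?_⟩
    · rw [Subgroup.mem_comap, map_mul, map_mul, map_inv, ← hhg]
      have : (f s)⁻¹ * (MulAut.conj (f s)).toMonoidHom h * f s = h := by
        simp [MulAut.conj_apply, mul_assoc]
      rw [this]
      exact hh
    · simp [MulAut.conj_apply, mul_assoc]
  · intro hg
    obtain ⟨a, ha, rfl⟩ := Subgroup.mem_map.1 hg
    rw [Subgroup.mem_comap] at ha ⊢
    refine Subgroup.mem_map.2 ⟨f a, ha, ?_⟩
    simp [MulAut.conj_apply]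

/-- (T5) -/
theorem components_conj_transfer (S : Subgroup G)
    (h : ∀ K₁ K₂ : Subgroup ↥(imN (p := p) Y), Cfsg.IsComponent K₁ → Cfsg.IsComponent K₂ →
      ∃ s ∈ S.map (QuotientGroup.mk' (Cfsg.pCoreOf p Y)),
        K₂.map (imN (p := p) Y).subtype =
          (K₁.map (imN (p := p) Y).subtype).map (MulAut.conj s).toMonoidHom) :
    ∀ K₁ K₂ : Subgroup (↥Y ⧸ Cfsg.pCore p ↥Y), Cfsg.IsComponent K₁ → Cfsg.IsComponent K₂ →
      ∃ s ∈ S, ((K₂.comap (QuotientGroup.mk' (Cfsg.pCore p ↥Y))).map Y.subtype) =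
        ((K₁.comap (QuotientGroup.mk' (Cfsg.pCore p ↥Y))).map Y.subtype).map
          (MulAut.conj s).toMonoidHom := by
  intro K₁ K₂ hK₁ hK₂
  obtain ⟨s', ⟨s, hs, rfl⟩, hs'⟩ := h _ _ (IsComponent.map_equiv (equivN (p := p) Y) hK₁)
    (IsComponent.map_equiv (equivN (p := p) Y) hK₂)
  refine ⟨s, hs, ?_⟩
  rw [comap_map_eq, comap_map_eq, hs',
    comap_map_conj]

end Cfsg.Agent.Lib.Helper7.IsoMinT
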