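import Mathlib
import Cfsg.Agent.Lib.Helper7.TwoCS2

set_option autoImplicit false

namespace Cfsg.Agent.Lib.Helper7.TwoCS

open Cfsg.Agent.Lib.Helper7.CM
open scoped IsMulCommutative

variable {G : Type*} [Group G]

/-- the homomorphism `g ↦ [z, g]` into the center, for `z` central modulo the center -/
noncomputable def kappa (z : G) (hzc : ∀ g : G, z * g * z⁻¹ * g⁻¹ ∈ Subgroup.center G) :
    G →* Subgroup.center G :=
  MonoidHom.mk' (fun g => ⟨z * g * z⁻¹ * g⁻¹, hzc g⟩) (by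
    intro a b
    apply Subtype.ext
    show z * (a * b) * z⁻¹ * (a * b)⁻¹ = (z * a * z⁻¹ * a⁻¹) * (z * b * z⁻¹ * b⁻¹)
    have hb := Subgroup.mem_center_iff.mp (hzc b) a⁻¹
    calc z * (a * b) * z⁻¹ * (a * b)⁻¹ = z * a * z⁻¹ * ((z * b * z⁻¹ * b⁻¹) * a⁻¹) := by group
      _ = z * a * z⁻¹ * (a⁻¹ * (z * b * z⁻¹ * b⁻¹)) := by rw [hb]
      _ = (z * a * z⁻¹ * a⁻¹) * (z * b * z⁻¹ * b⁻¹) := by group)

theorem ker_kappa (z : G) (hzc : ∀ g : G, z * g * z⁻¹ * g⁻¹ ∈ Subgroup.center G) :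
    (kappa z hzc).ker = Cen z := by
  ext g
  rw [MonoidHom.mem_ker, mem_Cen]
  constructor
  · intro h
    have h1 : z * g * z⁻¹ * g⁻¹ = 1 := congrArg Subtype.val h
    have : z * g = (z * g * z⁻¹ * g⁻¹) * (g * z) := by group
    rw [this, h1, one_mul]
  · intro h
    apply Subtype.ext
    show z * g * z⁻¹ * g⁻¹ = 1
    rw [← h]; group

/-- the power formula `(c u)^n = (∏_{k<n} u^k c u^{-k}) u^n` for `c` in a normal subgroup -/
theorem mul_pow_conjNormal (C : Subgroup G) [C.Normal] [IsMulCommutative C] (u : G) (c : C) (n : ℕ) :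
    ((c : G) * u) ^ n =
      ((∏ k ∈ Finset.range n, ((MulAut.conjNormal u : MulAut C) ^ k) c : C) : G) * u ^ n := by
  induction n with
  | zero => simp
  | succ n ih =>
    rw [pow_succ, ih, Finset.prod_range_succ, Subgroup.coe_mul, ← map_pow, MulAut.conjNormal_apply,
      pow_succ]
    group

end Cfsg.Agent.Lib.Helper7.TwoCS
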