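import Mathlib
import Cfsg.Agent.Lib.Helper7.TwoCS3

set_option autoImplicit false

namespace Cfsg.Agent.Lib.Helper7.TwoCS

open Cfsg.Agent.Lib.Helper7.CM
open scoped IsMulCommutative commutatorElement

variable {G : Type*} [Group G]

/-- Isaacs: in a finite `p`-group all of whose noncentral classes have the same size, `p`-th powers
are central. -/
theorem pow_mem_center [Finite G] {n p : ℕ} [hp : Fact p.Prime] (hG : IsPGroup p G) (h : IsEC G n)
    (x₀ : G) : x₀ ^ p ∈ Subgroup.center G := by
  classical
  by_contra hx₀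
  have hx₀Z : x₀ ∉ Subgroup.center G := fun h0 => hx₀ ((Subgroup.center G).pow_mem h0 p)
  obtain ⟨z, hz, hzp, hzc⟩ := exists_second_center hG ⟨x₀, hx₀Z⟩
  obtain ⟨C, hCdef⟩ : ∃ C : Subgroup G, C = Cen z := ⟨_, rfl⟩
  have hkey : ∀ g : G, g ^ p ∉ Subgroup.center G → Cen g = C := by
    intro g hg; rw [hCdef]; exact key h hz hzp hzc hg
  have hZC : Subgroup.center G ≤ C := by rw [hCdef]; exact center_le_Cen z
  have hCx : Cen x₀ = C := hkey x₀ hx₀
  have hx₀C : x₀ ∈ C := by rw [← hCx]; exact self_mem_Cen x₀
  -- `C` is abelian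
  have hab : ∀ a ∈ C, ∀ b ∈ C, a * b = b * a := by
    intro a ha b hb
    by_cases hap : a ^ p ∈ Subgroup.center G
    · have hax : a * x₀ = x₀ * a := by
        have : a ∈ Cen x₀ := by rw [hCx]; exact ha
        exact mem_Cen.mp this
      have hpow : (a * x₀) ^ p = a ^ p * x₀ ^ p := (show Commute a x₀ from hax).mul_pow p
      have hnc : (a * x₀) ^ p ∉ Subgroup.center G := by
        intro h0
        apply hx₀
        have : x₀ ^ p = (a ^ p)⁻¹ * (a * x₀) ^ p := by rw [hpow]; group
        rw [this]
        exact (Subgroup.center G).mul_mem ((Subgroup.center G).inv_mem hap) h0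
      have h1 : Cen (a * x₀) = C := hkey _ hnc
      have hb1 : b * (a * x₀) = (a * x₀) * b := by
        have : b ∈ Cen (a * x₀) := by rw [h1]; exact hb
        exact mem_Cen.mp this
      have hb2 : b * x₀ = x₀ * b := by
        have : b ∈ Cen x₀ := by rw [hCx]; exact hb
        exact mem_Cen.mp this
      have : (a * b) * x₀ = (b * a) * x₀ := by
        calc (a * b) * x₀ = a * (b * x₀) := by group
          _ = a * (x₀ * b) := by rw [hb2]
          _ = (a * x₀) * b := by group
          _ = b * (a * x₀) := hb1.symm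
          _ = (b * a) * x₀ := by group
      exact mul_right_cancel this
    · have h1 : Cen a = C := hkey a hap
      have : b ∈ Cen a := by rw [h1]; exact hb
      exact (mem_Cen.mp this).symm
  have hCc : ∀ c ∈ C, c ∉ Subgroup.center G → Cen c = C := by
    intro c hc hcZ
    symm
    rw [hCdef]
    apply h.Cen_eq_of_le hz hcZ
    rw [← hCdef]
    intro b hb
    rw [mem_Cen]
    exact hab b hb c hc
  have hout : ∀ u : G, u ∉ C → u ^ p ∈ Subgroup.center G := by
    intro u hu
    by_contra h0
    apply hu
    rw [← hkey u h0]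
    exact self_mem_Cen u
  -- normality, abelian quotient
  have hker : (kappa z hzc).ker = C := by rw [hCdef]; exact ker_kappa z hzc
  haveI hCn : C.Normal := by rw [← hker]; exact MonoidHom.normal_ker _
  have hcommC : ∀ a b : G, ⁅a, b⁆ ∈ C := by
    intro a b
    rw [← hker]
    exact Abelianization.commutator_subset_ker (kappa z hzc)
      (Subgroup.commutator_mem_commutator (Subgroup.mem_top a) (Subgroup.mem_top b))
  haveI hCcomm : IsMulCommutative C := ⟨⟨fun a b => Subtype.ext (hab a a.2 b b.2)⟩⟩
  -- the conjugation action on `C`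
  have hρC : ∀ c' : G, c' ∈ C → (MulAut.conjNormal c' : MulAut C) = 1 := by
    intro c' hc'
    ext c
    rw [MulAut.conjNormal_apply, MulAut.one_apply]
    rw [hab c' hc' c c.2]
    group
  have hρcomm : ∀ a b : G, Commute (MulAut.conjNormal a : MulAut C) (MulAut.conjNormal b) := by
    intro a b
    show (MulAut.conjNormal a : MulAut C) * MulAut.conjNormal b =
      MulAut.conjNormal b * MulAut.conjNormal a
    rw [← map_mul, ← map_mul]
    have e : a * b = b * a * ⁅a⁻¹, b⁻¹⁆ := by
      rw [commutatorElement_def]; group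
    rw [e, map_mul, hρC _ (hcommC _ _), mul_one]
  have hρZ : ∀ (a : G) (ζ : C), (ζ : G) ∈ Subgroup.center G →
      (MulAut.conjNormal a : MulAut C) ζ = ζ := by
    intro a ζ hζ
    apply Subtype.ext
    rw [MulAut.conjNormal_apply]
    rw [Subgroup.mem_center_iff.mp hζ a, mul_inv_cancel_right]
  have hnorm : ∀ (u : G) (c : C), u ∉ C →
      ((Nm p (MulAut.conjNormal u : MulAut C) c : C) : G) ∈ Subgroup.center G := by
    intro u c hu
    have h1 := mul_pow_conjNormal C u c p
    have h2 : (c : G) * u ∉ C := by
      intro h0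
      apply hu
      have : u = (c : G)⁻¹ * ((c : G) * u) := by group
      rw [this]
      exact C.mul_mem (C.inv_mem c.2) h0
    have h3 := hout _ h2
    have h4 := hout u hu
    have h5 : ((Nm p (MulAut.conjNormal u : MulAut C) c : C) : G) = ((c : G) * u) ^ p * (u ^ p)⁻¹ := by
      rw [h1]; unfold Nm; group
    rw [h5]
    exact (Subgroup.center G).mul_mem h3 ((Subgroup.center G).inv_mem h4)
  -- choose `g ∉ C`
  have hCtop : C ≠ ⊤ := by rw [hCdef]; exact Cen_ne_top hz
  obtain ⟨g, hg⟩ : ∃ g : G, g ∉ C := by
    by_contra h0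
    push_neg at h0
    exact hCtop (eq_top_iff.mpr (fun x _ => h0 x))
  by_cases hA : ∃ hh : G, ∀ i : ℕ, i < p → hh * g ^ i ∉ C
  · -- noncyclic quotient: the norm computation
    obtain ⟨hh, hhA⟩ := hA
    have hγ : (MulAut.conjNormal g : MulAut C) ^ p = 1 := by
      rw [← map_pow]
      exact hρC _ (hZC (hout g hg))
    have hres := norm_trick hp.out (MulAut.conjNormal g : MulAut C) (MulAut.conjNormal hh)
      (hρcomm hh g) hγ ((Subgroup.center G).subgroupOf C)
      (fun ζ hζ => hρZ hh ζ (Subgroup.mem_subgroupOf.mp hζ)) ⟨x₀, hx₀C⟩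
      (Subgroup.mem_subgroupOf.mpr (hnorm g _ hg))
      (fun i hi => by
        rw [← map_pow, ← map_mul]
        exact Subgroup.mem_subgroupOf.mpr (hnorm _ _ (hhA i hi)))
    apply hx₀
    have := Subgroup.mem_subgroupOf.mp hres
    simpa using this
  · -- cyclic quotient of order `p`
    push_neg at hA
    have hidx : C.index ∣ p := by
      have hall : ∀ q : G ⧸ C, q ∈ Subgroup.zpowers ((QuotientGroup.mk' C) g) := by
        intro q
        obtain ⟨hh, rfl⟩ := QuotientGroup.mk'_surjective C q
        obtain ⟨i, -, hi⟩ := hA hh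
        have h1 : (QuotientGroup.mk' C) hh * ((QuotientGroup.mk' C) g) ^ i = 1 := by
          rw [← map_pow, ← map_mul]
          exact (QuotientGroup.eq_one_iff _).mpr hi
        have h2 : (QuotientGroup.mk' C) hh = (((QuotientGroup.mk' C) g) ^ i)⁻¹ :=
          eq_inv_of_mul_eq_one_left h1
        rw [h2]
        exact Subgroup.inv_mem _ (Subgroup.pow_mem _ (Subgroup.mem_zpowers _) i)
      rw [Subgroup.index_eq_card, ← orderOf_eq_card_of_forall_mem_zpowers hall]
      apply orderOf_dvd_of_pow_eq_one
      rw [← map_pow]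
      exact (QuotientGroup.eq_one_iff _).mpr (hZC (hout g hg))
    -- `Z = C(g) ∩ C`
    have hgZ : g ∉ Subgroup.center G := fun h0 => hg (hZC h0)
    have hinf : Cen g ⊓ C = Subgroup.center G := by
      apply le_antisymm
      · rintro y ⟨hy1, hy2⟩
        by_contra hyZ
        apply hg
        rw [← hCc y hy2 hyZ, mem_Cen]
        exact (mem_Cen.mp hy1).symm
      · exact le_inf (center_le_Cen g) hZC
    have hrel : (Subgroup.center G).relIndex C ≤ p := by
      rw [← hinf, Subgroup.inf_relIndex_right]
      have h1 : (Cen g).relIndex C ≤ (Cen g).relIndex ⊤ :=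
        Subgroup.relIndex_le_of_le_right le_top (by
          rw [Subgroup.relIndex_top_right]; exact Subgroup.index_ne_zero_of_finite)
      rw [Subgroup.relIndex_top_right, h g hgZ] at h1
      have h2 : C.index = n := by rw [hCdef]; exact h z hz
      rw [← h2] at h1
      exact h1.trans (Nat.le_of_dvd hp.out.pos hidx)
    -- the relative index is a `p`-power at most `p`, so divides `p`
    have hrdvd : (Subgroup.center G).relIndex C ∣ p := by
      obtain ⟨a, ha⟩ := IsPGroup.iff_card.mp (hG.to_subgroup C)
      have h1 : (Subgroup.center G).relIndex C ∣ p ^ a := by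
        rw [← ha]; exact Subgroup.relIndex_dvd_card _ _
      obtain ⟨j, -, hj⟩ := (Nat.dvd_prime_pow hp.out).mp h1
      rw [hj] at hrel ⊢
      have hj1 : j ≤ 1 := by
        by_contra h0
        push_neg at h0
        have : p ^ 2 ≤ p ^ j := Nat.pow_le_pow_right hp.out.pos h0
        have h2 := hp.out.two_le
        nlinarith
      interval_cases j
      · simp
      · simp
    haveI : ((Subgroup.center G).subgroupOf C).Normal := Subgroup.Normal.subgroupOf inferInstance C
    have h1 := Subgroup.pow_index_mem ((Subgroup.center G).subgroupOf C) (⟨x₀, hx₀C⟩ : C)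
    have h2' : x₀ ^ ((Subgroup.center G).subgroupOf C).index ∈ Subgroup.center G := by
      have := Subgroup.mem_subgroupOf.mp h1
      simpa using this
    have h2 : x₀ ^ (Subgroup.center G).relIndex C ∈ Subgroup.center G := h2'
    obtain ⟨m, hm⟩ := hrdvd
    apply hx₀
    rw [hm, pow_mul]
    exact (Subgroup.center G).pow_mem h2 m

end Cfsg.Agent.Lib.Helper7.TwoCS
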