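import Mathlib
import Cfsg.Agent.Lib.Helper7.Ito7
import Cfsg.Agent.Lib.Helper7.TwoCS4
import Cfsg.Agent.Lib.Helper7.IndexLemmas

set_option autoImplicit false

/-! Ito's theorem: structure of a group with equal noncentral class sizes. -/

namespace Cfsg.Agent.Lib.Helper7.Ito

open Cfsg.Agent.Lib.Helper7.CM Cfsg.Agent.Lib.Helper7.TwoCS

variable {G : Type*} [Group G]

/-- if `p` is the only active prime, elements of order prime to `p` are central -/
theorem mem_center_of_coprime [Finite G] {n : ℕ} (h : IsEC G n) {p : ℕ} [hp : Fact p.Prime]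
    (huniq : ∀ r : ℕ, r.Prime → Active G r → r = p) {g : G} (hg : (orderOf g).Coprime p) :
    g ∈ Subgroup.center G := by
  by_contra hgZ
  obtain ⟨r, y, hr, hy, hyZ, ⟨k, hk⟩, -⟩ := exists_prime_power_elt h (orderOf g) g rfl hgZ
  have hrp : r = p := huniq r hr ⟨y, hyZ, k, hk⟩
  have hk0 : k ≠ 0 := by
    rintro rfl
    rw [pow_zero, orderOf_eq_one_iff] at hk
    exact hyZ (hk ▸ (Subgroup.center G).one_mem)
  have h1 : orderOf y ∣ orderOf g := orderOf_dvd_of_mem_zpowers hy
  rw [hk, hrp] at h1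
  have h2 : p ∣ orderOf g := (dvd_pow_self p hk0).trans h1
  exact hp.out.one_lt.ne' (Nat.Coprime.eq_one_of_dvd hg.symm h2)

theorem isPGroup_quotient_center [Finite G] {n : ℕ} (h : IsEC G n) {p : ℕ} [hp : Fact p.Prime]
    (huniq : ∀ r : ℕ, r.Prime → Active G r → r = p) : IsPGroup p (G ⧸ Subgroup.center G) := by
  intro gq
  obtain ⟨g, rfl⟩ := QuotientGroup.mk_surjective gq
  obtain ⟨a, b, -, -, hab, hao, k, hbo⟩ := pdecomp p g
  refine ⟨k, ?_⟩
  have ha : a ∈ Subgroup.center G := mem_center_of_coprime h huniq hao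
  have hc : Commute a b := (Subgroup.mem_center_iff.mp ha b).symm
  rw [← QuotientGroup.mk_pow, QuotientGroup.eq_one_iff, hab, hc.mul_pow, ← hbo,
    pow_orderOf_eq_one, mul_one]
  exact Subgroup.pow_mem _ ha _

theorem sylow_sup_center [Finite G] {n : ℕ} (h : IsEC G n) {p : ℕ} [hp : Fact p.Prime]
    (huniq : ∀ r : ℕ, r.Prime → Active G r → r = p) (P : Sylow p G) :
    Subgroup.center G ⊔ (P : Subgroup G) = ⊤ := by
  have hq := isPGroup_quotient_center h huniq
  obtain ⟨j, hj⟩ := IsPGroup.iff_card.mp hq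
  have hZi : (Subgroup.center G).index = p ^ j := by rw [Subgroup.index_eq_card]; exact hj
  have h1 : (Subgroup.center G ⊔ (P : Subgroup G)).index ∣ p ^ j :=
    hZi ▸ Subgroup.index_dvd_of_le le_sup_left
  have h2 : (Subgroup.center G ⊔ (P : Subgroup G)).index ∣ (P : Subgroup G).index :=
    Subgroup.index_dvd_of_le le_sup_right
  obtain ⟨i, -, hi⟩ := (Nat.dvd_prime_pow hp.out).mp h1
  rw [← Subgroup.index_eq_one, hi]
  rcases Nat.eq_zero_or_pos i with h0 | h0
  · rw [h0, pow_zero]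
  · exfalso
    apply P.not_dvd_index
    exact (dvd_pow_self p h0.ne').trans (hi ▸ h2)

theorem sylow_normal [Finite G] {n : ℕ} (h : IsEC G n) {p : ℕ} [hp : Fact p.Prime]
    (huniq : ∀ r : ℕ, r.Prime → Active G r → r = p) (P : Sylow p G) :
    (P : Subgroup G).Normal := by
  rw [← Subgroup.normalizer_eq_top_iff]
  apply top_le_iff.mp
  rw [← sylow_sup_center h huniq P]
  exact sup_le (Subgroup.center_le_normalizer _) Subgroup.le_normalizer

/-- the `p'`-part of the center -/
def pPrimeCenter (G : Type*) [Group G] (p : ℕ) : Subgroup G where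
  carrier := {g | g ∈ Subgroup.center G ∧ (orderOf g).Coprime p}
  one_mem' := ⟨one_mem _, by simp⟩
  mul_mem' := by
    rintro a b ⟨ha, hao⟩ ⟨hb, hbo⟩
    refine ⟨mul_mem ha hb, ?_⟩
    have hc : Commute a b := (Subgroup.mem_center_iff.mp ha b).symm
    exact Nat.Coprime.coprime_dvd_left
      (hc.orderOf_mul_dvd_lcm.trans (Nat.lcm_dvd_mul _ _)) (Nat.Coprime.mul_left hao hbo)
  inv_mem' := by
    rintro a ⟨ha, hao⟩
    exact ⟨inv_mem ha, by rw [orderOf_inv]; exact hao⟩

theorem mem_pPrimeCenter {p : ℕ} {g : G} :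
    g ∈ pPrimeCenter G p ↔ g ∈ Subgroup.center G ∧ (orderOf g).Coprime p := Iff.rfl

theorem pPrimeCenter_le (p : ℕ) : pPrimeCenter G p ≤ Subgroup.center G := fun _ hg => hg.1

theorem pPrimeCenter_normal (p : ℕ) : (pPrimeCenter G p).Normal := by
  constructor
  intro g hg c
  have h1 : c * g * c⁻¹ = g := by
    rw [Subgroup.mem_center_iff.mp hg.1 c, mul_inv_cancel_right]
  rw [h1]; exact hg

theorem pPrimeCenter_comm (p : ℕ) : IsMulCommutative (pPrimeCenter G p) :=
  ⟨⟨fun a b => Subtype.ext (Subgroup.mem_center_iff.mp a.2.1 b.1).symm⟩⟩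

theorem pPrimeCenter_isComplement' [Finite G] {n : ℕ} (h : IsEC G n) {p : ℕ} [hp : Fact p.Prime]
    (huniq : ∀ r : ℕ, r.Prime → Active G r → r = p) (P : Sylow p G) :
    (pPrimeCenter G p).IsComplement' (P : Subgroup G) := by
  haveI := sylow_normal h huniq P
  apply Subgroup.isComplement'_of_disjoint_and_mul_eq_univ
  · rw [Subgroup.disjoint_def]
    rintro g ⟨-, hgo⟩ hgP
    obtain ⟨k, hk⟩ := (IsPGroup.iff_orderOf.mp P.2) ⟨g, hgP⟩
    have hk' : orderOf g = p ^ k := by rw [← hk]; simp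
    rcases Nat.eq_zero_or_pos k with h0 | h0
    · rw [h0, pow_zero, orderOf_eq_one_iff] at hk'
      exact hk'
    · exfalso
      rw [hk'] at hgo
      exact hp.out.one_lt.ne' (Nat.Coprime.eq_one_of_dvd hgo.symm (dvd_pow_self p h0.ne'))
  · rw [Set.eq_univ_iff_forall]
    intro g
    obtain ⟨a, b, -, -, hab, hao, k, hbo⟩ := pdecomp p g
    refine Set.mem_mul.mpr ⟨a, ⟨mem_center_of_coprime h huniq hao, hao⟩, b, ?_, hab.symm⟩
    -- `b` is a `p`-element, hence in the normal Sylow subgroup `P`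
    have hbp : IsPGroup p (Subgroup.zpowers b) := by
      rw [IsPGroup.iff_card, Nat.card_zpowers, hbo]
      exact ⟨k, rfl⟩
    obtain ⟨P', hP'⟩ := hbp.exists_le_sylow
    haveI := Sylow.unique_of_normal P inferInstance
    have : P' = P := Subsingleton.elim _ _
    rw [this] at hP'
    exact hP' (Subgroup.mem_zpowers b)

/-- the Sylow `p`-subgroup has equal noncentral class sizes too -/
theorem isEC_sylow [Finite G] {n : ℕ} (h : IsEC G n) {p : ℕ} [hp : Fact p.Prime]
    (huniq : ∀ r : ℕ, r.Prime → Active G r → r = p) (P : Sylow p G) :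
    IsEC (P : Subgroup G) n := by
  haveI := sylow_normal h huniq P
  intro y hy
  have hyZ : (y : G) ∉ Subgroup.center G := by
    intro h0
    apply hy
    rw [Subgroup.mem_center_iff]
    intro g
    exact Subtype.ext (Subgroup.mem_center_iff.mp h0 g.1)
  have h1 : Cen y = (Cen (y : G)).subgroupOf (P : Subgroup G) := by
    ext g
    rw [mem_Cen, Subgroup.mem_subgroupOf, mem_Cen]
    constructor
    · intro h0; exact congrArg Subtype.val h0
    · intro h0; exact Subtype.ext h0
  have h2 : (Cen y).index = (Cen (y : G)).relIndex (P : Subgroup G) := by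
    rw [h1]; rfl
  rw [h2, Cfsg.Agent.Lib.Helper7.relIndex_eq_relIndex_sup_of_normal]
  have h3 : Cen (y : G) ⊔ (P : Subgroup G) = ⊤ := by
    apply top_le_iff.mp
    rw [← sylow_sup_center h huniq P]
    exact sup_le_sup_right (center_le_Cen _) _
  rw [h3, Subgroup.relIndex_top_right]
  exact h _ hyZ

theorem ito_structure [Finite G] {n : ℕ} (hn : 1 < n) (h : IsEC G n)
    (hex : ∃ x : G, x ∉ Subgroup.center G) :
    ∃ (p : ℕ) (_ : Fact p.Prime) (a : ℕ), n = p ^ a ∧ ∀ P : Sylow p G, (P : Subgroup G).Normal ∧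
      (∃ N : Subgroup G, N.Normal ∧ N.IsComplement' (P : Subgroup G) ∧ IsMulCommutative N ∧
        ∀ x ∈ N, ∀ y ∈ (P : Subgroup G), x * y = y * x) ∧
      ∃ A : Subgroup (P : Subgroup G), A.Normal ∧ IsMulCommutative A ∧
        ∀ y : (P : Subgroup G), y ^ p ∈ A := by
  obtain ⟨x, hx⟩ := hex
  obtain ⟨p, y, hp, -, hyZ, ⟨k, hk⟩, -⟩ := exists_prime_power_elt h (orderOf x) x rfl hx
  haveI hpF : Fact p.Prime := ⟨hp⟩
  have hpa : Active G p := ⟨y, hyZ, k, hk⟩
  have huniq : ∀ r : ℕ, r.Prime → Active G r → r = p := by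
    intro r hr hra
    by_contra hne
    haveI : Fact r.Prime := ⟨hr⟩
    exact not_two_active hn h hne hra hpa
  -- `n` is a power of `p`
  have hq := isPGroup_quotient_center h huniq
  obtain ⟨j, hj⟩ := IsPGroup.iff_card.mp hq
  have hZi : (Subgroup.center G).index = p ^ j := by rw [Subgroup.index_eq_card]; exact hj
  have hndvd : n ∣ p ^ j := by
    rw [← h x hx, ← hZi]
    exact Subgroup.index_dvd_of_le (center_le_Cen x)
  obtain ⟨a, -, ha⟩ := (Nat.dvd_prime_pow hp).mp hndvd
  refine ⟨p, hpF, a, ha, ?_⟩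
  intro P
  refine ⟨sylow_normal h huniq P, ⟨pPrimeCenter G p, pPrimeCenter_normal p,
    pPrimeCenter_isComplement' h huniq P, pPrimeCenter_comm p, ?_⟩, ?_⟩
  · intro x hx y _
    exact (Subgroup.mem_center_iff.mp hx.1 y).symm
  · refine ⟨Subgroup.center (P : Subgroup G), inferInstance, inferInstance, ?_⟩
    intro y
    exact pow_mem_center P.2 (isEC_sylow h huniq P) y

end Cfsg.Agent.Lib.Helper7.Ito
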