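import Mathlib
import Cfsg.Prelude.Def_Characters
import Cfsg.Prelude.Def_Blocks
import Cfsg.Agent.Lib.Helper4.CharTools
import Cfsg.Agent.Lib.Helper4.Characters
import Cfsg.Agent.Lib.Helper1.CharFound6
import Cfsg.Agent.Lib.Helper8.Deflation
import Cfsg.Agent.Lib.Helper2.LinExt
import Cfsg.Agent.S0148

set_option autoImplicit false

/-! Ito's theorem on faithful characters of degree `< p` of `p`-solvable groups, part 1:
a `p`-group with a faithful character of degree `< p` is abelian. -/

namespace Cfsg.Agent.Lib.Helper7.ItoL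

open Cfsg Cfsg.Agent.Lib.Helper1 Cfsg.Agent.Lib.Helper4 Cfsg.Agent.Lib.Helper8
open scoped ComplexConjugate

universe u

section PGroup

variable {P : Type u} [Group P] [Finite P] {p : ℕ} [hp : Fact p.Prime]

/-- an irreducible character of degree one is trivial on commutators -/
theorem irr_linear_commutator {ψ : P → ℂ} (hψ : IsIrrCharacter P ψ) (h1 : charDegree ψ = 1)
    (a b : P) : ψ (a * b * a⁻¹ * b⁻¹) = ψ 1 := by
  have h2 : ψ 1 = 1 := by
    rw [(irr_apply_one_eq_charDegree hψ).1, h1]
    simp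
  obtain ⟨φ, rfl⟩ := Cfsg.Agent.Lib.Helper2.LinExt.exists_hom_of_linear
    ⟨isCharacter_of_irr hψ, h2⟩
  rw [Cfsg.Agent.Lib.Helper2.LinExt.coeHom_apply, Cfsg.Agent.Lib.Helper2.LinExt.coeHom_apply]
  have : φ (a * b * a⁻¹ * b⁻¹) = φ 1 := by
    rw [map_mul, map_mul, map_mul, map_inv, map_inv, map_one]
    rw [mul_comm (φ a) (φ b), mul_assoc (φ b), mul_inv_cancel, mul_one, mul_inv_cancel]
  rw [this]

/-- a character of degree `< p` of a `p`-group is trivial on commutators -/
theorem char_commutator_of_small (hP : IsPGroup p P) {χ : P → ℂ} (hχ : IsCharacter P χ)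
    (hdeg : charDegree χ < p) (a b : P) : χ (a * b * a⁻¹ * b⁻¹) = χ 1 := by
  classical
  haveI : Fintype P := Fintype.ofFinite _
  haveI : Fintype (IrrCharacter P) := Fintype.ofFinite _
  have hexp := class_function_expansion χ (isClassFunction_of_isCharacter hχ)
  have key : ∀ ψ : IrrCharacter P, classInner χ (ψ : P → ℂ) • (ψ : P → ℂ) (a * b * a⁻¹ * b⁻¹)
      = classInner χ (ψ : P → ℂ) • (ψ : P → ℂ) 1 := by
    intro ψ
    obtain ⟨m, hm⟩ := classInner_char_irr_nat hχ ψ.2
    rcases Nat.eq_zero_or_pos m with h | h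
    · rw [hm, h]; simp
    · congr 1
      apply irr_linear_commutator ψ.2
      have hsub := isCharacter_sub_irr hχ ψ.2 h hm
      obtain ⟨d, hd⟩ := isCharacter_apply_one hsub
      obtain ⟨n, hn⟩ := isCharacter_apply_one hχ
      have h2 := (irr_apply_one_eq_charDegree ψ.2).1
      have h3 : χ 1 - (ψ : P → ℂ) 1 = d := hd
      rw [hn, h2] at h3
      have h4 : (n : ℂ) = ((charDegree (ψ : P → ℂ) + d : ℕ) : ℂ) := by
        push_cast
        linear_combination h3
      have h5 : n = charDegree (ψ : P → ℂ) + d := by exact_mod_cast h4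
      have h6 : charDegree χ = n := by
        unfold charDegree
        rw [hn]
        simp
      have h7 := charDegree_dvd_card ψ.2
      obtain ⟨k, hk⟩ := IsPGroup.iff_card.1 hP
      rw [hk, Nat.dvd_prime_pow hp.out] at h7
      obtain ⟨j, -, hj⟩ := h7
      rcases Nat.eq_zero_or_pos j with h0 | h0
      · rw [hj, h0, pow_zero]
      · exfalso
        have : p ^ 1 ≤ p ^ j := Nat.pow_le_pow_right hp.out.pos h0
        rw [pow_one] at this
        omega
  have e1 := congrFun hexp (a * b * a⁻¹ * b⁻¹)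
  have e2 := congrFun hexp 1
  rw [e1, e2]
  simp only [Finset.sum_apply, Pi.smul_apply]
  exact Finset.sum_congr rfl fun ψ _ => key ψ

end PGroup

section Sylow

variable {G : Type u} [Group G] [Finite G] {p : ℕ} [hp : Fact p.Prime]

/-- a group with a faithful character of degree `< p` has abelian Sylow `p`-subgroups -/
theorem sylow_comm {χ : G → ℂ} (hχ : IsCharacter G χ) (hfaith : ∀ g : G, χ g = χ 1 → g = 1)
    (hdeg : charDegree χ < p) (P : Sylow p G) :
    ∀ a ∈ (P : Subgroup G), ∀ b ∈ (P : Subgroup G), a * b = b * a := by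
  intro a ha b hb
  have h1 : IsCharacter (P : Subgroup G) (fun x : (P : Subgroup G) => χ x) :=
    Cfsg.Agent.S0148.isCharacter_restrict (P : Subgroup G) hχ
  have h2 : charDegree (fun x : (P : Subgroup G) => χ x) < p := hdeg
  have h3 := char_commutator_of_small P.2 h1 h2 ⟨a, ha⟩ ⟨b, hb⟩
  have h4 : χ (a * b * a⁻¹ * b⁻¹) = χ 1 := h3
  have h5 := hfaith _ h4
  have : a * b = (a * b * a⁻¹ * b⁻¹) * (b * a) := by group
  rw [this, h5, one_mul]

end Sylow

end Cfsg.Agent.Lib.Helper7.ItoL
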