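import Mathlib
import Cfsg.Prelude.Def_Local
import Cfsg.Agent.Lib.Helper4.HallHigman
import Cfsg.Agent.Lib.Helper4.SolvBalance
import Cfsg.Agent.Lib.Helper6.PCore
import Cfsg.Agent.Lib.Helper6.PPrimeCore
import Cfsg.Agent.Lib.Helper7.PSolvable
import Cfsg.Agent.Lib.Helper7.SylNorm1

set_option autoImplicit false

/-! Ito's theorem, part 2: the group theory of a minimal counterexample.  `P` is an abelian,
non-normal Sylow `p`-subgroup of the `p`-solvable group `G`, and every proper subgroup containing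
`P` normalizes `P`.  Then `G = QP` for a normal Sylow `q`-subgroup `Q`. -/

namespace Cfsg.Agent.Lib.Helper7.ItoL

open Cfsg Cfsg.Agent.Lib.Helper4 Cfsg.Agent.Lib.Helper6

universe u

section Structure

variable {G : Type u} [Group G] [Finite G] {p : ℕ} [hp : Fact p.Prime] (P : Sylow p G)

/-- the standing minimality hypothesis -/
def MinHyp : Prop :=
  ∀ H : Subgroup G, H ≠ ⊤ → (P : Subgroup G) ≤ H →
    H ≤ Subgroup.normalizer ((P : Subgroup G) : Set G)

variable {P}

/-- no proper normal subgroup contains `P` -/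
theorem star (hP : ¬ (P : Subgroup G).Normal) (hmin : MinHyp P) (N : Subgroup G) [N.Normal]
    (hPN : (P : Subgroup G) ≤ N) : N = ⊤ := by
  by_contra hN
  have h1 := hmin N hN hPN
  have h2 := Sylow.normalizer_sup_eq_top' P hPN
  have h3 : Subgroup.normalizer ((P : Subgroup G) : Set G) = ⊤ := by
    rw [← h2]
    exact (sup_eq_left.2 h1).symm
  exact hP (Subgroup.normalizer_eq_top_iff.1 h3)

/-- `G = P O_{p'}(G)` -/
theorem sup_pPrimeCore (hab : ∀ a ∈ (P : Subgroup G), ∀ b ∈ (P : Subgroup G), a * b = b * a)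
    (hsolv : IsPSolvable p G) (hP : ¬ (P : Subgroup G).Normal) (hmin : MinHyp P) :
    (P : Subgroup G) ⊔ pPrimeCore p G = ⊤ := by
  set K := pPrimeCore p G with hK
  haveI hKn : K.Normal := Cfsg.Agent.Lib.Helper7.SylNorm.pPrimeCore_normal' p
  have hsolvQ : IsPSolvable p (G ⧸ K) := Cfsg.Agent.Lib.Helper7.isPSolvable_quotient hsolv K
  set Pb : Sylow p (G ⧸ K) := Sylow.mapSurjective (QuotientGroup.mk'_surjective K) P with hPb
  have hPbc : ∀ x ∈ (Pb : Subgroup (G ⧸ K)), ∀ y ∈ (Pb : Subgroup (G ⧸ K)), x * y = y * x := by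
    rintro x ⟨a, ha, rfl⟩ y ⟨b, hb, rfl⟩
    rw [← map_mul, ← map_mul, hab a ha b hb]
  have hred : pPrimeCore p (G ⧸ K) = ⊥ := pPrimeCore_quotient_self p
  have hHH := centralizer_pCore_le_of_isPSolvable hsolvQ hred
  have h1 : pCore p (G ⧸ K) ≤ (Pb : Subgroup (G ⧸ K)) :=
    Cfsg.Agent.Lib.Helper6.pCore_le_sylow Pb
  have h2 : (Pb : Subgroup (G ⧸ K)) ≤ pCore p (G ⧸ K) := by
    intro x hx
    apply hHH
    rw [Subgroup.mem_centralizer_iff]
    intro y hy
    exact hPbc y (h1 hy) x hx
  have h3 : (Pb : Subgroup (G ⧸ K)) = pCore p (G ⧸ K) := le_antisymm h2 h1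
  have hPbn : (Pb : Subgroup (G ⧸ K)).Normal := by rw [h3]; exact Cfsg.pCore_normal p _
  have h4 : ((Pb : Subgroup (G ⧸ K)).comap (QuotientGroup.mk' K)).Normal :=
    Subgroup.Normal.comap hPbn _
  have h5 : (Pb : Subgroup (G ⧸ K)).comap (QuotientGroup.mk' K) = (P : Subgroup G) ⊔ K := by
    rw [hPb, Sylow.coe_mapSurjective, Subgroup.comap_map_eq, QuotientGroup.ker_mk']
  rw [h5] at h4
  haveI := h4
  exact star hP hmin _ le_sup_left

/-- a subgroup containing a Sylow subgroup for every prime is everything -/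
theorem eq_top_of_sylows (C : Subgroup G)
    (h : ∀ (q : ℕ) [Fact q.Prime], ∃ Q : Sylow q G, (Q : Subgroup G) ≤ C) : C = ⊤ := by
  apply Subgroup.card_eq_iff_eq_top C |>.1
  apply Nat.dvd_antisymm (Subgroup.card_subgroup_dvd_card C)
  rw [Nat.dvd_iff_prime_pow_dvd_dvd]
  intro q k hq hk
  haveI : Fact q.Prime := ⟨hq⟩
  obtain ⟨Q, hQ⟩ := h q
  have h1 : Nat.card (Q : Subgroup G) ∣ Nat.card C := Subgroup.card_dvd_of_le hQ
  rw [Sylow.card_eq_multiplicity] at h1
  refine dvd_trans ?_ h1
  apply pow_dvd_pow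
  exact (hq.pow_dvd_iff_le_factorization Nat.card_pos.ne').1 hk

/-- the structure of a minimal configuration: `G = QP` with `Q` a normal Sylow `q`-subgroup -/
theorem exists_normal_sylow (hab : ∀ a ∈ (P : Subgroup G), ∀ b ∈ (P : Subgroup G), a * b = b * a)
    (hsolv : IsPSolvable p G) (hP : ¬ (P : Subgroup G).Normal) (hmin : MinHyp P) :
    ∃ (q : ℕ) (_ : Fact q.Prime) (Q : Sylow q G), q ≠ p ∧ (Q : Subgroup G).Normal ∧
      (Q : Subgroup G) ⊔ P = ⊤ := by
  by_contra hcon
  push Not at hcon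
  set K := pPrimeCore p G with hK
  haveI hKn : K.Normal := Cfsg.Agent.Lib.Helper7.SylNorm.pPrimeCore_normal' p
  have hKc : (Nat.card K).Coprime p := pPrimeCore_coprime p
  have hsup := sup_pPrimeCore hab hsolv hP hmin
  have hidx : K.index ∣ Nat.card (P : Subgroup G) := by
    have h1 : K.relIndex ((P : Subgroup G) ⊔ K) = K.relIndex (P : Subgroup G) :=
      Subgroup.relIndex_sup_right _ _
    rw [hsup, Subgroup.relIndex_top_right] at h1
    rw [h1]
    exact Subgroup.relIndex_dvd_card K (P : Subgroup G)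
  -- the centralizer of `P` contains a Sylow subgroup for every prime
  have hcen : Subgroup.centralizer ((P : Subgroup G) : Set G) = ⊤ := by
    apply eq_top_of_sylows
    intro q hq
    by_cases hqp : q = p
    · subst hqp
      have : hq = hp := Subsingleton.elim _ _
      subst this
      refine ⟨P, ?_⟩
      intro x hx
      rw [Subgroup.mem_centralizer_iff]
      intro y hy
      exact hab y hy x hx
    · have hq' : ¬ q ∣ K.index := by
        intro hdvd
        have h1 := dvd_trans hdvd hidx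
        obtain ⟨a, ha⟩ := IsPGroup.iff_card.1 P.2
        rw [ha] at h1
        exact hqp ((Nat.prime_dvd_prime_iff_eq hq.out hp.out).1 (hq.out.dvd_of_dvd_pow h1))
      obtain ⟨Q, hQ⟩ := Cfsg.Agent.Lib.Helper7.SylNorm.exists_normalized_sylow K hKc hq' P
      refine ⟨Q, ?_⟩
      have hne : (Q : Subgroup G) ⊔ P ≠ ⊤ := by
        intro htop
        apply hcon q hq Q hqp _ htop
        have h1 : Subgroup.normalizer ((Q : Subgroup G) : Set G) = ⊤ := by
          rw [eq_top_iff, ← htop]
          exact sup_le Subgroup.le_normalizer hQ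
        exact Subgroup.normalizer_eq_top_iff.1 h1
      have h2 := hmin _ hne le_sup_right
      have hQN : (Q : Subgroup G) ≤ Subgroup.normalizer ((P : Subgroup G) : Set G) :=
        le_trans le_sup_left h2
      have hdisj : (Q : Subgroup G) ⊓ P = ⊥ := by
        have hcop : (Nat.card (Q : Subgroup G)).Coprime (Nat.card (P : Subgroup G)) := by
          obtain ⟨a, ha⟩ := IsPGroup.iff_card.1 P.2
          obtain ⟨b, hb⟩ := IsPGroup.iff_card.1 Q.2
          rw [ha, hb]
          exact Nat.Coprime.pow _ _ ((Nat.coprime_primes hq.out hp.out).2 hqp)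
        exact (Subgroup.disjoint_of_coprime_natCard hcop).eq_bot
      intro x hx
      rw [Subgroup.mem_centralizer_iff]
      intro y hy
      have hy' : y ∈ ((P : Subgroup G) : Set G) := hy
      have h3 : x * y * x⁻¹ * y⁻¹ ∈ (P : Subgroup G) := by
        have := (Subgroup.mem_normalizer_iff.1 (hQN hx) y).1 hy'
        exact (P : Subgroup G).mul_mem this ((P : Subgroup G).inv_mem hy')
      have h4 : x * y * x⁻¹ * y⁻¹ ∈ (Q : Subgroup G) := by
        have := (Subgroup.mem_normalizer_iff.1 (hQ hy') x⁻¹).1 ((Q : Subgroup G).inv_mem hx)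
        have h5 := (Q : Subgroup G).mul_mem hx this
        have e : x * (y * x⁻¹ * y⁻¹) = x * y * x⁻¹ * y⁻¹ := by group
        rwa [e] at h5
      have h6 : x * y * x⁻¹ * y⁻¹ ∈ (Q : Subgroup G) ⊓ P := ⟨h4, h3⟩
      rw [hdisj, Subgroup.mem_bot] at h6
      have : x * y = (x * y * x⁻¹ * y⁻¹) * (y * x) := by group
      rw [this, h6, one_mul]
  apply hP
  have h1 : (P : Subgroup G) ≤ Subgroup.center G := by
    intro x hx
    rw [Subgroup.mem_center_iff]
    intro g
    have : g ∈ Subgroup.centralizer ((P : Subgroup G) : Set G) := by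
      rw [hcen]; exact Subgroup.mem_top g
    rw [Subgroup.mem_centralizer_iff] at this
    exact (this x hx).symm
  constructor
  intro n hn g
  have := Subgroup.mem_center_iff.1 (h1 hn) g
  rw [this, mul_inv_cancel_right]
  exact hn

end Structure

end Cfsg.Agent.Lib.Helper7.ItoL
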