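import Mathlib
import Cfsg.Agent.Lib.Helper7.ItoL2

set_option autoImplicit false

/-! Ito's theorem, part 3: inside a minimal configuration `G = QP`, proper `G`-invariant subgroups
of `Q` are central; the fixed points of `P` on `Q` are `Q ∩ Z(G)`; the fixed point congruence. -/

namespace Cfsg.Agent.Lib.Helper7.ItoL

open Cfsg

universe u

section Minimal

variable {G : Type u} [Group G] [Finite G] {p : ℕ} [hp : Fact p.Prime] {P : Sylow p G}
  {Q : Subgroup G} [hQn : Q.Normal]

/-- elements of `G = QP` factor -/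
theorem exists_factor (hQP : Q ⊔ (P : Subgroup G) = ⊤) (g : G) :
    ∃ a ∈ Q, ∃ y ∈ (P : Subgroup G), g = a * y := by
  have h1 : g ∈ ((Q ⊔ (P : Subgroup G) : Subgroup G) : Set G) := by
    rw [hQP]; exact Set.mem_univ g
  rw [Subgroup.normal_mul] at h1
  obtain ⟨a, ha, y, hy, rfl⟩ := Set.mem_mul.1 h1
  exact ⟨a, ha, y, hy, rfl⟩

/-- proper `G`-invariant subgroups of `Q` are central -/
theorem ddagger (hQP : Q ⊔ (P : Subgroup G) = ⊤) (hdisj : Q ⊓ (P : Subgroup G) = ⊥)
    (hP : ¬ (P : Subgroup G).Normal) (hmin : MinHyp P) (R : Subgroup G) [hRn : R.Normal]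
    (hRQ : R ≤ Q) (hne : R ≠ Q) : R ≤ Subgroup.center G := by
  have hRP : R ⊔ (P : Subgroup G) ≠ ⊤ := by
    intro htop
    apply hne
    apply le_antisymm hRQ
    intro x hx
    have h1 : x ∈ ((R ⊔ (P : Subgroup G) : Subgroup G) : Set G) := by
      rw [htop]; exact Set.mem_univ x
    rw [Subgroup.normal_mul] at h1
    obtain ⟨r, hr, y, hy, hxy⟩ := Set.mem_mul.1 h1
    have hy2 : y ∈ Q ⊓ (P : Subgroup G) := by
      refine ⟨?_, hy⟩
      have : y = r⁻¹ * x := by rw [← hxy]; group
      rw [this]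
      exact Q.mul_mem (Q.inv_mem (hRQ hr)) hx
    rw [hdisj, Subgroup.mem_bot] at hy2
    rw [← hxy, hy2, mul_one]
    exact hr
  have h2 := hmin _ hRP le_sup_right
  have hRN : R ≤ Subgroup.normalizer ((P : Subgroup G) : Set G) := le_trans le_sup_left h2
  have hcomm : ∀ r ∈ R, ∀ y ∈ (P : Subgroup G), r * y = y * r := by
    intro r hr y hy
    have hy' : y ∈ ((P : Subgroup G) : Set G) := hy
    have h3 : r * y * r⁻¹ * y⁻¹ ∈ (P : Subgroup G) := by
      have := (Subgroup.mem_normalizer_iff.1 (hRN hr) y).1 hy'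
      exact (P : Subgroup G).mul_mem this ((P : Subgroup G).inv_mem hy')
    have h4 : r * y * r⁻¹ * y⁻¹ ∈ R := by
      have := hRn.conj_mem r⁻¹ (R.inv_mem hr) y
      have h5 := R.mul_mem hr this
      have e : r * (y * r⁻¹ * y⁻¹) = r * y * r⁻¹ * y⁻¹ := by group
      rwa [e] at h5
    have h6 : r * y * r⁻¹ * y⁻¹ ∈ Q ⊓ (P : Subgroup G) := ⟨hRQ h4, h3⟩
    rw [hdisj, Subgroup.mem_bot] at h6
    have : r * y = (r * y * r⁻¹ * y⁻¹) * (y * r) := by group
    rw [this, h6, one_mul]
  have hPC : (P : Subgroup G) ≤ Subgroup.centralizer (R : Set G) := by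
    intro y hy
    rw [Subgroup.mem_centralizer_iff]
    intro r hr
    exact hcomm r hr y hy
  have htop := star hP hmin (Subgroup.centralizer (R : Set G)) hPC
  intro r hr
  rw [Subgroup.mem_center_iff]
  intro g
  have : g ∈ Subgroup.centralizer (R : Set G) := by rw [htop]; exact Subgroup.mem_top g
  rw [Subgroup.mem_centralizer_iff] at this
  exact (this r hr).symm

/-- `Q` is not trivial -/
theorem Q_ne_bot (hQP : Q ⊔ (P : Subgroup G) = ⊤) (hP : ¬ (P : Subgroup G).Normal) : Q ≠ ⊥ := by
  intro h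
  rw [h, bot_sup_eq] at hQP
  apply hP
  rw [hQP]
  infer_instance

/-- commutators of elements of the `q`-group `Q` are central -/
theorem commutator_mem_center {q : ℕ} [hq : Fact q.Prime] (hQq : IsPGroup q Q)
    (hQP : Q ⊔ (P : Subgroup G) = ⊤) (hdisj : Q ⊓ (P : Subgroup G) = ⊥)
    (hP : ¬ (P : Subgroup G).Normal) (hmin : MinHyp P) :
    ∀ a ∈ Q, ∀ b ∈ Q, a * b * a⁻¹ * b⁻¹ ∈ Subgroup.center G := by
  have hne : ⁅Q, Q⁆ ≠ Q := by
    intro h
    haveI : Group.IsNilpotent Q := hQq.isNilpotent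
    haveI : Nontrivial Q := by
      rw [Subgroup.nontrivial_iff_ne_bot]
      exact Q_ne_bot hQP hP
    have h1 := Group.IsSolvable.commutator_lt_top_of_nontrivial (G := Q)
    apply ne_of_lt h1
    apply Subgroup.map_injective Q.subtype_injective
    rw [Subgroup.map_subtype_commutator, h, ← MonoidHom.range_eq_map, Subgroup.range_subtype]
  have h2 := ddagger hQP hdisj hP hmin ⁅Q, Q⁆ (Subgroup.commutator_le_left Q Q) hne
  intro a ha b hb
  apply h2
  have := Subgroup.commutator_mem_commutator ha hb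
  rwa [commutatorElement_def] at this

/-- the fixed points of `P` on `Q` are central -/
theorem fixed_le_center {q : ℕ} [hq : Fact q.Prime] (hQq : IsPGroup q Q)
    (hab : ∀ a ∈ (P : Subgroup G), ∀ b ∈ (P : Subgroup G), a * b = b * a)
    (hQP : Q ⊔ (P : Subgroup G) = ⊤) (hdisj : Q ⊓ (P : Subgroup G) = ⊥)
    (hP : ¬ (P : Subgroup G).Normal) (hmin : MinHyp P) :
    Q ⊓ Subgroup.centralizer ((P : Subgroup G) : Set G) ≤ Subgroup.center G := by
  have hcomm := commutator_mem_center hQq hQP hdisj hP hmin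
  set R := Q ⊓ Subgroup.centralizer ((P : Subgroup G) : Set G) with hR
  have hcP : Subgroup.center G ≤ Subgroup.centralizer ((P : Subgroup G) : Set G) :=
    Subgroup.center_le_centralizer _
  haveI hRn : R.Normal := by
    constructor
    intro x hx g
    obtain ⟨a, ha, y, hy, rfl⟩ := exists_factor hQP g
    have hxy : y * x * y⁻¹ = x := by
      have := (Subgroup.mem_centralizer_iff.1 hx.2) y hy
      rw [this, mul_inv_cancel_right]
    have e : a * y * x * (a * y)⁻¹ = (a * x * a⁻¹ * x⁻¹) * x := by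
      have : a * y * x * (a * y)⁻¹ = a * (y * x * y⁻¹) * a⁻¹ := by group
      rw [this, hxy]; group
    rw [e]
    refine ⟨Q.mul_mem ?_ hx.1, Subgroup.mul_mem _ (hcP (hcomm a ha x hx.1)) hx.2⟩
    exact Q.mul_mem (hQn.conj_mem x hx.1 a) (Q.inv_mem hx.1)
  have hne : R ≠ Q := by
    intro h
    apply hP
    have hQc : Q ≤ Subgroup.centralizer ((P : Subgroup G) : Set G) := by
      rw [← h]; exact inf_le_right
    have hPc : (P : Subgroup G) ≤ Subgroup.centralizer ((P : Subgroup G) : Set G) := by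
      intro x hx
      rw [Subgroup.mem_centralizer_iff]
      intro y hy
      exact hab y hy x hx
    have htop : Subgroup.centralizer ((P : Subgroup G) : Set G) = ⊤ := by
      rw [eq_top_iff, ← hQP]
      exact sup_le hQc hPc
    constructor
    intro n hn g
    have : g ∈ Subgroup.centralizer ((P : Subgroup G) : Set G) := by
      rw [htop]; exact Subgroup.mem_top g
    have h1 := (Subgroup.mem_centralizer_iff.1 this) n hn
    rw [← h1, mul_inv_cancel_right]
    exact hn
  exact ddagger hQP hdisj hP hmin R inf_le_left hne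

/-- conjugation action of `P` on `Q` -/
def conjAction (Q : Subgroup G) [hQn : Q.Normal] (P : Subgroup G) : MulAction P Q where
  smul y x := ⟨y * x * (y : G)⁻¹, hQn.conj_mem x x.2 y⟩
  one_smul x := by
    apply Subtype.ext
    show (1 : G) * x * (1 : G)⁻¹ = x
    group
  mul_smul a b x := by
    apply Subtype.ext
    show ((a : G) * b) * x * ((a : G) * b)⁻¹ = a * (b * x * (b : G)⁻¹) * (a : G)⁻¹
    group

/-- the fixed point congruence -/
theorem card_modEq {q : ℕ} [hq : Fact q.Prime] (hQq : IsPGroup q Q)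
    (hab : ∀ a ∈ (P : Subgroup G), ∀ b ∈ (P : Subgroup G), a * b = b * a)
    (hQP : Q ⊔ (P : Subgroup G) = ⊤) (hdisj : Q ⊓ (P : Subgroup G) = ⊥)
    (hP : ¬ (P : Subgroup G).Normal) (hmin : MinHyp P) :
    Nat.card Q ≡ Nat.card (Q ⊓ Subgroup.center G : Subgroup G) [MOD p] := by
  letI : MulAction (P : Subgroup G) Q := conjAction Q (P : Subgroup G)
  have h1 := IsPGroup.card_modEq_card_fixedPoints (p := p) (G := (P : Subgroup G)) P.2 Q
  have h2 : Nat.card (MulAction.fixedPoints (P : Subgroup G) Q)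
      = Nat.card (Q ⊓ Subgroup.center G : Subgroup G) := by
    have hfix := fixed_le_center hQq hab hQP hdisj hP hmin
    refine Nat.card_congr
      { toFun := fun x => ⟨(x : Q), ?_⟩
        invFun := fun z => ⟨⟨z, z.2.1⟩, ?_⟩
        left_inv := fun x => rfl
        right_inv := fun z => rfl }
    · refine ⟨(x : Q).2, ?_⟩
      apply hfix
      refine ⟨(x : Q).2, ?_⟩
      show ((x : Q) : G) ∈ Subgroup.centralizer ((P : Subgroup G) : Set G)
      rw [Subgroup.mem_centralizer_iff]
      intro y hy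
      have := x.2 ⟨y, hy⟩
      have h3 : y * ((x : Q) : G) * y⁻¹ = ((x : Q) : G) := congrArg Subtype.val this
      calc y * ((x : Q) : G) = (y * ((x : Q) : G) * y⁻¹) * y := by group
        _ = ((x : Q) : G) * y := by rw [h3]
    · intro y
      apply Subtype.ext
      show (y : G) * (z : G) * (y : G)⁻¹ = (z : G)
      have := Subgroup.mem_center_iff.1 z.2.2 y
      rw [this, mul_inv_cancel_right]
  rw [← h2]
  exact h1

end Minimal

end Cfsg.Agent.Lib.Helper7.ItoL
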