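import Mathlib
import Cfsg.Prelude.Def_Characters
import Cfsg.Prelude.Def_Blocks
import Cfsg.Agent.Lib.Helper2.ChiefRestrict
import Cfsg.Agent.Lib.Helper7.GalProd4
import Cfsg.Agent.Lib.Helper7.ItoL1

set_option autoImplicit false

/-! Ito's theorem, part 4: a faithful irreducible character of degree `< p` restricted to a normal
subgroup `Q` of `p`-power index whose commutators are central: `|Q| = |Q ∩ Z(G)| d²` with `d`
dividing the degree. -/

namespace Cfsg.Agent.Lib.Helper7.ItoL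

open Cfsg Cfsg.Agent.Lib.Helper1 Cfsg.Agent.Lib.Helper4 Cfsg.Agent.Lib.Helper8
  Cfsg.Agent.Lib.Helper2.ChiefRestrict
open scoped ComplexConjugate

universe u

section Clifford

variable {G : Type u} [Group G] [Fintype G] {p : ℕ} [hp : Fact p.Prime]
  (Q : Subgroup G) [hQn : Q.Normal] [Fintype Q]

/-- the restriction to a normal subgroup of `p`-power index of an irreducible character of degree
less than `p` is a multiple of one irreducible character -/
theorem restrict_homogeneous {ψ : G → ℂ} (hψ : IsIrrCharacter G ψ) {a : ℕ}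
    (hidx : Q.index = p ^ a) (hdeg : charDegree ψ < p) :
    ∃ (θ : Q → ℂ) (e : ℕ), IsIrrCharacter Q θ ∧ 0 < e ∧
      (fun u : Q => ψ u) = (e : ℂ) • θ := by
  classical
  have hres : IsCharacter Q (fun u : Q => ψ u) :=
    Cfsg.Agent.S0148.isCharacter_restrict Q (isCharacter_of_irr hψ)
  have h1 : (fun u : Q => ψ u) 1 ≠ 0 := irr_apply_one_ne_zero hψ
  obtain ⟨θ, hθ, m, hm, hin⟩ := exists_constituent hres h1
  have hcon : classInner (fun u : Q => ψ u) θ ≠ 0 := by
    rw [hin]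
    exact_mod_cast hm.ne'
  obtain ⟨F, hFirr, hθF, -, hcard, hsum⟩ := clifford_finset Q hψ hθ hcon
  rw [hin] at hsum
  -- the number of conjugates is a power of `p`
  have hQI : Q ≤ inertia Q θ := le_inertia Q (isClassFunction_irr hθ)
  have hdvd : F.card ∣ p ^ a := by
    have h2 : Nat.card Q ∣ Nat.card (inertia Q θ) := Subgroup.card_dvd_of_le hQI
    obtain ⟨c, hc⟩ := h2
    have h3 := Subgroup.index_mul_card Q
    rw [hidx, ← hcard, hc] at h3
    have h4 : p ^ a = F.card * c := by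
      have hpos : 0 < Nat.card Q := Nat.card_pos
      apply Nat.eq_of_mul_eq_mul_right hpos
      rw [h3]; ring
    exact ⟨c, h4⟩
  -- and at most the degree
  have hle : F.card ≤ charDegree ψ := by
    have h2 := congrFun hsum 1
    simp only [Pi.smul_apply, Finset.sum_apply, smul_eq_mul] at h2
    have h3 : ∀ ψ' ∈ F, ψ' 1 = ((charDegree ψ' : ℕ) : ℂ) := fun ψ' hψ' =>
      (irr_apply_one_eq_charDegree (hFirr ψ' hψ')).1
    rw [Finset.sum_congr rfl h3] at h2
    have h4 : ψ ((1 : Q) : G) = (charDegree ψ : ℂ) := (irr_apply_one_eq_charDegree hψ).1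
    rw [h4] at h2
    have h5 : charDegree ψ = m * ∑ ψ' ∈ F, charDegree ψ' := by exact_mod_cast h2
    have h6 : F.card ≤ ∑ ψ' ∈ F, charDegree ψ' := by
      have : ∀ ψ' ∈ F, 1 ≤ charDegree ψ' := fun ψ' hψ' =>
        (irr_apply_one_eq_charDegree (hFirr ψ' hψ')).2
      calc F.card = ∑ _ψ' ∈ F, 1 := by simp
        _ ≤ ∑ ψ' ∈ F, charDegree ψ' := Finset.sum_le_sum this
    rw [h5]
    calc F.card ≤ ∑ ψ' ∈ F, charDegree ψ' := h6
      _ = 1 * ∑ ψ' ∈ F, charDegree ψ' := (one_mul _).symm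
      _ ≤ m * ∑ ψ' ∈ F, charDegree ψ' := Nat.mul_le_mul_right _ hm
  have hF1 : F.card = 1 := by
    rw [Nat.dvd_prime_pow hp.out] at hdvd
    obtain ⟨j, -, hj⟩ := hdvd
    rcases Nat.eq_zero_or_pos j with h0 | h0
    · rw [hj, h0, pow_zero]
    · exfalso
      have : p ^ 1 ≤ p ^ j := Nat.pow_le_pow_right hp.out.pos h0
      rw [pow_one] at this
      omega
  obtain ⟨φ, hφ⟩ := Finset.card_eq_one.1 hF1
  have hφθ : φ = θ := by
    rw [hφ, Finset.mem_singleton] at hθF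
    exact hθF.symm
  rw [hφ, Finset.sum_singleton, hφθ] at hsum
  exact ⟨θ, m, hθ, hm, hsum⟩

end Clifford

section Norm

variable {G : Type u} [Group G] [Fintype G] {p : ℕ} [hp : Fact p.Prime]
  (Q : Subgroup G) [hQn : Q.Normal] [Fintype Q]

/-- elements central in `Q` are central in `G` -/
theorem center_le_center {ψ : G → ℂ} (hψ : IsIrrCharacter G ψ)
    (hfaith : ∀ g : G, ψ g = ψ 1 → g = 1) {a : ℕ}
    (hidx : Q.index = p ^ a) (hdeg : charDegree ψ < p) {z : G} (hz : z ∈ Q)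
    (hzc : ∀ u ∈ Q, z * u = u * z) : z ∈ Subgroup.center G := by
  classical
  obtain ⟨θ, e, hθ, he, hres⟩ := restrict_homogeneous Q hψ hidx hdeg
  have h1 : ‖θ ⟨z, hz⟩‖ = ‖θ 1‖ := by
    apply norm_eq_of_central_mod_ker hθ
    intro c
    have : (⟨z, hz⟩ : Q) * c * (⟨z, hz⟩ : Q)⁻¹ * c⁻¹ = 1 := by
      apply Subtype.ext
      show z * c * z⁻¹ * (c : G)⁻¹ = 1
      rw [hzc c c.2]
      group
    rw [this]
  have h2 : ‖ψ z‖ = ‖ψ 1‖ := by
    have e1 := congrFun hres ⟨z, hz⟩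
    have e2 := congrFun hres 1
    simp only [Pi.smul_apply, smul_eq_mul] at e1 e2
    have e3 : ψ z = (e : ℂ) * θ ⟨z, hz⟩ := e1
    have e4 : ψ 1 = (e : ℂ) * θ 1 := e2
    rw [e3, e4, norm_mul, norm_mul, h1]
  obtain ⟨n, ρ, hirr, rfl⟩ := hψ
  haveI := hirr
  have h3 : ‖ρ.character z‖ = (Module.finrank ℂ (Fin n → ℂ) : ℝ) := by
    rw [h2, Representation.char_one]
    simp
  obtain ⟨ω, hω⟩ := (Cfsg.Agent.S0138.result ρ z).1 h3
  rw [Subgroup.mem_center_iff]
  intro g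
  have h4 : ρ (g * z) = ρ (z * g) := by
    rw [map_mul, map_mul, hω]
    ext v
    simp
  have h5 : ρ (g * z * (z * g)⁻¹) = 1 := by
    rw [map_mul, h4, ← map_mul, mul_inv_cancel, map_one]
  have h6 : ρ.character (g * z * (z * g)⁻¹) = ρ.character 1 := by
    unfold Representation.character
    rw [h5, show ρ 1 = 1 from map_one ρ]
  have h7 := hfaith _ h6
  exact mul_inv_eq_one.1 h7

/-- the order formula -/
theorem card_eq {ψ : G → ℂ} (hψ : IsIrrCharacter G ψ)
    (hfaith : ∀ g : G, ψ g = ψ 1 → g = 1) {a : ℕ}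
    (hidx : Q.index = p ^ a) (hdeg : charDegree ψ < p)
    (hQ' : ∀ a ∈ Q, ∀ b ∈ Q, a * b * a⁻¹ * b⁻¹ ∈ Subgroup.center G) :
    ∃ d e : ℕ, charDegree ψ = e * d ∧
      Nat.card Q = Nat.card (Q ⊓ Subgroup.center G : Subgroup G) * d ^ 2 := by
  classical
  obtain ⟨θ, e, hθ, he, hres⟩ := restrict_homogeneous Q hψ hidx hdeg
  have hcen := fun {z : G} (hz : z ∈ Q) (hzc : ∀ u ∈ Q, z * u = u * z) =>
    center_le_center Q hψ hfaith hidx hdeg hz hzc
  set n := charDegree ψ with hn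
  set d := charDegree θ with hd
  have hψ1 : ψ 1 = (n : ℂ) := (irr_apply_one_eq_charDegree hψ).1
  have hθ1 : θ 1 = (d : ℂ) := (irr_apply_one_eq_charDegree hθ).1
  have hned : n = e * d := by
    have e2 := congrFun hres 1
    simp only [Pi.smul_apply, smul_eq_mul] at e2
    have e4 : ψ 1 = (e : ℂ) * θ 1 := e2
    rw [hψ1, hθ1] at e4
    exact_mod_cast e4
  refine ⟨d, e, hned, ?_⟩
  -- values of ψ on Q
  have hvan : ∀ u : Q, (u : G) ∉ Subgroup.center G → ψ u = 0 := by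
    intro u hu
    have hex : ∃ b ∈ Q, b * (u : G) ≠ (u : G) * b := by
      by_contra hcon
      push Not at hcon
      apply hu
      apply hcen u.2
      intro b hb
      exact (hcon b hb).symm
    obtain ⟨b, hb, hne⟩ := hex
    obtain ⟨m, ρ, hirr, rfl⟩ := hψ
    haveI := hirr
    exact Cfsg.Agent.Lib.Helper7.GalProd.char_eq_zero_of_noncomm ρ hfaith (hQ' b hb u u.2) hne
  have hnorm : ∀ u : Q, (u : G) ∈ Subgroup.center G → ‖ψ u‖ = (n : ℝ) := by
    intro u hu
    have h1 : ‖ψ u‖ = ‖ψ 1‖ := by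
      apply norm_eq_of_central_mod_ker hψ
      intro c
      have : (u : G) * c * (u : G)⁻¹ * c⁻¹ = 1 := by
        rw [← Subgroup.mem_center_iff.1 hu c]
        group
      rw [this]
    rw [h1, hψ1]
    simp
  -- compute the sum of squares in two ways
  have hsum1 : ∑ u : Q, ‖ψ u‖ ^ 2
      = (Nat.card (Q ⊓ Subgroup.center G : Subgroup G) : ℝ) * (n : ℝ) ^ 2 := by
    have h1 : ∀ u : Q, ‖ψ u‖ ^ 2
        = if (u : G) ∈ Subgroup.center G then (n : ℝ) ^ 2 else 0 := by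
      intro u
      split_ifs with h
      · rw [hnorm u h]
      · rw [hvan u h]; simp
    rw [Finset.sum_congr rfl fun u _ => h1 u, Finset.sum_ite, Finset.sum_const_zero, add_zero,
      Finset.sum_const, nsmul_eq_mul]
    congr 1
    rw [Nat.card_eq_fintype_card, Fintype.card_subtype]
    norm_cast
    apply Finset.card_bij (fun (u : Q) _ => (u : G))
    · intro u hu
      rw [Finset.mem_filter] at hu ⊢
      exact ⟨Finset.mem_univ _, ⟨u.2, hu.2⟩⟩
    · intro u _ v _ h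
      exact Subtype.ext h
    · intro g hg
      rw [Finset.mem_filter] at hg
      refine ⟨⟨g, hg.2.1⟩, ?_, rfl⟩
      rw [Finset.mem_filter]
      exact ⟨Finset.mem_univ _, hg.2.2⟩
  have hsum2 : ∑ u : Q, ‖ψ u‖ ^ 2 = (e : ℝ) ^ 2 * (Nat.card Q : ℝ) := by
    have h1 : ∀ u : Q, ‖ψ u‖ ^ 2 = (e : ℝ) ^ 2 * ‖θ u‖ ^ 2 := by
      intro u
      have e1 := congrFun hres u
      simp only [Pi.smul_apply, smul_eq_mul] at e1
      have e3 : ψ u = (e : ℂ) * θ u := e1
      rw [e3, norm_mul, mul_pow]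
      simp
    rw [Finset.sum_congr rfl fun u _ => h1 u, ← Finset.mul_sum, sum_norm_sq_irr hθ]
  have h3 : (Nat.card (Q ⊓ Subgroup.center G : Subgroup G) : ℝ) * ((e : ℝ) * (d : ℝ)) ^ 2
      = (e : ℝ) ^ 2 * (Nat.card Q : ℝ) := by
    rw [← hsum2, hsum1, hned]
    push_cast
    ring
  have he0 : (e : ℝ) ≠ 0 := by exact_mod_cast he.ne'
  have h4 : (Nat.card Q : ℝ)
      = (Nat.card (Q ⊓ Subgroup.center G : Subgroup G) : ℝ) * (d : ℝ) ^ 2 := by
    have h5 : (e : ℝ) ^ 2 * (Nat.card Q : ℝ)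
        = (e : ℝ) ^ 2 * ((Nat.card (Q ⊓ Subgroup.center G : Subgroup G) : ℝ) * (d : ℝ) ^ 2) := by
      rw [← h3]; ring
    exact mul_left_cancel₀ (pow_ne_zero 2 he0) h5
  exact_mod_cast h4

end Norm

end Cfsg.Agent.Lib.Helper7.ItoL
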