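import Mathlib
import Cfsg.Prelude.Def_Characters
import Cfsg.Prelude.Def_Blocks
import Cfsg.Prelude.Def_Local
import Cfsg.Agent.Lib.Helper1.CharFound1
import Cfsg.Agent.Lib.Helper7.ItoL3
import Cfsg.Agent.Lib.Helper7.ItoL4
import Cfsg.Agent.Lib.Helper7.BSF1
import Cfsg.Agent.Lib.Helper7.PLen1
import Cfsg.Agent.S0139

set_option autoImplicit false

/-! Ito's theorem, part 5: the minimal configuration and the induction. -/

namespace Cfsg.Agent.Lib.Helper7.ItoL

open Cfsg Cfsg.Agent.Lib.Helper1 Cfsg.Agent.Lib.Helper4 Cfsg.Agent.Lib.Helper8 Module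

universe u v

/-- the arithmetic at the end of the minimal case -/
theorem arith {p q n d e z b : ℕ} (hp : p.Prime) (hq : q.Prime) (hqp : q ≠ p) (hn : n + 1 ≤ p)
    (hn0 : 0 < n) (hde : n = e * d) (hd : 2 ≤ d) (hz : z * d ^ 2 = q ^ b)
    (hmod : z * d ^ 2 ≡ z [MOD p]) : n + 1 = p ∧ ∃ k : ℕ, n = 2 ^ k := by
  have he : 0 < e := by
    rcases Nat.eq_zero_or_pos e with h | h
    · rw [h, zero_mul] at hde; omega
    · exact h
  have hdn : d ≤ n := by
    rw [hde]
    exact Nat.le_mul_of_pos_left d he
  have hzdvd : z ∣ q ^ b := ⟨d ^ 2, hz.symm⟩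
  obtain ⟨c, -, hc⟩ := (Nat.dvd_prime_pow hq).1 hzdvd
  have hzp : Nat.Coprime p z := by
    rw [hc]
    exact Nat.Coprime.pow_right _ ((Nat.coprime_primes hp hq).2 (Ne.symm hqp))
  have hzle : z ≤ z * d ^ 2 := Nat.le_mul_of_pos_right z (by positivity)
  have h1 : p ∣ z * d ^ 2 - z := (Nat.modEq_iff_dvd' hzle).1 hmod.symm
  have h2 : z * d ^ 2 - z = z * ((d - 1) * (d + 1)) := by
    have : d ^ 2 = (d - 1) * (d + 1) + 1 := by
      obtain ⟨m, rfl⟩ : ∃ m, d = m + 1 := ⟨d - 1, by omega⟩
      simp only [Nat.add_sub_cancel]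
      ring
    rw [this, mul_add, mul_one, Nat.add_sub_cancel]
  rw [h2] at h1
  have h3 : p ∣ (d - 1) * (d + 1) := hzp.dvd_of_dvd_mul_left h1
  have h4 : d + 1 = p := by
    rcases (Nat.Prime.dvd_mul hp).1 h3 with h | h
    · exfalso
      have := Nat.le_of_dvd (by omega) h
      omega
    · have := Nat.le_of_dvd (by omega) h
      omega
  have hnd : n = d := by omega
  refine ⟨by omega, ?_⟩
  have hddvd : d ∣ q ^ b := ⟨z * d, by rw [← hz]; ring⟩
  obtain ⟨k, -, hk⟩ := (Nat.dvd_prime_pow hq).1 hddvd
  refine ⟨k, ?_⟩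
  rw [hnd, hk]
  have hk0 : k ≠ 0 := by
    rintro rfl
    rw [pow_zero] at hk
    omega
  have hpodd : p ≠ 2 := by omega
  have hodd := hp.eq_one_or_self_of_dvd 2
  have heven : 2 ∣ d := by
    rcases Nat.even_or_odd d with h | h
    · exact h.two_dvd
    · exfalso
      have : 2 ∣ p := by
        rw [← h4]
        obtain ⟨m, hm⟩ := h
        exact ⟨m + 1, by omega⟩
      rcases hodd this with h5 | h5
      · omega
      · exact hpodd h5.symm
  rw [hk] at heven
  have h2q : 2 ∣ q := Nat.Prime.dvd_of_dvd_pow Nat.prime_two heven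
  have : q = 2 := ((Nat.prime_dvd_prime_iff_eq Nat.prime_two hq).1 h2q).symm
  rw [this]

section Core

variable {G : Type u} [Group G] [Finite G] {p : ℕ} [hp : Fact p.Prime]

/-- the minimal case: `ψ` irreducible and every proper subgroup containing `P` normalizes `P` -/
theorem core {ψ : G → ℂ} (hψ : IsIrrCharacter G ψ) (hfaith : ∀ g : G, ψ g = ψ 1 → g = 1)
    (hdeg : charDegree ψ + 1 ≤ p) (hsolv : IsPSolvable p G) (P : Sylow p G)
    (hP : ¬ (P : Subgroup G).Normal) (hmin : MinHyp P) :
    charDegree ψ + 1 = p ∧ ∃ k : ℕ, charDegree ψ = 2 ^ k := by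
  classical
  haveI : Fintype G := Fintype.ofFinite _
  have hdeg' : charDegree ψ < p := by omega
  have hab := sylow_comm (isCharacter_of_irr hψ) hfaith hdeg' P
  obtain ⟨q, hq, Q, hqp, hQn, hQP⟩ := exists_normal_sylow hab hsolv hP hmin
  haveI := hQn
  haveI : Fintype (Q : Subgroup G) := Fintype.ofFinite _
  obtain ⟨a, ha⟩ := IsPGroup.iff_card.1 P.2
  obtain ⟨b, hb⟩ := IsPGroup.iff_card.1 Q.2
  have hdisj : (Q : Subgroup G) ⊓ P = ⊥ := by
    have hcop : (Nat.card (Q : Subgroup G)).Coprime (Nat.card (P : Subgroup G)) := by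
      rw [ha, hb]
      exact Nat.Coprime.pow _ _ ((Nat.coprime_primes hq.out hp.out).2 hqp)
    exact (Subgroup.disjoint_of_coprime_natCard hcop).eq_bot
  have hidx : (Q : Subgroup G).index = p ^ a := by
    have h1 : (Q : Subgroup G).relIndex ((P : Subgroup G) ⊔ Q) = (Q : Subgroup G).relIndex P :=
      Subgroup.relIndex_sup_right _ _
    rw [sup_comm, hQP, Subgroup.relIndex_top_right] at h1
    rw [h1, ← Subgroup.inf_relIndex_left, inf_comm, hdisj, Subgroup.relIndex_bot_left, ha]
  have hQ' := commutator_mem_center Q.2 hQP hdisj hP hmin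
  obtain ⟨d, e, hde, hcard⟩ := card_eq (Q : Subgroup G) hψ hfaith hidx hdeg' hQ'
  have hmod := card_modEq Q.2 hab hQP hdisj hP hmin
  set z := Nat.card ((Q : Subgroup G) ⊓ Subgroup.center G : Subgroup G) with hz
  have hn0 : 0 < charDegree ψ := (irr_apply_one_eq_charDegree hψ).2
  have hd0 : d ≠ 0 := by
    rintro rfl
    rw [mul_zero] at hde
    omega
  have hd1 : d ≠ 1 := by
    rintro rfl
    apply hP
    rw [one_pow, mul_one] at hcard
    have h1 : (Q : Subgroup G) ⊓ Subgroup.center G = Q := by
      apply Subgroup.eq_of_le_of_card_ge inf_le_left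
      rw [hcard]
    have hQc : (Q : Subgroup G) ≤ Subgroup.center G := by
      rw [← h1]; exact inf_le_right
    have h2 : Subgroup.normalizer ((P : Subgroup G) : Set G) = ⊤ := by
      rw [eq_top_iff, ← hQP]
      apply sup_le _ Subgroup.le_normalizer
      exact le_trans hQc (le_trans (Subgroup.center_le_centralizer _)
        (Subgroup.centralizer_le_normalizer _))
    exact Subgroup.normalizer_eq_top_iff.1 h2
  have hd2 : 2 ≤ d := by omega
  rw [hcard] at hmod
  exact arith hp.out hq.out hqp hdeg hn0 hde hd2 (by rw [← hcard, hb]) hmod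

end Core

section Induction

variable {p : ℕ} [hp : Fact p.Prime]

/-- passing to the action on a subrepresentation -/
theorem quotient_step {G : Type u} [Group G] [Finite G] {W : Type v} [AddCommGroup W] [Module ℂ W]
    [FiniteDimensional ℂ W] (ρ₁ : Representation ℂ G W) (hsolv : IsPSolvable p G) (P : Sylow p G)
    (hK : ¬ ((P : Subgroup G) ⊔ MonoidHom.ker ρ₁).Normal) (hlt : finrank ℂ W + 1 < p)
    (ih : ∀ (G' : Type u) [Group G'] [Finite G'] (ρ' : Representation ℂ G' W),
      Nat.card G' ≤ Nat.card G → Function.Injective ρ' → IsPSolvable p G' →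
      ∀ P' : Sylow p G', ¬ (P' : Subgroup G').Normal → finrank ℂ W + 1 = p) : False := by
  set K := MonoidHom.ker ρ₁ with hKdef
  let ρ' : Representation ℂ (G ⧸ K) W := QuotientGroup.lift K ρ₁ (le_refl _)
  have hinj : Function.Injective ρ' := by
    intro x y hxy
    obtain ⟨a, rfl⟩ := QuotientGroup.mk_surjective x
    obtain ⟨b, rfl⟩ := QuotientGroup.mk_surjective y
    have h1 : ρ₁ a = ρ₁ b := hxy
    rw [QuotientGroup.eq]
    show ρ₁ (a⁻¹ * b) = 1
    rw [map_mul, ← h1, ← map_mul, inv_mul_cancel, map_one]
  have hsolv' : IsPSolvable p (G ⧸ K) := Cfsg.Agent.Lib.Helper7.isPSolvable_quotient hsolv K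
  let Pb : Sylow p (G ⧸ K) := Sylow.mapSurjective (QuotientGroup.mk'_surjective K) P
  have hPb : ¬ (Pb : Subgroup (G ⧸ K)).Normal := by
    intro hn
    apply hK
    have h4 : ((Pb : Subgroup (G ⧸ K)).comap (QuotientGroup.mk' K)).Normal :=
      Subgroup.Normal.comap hn _
    have h5 : (Pb : Subgroup (G ⧸ K)).comap (QuotientGroup.mk' K) = (P : Subgroup G) ⊔ K := by
      rw [Sylow.coe_mapSurjective, Subgroup.comap_map_eq, QuotientGroup.ker_mk']
    rwa [h5] at h4
  have hcard : Nat.card (G ⧸ K) ≤ Nat.card G :=
    Nat.card_le_card_of_surjective _ (QuotientGroup.mk'_surjective K)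
  have := ih (G ⧸ K) ρ' hcard hinj hsolv' Pb hPb
  omega

theorem main_aux : ∀ (N : ℕ) (G : Type u) [Group G] [Finite G] (V : Type v) [AddCommGroup V]
    [Module ℂ V] [FiniteDimensional ℂ V] (ρ : Representation ℂ G V),
    Nat.card G + finrank ℂ V = N → Function.Injective ρ → finrank ℂ V + 1 ≤ p →
    IsPSolvable p G → ∀ P : Sylow p G, ¬ (P : Subgroup G).Normal →
    finrank ℂ V + 1 = p ∧ (∃ k : ℕ, finrank ℂ V = 2 ^ k) ∧ ρ.IsIrreducible := by
  intro N
  induction N using Nat.strong_induction_on with
  | _ N ih =>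
  intro G _ _ V _ _ _ ρ hN hinj hdeg hsolv P hP
  classical
  by_cases hmin : MinHyp P
  · by_cases hirr : ρ.IsIrreducible
    · haveI := hirr
      have hψ : IsIrrCharacter G ρ.character := isIrrCharacter_character ρ
      have hfaith : ∀ g : G, ρ.character g = ρ.character 1 → g = 1 := by
        intro g hg
        rw [Representation.char_one] at hg
        have h1 := (Cfsg.Agent.S0139.result ρ g).1 hg
        apply hinj
        rw [h1, map_one]
        rfl
      have hcd : charDegree ρ.character = finrank ℂ V := by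
        unfold charDegree
        rw [Representation.char_one]
        simp
      have := core hψ hfaith (by rw [hcd]; exact hdeg) hsolv P hP hmin
      rw [hcd] at this
      exact ⟨this.1, this.2, hirr⟩
    · exfalso
      -- `V` is not trivial
      have hnt : Nontrivial V := by
        by_contra hV
        rw [not_nontrivial_iff_subsingleton] at hV
        apply hP
        have hsub : ∀ g : G, g = 1 := by
          intro g
          apply hinj
          apply LinearMap.ext
          intro v
          exact Subsingleton.elim _ _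
        constructor
        intro n hn g
        rw [hsub g, one_mul, inv_one, mul_one]
        exact hn
      -- a proper nonzero subrepresentation
      have hex : ∃ σ : Subrepresentation ρ, σ ≠ ⊥ ∧ σ ≠ ⊤ := by
        by_contra hcon
        push Not at hcon
        apply hirr
        refine { exists_pair_ne := ⟨⊥, ⊤, ?_⟩, eq_bot_or_eq_top := ?_ }
        · intro hbt
          have h1 : (⊥ : Submodule ℂ V) = ⊤ := congrArg Subrepresentation.toSubmodule hbt
          exact bot_ne_top h1
        · intro σ
          by_cases h : σ = ⊥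
          · exact Or.inl h
          · exact Or.inr (hcon σ h)
      obtain ⟨σ, hσ0, hσ1⟩ := hex
      haveI : Fintype G := Fintype.ofFinite _
      obtain ⟨τ, hτ⟩ := Cfsg.Agent.Lib.Helper7.BSF.exists_complement ρ σ
      have hσ0' : σ.toSubmodule ≠ ⊥ := fun h => hσ0 (Subrepresentation.toSubmodule_injective h)
      have hσ1' : σ.toSubmodule ≠ ⊤ := fun h => hσ1 (Subrepresentation.toSubmodule_injective h)
      have hτ1' : τ.toSubmodule ≠ ⊤ := by
        intro h
        apply hσ0'
        have := hτ.inf_eq_bot
        rwa [h, inf_top_eq] at this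
      have hlt1 : finrank ℂ σ.toSubmodule < finrank ℂ V := Submodule.finrank_lt hσ1'
      have hlt2 : finrank ℂ τ.toSubmodule < finrank ℂ V := Submodule.finrank_lt hτ1'
      set K₁ := MonoidHom.ker σ.toRepresentation with hK₁
      set K₂ := MonoidHom.ker τ.toRepresentation with hK₂
      have hK12 : K₁ ⊓ K₂ = ⊥ := by
        rw [eq_bot_iff]
        intro g hg
        rw [Subgroup.mem_bot]
        apply hinj
        rw [map_one]
        apply LinearMap.ext
        intro v
        have hv : v ∈ σ.toSubmodule ⊔ τ.toSubmodule := by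
          rw [hτ.sup_eq_top]; exact Submodule.mem_top
        obtain ⟨s, hs, t, ht, rfl⟩ := Submodule.mem_sup.1 hv
        have h1 : σ.toRepresentation g = 1 := hg.1
        have h2 : τ.toRepresentation g = 1 := hg.2
        have e1 : ρ g s = s := by
          have := congrArg (fun f => ((f ⟨s, hs⟩ : σ.toSubmodule) : V)) h1
          exact this
        have e2 : ρ g t = t := by
          have := congrArg (fun f => ((f ⟨t, ht⟩ : τ.toSubmodule) : V)) h2
          exact this
        rw [map_add, e1, e2]
        rfl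
      have hor : ¬ ((P : Subgroup G) ⊔ K₁).Normal ∨ ¬ ((P : Subgroup G) ⊔ K₂).Normal := by
        by_contra hcon
        push Not at hcon
        obtain ⟨hn1, hn2⟩ := hcon
        apply hP
        set D := ((P : Subgroup G) ⊔ K₁) ⊓ ((P : Subgroup G) ⊔ K₂) with hD
        haveI : D.Normal := by rw [hD]; infer_instance
        have hpow : ∀ (K : Subgroup G) [K.Normal], ∀ x ∈ (P : Subgroup G) ⊔ K,
            x ^ Nat.card (P : Subgroup G) ∈ K := by
          intro K _ x hx
          have h1 : x ∈ (((P : Subgroup G) ⊔ K : Subgroup G) : Set G) := hx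
          rw [Subgroup.mul_normal] at h1
          obtain ⟨y, hy, k, hk, rfl⟩ := Set.mem_mul.1 h1
          rw [← QuotientGroup.eq_one_iff, QuotientGroup.mk_pow, QuotientGroup.mk_mul,
            (QuotientGroup.eq_one_iff k).2 hk, mul_one, ← QuotientGroup.mk_pow]
          have : y ^ Nat.card (P : Subgroup G) = 1 := by
            have := pow_card_eq_one' (x := (⟨y, hy⟩ : (P : Subgroup G)))
            exact congrArg Subtype.val this
          rw [this]
          rfl
        have hDp : IsPGroup p D := by
          obtain ⟨a, ha⟩ := IsPGroup.iff_card.1 P.2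
          intro x
          refine ⟨a, ?_⟩
          apply Subtype.ext
          have h1 := hpow K₁ x x.2.1
          have h2 := hpow K₂ x x.2.2
          have h3 : (x : G) ^ Nat.card (P : Subgroup G) ∈ K₁ ⊓ K₂ := ⟨h1, h2⟩
          rw [hK12, Subgroup.mem_bot, ha] at h3
          simpa using h3
        have hPD : (P : Subgroup G) ≤ D := le_inf le_sup_left le_sup_left
        have := P.is_maximal' hDp hPD
        rw [← this]
        infer_instance
      have hih : ∀ (W : Type v) [AddCommGroup W] [Module ℂ W] [FiniteDimensional ℂ W],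
          finrank ℂ W < finrank ℂ V →
          ∀ (G' : Type u) [Group G'] [Finite G'] (ρ' : Representation ℂ G' W),
          Nat.card G' ≤ Nat.card G → Function.Injective ρ' → IsPSolvable p G' →
          ∀ P' : Sylow p G', ¬ (P' : Subgroup G').Normal → finrank ℂ W + 1 = p := by
        intro W _ _ _ hW G' _ _ ρ' hc hinj' hsolv' P' hP'
        have hlt : Nat.card G' + finrank ℂ W < N := by omega
        exact (ih _ hlt G' W ρ' rfl hinj' (by omega) hsolv' P' hP').1
      rcases hor with h | h
      · exact quotient_step σ.toRepresentation hsolv P h (by omega) (hih _ hlt1)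
      · exact quotient_step τ.toRepresentation hsolv P h (by omega) (hih _ hlt2)
  · -- a proper subgroup with non-normal Sylow subgroup
    unfold MinHyp at hmin
    push Not at hmin
    obtain ⟨H, hH, hPH, hnot⟩ := hmin
    have hcard : Nat.card H < Nat.card G := by
      rcases lt_or_eq_of_le (Subgroup.card_le_card_group H) with h | h
      · exact h
      · exact absurd ((Subgroup.card_eq_iff_eq_top H).1 h) hH
    let ρH : Representation ℂ H V := ρ.comp H.subtype
    have hinjH : Function.Injective ρH := by
      intro a b hab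
      exact Subtype.ext (hinj hab)
    have hPn : ¬ ((P.subtype hPH : Sylow p H) : Subgroup H).Normal := by
      rw [Sylow.coe_subtype]
      intro hn
      exact hnot ((Subgroup.normal_subgroupOf_iff_le_normalizer hPH).1 hn)
    have hlt : Nat.card H + finrank ℂ V < N := by omega
    have := ih _ hlt H V ρH rfl hinjH hdeg
      (Cfsg.Agent.Lib.Helper7.PLen.isPSolvable_subgroup' hsolv H) (P.subtype hPH) hPn
    exact ⟨this.1, this.2.1, isIrreducible_of_comp ρ H.subtype this.2.2⟩

end Induction

end Cfsg.Agent.Lib.Helper7.ItoL
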