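import Cfsg.Agent.Lib.Helper7.J1Sp1

/-!
# Element orders in the matrix group generated by the two Janko matrices: soundness
-/

set_option autoImplicit false

namespace Cfsg.Agent.Lib.Helper7.J1S

open Cfsg.Agent.Lib.Helper1.MatCode Cfsg.Agent.Lib.Helper1.J1D

theorem canon_of_mem_A {a : ℕ} (ha : a ∈ A) : Canon 7 11 a :=
  canon_of_all 7 11 canon_A a ha

theorem getD_mem_A {i : ℕ} (hi : i < 114) : A.getD i 0 ∈ A := by
  have h : i < A.length := by rw [len_A]; exact hi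
  rw [List.getD_eq_getElem _ _ h]
  exact List.getElem_mem h

theorem exists_getD_of_mem_A {a : ℕ} (ha : a ∈ A) : ∃ i, i < 114 ∧ A.getD i 0 = a := by
  obtain ⟨i, hi, rfl⟩ := List.getElem_of_mem ha
  refine ⟨i, by rw [← len_A]; exact hi, ?_⟩
  rw [List.getD_eq_getElem _ _ hi]

theorem canon_rep {r : ℕ} (hr : r < 21) : Canon 7 11 (rep r) := by
  unfold rep
  apply canon_Tf
  have h : r < Rk.length := by rw [len_Rk]; exact hr
  rw [List.getD_eq_getElem _ _ h]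
  have h2 := Rk_lt
  rw [List.all_eq_true] at h2
  have h3 := h2 _ (List.getElem_mem h)
  exact of_decide_eq_true h3

section powers

variable (g : ℕ) (hg : Canon 7 11 g)
include hg

theorem D_p2 : D (p2 g) = D g ^ 2 := by
  unfold p2; rw [hmu _ _ hg, sq]

theorem D_p3 : D (p3 g) = D g ^ 3 := by
  unfold p3; rw [hmu _ _ hg, D_p2 g hg]; rfl

theorem D_p4 : D (p4 g) = D g ^ 4 := by
  unfold p4; rw [hmu _ _ (show Canon 7 11 (p2 g) from hC _ _), D_p2 g hg, ← pow_add]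

theorem D_p5 : D (p5 g) = D g ^ 5 := by
  unfold p5; rw [hmu _ _ (show Canon 7 11 (p2 g) from hC _ _), D_p2 g hg, D_p3 g hg, ← pow_add]

theorem D_p6 : D (p6 g) = D g ^ 6 := by
  unfold p6; rw [hmu _ _ (show Canon 7 11 (p3 g) from hC _ _), D_p3 g hg, ← pow_add]

theorem D_p7 : D (p7 g) = D g ^ 7 := by
  unfold p7; rw [hmu _ _ hg, D_p6 g hg]; rfl

theorem D_p10 : D (p10 g) = D g ^ 10 := by
  unfold p10; rw [hmu _ _ (show Canon 7 11 (p5 g) from hC _ _), D_p5 g hg, ← pow_add]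

theorem D_p11 : D (p11 g) = D g ^ 11 := by
  unfold p11; rw [hmu _ _ hg, D_p10 g hg]; rfl

theorem D_p15 : D (p15 g) = D g ^ 15 := by
  unfold p15; rw [hmu _ _ (show Canon 7 11 (p5 g) from hC _ _), D_p10 g hg, D_p5 g hg, ← pow_add]

theorem D_p19 : D (p19 g) = D g ^ 19 := by
  unfold p19; rw [hmu _ _ (show Canon 7 11 (p4 g) from hC _ _), D_p15 g hg, D_p4 g hg, ← pow_add]

theorem okOrd_sound (h : okOrd g = true) :
    ∃ n, (n = 6 ∨ n = 10 ∨ n = 15 ∨ n = 7 ∨ n = 11 ∨ n = 19) ∧ D g ^ n = 1 := by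
  unfold okOrd at h
  simp only [Bool.or_eq_true, beq_iff_eq] at h
  rcases h with h | h | h | h | h | h
  · exact ⟨6, by simp, by rw [← D_p6 g hg, h, D_c1]⟩
  · exact ⟨10, by simp, by rw [← D_p10 g hg, h, D_c1]⟩
  · exact ⟨15, by simp, by rw [← D_p15 g hg, h, D_c1]⟩
  · exact ⟨7, by simp, by rw [← D_p7 g hg, h, D_c1]⟩
  · exact ⟨11, by simp, by rw [← D_p11 g hg, h, D_c1]⟩
  · exact ⟨19, by simp, by rw [← D_p19 g hg, h, D_c1]⟩

end powers

/-- every coset representative is `a' * r * h` -/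
theorem T_decomp {t : ℕ} (ht : t ∈ T) :
    ∃ a' ∈ A, ∃ r, r < 21 ∧ ∃ h ∈ A, D t = D a' * D (rep r) * D h := by
  obtain ⟨k, hk, rfl⟩ := mem_tab.mp ht
  have h := dc_all
  rw [List.all_eq_true] at h
  have hk' := h k (List.mem_range.mpr hk)
  unfold dcOK at hk'
  simp only [Bool.and_eq_true, decide_eq_true_eq, beq_iff_eq] at hk'
  obtain ⟨h1, h2, h3, h4⟩ := hk'
  refine ⟨_, getD_mem_A h1, _, h2, _, getD_mem_A h3, ?_⟩
  rw [← h4, hmu _ _ (canon_of_mem_A (getD_mem_A h3)), hmu _ _ (canon_rep h2)]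

/-- the elements `a * r` have small order -/
theorem AR_pow {a : ℕ} (ha : a ∈ A) {r : ℕ} (hr : r < 21) :
    ∃ n, (n = 6 ∨ n = 10 ∨ n = 15 ∨ n = 7 ∨ n = 11 ∨ n = 19) ∧ (D a * D (rep r)) ^ n = 1 := by
  obtain ⟨i, hi, rfl⟩ := exists_getD_of_mem_A ha
  have h := ord_all
  rw [List.all_eq_true] at h
  have h1 := h i (List.mem_range.mpr hi)
  rw [List.all_eq_true] at h1
  have h2 := h1 r (List.mem_range.mpr hr)
  obtain ⟨n, hn, hpow⟩ := okOrd_sound _ (hC _ _) h2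
  refine ⟨n, hn, ?_⟩
  rw [← hmu _ _ (canon_rep hr)]
  exact hpow

/-- every element of `A * T` which is a unit has small order -/
theorem AT_pow {M : Mat} (hM : M ∈ AT D A T) (hu : IsUnit M) :
    ∃ n, (n = 6 ∨ n = 10 ∨ n = 15 ∨ n = 7 ∨ n = 11 ∨ n = 19) ∧ M ^ n = 1 := by
  obtain ⟨a, ha, t, ht, rfl⟩ := hM
  obtain ⟨a', ha', r, hr, h, hh, hdec⟩ := T_decomp ht
  obtain ⟨a2, ha2, e2⟩ := A_mul_closed a ha a' ha'
  obtain ⟨a3, ha3, e3⟩ := A_mul_closed h hh a2 ha2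
  obtain ⟨n, hn, hpow⟩ := AR_pow ha3 hr
  refine ⟨n, hn, ?_⟩
  have e : D a * D t = (D a2 * D (rep r)) * D h := by
    rw [hdec, ← e2]; simp only [mul_assoc]
  rw [e] at hu ⊢
  have key : ((D a2 * D (rep r)) * D h) ^ (n + 1) = (D a2 * D (rep r)) * D h := by
    rw [pow_succ, ← mul_assoc, mul_pow_mul, ← mul_assoc (D h), e3, hpow, mul_one]
  obtain ⟨u, hu'⟩ := hu
  rw [← hu'] at key ⊢
  have : (u : Mat) ^ n * u = 1 * u := by rw [one_mul, ← pow_succ]; exact key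
  exact u.isUnit.mul_right_cancel this

theorem orderOf_mul_of_pow {G : Type*} [Group G] (g : G) (a b : ℕ) (hab : Nat.Coprime a b)
    (h1 : orderOf (g ^ a) = b) (h2 : orderOf (g ^ b) = a) : orderOf g = a * b := by
  apply Nat.dvd_antisymm
  · apply orderOf_dvd_of_pow_eq_one
    rw [pow_mul, ← h1, pow_orderOf_eq_one]
  · apply Nat.Coprime.mul_dvd_of_dvd_of_dvd hab
    · rw [← h2]; exact orderOf_pow_dvd b
    · rw [← h1]; exact orderOf_pow_dvd a

section abstract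

variable {Γ : Type*} [Group Γ] (φ : Γ →* Mat) (x y : Γ)
variable (hx : φ x = D cX) (hy : φ y = D cY)
include hx hy

/-- every element of the generated subgroup has a small power equal to one -/
theorem pow_eq_one_of_mem (hφ : Function.Injective φ) (g : Γ)
    (hg : g ∈ Subgroup.closure ({x, y} : Set Γ)) :
    ∃ n, (n = 6 ∨ n = 10 ∨ n = 15 ∨ n = 7 ∨ n = 11 ∨ n = 19) ∧ g ^ n = 1 := by
  have hmem : φ g ∈ AT D A T :=
    subgroup_closure_subset φ (AT_finite D A T) one_mem_AT _ (step_mem φ x y hx hy) g hg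
  have hu : IsUnit (φ g) := (Group.isUnit g).map φ
  obtain ⟨n, hn, hpow⟩ := AT_pow hmem hu
  refine ⟨n, hn, hφ ?_⟩
  rw [map_pow, hpow, map_one]

/-- the orders of the elements -/
theorem orderOf_mem_of_mem (hφ : Function.Injective φ) (g : Γ)
    (hg : g ∈ Subgroup.closure ({x, y} : Set Γ)) :
    orderOf g ∈ ({1, 2, 3, 5, 6, 7, 10, 11, 15, 19} : Finset ℕ) := by
  obtain ⟨n, hn, hpow⟩ := pow_eq_one_of_mem φ x y hx hy hφ g hg
  have hd : orderOf g ∣ n := orderOf_dvd_of_pow_eq_one hpow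
  have hpos : 0 < n := by omega
  have hle := Nat.le_of_dvd hpos hd
  have h0 : 0 < orderOf g := Nat.pos_of_dvd_of_pos hd hpos
  rcases hn with rfl | rfl | rfl | rfl | rfl | rfl <;>
    (interval_cases (orderOf g) <;> first | decide | (exfalso; revert hd; decide))

end abstract

end Cfsg.Agent.Lib.Helper7.J1S
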