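import Cfsg.Agent.Lib.Helper7.J1Sp2
import Cfsg.Agent.Lib.Helper1.J1Main
import Cfsg.Agent.Lib.Helper7.AffFrob

/-!
# The set of element orders of the Janko group `J₁`, and groups with the element orders of `J₁⁴`
-/

set_option autoImplicit false

namespace Cfsg.Agent.Lib.Helper7.J1S

open Cfsg.Agent.Lib.Helper1.MatCode Cfsg.Agent.Lib.Helper1.J1D

/-- the element orders of `J₁` -/
def SJ : Finset ℕ := {1, 2, 3, 5, 6, 7, 10, 11, 15, 19}

/-- the element orders of the generalised dihedral groups -/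
def SX : Finset ℕ := {1, 2, 7}

theorem finite_J1 : Finite ↥Cfsg.Spor.J1 := by
  apply Nat.finite_of_card_ne_zero
  have h : Nat.card ↥Cfsg.Spor.J1 = 175560 :=
    card_closure Cfsg.Spor.jankoX Cfsg.Spor.jankoY rfl rfl
  rw [h]; norm_num

theorem card_J1 : Nat.card ↥Cfsg.Spor.J1 = 175560 :=
  card_closure Cfsg.Spor.jankoX Cfsg.Spor.jankoY rfl rfl

theorem range_orderOf_J1 : Set.range (orderOf : ↥Cfsg.Spor.J1 → ℕ) = ↑SJ := by
  have hx : phiK Cfsg.Spor.jankoX Cfsg.Spor.jankoY (xK Cfsg.Spor.jankoX Cfsg.Spor.jankoY) = D cX :=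
    (rfl : _ = Cfsg.jankoMatrixX).trans X_eq
  have hy : phiK Cfsg.Spor.jankoX Cfsg.Spor.jankoY (yK Cfsg.Spor.jankoX Cfsg.Spor.jankoY) = D cY :=
    (rfl : _ = Cfsg.jankoMatrixY).trans Y_eq
  have hφ := phiK_injective Cfsg.Spor.jankoX Cfsg.Spor.jankoY
  have ord := fun (w : List ℕ) (m q : ℕ) (hq : q.Prime) (h : ordChk w m q = true) =>
    orderOf_of_ordChk (phiK Cfsg.Spor.jankoX Cfsg.Spor.jankoY) _ _ hx hy hφ w m q hq h
  ext n
  constructor
  · rintro ⟨g, rfl⟩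
    have hg : g ∈ Subgroup.closure ({xK Cfsg.Spor.jankoX Cfsg.Spor.jankoY,
        yK Cfsg.Spor.jankoX Cfsg.Spor.jankoY} : Set _) := by
      rw [closure_xK_yK]; trivial
    exact orderOf_mem_of_mem (phiK Cfsg.Spor.jankoX Cfsg.Spor.jankoY) _ _ hx hy hφ g hg
  · intro hn
    have hn' : n = 1 ∨ n = 2 ∨ n = 3 ∨ n = 5 ∨ n = 6 ∨ n = 7 ∨ n = 10 ∨ n = 11 ∨ n = 15 ∨ n = 19 := by
      simpa [SJ] using hn
    rcases hn' with rfl | rfl | rfl | rfl | rfl | rfl | rfl | rfl | rfl | rfl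
    · exact ⟨1, orderOf_one⟩
    · exact ⟨_, ord w6 3 2 (by norm_num) ord_6_2⟩
    · exact ⟨_, ord w6 2 3 (by norm_num) ord_6_3⟩
    · exact ⟨_, ord w10 2 5 (by norm_num) ord_10_5⟩
    · exact ⟨_, orderOf_mul_of_pow _ 3 2 (by norm_num) (ord w6 3 2 (by norm_num) ord_6_2)
        (ord w6 2 3 (by norm_num) ord_6_3)⟩
    · exact ⟨_, ord [0] 1 7 (by norm_num) ord_7'⟩
    · exact ⟨_, orderOf_mul_of_pow _ 5 2 (by norm_num) (ord w10 5 2 (by norm_num) ord_10_2)
        (ord w10 2 5 (by norm_num) ord_10_5)⟩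
    · exact ⟨_, ord [0, 1, 1] 1 11 (by norm_num) ord_11'⟩
    · exact ⟨_, orderOf_mul_of_pow _ 5 3 (by norm_num) (ord w15 5 3 (by norm_num) ord_15_3)
        (ord w15 3 5 (by norm_num) ord_15_5)⟩
    · exact ⟨_, ord [0, 0, 0, 1] 1 19 (by norm_num) ord_19'⟩

/-- the element orders of a direct product -/
theorem range_orderOf_prod {G K : Type*} [Monoid G] [Monoid K] (s t : Finset ℕ)
    (hs : Set.range (orderOf : G → ℕ) = ↑s) (ht : Set.range (orderOf : K → ℕ) = ↑t) :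
    Set.range (orderOf : G × K → ℕ) = ↑(Finset.image₂ Nat.lcm s t) := by
  ext n
  rw [Finset.coe_image₂, ← hs, ← ht]
  constructor
  · rintro ⟨g, rfl⟩
    exact ⟨_, ⟨g.1, rfl⟩, _, ⟨g.2, rfl⟩, (Prod.orderOf g).symm⟩
  · rintro ⟨_, ⟨a, rfl⟩, _, ⟨b, rfl⟩, rfl⟩
    exact ⟨(a, b), Prod.orderOf (a, b)⟩

theorem spec_eq : Finset.image₂ Nat.lcm SJ (Finset.image₂ Nat.lcm SJ (Finset.image₂ Nat.lcm SJ SX)) =
    Finset.image₂ Nat.lcm SJ (Finset.image₂ Nat.lcm SJ (Finset.image₂ Nat.lcm SJ SJ)) := by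
  decide +kernel

/-- the generalised dihedral group of the elementary abelian group of order `7 ^ k` -/
abbrev XK (k : ℕ) : Type := AffGp ℤˣ (Fin k → ZMod 7)

theorem range_orderOf_units : Set.range (orderOf : ℤˣ → ℕ) = {1, 2} := by
  ext n
  simp only [Set.mem_range, Set.mem_insert_iff, Set.mem_singleton_iff]
  constructor
  · rintro ⟨u, rfl⟩
    rcases Int.units_eq_one_or u with rfl | rfl
    · left; exact orderOf_one
    · right
      have : Fact (Nat.Prime 2) := ⟨Nat.prime_two⟩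
      exact orderOf_eq_prime (by decide) (by decide)
  · rintro (rfl | rfl)
    · exact ⟨1, orderOf_one⟩
    · refine ⟨-1, ?_⟩
      have : Fact (Nat.Prime 2) := ⟨Nat.prime_two⟩
      exact orderOf_eq_prime (by decide) (by decide)

theorem range_orderOf_XK (k : ℕ) : Set.range (orderOf : XK (k + 1) → ℕ) = ↑SX := by
  have h := AffGp.spectrum_frob (H := ℤˣ) (V := Fin (k + 1) → ZMod 7) 7 (by norm_num)
    (by
      intro g hg v hv
      rcases Int.units_eq_one_or g with rfl | rfl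
      · exact absurd rfl hg
      · funext i
        have h1 := congrFun hv i
        rw [Units.smul_def] at h1
        simp only [Units.val_neg, Units.val_one, neg_smul, one_smul, Pi.neg_apply] at h1
        have key : ∀ a : ZMod 7, -a = a → a = 0 := by decide
        exact key _ h1)
    (by
      intro v
      funext i
      have key : ∀ a : ZMod 7, 7 • a = 0 := by decide
      exact key _)
    ⟨fun _ => 1, fun h => by
      have h1 : (1 : ZMod 7) = 0 := congrFun h 0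
      revert h1
      decide⟩
  rw [h, range_orderOf_units]
  ext n
  simp [SX]
  tauto

theorem lt_card_XK (N : ℕ) : N < Nat.card (XK (N + 1)) := by
  have h1 : Nat.card (Fin (N + 1) → ZMod 7) ≤ Nat.card (XK (N + 1)) := AffGp.card_ge
  have h2 : Nat.card (Fin (N + 1) → ZMod 7) = 7 ^ (N + 1) := by
    rw [Nat.card_eq_fintype_card, Fintype.card_fun, ZMod.card, Fintype.card_fin]
  have h3 : N + 1 < 7 ^ (N + 1) := Nat.lt_pow_self (by norm_num)
  omega

/-- the groups `J₁ × J₁ × J₁ × X` have the element orders of `J₁ × J₁ × J₁ × J₁` -/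
theorem range_orderOf_big (N : ℕ) :
    Set.range (orderOf : ↥Cfsg.Spor.J1 × ↥Cfsg.Spor.J1 × ↥Cfsg.Spor.J1 × XK (N + 1) → ℕ) =
      Set.range (orderOf : ↥Cfsg.Spor.J1 × ↥Cfsg.Spor.J1 × ↥Cfsg.Spor.J1 × ↥Cfsg.Spor.J1 → ℕ) := by
  have hJ := range_orderOf_J1
  rw [range_orderOf_prod _ _ hJ (range_orderOf_prod _ _ hJ (range_orderOf_prod _ _ hJ
      (range_orderOf_XK N))),
    range_orderOf_prod _ _ hJ (range_orderOf_prod _ _ hJ (range_orderOf_prod _ _ hJ hJ)), spec_eq]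

theorem lt_card_big (N : ℕ) :
    N < Nat.card (↥Cfsg.Spor.J1 × ↥Cfsg.Spor.J1 × ↥Cfsg.Spor.J1 × XK (N + 1)) := by
  rw [Nat.card_prod, Nat.card_prod, Nat.card_prod, card_J1]
  have := lt_card_XK N
  omega

end Cfsg.Agent.Lib.Helper7.J1S
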