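import Mathlib
import Cfsg.Agent.Lib.Helper7.AffExt

set_option autoImplicit false

/-!
The six-dimensional heart `W` of the permutation module `F₂⁸`, as a module for the symmetric group
of degree `8`.
-/

namespace Cfsg.Agent.Lib.Helper7.JS

open Finset

/-- the permutation module -/
abbrev M8 := Fin 8 → ZMod 2

/-- permuting coordinates -/
def permM (σ : Equiv.Perm (Fin 8)) : M8 →+ M8 where
  toFun f := fun x => f (σ⁻¹ x)
  map_zero' := rfl
  map_add' _ _ := rfl

theorem permM_apply (σ : Equiv.Perm (Fin 8)) (f : M8) (x : Fin 8) : permM σ f x = f (σ⁻¹ x) := rfl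

theorem permM_one (f : M8) : permM 1 f = f := by
  ext x; simp [permM_apply]

theorem permM_mul (σ τ : Equiv.Perm (Fin 8)) (f : M8) : permM (σ * τ) f = permM σ (permM τ f) := by
  ext x; simp [permM_apply, mul_inv_rev]

/-- the sum of the coordinates -/
def sumHom : M8 →+ ZMod 2 where
  toFun f := ∑ x, f x
  map_zero' := by simp
  map_add' f g := by simp [Finset.sum_add_distrib]

theorem sumHom_apply (f : M8) : sumHom f = ∑ x, f x := rfl

theorem sumHom_permM (σ : Equiv.Perm (Fin 8)) (f : M8) : sumHom (permM σ f) = sumHom f := by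
  rw [sumHom_apply, sumHom_apply]
  exact Equiv.sum_comp σ⁻¹ f

theorem add_self_M8 (f : M8) : f + f = 0 := by
  ext x
  exact CharTwo.add_self_eq_zero (f x)

theorem permM_one_fun (σ : Equiv.Perm (Fin 8)) : permM σ (1 : M8) = 1 := by
  ext x; simp [permM_apply]

/-- even-weight vectors -/
def E8 : AddSubgroup M8 := sumHom.ker

theorem mem_E8 (f : M8) : f ∈ E8 ↔ ∑ x, f x = 0 := by
  rw [E8, AddMonoidHom.mem_ker, sumHom_apply]

/-- permuting coordinates, on even-weight vectors -/
def permE (σ : Equiv.Perm (Fin 8)) : E8 →+ E8 where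
  toFun f := ⟨permM σ f.1, by
    have := f.2
    unfold E8 at this ⊢
    rw [AddMonoidHom.mem_ker] at this ⊢
    rw [sumHom_permM, this]⟩
  map_zero' := by
    apply Subtype.ext
    simp
  map_add' f g := by
    apply Subtype.ext
    simp

theorem permE_val (σ : Equiv.Perm (Fin 8)) (f : E8) : (permE σ f).1 = permM σ f.1 := rfl

/-- the constant vectors -/
def Z8 : AddSubgroup E8 where
  carrier := {f | f.1 = 0 ∨ f.1 = 1}
  zero_mem' := Or.inl rfl
  add_mem' := by
    rintro a b (ha | ha) (hb | hb)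
    · left; rw [AddSubgroup.coe_add, ha, hb, add_zero]
    · right; rw [AddSubgroup.coe_add, ha, hb, zero_add]
    · right; rw [AddSubgroup.coe_add, ha, hb, add_zero]
    · left; rw [AddSubgroup.coe_add, ha, hb, add_self_M8]
  neg_mem' := by
    rintro a (ha | ha)
    · left; rw [AddSubgroup.coe_neg, ha, neg_zero]
    · right
      rw [AddSubgroup.coe_neg, ha]
      have := add_self_M8 1
      exact neg_eq_of_add_eq_zero_left this

theorem mem_Z8 (f : E8) : f ∈ Z8 ↔ (f.1 = 0 ∨ f.1 = 1) := Iff.rfl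

theorem Z8_le_comap (σ : Equiv.Perm (Fin 8)) : Z8 ≤ Z8.comap (permE σ) := by
  intro f hf
  rw [AddSubgroup.mem_comap, mem_Z8, permE_val]
  rcases hf with hf | hf
  · left; rw [hf, map_zero]
  · right; rw [hf, permM_one_fun]

/-- the heart -/
abbrev W8 := E8 ⧸ Z8

/-- permuting coordinates, on the heart -/
def permW (σ : Equiv.Perm (Fin 8)) : W8 →+ W8 :=
  QuotientAddGroup.map Z8 Z8 (permE σ) (Z8_le_comap σ)

theorem permW_mk (σ : Equiv.Perm (Fin 8)) (f : E8) :
    permW σ (QuotientAddGroup.mk f) = QuotientAddGroup.mk (permE σ f) := rfl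

instance : SMul (Equiv.Perm (Fin 8)) W8 := ⟨fun σ w => permW σ w⟩

theorem smul_W8_def (σ : Equiv.Perm (Fin 8)) (w : W8) : σ • w = permW σ w := rfl

theorem smul_mk (σ : Equiv.Perm (Fin 8)) (f : E8) :
    σ • (QuotientAddGroup.mk f : W8) = QuotientAddGroup.mk (permE σ f) := rfl

instance : DistribMulAction (Equiv.Perm (Fin 8)) W8 where
  one_smul w := by
    induction w using QuotientAddGroup.induction_on with
    | H f =>
      have h : permE 1 f = f := Subtype.ext (by rw [permE_val, permM_one])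
      rw [smul_mk, h]
  mul_smul σ τ w := by
    induction w using QuotientAddGroup.induction_on with
    | H f =>
      have h : permE (σ * τ) f = permE σ (permE τ f) :=
        Subtype.ext (by rw [permE_val, permE_val, permE_val, permM_mul])
      rw [smul_mk, smul_mk, smul_mk, h]
  smul_zero σ := map_zero (permW σ)
  smul_add σ a b := map_add (permW σ) a b

theorem add_self_W8 (w : W8) : w + w = 0 := by
  induction w using QuotientAddGroup.induction_on with
  | H f =>
    rw [← QuotientAddGroup.mk_add]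
    have : f + f = 0 := by
      apply Subtype.ext
      rw [AddSubgroup.coe_add, add_self_M8]
      rfl
    rw [this]
    rfl

instance : Finite W8 := inferInstance

/-- the orbit sum -/
def Nsum (σ : Equiv.Perm (Fin 8)) (o : ℕ) (f : M8) : M8 :=
  fun x => ∑ i ∈ range o, f ((σ ^ i)⁻¹ x)

theorem Nsum_eq (σ : Equiv.Perm (Fin 8)) (o : ℕ) (f : M8) :
    Nsum σ o f = ∑ i ∈ range o, permM (σ ^ i) f := by
  ext x
  rw [Finset.sum_apply]
  rfl

/-- the orbit sums of all even-weight vectors are constant -/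
def PN (σ : Equiv.Perm (Fin 8)) (o : ℕ) : Prop :=
  ∀ f : M8, ∑ x, f x = 0 → (Nsum σ o f = 0 ∨ Nsum σ o f = 1)

theorem sum_smul_eq_zero {σ : Equiv.Perm (Fin 8)} {o : ℕ} (h : PN σ o) (w : W8) :
    ∑ i ∈ range o, (σ ^ i) • w = 0 := by
  induction w using QuotientAddGroup.induction_on with
  | H f =>
    have h1 : ∀ i ∈ range o, (σ ^ i) • (QuotientAddGroup.mk f : W8)
        = QuotientAddGroup.mk' Z8 (permE (σ ^ i) f) := fun i _ => rfl
    rw [Finset.sum_congr rfl h1, ← map_sum, QuotientAddGroup.mk'_apply,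
      QuotientAddGroup.eq_zero_iff, mem_Z8]
    have h2 : ((∑ i ∈ range o, permE (σ ^ i) f : E8) : M8) = Nsum σ o f.1 := by
      rw [Nsum_eq, AddSubgroup.val_finsetSum]
      rfl
    rw [h2]
    exact h f.1 ((mem_E8 _).mp f.2)

theorem sum_smul_ne_zero {σ : Equiv.Perm (Fin 8)} {o : ℕ} (f : E8)
    (h0 : Nsum σ o f.1 ≠ 0) (h1 : Nsum σ o f.1 ≠ 1) :
    ∑ i ∈ range o, (σ ^ i) • (QuotientAddGroup.mk f : W8) ≠ 0 := by
  have h1' : ∀ i ∈ range o, (σ ^ i) • (QuotientAddGroup.mk f : W8)
      = QuotientAddGroup.mk' Z8 (permE (σ ^ i) f) := fun i _ => rfl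
  rw [Finset.sum_congr rfl h1', ← map_sum, QuotientAddGroup.mk'_apply, Ne,
    QuotientAddGroup.eq_zero_iff, mem_Z8]
  have h2 : ((∑ i ∈ range o, permE (σ ^ i) f : E8) : M8) = Nsum σ o f.1 := by
    rw [Nsum_eq, AddSubgroup.val_finsetSum]
    rfl
  rw [h2]
  tauto

/-- conjugation invariance -/
theorem PN_conj {σ : Equiv.Perm (Fin 8)} {o : ℕ} (h : PN σ o) (τ : Equiv.Perm (Fin 8)) :
    PN (τ * σ * τ⁻¹) o := by
  intro f hf
  have hf' : ∑ x, permM τ⁻¹ f x = 0 := by
    have := sumHom_permM τ⁻¹ f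
    rw [sumHom_apply, sumHom_apply] at this
    rw [this, hf]
  have key : Nsum (τ * σ * τ⁻¹) o f = permM τ (Nsum σ o (permM τ⁻¹ f)) := by
    ext x
    rw [permM_apply]
    unfold Nsum
    apply Finset.sum_congr rfl
    intro i _
    rw [permM_apply, conj_pow]
    simp [mul_inv_rev, mul_assoc]
  rw [key]
  rcases h _ hf' with h0 | h0
  · left; rw [h0, map_zero]
  · right; rw [h0, permM_one_fun]

end Cfsg.Agent.Lib.Helper7.JS
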