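import Mathlib
import Cfsg.Agent.Lib.Helper7.JS1
import Cfsg.Agent.Lib.Helper5.AltOrders

set_option autoImplicit false

/-!
Elements of order `7` and `15` of the symmetric group of degree `8` have no nonzero fixed points
on the heart.
-/

namespace Cfsg.Agent.Lib.Helper7.JS

open Finset Cfsg.Agent.Lib.Helper5

/-- a `7`-cycle -/
def s7 : Equiv.Perm (Fin 8) := List.formPerm [0, 1, 2, 3, 4, 5, 6]

/-- an element of cycle type `5 + 3` -/
def s15 : Equiv.Perm (Fin 8) := List.formPerm [0, 1, 2, 3, 4] * List.formPerm [5, 6, 7]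

set_option maxRecDepth 100000 in
theorem PN_s7 : PN s7 7 := by
  unfold PN Nsum
  decide +kernel

set_option maxRecDepth 100000 in
theorem PN_s15 : PN s15 15 := by
  unfold PN Nsum
  decide +kernel

theorem cycleType_formPerm (l : List (Fin 8)) (hn : l.Nodup) (h2 : 2 ≤ l.length) :
    (List.formPerm l).cycleType = {l.length} := by
  have hc : (List.formPerm l).IsCycle := List.isCycle_formPerm hn h2
  rw [hc.cycleType, List.support_formPerm_of_nodup l hn, List.toFinset_card_of_nodup hn]
  intro x hx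
  rw [hx] at h2
  simp at h2

theorem cycleType_s7 : s7.cycleType = {7} := by
  unfold s7
  rw [cycleType_formPerm _ (by decide) (by decide)]
  rfl

theorem cycleType_s15 : s15.cycleType = {5, 3} := by
  unfold s15
  rw [Equiv.Perm.Disjoint.cycleType_mul, cycleType_formPerm _ (by decide) (by decide),
    cycleType_formPerm _ (by decide) (by decide)]
  · rfl
  · rw [List.formPerm_disjoint_iff (by decide) (by decide) (by decide) (by decide)]
    intro a ha hb
    revert a
    decide

theorem lists_lcm : ∀ l ∈ partsAux 8 8 8, (listLcm l = 7 → l = [7]) ∧ (listLcm l = 15 → l = [5, 3]) := by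
  decide

theorem cycleType_of_orderOf_seven (σ : Equiv.Perm (Fin 8)) (h : orderOf σ = 7) :
    σ.cycleType = {7} := by
  obtain ⟨l, hl, hlm⟩ := exists_mem_partsAux 8 σ.cycleType
    (fun a ha => Equiv.Perm.two_le_of_mem_cycleType ha) (by simpa using σ.sum_cycleType_le)
  have h1 : listLcm l = 7 := by
    rw [← multiset_lcm_coe, hlm, Equiv.Perm.lcm_cycleType, h]
  rw [← hlm, (lists_lcm l hl).1 h1]
  rfl

theorem cycleType_of_orderOf_fifteen (σ : Equiv.Perm (Fin 8)) (h : orderOf σ = 15) :
    σ.cycleType = {5, 3} := by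
  obtain ⟨l, hl, hlm⟩ := exists_mem_partsAux 8 σ.cycleType
    (fun a ha => Equiv.Perm.two_le_of_mem_cycleType ha) (by simpa using σ.sum_cycleType_le)
  have h1 : listLcm l = 15 := by
    rw [← multiset_lcm_coe, hlm, Equiv.Perm.lcm_cycleType, h]
  rw [← hlm, (lists_lcm l hl).2 h1]
  rfl

theorem PN_of_orderOf_seven (σ : Equiv.Perm (Fin 8)) (h : orderOf σ = 7) : PN σ 7 := by
  have hc : IsConj s7 σ := by
    rw [Equiv.Perm.isConj_iff_cycleType_eq, cycleType_s7, cycleType_of_orderOf_seven σ h]
  obtain ⟨τ, hτ⟩ := isConj_iff.mp hc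
  rw [← hτ]
  exact PN_conj PN_s7 τ

theorem PN_of_orderOf_fifteen (σ : Equiv.Perm (Fin 8)) (h : orderOf σ = 15) : PN σ 15 := by
  have hc : IsConj s15 σ := by
    rw [Equiv.Perm.isConj_iff_cycleType_eq, cycleType_s15, cycleType_of_orderOf_fifteen σ h]
  obtain ⟨τ, hτ⟩ := isConj_iff.mp hc
  rw [← hτ]
  exact PN_conj PN_s15 τ

end Cfsg.Agent.Lib.Helper7.JS
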