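import Mathlib
import Cfsg.Agent.Lib.Helper7.JS2

set_option autoImplicit false

/-!
The groups `Wᵗ ⋊ A₈` have the same element orders as the symmetric group of degree `8`.
-/

namespace Cfsg.Agent.Lib.Helper7.JS

open Finset Cfsg.Agent.Lib.Helper5

section general

variable {H V : Type*} [Group H] [AddCommGroup V] [DistribMulAction H V]

theorem pow_v_eq_sum (w : AffGp H V) (n : ℕ) : (w ^ n).v = ∑ i ∈ range n, w.g ^ i • w.v := by
  induction n with
  | zero => simp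
  | succ n ih =>
    rw [pow_succ, AffGp.mul_v, ih, AffGp.pow_g, Finset.sum_range_succ]

theorem pow_orderOf_eq_one_of_sum (w : AffGp H V)
    (h : ∑ i ∈ range (orderOf w.g), w.g ^ i • w.v = 0) : orderOf w = orderOf w.g := by
  apply Nat.dvd_antisymm _ (AffGp.orderOf_g_dvd w)
  apply orderOf_dvd_of_pow_eq_one
  apply AffGp.ext'
  · rw [pow_v_eq_sum, h]; rfl
  · rw [AffGp.pow_g, pow_orderOf_eq_one]; rfl

theorem orderOf_eq_two_mul [Finite H] (hV2 : ∀ v : V, v + v = 0) (w : AffGp H V)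
    (h : ∑ i ∈ range (orderOf w.g), w.g ^ i • w.v ≠ 0) : orderOf w = 2 * orderOf w.g := by
  have h1 := AffGp.orderOf_dvd_two_mul hV2 w
  obtain ⟨c, hc⟩ := AffGp.orderOf_g_dvd w
  have ho : 0 < orderOf w.g := orderOf_pos _
  rw [hc] at h1
  have h2 : c ∣ 2 := by
    rw [mul_comm 2] at h1
    exact Nat.dvd_of_mul_dvd_mul_left ho h1
  rcases (Nat.dvd_prime Nat.prime_two).mp h2 with rfl | rfl
  · exfalso
    apply h
    rw [mul_one] at hc
    have h3 : w ^ orderOf w.g = 1 := by rw [← hc]; exact pow_orderOf_eq_one w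
    have h4 := congrArg AffGp.v h3
    rw [pow_v_eq_sum] at h4
    exact h4
  · rw [hc, mul_comm]

end general

/-- the group `Wᵗ ⋊ A₈` -/
abbrev HJ (t : ℕ) : Type := AffGp (alternatingGroup (Fin 8)) (Fin t → W8)

theorem HJ_hV2 (t : ℕ) (v : Fin t → W8) : v + v = 0 := by
  ext j
  exact add_self_W8 (v j)

theorem sum_smul_fun (t : ℕ) (g : alternatingGroup (Fin 8)) (o : ℕ) (v : Fin t → W8) (j : Fin t) :
    (∑ i ∈ range o, g ^ i • v) j = ∑ i ∈ range o, ((g : Equiv.Perm (Fin 8)) ^ i) • v j := by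
  rw [Finset.sum_apply]
  rfl

theorem a8_forward : ∀ l ∈ partsAux 8 8 8, (l.sum + l.length) % 2 = 0 →
    listLcm l ∈ [1, 2, 3, 4, 5, 6, 7, 15] := by
  decide

theorem a8_backward : ∀ k ∈ [1, 2, 3, 4, 5, 6, 7, 15], ∃ l ∈ partsAux 8 8 8, listLcm l = k ∧
    (l.sum + l.length) % 2 = 0 ∧ l.sum ≤ 8 ∧ ∀ a ∈ l, 2 ≤ a := by
  decide

theorem a8_spec (k : ℕ) : k ∈ Set.range (orderOf : alternatingGroup (Fin 8) → ℕ) ↔
    k ∈ [1, 2, 3, 4, 5, 6, 7, 15] := by
  rw [mem_range_orderOf_alternatingGroup_iff_list]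
  constructor
  · rintro ⟨l, hl, rfl, hev, -, -⟩
    exact a8_forward l hl hev
  · intro hk
    exact a8_backward k hk

/-- orders of elements of the symmetric group via lists -/
theorem mem_range_orderOf_perm_iff (n k : ℕ) :
    k ∈ Set.range (orderOf : Equiv.Perm (Fin n) → ℕ) ↔
      ∃ l ∈ partsAux n n n, listLcm l = k ∧ l.sum ≤ n ∧ ∀ a ∈ l, 2 ≤ a := by
  constructor
  · rintro ⟨σ, rfl⟩
    obtain ⟨l, hl, hlm⟩ := exists_mem_partsAux n σ.cycleType
      (fun a ha => Equiv.Perm.two_le_of_mem_cycleType ha) (by simpa using σ.sum_cycleType_le)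
    refine ⟨l, hl, ?_, ?_, ?_⟩
    · rw [← multiset_lcm_coe, hlm, Equiv.Perm.lcm_cycleType]
    · have := σ.sum_cycleType_le
      rw [← hlm] at this
      simpa using this
    · intro a ha
      have : a ∈ σ.cycleType := by rw [← hlm]; exact Multiset.mem_coe.mpr ha
      exact Equiv.Perm.two_le_of_mem_cycleType this
  · rintro ⟨l, -, hlcm, hsum, h2⟩
    obtain ⟨σ, hσ⟩ := (Equiv.Perm.exists_with_cycleType_iff (α := Fin n) (m := (l : Multiset ℕ))).2
      ⟨by simpa using hsum, by simpa using h2⟩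
    refine ⟨σ, ?_⟩
    rw [← Equiv.Perm.lcm_cycleType, hσ, multiset_lcm_coe, hlcm]

theorem s8_forward : ∀ l ∈ partsAux 8 8 8, listLcm l ∈ [1, 2, 3, 4, 5, 6, 7, 8, 10, 12, 15] := by
  decide

theorem s8_backward : ∀ k ∈ [1, 2, 3, 4, 5, 6, 7, 8, 10, 12, 15], ∃ l ∈ partsAux 8 8 8,
    listLcm l = k ∧ l.sum ≤ 8 ∧ ∀ a ∈ l, 2 ≤ a := by
  decide

theorem s8_spec (k : ℕ) : k ∈ Set.range (orderOf : Equiv.Perm (Fin 8) → ℕ) ↔
    k ∈ [1, 2, 3, 4, 5, 6, 7, 8, 10, 12, 15] := by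
  rw [mem_range_orderOf_perm_iff]
  constructor
  · rintro ⟨l, hl, rfl, -, -⟩
    exact s8_forward l hl
  · intro hk
    exact s8_backward k hk

/-- upper bound for the spectrum -/
theorem HJ_orderOf_mem (t : ℕ) (w : HJ t) :
    orderOf w ∈ [1, 2, 3, 4, 5, 6, 7, 8, 10, 12, 15] := by
  have hg : orderOf w.g ∈ [1, 2, 3, 4, 5, 6, 7, 15] := (a8_spec _).mp ⟨w.g, rfl⟩
  have hco : orderOf (w.g : Equiv.Perm (Fin 8)) = orderOf w.g := Subgroup.orderOf_coe w.g
  by_cases h715 : orderOf w.g = 7 ∨ orderOf w.g = 15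
  · have hPN : PN (w.g : Equiv.Perm (Fin 8)) (orderOf w.g) := by
      rcases h715 with h | h
      · rw [h]; exact PN_of_orderOf_seven _ (hco.trans h)
      · rw [h]; exact PN_of_orderOf_fifteen _ (hco.trans h)
    have : orderOf w = orderOf w.g := by
      apply pow_orderOf_eq_one_of_sum
      ext j
      rw [sum_smul_fun, sum_smul_eq_zero hPN]
      rfl
    rw [this]
    rcases h715 with h | h <;> rw [h] <;> simp
  · have h1 := AffGp.orderOf_dvd_two_mul (HJ_hV2 t) w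
    obtain ⟨c, hc⟩ := AffGp.orderOf_g_dvd w
    have ho : 0 < orderOf w.g := orderOf_pos _
    rw [hc] at h1
    have h2 : c ∣ 2 := by
      rw [mul_comm 2] at h1
      exact Nat.dvd_of_mul_dvd_mul_left ho h1
    rw [hc]
    push Not at h715
    simp only [List.mem_cons, List.not_mem_nil, or_false] at hg
    rcases (Nat.dvd_prime Nat.prime_two).mp h2 with rfl | rfl <;>
      rcases hg with h | h | h | h | h | h | h | h <;> rw [h] <;> simp <;> omega

/-- elements of order `4`, `5`, `6` of `A₈` -/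
def c4 : Equiv.Perm (Fin 8) := List.formPerm [0, 1, 2, 3] * List.formPerm [4, 5]
/-- elements of order `4`, `5`, `6` of `A₈` -/
def c5 : Equiv.Perm (Fin 8) := List.formPerm [0, 1, 2, 3, 4]
/-- elements of order `4`, `5`, `6` of `A₈` -/
def c6 : Equiv.Perm (Fin 8) := List.formPerm [0, 1, 2] * List.formPerm [3, 4] * List.formPerm [5, 6]

/-- the vector `e_a + e_b` -/
def ee (a b : Fin 8) : M8 := fun x => if x = a ∨ x = b then 1 else 0

set_option maxRecDepth 100000 in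
theorem c4_facts : c4 ∈ alternatingGroup (Fin 8) ∧ c4 ^ 4 = 1 ∧ c4 ^ 2 ≠ 1 ∧
    ee 0 4 ∈ E8 ∧ Nsum c4 4 (ee 0 4) ≠ 0 ∧ Nsum c4 4 (ee 0 4) ≠ 1 := by
  rw [Equiv.Perm.mem_alternatingGroup, mem_E8]
  unfold c4 ee Nsum
  decide +kernel

set_option maxRecDepth 100000 in
theorem c5_facts : c5 ∈ alternatingGroup (Fin 8) ∧ c5 ^ 5 = 1 ∧ c5 ≠ 1 ∧
    ee 5 6 ∈ E8 ∧ Nsum c5 5 (ee 5 6) ≠ 0 ∧ Nsum c5 5 (ee 5 6) ≠ 1 := by
  rw [Equiv.Perm.mem_alternatingGroup, mem_E8]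
  unfold c5 ee Nsum
  decide +kernel

set_option maxRecDepth 100000 in
theorem c6_facts : c6 ∈ alternatingGroup (Fin 8) ∧ c6 ^ 6 = 1 ∧ c6 ^ 2 ≠ 1 ∧ c6 ^ 3 ≠ 1 ∧
    ee 3 7 ∈ E8 ∧ Nsum c6 6 (ee 3 7) ≠ 0 ∧ Nsum c6 6 (ee 3 7) ≠ 1 := by
  rw [Equiv.Perm.mem_alternatingGroup, mem_E8]
  unfold c6 ee Nsum
  decide +kernel

theorem orderOf_c4 : orderOf c4 = 4 := by
  have h := c4_facts
  have h1 : orderOf c4 ∣ 2 ^ 2 := orderOf_dvd_of_pow_eq_one h.2.1
  obtain ⟨j, hj, hjo⟩ := (Nat.dvd_prime_pow Nat.prime_two).mp h1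
  have h2 : ¬ orderOf c4 ∣ 2 := fun hd => h.2.2.1 (orderOf_dvd_iff_pow_eq_one.mp hd)
  interval_cases j
  · rw [hjo] at h2; exact absurd (by norm_num) h2
  · rw [hjo] at h2; exact absurd (by norm_num) h2
  · rw [hjo]; norm_num

theorem orderOf_c5 : orderOf c5 = 5 := by
  have h := c5_facts
  haveI : Fact (Nat.Prime 5) := ⟨by norm_num⟩
  exact orderOf_eq_prime h.2.1 h.2.2.1

theorem orderOf_c6 : orderOf c6 = 6 := by
  have h := c6_facts
  have h1 : orderOf c6 ∣ 6 := orderOf_dvd_of_pow_eq_one h.2.1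
  have h2 : ¬ orderOf c6 ∣ 2 := fun hd => h.2.2.1 (orderOf_dvd_iff_pow_eq_one.mp hd)
  have h3 : ¬ orderOf c6 ∣ 3 := fun hd => h.2.2.2.1 (orderOf_dvd_iff_pow_eq_one.mp hd)
  have h4 : orderOf c6 ≤ 6 := Nat.le_of_dvd (by norm_num) h1
  interval_cases (orderOf c6) <;> simp_all

/-- an element of order `2 o` -/
theorem HJ_exists_double (t : ℕ) (c : Equiv.Perm (Fin 8)) (hc : c ∈ alternatingGroup (Fin 8))
    (o : ℕ) (ho : orderOf c = o) (f : M8) (hf : f ∈ E8) (h0 : Nsum c o f ≠ 0)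
    (h1 : Nsum c o f ≠ 1) : ∃ w : HJ (t + 1), orderOf w = 2 * o := by
  set g : alternatingGroup (Fin 8) := ⟨c, hc⟩ with hg
  have hgo : orderOf g = o := by rw [← ho, hg, Subgroup.orderOf_mk]
  refine ⟨⟨fun _ => QuotientAddGroup.mk (⟨f, hf⟩ : E8), g⟩, ?_⟩
  rw [← hgo]
  apply orderOf_eq_two_mul (HJ_hV2 (t + 1))
  intro h
  have h2 := congrFun h 0
  rw [sum_smul_fun] at h2
  have h3 : orderOf (⟨fun _ => QuotientAddGroup.mk (⟨f, hf⟩ : E8), g⟩ : HJ (t + 1)).g = o := hgo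
  rw [h3] at h2
  exact sum_smul_ne_zero (σ := c) (o := o) ⟨f, hf⟩ h0 h1 h2

/-- the spectrum of `Wᵗ⁺¹ ⋊ A₈` -/
theorem HJ_spectrum (t : ℕ) :
    Set.range (orderOf : HJ (t + 1) → ℕ) = Set.range (orderOf : Equiv.Perm (Fin 8) → ℕ) := by
  ext k
  rw [s8_spec]
  constructor
  · rintro ⟨w, rfl⟩
    exact HJ_orderOf_mem (t + 1) w
  · intro hk
    have hsub : ∀ m : ℕ, m ∈ [1, 2, 3, 4, 5, 6, 7, 15] → ∃ w : HJ (t + 1), orderOf w = m := by
      intro m hm
      obtain ⟨g, hg⟩ := (a8_spec m).mpr hm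
      exact ⟨AffGp.inr g, by rw [AffGp.orderOf_inr, hg]⟩
    simp only [List.mem_cons, List.not_mem_nil, or_false] at hk
    rcases hk with rfl | rfl | rfl | rfl | rfl | rfl | rfl | rfl | rfl | rfl | rfl
    · exact hsub 1 (by simp)
    · exact hsub 2 (by simp)
    · exact hsub 3 (by simp)
    · exact hsub 4 (by simp)
    · exact hsub 5 (by simp)
    · exact hsub 6 (by simp)
    · exact hsub 7 (by simp)
    · have h := c4_facts
      exact HJ_exists_double t c4 h.1 4 orderOf_c4 _ h.2.2.2.1 h.2.2.2.2.1 h.2.2.2.2.2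
    · have h := c5_facts
      exact HJ_exists_double t c5 h.1 5 orderOf_c5 _ h.2.2.2.1 h.2.2.2.2.1 h.2.2.2.2.2
    · have h := c6_facts
      exact HJ_exists_double t c6 h.1 6 orderOf_c6 _ h.2.2.2.2.1 h.2.2.2.2.2.1 h.2.2.2.2.2.2
    · exact hsub 15 (by simp)

theorem W8_nontrivial : Nontrivial W8 := by
  have h := c5_facts
  refine ⟨⟨QuotientAddGroup.mk (⟨ee 5 6, h.2.2.2.1⟩ : E8), 0, ?_⟩⟩
  rw [Ne, QuotientAddGroup.eq_zero_iff, mem_Z8]
  intro h'
  have h5 : (⟨ee 5 6, h.2.2.2.1⟩ : E8).1 = ee 5 6 := rfl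
  rw [h5] at h'
  rcases h' with h' | h'
  · have := congrFun h' 5
    simp [ee] at this
  · have := congrFun h' 0
    simp [ee] at this

theorem HJ_card_gt (N : ℕ) : N < Nat.card (HJ (N + 1)) := by
  haveI := W8_nontrivial
  have h1 : Nat.card (Fin (N + 1) → W8) ≤ Nat.card (HJ (N + 1)) := AffGp.card_ge
  have h2 : Nat.card (Fin (N + 1) → W8) = Nat.card W8 ^ (N + 1) := by
    rw [Nat.card_fun, Nat.card_eq_fintype_card (α := Fin (N + 1)), Fintype.card_fin]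
  have h3 : 2 ≤ Nat.card W8 := Finite.one_lt_card
  have h4 : 2 ^ (N + 1) ≤ Nat.card W8 ^ (N + 1) := Nat.pow_le_pow_left h3 _
  have h5 : N < 2 ^ (N + 1) :=
    lt_trans Nat.lt_two_pow_self (Nat.pow_lt_pow_right (by norm_num) (Nat.lt_succ_self N))
  omega

/-- unboundedly many groups with the element orders of the symmetric group of degree `8` -/
theorem exists_isospectral_s8 (N : ℕ) : ∃ (H : Type) (_ : Group H) (_ : Fintype H),
    N < Fintype.card H ∧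
      Set.range (orderOf : H → ℕ) = Set.range (orderOf : Equiv.Perm (Fin 8) → ℕ) := by
  classical
  letI inst : Fintype (HJ (N + 1)) := Fintype.ofFinite _
  refine ⟨HJ (N + 1), inferInstance, inst, ?_, HJ_spectrum N⟩
  rw [← Nat.card_eq_fintype_card]
  exact HJ_card_gt N

end Cfsg.Agent.Lib.Helper7.JS
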