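import Mathlib
import Cfsg.Prelude.Def_JComponents
import Cfsg.Agent.Lib.Helper9.Thompson
import Cfsg.Agent.Lib.Helper6.JC.JC1
import Cfsg.Agent.Lib.Helper6.SylowIdx
import Cfsg.Agent.Lib.Helper2.ThompsonOf

set_option autoImplicit false

namespace Cfsg.Agent.Lib.Helper7.JT

open Cfsg Cfsg.Agent.Lib.Helper9 Cfsg.Agent.Lib.Helper6 Cfsg.Agent.Lib.Helper6.JC

variable {G : Type*} [Group G] [Finite G]

omit [Finite G] in
theorem isEA_bot : IsElementaryAbelian 2 (⊥ : Subgroup G) := by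
  rw [isElementaryAbelian_iff_forall]
  constructor
  · intro a ha b hb
    rw [Subgroup.mem_bot] at ha hb; subst ha; subst hb; rfl
  · intro a ha
    rw [Subgroup.mem_bot] at ha; subst ha; simp

theorem maxEA_nonempty (T : Subgroup G) : (maxEA 2 T).Nonempty := by
  classical
  have hfin : (Set.univ : Set (Subgroup G)).Finite := Set.finite_univ
  let s : Set (Subgroup G) := {B | B ≤ T ∧ IsElementaryAbelian 2 B}
  have hs : s.Finite := hfin.subset (Set.subset_univ _)
  have hne : s.Nonempty := ⟨⊥, bot_le, isEA_bot⟩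
  obtain ⟨A, hA, hmax⟩ := Set.exists_max_image s (fun B => Nat.card B) hs hne
  exact ⟨A, hA.1, hA.2, fun B hB hBe => hmax B ⟨hB, hBe⟩⟩

omit [Finite G] in
theorem maxEA_card_eq {T A B : Subgroup G} (hA : A ∈ maxEA 2 T) (hB : B ∈ maxEA 2 T) :
    Nat.card A = Nat.card B :=
  le_antisymm (hB.2.2 A hA.1 hA.2.1) (hA.2.2 B hB.1 hB.2.1)

omit [Finite G] in
theorem maxElemAbelianOrder_eq {T A : Subgroup G} (hA : A ∈ maxEA 2 T) :
    maxElemAbelianOrder T = Nat.card A := by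
  unfold maxElemAbelianOrder
  have hset : (fun B : Subgroup ↥T => Nat.card ↥B) '' maxElementaryAbelianSubgroups 2 ↥T
      = {Nat.card A} := by
    ext n
    constructor
    · rintro ⟨B, hB, rfl⟩
      rw [Set.mem_singleton_iff]
      have hB' : B.map T.subtype ∈ maxEA 2 T := by
        refine ⟨Subgroup.map_subtype_le B, isElementaryAbelian_map hB.1 _, ?_⟩
        intro C hCT hCe
        rw [card_map_subtype, ← card_subgroupOf_of_le hCT]
        exact hB.2 _ (isElementaryAbelian_subgroupOf hCe T)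
      have := maxEA_card_eq hB' hA
      rw [card_map_subtype] at this
      exact this
    · intro hn
      rw [Set.mem_singleton_iff] at hn
      subst hn
      refine ⟨A.subgroupOf T, ⟨isElementaryAbelian_subgroupOf hA.2.1 T, ?_⟩,
        card_subgroupOf_of_le hA.1⟩
      intro B' hB'
      rw [card_subgroupOf_of_le hA.1, ← card_map_subtype]
      exact hA.2.2 _ (Subgroup.map_subtype_le B') (isElementaryAbelian_map hB' _)
  rw [hset, csSup_singleton]

theorem maxElemAbelianOrder_mono {T T₁ : Subgroup G} (h : T ≤ T₁) :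
    maxElemAbelianOrder T ≤ maxElemAbelianOrder T₁ := by
  obtain ⟨A, hA⟩ := maxEA_nonempty T
  obtain ⟨A₁, hA₁⟩ := maxEA_nonempty T₁
  rw [maxElemAbelianOrder_eq hA, maxElemAbelianOrder_eq hA₁]
  exact hA₁.2.2 A (hA.1.trans h) hA.2.1

theorem maxElemAbelianOrder_le_of_thompson_le {T T₁ : Subgroup G}
    (h : thompsonSubgroupOf 2 T ≤ T₁) : maxElemAbelianOrder T ≤ maxElemAbelianOrder T₁ := by
  obtain ⟨A, hA⟩ := maxEA_nonempty T
  obtain ⟨A₁, hA₁⟩ := maxEA_nonempty T₁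
  rw [maxElemAbelianOrder_eq hA, maxElemAbelianOrder_eq hA₁]
  exact hA₁.2.2 A ((le_thompson_of_mem_maxEA hA).trans h) hA.2.1

theorem maxEA_subset {T T₁ : Subgroup G} (h : thompsonSubgroupOf 2 T ≤ T₁)
    (ha : maxElemAbelianOrder T₁ ≤ maxElemAbelianOrder T) : maxEA 2 T ⊆ maxEA 2 T₁ := by
  intro A hA
  obtain ⟨A₁, hA₁⟩ := maxEA_nonempty T₁
  refine ⟨(le_thompson_of_mem_maxEA hA).trans h, hA.2.1, fun B hB hBe => ?_⟩
  calc Nat.card B ≤ Nat.card A₁ := hA₁.2.2 B hB hBe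
    _ = maxElemAbelianOrder T₁ := (maxElemAbelianOrder_eq hA₁).symm
    _ ≤ maxElemAbelianOrder T := ha
    _ = Nat.card A := maxElemAbelianOrder_eq hA

theorem thompson_le_thompson {T T₁ : Subgroup G} (h : thompsonSubgroupOf 2 T ≤ T₁)
    (ha : maxElemAbelianOrder T₁ ≤ maxElemAbelianOrder T) :
    thompsonSubgroupOf 2 T ≤ thompsonSubgroupOf 2 T₁ := by
  rw [thompsonSubgroupOf_eq, thompsonSubgroupOf_eq]
  exact sSup_le_sSup (maxEA_subset h ha)

theorem maxEA_eq_of_between {T R : Subgroup G} (h1 : thompsonSubgroupOf 2 T ≤ R) (h2 : R ≤ T) :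
    maxEA 2 R = maxEA 2 T := by
  apply Set.Subset.antisymm
  · intro A hA
    obtain ⟨A', hA'⟩ := maxEA_nonempty T
    have hA'R : A' ∈ maxEA 2 R := maxEA_subset h1 (maxElemAbelianOrder_mono h2) hA'
    refine ⟨hA.1.trans h2, hA.2.1, fun B hB hBe => ?_⟩
    rw [maxEA_card_eq hA hA'R]
    exact hA'.2.2 B hB hBe
  · exact maxEA_subset h1 (maxElemAbelianOrder_mono h2)

theorem thompson_eq_of_between {T R : Subgroup G} (h1 : thompsonSubgroupOf 2 T ≤ R) (h2 : R ≤ T) :
    thompsonSubgroupOf 2 R = thompsonSubgroupOf 2 T := by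
  rw [thompsonSubgroupOf_eq, thompsonSubgroupOf_eq, maxEA_eq_of_between h1 h2]

/-- key consequence of the lexicographic maximality -/
theorem max_key {M T T₁ : Subgroup G} (hT : T ∈ maxStraddlingTwoSubgroups M)
    (hT₁ : T₁ ∈ straddlingTwoSubgroups M) (hJ : thompsonSubgroupOf 2 T ≤ T₁) :
    maxElemAbelianOrder T₁ = maxElemAbelianOrder T ∧
      thompsonSubgroupOf 2 T₁ = thompsonSubgroupOf 2 T ∧ Nat.card T₁ ≤ Nat.card T := by
  obtain ⟨h1, h2⟩ := hT.2 T₁ hT₁
  have ha : maxElemAbelianOrder T₁ = maxElemAbelianOrder T :=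
    le_antisymm h1 (maxElemAbelianOrder_le_of_thompson_le hJ)
  obtain ⟨h3, h4⟩ := h2 ha
  have hle : thompsonSubgroupOf 2 T ≤ thompsonSubgroupOf 2 T₁ := thompson_le_thompson hJ ha.le
  have heq : thompsonSubgroupOf 2 T = thompsonSubgroupOf 2 T₁ :=
    Subgroup.eq_of_le_of_card_ge hle h3
  exact ⟨ha, heq.symm, h4 (by rw [heq])⟩

theorem max_eq {M T T₁ : Subgroup G} (hT : T ∈ maxStraddlingTwoSubgroups M)
    (hT₁ : T₁ ∈ straddlingTwoSubgroups M) (hle : T ≤ T₁) : T₁ = T := by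
  have h := max_key hT hT₁ ((thompsonSubgroupOf_le 2 T).trans hle)
  exact (Subgroup.eq_of_le_of_card_ge hle h.2.2).symm

end Cfsg.Agent.Lib.Helper7.JT
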