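import Mathlib
import Cfsg.Agent.Lib.Helper2.Basic

set_option autoImplicit false

namespace Cfsg.Agent.Lib.Helper7.JT

variable {G : Type*} [Group G]

/-- two non-identity elements of a subgroup of order at most 2 coincide -/
theorem eq_of_card_le_two [Finite G] {Z : Subgroup G} (hZ : Nat.card Z ≤ 2) {z w : G}
    (hz : z ∈ Z) (hw : w ∈ Z) (hz1 : z ≠ 1) (hw1 : w ≠ 1) : z = w := by
  by_contra hne
  have h3 : 3 ≤ Nat.card Z := by
    let f : Fin 3 → Z := ![1, ⟨z, hz⟩, ⟨w, hw⟩]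
    have hf : Function.Injective f := by
      intro i j hij
      fin_cases i <;> fin_cases j <;> simp [f, Subtype.ext_iff] at hij ⊢
      · exact hz1 hij.symm
      · exact hw1 hij.symm
      · exact hz1 hij
      · exact hne hij
      · exact hw1 hij
      · exact hne hij.symm
    have := Nat.card_le_card_of_injective f hf
    simpa using this
  omega

/-- an `E`-invariant subgroup of index 2 -/
theorem exists_hyperplane [Finite G] {E Y : Subgroup G} (hE : IsPGroup 2 E) (hY : IsPGroup 2 Y)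
    (hEY : E ≤ Subgroup.normalizer (Y : Set G)) (hYE : ¬ Y ≤ E) :
    ∃ Y₁ : Subgroup G, Y₁ ≤ Y ∧ 2 * Nat.card Y₁ = Nat.card Y ∧
      E ≤ Subgroup.normalizer (Y₁ : Set G) := by
  haveI : Fact (Nat.Prime 2) := ⟨Nat.prime_two⟩
  set P := Y ⊔ E with hP
  have hP2 : IsPGroup 2 P := IsPGroup.to_sup_of_normal_left' hY hE hEY
  have hEP : E ≤ P := le_sup_right
  have hYP : Y ≤ P := le_sup_left
  obtain ⟨j, hj⟩ := hP2.exists_card_eq
  obtain ⟨i, hi⟩ := hE.exists_card_eq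
  have hEneP : E ≠ P := fun h => hYE (h ▸ hYP)
  have hij : i < j := by
    have hlt : Nat.card E < Nat.card P := by
      rcases lt_or_eq_of_le (Subgroup.card_le_of_le hEP) with h | h
      · exact h
      · exact absurd (Subgroup.eq_of_le_of_card_ge hEP h.ge) hEneP
    rw [hi, hj] at hlt
    exact (Nat.pow_lt_pow_iff_right (by norm_num)).mp hlt
  have hcardH : Nat.card (E.subgroupOf P) = 2 ^ i := by
    rw [← hi]
    exact Nat.card_congr (Subgroup.subgroupOfEquivOfLe hEP).toEquiv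
  have hdvd : 2 ^ (j - 1) ∣ Nat.card ↥P := by
    rw [hj]; exact pow_dvd_pow 2 (Nat.sub_le j 1)
  obtain ⟨K', hK'card, hK'⟩ :=
    Sylow.exists_subgroup_card_pow_prime_le 2 hdvd (E.subgroupOf P) hcardH (by omega)
  have hidx : K'.index = 2 := by
    have h1 := Subgroup.card_mul_index K'
    rw [hK'card, hj] at h1
    have h2 : (2 : ℕ) ^ j = 2 ^ (j - 1) * 2 := by
      rw [← pow_succ]; congr 1; omega
    rw [h2] at h1
    exact Nat.eq_of_mul_eq_mul_left (by positivity) h1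
  haveI hK'n : K'.Normal := Subgroup.normal_of_index_eq_two hidx
  set M₁ := K'.map P.subtype with hM₁
  have hM₁card : Nat.card M₁ = 2 ^ (j - 1) := by
    rw [hM₁, Subgroup.card_map_of_injective P.subtype_injective, hK'card]
  have hM₁P : M₁ ≤ P := Subgroup.map_subtype_le _
  have hEM₁ : E ≤ M₁ := by
    intro e he
    exact ⟨⟨e, hEP he⟩, hK' (Subgroup.mem_subgroupOf.mpr he), rfl⟩
  have hPn : P ≤ Subgroup.normalizer (M₁ : Set G) := by
    intro p hp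
    rw [Subgroup.mem_normalizer_iff]
    intro m
    constructor
    · rintro ⟨m', hm', rfl⟩
      exact ⟨⟨p, hp⟩ * m' * ⟨p, hp⟩⁻¹, hK'n.conj_mem m' hm' _, rfl⟩
    · rintro ⟨m', hm', hmm⟩
      refine ⟨⟨p, hp⟩⁻¹ * m' * ⟨p, hp⟩, ?_, ?_⟩
      · have := hK'n.conj_mem m' hm' ⟨p, hp⟩⁻¹
        simpa using this
      · simp only [Subgroup.subtype_apply, Subgroup.coe_mul, Subgroup.coe_inv]
        have : (m' : G) = p * m * p⁻¹ := hmm
        rw [this]; group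
  refine ⟨Y ⊓ M₁, inf_le_left, ?_, ?_⟩
  · have h1 := Cfsg.Agent.Lib.Helper2.card_sup_mul_card_inf Y M₁ (hYP.trans hPn)
    have h2 : Y ⊔ M₁ = P := le_antisymm (sup_le hYP hM₁P) (sup_le le_sup_left (hEM₁.trans le_sup_right))
    rw [h2, hj, hM₁card] at h1
    have h3 : (2 : ℕ) ^ j = 2 ^ (j - 1) * 2 := by
      rw [← pow_succ]; congr 1; omega
    rw [h3] at h1
    have h4 : 2 ^ (j - 1) * (2 * Nat.card ↥(Y ⊓ M₁)) = 2 ^ (j - 1) * Nat.card Y := by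
      rw [← mul_assoc, h1, mul_comm]
    exact Nat.eq_of_mul_eq_mul_left (by positivity) h4
  · intro e he
    have h1 := Subgroup.mem_normalizer_iff.mp (hEY he)
    have h2 := Subgroup.mem_normalizer_iff.mp (hPn (hEP he))
    rw [Subgroup.mem_normalizer_iff]
    intro y
    rw [Subgroup.mem_inf, Subgroup.mem_inf, ← h1 y, ← h2 y]

theorem card_mul_relIndex' {H K : Subgroup G} (h : H ≤ K) :
    Nat.card H * H.relIndex K = Nat.card K := by
  have := Subgroup.card_mul_index (H.subgroupOf K)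
  rwa [Nat.card_congr (Subgroup.subgroupOfEquivOfLe h).toEquiv] at this

/-- `C_E(Y₁)/C_E(Y)` embeds into `C_{Y₁}(E)` for an invariant hyperplane `Y₁` of `Y` -/
theorem card_centralizer_le [Finite G] {E Y Y₁ : Subgroup G}
    (hEc : ∀ x ∈ E, ∀ y ∈ E, x * y = y * x) (hYc : ∀ x ∈ Y, ∀ y ∈ Y, x * y = y * x)
    (hY₁Y : Y₁ ≤ Y) (hidx : 2 * Nat.card Y₁ = Nat.card Y)
    (hEY : E ≤ Subgroup.normalizer (Y : Set G)) (hEY₁ : E ≤ Subgroup.normalizer (Y₁ : Set G))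
    (hfix : Nat.card ↥(Y₁ ⊓ Subgroup.centralizer (E : Set G)) ≤ 2) :
    Nat.card ↥(E ⊓ Subgroup.centralizer (Y₁ : Set G)) ≤
      2 * Nat.card ↥(E ⊓ Subgroup.centralizer (Y : Set G)) := by
  have hrel : Y₁.relIndex Y = 2 := by
    have h1 := card_mul_relIndex' hY₁Y
    rw [← hidx, mul_comm 2] at h1
    exact Nat.eq_of_mul_eq_mul_left Nat.card_pos h1
  obtain ⟨a₀, ha₀Y, hxor⟩ := Subgroup.relIndex_eq_two_iff.mp hrel
  have ha₀ : a₀ ∉ Y₁ := by
    have := hxor 1 Y.one_mem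
    rw [one_mul] at this
    rcases this with ⟨_, h2⟩ | ⟨_, h2⟩
    · exact absurd Y₁.one_mem h2
    · exact h2
  have hout : ∀ b ∈ Y, b ∉ Y₁ → b * a₀ ∈ Y₁ := by
    intro b hb hb1
    rcases hxor b hb with ⟨h1, _⟩ | ⟨h1, _⟩
    · exact h1
    · exact absurd h1 hb1
  have hout' : ∀ b ∈ Y, b ∉ Y₁ → b * a₀⁻¹ ∈ Y₁ := by
    intro b hb hb1
    have h1 := hout b hb hb1
    have h2 := hout a₀ ha₀Y ha₀
    have e : b * a₀⁻¹ = (b * a₀) * (a₀ * a₀)⁻¹ := by group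
    rw [e]; exact Y₁.mul_mem h1 (Y₁.inv_mem h2)
  set F := E ⊓ Subgroup.centralizer (Y₁ : Set G) with hF
  set H := E ⊓ Subgroup.centralizer (Y : Set G) with hH
  set Z := Y₁ ⊓ Subgroup.centralizer (E : Set G) with hZ
  have hHF : H ≤ F := by
    intro e he
    obtain ⟨heE, heC⟩ := Subgroup.mem_inf.mp he
    refine Subgroup.mem_inf.mpr ⟨heE, ?_⟩
    rw [Subgroup.mem_centralizer_iff] at heC ⊢
    intro y hy
    exact heC y (hY₁Y hy)
  -- the cocycle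
  have hcY₁ : ∀ e ∈ F, e * a₀ * e⁻¹ * a₀⁻¹ ∈ Y₁ := by
    intro e he
    have h1 : e * a₀ * e⁻¹ ∈ Y := (Subgroup.mem_normalizer_iff.mp (hEY he.1) a₀).mp ha₀Y
    have h2 : e * a₀ * e⁻¹ ∉ Y₁ := fun h =>
      ha₀ ((Subgroup.mem_normalizer_iff.mp (hEY₁ he.1) a₀).mpr h)
    exact hout' _ h1 h2
  have hcZ : ∀ e ∈ F, e * a₀ * e⁻¹ * a₀⁻¹ ∈ Z := by
    intro e he
    refine Subgroup.mem_inf.mpr ⟨hcY₁ e he, ?_⟩
    rw [Subgroup.mem_centralizer_iff]
    intro f hf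
    -- f a₀ f⁻¹ = a₀ y₁ with y₁ ∈ Y₁ or f a₀ f⁻¹ ∈ ... use: f a₀ f⁻¹ a₀⁻¹ ∈ Y₁ whenever f ∈ E
    have hfa : f * a₀ * f⁻¹ ∈ Y := (Subgroup.mem_normalizer_iff.mp (hEY hf) a₀).mp ha₀Y
    have hfa' : f * a₀ * f⁻¹ ∉ Y₁ := fun h =>
      ha₀ ((Subgroup.mem_normalizer_iff.mp (hEY₁ hf) a₀).mpr h)
    have hy₁ : f * a₀ * f⁻¹ * a₀⁻¹ ∈ Y₁ := hout' _ hfa hfa'
    set y₁ := f * a₀ * f⁻¹ * a₀⁻¹ with hy₁def
    have hfa₀ : f * a₀ * f⁻¹ = y₁ * a₀ := by rw [hy₁def]; group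
    have hef : e * f = f * e := hEc e he.1 f hf
    have hey₁ : e * y₁ = y₁ * e := ((Subgroup.mem_centralizer_iff.mp he.2) y₁ hy₁).symm
    have hy₁a : y₁ * a₀ = a₀ * y₁ := hYc _ (hY₁Y hy₁) _ ha₀Y
    have hy₁ea : y₁ * (e * a₀ * e⁻¹) = (e * a₀ * e⁻¹) * y₁ :=
      hYc _ (hY₁Y hy₁) _ ((Subgroup.mem_normalizer_iff.mp (hEY he.1) a₀).mp ha₀Y)
    -- f c f⁻¹ = c
    have key : f * (e * a₀ * e⁻¹ * a₀⁻¹) * f⁻¹ = e * a₀ * e⁻¹ * a₀⁻¹ := by
      calc f * (e * a₀ * e⁻¹ * a₀⁻¹) * f⁻¹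
          = (f * e) * a₀ * (f * e)⁻¹ * (f * a₀ * f⁻¹)⁻¹ := by group
        _ = (e * f) * a₀ * (e * f)⁻¹ * (f * a₀ * f⁻¹)⁻¹ := by rw [hef]
        _ = e * (f * a₀ * f⁻¹) * e⁻¹ * (f * a₀ * f⁻¹)⁻¹ := by group
        _ = e * (y₁ * a₀) * e⁻¹ * (y₁ * a₀)⁻¹ := by rw [hfa₀]
        _ = (e * y₁) * a₀ * e⁻¹ * a₀⁻¹ * y₁⁻¹ := by group
        _ = (y₁ * e) * a₀ * e⁻¹ * a₀⁻¹ * y₁⁻¹ := by rw [hey₁]
        _ = (y₁ * (e * a₀ * e⁻¹)) * a₀⁻¹ * y₁⁻¹ := by group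
        _ = ((e * a₀ * e⁻¹) * y₁) * a₀⁻¹ * y₁⁻¹ := by rw [hy₁ea]
        _ = (e * a₀ * e⁻¹) * (y₁ * a₀⁻¹ * y₁⁻¹) := by group
        _ = (e * a₀ * e⁻¹) * a₀⁻¹ := by
          have : y₁ * a₀⁻¹ * y₁⁻¹ = a₀⁻¹ := by
            have h := hy₁a
            calc y₁ * a₀⁻¹ * y₁⁻¹ = a₀⁻¹ * (a₀ * y₁) * a₀⁻¹ * y₁⁻¹ := by group
              _ = a₀⁻¹ * (y₁ * a₀) * a₀⁻¹ * y₁⁻¹ := by rw [h]
              _ = a₀⁻¹ := by group
          rw [this]
    calc f * (e * a₀ * e⁻¹ * a₀⁻¹) = (f * (e * a₀ * e⁻¹ * a₀⁻¹) * f⁻¹) * f := by group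
      _ = (e * a₀ * e⁻¹ * a₀⁻¹) * f := by rw [key]
  have hc1 : ∀ e ∈ F, e * a₀ * e⁻¹ * a₀⁻¹ = 1 → e ∈ H := by
    intro e he h1
    refine Subgroup.mem_inf.mpr ⟨he.1, ?_⟩
    have hea : e * a₀ = a₀ * e := by
      calc e * a₀ = (e * a₀ * e⁻¹ * a₀⁻¹) * a₀ * e := by group
        _ = a₀ * e := by rw [h1, one_mul]
    rw [Subgroup.mem_centralizer_iff]
    intro y hy
    by_cases hy1 : y ∈ Y₁
    · exact (Subgroup.mem_centralizer_iff.mp he.2) y hy1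
    · have h2 := hout y hy hy1
      have h3 : (y * a₀) * e = e * (y * a₀) := (Subgroup.mem_centralizer_iff.mp he.2) _ h2
      calc y * e = (y * a₀) * (a₀⁻¹ * e) := by group
        _ = (y * a₀) * (e * a₀⁻¹) := by
          have : a₀⁻¹ * e = e * a₀⁻¹ := by
            calc a₀⁻¹ * e = a₀⁻¹ * (e * a₀) * a₀⁻¹ := by group
              _ = a₀⁻¹ * (a₀ * e) * a₀⁻¹ := by rw [hea]
              _ = e * a₀⁻¹ := by group
          rw [this]
        _ = ((y * a₀) * e) * a₀⁻¹ := by group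
        _ = (e * (y * a₀)) * a₀⁻¹ := by rw [h3]
        _ = e * y := by group
  by_cases hall : F ≤ H
  · calc Nat.card F ≤ Nat.card H := Subgroup.card_le_of_le hall
      _ ≤ 2 * Nat.card H := by omega
  · obtain ⟨e₀, he₀F, he₀H⟩ := SetLike.not_le_iff_exists.mp hall
    have hrel2 : H.relIndex F = 2 := by
      rw [Subgroup.relIndex_eq_two_iff]
      refine ⟨e₀⁻¹, F.inv_mem he₀F, fun b hb => ?_⟩
      by_cases hbH : b ∈ H
      · refine Or.inr ⟨hbH, fun h => he₀H ?_⟩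
        have := H.mul_mem (H.inv_mem h) hbH
        have e : (b * e₀⁻¹)⁻¹ * b = e₀ := by group
        rwa [e] at this
      · refine Or.inl ⟨?_, hbH⟩
        -- c(b) = c(e₀) hence b e₀⁻¹ ∈ H
        have hcb : b * a₀ * b⁻¹ * a₀⁻¹ ≠ 1 := fun h => hbH (hc1 b hb h)
        have hce : e₀ * a₀ * e₀⁻¹ * a₀⁻¹ ≠ 1 := fun h => he₀H (hc1 e₀ he₀F h)
        have heq := eq_of_card_le_two hfix (hcZ b hb) (hcZ e₀ he₀F) hcb hce
        have hbe : b * e₀⁻¹ ∈ F := F.mul_mem hb (F.inv_mem he₀F)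
        apply hc1 _ hbe
        have hcomm : b * e₀⁻¹ = e₀⁻¹ * b := hEc b hb.1 _ (E.inv_mem he₀F.1)
        -- c(e₀⁻¹ b) = 1
        have hfix' := (Subgroup.mem_centralizer_iff.mp (hcZ b hb).2) e₀⁻¹ (E.inv_mem he₀F.1)
        calc (b * e₀⁻¹) * a₀ * (b * e₀⁻¹)⁻¹ * a₀⁻¹
            = (e₀⁻¹ * b) * a₀ * (e₀⁻¹ * b)⁻¹ * a₀⁻¹ := by rw [hcomm]
          _ = e₀⁻¹ * ((b * a₀ * b⁻¹ * a₀⁻¹) * a₀) * e₀ * a₀⁻¹ := by group
          _ = e₀⁻¹ * ((e₀ * a₀ * e₀⁻¹ * a₀⁻¹) * a₀) * e₀ * a₀⁻¹ := by rw [heq]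
          _ = 1 := by group
    have := card_mul_relIndex' hHF
    rw [hrel2] at this
    omega

/-- **Lemma E**: an abelian 2-group `E` acting on an abelian 2-group `Y ≠ 1` with at most two fixed
points satisfies `|E : C_E(Y)| ≤ |Y| / 2`. -/
theorem lemmaE [Finite G] {E : Subgroup G} (hEc : ∀ x ∈ E, ∀ y ∈ E, x * y = y * x)
    (hE : IsPGroup 2 E) :
    ∀ (n : ℕ) (Y : Subgroup G), Nat.card Y = n → Y ≠ ⊥ → (∀ x ∈ Y, ∀ y ∈ Y, x * y = y * x) →
      IsPGroup 2 Y → E ≤ Subgroup.normalizer (Y : Set G) →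
      Nat.card ↥(Y ⊓ Subgroup.centralizer (E : Set G)) ≤ 2 →
      2 * Nat.card E ≤ Nat.card Y * Nat.card ↥(E ⊓ Subgroup.centralizer (Y : Set G)) := by
  intro n
  induction n using Nat.strong_induction_on with
  | _ n ih =>
    intro Y hn hY1 hYc hY2 hEY hfix
    have hYcard : 2 ≤ Nat.card Y := by
      have h1 : 1 < Nat.card Y := (Subgroup.one_lt_card_iff_ne_bot Y).mpr hY1
      omega
    by_cases hcent : E ≤ Subgroup.centralizer (Y : Set G)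
    · rw [inf_eq_left.mpr hcent]
      exact Nat.mul_le_mul_right _ hYcard
    · have hYE : ¬ Y ≤ E := by
        intro hle
        apply hcent
        intro e he
        rw [Subgroup.mem_centralizer_iff]
        intro y hy
        exact hEc y (hle hy) e he
      obtain ⟨Y₁, hY₁Y, hidx, hEY₁⟩ := exists_hyperplane hE hY2 hEY hYE
      have hY₁1 : Y₁ ≠ ⊥ := by
        intro hbot
        rw [hbot, Subgroup.card_bot] at hidx
        apply hcent
        intro e he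
        rw [Subgroup.mem_centralizer_iff]
        intro y hy
        by_cases hy1 : y = 1
        · rw [hy1, one_mul, mul_one]
        · have h1 : e * y * e⁻¹ ∈ Y := (Subgroup.mem_normalizer_iff.mp (hEY he) y).mp hy
          have h2 : e * y * e⁻¹ ≠ 1 := by
            intro h
            apply hy1
            calc y = e⁻¹ * (e * y * e⁻¹) * e := by group
              _ = 1 := by rw [h]; group
          have h3 := eq_of_card_le_two (by omega : Nat.card Y ≤ 2) h1 hy h2 hy1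
          calc y * e = (e * y * e⁻¹) * e := by rw [h3]
            _ = e * y := by group
      have hlt : Nat.card Y₁ < n := by omega
      have hfix₁ : Nat.card ↥(Y₁ ⊓ Subgroup.centralizer (E : Set G)) ≤ 2 :=
        (Subgroup.card_le_of_le (inf_le_inf_right _ hY₁Y)).trans hfix
      have h1 := ih _ hlt Y₁ rfl hY₁1 (fun x hx y hy => hYc x (hY₁Y hx) y (hY₁Y hy))
        (hY2.to_le hY₁Y) hEY₁ hfix₁
      have h2 := card_centralizer_le hEc hYc hY₁Y hidx hEY hEY₁ hfix₁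
      calc 2 * Nat.card E ≤ Nat.card Y₁ * Nat.card ↥(E ⊓ Subgroup.centralizer (Y₁ : Set G)) := h1
        _ ≤ Nat.card Y₁ * (2 * Nat.card ↥(E ⊓ Subgroup.centralizer (Y : Set G))) :=
          Nat.mul_le_mul_left _ h2
        _ = Nat.card Y * Nat.card ↥(E ⊓ Subgroup.centralizer (Y : Set G)) := by
          rw [← hidx]; ring

end Cfsg.Agent.Lib.Helper7.JT
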