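import Mathlib
import Cfsg.Agent.Lib.Lead.KS93d
import Cfsg.Agent.Lib.Helper2.Basic

set_option autoImplicit false

namespace Cfsg.Agent.Lib.Helper7.JT

open Cfsg.Agent.Lib.Lead.KS93

variable {G : Type*} [Group G]

/-- `C_X(g)` -/
def fixOf (X : Subgroup G) (g : G) : Subgroup G :=
  X ⊓ Subgroup.centralizer ((Subgroup.zpowers g : Subgroup G) : Set G)

theorem mem_fixOf {X : Subgroup G} {g x : G} : x ∈ fixOf X g ↔ x ∈ X ∧ g * x * g⁻¹ = x := by
  unfold fixOf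
  rw [Subgroup.mem_inf, mem_centralizer_zpowers_iff]
  constructor
  · rintro ⟨h1, h2⟩
    exact ⟨h1, by rw [← h2]; group⟩
  · rintro ⟨h1, h2⟩
    refine ⟨h1, ?_⟩
    calc x * g = (g * x * g⁻¹) * g := by rw [h2]
      _ = g * x := by group

theorem fixOf_le (X : Subgroup G) (g : G) : fixOf X g ≤ X := inf_le_left

/-- an elementary abelian 2-group `X` acted on by `⟨a, k⟩ ≅ S₃` with `C_X(k) = 1` -/
structure S3Act (X : Subgroup G) (a k : G) : Prop where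
  comm : ∀ x ∈ X, ∀ y ∈ X, x * y = y * x
  sq : ∀ x ∈ X, x * x = 1
  ha2 : a * a = 1
  hk3 : k * k * k = 1
  hak : a * k * a⁻¹ = k⁻¹
  haX : ∀ x ∈ X, a * x * a⁻¹ ∈ X
  hkX : ∀ x ∈ X, k * x * k⁻¹ ∈ X
  hfix : ∀ x ∈ X, k * x * k⁻¹ = x → x = 1

variable {X : Subgroup G} {a k : G}

theorem S3Act.a_inv (h : S3Act X a k) : a⁻¹ = a := inv_eq_of_mul_eq_one_left h.ha2

theorem S3Act.inv_eq (h : S3Act X a k) {x : G} (hx : x ∈ X) : x⁻¹ = x :=
  inv_eq_of_mul_eq_one_left (h.sq x hx)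

theorem S3Act.a_mem_normalizer (h : S3Act X a k) : a ∈ Subgroup.normalizer (X : Set G) := by
  rw [Subgroup.mem_normalizer_iff]
  intro x
  constructor
  · exact h.haX x
  · intro hx
    have := h.haX _ hx
    rw [h.a_inv] at this
    have e : a * (a * x * a) * a = (a * a) * x * (a * a) := by group
    rw [e, h.ha2, one_mul, mul_one] at this
    exact this

theorem S3Act.inf_conj_eq_bot (h : S3Act X a k) {x y : G} (hx : x ∈ fixOf X a)
    (hy : y ∈ fixOf X a) (hxy : x = k * y * k⁻¹) : x = 1 := by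
  obtain ⟨hxX, hxa⟩ := mem_fixOf.mp hx
  obtain ⟨hyX, hya⟩ := mem_fixOf.mp hy
  apply h.hfix x hxX
  -- `k = a * (k a k⁻¹)` and both factors fix `x`
  have hkk : k⁻¹ * k⁻¹ = k := by
    calc k⁻¹ * k⁻¹ = k⁻¹ * k⁻¹ * (k * k * k) := by rw [h.hk3, mul_one]
      _ = k := by group
  have hk : a * (k * a * k⁻¹) = k := by
    calc a * (k * a * k⁻¹) = (a * k * a⁻¹) * (a * a) * k⁻¹ := by group
      _ = k := by rw [h.hak, h.ha2, mul_one, hkk]
  have hx2 : (k * a * k⁻¹) * x * (k * a * k⁻¹)⁻¹ = x := by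
    rw [hxy]
    calc (k * a * k⁻¹) * (k * y * k⁻¹) * (k * a * k⁻¹)⁻¹ = k * (a * y * a⁻¹) * k⁻¹ := by group
      _ = k * y * k⁻¹ := by rw [hya]
  calc k * x * k⁻¹ = (a * (k * a * k⁻¹)) * x * (a * (k * a * k⁻¹))⁻¹ := by rw [hk]
    _ = a * ((k * a * k⁻¹) * x * (k * a * k⁻¹)⁻¹) * a⁻¹ := by group
    _ = x := by rw [hx2, hxa]

/-- the map `(y₁, y₂) ↦ y₁ * k y₂ k⁻¹` -/
def S3Act.decompMap (h : S3Act X a k) : ↥(fixOf X a) × ↥(fixOf X a) → ↥X := fun p =>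
  ⟨(p.1 : G) * (k * (p.2 : G) * k⁻¹),
    X.mul_mem (fixOf_le X a p.1.2) (h.hkX _ (fixOf_le X a p.2.2))⟩

theorem S3Act.decompMap_injective (h : S3Act X a k) : Function.Injective h.decompMap := by
  rintro ⟨y₁, y₂⟩ ⟨z₁, z₂⟩ hf
  have hf' : (y₁ : G) * (k * (y₂ : G) * k⁻¹) = (z₁ : G) * (k * (z₂ : G) * k⁻¹) :=
    congrArg Subtype.val hf
  have hu : (z₁ : G)⁻¹ * y₁ ∈ fixOf X a := (fixOf X a).mul_mem ((fixOf X a).inv_mem z₁.2) y₁.2
  have hw : (z₂ : G) * (y₂ : G)⁻¹ ∈ fixOf X a := (fixOf X a).mul_mem z₂.2 ((fixOf X a).inv_mem y₂.2)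
  have huw : (z₁ : G)⁻¹ * y₁ = k * ((z₂ : G) * (y₂ : G)⁻¹) * k⁻¹ := by
    calc (z₁ : G)⁻¹ * y₁ = (z₁ : G)⁻¹ * ((y₁ : G) * (k * (y₂ : G) * k⁻¹)) * (k * (y₂ : G) * k⁻¹)⁻¹ := by
          group
      _ = (z₁ : G)⁻¹ * ((z₁ : G) * (k * (z₂ : G) * k⁻¹)) * (k * (y₂ : G) * k⁻¹)⁻¹ := by rw [hf']
      _ = k * ((z₂ : G) * (y₂ : G)⁻¹) * k⁻¹ := by group
  have hu1 : (z₁ : G)⁻¹ * y₁ = 1 := h.inf_conj_eq_bot hu hw huw
  have hw1 : (z₂ : G) * (y₂ : G)⁻¹ = 1 := by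
    rw [hu1] at huw
    have : k⁻¹ * 1 * k = (z₂ : G) * (y₂ : G)⁻¹ := by rw [huw]; group
    rw [← this]; group
  have e1 : (y₁ : G) = z₁ := by
    have := inv_mul_eq_one.mp hu1
    exact this.symm
  have e2 : (y₂ : G) = z₂ := by
    have := mul_inv_eq_one.mp hw1
    exact this.symm
  exact Prod.ext (Subtype.ext e1) (Subtype.ext e2)

theorem S3Act.sq_le [Finite G] (h : S3Act X a k) :
    Nat.card (fixOf X a) * Nat.card (fixOf X a) ≤ Nat.card X := by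
  rw [← Nat.card_prod]
  exact Nat.card_le_card_of_injective h.decompMap h.decompMap_injective

theorem S3Act.commutator_le_fixOf (h : S3Act X a k) :
    ⁅X, Subgroup.zpowers a⁆ ≤ fixOf X a := by
  rw [Subgroup.commutator_le]
  intro x hx g hg
  have hg' : g = 1 ∨ g = a := by
    obtain ⟨i, rfl⟩ := Subgroup.mem_zpowers_iff.mp hg
    rcases Int.even_or_odd' i with ⟨j, hj | hj⟩
    · left
      rw [hj, zpow_mul, zpow_two, h.ha2, one_zpow]
    · right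
      rw [hj, zpow_add, zpow_mul, zpow_two, h.ha2, one_zpow, one_mul, zpow_one]
  rcases hg' with rfl | rfl
  · rw [commutatorElement_one_right]; exact Subgroup.one_mem _
  · rw [mem_fixOf, commutatorElement_def]
    have hxa : g * x * g⁻¹ ∈ X := h.haX x hx
    have hxi : x⁻¹ = x := h.inv_eq hx
    refine ⟨?_, ?_⟩
    · have e : x * g * x⁻¹ * g⁻¹ = x * (g * x⁻¹ * g⁻¹) := by group
      rw [e, hxi]; exact X.mul_mem hx hxa
    · rw [hxi, h.a_inv]
      calc g * (x * g * x * g) * g = (g * x * g) * x * (g * g) := by group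
        _ = (g * x * g) * x := by rw [h.ha2, mul_one]
        _ = x * (g * x * g) := by
          have := h.comm _ hxa x hx
          rw [h.a_inv] at this
          exact this
        _ = x * g * x * g := by group

theorem S3Act.card_eq [Finite G] (h : S3Act X a k) :
    Nat.card X = Nat.card (fixOf X a) * Nat.card (fixOf X a) := by
  apply le_antisymm _ h.sq_le
  have h1 := card_commutator_zpowers_mul X h.comm a h.a_mem_normalizer
  have h2 : Nat.card ↥(⁅X, Subgroup.zpowers a⁆) ≤ Nat.card (fixOf X a) :=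
    Subgroup.card_le_of_le h.commutator_le_fixOf
  calc Nat.card X = Nat.card ↥(⁅X, Subgroup.zpowers a⁆) * Nat.card (fixOf X a) := h1.symm
    _ ≤ Nat.card (fixOf X a) * Nat.card (fixOf X a) := Nat.mul_le_mul_right _ h2

/-- `X = C_X(a) × C_X(a)^k` -/
theorem S3Act.exists_decomp [Finite G] (h : S3Act X a k) {x : G} (hx : x ∈ X) :
    ∃ y₁ ∈ fixOf X a, ∃ y₂ ∈ fixOf X a, x = y₁ * (k * y₂ * k⁻¹) := by
  have hb : Function.Bijective h.decompMap := by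
    apply h.decompMap_injective.bijective_of_nat_card_le
    rw [Nat.card_prod]
    exact h.card_eq.le
  obtain ⟨⟨y₁, y₂⟩, hy⟩ := hb.2 ⟨x, hx⟩
  exact ⟨y₁, y₁.2, y₂, y₂.2, (congrArg Subtype.val hy).symm⟩

/-- if moreover `|X| ≤ 2 |C_X(a)|` then `|C_X(a)| ≤ 2` and `|X| ≤ 4` -/
theorem S3Act.card_fix_le_two [Finite G] (h : S3Act X a k)
    (h2 : Nat.card X ≤ 2 * Nat.card (fixOf X a)) : Nat.card (fixOf X a) ≤ 2 := by
  have h1 := h.card_eq
  have hpos : 0 < Nat.card (fixOf X a) := Nat.card_pos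
  rw [h1] at h2
  exact Nat.le_of_mul_le_mul_right h2 hpos

end Cfsg.Agent.Lib.Helper7.JT
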