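import Mathlib
import Cfsg.Prelude.Def_JComponents
import Cfsg.Agent.Lib.Lead.KS93f
import Cfsg.Agent.Lib.Helper6.JC.JC3

set_option autoImplicit false

namespace Cfsg.Agent.Lib.Helper7.JT

open Cfsg Cfsg.Agent.Lib.Helper6.JC Cfsg.Agent.Lib.Lead.KS93

variable {G : Type*} [Group G]

/-- `Y = Q⟨k⟩` -/
def yOf (Q : Subgroup G) (k : G) : Subgroup G := Q ⊔ Subgroup.zpowers k

/-- `K = O²(Q⟨k⟩)`: the subgroup generated by the elements of odd order of `Q⟨k⟩` -/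
def kOf (Q : Subgroup G) (k : G) : Subgroup G :=
  Subgroup.closure {g : G | g ∈ yOf Q k ∧ Odd (orderOf g)}

theorem kOf_le_yOf (Q : Subgroup G) (k : G) : kOf Q k ≤ yOf Q k := by
  unfold kOf
  rw [Subgroup.closure_le]
  intro g hg
  exact hg.1

theorem le_yOf (Q : Subgroup G) (k : G) : Q ≤ yOf Q k := le_sup_left

theorem mem_yOf_self (Q : Subgroup G) (k : G) : k ∈ yOf Q k :=
  (le_sup_right : Subgroup.zpowers k ≤ _) (Subgroup.mem_zpowers k)

theorem odd_orderOf_of_cube {g : G} (hg : g * g * g = 1) : Odd (orderOf g) := by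
  have h3 : g ^ 3 = 1 := by rw [pow_succ, pow_two]; exact hg
  have hd : orderOf g ∣ 3 := orderOf_dvd_of_pow_eq_one h3
  rcases (Nat.dvd_prime Nat.prime_three).mp hd with h | h
  · rw [h]; exact odd_one
  · rw [h]; decide

theorem mem_kOf_of_cube {Q : Subgroup G} {k g : G} (hgY : g ∈ yOf Q k) (hg : g * g * g = 1) :
    g ∈ kOf Q k :=
  Subgroup.subset_closure ⟨hgY, odd_orderOf_of_cube hg⟩

theorem orderOf_conj' (x g : G) : orderOf (x * g * x⁻¹) = orderOf g := by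
  have : x * g * x⁻¹ = MulAut.conj x g := by simp [MulAut.conj_apply]
  rw [this]
  exact MulEquiv.orderOf_eq (MulAut.conj x) g

/-- `K` is characteristic in `Y` -/
theorem conj_mem_kOf {Q : Subgroup G} {k x : G} (hx : ∀ y ∈ yOf Q k, x * y * x⁻¹ ∈ yOf Q k)
    {g : G} (hg : g ∈ kOf Q k) : x * g * x⁻¹ ∈ kOf Q k := by
  unfold kOf at hg ⊢
  induction hg using Subgroup.closure_induction with
  | mem y hy =>
    apply Subgroup.subset_closure
    exact ⟨hx y hy.1, by rw [orderOf_conj']; exact hy.2⟩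
  | one => simp
  | mul a b _ _ ha hb =>
    have : x * (a * b) * x⁻¹ = (x * a * x⁻¹) * (x * b * x⁻¹) := by group
    rw [this]; exact Subgroup.mul_mem _ ha hb
  | inv a _ ha =>
    have : x * a⁻¹ * x⁻¹ = (x * a * x⁻¹)⁻¹ := by group
    rw [this]; exact Subgroup.inv_mem _ ha

/-- an element normalizing `Q` and `⟨k⟩` normalizes `Y` -/
theorem conj_mem_yOf {Q : Subgroup G} {k x : G} (hxQ : ∀ q ∈ Q, x * q * x⁻¹ ∈ Q)
    (hxk : x * k * x⁻¹ ∈ yOf Q k) {y : G} (hy : y ∈ yOf Q k) : x * y * x⁻¹ ∈ yOf Q k := by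
  have hle : yOf Q k ≤ (yOf Q k).comap (MulAut.conj x).toMonoidHom := by
    unfold yOf
    apply sup_le
    · intro q hq
      rw [Subgroup.mem_comap]
      simp only [MulEquiv.coe_toMonoidHom, MulAut.conj_apply]
      exact (le_sup_left : Q ≤ Q ⊔ Subgroup.zpowers k) (hxQ q hq)
    · rw [Subgroup.zpowers_le, Subgroup.mem_comap]
      simp only [MulEquiv.coe_toMonoidHom, MulAut.conj_apply]
      exact hxk
  have := hle hy
  rw [Subgroup.mem_comap] at this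
  simpa [MulAut.conj_apply] using this

/-- elements of `Y` are products `q * k ^ i` -/
theorem exists_mul_of_mem_yOf {Q : Subgroup G} {k : G} (hkN : k ∈ Subgroup.normalizer (Q : Set G))
    {x : G} (hx : x ∈ yOf Q k) : ∃ q ∈ Q, ∃ i : ℤ, x = q * k ^ i := by
  have hzn : Subgroup.zpowers k ≤ Subgroup.normalizer (Q : Set G) :=
    Subgroup.zpowers_le.mpr hkN
  obtain ⟨q, hq, z, hz, rfl⟩ := exists_mul_of_mem_sup' hzn hx
  obtain ⟨i, rfl⟩ := Subgroup.mem_zpowers_iff.mp hz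
  exact ⟨q, hq, i, rfl⟩

theorem k_mem_kOf {Q : Subgroup G} {k : G} (hk3 : k * k * k = 1) : k ∈ kOf Q k :=
  mem_kOf_of_cube (mem_yOf_self Q k) hk3

/-- elements of `K` are products `q * k ^ i` with `q ∈ K ⊓ Q` -/
theorem exists_mul_of_mem_kOf {Q : Subgroup G} {k : G} (hkN : k ∈ Subgroup.normalizer (Q : Set G))
    (hk3 : k * k * k = 1) {x : G} (hx : x ∈ kOf Q k) :
    ∃ q ∈ kOf Q k ⊓ Q, ∃ i : ℤ, x = q * k ^ i := by
  obtain ⟨q, hq, i, rfl⟩ := exists_mul_of_mem_yOf hkN (kOf_le_yOf Q k hx)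
  refine ⟨q, Subgroup.mem_inf.mpr ⟨?_, hq⟩, i, rfl⟩
  have h1 : k ^ i ∈ kOf Q k := Subgroup.zpow_mem _ (k_mem_kOf hk3) i
  have := (kOf Q k).mul_mem hx ((kOf Q k).inv_mem h1)
  simpa using this

/-- `[Q, k] ≤ K ⊓ Q` -/
theorem comm_mem_kOf_inf {Q : Subgroup G} {k : G} (hkN : k ∈ Subgroup.normalizer (Q : Set G))
    (hk3 : k * k * k = 1) {q : G} (hq : q ∈ Q) : q * k * q⁻¹ * k⁻¹ ∈ kOf Q k ⊓ Q := by
  refine Subgroup.mem_inf.mpr ⟨?_, ?_⟩
  · apply (kOf Q k).mul_mem _ ((kOf Q k).inv_mem (k_mem_kOf hk3))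
    apply mem_kOf_of_cube
    · exact (yOf Q k).mul_mem ((yOf Q k).mul_mem (le_yOf Q k hq) (mem_yOf_self Q k))
        ((yOf Q k).inv_mem (le_yOf Q k hq))
    · calc q * k * q⁻¹ * (q * k * q⁻¹) * (q * k * q⁻¹) = q * (k * k * k) * q⁻¹ := by group
        _ = 1 := by rw [hk3]; group
  · have h1 : k * q⁻¹ * k⁻¹ ∈ Q := (Subgroup.mem_normalizer_iff.mp hkN _).mp (Q.inv_mem hq)
    have e : q * k * q⁻¹ * k⁻¹ = q * (k * q⁻¹ * k⁻¹) := by group
    rw [e]; exact Q.mul_mem hq h1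

end Cfsg.Agent.Lib.Helper7.JT
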