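import Mathlib
import Cfsg.Prelude.Def_JComponents
import Cfsg.Agent.Lib.Helper9.Thompson
import Cfsg.Agent.Lib.Helper6.JC.JC3
import Cfsg.Agent.Lib.Helper7.JT5
import Cfsg.Agent.Lib.Helper7.JT7

set_option autoImplicit false

namespace Cfsg.Agent.Lib.Helper7.JT

open Cfsg Cfsg.Agent.Lib.Helper9 Cfsg.Agent.Lib.Helper6 Cfsg.Agent.Lib.Helper6.JC

variable {G : Type*} [Group G]

/-- `Q_K = K ∩ Q` -/
def qkOf (Q : Subgroup G) (k : G) : Subgroup G := kOf Q k ⊓ Q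

/-- `U = Ω₁Z(Q_K)` -/
def uOf (Q : Subgroup G) (k : G) : Subgroup G := omegaCenterOf (qkOf Q k)

/-- `N = [U, K]` -/
def nOf (Q : Subgroup G) (k : G) : Subgroup G := ⁅uOf Q k, kOf Q k⁆

/-- the hypotheses of the four-group lemma -/
structure C1Ctx (T Q A : Subgroup G) (a k : G) : Prop where
  hQT : Q ≤ T
  hA : A ∈ maxEA 2 T
  haA : a ∈ A
  hidx : ∀ x ∈ A, x ∈ Q ∨ a * x ∈ Q
  haN : a ∈ Subgroup.normalizer (Q : Set G)
  hkN : k ∈ Subgroup.normalizer (Q : Set G)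
  hk3 : k * k * k = 1
  hak : a * k * a⁻¹ = k⁻¹

variable {T Q A : Subgroup G} {a k : G}

theorem C1Ctx.a_sq (c : C1Ctx T Q A a k) : a * a = 1 := by
  have := (isElementaryAbelian_iff_forall.mp c.hA.2.1).2 a c.haA
  rwa [pow_two] at this

theorem C1Ctx.k_inv (c : C1Ctx T Q A a k) : k⁻¹ = k * k :=
  inv_eq_of_mul_eq_one_left c.hk3

theorem zpow_cases {k : G} (hk3 : k * k * k = 1) (i : ℤ) : k ^ i = 1 ∨ k ^ i = k ∨ k ^ i = k⁻¹ := by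
  have h3 : k ^ (3 : ℤ) = 1 := by
    have : k ^ (3 : ℕ) = 1 := by rw [pow_succ, pow_two]; exact hk3
    exact_mod_cast this
  have hi : i = 3 * (i / 3) + i % 3 := (Int.mul_ediv_add_emod i 3).symm
  have hr : k ^ i = k ^ (i % 3) := by
    conv_lhs => rw [hi]
    rw [zpow_add, zpow_mul, h3, one_zpow, one_mul]
  have h0 : 0 ≤ i % 3 := Int.emod_nonneg i (by norm_num)
  have h2 : i % 3 < 3 := Int.emod_lt_of_pos i (by norm_num)
  rw [hr]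
  have hc : i % 3 = 0 ∨ i % 3 = 1 ∨ i % 3 = 2 := by omega
  rcases hc with h | h | h
  · left; rw [h, zpow_zero]
  · right; left; rw [h, zpow_one]
  · right; right
    rw [h]
    have : k ^ (2 : ℤ) = k * k := by
      have : k ^ (2 : ℕ) = k * k := pow_two k
      exact_mod_cast this
    rw [this]
    exact (inv_eq_of_mul_eq_one_left hk3).symm

section conj
variable (c : C1Ctx T Q A a k)
include c

theorem C1Ctx.conj_Q_of_mem {q : G} (hq : q ∈ Q) {y : G} (hy : y ∈ Q) : q * y * q⁻¹ ∈ Q :=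
  Q.mul_mem (Q.mul_mem hq hy) (Q.inv_mem hq)

theorem C1Ctx.k_conj_Q {y : G} (hy : y ∈ Q) : k * y * k⁻¹ ∈ Q :=
  (Subgroup.mem_normalizer_iff.mp c.hkN y).mp hy

theorem C1Ctx.kinv_conj_Q {y : G} (hy : y ∈ Q) : k⁻¹ * y * k ∈ Q := by
  have := (Subgroup.mem_normalizer_iff.mp (Subgroup.inv_mem _ c.hkN) y).mp hy
  simpa using this

theorem C1Ctx.a_conj_Q {y : G} (hy : y ∈ Q) : a * y * a⁻¹ ∈ Q :=
  (Subgroup.mem_normalizer_iff.mp c.haN y).mp hy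

theorem C1Ctx.k_conj_Y {y : G} (hy : y ∈ yOf Q k) : k * y * k⁻¹ ∈ yOf Q k :=
  (yOf Q k).mul_mem ((yOf Q k).mul_mem (mem_yOf_self Q k) hy) ((yOf Q k).inv_mem (mem_yOf_self Q k))

theorem C1Ctx.kinv_conj_Y {y : G} (hy : y ∈ yOf Q k) : k⁻¹ * y * k ∈ yOf Q k :=
  (yOf Q k).mul_mem ((yOf Q k).mul_mem ((yOf Q k).inv_mem (mem_yOf_self Q k)) hy) (mem_yOf_self Q k)

theorem C1Ctx.q_conj_Y {q : G} (hq : q ∈ Q) {y : G} (hy : y ∈ yOf Q k) :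
    q * y * q⁻¹ ∈ yOf Q k :=
  (yOf Q k).mul_mem ((yOf Q k).mul_mem (le_yOf Q k hq) hy) ((yOf Q k).inv_mem (le_yOf Q k hq))

theorem C1Ctx.a_conj_Y {y : G} (hy : y ∈ yOf Q k) : a * y * a⁻¹ ∈ yOf Q k := by
  apply conj_mem_yOf (fun q hq => c.a_conj_Q hq) _ hy
  rw [c.hak]
  exact (yOf Q k).inv_mem (mem_yOf_self Q k)

theorem C1Ctx.k_conj_K {y : G} (hy : y ∈ kOf Q k) : k * y * k⁻¹ ∈ kOf Q k :=
  conj_mem_kOf (fun _ h => c.k_conj_Y h) hy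

theorem C1Ctx.kinv_conj_K {y : G} (hy : y ∈ kOf Q k) : k⁻¹ * y * k ∈ kOf Q k := by
  have := conj_mem_kOf (x := k⁻¹) (fun y h => by simpa using c.kinv_conj_Y h) hy
  simpa using this

theorem C1Ctx.q_conj_K {q : G} (hq : q ∈ Q) {y : G} (hy : y ∈ kOf Q k) :
    q * y * q⁻¹ ∈ kOf Q k :=
  conj_mem_kOf (fun _ h => c.q_conj_Y hq h) hy

theorem C1Ctx.a_conj_K {y : G} (hy : y ∈ kOf Q k) : a * y * a⁻¹ ∈ kOf Q k :=
  conj_mem_kOf (fun _ h => c.a_conj_Y h) hy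

theorem C1Ctx.k_conj_QK {y : G} (hy : y ∈ qkOf Q k) : k * y * k⁻¹ ∈ qkOf Q k :=
  Subgroup.mem_inf.mpr ⟨c.k_conj_K (Subgroup.mem_inf.mp hy).1, c.k_conj_Q (Subgroup.mem_inf.mp hy).2⟩

theorem C1Ctx.kinv_conj_QK {y : G} (hy : y ∈ qkOf Q k) : k⁻¹ * y * k ∈ qkOf Q k :=
  Subgroup.mem_inf.mpr ⟨c.kinv_conj_K (Subgroup.mem_inf.mp hy).1,
    c.kinv_conj_Q (Subgroup.mem_inf.mp hy).2⟩

theorem C1Ctx.q_conj_QK {q : G} (hq : q ∈ Q) {y : G} (hy : y ∈ qkOf Q k) :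
    q * y * q⁻¹ ∈ qkOf Q k :=
  Subgroup.mem_inf.mpr ⟨c.q_conj_K hq (Subgroup.mem_inf.mp hy).1,
    c.conj_Q_of_mem hq (Subgroup.mem_inf.mp hy).2⟩

theorem C1Ctx.a_conj_QK {y : G} (hy : y ∈ qkOf Q k) : a * y * a⁻¹ ∈ qkOf Q k :=
  Subgroup.mem_inf.mpr ⟨c.a_conj_K (Subgroup.mem_inf.mp hy).1, c.a_conj_Q (Subgroup.mem_inf.mp hy).2⟩

variable [Finite G]

theorem C1Ctx.k_mem_normalizer_QK : k ∈ Subgroup.normalizer (qkOf Q k : Set G) :=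
  Subgroup.mem_normalizer_fintype (fun _ h => c.k_conj_QK h)

theorem C1Ctx.kinv_mem_normalizer_QK : k⁻¹ ∈ Subgroup.normalizer (qkOf Q k : Set G) :=
  Subgroup.inv_mem _ c.k_mem_normalizer_QK

theorem C1Ctx.q_mem_normalizer_QK {q : G} (hq : q ∈ Q) :
    q ∈ Subgroup.normalizer (qkOf Q k : Set G) :=
  Subgroup.mem_normalizer_fintype (fun _ h => c.q_conj_QK hq h)

theorem C1Ctx.a_mem_normalizer_QK : a ∈ Subgroup.normalizer (qkOf Q k : Set G) :=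
  Subgroup.mem_normalizer_fintype (fun _ h => c.a_conj_QK h)

theorem C1Ctx.k_conj_U {u : G} (hu : u ∈ uOf Q k) : k * u * k⁻¹ ∈ uOf Q k :=
  conj_mem_omegaCenterOf c.k_mem_normalizer_QK hu

theorem C1Ctx.kinv_conj_U {u : G} (hu : u ∈ uOf Q k) : k⁻¹ * u * k ∈ uOf Q k := by
  have h := conj_mem_omegaCenterOf c.kinv_mem_normalizer_QK hu
  rw [inv_inv] at h
  exact h

theorem C1Ctx.q_conj_U {q : G} (hq : q ∈ Q) {u : G} (hu : u ∈ uOf Q k) :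
    q * u * q⁻¹ ∈ uOf Q k :=
  conj_mem_omegaCenterOf (c.q_mem_normalizer_QK hq) hu

theorem C1Ctx.a_conj_U {u : G} (hu : u ∈ uOf Q k) : a * u * a⁻¹ ∈ uOf Q k :=
  conj_mem_omegaCenterOf c.a_mem_normalizer_QK hu

omit [Finite G] in
theorem C1Ctx.U_le_QK : uOf Q k ≤ qkOf Q k := fun _ hu =>
  (Subgroup.mem_inf.mp (omegaCenterOf_le _ hu)).1

omit [Finite G] in
theorem C1Ctx.U_le_Q : uOf Q k ≤ Q := fun _ hu => (Subgroup.mem_inf.mp (c.U_le_QK hu)).2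

omit [Finite G] in
/-- `Q_K` centralizes `U` -/
theorem C1Ctx.QK_comm_U {q u : G} (hq : q ∈ qkOf Q k) (hu : u ∈ uOf Q k) : q * u = u * q :=
  (Subgroup.mem_centralizer_iff.mp (Subgroup.mem_inf.mp (omegaCenterOf_le _ hu)).2) q hq

omit [Finite G] in
theorem C1Ctx.U_comm {u v : G} (hu : u ∈ uOf Q k) (hv : v ∈ uOf Q k) : u * v = v * u :=
  c.QK_comm_U (c.U_le_QK hu) hv

omit [Finite G] in
theorem C1Ctx.U_sq {u : G} (hu : u ∈ uOf Q k) : u * u = 1 := mul_self_of_mem_omegaCenterOf hu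

end conj

end Cfsg.Agent.Lib.Helper7.JT
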