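import Mathlib
import Cfsg.Prelude.Def_JComponents
import Cfsg.Agent.Lib.Helper7.JT8

set_option autoImplicit false

namespace Cfsg.Agent.Lib.Helper7.JT

open Cfsg Cfsg.Agent.Lib.Helper9 Cfsg.Agent.Lib.Helper6 Cfsg.Agent.Lib.Helper6.JC
open scoped commutatorElement

variable {G : Type*} [Group G] [Finite G] {T Q A : Subgroup G} {a k : G}

section main
variable (c : C1Ctx T Q A a k)
include c

/-- `K` acts on `U` through the powers of `k` -/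
theorem C1Ctx.conj_K_U {x u : G} (hx : x ∈ kOf Q k) (hu : u ∈ uOf Q k) :
    x * u * x⁻¹ = u ∨ x * u * x⁻¹ = k * u * k⁻¹ ∨ x * u * x⁻¹ = k⁻¹ * u * k := by
  obtain ⟨q, hq, i, rfl⟩ := exists_mul_of_mem_kOf c.hkN c.hk3 hx
  have key : ∀ v ∈ uOf Q k, q * v * q⁻¹ = v := by
    intro v hv
    rw [c.QK_comm_U hq hv]; group
  rcases zpow_cases c.hk3 i with h | h | h
  · left
    rw [h, mul_one]; exact key u hu
  · right; left
    rw [h]
    calc q * k * u * (q * k)⁻¹ = q * (k * u * k⁻¹) * q⁻¹ := by group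
      _ = k * u * k⁻¹ := key _ (c.k_conj_U hu)
  · right; right
    rw [h]
    calc q * k⁻¹ * u * (q * k⁻¹)⁻¹ = q * (k⁻¹ * u * k) * q⁻¹ := by group
      _ = k⁻¹ * u * k := key _ (c.kinv_conj_U hu)

theorem C1Ctx.conj_K_U_mem {x u : G} (hx : x ∈ kOf Q k) (hu : u ∈ uOf Q k) :
    x * u * x⁻¹ ∈ uOf Q k := by
  rcases c.conj_K_U hx hu with h | h | h <;> rw [h]
  · exact hu
  · exact c.k_conj_U hu
  · exact c.kinv_conj_U hu

theorem C1Ctx.N_le_U : nOf Q k ≤ uOf Q k := by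
  unfold nOf
  rw [Subgroup.commutator_le]
  intro u hu x hx
  rw [commutatorElement_def]
  have h1 := c.conj_K_U_mem hx ((uOf Q k).inv_mem hu)
  have e : u * x * u⁻¹ * x⁻¹ = u * (x * u⁻¹ * x⁻¹) := by group
  rw [e]
  exact (uOf Q k).mul_mem hu h1

/-- the kernel of the norm map of `⟨k⟩` on `U` -/
def nuKer (Q : Subgroup G) (k : G) (c : C1Ctx T Q A a k) : Subgroup G where
  carrier := {n | n ∈ uOf Q k ∧ n * (k * n * k⁻¹) * (k⁻¹ * n * k) = 1}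
  one_mem' := ⟨Subgroup.one_mem _, by group⟩
  mul_mem' := by
    rintro n m ⟨hn, hn1⟩ ⟨hm, hm1⟩
    refine ⟨(uOf Q k).mul_mem hn hm, ?_⟩
    have hn' := c.k_conj_U hn
    have hm' := c.k_conj_U hm
    have hn'' := c.kinv_conj_U hn
    have hm'' := c.kinv_conj_U hm
    calc n * m * (k * (n * m) * k⁻¹) * (k⁻¹ * (n * m) * k)
        = n * (m * (k * n * k⁻¹)) * (k * m * k⁻¹) * (k⁻¹ * n * k) * (k⁻¹ * m * k) := by group
      _ = n * ((k * n * k⁻¹) * m) * (k * m * k⁻¹) * (k⁻¹ * n * k) * (k⁻¹ * m * k) := by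
          rw [c.U_comm hm hn']
      _ = n * (k * n * k⁻¹) * ((m * (k * m * k⁻¹)) * (k⁻¹ * n * k)) * (k⁻¹ * m * k) := by group
      _ = n * (k * n * k⁻¹) * ((k⁻¹ * n * k) * (m * (k * m * k⁻¹))) * (k⁻¹ * m * k) := by
          rw [c.U_comm ((uOf Q k).mul_mem hm hm') hn'']
      _ = (n * (k * n * k⁻¹) * (k⁻¹ * n * k)) * (m * (k * m * k⁻¹) * (k⁻¹ * m * k)) := by group
      _ = 1 := by rw [hn1, hm1, one_mul]
  inv_mem' := by
    rintro n ⟨hn, hn1⟩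
    refine ⟨(uOf Q k).inv_mem hn, ?_⟩
    have hni : n⁻¹ = n := inv_eq_of_mul_eq_one_left (c.U_sq hn)
    rw [hni]; exact hn1

theorem C1Ctx.N_le_nuKer : nOf Q k ≤ nuKer Q k c := by
  unfold nOf
  rw [Subgroup.commutator_le]
  intro u hu x hx
  have hui : u⁻¹ = u := inv_eq_of_mul_eq_one_left (c.U_sq hu)
  have hu' := c.k_conj_U hu
  have hu'' := c.kinv_conj_U hu
  have hkk : k⁻¹ = k * k := c.k_inv
  have hkkk : k * k * k = 1 := c.hk3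
  have e : ⁅u, x⁆ = u * (x * u * x⁻¹) := by
    rw [commutatorElement_def]
    calc u * x * u⁻¹ * x⁻¹ = u * (x * u⁻¹ * x⁻¹) := by group
      _ = u * (x * u * x⁻¹) := by rw [hui]
  rw [e]
  -- conjugates of u by k^2 = k⁻¹ etc.
  have k2 : k * (k * u * k⁻¹) * k⁻¹ = k⁻¹ * u * k := by
    calc k * (k * u * k⁻¹) * k⁻¹ = (k * k) * u * (k * k)⁻¹ := by group
      _ = k⁻¹ * u * k := by rw [← hkk]; group
  have k3 : k * (k⁻¹ * u * k) * k⁻¹ = u := by group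
  have k4 : k⁻¹ * (k * u * k⁻¹) * k = u := by group
  have k5 : k⁻¹ * (k⁻¹ * u * k) * k = k * u * k⁻¹ := by
    calc k⁻¹ * (k⁻¹ * u * k) * k = (k * k * k)⁻¹ * (k * u * k⁻¹) * (k * k * k) := by group
      _ = k * u * k⁻¹ := by rw [hkkk]; group
  rcases c.conj_K_U hx hu with h | h | h <;> rw [h]
  · rw [c.U_sq hu]; exact Subgroup.one_mem _
  · refine ⟨(uOf Q k).mul_mem hu hu', ?_⟩
    calc u * (k * u * k⁻¹) * (k * (u * (k * u * k⁻¹)) * k⁻¹) * (k⁻¹ * (u * (k * u * k⁻¹)) * k)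
        = u * (k * u * k⁻¹) * ((k * u * k⁻¹) * (k * (k * u * k⁻¹) * k⁻¹)) *
            ((k⁻¹ * u * k) * (k⁻¹ * (k * u * k⁻¹) * k)) := by group
      _ = u * (k * u * k⁻¹) * ((k * u * k⁻¹) * (k⁻¹ * u * k)) * ((k⁻¹ * u * k) * u) := by
          rw [k2, k4]
      _ = u * ((k * u * k⁻¹) * (k * u * k⁻¹)) * ((k⁻¹ * u * k) * (k⁻¹ * u * k)) * u := by group
      _ = 1 := by rw [c.U_sq hu', c.U_sq hu'', mul_one, mul_one, c.U_sq hu]
  · refine ⟨(uOf Q k).mul_mem hu hu'', ?_⟩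
    calc u * (k⁻¹ * u * k) * (k * (u * (k⁻¹ * u * k)) * k⁻¹) * (k⁻¹ * (u * (k⁻¹ * u * k)) * k)
        = u * (k⁻¹ * u * k) * ((k * u * k⁻¹) * (k * (k⁻¹ * u * k) * k⁻¹)) *
            ((k⁻¹ * u * k) * (k⁻¹ * (k⁻¹ * u * k) * k)) := by group
      _ = u * (k⁻¹ * u * k) * ((k * u * k⁻¹) * u) * ((k⁻¹ * u * k) * (k * u * k⁻¹)) := by
          rw [k3, k5]
      _ = u * (k⁻¹ * u * k) * (u * (k * u * k⁻¹)) * ((k⁻¹ * u * k) * (k * u * k⁻¹)) := by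
          rw [c.U_comm hu' hu]
      _ = u * ((k⁻¹ * u * k) * u) * ((k * u * k⁻¹) * (k⁻¹ * u * k)) * (k * u * k⁻¹) := by group
      _ = u * (u * (k⁻¹ * u * k)) * ((k⁻¹ * u * k) * (k * u * k⁻¹)) * (k * u * k⁻¹) := by
          rw [c.U_comm hu'' hu, c.U_comm hu' hu'']
      _ = (u * u) * ((k⁻¹ * u * k) * (k⁻¹ * u * k)) * ((k * u * k⁻¹) * (k * u * k⁻¹)) := by group
      _ = 1 := by rw [c.U_sq hu', c.U_sq hu'', c.U_sq hu, mul_one, mul_one]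

/-- `C_N(k) = 1` -/
theorem C1Ctx.N_fix {n : G} (hn : n ∈ nOf Q k) (hk : k * n * k⁻¹ = n) : n = 1 := by
  obtain ⟨hnU, h1⟩ := c.N_le_nuKer hn
  have hk' : k⁻¹ * n * k = n := by
    calc k⁻¹ * n * k = k⁻¹ * (k * n * k⁻¹) * k := by rw [hk]
      _ = n := by group
  rw [hk, hk', c.U_sq hnU, one_mul] at h1
  exact h1

theorem C1Ctx.k_conj_N {n : G} (hn : n ∈ nOf Q k) : k * n * k⁻¹ ∈ nOf Q k :=
  conj_mem_commutator (fun _ h => c.k_conj_U h) (fun _ h => c.k_conj_K h) hn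

theorem C1Ctx.a_conj_N {n : G} (hn : n ∈ nOf Q k) : a * n * a⁻¹ ∈ nOf Q k :=
  conj_mem_commutator (fun _ h => c.a_conj_U h) (fun _ h => c.a_conj_K h) hn

theorem C1Ctx.q_conj_N {q : G} (hq : q ∈ Q) {n : G} (hn : n ∈ nOf Q k) :
    q * n * q⁻¹ ∈ nOf Q k :=
  conj_mem_commutator (fun _ h => c.q_conj_U hq h) (fun _ h => c.q_conj_K hq h) hn

theorem C1Ctx.s3_N : S3Act (nOf Q k) a k where
  comm := fun x hx y hy => c.U_comm (c.N_le_U hx) (c.N_le_U hy)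
  sq := fun x hx => c.U_sq (c.N_le_U hx)
  ha2 := c.a_sq
  hk3 := c.hk3
  hak := c.hak
  haX := fun _ h => c.a_conj_N h
  hkX := fun _ h => c.k_conj_N h
  hfix := fun _ h hk => c.N_fix h hk

end main

end Cfsg.Agent.Lib.Helper7.JT
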