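import Mathlib
import Cfsg.Prelude.Def_JComponents
import Cfsg.Agent.Lib.Helper2.Basic
import Cfsg.Agent.Lib.Helper6.ElemAb
import Cfsg.Agent.Lib.Helper7.JT6
import Cfsg.Agent.Lib.Helper7.JT9

set_option autoImplicit false

namespace Cfsg.Agent.Lib.Helper7.JT

open Cfsg Cfsg.Agent.Lib.Helper9 Cfsg.Agent.Lib.Helper6 Cfsg.Agent.Lib.Helper6.JC
open scoped commutatorElement

variable {G : Type*} [Group G] [Finite G] {T Q A : Subgroup G} {a k : G}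

section main
variable (c : C1Ctx T Q A a k)
include c

omit [Finite G] in
theorem C1Ctx.A_comm {x y : G} (hx : x ∈ A) (hy : y ∈ A) : x * y = y * x :=
  (isElementaryAbelian_iff_forall.mp c.hA.2.1).1 x hx y hy

omit [Finite G] in
theorem C1Ctx.A_sq {x : G} (hx : x ∈ A) : x * x = 1 := by
  have := (isElementaryAbelian_iff_forall.mp c.hA.2.1).2 x hx
  rwa [pow_two] at this

/-- `|A| ≤ 2 |A ∩ Q|` -/
theorem C1Ctx.card_A_le : Nat.card A ≤ 2 * Nat.card ↥(A ⊓ Q) := by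
  classical
  have h2 : Nat.card (Bool × ↥(A ⊓ Q)) = 2 * Nat.card ↥(A ⊓ Q) := by
    rw [Nat.card_prod, Nat.card_eq_fintype_card (α := Bool), Fintype.card_bool]
  rw [← h2]
  let f : ↥A → Bool × ↥(A ⊓ Q) := fun x =>
    if hx : (x : G) ∈ Q then (false, ⟨x, Subgroup.mem_inf.mpr ⟨x.2, hx⟩⟩)
    else (true, ⟨a * x, Subgroup.mem_inf.mpr ⟨A.mul_mem c.haA x.2,
      (c.hidx x x.2).resolve_left hx⟩⟩)
  apply Nat.card_le_card_of_injective f
  intro x y hxy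
  by_cases hx : (x : G) ∈ Q <;> by_cases hy : (y : G) ∈ Q
  · simp only [f, dif_pos hx, dif_pos hy, Prod.mk.injEq, Subtype.mk.injEq, true_and] at hxy
    exact Subtype.ext hxy
  · simp only [f, dif_pos hx, dif_neg hy, Prod.mk.injEq] at hxy
    exact absurd hxy.1 (by decide)
  · simp only [f, dif_neg hx, dif_pos hy, Prod.mk.injEq] at hxy
    exact absurd hxy.1 (by decide)
  · simp only [f, dif_neg hx, dif_neg hy, Prod.mk.injEq, Subtype.mk.injEq, true_and] at hxy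
    exact Subtype.ext (mul_left_cancel hxy)

/-- (M): an elementary abelian subgroup of `T` centralizing `A ∩ Q` meets `A ∩ Q` in a subgroup of
index at most 2 -/
theorem C1Ctx.card_le_of_comm {X : Subgroup G} (hXT : X ≤ T)
    (hXc : ∀ x ∈ X, ∀ y ∈ X, x * y = y * x) (hX2 : ∀ x ∈ X, x * x = 1)
    (hXA : ∀ x ∈ X, ∀ y ∈ A ⊓ Q, x * y = y * x) :
    Nat.card X ≤ 2 * Nat.card ↥(X ⊓ (A ⊓ Q)) := by
  have hEA : IsElementaryAbelian 2 (X ⊔ (A ⊓ Q)) := by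
    rw [Subgroup.sup_eq_closure]
    apply isElementaryAbelian_closure
    · intro x hx y hy
      rcases hx with hx | hx <;> rcases hy with hy | hy
      · exact hXc x hx y hy
      · exact hXA x hx y hy
      · exact (hXA y hy x hx).symm
      · exact c.A_comm (Subgroup.mem_inf.mp hx).1 (Subgroup.mem_inf.mp hy).1
    · intro x hx
      rw [pow_two]
      rcases hx with hx | hx
      · exact hX2 x hx
      · exact c.A_sq (Subgroup.mem_inf.mp hx).1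
  have hle : X ⊔ (A ⊓ Q) ≤ T := sup_le hXT (inf_le_left.trans c.hA.1)
  have hmax : Nat.card ↥(X ⊔ (A ⊓ Q)) ≤ Nat.card A := c.hA.2.2 _ hle hEA
  have hnorm : X ≤ Subgroup.normalizer ((A ⊓ Q : Subgroup G) : Set G) := by
    intro x hx
    apply Subgroup.mem_normalizer_fintype
    intro y hy
    have : x * y * x⁻¹ = y := by rw [hXA x hx y hy]; group
    rw [this]; exact hy
  have hprod := Cfsg.Agent.Lib.Helper2.card_sup_mul_card_inf X (A ⊓ Q) hnorm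
  have hA₁pos : 0 < Nat.card ↥(A ⊓ Q) := Nat.card_pos
  have h1 : Nat.card X * Nat.card ↥(A ⊓ Q) ≤
      (2 * Nat.card ↥(X ⊓ (A ⊓ Q))) * Nat.card ↥(A ⊓ Q) := by
    calc Nat.card X * Nat.card ↥(A ⊓ Q)
        = Nat.card ↥(X ⊔ (A ⊓ Q)) * Nat.card ↥(X ⊓ (A ⊓ Q)) := hprod.symm
      _ ≤ Nat.card A * Nat.card ↥(X ⊓ (A ⊓ Q)) := Nat.mul_le_mul_right _ hmax
      _ ≤ (2 * Nat.card ↥(A ⊓ Q)) * Nat.card ↥(X ⊓ (A ⊓ Q)) := Nat.mul_le_mul_right _ c.card_A_le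
      _ = (2 * Nat.card ↥(X ⊓ (A ⊓ Q))) * Nat.card ↥(A ⊓ Q) := by ring
  exact Nat.le_of_mul_le_mul_right h1 hA₁pos

omit [Finite G] in
/-- elements of `A ∩ Q` are fixed by `a` -/
theorem C1Ctx.inf_le_fixOf (X : Subgroup G) : X ⊓ (A ⊓ Q) ≤ fixOf X a := by
  intro x hx
  obtain ⟨hxX, hxA⟩ := Subgroup.mem_inf.mp hx
  rw [mem_fixOf]
  refine ⟨hxX, ?_⟩
  rw [c.A_comm c.haA (Subgroup.mem_inf.mp hxA).1]; group

/-- consequence of (M) and the `S₃`-lemma -/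
theorem C1Ctx.card_fix_le_two {X : Subgroup G} (hS : S3Act X a k) (hXT : X ≤ T)
    (hXA : ∀ x ∈ X, ∀ y ∈ A ⊓ Q, x * y = y * x) : Nat.card (fixOf X a) ≤ 2 := by
  apply hS.card_fix_le_two
  calc Nat.card X ≤ 2 * Nat.card ↥(X ⊓ (A ⊓ Q)) := c.card_le_of_comm hXT hS.comm hS.sq hXA
    _ ≤ 2 * Nat.card (fixOf X a) :=
      Nat.mul_le_mul_left _ (Subgroup.card_le_of_le (c.inf_le_fixOf X))

/-- `A ∩ Q` commutes with `k` in its action on `U` -/
theorem C1Ctx.conj_comm {x u : G} (hx : x ∈ Q) (hu : u ∈ uOf Q k) :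
    x * (k * u * k⁻¹) * x⁻¹ = k * (x * u * x⁻¹) * k⁻¹ := by
  have hc := comm_mem_kOf_inf c.hkN c.hk3 hx
  have hu' : k * (x * u * x⁻¹) * k⁻¹ ∈ uOf Q k := c.k_conj_U (c.q_conj_U hx hu)
  have h1 := c.QK_comm_U hc hu'
  calc x * (k * u * k⁻¹) * x⁻¹
      = (x * k * x⁻¹ * k⁻¹) * (k * (x * u * x⁻¹) * k⁻¹) * (x * k * x⁻¹ * k⁻¹)⁻¹ := by group
    _ = (k * (x * u * x⁻¹) * k⁻¹) * (x * k * x⁻¹ * k⁻¹) * (x * k * x⁻¹ * k⁻¹)⁻¹ := by rw [h1]
    _ = k * (x * u * x⁻¹) * k⁻¹ := by group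

end main

end Cfsg.Agent.Lib.Helper7.JT
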