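import Mathlib
import Cfsg.Prelude.Def_JComponents
import Cfsg.Agent.Lib.Helper7.JT10

set_option autoImplicit false

namespace Cfsg.Agent.Lib.Helper7.JT

open Cfsg Cfsg.Agent.Lib.Helper9 Cfsg.Agent.Lib.Helper6 Cfsg.Agent.Lib.Helper6.JC
open scoped commutatorElement

variable {G : Type*} [Group G] [Finite G] {T Q A : Subgroup G} {a k : G}

/-- `D = C_N(A ∩ Q)` -/
def dOf (Q A : Subgroup G) (k : G) : Subgroup G :=
  nOf Q k ⊓ Subgroup.centralizer ((A ⊓ Q : Subgroup G) : Set G)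

omit [Finite G] in
theorem isPGroup_two_of_sq {X : Subgroup G} (h : ∀ x ∈ X, x * x = 1) : IsPGroup 2 X := by
  intro x
  refine ⟨1, ?_⟩
  apply Subtype.ext
  rw [pow_one, pow_two]
  exact h x x.2

section main
variable (c : C1Ctx T Q A a k)
include c

theorem C1Ctx.N_le_T : nOf Q k ≤ T := c.N_le_U.trans (c.U_le_Q.trans c.hQT)

theorem C1Ctx.s3_D : S3Act (dOf Q A k) a k where
  comm := fun x hx y hy => c.s3_N.comm x (Subgroup.mem_inf.mp hx).1 y (Subgroup.mem_inf.mp hy).1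
  sq := fun x hx => c.s3_N.sq x (Subgroup.mem_inf.mp hx).1
  ha2 := c.a_sq
  hk3 := c.hk3
  hak := c.hak
  haX := by
    intro d hd
    obtain ⟨hdN, hdC⟩ := Subgroup.mem_inf.mp hd
    refine Subgroup.mem_inf.mpr ⟨c.a_conj_N hdN, ?_⟩
    rw [Subgroup.mem_centralizer_iff] at hdC ⊢
    intro y hy
    have hya : y * a = a * y := c.A_comm (Subgroup.mem_inf.mp hy).1 c.haA
    have hyd := hdC y hy
    calc y * (a * d * a⁻¹) = (y * a) * d * a⁻¹ := by group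
      _ = a * (y * d) * a⁻¹ := by rw [hya]; group
      _ = a * (d * y) * a⁻¹ := by rw [hyd]
      _ = a * d * (y * a) * a⁻¹ * a⁻¹ := by group
      _ = a * d * (a * y) * a⁻¹ * a⁻¹ := by rw [hya]
      _ = a * d * a⁻¹ * y := by
        have h1 : a⁻¹ = a := inv_eq_of_mul_eq_one_left c.a_sq
        have h2 : a * y = y * a := hya.symm
        calc a * d * (a * y) * a⁻¹ * a⁻¹ = a * d * (y * a) * a⁻¹ * a⁻¹ := by rw [h2]
          _ = a * d * y * a⁻¹ := by group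
          _ = a * d * (y * a) := by rw [h1]; group
          _ = a * d * (a * y) := by rw [hya]
          _ = a * d * a⁻¹ * y := by rw [h1]; group
  hkX := by
    intro d hd
    obtain ⟨hdN, hdC⟩ := Subgroup.mem_inf.mp hd
    refine Subgroup.mem_inf.mpr ⟨c.k_conj_N hdN, ?_⟩
    rw [Subgroup.mem_centralizer_iff] at hdC ⊢
    intro y hy
    have hyQ : y ∈ Q := (Subgroup.mem_inf.mp hy).2
    have h1 := c.conj_comm hyQ (c.N_le_U hdN)
    have h2 : y * d * y⁻¹ = d := by rw [hdC y hy]; group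
    rw [h2] at h1
    calc y * (k * d * k⁻¹) = (y * (k * d * k⁻¹) * y⁻¹) * y := by group
      _ = k * d * k⁻¹ * y := by rw [h1]
  hfix := fun x hx hk => c.s3_N.hfix x (Subgroup.mem_inf.mp hx).1 hk

/-- `|C_D(a)| ≤ 2` -/
theorem C1Ctx.card_fix_D : Nat.card (fixOf (dOf Q A k) a) ≤ 2 := by
  apply c.card_fix_le_two c.s3_D (inf_le_left.trans c.N_le_T)
  intro x hx y hy
  exact ((Subgroup.mem_centralizer_iff.mp (Subgroup.mem_inf.mp hx).2) y hy).symm

/-- maximality of `A` on `N` -/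
theorem C1Ctx.card_B_mul :
    Nat.card ↥(A ⊓ Subgroup.centralizer (nOf Q k : Set G)) * Nat.card (nOf Q k) ≤
      2 * Nat.card A := by
  set B := A ⊓ Subgroup.centralizer (nOf Q k : Set G) with hB
  have hBN : ∀ x ∈ B, ∀ y ∈ nOf Q k, x * y = y * x := by
    intro x hx y hy
    exact ((Subgroup.mem_centralizer_iff.mp (Subgroup.mem_inf.mp hx).2) y hy).symm
  have hEA : IsElementaryAbelian 2 (B ⊔ nOf Q k) := by
    rw [Subgroup.sup_eq_closure]
    apply isElementaryAbelian_closure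
    · intro x hx y hy
      rcases hx with hx | hx <;> rcases hy with hy | hy
      · exact c.A_comm (Subgroup.mem_inf.mp hx).1 (Subgroup.mem_inf.mp hy).1
      · exact hBN x hx y hy
      · exact (hBN y hy x hx).symm
      · exact c.s3_N.comm x hx y hy
    · intro x hx
      rw [pow_two]
      rcases hx with hx | hx
      · exact c.A_sq (Subgroup.mem_inf.mp hx).1
      · exact c.s3_N.sq x hx
  have hle : B ⊔ nOf Q k ≤ T := sup_le (inf_le_left.trans c.hA.1) c.N_le_T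
  have hmax : Nat.card ↥(B ⊔ nOf Q k) ≤ Nat.card A := c.hA.2.2 _ hle hEA
  have hnorm : B ≤ Subgroup.normalizer (nOf Q k : Set G) := by
    intro x hx
    apply Subgroup.mem_normalizer_fintype
    intro y hy
    have : x * y * x⁻¹ = y := by rw [hBN x hx y hy]; group
    rw [this]; exact hy
  have hprod := Cfsg.Agent.Lib.Helper2.card_sup_mul_card_inf B (nOf Q k) hnorm
  have hinf : B ⊓ nOf Q k ≤ fixOf (dOf Q A k) a := by
    intro x hx
    obtain ⟨hxB, hxN⟩ := Subgroup.mem_inf.mp hx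
    have hxA : x ∈ A := (Subgroup.mem_inf.mp hxB).1
    rw [mem_fixOf]
    refine ⟨Subgroup.mem_inf.mpr ⟨hxN, ?_⟩, ?_⟩
    · rw [Subgroup.mem_centralizer_iff]
      intro y hy
      exact c.A_comm (Subgroup.mem_inf.mp hy).1 hxA
    · rw [c.A_comm c.haA hxA]; group
  have h2 : Nat.card ↥(B ⊓ nOf Q k) ≤ 2 := (Subgroup.card_le_of_le hinf).trans c.card_fix_D
  calc Nat.card B * Nat.card (nOf Q k)
      = Nat.card ↥(B ⊔ nOf Q k) * Nat.card ↥(B ⊓ nOf Q k) := hprod.symm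
    _ ≤ Nat.card A * 2 := Nat.mul_le_mul hmax h2
    _ = 2 * Nat.card A := by ring

/-- `A ∩ Q` normalizes `N₀ = C_N(a)` -/
theorem C1Ctx.A₁_le_normalizer :
    A ⊓ Q ≤ Subgroup.normalizer (fixOf (nOf Q k) a : Set G) := by
  intro x hx
  apply Subgroup.mem_normalizer_fintype
  intro n hn
  obtain ⟨hnN, hna⟩ := mem_fixOf.mp hn
  rw [SetLike.mem_coe, mem_fixOf]
  refine ⟨c.q_conj_N (Subgroup.mem_inf.mp hx).2 hnN, ?_⟩
  have hxa : a * x = x * a := c.A_comm c.haA (Subgroup.mem_inf.mp hx).1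
  calc a * (x * n * x⁻¹) * a⁻¹ = (a * x) * n * (a * x)⁻¹ := by group
    _ = (x * a) * n * (x * a)⁻¹ := by rw [hxa]
    _ = x * (a * n * a⁻¹) * x⁻¹ := by group
    _ = x * n * x⁻¹ := by rw [hna]

/-- faithfulness transfer: `C_{A∩Q}(N₀) ≤ C_A(N)` -/
theorem C1Ctx.centralizer_fix_le :
    (A ⊓ Q) ⊓ Subgroup.centralizer (fixOf (nOf Q k) a : Set G) ≤
      A ⊓ Subgroup.centralizer (nOf Q k : Set G) := by
  intro x hx
  obtain ⟨hxA₁, hxC⟩ := Subgroup.mem_inf.mp hx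
  refine Subgroup.mem_inf.mpr ⟨(Subgroup.mem_inf.mp hxA₁).1, ?_⟩
  rw [Subgroup.mem_centralizer_iff] at hxC ⊢
  intro n hn
  obtain ⟨y₁, hy₁, y₂, hy₂, rfl⟩ := c.s3_N.exists_decomp hn
  have h1 : x * y₁ * x⁻¹ = y₁ := by rw [← hxC y₁ hy₁]; group
  have h2 : x * y₂ * x⁻¹ = y₂ := by rw [← hxC y₂ hy₂]; group
  have h3 := c.conj_comm (Subgroup.mem_inf.mp hxA₁).2 (c.N_le_U (fixOf_le _ _ hy₂))
  rw [h2] at h3
  calc y₁ * (k * y₂ * k⁻¹) * x
      = (x * y₁ * x⁻¹)⁻¹⁻¹ * (k * y₂ * k⁻¹) * x := by rw [h1, inv_inv]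
    _ = x * (x⁻¹ * (x * y₁ * x⁻¹) * x) * x⁻¹ * (k * y₂ * k⁻¹) * x := by group
    _ = x * y₁ * x⁻¹ * (k * y₂ * k⁻¹) * x := by group
    _ = x * y₁ * x⁻¹ * (x * (k * y₂ * k⁻¹) * x⁻¹) * x := by rw [h3]
    _ = x * (y₁ * (k * y₂ * k⁻¹)) := by group

/-- `|C_N(a)| ≤ 2` -/
theorem C1Ctx.card_fix_N (hN : nOf Q k ≠ ⊥) : Nat.card (fixOf (nOf Q k) a) ≤ 2 := by
  have hcard := c.s3_N.card_eq
  set N₀ := fixOf (nOf Q k) a with hN₀
  have hN₀1 : N₀ ≠ ⊥ := by
    intro h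
    rw [h, Subgroup.card_bot, mul_one] at hcard
    exact hN (Subgroup.card_eq_one.mp hcard)
  have hE := lemmaE (E := A ⊓ Q)
    (fun x hx y hy => c.A_comm (Subgroup.mem_inf.mp hx).1 (Subgroup.mem_inf.mp hy).1)
    (isPGroup_two_of_sq (fun x hx => c.A_sq (Subgroup.mem_inf.mp hx).1))
    _ N₀ rfl hN₀1
    (fun x hx y hy => c.s3_N.comm x (fixOf_le _ _ hx) y (fixOf_le _ _ hy))
    (isPGroup_two_of_sq (fun x hx => c.s3_N.sq x (fixOf_le _ _ hx)))
    c.A₁_le_normalizer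
    (by
      refine (Subgroup.card_le_of_le ?_).trans c.card_fix_D
      intro x hx
      obtain ⟨hxN₀, hxC⟩ := Subgroup.mem_inf.mp hx
      obtain ⟨hxN, hxa⟩ := mem_fixOf.mp hxN₀
      rw [mem_fixOf]
      exact ⟨Subgroup.mem_inf.mpr ⟨hxN, hxC⟩, hxa⟩)
  have h1 := c.card_B_mul
  have h2 := c.card_A_le
  have h3 := Subgroup.card_le_of_le c.centralizer_fix_le
  set β := Nat.card ↥(A ⊓ Subgroup.centralizer (nOf Q k : Set G)) with hβ
  set γ := Nat.card ↥((A ⊓ Q) ⊓ Subgroup.centralizer (N₀ : Set G)) with hγ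
  set α := Nat.card ↥(A ⊓ Q) with hα
  set n₀ := Nat.card N₀ with hn₀
  have hβpos : 0 < β := Nat.card_pos
  have hn₀pos : 0 < n₀ := Nat.card_pos
  rw [hcard] at h1
  -- β * (n₀ * n₀) ≤ 2 |A| ≤ 4 α ≤ 2 n₀ γ ≤ 2 n₀ β
  have h4 : n₀ * (n₀ * β) ≤ 2 * (n₀ * β) := by
    calc n₀ * (n₀ * β) = β * (n₀ * n₀) := by ring
      _ ≤ 2 * Nat.card A := h1
      _ ≤ 2 * (2 * α) := Nat.mul_le_mul_left _ h2
      _ ≤ 2 * (n₀ * γ) := Nat.mul_le_mul_left _ hE
      _ ≤ 2 * (n₀ * β) := Nat.mul_le_mul_left _ (Nat.mul_le_mul_left _ h3)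
  exact Nat.le_of_mul_le_mul_right h4 (Nat.mul_pos hn₀pos hβpos)

/-- **the four-group lemma** -/
theorem C1Ctx.card_N (hN : nOf Q k ≠ ⊥) : Nat.card (nOf Q k) = 4 := by
  have h1 := c.card_fix_N hN
  have hcard := c.s3_N.card_eq
  have h2 : 1 < Nat.card (nOf Q k) := (Subgroup.one_lt_card_iff_ne_bot _).mpr hN
  have hpos : 0 < Nat.card (fixOf (nOf Q k) a) := Nat.card_pos
  have h3 : Nat.card (fixOf (nOf Q k) a) = 2 := by
    rcases Nat.lt_or_ge (Nat.card (fixOf (nOf Q k) a)) 2 with h | h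
    · have : Nat.card (fixOf (nOf Q k) a) = 1 := by omega
      rw [this] at hcard
      omega
    · omega
  rw [hcard, h3]

end main

end Cfsg.Agent.Lib.Helper7.JT
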