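import Mathlib
import Cfsg.Prelude.Def_JComponents
import Cfsg.Agent.Lib.Lead.Subnormalizer1
import Cfsg.Agent.Lib.Lead.CoprimeTools
import Cfsg.Agent.Lib.Helper6.JC.JC7
import Cfsg.Agent.Lib.Helper7.JT11

set_option autoImplicit false

namespace Cfsg.Agent.Lib.Helper7.JT

open Cfsg Cfsg.Agent.Lib.Helper9 Cfsg.Agent.Lib.Helper6 Cfsg.Agent.Lib.Helper6.JC
open Cfsg.Agent.Lib.Lead.Subnormalizer
open scoped commutatorElement

variable {G : Type*} [Group G] [Finite G] {T Q A : Subgroup G} {a k : G}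

/-- the four-group lemma context plus: `Q` is a 2-group and `k` acts nontrivially on `Ω₁Z(Q)` -/
structure C2Ctx (T Q A : Subgroup G) (a k : G) : Prop extends C1Ctx T Q A a k where
  hQ2 : IsPGroup 2 Q
  hkV : ∃ v ∈ omegaCenterOf Q, k * v * k⁻¹ ≠ v

section main
variable (c : C2Ctx T Q A a k)
include c

omit [Finite G] in
theorem C2Ctx.k_ne_one : k ≠ 1 := by
  obtain ⟨v, _, hv⟩ := c.hkV
  intro h
  apply hv
  rw [h]; group

theorem C2Ctx.k_not_mem : k ∉ Q := by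
  intro hk
  have hk3 : k ^ 3 = 1 := by rw [pow_succ, pow_two]; exact c.hk3
  obtain ⟨j, hj⟩ := (IsPGroup.iff_orderOf.mp c.hQ2) ⟨k, hk⟩
  have hj' : orderOf k = 2 ^ j := by
    rw [← hj]; exact (Subgroup.orderOf_mk k hk).symm
  have hd : orderOf k ∣ 3 := orderOf_dvd_of_pow_eq_one hk3
  rw [hj'] at hd
  have hj0 : j = 0 := by
    by_contra h0
    have h2 : 2 ∣ 2 ^ j := dvd_pow_self 2 h0
    have := h2.trans hd
    omega
  rw [hj0, pow_zero] at hj'
  exact c.k_ne_one (orderOf_eq_one_iff.mp hj')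

theorem C2Ctx.N_ne_bot : nOf Q k ≠ ⊥ := by
  obtain ⟨v, hv, hvk⟩ := c.hkV
  have hkn : k ∈ Subgroup.normalizer (Q : Set G) := c.hkN
  have hkin : k⁻¹ ∈ Subgroup.normalizer (Q : Set G) := Subgroup.inv_mem _ hkn
  have hv1 : k * v * k⁻¹ ∈ omegaCenterOf Q := conj_mem_omegaCenterOf hkn hv
  have hv2 : k⁻¹ * v * k ∈ omegaCenterOf Q := by
    have := conj_mem_omegaCenterOf hkin hv
    rwa [inv_inv] at this
  have hvQ : v ∈ Q := mem_of_mem_omegaCenterOf hv
  have hvv : v * v = 1 := mul_self_of_mem_omegaCenterOf hv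
  have hvi : v⁻¹ = v := inv_eq_of_mul_eq_one_left hvv
  set w := v * (k * v * k⁻¹) with hw
  have hwO : w ∈ omegaCenterOf Q := (omegaCenterOf Q).mul_mem hv hv1
  have hwQ : w ∈ Q := mem_of_mem_omegaCenterOf hwO
  have hww : w * w = 1 := mul_self_of_mem_omegaCenterOf hwO
  have hwi : w⁻¹ = w := inv_eq_of_mul_eq_one_left hww
  have hw1 : w ≠ 1 := by
    intro h
    apply hvk
    have : k * v * k⁻¹ = v⁻¹ := by
      calc k * v * k⁻¹ = v⁻¹ * (v * (k * v * k⁻¹)) := by group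
        _ = v⁻¹ := by rw [← hw, h, mul_one]
    rw [this, hvi]
  have hwK : w ∈ kOf Q k := by
    have h1 : v * k * v⁻¹ ∈ kOf Q k := c.toC1Ctx.q_conj_K hvQ (k_mem_kOf c.hk3)
    have h2 := (kOf Q k).mul_mem h1 ((kOf Q k).inv_mem (k_mem_kOf c.hk3))
    have e : v * k * v⁻¹ * k⁻¹ = w := by rw [hw, hvi]; group
    rwa [e] at h2
  have hwQK : w ∈ qkOf Q k := Subgroup.mem_inf.mpr ⟨hwK, hwQ⟩
  have hwU : w ∈ uOf Q k := by
    apply mem_omegaCenterOf hwQK _ hww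
    rw [Subgroup.mem_centralizer_iff]
    intro q hq
    exact comm_of_mem_omegaCenterOf hwO (Subgroup.mem_inf.mp hq).2
  -- `⁅w, k⁆ ∈ N` is nontrivial
  have hn : ⁅w, k⁆ ∈ nOf Q k := Subgroup.commutator_mem_commutator hwU (k_mem_kOf c.hk3)
  intro hbot
  rw [hbot, Subgroup.mem_bot, commutatorElement_def] at hn
  -- so `k w k⁻¹ = w`
  have hkw : k * w * k⁻¹ = w := by
    have h1 : w * k * w⁻¹ = k := mul_inv_eq_one.mp hn
    have h2 : w * k = k * w := by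
      calc w * k = (w * k * w⁻¹) * w := by group
        _ = k * w := by rw [h1]
    calc k * w * k⁻¹ = (w * k) * k⁻¹ := by rw [h2]
      _ = w := by group
  have hkw' : k⁻¹ * w * k = w := by
    calc k⁻¹ * w * k = k⁻¹ * (k * w * k⁻¹) * k := by rw [hkw]
      _ = w := by group
  -- the norm of `w` is trivial
  have hcomm : ∀ x ∈ omegaCenterOf Q, ∀ y ∈ omegaCenterOf Q, x * y = y * x := fun x hx y hy =>
    comm_of_mem_omegaCenterOf hy (mem_of_mem_omegaCenterOf hx)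
  have hkinv : k⁻¹ = k * k := c.toC1Ctx.k_inv
  have e1 : k * w * k⁻¹ = (k * v * k⁻¹) * (k⁻¹ * v * k) := by
    rw [hw]
    calc k * (v * (k * v * k⁻¹)) * k⁻¹ = (k * v * k⁻¹) * ((k * k) * v * (k * k)⁻¹) := by group
      _ = (k * v * k⁻¹) * (k⁻¹ * v * k) := by rw [← hkinv]; group
  have e2 : k⁻¹ * w * k = (k⁻¹ * v * k) * v := by
    rw [hw]; group
  have hnorm : w * (k * w * k⁻¹) * (k⁻¹ * w * k) = 1 := by
    rw [e1, e2, hw]
    have s1 := mul_self_of_mem_omegaCenterOf hv1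
    have s2 := mul_self_of_mem_omegaCenterOf hv2
    calc v * (k * v * k⁻¹) * (k * v * k⁻¹ * (k⁻¹ * v * k)) * (k⁻¹ * v * k * v)
        = v * ((k * v * k⁻¹) * (k * v * k⁻¹)) * ((k⁻¹ * v * k) * (k⁻¹ * v * k)) * v := by group
      _ = 1 := by rw [s1, s2, mul_one, mul_one, hvv]
  rw [hkw, hkw', hww, one_mul] at hnorm
  exact hw1 hnorm

/-- `|W| = 4` for `W = [Ω₁Z(K ∩ Q), K]` -/
theorem C2Ctx.card_N : Nat.card (nOf Q k) = 4 := c.toC1Ctx.card_N c.N_ne_bot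

end main

end Cfsg.Agent.Lib.Helper7.JT
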