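import Mathlib
import Cfsg.Prelude.Def_JComponents
import Cfsg.Agent.Lib.Helper7.JT12

set_option autoImplicit false

namespace Cfsg.Agent.Lib.Helper7.JT

open Cfsg Cfsg.Agent.Lib.Helper9 Cfsg.Agent.Lib.Helper6 Cfsg.Agent.Lib.Helper6.JC
open Cfsg.Agent.Lib.Lead.Subnormalizer
open scoped commutatorElement

variable {G : Type*} [Group G] [Finite G] {T Q A : Subgroup G} {a k : G}

section main
variable (c : C2Ctx T Q A a k)
include c

theorem C2Ctx.orderOf_k : orderOf k = 3 := by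
  haveI : Fact (Nat.Prime 3) := ⟨Nat.prime_three⟩
  apply orderOf_eq_prime
  · rw [pow_succ, pow_two]; exact c.hk3
  · exact c.k_ne_one

theorem C2Ctx.Y_le_normalizer : yOf Q k ≤ Subgroup.normalizer (Q : Set G) :=
  sup_le Subgroup.le_normalizer (Subgroup.zpowers_le.mpr c.hkN)

theorem C2Ctx.zpowers_inf : Subgroup.zpowers k ⊓ Q = ⊥ := by
  rw [eq_bot_iff]
  intro x hx
  obtain ⟨hxz, hxQ⟩ := Subgroup.mem_inf.mp hx
  obtain ⟨i, rfl⟩ := Subgroup.mem_zpowers_iff.mp hxz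
  rw [Subgroup.mem_bot]
  rcases zpow_cases c.hk3 i with h | h | h
  · exact h
  · rw [h] at hxQ; exact absurd hxQ c.k_not_mem
  · rw [h] at hxQ
    exact absurd (by simpa using Q.inv_mem hxQ) c.k_not_mem

theorem C2Ctx.card_Y : Nat.card (yOf Q k) = 3 * Nat.card Q := by
  have h1 := Cfsg.Agent.Lib.Helper2.card_sup_mul_card_inf (Subgroup.zpowers k) Q
    (Subgroup.zpowers_le.mpr c.hkN)
  rw [c.zpowers_inf, Subgroup.card_bot, mul_one, Nat.card_zpowers, c.orderOf_k, sup_comm] at h1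
  exact h1

/-- 2-subgroups of `Y` lie in `Q` -/
theorem C2Ctx.le_Q_of_isPGroup {P : Subgroup G} (hPY : P ≤ yOf Q k) (hP : IsPGroup 2 P) :
    P ≤ Q := by
  haveI : Fact (Nat.Prime 2) := ⟨Nat.prime_two⟩
  have hPQ : IsPGroup 2 (P ⊔ Q : Subgroup G) :=
    IsPGroup.to_sup_of_normal_right' hP c.hQ2 (hPY.trans c.Y_le_normalizer)
  obtain ⟨b, hb⟩ := hPQ.exists_card_eq
  obtain ⟨e, he⟩ := c.hQ2.exists_card_eq
  have hle : P ⊔ Q ≤ yOf Q k := sup_le hPY (le_yOf Q k)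
  have hdvd : Nat.card ↥(P ⊔ Q) ∣ Nat.card (yOf Q k) := Subgroup.card_dvd_of_le hle
  rw [c.card_Y, hb, he] at hdvd
  have hcop : Nat.Coprime (2 ^ b) 3 := Nat.Coprime.pow_left b (by norm_num)
  have hdvd2 : 2 ^ b ∣ 2 ^ e := hcop.dvd_of_dvd_mul_left hdvd
  have hcard : Nat.card ↥(P ⊔ Q) ≤ Nat.card Q := by
    rw [hb, he]; exact Nat.le_of_dvd (by positivity) hdvd2
  have heq : Q = P ⊔ Q := Subgroup.eq_of_le_of_card_ge le_sup_right hcard
  rw [heq]; exact le_sup_left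

theorem C2Ctx.K_le_normalizer_QK : kOf Q k ≤ Subgroup.normalizer (qkOf Q k : Set G) := by
  intro x hx
  apply Subgroup.mem_normalizer_fintype
  intro y hy
  obtain ⟨hyK, hyQ⟩ := Subgroup.mem_inf.mp hy
  refine Subgroup.mem_inf.mpr ⟨(kOf Q k).mul_mem ((kOf Q k).mul_mem hx hyK) ((kOf Q k).inv_mem hx), ?_⟩
  exact (Subgroup.mem_normalizer_iff.mp (c.Y_le_normalizer (kOf_le_yOf Q k hx)) y).mp hyQ

/-- `O₂(K) = K ∩ Q` -/
theorem C2Ctx.pCoreOf_K : pCoreOf 2 (kOf Q k) = qkOf Q k := by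
  apply le_antisymm
  · apply le_inf (pCoreOf_le _)
    exact c.le_Q_of_isPGroup ((pCoreOf_le _).trans (kOf_le_yOf Q k)) (pCoreOf_isPGroup 2 _)
  · exact le_pCoreOf inf_le_left (c.hQ2.to_le inf_le_right) c.K_le_normalizer_QK

theorem C2Ctx.relIndex_K : (pCoreOf 2 (kOf Q k)).relIndex (kOf Q k) = 3 := by
  rw [c.pCoreOf_K]
  unfold qkOf
  rw [Subgroup.inf_relIndex_left]
  have hKN : kOf Q k ≤ Subgroup.normalizer (Q : Set G) := (kOf_le_yOf Q k).trans c.Y_le_normalizer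
  rw [← Cfsg.Agent.Lib.Lead.relIndex_sup_of_le_normalizer (kOf Q k) Q hKN]
  have hsup : kOf Q k ⊔ Q = yOf Q k := by
    apply le_antisymm (sup_le (kOf_le_yOf Q k) (le_yOf Q k))
    unfold yOf
    apply sup_le le_sup_right
    rw [Subgroup.zpowers_le]
    exact (le_sup_left : kOf Q k ≤ kOf Q k ⊔ Q) (k_mem_kOf c.hk3)
  rw [hsup]
  have h1 := card_mul_relIndex' (le_yOf Q k)
  rw [c.card_Y] at h1
  have hpos : 0 < Nat.card Q := Nat.card_pos
  have h2 : Nat.card Q * Q.relIndex (yOf Q k) = Nat.card Q * 3 := by rw [h1]; ring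
  exact Nat.eq_of_mul_eq_mul_left hpos h2

omit [Finite G] in
theorem C2Ctx.closure_odd :
    Subgroup.closure {g : G | g ∈ kOf Q k ∧ Odd (orderOf g)} = kOf Q k := by
  apply le_antisymm
  · rw [Subgroup.closure_le]
    intro g hg
    exact hg.1
  · conv_lhs => unfold kOf
    apply Subgroup.closure_mono
    intro g hg
    exact ⟨Subgroup.subset_closure hg, hg.2⟩

theorem C2Ctx.wOf_K : wOf (kOf Q k) = nOf Q k := by
  unfold wOf
  rw [c.pCoreOf_K]
  rfl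

theorem C2Ctx.card_wOf : Nat.card (wOf (kOf Q k)) = 4 := by
  rw [c.wOf_K]; exact c.card_N

theorem C2Ctx.wOf_sq {w : G} (hw : w ∈ wOf (kOf Q k)) : w * w = 1 := by
  rw [c.wOf_K] at hw
  exact c.toC1Ctx.s3_N.sq w hw

end main

end Cfsg.Agent.Lib.Helper7.JT
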