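import Mathlib

set_option autoImplicit false

namespace Cfsg.Agent.Lib.Helper7.JT

variable {G : Type*} [Group G]

theorem normal_subgroupOf_of_conj {L C : Subgroup G}
    (hn : ∀ l ∈ L, ∀ x ∈ C, l * x * l⁻¹ ∈ C) : (C.subgroupOf L).Normal := by
  constructor
  intro n hn' g
  rw [Subgroup.mem_subgroupOf] at hn' ⊢
  simpa using hn g g.2 n hn'

theorem mk'_eq_one_iff {L C : Subgroup G} [(C.subgroupOf L).Normal] {x : G} (hx : x ∈ L) :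
    QuotientGroup.mk' (C.subgroupOf L) ⟨x, hx⟩ = 1 ↔ x ∈ C := by
  rw [QuotientGroup.mk'_apply, QuotientGroup.eq_one_iff, Subgroup.mem_subgroupOf]

/-- powers of an element of order dividing 3 by a power of 2 -/
theorem pow_two_pow_cases {Γ : Type*} [Group Γ] {y : Γ} (hy : y ^ 3 = 1) (m : ℕ) :
    y ^ 2 ^ m = y ∨ y ^ 2 ^ m = y⁻¹ := by
  induction m with
  | zero => left; simp
  | succ m ih =>
    have hy2 : y ^ 2 = y⁻¹ := by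
      have : y ^ 2 * y = 1 := by rw [← pow_succ]; exact hy
      exact eq_inv_of_mul_eq_one_left this
    rw [pow_succ, pow_mul]
    rcases ih with h | h
    · right; rw [h, hy2]
    · left; rw [h, inv_pow, hy2, inv_inv]

/-- **(K1)** construction of an element of order 3 inverted by `a` -/
theorem exists_k {L C Q : Subgroup G} {Γ : Type*} [Group Γ] (φ : ↥L →* Γ)
    (hker : ∀ x (hx : x ∈ L), φ ⟨x, hx⟩ = 1 ↔ x ∈ C)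
    (hQ2 : IsPGroup 2 Q) {a g : G} (haL : a ∈ L) (hgL : g ∈ L) (ha2 : a * a = 1)
    (hCa : ∀ c ∈ C, a * c * a⁻¹ * c⁻¹ ∈ Q)
    (hg3 : φ ⟨g, hgL⟩ ^ 3 = 1)
    (hag : φ ⟨a, haL⟩ * φ ⟨g, hgL⟩ * (φ ⟨a, haL⟩)⁻¹ = (φ ⟨g, hgL⟩)⁻¹) :
    ∃ k, ∃ hkL : k ∈ L, k * k * k = 1 ∧ a * k * a⁻¹ = k⁻¹ ∧
      (φ ⟨k, hkL⟩ = φ ⟨g, hgL⟩ ∨ φ ⟨k, hkL⟩ = (φ ⟨g, hgL⟩)⁻¹) ∧
      k ∈ Subgroup.closure ({a, g * a * g⁻¹} : Set G) := by
  have hai : a⁻¹ = a := inv_eq_of_mul_eq_one_left ha2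
  set x := a * (g * a * g⁻¹) with hx
  have hxL : x ∈ L := L.mul_mem haL (L.mul_mem (L.mul_mem hgL haL) (L.inv_mem hgL))
  have hax : a * x * a⁻¹ = x⁻¹ := by
    rw [hx]
    calc a * (a * (g * a * g⁻¹)) * a⁻¹ = (a * a) * (g * a * g⁻¹) * a⁻¹ := by group
      _ = (g * a * g⁻¹) * a := by rw [ha2, one_mul, hai]
      _ = (a * (g * a * g⁻¹))⁻¹ := by
        have : (a * (g * a * g⁻¹))⁻¹ = g * a⁻¹ * g⁻¹ * a⁻¹ := by group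
        rw [this, hai]
  have hxcl : x ∈ Subgroup.closure ({a, g * a * g⁻¹} : Set G) :=
    Subgroup.mul_mem _ (Subgroup.subset_closure (by simp)) (Subgroup.subset_closure (by simp))
  have haxn : ∀ n : ℕ, a * x ^ n * a⁻¹ = (x ^ n)⁻¹ := by
    intro n
    have : a * x ^ n * a⁻¹ = (a * x * a⁻¹) ^ n := by
      rw [conj_pow]
    rw [this, hax, inv_pow]
  -- the image of `x`
  have hφa2 : φ ⟨a, haL⟩ * φ ⟨a, haL⟩ = 1 := by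
    rw [← map_mul]
    have : (⟨a, haL⟩ : ↥L) * ⟨a, haL⟩ = 1 := Subtype.ext ha2
    rw [this, map_one]
  have hφai : (φ ⟨a, haL⟩)⁻¹ = φ ⟨a, haL⟩ := inv_eq_of_mul_eq_one_left hφa2
  have hφx : φ ⟨x, hxL⟩ = φ ⟨g, hgL⟩ := by
    have e : (⟨x, hxL⟩ : ↥L) = ⟨a, haL⟩ * (⟨g, hgL⟩ * ⟨a, haL⟩ * ⟨g, hgL⟩⁻¹) := Subtype.ext (by simp [hx])
    rw [e, map_mul, map_mul, map_mul, map_inv]
    set α := φ ⟨a, haL⟩
    set γ := φ ⟨g, hgL⟩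
    have h1 : α * γ * α = γ⁻¹ := by rw [← hag, hφai]
    have hγ2 : γ⁻¹ * γ⁻¹ = γ := by
      have : γ * γ * γ = 1 := by rw [← pow_two, ← pow_succ]; exact hg3
      calc γ⁻¹ * γ⁻¹ = γ⁻¹ * γ⁻¹ * (γ * γ * γ) := by rw [this, mul_one]
        _ = γ := by group
    calc α * (γ * α * γ⁻¹) = (α * γ * α) * γ⁻¹ := by group
      _ = γ := by rw [h1, hγ2]
  have hx3C : x ^ 3 ∈ C := by
    rw [← hker _ (L.pow_mem hxL 3)]
    have : (⟨x ^ 3, L.pow_mem hxL 3⟩ : ↥L) = ⟨x, hxL⟩ ^ 3 := Subtype.ext (by simp)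
    rw [this, map_pow, hφx, hg3]
  have hx6Q : x ^ 6 ∈ Q := by
    have h1 := hCa _ hx3C
    rw [haxn 3] at h1
    have : (x ^ 3)⁻¹ * (x ^ 3)⁻¹ = (x ^ 6)⁻¹ := by
      rw [← mul_inv_rev, ← pow_add]
    rw [this] at h1
    simpa using Q.inv_mem h1
  obtain ⟨m, hm⟩ := (IsPGroup.iff_orderOf.mp hQ2) ⟨x ^ 6, hx6Q⟩
  have hpow : (x ^ 6) ^ 2 ^ m = 1 := by
    have h1 : (⟨x ^ 6, hx6Q⟩ : ↥Q) ^ 2 ^ m = 1 := by rw [← hm]; exact pow_orderOf_eq_one _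
    have := congrArg (fun y : ↥Q => (y : G)) h1
    simpa using this
  refine ⟨x ^ 2 ^ (m + 1), L.pow_mem hxL _, ?_, haxn _, ?_, Subgroup.pow_mem _ hxcl _⟩
  · calc x ^ 2 ^ (m + 1) * x ^ 2 ^ (m + 1) * x ^ 2 ^ (m + 1) = x ^ (3 * 2 ^ (m + 1)) := by
          rw [← pow_add, ← pow_add]; congr 1; ring
      _ = (x ^ 6) ^ 2 ^ m := by rw [← pow_mul]; congr 1; rw [pow_succ]; ring
      _ = 1 := hpow
  · have e : (⟨x ^ 2 ^ (m + 1), L.pow_mem hxL _⟩ : ↥L) = ⟨x, hxL⟩ ^ 2 ^ (m + 1) :=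
      Subtype.ext (by simp)
    rw [e, map_pow, hφx]
    exact pow_two_pow_cases hg3 (m + 1)

end Cfsg.Agent.Lib.Helper7.JT
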