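import Mathlib
import Cfsg.Agent.Lib.Helper7.JT14

set_option autoImplicit false

namespace Cfsg.Agent.Lib.Helper7.JT

variable {G : Type*} [Group G]

/-- the abstract computation behind (K3) -/
theorem sq_eq_one_of_invert {Γ : Type*} [Group Γ] {α σ κ₀ κ γ : Γ}
    (hασ : α * σ = σ * α) (hαγ : α * γ = γ * α) (hκγ : κ * γ = γ * κ)
    (hκ₀ : α * κ₀ * α⁻¹ = κ₀⁻¹) (hκ : α * κ * α⁻¹ = κ⁻¹) (hσ : σ * κ₀ * σ⁻¹ = γ * κ) :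
    γ * γ = 1 := by
  have h1 : α * (σ * κ₀ * σ⁻¹) * α⁻¹ = κ⁻¹ * γ⁻¹ := by
    calc α * (σ * κ₀ * σ⁻¹) * α⁻¹ = (α * σ) * κ₀ * (α * σ)⁻¹ := by group
      _ = (σ * α) * κ₀ * (σ * α)⁻¹ := by rw [hασ]
      _ = σ * (α * κ₀ * α⁻¹) * σ⁻¹ := by group
      _ = σ * κ₀⁻¹ * σ⁻¹ := by rw [hκ₀]
      _ = (σ * κ₀ * σ⁻¹)⁻¹ := by group
      _ = (γ * κ)⁻¹ := by rw [hσ]
      _ = κ⁻¹ * γ⁻¹ := by group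
  have h2 : α * (σ * κ₀ * σ⁻¹) * α⁻¹ = κ⁻¹ * γ := by
    have hκγ' : κ⁻¹ * γ = γ * κ⁻¹ := by
      calc κ⁻¹ * γ = κ⁻¹ * (γ * κ) * κ⁻¹ := by group
        _ = κ⁻¹ * (κ * γ) * κ⁻¹ := by rw [hκγ]
        _ = γ * κ⁻¹ := by group
    calc α * (σ * κ₀ * σ⁻¹) * α⁻¹ = α * (γ * κ) * α⁻¹ := by rw [hσ]
      _ = (α * γ) * κ * α⁻¹ := by group
      _ = (γ * α) * κ * α⁻¹ := by rw [hαγ]
      _ = γ * (α * κ * α⁻¹) := by group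
      _ = γ * κ⁻¹ := by rw [hκ]
      _ = κ⁻¹ * γ := hκγ'.symm
  have h3 : γ⁻¹ = γ := mul_left_cancel (h1.symm.trans h2)
  calc γ * γ = γ⁻¹ * γ := by rw [h3]
    _ = 1 := inv_mul_cancel γ

/-- **(K3)**, one step: if `s k s⁻¹ ≡ κ` modulo `C` with `κ ∈ {k, k⁻¹}`, then modulo `Q` -/
theorem conj_mul_inv_mem {L C Q : Subgroup G} (hQL : Q ≤ L)
    (hQn : ∀ l ∈ L, ∀ x ∈ Q, l * x * l⁻¹ ∈ Q) {a k κ s : G}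
    (haL : a ∈ L) (hkL : k ∈ L) (hκL : κ ∈ L) (hsL : s ∈ L)
    (hak : a * k * a⁻¹ = k⁻¹) (haκ : a * κ * a⁻¹ = κ⁻¹)
    (has : a * s * a⁻¹ * s⁻¹ ∈ Q)
    (hCL : C ≤ L)
    (hCa : ∀ c ∈ C, a * c * a⁻¹ * c⁻¹ ∈ Q) (hCκ : ∀ c ∈ C, κ * c * κ⁻¹ * c⁻¹ ∈ Q)
    (hC2 : ∀ c ∈ C, c * c ∈ Q → c ∈ Q)
    (hc : s * k * s⁻¹ * κ⁻¹ ∈ C) : s * k * s⁻¹ * κ⁻¹ ∈ Q := by
  haveI : (Q.subgroupOf L).Normal := normal_subgroupOf_of_conj hQn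
  set ρ := QuotientGroup.mk' (Q.subgroupOf L) with hρ
  have hρ1 : ∀ {x : G} (hx : x ∈ L), ρ ⟨x, hx⟩ = 1 ↔ x ∈ Q := fun hx => mk'_eq_one_iff hx
  set c := s * k * s⁻¹ * κ⁻¹ with hcdef
  have hcL : c ∈ L := hCL hc
  apply hC2 c hc
  have hccL : c * c ∈ L := L.mul_mem hcL hcL
  rw [← hρ1 hccL]
  have e : (⟨c * c, hccL⟩ : ↥L) = ⟨c, hcL⟩ * ⟨c, hcL⟩ := rfl
  rw [e, map_mul]
  -- commutation relations in the quotient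
  have comm_of : ∀ {x y : G} (hx : x ∈ L) (hy : y ∈ L), x * y * x⁻¹ * y⁻¹ ∈ Q →
      ρ ⟨x, hx⟩ * ρ ⟨y, hy⟩ = ρ ⟨y, hy⟩ * ρ ⟨x, hx⟩ := by
    intro x y hx hy hxy
    have h1 : ρ (⟨x, hx⟩ * ⟨y, hy⟩ * ⟨x, hx⟩⁻¹ * ⟨y, hy⟩⁻¹) = 1 := by
      have : (⟨x, hx⟩ * ⟨y, hy⟩ * ⟨x, hx⟩⁻¹ * ⟨y, hy⟩⁻¹ : ↥L) =
          ⟨x * y * x⁻¹ * y⁻¹, L.mul_mem (L.mul_mem (L.mul_mem hx hy) (L.inv_mem hx)) (L.inv_mem hy)⟩ := rfl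
      rw [this, hρ1]; exact hxy
    rw [map_mul, map_mul, map_mul, map_inv, map_inv] at h1
    calc ρ ⟨x, hx⟩ * ρ ⟨y, hy⟩
        = (ρ ⟨x, hx⟩ * ρ ⟨y, hy⟩ * (ρ ⟨x, hx⟩)⁻¹ * (ρ ⟨y, hy⟩)⁻¹) * ρ ⟨y, hy⟩ * ρ ⟨x, hx⟩ := by group
      _ = ρ ⟨y, hy⟩ * ρ ⟨x, hx⟩ := by rw [h1, one_mul]
  apply sq_eq_one_of_invert (α := ρ ⟨a, haL⟩) (σ := ρ ⟨s, hsL⟩) (κ₀ := ρ ⟨k, hkL⟩) (κ := ρ ⟨κ, hκL⟩)
  · exact comm_of haL hsL has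
  · exact comm_of haL hcL (hCa c hc)
  · exact comm_of hκL hcL (hCκ c hc)
  · rw [← map_inv, ← map_mul, ← map_inv, ← map_mul]
    congr 1
    exact Subtype.ext hak
  · rw [← map_inv, ← map_mul, ← map_inv, ← map_mul]
    congr 1
    exact Subtype.ext haκ
  · rw [← map_inv, ← map_mul, ← map_mul, ← map_mul]
    congr 1
    apply Subtype.ext
    simp only [Subgroup.coe_mul, Subgroup.coe_inv]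
    rw [hcdef]; group

end Cfsg.Agent.Lib.Helper7.JT
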