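import Mathlib
import Cfsg.Prelude.Def_JComponents
import Cfsg.Agent.Lib.Helper6.JL.JL3
import Cfsg.Agent.Lib.Helper7.JT13
import Cfsg.Agent.Lib.Helper7.JT15

set_option autoImplicit false

namespace Cfsg.Agent.Lib.Helper7.JT

open Cfsg Cfsg.Agent.Lib.Helper9 Cfsg.Agent.Lib.Helper6 Cfsg.Agent.Lib.Helper6.JC
open Cfsg.Agent.Lib.Helper6.JL Cfsg.Agent.Lib.Lead.Subnormalizer
open scoped commutatorElement

variable {G : Type*} [Group G] [Finite G]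

/-- the data supplied by the failure-of-factorization analysis of `L ∈ ℒ(T)` -/
structure KInput (T L A : Subgroup G) (a g : G) : Prop where
  ctx : LCtx T L
  hA : A ∈ maxEA 2 T
  haA : a ∈ A
  hidx : ∀ x ∈ A, x ∈ pCoreOf 2 L ∨ a * x ∈ pCoreOf 2 L
  hgL : g ∈ L
  hgC : g ∉ cOf L
  hg3 : g * g * g ∈ cOf L
  hag : a * g * a⁻¹ * g ∈ cOf L
  hsg : ∀ s ∈ thompsonSubgroupOf 2 T, s * g * s⁻¹ * g⁻¹ ∈ cOf L ∨ s * g * s⁻¹ * g ∈ cOf L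
  hJJ : ∀ s ∈ thompsonSubgroupOf 2 T, ∀ t ∈ thompsonSubgroupOf 2 T, s * t * s⁻¹ * t⁻¹ ∈ cOf L

/-- the output: an element `k` of order 3 inverted by `a` with `J(T)` normalizing `O₂(L)⟨k⟩` -/
structure KOut (T L A : Subgroup G) (a k : G) : Prop where
  ctx : LCtx T L
  c2 : C2Ctx T (pCoreOf 2 L) A a k
  hkL : k ∈ L
  hkC : k ∉ cOf L
  hkJ : k ∈ jOf L
  hJY : ∀ s ∈ thompsonSubgroupOf 2 T, s * k * s⁻¹ ∈ yOf (pCoreOf 2 L) k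

variable {T L A : Subgroup G} {a g : G}

theorem KInput.exists_out (i : KInput T L A a g) : ∃ k, KOut T L A a k := by
  have h := i.ctx
  set Q := pCoreOf 2 L with hQ
  set C := cOf L with hC
  have hAJ : A ≤ thompsonSubgroupOf 2 T := le_thompson_of_mem_maxEA i.hA
  have haJ : a ∈ thompsonSubgroupOf 2 T := hAJ i.haA
  have haT : a ∈ T := i.hA.1 i.haA
  have haL : a ∈ L := h.hTL haT
  have ha2 : a * a = 1 := by
    have := (isElementaryAbelian_iff_forall.mp i.hA.2.1).2 a i.haA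
    rwa [pow_two] at this
  have hai : a⁻¹ = a := inv_eq_of_mul_eq_one_left ha2
  have hCn : ∀ l ∈ L, ∀ x ∈ C, l * x * l⁻¹ ∈ C := fun l hl x hx => conj_mem_cOf hl hx
  haveI : (C.subgroupOf L).Normal := normal_subgroupOf_of_conj hCn
  set φ := QuotientGroup.mk' (C.subgroupOf L) with hφ
  have hker : ∀ x (hx : x ∈ L), φ ⟨x, hx⟩ = 1 ↔ x ∈ C := fun x hx => mk'_eq_one_iff hx
  have hg3 : φ ⟨g, i.hgL⟩ ^ 3 = 1 := by
    rw [← map_pow]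
    have e : (⟨g, i.hgL⟩ : ↥L) ^ 3 =
        ⟨g * g * g, L.mul_mem (L.mul_mem i.hgL i.hgL) i.hgL⟩ := by
      apply Subtype.ext
      simp only [Subgroup.coe_pow]
      rw [pow_succ, pow_two]
    rw [e, hker]; exact i.hg3
  have hag : φ ⟨a, haL⟩ * φ ⟨g, i.hgL⟩ * (φ ⟨a, haL⟩)⁻¹ = (φ ⟨g, i.hgL⟩)⁻¹ := by
    have h1 : φ (⟨a, haL⟩ * ⟨g, i.hgL⟩ * ⟨a, haL⟩⁻¹ * ⟨g, i.hgL⟩) = 1 := by
      have e : (⟨a, haL⟩ * ⟨g, i.hgL⟩ * ⟨a, haL⟩⁻¹ * ⟨g, i.hgL⟩ : ↥L) =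
          ⟨a * g * a⁻¹ * g, L.mul_mem (L.mul_mem (L.mul_mem haL i.hgL) (L.inv_mem haL)) i.hgL⟩ := rfl
      rw [e, hker]; exact i.hag
    rw [map_mul, map_mul, map_mul, map_inv] at h1
    exact eq_inv_of_mul_eq_one_left h1
  have hCa : ∀ c ∈ C, a * c * a⁻¹ * c⁻¹ ∈ Q := fun c hc => h.comm_T_cOf haT hc
  obtain ⟨k, hkL, hk3, hak, hφk, hkcl⟩ :=
    exists_k φ hker (pCoreOf_isPGroup 2 L) haL i.hgL ha2 hCa hg3 hag
  have hφg1 : φ ⟨g, i.hgL⟩ ≠ 1 := fun h1 => i.hgC ((hker g i.hgL).mp h1)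
  have hkC : k ∉ C := by
    intro hk
    have h1 := (hker k hkL).mpr hk
    rcases hφk with h2 | h2
    · exact hφg1 (h2 ▸ h1)
    · rw [h1] at h2
      exact hφg1 (inv_eq_one.mp h2.symm)
  -- membership of `k` in `J(L)` and in `N₀`
  have hgen : ∀ P : Subgroup G, a ∈ P → g * a * g⁻¹ ∈ P → k ∈ P := by
    intro P h1 h2
    have : Subgroup.closure ({a, g * a * g⁻¹} : Set G) ≤ P := by
      rw [Subgroup.closure_le]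
      intro x hx
      rcases hx with rfl | hx
      · exact h1
      · rw [Set.mem_singleton_iff] at hx; rw [hx]; exact h2
    exact this hkcl
  have hkJ : k ∈ jOf L := hgen _ (h.thompson_le_jOf haJ) (conj_mem_jOf i.hgL (h.thompson_le_jOf haJ))
  have hkN0 : k ∈ n0Of L := hgen _ (h.T_le_n0Of haT) (conj_mem_n0Of i.hgL (h.T_le_n0Of haT))
  have hQn : ∀ l ∈ L, ∀ x ∈ Q, l * x * l⁻¹ ∈ Q := fun l hl x hx => conj_mem_pCoreOf hl hx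
  have hc2 : C2Ctx T Q A a k := by
    refine { hQT := h.pCoreOf_le_T, hA := i.hA, haA := i.haA, hidx := i.hidx, haN := ?_, hkN := ?_,
             hk3 := hk3, hak := hak, hQ2 := pCoreOf_isPGroup 2 L, hkV := ?_ }
    · exact le_normalizer_pCoreOf 2 L haL
    · exact le_normalizer_pCoreOf 2 L hkL
    · by_contra hno
      push Not at hno
      apply hkC
      refine Subgroup.mem_inf.mpr ⟨hkL, ?_⟩
      rw [Subgroup.mem_centralizer_iff]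
      intro v hv
      have hvO : v ∈ omegaCenterOf Q := by
        apply mem_omegaCenterOf (h.vOf_le_pCoreOf hv)
        · rw [Subgroup.mem_centralizer_iff]
          intro q hq
          exact h.pCoreOf_comm_vOf hq hv
        · have := (isElementaryAbelian_iff_forall.mp h.vOf_isEA).2 v hv
          rwa [pow_two] at this
      have := hno v hvO
      calc v * k = (k * v * k⁻¹)⁻¹⁻¹ * k := by rw [this, inv_inv]
        _ = k * v := by group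
  refine ⟨k, h, hc2, hkL, hkC, hkJ, ?_⟩
  -- `J(T)` normalizes `Q⟨k⟩`
  intro s hs
  have hsT : s ∈ T := thompsonSubgroupOf_le 2 T hs
  have hsL : s ∈ L := h.hTL hsT
  have has : a * s * a⁻¹ * s⁻¹ ∈ Q := by
    rw [hQ, ← h.inf_cOf]
    refine Subgroup.mem_inf.mpr ⟨?_, i.hJJ a haJ s hs⟩
    exact T.mul_mem (T.mul_mem (T.mul_mem haT hsT) (T.inv_mem haT)) (T.inv_mem hsT)
  have hC2 : ∀ c ∈ C, c * c ∈ Q → c ∈ Q := by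
    intro c hc hcc
    haveI : Fact (Nat.Prime 2) := ⟨Nat.prime_two⟩
    obtain ⟨m, hm⟩ := (IsPGroup.iff_orderOf.mp (pCoreOf_isPGroup 2 L)) ⟨c * c, hcc⟩
    have hpow : (c * c) ^ 2 ^ m = 1 := by
      have h1 : (⟨c * c, hcc⟩ : ↥Q) ^ 2 ^ m = 1 := by rw [← hm]; exact pow_orderOf_eq_one _
      have := congrArg (fun y : ↥Q => (y : G)) h1
      simpa using this
    apply h.mem_pCoreOf_of_pow hc (n := m + 1)
    rw [pow_succ, mul_comm, pow_mul, pow_two]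
    exact hpow
  have hφs : φ ⟨s, hsL⟩ * φ ⟨g, i.hgL⟩ * (φ ⟨s, hsL⟩)⁻¹ = φ ⟨g, i.hgL⟩ ∨
      φ ⟨s, hsL⟩ * φ ⟨g, i.hgL⟩ * (φ ⟨s, hsL⟩)⁻¹ = (φ ⟨g, i.hgL⟩)⁻¹ := by
    rcases i.hsg s hs with h1 | h1
    · left
      have h2 : φ (⟨s, hsL⟩ * ⟨g, i.hgL⟩ * ⟨s, hsL⟩⁻¹ * ⟨g, i.hgL⟩⁻¹) = 1 := by
        have e : (⟨s, hsL⟩ * ⟨g, i.hgL⟩ * ⟨s, hsL⟩⁻¹ * ⟨g, i.hgL⟩⁻¹ : ↥L) =
            ⟨s * g * s⁻¹ * g⁻¹, L.mul_mem (L.mul_mem (L.mul_mem hsL i.hgL) (L.inv_mem hsL))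
              (L.inv_mem i.hgL)⟩ := rfl
        rw [e, hker]; exact h1
      rw [map_mul, map_mul, map_mul, map_inv, map_inv] at h2
      exact mul_inv_eq_one.mp h2
    · right
      have h2 : φ (⟨s, hsL⟩ * ⟨g, i.hgL⟩ * ⟨s, hsL⟩⁻¹ * ⟨g, i.hgL⟩) = 1 := by
        have e : (⟨s, hsL⟩ * ⟨g, i.hgL⟩ * ⟨s, hsL⟩⁻¹ * ⟨g, i.hgL⟩ : ↥L) =
            ⟨s * g * s⁻¹ * g, L.mul_mem (L.mul_mem (L.mul_mem hsL i.hgL) (L.inv_mem hsL))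
              i.hgL⟩ := rfl
        rw [e, hker]; exact h1
      rw [map_mul, map_mul, map_mul, map_inv] at h2
      exact eq_inv_of_mul_eq_one_left h2
  -- hence `s k s⁻¹ ≡ k^{±1}` modulo `C`
  have hφsk : φ ⟨s, hsL⟩ * φ ⟨k, hkL⟩ * (φ ⟨s, hsL⟩)⁻¹ = φ ⟨k, hkL⟩ ∨
      φ ⟨s, hsL⟩ * φ ⟨k, hkL⟩ * (φ ⟨s, hsL⟩)⁻¹ = (φ ⟨k, hkL⟩)⁻¹ := by
    rcases hφk with hk | hk <;> rcases hφs with hs' | hs'
    · left; rw [hk]; exact hs'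
    · right; rw [hk]; exact hs'
    · left
      rw [hk]
      calc φ ⟨s, hsL⟩ * (φ ⟨g, i.hgL⟩)⁻¹ * (φ ⟨s, hsL⟩)⁻¹
          = (φ ⟨s, hsL⟩ * φ ⟨g, i.hgL⟩ * (φ ⟨s, hsL⟩)⁻¹)⁻¹ := by group
        _ = (φ ⟨g, i.hgL⟩)⁻¹ := by rw [hs']
    · right
      rw [hk, inv_inv]
      calc φ ⟨s, hsL⟩ * (φ ⟨g, i.hgL⟩)⁻¹ * (φ ⟨s, hsL⟩)⁻¹
          = (φ ⟨s, hsL⟩ * φ ⟨g, i.hgL⟩ * (φ ⟨s, hsL⟩)⁻¹)⁻¹ := by group
        _ = φ ⟨g, i.hgL⟩ := by rw [hs', inv_inv]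
  have hkinvL : k⁻¹ ∈ L := L.inv_mem hkL
  rcases hφsk with h1 | h1
  · -- `s k s⁻¹ k⁻¹ ∈ C`
    have hc : s * k * s⁻¹ * k⁻¹ ∈ C := by
      have hmem : s * k * s⁻¹ * k⁻¹ ∈ L :=
        L.mul_mem (L.mul_mem (L.mul_mem hsL hkL) (L.inv_mem hsL)) hkinvL
      rw [← hker _ hmem]
      have e : (⟨s * k * s⁻¹ * k⁻¹, hmem⟩ : ↥L) = ⟨s, hsL⟩ * ⟨k, hkL⟩ * ⟨s, hsL⟩⁻¹ * ⟨k, hkL⟩⁻¹ := rfl
      rw [e, map_mul, map_mul, map_mul, map_inv, map_inv, h1, mul_inv_cancel]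
    have hq := conj_mul_inv_mem (pCoreOf_le L) hQn haL hkL hkL hsL hak hak has (cOf_le L) hCa
      (fun c hc => hkN0.2 c hc) hC2 hc
    have e : s * k * s⁻¹ = (s * k * s⁻¹ * k⁻¹) * k := by group
    rw [e]
    exact (yOf Q k).mul_mem (le_yOf Q k hq) (mem_yOf_self Q k)
  · -- `s k s⁻¹ k ∈ C`
    have hc : s * k * s⁻¹ * (k⁻¹)⁻¹ ∈ C := by
      rw [inv_inv]
      have hmem : s * k * s⁻¹ * k ∈ L :=
        L.mul_mem (L.mul_mem (L.mul_mem hsL hkL) (L.inv_mem hsL)) hkL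
      rw [← hker _ hmem]
      have e : (⟨s * k * s⁻¹ * k, hmem⟩ : ↥L) = ⟨s, hsL⟩ * ⟨k, hkL⟩ * ⟨s, hsL⟩⁻¹ * ⟨k, hkL⟩ := rfl
      rw [e, map_mul, map_mul, map_mul, map_inv, h1, inv_mul_cancel]
    have haκ : a * k⁻¹ * a⁻¹ = (k⁻¹)⁻¹ := by
      calc a * k⁻¹ * a⁻¹ = (a * k * a⁻¹)⁻¹ := by group
        _ = (k⁻¹)⁻¹ := by rw [hak]
    have hkN0' : k⁻¹ ∈ n0Of L := (n0Of L).inv_mem hkN0
    have hq := conj_mul_inv_mem (pCoreOf_le L) hQn haL hkL hkinvL hsL hak haκ has (cOf_le L) hCa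
      (fun c hc => hkN0'.2 c hc) hC2 hc
    have e : s * k * s⁻¹ = (s * k * s⁻¹ * (k⁻¹)⁻¹) * k⁻¹ := by group
    rw [e]
    exact (yOf Q k).mul_mem (le_yOf Q k hq) ((yOf Q k).inv_mem (mem_yOf_self Q k))

end Cfsg.Agent.Lib.Helper7.JT
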