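import Mathlib
import Cfsg.Prelude.Def_JComponents
import Cfsg.Agent.Lib.Helper9.Thompson
import Cfsg.Agent.Lib.Helper6.JC.JC1
import Cfsg.Agent.Lib.Helper6.SylowIdx
import Cfsg.Agent.Lib.Helper2.ThompsonOf
import Cfsg.Agent.Lib.Helper7.JT1

set_option autoImplicit false

namespace Cfsg.Agent.Lib.Helper7.JT

open Cfsg Cfsg.Agent.Lib.Helper9 Cfsg.Agent.Lib.Helper6 Cfsg.Agent.Lib.Helper6.JC

variable {G : Type*} [Group G] [Finite G]

omit [Finite G] in
theorem isPGroup_thompson {T : Subgroup G} (hT : IsPGroup 2 T) :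
    IsPGroup 2 (thompsonSubgroupOf 2 T) :=
  hT.to_le (thompsonSubgroupOf_le 2 T)

omit [Finite G] in
theorem isEA_zpowers {x : G} (hx : x ^ 2 = 1) : IsElementaryAbelian 2 (Subgroup.zpowers x) := by
  rw [isElementaryAbelian_iff_forall]
  constructor
  · intro a ha b hb
    obtain ⟨i, rfl⟩ := Subgroup.mem_zpowers_iff.mp ha
    obtain ⟨j, rfl⟩ := Subgroup.mem_zpowers_iff.mp hb
    exact zpow_mul_comm x i j
  · intro a ha
    obtain ⟨i, rfl⟩ := Subgroup.mem_zpowers_iff.mp ha
    rw [← zpow_natCast, ← zpow_mul, mul_comm, zpow_mul, zpow_natCast, hx, one_zpow]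

theorem thompson_ne_bot {T : Subgroup G} (hT : IsPGroup 2 T) (hT1 : T ≠ ⊥) :
    thompsonSubgroupOf 2 T ≠ ⊥ := by
  haveI : Fact (Nat.Prime 2) := ⟨Nat.prime_two⟩
  obtain ⟨k, hk⟩ := hT.exists_card_eq
  have hk0 : k ≠ 0 := by
    intro h0
    rw [h0, pow_zero] at hk
    exact hT1 (Subgroup.card_eq_one.mp hk)
  have hdvd : 2 ∣ Nat.card T := by rw [hk]; exact dvd_pow_self 2 hk0
  obtain ⟨x, hx⟩ := exists_prime_orderOf_dvd_card' (G := T) 2 hdvd
  have hx2 : (x : G) ^ 2 = 1 := by
    have : x ^ 2 = 1 := by rw [← hx]; exact pow_orderOf_eq_one x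
    have := congrArg (fun y : T => (y : G)) this
    simpa using this
  have hx1 : (x : G) ≠ 1 := by
    intro h1
    have : x = 1 := Subtype.ext h1
    rw [this, orderOf_one] at hx
    omega
  obtain ⟨A, hA⟩ := maxEA_nonempty T
  have hcard : Nat.card (Subgroup.zpowers (x : G)) ≤ Nat.card A :=
    hA.2.2 _ (Subgroup.zpowers_le.mpr x.2) (isEA_zpowers hx2)
  intro hbot
  have hAbot : A = ⊥ := by
    rw [eq_bot_iff, ← hbot]; exact le_thompson_of_mem_maxEA hA
  rw [hAbot, Subgroup.card_bot] at hcard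
  have : Subgroup.zpowers (x : G) = ⊥ :=
    Subgroup.card_eq_one.mp (le_antisymm hcard Nat.card_pos)
  rw [Subgroup.zpowers_eq_bot] at this
  exact hx1 this

omit [Finite G] in
theorem mem_conj_iff (H : Subgroup G) (c x : G) :
    x ∈ H.map (MulAut.conj c).toMonoidHom ↔ c⁻¹ * x * c ∈ H := by
  rw [Subgroup.mem_map_equiv, MulAut.conj_symm_apply]

theorem thompson_map_conj (P : Subgroup G) (c : G) :
    thompsonSubgroupOf 2 (P.map (MulAut.conj c).toMonoidHom) =
      (thompsonSubgroupOf 2 P).map (MulAut.conj c).toMonoidHom := by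
  symm
  apply Subgroup.eq_of_le_of_card_ge
  · exact thompson_conj_le P c c (Subgroup.map_mono (thompsonSubgroupOf_le 2 P))
  · rw [card_thompson_conj, Subgroup.card_map_of_injective (MulAut.conj c).injective]

theorem le_normalizer_thompson (T : Subgroup G) :
    Subgroup.normalizer (T : Set G) ≤ Subgroup.normalizer (thompsonSubgroupOf 2 T : Set G) :=
  Cfsg.Agent.Lib.Helper2.ThompsonOf.normalizer_le_normalizer_thompsonOf
    (thompsonSubgroupOf_le 2 T) le_rfl

/-- (A2) for `T ∈ 𝒯*(M)`: `N_G(J(T)) ≤ M`. -/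
theorem normalizer_thompson_le {M T : Subgroup G} (S : Sylow 2 G)
    (hMJ : Subgroup.normalizer (thompsonSubgroupOf 2 (S : Subgroup G) : Set G) ≤ M)
    (hT : T ∈ maxStraddlingTwoSubgroups M) :
    Subgroup.normalizer (thompsonSubgroupOf 2 T : Set G) ≤ M := by
  haveI : Fact (Nat.Prime 2) := ⟨Nat.prime_two⟩
  obtain ⟨hT2, hT1, hTM, -⟩ := hT.1
  by_contra hN
  have hNloc : IsTwoLocal (Subgroup.normalizer (thompsonSubgroupOf 2 T : Set G)) :=
    ⟨_, isPGroup_thompson hT2, thompson_ne_bot hT2 hT1, rfl⟩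
  by_cases hdvd : 2 ∣ T.relIndex M
  · obtain ⟨S₁, hlt, hS₁M, hS₁⟩ := exists_pGroup_lt_of_dvd_relIndex hTM hT2 hdvd
    obtain ⟨n, hnS, hnT, hnN⟩ := exists_mem_normalizer_not_mem hlt hS₁
    have hT₁S : T ⊔ Subgroup.zpowers n ≤ S₁ := sup_le hlt.le (Subgroup.zpowers_le.mpr hnS)
    have hT₁N : T ⊔ Subgroup.zpowers n ≤ Subgroup.normalizer (T : Set G) :=
      sup_le Subgroup.le_normalizer (Subgroup.zpowers_le.mpr hnN)
    have hT₁ : T ⊔ Subgroup.zpowers n ∈ straddlingTwoSubgroups M := by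
      refine ⟨hS₁.to_le hT₁S, ?_, hT₁S.trans hS₁M, _, hNloc,
        hT₁N.trans (le_normalizer_thompson T), hN⟩
      intro hbot
      apply hT1
      rw [eq_bot_iff, ← hbot]
      exact le_sup_left
    have := max_eq hT hT₁ le_sup_left
    apply hnT
    rw [← this]
    exact (le_sup_right : Subgroup.zpowers n ≤ _) (Subgroup.mem_zpowers n)
  · have hSN : (S : Subgroup G) ≤ Subgroup.normalizer (thompsonSubgroupOf 2 (S : Subgroup G) : Set G) :=
      Subgroup.le_normalizer.trans (le_normalizer_thompson _)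
    have hSM : (S : Subgroup G) ≤ M := hSN.trans hMJ
    obtain ⟨c, hcM, R, hRM, hR2, hTR, hScR⟩ :=
      exists_common_pGroup M T (S : Subgroup G) hTM hSM hT2 S.isPGroup'
    have hRT : R = T := eq_of_not_dvd_relIndex hTR hRM hR2 hdvd
    rw [hRT] at hScR
    have hcard : Nat.card T ≤ Nat.card ((S : Subgroup G).map (MulAut.conj c).toMonoidHom) := by
      rw [Subgroup.card_map_of_injective (MulAut.conj c).injective]
      obtain ⟨l, hl⟩ := hT2.exists_le_sylow
      obtain ⟨g, hg⟩ := MulAction.exists_smul_eq G l S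
      have h1 : Nat.card T ≤ Nat.card (l : Subgroup G) := Subgroup.card_le_of_le hl
      have h2 : Nat.card (l : Subgroup G) = Nat.card (S : Subgroup G) := by
        rw [← hg]
        exact (Sylow.card_eq_multiplicity _).trans (Sylow.card_eq_multiplicity _).symm
      omega
    have hTS : (S : Subgroup G).map (MulAut.conj c).toMonoidHom = T :=
      Subgroup.eq_of_le_of_card_ge hScR hcard
    apply hN
    intro x hx
    rw [← hTS, thompson_map_conj] at hx
    have hx' : c⁻¹ * x * c ∈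
        Subgroup.normalizer (thompsonSubgroupOf 2 (S : Subgroup G) : Set G) := by
      rw [Subgroup.mem_normalizer_iff]
      intro y
      have h1 := (Subgroup.mem_normalizer_iff.mp hx) (c * y * c⁻¹)
      rw [mem_conj_iff, mem_conj_iff] at h1
      have e1 : c⁻¹ * (c * y * c⁻¹) * c = y := by group
      have e2 : c⁻¹ * (x * (c * y * c⁻¹) * x⁻¹) * c = c⁻¹ * x * c * y * (c⁻¹ * x * c)⁻¹ := by
        group
      rw [e1, e2] at h1
      exact h1
    have h2 := hMJ hx'
    have h3 := M.mul_mem (M.mul_mem hcM h2) (M.inv_mem hcM)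
    have e3 : c * (c⁻¹ * x * c) * c⁻¹ = x := by group
    rw [e3] at h3
    exact h3

end Cfsg.Agent.Lib.Helper7.JT
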