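import Mathlib
import Cfsg.Prelude.Def_JComponents
import Cfsg.Agent.Lib.Lead.KS933
import Cfsg.Agent.Lib.Helper6.SylowIdx
import Cfsg.Agent.Lib.Helper7.JT2
import Cfsg.Agent.Lib.Helper7.JT16

set_option autoImplicit false

namespace Cfsg.Agent.Lib.Helper7.JT

open Cfsg Cfsg.Agent.Lib.Helper9 Cfsg.Agent.Lib.Helper6 Cfsg.Agent.Lib.Helper6.JC
open Cfsg.Agent.Lib.Helper6.JL Cfsg.Agent.Lib.Lead.Subnormalizer
open scoped commutatorElement

variable {G : Type*} [Group G] [Finite G]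

/-- a 2-subgroup `S` of `L` containing `J(T)` has `J(S) = J(T)` -/
theorem thompson_eq_of_le_of_lctx {T L S : Subgroup G} (h : LCtx T L) (hSL : S ≤ L)
    (hS2 : IsPGroup 2 S) (hJS : thompsonSubgroupOf 2 T ≤ S) :
    thompsonSubgroupOf 2 S = thompsonSubgroupOf 2 T := by
  obtain ⟨l, hl, hconj⟩ := h.exists_conj_le hSL hS2
  set T' := T.map (MulAut.conj l).toMonoidHom with hT'
  have hST' : S ≤ T' := by
    intro x hx
    rw [hT', mem_conj_iff]
    exact hconj x hx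
  have hJT' : thompsonSubgroupOf 2 T' = (thompsonSubgroupOf 2 T).map (MulAut.conj l).toMonoidHom :=
    thompson_map_conj T l
  obtain ⟨A, hA⟩ := maxEA_nonempty T
  have hA' : A.map (MulAut.conj l).toMonoidHom ∈ maxEA 2 T' :=
    maxEA_conj hA l l (Subgroup.map_mono hA.1)
  have ha : maxElemAbelianOrder T' = maxElemAbelianOrder T := by
    rw [maxElemAbelianOrder_eq hA', maxElemAbelianOrder_eq hA,
      Subgroup.card_map_of_injective (MulAut.conj l).injective]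
  have hle : thompsonSubgroupOf 2 T ≤ thompsonSubgroupOf 2 T' :=
    thompson_le_thompson (hJS.trans hST') ha.le
  have hcard : Nat.card (thompsonSubgroupOf 2 T') ≤ Nat.card (thompsonSubgroupOf 2 T) := by
    rw [hJT', Subgroup.card_map_of_injective (MulAut.conj l).injective]
  have heq : thompsonSubgroupOf 2 T = thompsonSubgroupOf 2 T' :=
    Subgroup.eq_of_le_of_card_ge hle hcard
  rw [heq]
  exact thompson_eq_of_between (heq ▸ hJS) hST'

variable {T L A : Subgroup G} {a k : G}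

section out
variable (o : KOut T L A a k)
include o

theorem KOut.Y_le_L : yOf (pCoreOf 2 L) k ≤ L :=
  sup_le (pCoreOf_le L) (Subgroup.zpowers_le.mpr o.hkL)

theorem KOut.K_le_L : kOf (pCoreOf 2 L) k ≤ L := (kOf_le_yOf _ _).trans o.Y_le_L

theorem KOut.a_mem_J : a ∈ thompsonSubgroupOf 2 T := le_thompson_of_mem_maxEA o.c2.hA o.c2.haA

/-- `J(T)` normalizes `K` -/
theorem KOut.J_conj_K {s : G} (hs : s ∈ thompsonSubgroupOf 2 T) {x : G}
    (hx : x ∈ kOf (pCoreOf 2 L) k) : s * x * s⁻¹ ∈ kOf (pCoreOf 2 L) k := by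
  have hsL : s ∈ L := o.ctx.hTL (thompsonSubgroupOf_le 2 T hs)
  apply conj_mem_kOf _ hx
  intro y hy
  exact conj_mem_yOf (fun q hq => conj_mem_pCoreOf hsL hq) (o.hJY s hs) hy

theorem KOut.commutator_le : ⁅kOf (pCoreOf 2 L) k, thompsonSubgroupOf 2 T⁆ ≤ kOf (pCoreOf 2 L) k := by
  rw [Subgroup.commutator_le]
  intro x hx s hs
  rw [commutatorElement_def]
  have h1 := o.J_conj_K hs ((kOf (pCoreOf 2 L) k).inv_mem hx)
  have e : x * s * x⁻¹ * s⁻¹ = x * (s * x⁻¹ * s⁻¹) := by group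
  rw [e]
  exact (kOf (pCoreOf 2 L) k).mul_mem hx h1

theorem KOut.k_mem_commutator : k ∈ ⁅kOf (pCoreOf 2 L) k, thompsonSubgroupOf 2 T⁆ := by
  have h1 : ⁅k, a⁆ ∈ ⁅kOf (pCoreOf 2 L) k, thompsonSubgroupOf 2 T⁆ :=
    Subgroup.commutator_mem_commutator (k_mem_kOf o.c2.hk3) o.a_mem_J
  have e : ⁅k, a⁆ = k⁻¹ := by
    rw [commutatorElement_def]
    calc k * a * k⁻¹ * a⁻¹ = k * (a * k * a⁻¹)⁻¹ := by group
      _ = k * k := by rw [o.c2.hak, inv_inv]
      _ = k⁻¹ := (o.c2.toC1Ctx.k_inv).symm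
  rw [e] at h1
  simpa using Subgroup.inv_mem _ h1

/-- `Y` normalizes `[K, J(T)]` -/
theorem KOut.Y_le_normalizer_commutator :
    yOf (pCoreOf 2 L) k ≤
      Subgroup.normalizer ((⁅kOf (pCoreOf 2 L) k, thompsonSubgroupOf 2 T⁆ : Subgroup G) : Set G) := by
  apply sup_le
  · intro q hq
    apply Subgroup.mem_normalizer_fintype
    intro x hx
    have hqT : q ∈ T := o.ctx.pCoreOf_le_T hq
    have hqN : q ∈ Subgroup.normalizer (thompsonSubgroupOf 2 T : Set G) :=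
      le_normalizer_thompson T (Subgroup.le_normalizer hqT)
    exact conj_mem_commutator (fun y hy => o.c2.toC1Ctx.q_conj_K hq hy)
      (fun s hs => (Subgroup.mem_normalizer_iff.mp hqN s).mp hs) hx
  · rw [Subgroup.zpowers_le]
    exact Cfsg.Agent.Lib.Lead.KS93.le_normalizer_commutator_self_left _ _ (k_mem_kOf o.c2.hk3)

theorem KOut.le_commutator : kOf (pCoreOf 2 L) k ≤ ⁅kOf (pCoreOf 2 L) k, thompsonSubgroupOf 2 T⁆ := by
  haveI : Fact (Nat.Prime 3) := ⟨Nat.prime_three⟩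
  haveI : Fact (Nat.Prime 2) := ⟨Nat.prime_two⟩
  set Q := pCoreOf 2 L with hQ
  set K' := ⁅kOf Q k, thompsonSubgroupOf 2 T⁆ with hK'
  conv_lhs => unfold kOf
  rw [Subgroup.closure_le]
  rintro g ⟨hgY, hgodd⟩
  -- `g` has order dividing 3
  obtain ⟨e, he⟩ := (pCoreOf_isPGroup 2 L).exists_card_eq
  have hcardY : Nat.card (yOf Q k) = 3 * 2 ^ e := by rw [o.c2.card_Y, he]
  have hg3 : orderOf g ∣ 3 := by
    have h1 : orderOf g ∣ Nat.card (yOf Q k) := by
      have := orderOf_dvd_natCard (⟨g, hgY⟩ : ↥(yOf Q k))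
      rwa [Subgroup.orderOf_mk] at this
    rw [hcardY] at h1
    have hcop : Nat.Coprime (orderOf g) (2 ^ e) :=
      Nat.Coprime.pow_right e (Nat.Coprime.symm (Nat.coprime_two_left.mpr hgodd))
    exact hcop.dvd_of_dvd_mul_right h1
  have hzg : IsPGroup 3 (Subgroup.zpowers g) := by
    rw [IsPGroup.iff_card, Nat.card_zpowers]
    rcases (Nat.dvd_prime Nat.prime_three).mp hg3 with h | h
    · exact ⟨0, by rw [h, pow_zero]⟩
    · exact ⟨1, by rw [h, pow_one]⟩
  have hzk : IsPGroup 3 (Subgroup.zpowers k) := by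
    rw [IsPGroup.iff_card, Nat.card_zpowers, o.c2.orderOf_k]
    exact ⟨1, by rw [pow_one]⟩
  obtain ⟨c, hcY, R, hRY, hR3, hkR, hgR⟩ := exists_common_pGroup (p := 3) (yOf Q k)
    (Subgroup.zpowers k) (Subgroup.zpowers g) (Subgroup.zpowers_le.mpr (mem_yOf_self Q k))
    (Subgroup.zpowers_le.mpr hgY) hzk hzg
  have hReq : Subgroup.zpowers k = R := by
    apply Subgroup.eq_of_le_of_card_ge hkR
    rw [Nat.card_zpowers, o.c2.orderOf_k]
    obtain ⟨j, hj⟩ := hR3.exists_card_eq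
    have h1 : Nat.card R ∣ Nat.card (yOf Q k) := Subgroup.card_dvd_of_le hRY
    rw [hj, hcardY] at h1
    have hcop : Nat.Coprime (3 ^ j) (2 ^ e) := Nat.Coprime.pow j e (by norm_num)
    have h2 : 3 ^ j ∣ 3 := hcop.dvd_of_dvd_mul_right h1
    rw [hj]
    exact Nat.le_of_dvd (by norm_num) h2
  have hcg : c * g * c⁻¹ ∈ K' := by
    have h1 : c * g * c⁻¹ ∈ R := hgR ⟨g, Subgroup.mem_zpowers g, by simp [MulAut.conj_apply]⟩
    rw [← hReq] at h1
    exact (Subgroup.zpowers_le.mpr o.k_mem_commutator) h1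
  have hcN := o.Y_le_normalizer_commutator ((yOf Q k).inv_mem hcY)
  have := (Subgroup.mem_normalizer_iff.mp hcN _).mp hcg
  have e2 : c⁻¹ * (c * g * c⁻¹) * c⁻¹⁻¹ = g := by group
  rwa [e2] at this

/-- **existence of a `J(T)`-component** -/
theorem KOut.isJComponent : IsJComponent T (kOf (pCoreOf 2 L) k) := by
  refine ⟨o.c2.closure_odd, le_antisymm o.commutator_le o.le_commutator, o.c2.relIndex_K, ?_,
    o.c2.card_wOf, fun w hw => o.c2.wOf_sq hw⟩
  intro S hS hJS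
  have hSL : S ≤ L := hS.1.trans
    (sup_le o.K_le_L ((thompsonSubgroupOf_le 2 T).trans o.ctx.hTL))
  exact thompson_eq_of_le_of_lctx o.ctx hSL hS.2.1 hJS

end out

end Cfsg.Agent.Lib.Helper7.JT
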