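import Mathlib
import Cfsg.Prelude.Def_Transfer
import Cfsg.Agent.Lib.Helper2.Basic
import Cfsg.Agent.Lib.Helper3.NormalSq2
import Cfsg.Agent.Lib.Helper6.ElemAb
import Cfsg.Agent.Lib.Helper7.JT2

set_option autoImplicit false

namespace Cfsg.Agent.Lib.Helper7.JT

open Cfsg Cfsg.Agent.Lib.Helper6

variable {Λ : Type*} [Group Λ]

/-- the elements of `⟨a⟩` for an involution `a` -/
theorem mem_zpowers_of_sq {a z : Λ} (ha : a * a = 1) (hz : z ∈ Subgroup.zpowers a) :
    z = 1 ∨ z = a := by
  obtain ⟨n, rfl⟩ := Subgroup.mem_zpowers_iff.mp hz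
  have h2 : a ^ (2 : ℤ) = 1 := by
    rw [zpow_ofNat, pow_two]; exact ha
  rcases Int.emod_two_eq_zero_or_one n with h | h
  · left
    have e : n = 2 * (n / 2) := by omega
    rw [e, zpow_mul, h2, one_zpow]
  · right
    have e : n = 2 * (n / 2) + 1 := by omega
    rw [e, zpow_add, zpow_mul, h2, one_zpow, one_mul, zpow_one]

/-- Thompson replacement for an offender of order 2: from a largest elementary abelian subgroup
`A₀` and an involution `a ∈ A₀` with `|V : C_V(a)| ≤ 2`, a largest elementary abelian subgroup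
`A ∋ a` with `|A : C_A(V)| = 2`. -/
theorem exists_good_pair [Finite Λ] {V A₀ : Subgroup Λ} {a : Λ}
    (hV : IsElementaryAbelian 2 V) (hA₀ : IsElementaryAbelian 2 A₀) (ha : a ∈ A₀)
    (haV : a ∉ Subgroup.centralizer (V : Set Λ))
    (h1 : Nat.card A₀ * Nat.card ↥(V ⊓ Subgroup.centralizer (A₀ : Set Λ)) ≤
      Nat.card ↥(A₀ ⊓ Subgroup.centralizer (V : Set Λ)) * Nat.card V)
    (h2 : Nat.card V ≤
      2 * Nat.card ↥(V ⊓ Subgroup.centralizer (Subgroup.zpowers a : Set Λ))) :
    ∃ A : Subgroup Λ, IsElementaryAbelian 2 A ∧ Nat.card A₀ ≤ Nat.card A ∧ a ∈ A ∧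
      A ≤ A₀ ⊔ V ∧
      ∀ x ∈ A, x ∈ Subgroup.centralizer (V : Set Λ) ∨ a * x ∈ Subgroup.centralizer (V : Set Λ) := by
  obtain ⟨hVc, hV2⟩ := isElementaryAbelian_iff_forall.mp hV
  obtain ⟨hAc, hA2⟩ := isElementaryAbelian_iff_forall.mp hA₀
  have haa : a * a = 1 := by rw [← pow_two]; exact hA2 a ha
  set Z := Subgroup.zpowers a with hZ
  set F := V ⊓ Subgroup.centralizer (Z : Set Λ) with hF
  set B := A₀ ⊓ Subgroup.centralizer (V : Set Λ) with hB
  set Y := F ⊔ B with hY
  have hZA₀ : Z ≤ A₀ := Subgroup.zpowers_le.mpr ha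
  have hZe : IsElementaryAbelian 2 Z := isEA_zpowers (by rw [pow_two]; exact haa)
  have hFe : IsElementaryAbelian 2 F := isElementaryAbelian_of_le hV inf_le_left
  have hBe : IsElementaryAbelian 2 B := isElementaryAbelian_of_le hA₀ inf_le_left
  have hFB : ∀ f ∈ F, ∀ b ∈ B, f * b = b * f := by
    intro f hf b hb
    exact (Subgroup.mem_centralizer_iff.mp hb.2 f hf.1)
  have hYe : IsElementaryAbelian 2 Y :=
    Cfsg.Agent.Lib.Helper3.NormalSq.isElementaryAbelian_sup hFe hBe hFB
  have hYZ : Y ≤ Subgroup.centralizer (Z : Set Λ) := by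
    apply sup_le
    · exact inf_le_right
    · intro b hb
      rw [Subgroup.mem_centralizer_iff]
      intro z hz
      exact hAc z (hZA₀ hz) b hb.1
  have hZY : ∀ z ∈ Z, ∀ y ∈ Y, z * y = y * z := by
    intro z hz y hy
    exact Subgroup.mem_centralizer_iff.mp (hYZ hy) z hz
  have hYV : Y ≤ Subgroup.centralizer (V : Set Λ) := by
    apply sup_le
    · intro f hf
      rw [Subgroup.mem_centralizer_iff]
      intro v hv
      exact hVc v hv f hf.1
    · exact inf_le_right
  set A := Z ⊔ Y with hA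
  have hAe : IsElementaryAbelian 2 A :=
    Cfsg.Agent.Lib.Helper3.NormalSq.isElementaryAbelian_sup hZe hYe hZY
  have hZn : Z ≤ Subgroup.normalizer (Y : Set Λ) := by
    intro z hz
    rw [Subgroup.mem_normalizer_iff]
    intro y
    constructor
    · intro hy
      have : z * y * z⁻¹ = y := by rw [hZY z hz y hy]; group
      rwa [this]
    · intro hy
      have h3 := hZY z hz _ hy
      have : y = z * y * z⁻¹ := by
        have h4 : z * (z * y * z⁻¹) = z * y := by rw [h3]; group
        exact (mul_left_cancel h4).symm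
      rwa [this]
  -- cardinalities
  have hZY0 : Z ⊓ Y = ⊥ := by
    rw [eq_bot_iff]
    intro x hx
    rcases mem_zpowers_of_sq haa hx.1 with h | h
    · rw [Subgroup.mem_bot]; exact h
    · exfalso
      apply haV
      rw [← h]; exact hYV hx.2
  have hcZ : Nat.card Z = 2 := by
    rw [hZ, Nat.card_zpowers]
    apply orderOf_eq_prime
    · rw [pow_two]; exact haa
    · intro h
      apply haV
      rw [h]; exact Subgroup.one_mem _
  have hcA : Nat.card A = 2 * Nat.card Y := by
    have := Cfsg.Agent.Lib.Helper2.card_sup_mul_card_inf Z Y hZn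
    rw [hZY0, Subgroup.card_bot, mul_one, hcZ] at this
    exact this
  have hFn : F ≤ Subgroup.normalizer (B : Set Λ) := by
    intro f hf
    rw [Subgroup.mem_normalizer_iff]
    intro b
    constructor
    · intro hb
      have : f * b * f⁻¹ = b := by rw [hFB f hf b hb]; group
      rwa [this]
    · intro hb
      have h3 := hFB f hf _ hb
      have : b = f * b * f⁻¹ := by
        have h4 : f * (f * b * f⁻¹) = f * b := by rw [h3]; group
        exact (mul_left_cancel h4).symm
      rwa [this]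
  have hcY : Nat.card Y * Nat.card ↥(F ⊓ B) = Nat.card F * Nat.card B :=
    Cfsg.Agent.Lib.Helper2.card_sup_mul_card_inf F B hFn
  have hFBle : F ⊓ B ≤ V ⊓ Subgroup.centralizer (A₀ : Set Λ) := by
    intro x hx
    refine Subgroup.mem_inf.mpr ⟨hx.1.1, ?_⟩
    rw [Subgroup.mem_centralizer_iff]
    intro y hy
    exact hAc y hy x hx.2.1
  have hle : Nat.card ↥(F ⊓ B) ≤ Nat.card ↥(V ⊓ Subgroup.centralizer (A₀ : Set Λ)) :=
    Subgroup.card_le_of_le hFBle
  have hpos : 0 < Nat.card ↥(V ⊓ Subgroup.centralizer (A₀ : Set Λ)) := Nat.card_pos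
  have hcard : Nat.card A₀ ≤ Nat.card A := by
    have e1 : Nat.card A₀ * Nat.card ↥(V ⊓ Subgroup.centralizer (A₀ : Set Λ)) ≤
        Nat.card A * Nat.card ↥(V ⊓ Subgroup.centralizer (A₀ : Set Λ)) := by
      calc Nat.card A₀ * Nat.card ↥(V ⊓ Subgroup.centralizer (A₀ : Set Λ))
          ≤ Nat.card B * Nat.card V := h1
        _ ≤ Nat.card B * (2 * Nat.card F) := Nat.mul_le_mul_left _ h2
        _ = 2 * (Nat.card F * Nat.card B) := by ring
        _ = 2 * (Nat.card Y * Nat.card ↥(F ⊓ B)) := by rw [hcY]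
        _ = Nat.card A * Nat.card ↥(F ⊓ B) := by rw [hcA]; ring
        _ ≤ Nat.card A * Nat.card ↥(V ⊓ Subgroup.centralizer (A₀ : Set Λ)) :=
            Nat.mul_le_mul_left _ hle
    exact Nat.le_of_mul_le_mul_right e1 hpos
  refine ⟨A, hAe, hcard, ?_, ?_, ?_⟩
  · exact (le_sup_left : Z ≤ A) (Subgroup.mem_zpowers a)
  · apply sup_le (hZA₀.trans le_sup_left)
    apply sup_le
    · exact inf_le_left.trans le_sup_right
    · exact inf_le_left.trans le_sup_left
  · intro x hx
    have hcoe := Subgroup.coe_mul_of_left_le_normalizer_right Z Y hZn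
    have hx' : x ∈ ((Z ⊔ Y : Subgroup Λ) : Set Λ) := hx
    rw [hcoe] at hx'
    obtain ⟨z, hz, y, hy, rfl⟩ := Set.mem_mul.mp hx'
    rcases mem_zpowers_of_sq haa hz with h | h
    · left
      rw [h, one_mul]; exact hYV hy
    · right
      rw [h, ← mul_assoc, haa, one_mul]; exact hYV hy

end Cfsg.Agent.Lib.Helper7.JT
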