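import Mathlib
import Cfsg.Agent.Lib.Helper6.JL.JL8
import Cfsg.Agent.Lib.Helper7.JT18

/-! The failure-of-factorization set-up for `L` with `LCtx T L`; minimal offenders inside the
image of a largest elementary abelian subgroup of `T`; good pairs. -/

set_option autoImplicit false

namespace Cfsg.Agent.Lib.Helper7.JT

open Cfsg Cfsg.Agent.Lib.Helper9 Cfsg.Agent.Lib.Helper6 Cfsg.Agent.Lib.Helper6.JC
open Cfsg.Agent.Lib.Helper6.JL
open Cfsg.Agent.Lib.Helper2.OmegaZ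
open Cfsg.Agent.Lib.Lead.KS93 Cfsg.Agent.Lib.Lead Cfsg.Agent.Lib.Lead.Holo
open scoped commutatorElement

universe u

variable {G : Type u} [Group G] [Finite G]

local instance instFactTwoJT : Fact (Nat.Prime 2) := ⟨Nat.prime_two⟩

local instance instVVNormalJT (L : Subgroup G) : (VV 2 ↥L).Normal := VV_normal

/-- the failure-of-factorization set-up in the holomorph of `V = VV 2 ↥L` -/
structure FFCtx (T L : Subgroup G) (H' Q' : Subgroup (Hol (VV 2 ↥L))) : Prop where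
  ctx : LCtx T L
  hVea : IsElementaryAbelian 2 (VV 2 ↥L)
  hH' : H' = (thompsonSubgroup 2 ↥L).map (psi (VV 2 ↥L))
  St : Setup 2 (VH (VV 2 ↥L)) H' Q'
  hS3 : H' = ⨆ A' : {A' : Subgroup (Hol (VV 2 ↥L)) // A' ≤ H' ∧
    IsBestOffenderOn 2 (VH (VV 2 ↥L)) A'}, (A' : Subgroup (Hol (VV 2 ↥L)))

theorem exists_ffCtx {T L : Subgroup G} (h : LCtx T L) :
    ∃ H' Q' : Subgroup (Hol (VV 2 ↥L)), FFCtx T L H' Q' := by
  have hVea : IsElementaryAbelian 2 (VV 2 ↥L) := isEA_of_le_omegaZ _ (VV_le_omegaZ h.hc')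
  have hC := pCore_quotient_centralizer_VV (G := ↥L) (p := 2)
  obtain ⟨H', Q', hH', St, hS3⟩ := exists_setup (VV 2 ↥L) hVea h.isPSolvable hC
  exact ⟨H', Q', h, hVea, hH', St, hS3⟩

variable {T L : Subgroup G} {H' Q' : Subgroup (Hol (VV 2 ↥L))}

theorem FFCtx.psi_mem_H' (c : FFCtx T L H' Q') {x : G} (hx : x ∈ jOf L) :
    psi (VV 2 ↥L) ⟨x, jOf_le L hx⟩ ∈ H' := by
  rw [c.hH']
  exact ⟨⟨x, jOf_le L hx⟩, (mem_jOf_iff (jOf_le L hx)).mp hx, rfl⟩

/-- the image of a largest elementary abelian subgroup of `T` lies in `H'` -/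
theorem FFCtx.map_le_H' (c : FFCtx T L H' Q') {A₀ : Subgroup G} (hA₀ : A₀ ∈ maxEA 2 T) :
    (A₀.subgroupOf L).map (psi (VV 2 ↥L)) ≤ H' := by
  rw [c.hH']; exact Subgroup.map_mono (le_sSup (c.ctx.maxEA_subgroupOf hA₀))

/-- the image of a largest elementary abelian subgroup of `T` is generated by minimal offenders -/
theorem FFCtx.map_le_iSup (c : FFCtx T L H' Q') {A₀ : Subgroup G} (hA₀ : A₀ ∈ maxEA 2 T) :
    (A₀.subgroupOf L).map (psi (VV 2 ↥L)) ≤
      ⨆ D : {D : Subgroup (Hol (VV 2 ↥L)) // MinOff 2 (VH (VV 2 ↥L)) H' D ∧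
        D ≤ (A₀.subgroupOf L).map (psi (VV 2 ↥L))}, (D : Subgroup (Hol (VV 2 ↥L))) := by
  classical
  by_cases hne : (A₀.subgroupOf L).map (psi (VV 2 ↥L)) = ⊥
  · rw [hne]; exact bot_le
  have hA0 := c.ctx.maxEA_subgroupOf hA₀
  have hbest : IsBestOffenderOn 2 (VH (VV 2 ↥L)) ((A₀.subgroupOf L).map (psi (VV 2 ↥L))) :=
    bestOffender_map (VV 2 ↥L) (Cfsg.Agent.S0606.result (VV 2 ↥L) c.hVea _ hA0)
  have hA'H := c.map_le_H' hA₀
  obtain ⟨n, B, hB, -, hsup⟩ := decomposition c.St _ _ rfl hA'H hbest hne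
  rw [← hsup]
  apply iSup_le
  intro i
  have M : MinOff 2 (VH (VV 2 ↥L)) H' (B i) :=
    ⟨(hB i).1.trans (hsup ▸ hA'H), (hB i).2.1, (hB i).2.2.1, (hB i).2.2.2⟩
  exact le_iSup_of_le ⟨B i, M, hsup ▸ (hB i).1⟩ le_rfl

/-- a good pair: `A` a largest elementary abelian subgroup of `T`, `a ∈ A` an involution whose
image generates the minimal offender `D`, with `|A : A ∩ O₂(L)| = 2` -/
structure GoodPair (T L : Subgroup G) (H' Q' : Subgroup (Hol (VV 2 ↥L))) (A : Subgroup G) (a : G)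
    (D : Subgroup (Hol (VV 2 ↥L))) : Prop where
  c : FFCtx T L H' Q'
  hA : A ∈ maxEA 2 T
  haA : a ∈ A
  hidx : ∀ x ∈ A, x ∈ pCoreOf 2 L ∨ a * x ∈ pCoreOf 2 L
  M : MinOff 2 (VH (VV 2 ↥L)) H' D
  haL : a ∈ L
  haD : psi (VV 2 ↥L) ⟨a, haL⟩ ∈ D
  ha1 : psi (VV 2 ↥L) ⟨a, haL⟩ ≠ 1

/-- every minimal offender inside the image of a largest elementary abelian subgroup of `T`
belongs to a good pair -/
theorem FFCtx.exists_goodPair (c : FFCtx T L H' Q') {A₀ : Subgroup G} (hA₀ : A₀ ∈ maxEA 2 T)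
    {D : Subgroup (Hol (VV 2 ↥L))} (M : MinOff 2 (VH (VV 2 ↥L)) H' D)
    (hD : D ≤ (A₀.subgroupOf L).map (psi (VV 2 ↥L))) :
    ∃ (A : Subgroup G) (a : G), GoodPair T L H' Q' A a D := by
  classical
  have h := c.ctx
  have hA0 := h.maxEA_subgroupOf hA₀
  obtain ⟨d, hd, hd1, hd2, hDall⟩ := MinOff.exists_gen c.St M
  obtain ⟨a', ha', hda⟩ := hD hd
  have hC := pCore_quotient_centralizer_VV (G := ↥L) (p := 2)
  have hA₀e : IsElementaryAbelian 2 (A₀.subgroupOf L) :=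
    isElementaryAbelian_subgroupOf hA₀.2.1 L
  have haV : a' ∉ Subgroup.centralizer ((VV 2 ↥L : Subgroup ↥L) : Set ↥L) := by
    intro hcon
    apply hd1
    rw [← hda]
    exact (psi_eq_one_iff (VV 2 ↥L) a').mpr hcon
  have h1 := card_le_of_maxEA (VV 2 ↥L) c.hVea h.isPSolvable hC hA0
  have hDz : D = (Subgroup.zpowers a').map (psi (VV 2 ↥L)) := by
    rw [MonoidHom.map_zpowers, hda]
    apply le_antisymm
    · intro x hx
      rcases hDall x hx with rfl | rfl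
      · exact Subgroup.one_mem _
      · exact Subgroup.mem_zpowers _
    · exact Subgroup.zpowers_le.mpr hd
  have h2 : Nat.card (VV 2 ↥L) ≤ 2 * Nat.card ↥((VV 2 ↥L) ⊓
      Subgroup.centralizer ((Subgroup.zpowers a' : Subgroup ↥L) : Set ↥L)) := by
    have h3 := card_mul_card_fix c.St _ D rfl M.hAH M.hA M.hA1
    rw [M.card c.St, card_VH] at h3
    rw [← h3, hDz, card_fix]
  obtain ⟨A', hA'e, hA'c, haA', hA'le, hA'idx⟩ :=
    exists_good_pair c.hVea hA₀e ha' haV h1 h2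
  have hVT : VV 2 ↥L ≤ T.subgroupOf L := by
    intro v hv
    rw [Subgroup.mem_subgroupOf]
    exact h.pCoreOf_le_T (h.vOf_le_pCoreOf ((mem_vOf_iff v.2).mpr hv))
  have hA'T : A' ≤ T.subgroupOf L := by
    apply hA'le.trans
    apply sup_le _ hVT
    intro x hx
    rw [Subgroup.mem_subgroupOf] at hx ⊢
    exact hA₀.1 hx
  have hAT : A'.map L.subtype ≤ T := by
    rintro _ ⟨x, hx, rfl⟩
    exact Subgroup.mem_subgroupOf.mp (hA'T hx)
  have hAe : IsElementaryAbelian 2 (A'.map L.subtype) := isElementaryAbelian_map hA'e _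
  have hcard : Nat.card A₀ ≤ Nat.card (A'.map L.subtype) := by
    rw [Cfsg.Agent.Lib.Helper9.card_map_subtype, ← Cfsg.Agent.Lib.Helper9.card_subgroupOf_of_le (hA₀.1.trans h.hTL)]
    exact hA'c
  have hA : A'.map L.subtype ∈ maxEA 2 T := maxEA_of_card_ge hA₀ hAT hAe hcard
  refine ⟨A'.map L.subtype, (a' : G), c, hA, ⟨a', haA', rfl⟩, ?_, M, a'.2, ?_, ?_⟩
  · rintro _ ⟨x, hx, rfl⟩
    have key : ∀ y : ↥L, y ∈ T.subgroupOf L →
        y ∈ Subgroup.centralizer ((VV 2 ↥L : Subgroup ↥L) : Set ↥L) → (y : G) ∈ pCoreOf 2 L := by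
      intro y hyT hy
      rw [← h.inf_cOf]
      refine Subgroup.mem_inf.mpr ⟨Subgroup.mem_subgroupOf.mp hyT, ?_⟩
      rw [mem_cOf_iff y.2]
      exact (psi_eq_one_iff (VV 2 ↥L) y).mpr hy
    rcases hA'idx x hx with hx' | hx'
    · left; exact key x (hA'T hx) hx'
    · right
      exact key (a' * x) ((T.subgroupOf L).mul_mem (hA'T haA') (hA'T hx)) hx'
  · rw [show (⟨(a' : G), a'.2⟩ : ↥L) = a' from rfl, hda]; exact hd
  · rw [show (⟨(a' : G), a'.2⟩ : ↥L) = a' from rfl, hda]; exact hd1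

end Cfsg.Agent.Lib.Helper7.JT
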