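import Mathlib
import Cfsg.Agent.Lib.Helper6.JL.JL8
import Cfsg.Agent.Lib.Lead.KS9310d
import Cfsg.Agent.Lib.Helper7.JT16
import Cfsg.Agent.Lib.Helper7.JT19

/-! The image of `J(T)` in the holomorph is abelian; from a good pair to the input of the
`K`-construction. -/

set_option autoImplicit false

namespace Cfsg.Agent.Lib.Helper7.JT

open Cfsg Cfsg.Agent.Lib.Helper9 Cfsg.Agent.Lib.Helper6 Cfsg.Agent.Lib.Helper6.JC
open Cfsg.Agent.Lib.Helper6.JL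
open Cfsg.Agent.Lib.Helper2.OmegaZ
open Cfsg.Agent.Lib.Lead.KS93 Cfsg.Agent.Lib.Lead Cfsg.Agent.Lib.Lead.Holo
open scoped commutatorElement

universe u

variable {G : Type u} [Group G] [Finite G]

local instance instFactTwoJT' : Fact (Nat.Prime 2) := ⟨Nat.prime_two⟩

local instance instVVNormalJT' (L : Subgroup G) : (VV 2 ↥L).Normal := VV_normal

variable {T L : Subgroup G} {H' Q' : Subgroup (Hol (VV 2 ↥L))}

/-- elements of minimal offenders are involutions or trivial -/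
theorem FFCtx.minOff_sq (c : FFCtx T L H' Q') {D : Subgroup (Hol (VV 2 ↥L))}
    (M : MinOff 2 (VH (VV 2 ↥L)) H' D) {d : Hol (VV 2 ↥L)} (hd : d ∈ D) : d * d = 1 := by
  obtain ⟨e, -, -, he2, hall⟩ := MinOff.exists_gen c.St M
  rcases hall d hd with rfl | rfl
  · simp
  · rw [← pow_two]; exact he2

/-- two minimal offenders inside the image of `T` commute -/
theorem FFCtx.minOff_comm (c : FFCtx T L H' Q') {D₁ D₂ : Subgroup (Hol (VV 2 ↥L))}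
    (M₁ : MinOff 2 (VH (VV 2 ↥L)) H' D₁) (M₂ : MinOff 2 (VH (VV 2 ↥L)) H' D₂)
    (h₁ : D₁ ≤ (T.subgroupOf L).map (psi (VV 2 ↥L)))
    (h₂ : D₂ ≤ (T.subgroupOf L).map (psi (VV 2 ↥L)))
    {d₁ d₂ : Hol (VV 2 ↥L)} (hd₁ : d₁ ∈ D₁) (hd₂ : d₂ ∈ D₂) : d₁ * d₂ = d₂ * d₁ := by
  have hs₁ := c.minOff_sq M₁ hd₁
  have hs₂ := c.minOff_sq M₂ hd₂
  have hi₁ : d₁⁻¹ = d₁ := inv_eq_of_mul_eq_one_left hs₁
  have hi₂ : d₂⁻¹ = d₂ := inv_eq_of_mul_eq_one_left hs₂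
  by_cases hE : ⁅Q', D₂⁆ ⊔ D₂ = ⁅Q', D₁⁆ ⊔ D₁
  · have he₁ : d₁ ∈ ⁅Q', D₁⁆ ⊔ D₁ := (le_sup_right : D₁ ≤ _) hd₁
    have he₂ : d₂ ∈ ⁅Q', D₁⁆ ⊔ D₁ := hE ▸ (le_sup_right : D₂ ≤ ⁅Q', D₂⁆ ⊔ D₂) hd₂
    have he : d₁ * d₂ ∈ ⁅Q', D₁⁆ ⊔ D₁ := Subgroup.mul_mem _ he₁ he₂
    have hP : IsPGroup 2 ((T.subgroupOf L).map (psi (VV 2 ↥L))) :=
      (c.ctx.hT2.comap_subtype).map _
    obtain ⟨n, hn⟩ := hP ⟨d₁ * d₂, Subgroup.mul_mem _ (h₁ hd₁) (h₂ hd₂)⟩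
    have hn' : (d₁ * d₂) ^ 2 ^ n = 1 := by
      have := congrArg Subtype.val hn
      simpa using this
    rcases MinOff.E_cases c.St M₁ he with h2 | h3
    · have h4 : d₁ * d₂ * (d₁ * d₂) = 1 := by rw [← pow_two]; exact h2
      have h5 : d₁ * d₂ = (d₁ * d₂)⁻¹ := (inv_eq_of_mul_eq_one_left h4).symm
      rw [h5, mul_inv_rev, hi₁, hi₂]
    · have h1 : d₁ * d₂ = 1 := eq_one_of_pow_of_pow (by decide) h3 hn'
      have h6 : d₁ = d₂ := by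
        have := eq_inv_of_mul_eq_one_left h1
        rw [this, hi₂]
      rw [h6]
  · have hcen := MinOff.block_commute c.hS3 c.St M₁ M₂ hE
    have he₁ : d₁ ∈ ⁅Q', D₁⁆ ⊔ D₁ := (le_sup_right : D₁ ≤ _) hd₁
    have he₂ : d₂ ∈ ⁅Q', D₂⁆ ⊔ D₂ := (le_sup_right : D₂ ≤ _) hd₂
    exact Subgroup.mem_centralizer_iff.mp (hcen he₂) d₁ he₁

/-- the set of the elements of the minimal offenders inside the image of `T` -/
def minOffSet (T L : Subgroup G) (H' : Subgroup (Hol (VV 2 ↥L))) : Set (Hol (VV 2 ↥L)) :=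
  {d | ∃ D : Subgroup (Hol (VV 2 ↥L)), MinOff 2 (VH (VV 2 ↥L)) H' D ∧
    D ≤ (T.subgroupOf L).map (psi (VV 2 ↥L)) ∧ d ∈ D}

theorem FFCtx.closure_comm (c : FFCtx T L H' Q') :
    Subgroup.closure (minOffSet T L H') ≤
      Subgroup.centralizer ((Subgroup.closure (minOffSet T L H') : Subgroup _) : Set _) := by
  rw [Subgroup.centralizer_closure, Subgroup.closure_le]
  rintro d₁ ⟨D₁, M₁, h₁, hd₁⟩
  rw [SetLike.mem_coe, Subgroup.mem_centralizer_iff]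
  rintro d₂ ⟨D₂, M₂, h₂, hd₂⟩
  exact (c.minOff_comm M₁ M₂ h₁ h₂ hd₁ hd₂).symm

/-- the image of a largest elementary abelian subgroup of `T` lies in the closure -/
theorem FFCtx.map_le_closure (c : FFCtx T L H' Q') {A₀ : Subgroup G} (hA₀ : A₀ ∈ maxEA 2 T) :
    (A₀.subgroupOf L).map (psi (VV 2 ↥L)) ≤ Subgroup.closure (minOffSet T L H') := by
  apply (c.map_le_iSup hA₀).trans
  apply iSup_le
  rintro ⟨D, M, hD⟩
  intro d hd
  apply Subgroup.subset_closure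
  refine ⟨D, M, hD.trans (Subgroup.map_mono ?_), hd⟩
  intro x hx
  rw [Subgroup.mem_subgroupOf] at hx ⊢
  exact hA₀.1 hx

/-- the image of `J(T)` lies in the closure -/
theorem FFCtx.psi_mem_closure (c : FFCtx T L H' Q') {s : G} (hs : s ∈ thompsonSubgroupOf 2 T)
    (hsL : s ∈ L) : psi (VV 2 ↥L) ⟨s, hsL⟩ ∈ Subgroup.closure (minOffSet T L H') := by
  have key : thompsonSubgroupOf 2 T ≤
      ((Subgroup.closure (minOffSet T L H')).comap (psi (VV 2 ↥L))).map L.subtype := by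
    rw [thompsonSubgroupOf_eq]
    apply sSup_le
    intro A₀ hA₀ x hx
    have hxL : x ∈ L := c.ctx.hTL (hA₀.1 hx)
    refine ⟨⟨x, hxL⟩, ?_, rfl⟩
    rw [SetLike.mem_coe, Subgroup.mem_comap]
    apply c.map_le_closure hA₀
    exact ⟨⟨x, hxL⟩, Subgroup.mem_subgroupOf.mpr hx, rfl⟩
  obtain ⟨y, hy, hys⟩ := key hs
  have : y = ⟨s, hsL⟩ := Subtype.ext hys
  rw [← this]
  exact hy

/-- `[J(T), J(T)] ≤ C_L(V)` -/
theorem FFCtx.comm_J (c : FFCtx T L H' Q') {s t : G} (hs : s ∈ thompsonSubgroupOf 2 T)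
    (ht : t ∈ thompsonSubgroupOf 2 T) : s * t * s⁻¹ * t⁻¹ ∈ cOf L := by
  have hsL : s ∈ L := c.ctx.hTL (thompsonSubgroupOf_le 2 T hs)
  have htL : t ∈ L := c.ctx.hTL (thompsonSubgroupOf_le 2 T ht)
  have h1 := c.psi_mem_closure hs hsL
  have h2 := c.psi_mem_closure ht htL
  have h3 := Subgroup.mem_centralizer_iff.mp (c.closure_comm h1) _ h2
  have hmem : s * t * s⁻¹ * t⁻¹ ∈ L :=
    L.mul_mem (L.mul_mem (L.mul_mem hsL htL) (L.inv_mem hsL)) (L.inv_mem htL)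
  rw [mem_cOf_iff hmem]
  have e : (⟨s * t * s⁻¹ * t⁻¹, hmem⟩ : ↥L) = ⟨s, hsL⟩ * ⟨t, htL⟩ * ⟨s, hsL⟩⁻¹ * ⟨t, htL⟩⁻¹ := rfl
  rw [e, map_mul, map_mul, map_mul, map_inv, map_inv, ← h3]
  group

end Cfsg.Agent.Lib.Helper7.JT
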