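import Mathlib
import Cfsg.Agent.Lib.Helper7.JT17
import Cfsg.Agent.Lib.Helper7.JT20

/-! From a good pair to the input of the `K`-construction; existence of a `J(T)`-component in
`L` when `J(T) ≰ O₂(L)`. -/

set_option autoImplicit false

namespace Cfsg.Agent.Lib.Helper7.JT

open Cfsg Cfsg.Agent.Lib.Helper9 Cfsg.Agent.Lib.Helper6 Cfsg.Agent.Lib.Helper6.JC
open Cfsg.Agent.Lib.Helper6.JL
open Cfsg.Agent.Lib.Helper2.OmegaZ
open Cfsg.Agent.Lib.Lead.KS93 Cfsg.Agent.Lib.Lead Cfsg.Agent.Lib.Lead.Holo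
open scoped commutatorElement

universe u

variable {G : Type u} [Group G] [Finite G]

local instance instFactTwoJT'' : Fact (Nat.Prime 2) := ⟨Nat.prime_two⟩

local instance instVVNormalJT'' (L : Subgroup G) : (VV 2 ↥L).Normal := VV_normal

variable {T L : Subgroup G} {H' Q' : Subgroup (Hol (VV 2 ↥L))} {A : Subgroup G} {a : G}
  {D : Subgroup (Hol (VV 2 ↥L))}

theorem GoodPair.exists_kinput (p : GoodPair T L H' Q' A a D) : ∃ g, KInput T L A a g := by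
  have c := p.c
  have h := c.ctx
  have M := p.M
  have St := c.St
  set d := psi (VV 2 ↥L) ⟨a, p.haL⟩ with hd
  have hdE : d ∈ ⁅Q', D⁆ ⊔ D := (le_sup_right : D ≤ _) p.haD
  have hd2 : d ^ 2 = 1 := by rw [pow_two]; exact c.minOff_sq M p.haD
  obtain ⟨-, ⟨φ⟩⟩ := M.iso St
  obtain ⟨u, hu3, hu1⟩ := exists_order_three_SL22
  set r : Hol (VV 2 ↥L) := ((φ.symm u : ↥(⁅Q', D⁆ ⊔ D)) : Hol (VV 2 ↥L)) with hr
  have hrE : r ∈ ⁅Q', D⁆ ⊔ D := (φ.symm u).2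
  have hr3 : r ^ 3 = 1 := by
    have : (φ.symm u) ^ 3 = 1 := by rw [← map_pow, hu3, map_one]
    simpa using congrArg Subtype.val this
  have hr1 : r ≠ 1 := by
    intro h0
    apply hu1
    have h1 : φ.symm u = 1 := Subtype.ext h0
    have := congrArg φ h1
    simpa using this
  have hrH : r ∈ H' := M.EA_le St hrE
  rw [c.hH'] at hrH
  obtain ⟨g', hg'J, hg'r⟩ := hrH
  have hgL : (g' : G) ∈ L := g'.2
  have hψg : psi (VV 2 ↥L) ⟨(g' : G), hgL⟩ = r := hg'r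
  have hdr : d * r * d⁻¹ = r⁻¹ := MinOff.E_invert St M hdE hrE hd2 p.ha1 hr3
  refine ⟨(g' : G), h, p.hA, p.haA, p.hidx, hgL, ?_, ?_, ?_, ?_, ?_⟩
  · intro hcon
    rw [mem_cOf_iff hgL, hψg] at hcon
    exact hr1 hcon
  · have hmem : (g' : G) * g' * g' ∈ L := L.mul_mem (L.mul_mem hgL hgL) hgL
    rw [mem_cOf_iff hmem]
    have e : (⟨(g' : G) * g' * g', hmem⟩ : ↥L) = g' * g' * g' := rfl
    rw [e, map_mul, map_mul, hg'r, ← pow_two, ← pow_succ]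
    exact hr3
  · have hmem : a * (g' : G) * a⁻¹ * g' ∈ L :=
      L.mul_mem (L.mul_mem (L.mul_mem p.haL hgL) (L.inv_mem p.haL)) hgL
    rw [mem_cOf_iff hmem]
    have e : (⟨a * (g' : G) * a⁻¹ * g', hmem⟩ : ↥L) = ⟨a, p.haL⟩ * g' * ⟨a, p.haL⟩⁻¹ * g' := rfl
    rw [e, map_mul, map_mul, map_mul, map_inv, hg'r, ← hd, hdr]
    group
  · intro s hs
    have hsL : s ∈ L := h.hTL (thompsonSubgroupOf_le 2 T hs)
    have hsH : psi (VV 2 ↥L) ⟨s, hsL⟩ ∈ H' := c.psi_mem_H' (h.thompson_le_jOf hs)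
    set σ := psi (VV 2 ↥L) ⟨s, hsL⟩ with hσ
    have hn := MinOff.H_le_normalizer_EA c.hS3 St M hsH
    have hcE : σ * r * σ⁻¹ ∈ ⁅Q', D⁆ ⊔ D := (Subgroup.mem_normalizer_iff.mp hn r).mp hrE
    have hc3 : (σ * r * σ⁻¹) ^ 3 = 1 := by rw [conj_pow, hr3]; group
    rcases MinOff.E_three St M hrE hcE hr3 hr1 hc3 with h1 | h1 | h1
    · exfalso
      apply hr1
      have : r = σ⁻¹ * (σ * r * σ⁻¹) * σ := by group
      rw [this, h1]; group
    · left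
      have hmem : s * (g' : G) * s⁻¹ * (g' : G)⁻¹ ∈ L :=
        L.mul_mem (L.mul_mem (L.mul_mem hsL hgL) (L.inv_mem hsL)) (L.inv_mem hgL)
      rw [mem_cOf_iff hmem]
      have e : (⟨s * (g' : G) * s⁻¹ * (g' : G)⁻¹, hmem⟩ : ↥L) =
          ⟨s, hsL⟩ * g' * ⟨s, hsL⟩⁻¹ * g'⁻¹ := rfl
      rw [e, map_mul, map_mul, map_mul, map_inv, map_inv, hg'r, ← hσ, h1]
      group
    · right
      have hmem : s * (g' : G) * s⁻¹ * (g' : G) ∈ L :=
        L.mul_mem (L.mul_mem (L.mul_mem hsL hgL) (L.inv_mem hsL)) hgL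
      rw [mem_cOf_iff hmem]
      have e : (⟨s * (g' : G) * s⁻¹ * (g' : G), hmem⟩ : ↥L) =
          ⟨s, hsL⟩ * g' * ⟨s, hsL⟩⁻¹ * g' := rfl
      rw [e, map_mul, map_mul, map_mul, map_inv, hg'r, ← hσ, h1, ← pow_succ]
      exact hr3
  · intro s hs t ht
    exact c.comm_J hs ht

/-- some largest elementary abelian subgroup of `T` is not inside `C_L(V)` -/
theorem exists_maxEA_not_le_cOf (h : LCtx T L)
    (hJ : ¬ thompsonSubgroupOf 2 T ≤ pCoreOf 2 L) : ∃ A₀ ∈ maxEA 2 T, ¬ A₀ ≤ cOf L := by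
  by_contra hcon
  push Not at hcon
  apply hJ
  rw [← h.inf_cOf]
  apply le_inf (thompsonSubgroupOf_le 2 T)
  rw [thompsonSubgroupOf_eq]
  exact sSup_le hcon

/-- existence of a good pair -/
theorem FFCtx.exists_goodPair' (c : FFCtx T L H' Q')
    (hJ : ¬ thompsonSubgroupOf 2 T ≤ pCoreOf 2 L) :
    ∃ (A : Subgroup G) (a : G) (D : Subgroup (Hol (VV 2 ↥L))), GoodPair T L H' Q' A a D := by
  obtain ⟨A₀, hA₀, hA₀C⟩ := exists_maxEA_not_le_cOf c.ctx hJ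
  have hne : ¬ (A₀.subgroupOf L).map (psi (VV 2 ↥L)) ≤ ⊥ := by
    intro hle
    apply hA₀C
    intro x hx
    have hxL : x ∈ L := c.ctx.hTL (hA₀.1 hx)
    rw [mem_cOf_iff hxL]
    have : psi (VV 2 ↥L) ⟨x, hxL⟩ ∈ (⊥ : Subgroup (Hol (VV 2 ↥L))) :=
      hle ⟨⟨x, hxL⟩, Subgroup.mem_subgroupOf.mpr hx, rfl⟩
    exact Subgroup.mem_bot.mp this
  obtain ⟨⟨D, M, hD⟩, -⟩ : ∃ D : {D : Subgroup (Hol (VV 2 ↥L)) // MinOff 2 (VH (VV 2 ↥L)) H' D ∧
      D ≤ (A₀.subgroupOf L).map (psi (VV 2 ↥L))}, True := by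
    by_contra hcon
    push Not at hcon
    apply hne
    apply (c.map_le_iSup hA₀).trans
    apply iSup_le
    intro D
    exact (hcon D).elim
  obtain ⟨A, a, hp⟩ := c.exists_goodPair hA₀ M hD
  exact ⟨A, a, D, hp⟩

/-- `L` contains a `J(T)`-component when `J(T) ≰ O₂(L)` -/
theorem exists_isJComponent_of_lctx (h : LCtx T L)
    (hJ : ¬ thompsonSubgroupOf 2 T ≤ pCoreOf 2 L) :
    ∃ K : Subgroup G, IsJComponent T K ∧ K ≤ L := by
  obtain ⟨H', Q', c⟩ := exists_ffCtx h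
  obtain ⟨A, a, D, hp⟩ := c.exists_goodPair' hJ
  obtain ⟨g, hi⟩ := hp.exists_kinput
  obtain ⟨k, ho⟩ := hi.exists_out
  exact ⟨kOf (pCoreOf 2 L) k, ho.isJComponent, ho.K_le_L⟩

end Cfsg.Agent.Lib.Helper7.JT
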