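import Mathlib
import Cfsg.Agent.Lib.Helper7.JT21

/-! A pair `(A, a)` with `|A : A ∩ C_L(V)| = 2` is a good pair. -/

set_option autoImplicit false

namespace Cfsg.Agent.Lib.Helper7.JT

open Cfsg Cfsg.Agent.Lib.Helper9 Cfsg.Agent.Lib.Helper6 Cfsg.Agent.Lib.Helper6.JC
open Cfsg.Agent.Lib.Helper6.JL
open Cfsg.Agent.Lib.Helper2.OmegaZ
open Cfsg.Agent.Lib.Lead.KS93 Cfsg.Agent.Lib.Lead Cfsg.Agent.Lib.Lead.Holo
open scoped commutatorElement

universe u

variable {G : Type u} [Group G] [Finite G]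

local instance instFactTwoJT3 : Fact (Nat.Prime 2) := ⟨Nat.prime_two⟩

local instance instVVNormalJT3 (L : Subgroup G) : (VV 2 ↥L).Normal := VV_normal

variable {T L : Subgroup G} {H' Q' : Subgroup (Hol (VV 2 ↥L))} {A : Subgroup G} {a : G}

theorem FFCtx.goodPair_of_good (c : FFCtx T L H' Q') (hA : A ∈ maxEA 2 T) (haA : a ∈ A)
    (haC : a ∉ cOf L) (hidx : ∀ x ∈ A, x ∈ cOf L ∨ a * x ∈ cOf L) :
    GoodPair T L H' Q' A a ((A.subgroupOf L).map (psi (VV 2 ↥L))) := by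
  classical
  have h := c.ctx
  have haL : a ∈ L := h.hTL (hA.1 haA)
  have haa : a * a = 1 := by
    have := (isElementaryAbelian_iff_forall.mp hA.2.1).2 a haA
    rwa [pow_two] at this
  set d := psi (VV 2 ↥L) ⟨a, haL⟩ with hd
  have hd1 : d ≠ 1 := fun h0 => haC ((mem_cOf_iff haL).mpr h0)
  have hdd : d * d = 1 := by
    rw [hd, ← map_mul]
    have : (⟨a, haL⟩ * ⟨a, haL⟩ : ↥L) = 1 := Subtype.ext haa
    rw [this, map_one]
  have hdi : d⁻¹ = d := inv_eq_of_mul_eq_one_left hdd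
  have hdD : d ∈ (A.subgroupOf L).map (psi (VV 2 ↥L)) :=
    ⟨⟨a, haL⟩, Subgroup.mem_subgroupOf.mpr haA, rfl⟩
  have hall : ∀ x ∈ (A.subgroupOf L).map (psi (VV 2 ↥L)), x = 1 ∨ x = d := by
    rintro _ ⟨y, hy, rfl⟩
    rw [SetLike.mem_coe, Subgroup.mem_subgroupOf] at hy
    rcases hidx _ hy with h1 | h1
    · left
      exact (mem_cOf_iff y.2).mp h1
    · right
      have hmem : a * (y : G) ∈ L := L.mul_mem haL y.2
      have h2 := (mem_cOf_iff hmem).mp h1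
      have e : (⟨a * (y : G), hmem⟩ : ↥L) = ⟨a, haL⟩ * y := rfl
      rw [e, map_mul, ← hd] at h2
      have h3 : psi (VV 2 ↥L) y = d⁻¹ := eq_inv_of_mul_eq_one_right h2
      rw [h3, hdi]
  have hA0 := h.maxEA_subgroupOf hA
  have hbest : IsBestOffenderOn 2 (VH (VV 2 ↥L)) ((A.subgroupOf L).map (psi (VV 2 ↥L))) :=
    bestOffender_map (VV 2 ↥L) (Cfsg.Agent.S0606.result (VV 2 ↥L) c.hVea _ hA0)
  have hne : (A.subgroupOf L).map (psi (VV 2 ↥L)) ≠ ⊥ := by
    intro h0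
    apply hd1
    have := hdD
    rw [h0, Subgroup.mem_bot] at this
    exact this
  have M : MinOff 2 (VH (VV 2 ↥L)) H' ((A.subgroupOf L).map (psi (VV 2 ↥L))) := by
    refine ⟨c.map_le_H' hA, hbest, hne, ?_⟩
    intro B hB _ hB1
    apply le_antisymm hB
    obtain ⟨b, hb, hb1⟩ : ∃ b ∈ B, b ≠ 1 := by
      by_contra hcon
      push Not at hcon
      exact hB1 ((Subgroup.eq_bot_iff_forall B).mpr hcon)
    have hbd : b = d := by
      rcases hall b (hB hb) with h1 | h1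
      · exact absurd h1 hb1
      · exact h1
    intro x hx
    rcases hall x hx with rfl | rfl
    · exact B.one_mem
    · rw [← hbd]; exact hb
  refine ⟨c, hA, haA, ?_, M, haL, hdD, hd1⟩
  intro x hx
  have hxT : x ∈ T := hA.1 hx
  rcases hidx x hx with h1 | h1
  · left
    rw [← h.inf_cOf]; exact Subgroup.mem_inf.mpr ⟨hxT, h1⟩
  · right
    rw [← h.inf_cOf]; exact Subgroup.mem_inf.mpr ⟨T.mul_mem (hA.1 haA) hxT, h1⟩

/-- the `K`-construction for a pair `(A, a)` with `|A : A ∩ C_L(V)| = 2` -/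
theorem exists_kOut_of_good (h : LCtx T L) (hA : A ∈ maxEA 2 T) (haA : a ∈ A)
    (haC : a ∉ cOf L) (hidx : ∀ x ∈ A, x ∈ cOf L ∨ a * x ∈ cOf L) :
    ∃ k, KOut T L A a k := by
  obtain ⟨H', Q', c⟩ := exists_ffCtx h
  obtain ⟨g, hi⟩ := (c.goodPair_of_good hA haA haC hidx).exists_kinput
  exact hi.exists_out

end Cfsg.Agent.Lib.Helper7.JT
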