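import Mathlib
import Cfsg.Prelude.Def_JComponents
import Cfsg.Agent.Lib.Helper6.JL.JL2
import Cfsg.Agent.Lib.Lead.Subnormalizer1
import Cfsg.Agent.Lib.Helper7.JT2

set_option autoImplicit false

namespace Cfsg.Agent.Lib.Helper7.JT

open Cfsg Cfsg.Agent.Lib.Helper9 Cfsg.Agent.Lib.Helper6 Cfsg.Agent.Lib.Helper6.JC
open Cfsg.Agent.Lib.Helper6.JL Cfsg.Agent.Lib.Lead.Subnormalizer

variable {G : Type*} [Group G] [Finite G]

/-- (A3) the first two conclusions of S2948 -/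
theorem thompson_eq_of_sylow {M T L T₀ : Subgroup G}
    (hNJ : Subgroup.normalizer (thompsonSubgroupOf 2 T : Set G) ≤ M)
    (hT : T ∈ maxStraddlingTwoSubgroups M) (hL2 : IsTwoLocal L) (hLM : ¬ L ≤ M)
    (hT₀ : IsSylowTwoIn T₀ L) (hJT₀ : thompsonSubgroupOf 2 T ≤ T₀) :
    thompsonSubgroupOf 2 T = thompsonSubgroupOf 2 T₀ ∧ T₀ ∈ straddlingTwoSubgroups M := by
  haveI : Fact (Nat.Prime 2) := ⟨Nat.prime_two⟩
  obtain ⟨hT2, hT1, hTM, -⟩ := hT.1
  obtain ⟨hT₀L, hT₀2, -⟩ := hT₀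
  set J := thompsonSubgroupOf 2 T with hJ
  set R := T₀ ⊓ Subgroup.normalizer (J : Set G) with hR
  have hJR : J ≤ R := le_inf hJT₀ Subgroup.le_normalizer
  have hJ1 : J ≠ ⊥ := thompson_ne_bot hT2 hT1
  have hRs : R ∈ straddlingTwoSubgroups M := by
    refine ⟨hT₀2.to_le inf_le_left, ?_, inf_le_right.trans hNJ, L, hL2,
      inf_le_left.trans hT₀L, hLM⟩
    intro hbot
    apply hJ1
    rw [eq_bot_iff, ← hbot]
    exact hJR
  obtain ⟨-, hJReq, -⟩ := max_key hT hRs hJR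
  have hRT₀ : R = T₀ := by
    by_contra hne
    have hlt : R < T₀ := lt_of_le_of_ne inf_le_left hne
    obtain ⟨n, hnT₀, hnR, hnN⟩ := exists_mem_normalizer_not_mem hlt hT₀2
    apply hnR
    refine ⟨hnT₀, ?_⟩
    have := le_normalizer_thompson R hnN
    rw [hJReq] at this
    exact this
  rw [hRT₀] at hJReq hRs
  exact ⟨hJReq.symm, hRs⟩

omit [Finite G] in
/-- (A4) 2-locals have characteristic 2 -/
theorem centralizer_pCoreOf_le {L : Subgroup G} (hL : IsCharacteristicTwoType G)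
    (hL2 : IsTwoLocal L) :
    Subgroup.centralizer (pCoreOf 2 L : Set G) ≤ pCoreOf 2 L := by
  obtain ⟨U, hU2, hU1, rfl⟩ := hL2
  have hUQ : U ≤ pCoreOf 2 (Subgroup.normalizer (U : Set G)) :=
    le_pCoreOf Subgroup.le_normalizer hU2 le_rfl
  intro x hx
  have hxL : x ∈ Subgroup.normalizer (U : Set G) := by
    apply Subgroup.centralizer_le_normalizer
    rw [Subgroup.mem_centralizer_iff]
    intro u hu
    exact (Subgroup.mem_centralizer_iff.mp hx) u (hUQ hu)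
  have h := hL.2 U hU2 hU1
  have hmem : (⟨x, hxL⟩ : ↥(Subgroup.normalizer (U : Set G))) ∈
      Subgroup.centralizer (pCore 2 ↥(Subgroup.normalizer (U : Set G)) :
        Set ↥(Subgroup.normalizer (U : Set G))) := by
    rw [Subgroup.mem_centralizer_iff]
    intro y hy
    apply Subtype.ext
    exact (Subgroup.mem_centralizer_iff.mp hx) (y : G) ⟨y, hy, rfl⟩
  exact ⟨⟨x, hxL⟩, h hmem, rfl⟩

theorem pCoreOf_le_of_isSylowTwoIn {T L : Subgroup G} (hT : IsSylowTwoIn T L) :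
    pCoreOf 2 L ≤ T := by
  haveI : Fact (Nat.Prime 2) := ⟨Nat.prime_two⟩
  obtain ⟨hTL, hT2, hodd⟩ := hT
  have hnd : ¬ 2 ∣ (T.subgroupOf L).index := by
    intro h
    exact (Nat.not_even_iff_odd.mpr hodd) (even_iff_two_dvd.mpr h)
  have hp : IsPGroup 2 (T.subgroupOf L) := hT2.comap_subtype
  have := pCoreOf_le_sylow_map L (hp.toSylow hnd)
  rw [IsPGroup.toSylow_coe, Subgroup.map_subgroupOf_eq_of_le hTL] at this
  exact this

/-- (A4') -/
theorem mem_jOvergroups {M T L T₀ : Subgroup G} (hL : IsCharacteristicTwoType G)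
    (hNJ : Subgroup.normalizer (thompsonSubgroupOf 2 T : Set G) ≤ M)
    (hL2 : IsTwoLocal L) (hLM : ¬ L ≤ M)
    (hT₀ : IsSylowTwoIn T₀ L) (hJ : thompsonSubgroupOf 2 T = thompsonSubgroupOf 2 T₀) :
    L ∈ jOvergroups T₀ := by
  refine ⟨hT₀, ?_, centralizer_pCoreOf_le hL hL2⟩
  intro hle
  apply hLM
  have hQT : pCoreOf 2 L ≤ T₀ := pCoreOf_le_of_isSylowTwoIn hT₀
  have h1 : thompsonSubgroupOf 2 (pCoreOf 2 L) = thompsonSubgroupOf 2 T₀ :=
    thompson_eq_of_between hle hQT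
  have h2 : L ≤ Subgroup.normalizer (thompsonSubgroupOf 2 T : Set G) := by
    rw [hJ, ← h1]
    exact (le_normalizer_pCoreOf 2 L).trans (le_normalizer_thompson _)
  exact h2.trans hNJ

/-- (A5) -/
theorem isSylowTwoIn_of_le {M T L : Subgroup G}
    (hNJ : Subgroup.normalizer (thompsonSubgroupOf 2 T : Set G) ≤ M)
    (hT : T ∈ maxStraddlingTwoSubgroups M) (hL2 : IsTwoLocal L) (hLM : ¬ L ≤ M) (hTL : T ≤ L) :
    IsSylowTwoIn T L := by
  haveI : Fact (Nat.Prime 2) := ⟨Nat.prime_two⟩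
  obtain ⟨hT2, hT1, hTM, -⟩ := hT.1
  have hp : IsPGroup 2 (T.subgroupOf L) := hT2.comap_subtype
  obtain ⟨P, hP⟩ := hp.exists_le_sylow
  set T₁ : Subgroup G := (P : Subgroup ↥L).map L.subtype with hT₁
  have hT₁L : T₁ ≤ L := Subgroup.map_subtype_le _
  have hTT₁ : T ≤ T₁ := by
    intro t ht
    exact ⟨⟨t, hTL ht⟩, hP (Subgroup.mem_subgroupOf.mpr ht), rfl⟩
  have hT₁S : IsSylowTwoIn T₁ L := by
    refine ⟨hT₁L, P.isPGroup'.map _, ?_⟩
    have h1 : T₁.relIndex L = (P : Subgroup ↥L).index := by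
      rw [Subgroup.relIndex, hT₁]
      congr 1
      ext x
      rw [Subgroup.mem_subgroupOf]
      constructor
      · rintro ⟨y, hy, hyx⟩
        have : y = x := Subtype.ext hyx
        rw [← this]; exact hy
      · intro hx; exact ⟨x, hx, rfl⟩
    rw [h1]
    have := P.not_dvd_index
    exact Nat.not_even_iff_odd.mp (fun h => this (even_iff_two_dvd.mp h))
  obtain ⟨-, hs⟩ := thompson_eq_of_sylow hNJ hT hL2 hLM hT₁S
    ((thompsonSubgroupOf_le 2 T).trans hTT₁)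
  have := max_eq hT hs hTT₁
  rw [this] at hT₁S
  exact hT₁S

end Cfsg.Agent.Lib.Helper7.JT
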