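import Mathlib
import Cfsg.Agent.Lib.Helper7.JT3
import Cfsg.Agent.Lib.Helper7.JT22
import Cfsg.Agent.Lib.Helper9.JU1

/-! Assembly for the existence of a `J(T)`-component outside `M`. -/

set_option autoImplicit false

namespace Cfsg.Agent.Lib.Helper7.JT

open Cfsg Cfsg.Agent.Lib.Helper9 Cfsg.Agent.Lib.Helper6 Cfsg.Agent.Lib.Helper6.JC
open Cfsg.Agent.Lib.Helper6.JL Cfsg.Agent.Lib.Lead.Subnormalizer
open scoped commutatorElement

universe u

variable {G : Type u} [Group G] [Finite G]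

variable {M T L A : Subgroup G} {a k : G}

/-- the component `K = O^2(O₂(L)⟨k⟩)` with `k ∉ M` belongs to `jComponentsOutside M T` -/
theorem KOut.mem_jComponentsOutside (o : KOut T L A a k)
    (hNJ : Subgroup.normalizer (thompsonSubgroupOf 2 T : Set G) ≤ M)
    (hT : T ∈ maxStraddlingTwoSubgroups M) (hkM : k ∉ M) :
    kOf (pCoreOf 2 L) k ∈ jComponentsOutside M T := by
  have h := o.ctx
  set K := kOf (pCoreOf 2 L) k with hKdef
  have hK : IsJComponent T K := o.isJComponent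
  have hkK : k ∈ K := k_mem_kOf o.c2.hk3
  have hKM : ¬ K ≤ M := fun hle => hkM (hle hkK)
  have hcard : Nat.card (wOf K) = 4 := hK.2.2.2.2.1
  haveI : Fact (Nat.Prime 2) := ⟨Nat.prime_two⟩
  have hW2 : IsPGroup 2 (wOf K) := IsPGroup.of_card (n := 2) (by rw [hcard]; norm_num)
  have hW1 : wOf K ≠ ⊥ := by
    intro h0
    rw [h0, Subgroup.card_bot] at hcard
    norm_num at hcard
  have hN2 : IsTwoLocal (Subgroup.normalizer (wOf K : Set G)) := ⟨wOf K, hW2, hW1, rfl⟩
  have hKN : K ≤ Subgroup.normalizer (wOf K : Set G) := by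
    apply le_normalizer_of_forall_conj_mem
    intro x hx w hw
    exact conj_mem_wOf (Subgroup.le_normalizer hx) hw
  have hNM : ¬ Subgroup.normalizer (wOf K : Set G) ≤ M := fun hle => hKM (hKN.trans hle)
  refine ⟨⟨hK, ?_⟩, hKM, ?_⟩
  · intro S' hJS hS'
    exact (thompson_eq_of_sylow hNJ hT hN2 hNM hS' hJS).1.symm
  · have hQK : pCoreOf 2 L ≤ pCoreOf 2 (K ⊔ T) := by
      apply le_pCoreOf (h.pCoreOf_le_T.trans le_sup_right) (pCoreOf_isPGroup 2 L)
      exact (sup_le o.K_le_L h.hTL).trans (le_normalizer_pCoreOf 2 L)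
    intro h0
    rw [h0, le_bot_iff] at hQK
    apply hT.1.2.1
    rw [eq_bot_iff]
    intro x hx
    have h1 : x ∈ Subgroup.centralizer ((pCoreOf 2 L : Subgroup G) : Set G) := by
      rw [hQK, Subgroup.mem_centralizer_iff]
      intro y hy
      rw [SetLike.mem_coe, Subgroup.mem_bot] at hy
      rw [hy]; simp
    have := h.hchar h1
    rwa [hQK] at this

/-- some `k` of the `K`-construction lies outside `M` -/
theorem exists_kOut_not_mem (h : LCtx T L)
    (hNJ : Subgroup.normalizer (thompsonSubgroupOf 2 T : Set G) ≤ M) (hLM : ¬ L ≤ M)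
    (hW4 : ∀ P : Subgroup G, cOf L ≤ P → thompsonSubgroupOf 2 T ≤ P →
      (∀ (a : G) (A : Subgroup G), A ∈ maxEA 2 T → a ∈ A → a ∉ cOf L →
        (∀ x ∈ A, x ∈ cOf L ∨ a * x ∈ cOf L) →
        ∃ g ∈ P, g ∈ jOf L ∧ g ∉ cOf L ∧ g ^ 3 ∈ cOf L ∧ a * g * a⁻¹ * g ∈ cOf L) → jOf L ≤ P) :
    ∃ (A : Subgroup G) (a k : G), KOut T L A a k ∧ k ∉ M := by
  by_contra hcon
  push Not at hcon
  apply hLM
  have hCM : cOf L ≤ M :=
    h.cOf_le_normalizer.trans ((le_normalizer_thompson T).trans hNJ)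
  have hJM : thompsonSubgroupOf 2 T ≤ M := Subgroup.le_normalizer.trans hNJ
  have hjM : jOf L ≤ M := by
    apply hW4 M hCM hJM
    intro a A hA haA haC hidx
    obtain ⟨k, ho⟩ := exists_kOut_of_good h hA haA haC hidx
    refine ⟨k, hcon A a k ho, ho.hkJ, ho.hkC, ?_, ?_⟩
    · have : k ^ 3 = 1 := by rw [pow_succ, pow_two]; exact ho.c2.hk3
      rw [this]; exact Subgroup.one_mem _
    · rw [ho.c2.hak, inv_mul_cancel]; exact Subgroup.one_mem _
  intro x hx
  obtain ⟨j, hj, n, -, hn, rfl⟩ := Cfsg.Agent.Lib.Helper9.JU.exists_jOf_mul_normalizer h hx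
  exact M.mul_mem (hjM hj) (hNJ hn)

end Cfsg.Agent.Lib.Helper7.JT
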