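import Mathlib
import Cfsg.Prelude.Def_JComponents
import Cfsg.Agent.Lib.Helper6.JL.JL2
import Cfsg.Agent.Lib.Helper7.JT3

set_option autoImplicit false

namespace Cfsg.Agent.Lib.Helper7.JT

open Cfsg Cfsg.Agent.Lib.Helper9 Cfsg.Agent.Lib.Helper6 Cfsg.Agent.Lib.Helper6.JC
open Cfsg.Agent.Lib.Helper6.JL Cfsg.Agent.Lib.Lead.Subnormalizer

variable {G : Type*} [Group G] [Finite G]

/-- (A6) the context of helper6's `JL` library for `L ∈ ℒ(T)` a 2-local -/
theorem lctx_of_jOvergroups {T L : Subgroup G}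
    (hN : ∀ N : Subgroup G, IsTwoLocal N → Group.IsSolvable ↥N)
    (hZ : ∀ S : Sylow 2 G, Subgroup.centralizer (omegaCenterOf (S : Subgroup G) : Set G) ≤
      Subgroup.normalizer ((S : Subgroup G) : Set G))
    (hL2 : IsTwoLocal L) (hLT : L ∈ jOvergroups T) : LCtx T L := by
  haveI : Fact (Nat.Prime 2) := ⟨Nat.prime_two⟩
  obtain ⟨hS, -, hchar⟩ := hLT
  have hQT : pCoreOf 2 L ≤ T := pCoreOf_le_of_isSylowTwoIn hS
  obtain ⟨hTL, hT2, hodd⟩ := hS
  refine ⟨hTL, hT2, hodd, hchar, hN L hL2, ?_⟩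
  obtain ⟨S', hS'⟩ := hT2.exists_le_sylow
  have hom : omegaCenterOf (S' : Subgroup G) ≤ omegaCenterOf T := by
    unfold omegaCenterOf omegaOne
    apply Subgroup.closure_mono
    rintro x ⟨⟨hxS, hxC⟩, hx2⟩
    have hxCT : x ∈ Subgroup.centralizer (T : Set G) := by
      rw [Subgroup.mem_centralizer_iff]
      intro t ht
      exact (Subgroup.mem_centralizer_iff.mp hxC) t (hS' ht)
    have hxQ : x ∈ pCoreOf 2 L := by
      apply hchar
      rw [Subgroup.mem_centralizer_iff]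
      intro q hq
      exact (Subgroup.mem_centralizer_iff.mp hxCT) q (hQT hq)
    exact ⟨⟨hQT hxQ, hxCT⟩, hx2⟩
  have hnd : ¬ 2 ∣ T.relIndex L := fun h =>
    (Nat.not_even_iff_odd.mpr hodd) (even_iff_two_dvd.mpr h)
  have hTeq : (S' : Subgroup G) ⊓ L = T :=
    eq_of_not_dvd_relIndex (le_inf hS' hTL) inf_le_right (S'.isPGroup'.to_le inf_le_left) hnd
  rintro x ⟨hxL, hxC⟩
  have hxN : x ∈ Subgroup.normalizer ((S' : Subgroup G) : Set G) := by
    apply hZ S'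
    rw [Subgroup.mem_centralizer_iff]
    intro z hz
    exact (Subgroup.mem_centralizer_iff.mp hxC) z (hom hz)
  rw [Subgroup.mem_normalizer_iff]
  intro y
  rw [← hTeq, Subgroup.mem_inf, Subgroup.mem_inf, ← (Subgroup.mem_normalizer_iff.mp hxN) y]
  constructor
  · rintro ⟨h1, h2⟩
    exact ⟨h1, L.mul_mem (L.mul_mem hxL h2) (L.inv_mem hxL)⟩
  · rintro ⟨h1, h2⟩
    refine ⟨h1, ?_⟩
    have := L.mul_mem (L.mul_mem (L.inv_mem hxL) h2) hxL
    have e : x⁻¹ * (x * y * x⁻¹) * x = y := by group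
    rwa [e] at this

end Cfsg.Agent.Lib.Helper7.JT
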