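import Mathlib
import Cfsg.Prelude.Def_Blocks
import Cfsg.Agent.Lib.Helper8.BlockLocal
import Cfsg.Agent.Lib.Lead.BrandtDefs
import Cfsg.Agent.Lib.Helper7.Brandt_B2
import Cfsg.Agent.Lib.Helper8.Brandt_B4

/-! S4648 swarm, package G3 (helper7): `dim Z(kG) ε ≤ n` when `|B| = n`
(the `Fin (n + 1)` version of Helper8's `no_three_indep_aux` / `no_three_indep`). -/

set_option autoImplicit false
set_option linter.unusedSectionVars false

open Cfsg Cfsg.Agent.Lib.Helper8
open scoped ComplexConjugate

namespace Cfsg.Agent.Lib.Helper7.KulsG3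

open Cfsg.Agent.Lib.Lead.Brandt

variable {M : Ideal AlgInt} {G : Type*} [Group G] [Fintype G]

/-- the general-`n` version of `no_three_indep_aux`, with B2's lifting lemma built in -/
theorem no_indep_of_card' {p : ℕ} (hM : IsPModular p M) {k : Type*} [Field k]
    (res : ↥(localRing M (isPModular_isPrime hM)) →+* k)
    (hres : Function.Surjective res) {B : Set (IrrCharacter G)} (n : ℕ) (hcard : Nat.card B = n)
    (eB : MonoidAlgebra ↥(localRing M (isPModular_isPrime hM)) G)
    (heB : ∀ g, ((eB.coeff g : ↥(localRing M (isPModular_isPrime hM))) : ℂ) = blockCoeff B g)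
    (z : Fin (n + 1) → MonoidAlgebra k G) (hz : ∀ i x, z i * x = x * z i)
    (hzε : ∀ i, z i * MonoidAlgebra.mapRingHom G res eB = z i) :
    ¬ LinearIndependent k z := by
  classical
  have : Fintype (IrrCharacter G) := Fintype.ofFinite _
  have heBid : IsIdempotentElem eB := b4_idem_of_coeff (isPModular_isPrime hM) eB heB
  intro hli
  let s : k → ↥(localRing M (isPModular_isPrime hM)) := Function.surjInv hres
  have hs : ∀ c, res (s c) = c := Function.surjInv_eq hres
  let zh : Fin (n + 1) → MonoidAlgebra ↥(localRing M (isPModular_isPrime hM)) G :=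
    fun i => b4OfFun (fun g => s ((z i).coeff g))
  let x : Fin (n + 1) → MonoidAlgebra ↥(localRing M (isPModular_isPrime hM)) G :=
    fun i => zh i * eB
  have hred : ∀ i, MonoidAlgebra.mapRingHom G res (x i) = z i := by
    intro i
    have h1 : MonoidAlgebra.mapRingHom G res (zh i) = z i := by
      apply b4_ext
      intro g
      rw [MonoidAlgebra.coeff_mapRingHom, b4_coeff_ofFun, hs]
    show MonoidAlgebra.mapRingHom G res (zh i * eB) = z i
    rw [map_mul, h1, hzε]
  have h1 : LinearIndependent k (fun i => (fun g => res ((x i).coeff g))) := by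
    have h2 : (fun i => (fun g => res ((x i).coeff g))) = (b4CoeffL k G) ∘ z := by
      funext i g
      simp only [Function.comp, b4CoeffL, LinearMap.coe_mk, AddHom.coe_mk]
      rw [← hred i, MonoidAlgebra.coeff_mapRingHom]
    rw [h2]
    exact hli.map' _ (LinearMap.ker_eq_bot.2 (b4CoeffL_injective k))
  have h3 := linearIndependent_of_res (isPModular_isPrime hM) res hres
    (fun i g => (x i).coeff g) h1
  -- the complex coefficient functions lie in a space of dimension ≤ n
  have hfun : b4Fun (isPModular_isPrime hM) eB = blockCoeff B := funext heB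
  set S : Submodule ℂ (G → ℂ) := Submodule.span ℂ (Set.range (fun ψ : B => (fun g : G =>
      (Nat.card G : ℂ)⁻¹ * (((ψ : IrrCharacter G) : G → ℂ) 1 *
        conj (((ψ : IrrCharacter G) : G → ℂ) g))))) with hS
  have hmem : ∀ i, (fun g => (((x i).coeff g : ↥(localRing M (isPModular_isPrime hM))) : ℂ)) ∈ S := by
    intro i
    have hcl : IsClassFunction G (b4Fun (isPModular_isPrime hM) (zh i)) := by
      intro g h
      simp only [b4Fun, zh, b4_coeff_ofFun]
      rw [b4_coeff_conj_of_central (hz i) g h]
    have hFi : b4Fun (isPModular_isPrime hM) (x i)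
        = conv (b4Fun (isPModular_isPrime hM) (zh i)) (blockCoeff B) := by
      show b4Fun (isPModular_isPrime hM) (zh i * eB) = _
      rw [b4Fun_mul, hfun]
    have hFcl : IsClassFunction G (b4Fun (isPModular_isPrime hM) (x i)) := by
      rw [hFi]
      exact isClassFunction_conv hcl (isClassFunction_blockCoeff B)
    have hFB : conv (b4Fun (isPModular_isPrime hM) (x i)) (blockCoeff B)
        = b4Fun (isPModular_isPrime hM) (x i) := by
      rw [← hfun, ← b4Fun_mul]
      congr 1
      show zh i * eB * eB = zh i * eB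
      rw [mul_assoc, heBid.eq]
    exact b4_mem_span B hFcl hFB
  let F' : Fin (n + 1) → S := fun i => ⟨_, hmem i⟩
  have hF' : LinearIndependent ℂ F' := by
    apply LinearIndependent.of_comp S.subtype
    exact h3
  have h4 := hF'.fintype_card_le_finrank
  have h5 : Module.finrank ℂ S ≤ Fintype.card B := finrank_range_le_card _
  have h6 : Fintype.card B = n := by rw [← Nat.card_eq_fintype_card, hcard]
  simp only [Fintype.card_fin] at h4
  omega

end Cfsg.Agent.Lib.Helper7.KulsG3

namespace Cfsg.Agent.Lib.Lead.Brandt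

section G1
variable {M : Ideal AlgInt} {G : Type*} [Group G] [Fintype G]

/-- G3 (helper7): copy of Helper8 `no_three_indep_aux` + `no_three_indep` (Brandt_B4 / Brandt_B7)
with `Fin (n + 1)` and `Nat.card B = n`. -/
theorem no_indep_of_card {p : ℕ} (hM : IsPModular p M) {k : Type*} [Field k]
    (res : ↥(localRing M (isPModular_isPrime hM)) →+* k)
    (hres : Function.Surjective res) {B : Set (IrrCharacter G)} (n : ℕ) (hcard : Nat.card B = n)
    (eB : MonoidAlgebra ↥(localRing M (isPModular_isPrime hM)) G)
    (heB : ∀ g, ((eB.coeff g : ↥(localRing M (isPModular_isPrime hM))) : ℂ) = blockCoeff B g)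
    (z : Fin (n + 1) → MonoidAlgebra k G) (hz : ∀ i x, z i * x = x * z i)
    (hzε : ∀ i, z i * MonoidAlgebra.mapRingHom G res eB = z i) :
    ¬ LinearIndependent k z :=
  Cfsg.Agent.Lib.Helper7.KulsG3.no_indep_of_card' hM res hres n hcard eB heB z hz hzε

end G1

end Cfsg.Agent.Lib.Lead.Brandt

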