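import Mathlib

set_option autoImplicit false

/-!
The set of element orders of `PSL(3,3)` is `{1,2,3,4,6,8,13}`.
-/

namespace Cfsg.Agent.Lib.Helper7.L33

open Polynomial

section upper

variable {F : Type*} [Field F] [Fintype F]

theorem three_eq_zero (hF : Fintype.card F = 3) : (3 : F) = 0 := by
  have h := Nat.cast_card_eq_zero F
  rw [hF] at h
  exact_mod_cast h

theorem trichotomy (hF : Fintype.card F = 3) (x : F) : x = 0 ∨ x = 1 ∨ x = -1 := by
  have h := FiniteField.pow_card x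
  rw [hF] at h
  have h2 : x * ((x - 1) * (x + 1)) = 0 := by
    have : x * ((x - 1) * (x + 1)) = x ^ 3 - x := by ring
    rw [this, h, sub_self]
  rcases mul_eq_zero.mp h2 with h0 | h0
  · exact Or.inl h0
  · rcases mul_eq_zero.mp h0 with h1 | h1
    · exact Or.inr (Or.inl (sub_eq_zero.mp h1))
    · exact Or.inr (Or.inr (eq_neg_of_add_eq_zero_left h1))

theorem pow_eq_one_of_dvd (A : Matrix (Fin 3) (Fin 3) F) (k : ℕ) (q : F[X])
    (h : (X ^ k - 1 : F[X]) = A.charpoly * q) : A ^ k = 1 := by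
  have h1 := congrArg (Polynomial.aeval A) h
  rw [map_mul, Matrix.aeval_self_charpoly, zero_mul, map_sub, map_pow, Polynomial.aeval_X,
    map_one] at h1
  exact sub_eq_zero.mp h1

theorem charpoly_eq (A : Matrix (Fin 3) (Fin 3) F) (hA : A.det = 1) :
    A.charpoly = X ^ 3 + C (A.charpoly.coeff 2) * X ^ 2 + C (A.charpoly.coeff 1) * X - 1 := by
  have hdeg : A.charpoly.natDegree = 3 := by
    rw [Matrix.charpoly_natDegree_eq_dim]; rfl
  have hlead : A.charpoly.coeff 3 = 1 := by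
    have := (Matrix.charpoly_monic A).coeff_natDegree
    rwa [hdeg] at this
  have h0 : A.charpoly.coeff 0 = -1 := by
    have := Matrix.det_eq_sign_charpoly_coeff A
    rw [hA] at this
    have h3 : Fintype.card (Fin 3) = 3 := rfl
    rw [h3] at this
    linear_combination this
  have hχ := Polynomial.as_sum_range' A.charpoly 4 (by rw [hdeg]; norm_num)
  simp only [Finset.sum_range_succ, Finset.range_zero, Finset.sum_empty, zero_add] at hχ
  conv_lhs => rw [hχ]
  rw [hlead, h0]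
  simp only [← Polynomial.C_mul_X_pow_eq_monomial, map_neg, map_one, pow_zero, pow_one, mul_one,
    one_mul]
  ring

theorem pow_cases (hF : Fintype.card F = 3) (A : Matrix (Fin 3) (Fin 3) F) (hA : A.det = 1) :
    A ^ 3 = 1 ∨ A ^ 4 = 1 ∨ A ^ 6 = 1 ∨ A ^ 8 = 1 ∨ A ^ 13 = 1 := by
  have h3 : (3 : F[X]) = 0 := by
    rw [← map_ofNat (C : F →+* F[X]) 3, three_eq_zero hF, map_zero]
  have hχ := charpoly_eq A hA
  rcases trichotomy hF (A.charpoly.coeff 2) with h2 | h2 | h2 <;>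
  rcases trichotomy hF (A.charpoly.coeff 1) with h1 | h1 | h1 <;>
  rw [h2, h1] at hχ <;>
  simp only [map_zero, map_one, map_neg, zero_mul, add_zero, one_mul] at hχ
  · exact Or.inl (pow_eq_one_of_dvd A 3 (1) (by rw [hχ]; ring1))
  · exact Or.inr (Or.inr (Or.inr (Or.inl (pow_eq_one_of_dvd A 8 (1 + X + X ^ 2 - X ^ 3 + X ^ 5)
      (by rw [hχ]; linear_combination (-X ^ 3) * h3)))))
  · exact Or.inr (Or.inr (Or.inr (Or.inr (pow_eq_one_of_dvd A 13
      (1 - X + X ^ 2 - X ^ 4 - X ^ 5 + X ^ 6 + X ^ 7 + X ^ 8 + X ^ 10)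
      (by rw [hχ]; linear_combination (-X ^ 5 + X ^ 7 + X ^ 8) * h3)))))
  · exact Or.inr (Or.inr (Or.inr (Or.inr (pow_eq_one_of_dvd A 13
      (1 + X ^ 2 + X ^ 3 + X ^ 4 - X ^ 5 - X ^ 6 + X ^ 8 - X ^ 9 + X ^ 10)
      (by rw [hχ]; linear_combination (-X ^ 5 - X ^ 6 + X ^ 8) * h3)))))
  · exact Or.inr (Or.inr (Or.inr (Or.inr (pow_eq_one_of_dvd A 13
      (1 + X - X ^ 2 + X ^ 3 + X ^ 4 + X ^ 5 - X ^ 7 - X ^ 9 + X ^ 10)
      (by rw [hχ]; linear_combination (-X ^ 2 - X ^ 6 - X ^ 7 + X ^ 10) * h3)))))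
  · exact Or.inr (Or.inr (Or.inl (pow_eq_one_of_dvd A 6 (1 - X - X ^ 2 + X ^ 3)
      (by rw [hχ]; linear_combination (-X ^ 2 + X ^ 4) * h3))))
  · exact Or.inr (Or.inr (Or.inr (Or.inl (pow_eq_one_of_dvd A 8 (1 - X ^ 2 + X ^ 3 + X ^ 4 + X ^ 5)
      (by rw [hχ]; linear_combination (X ^ 5) * h3)))))
  · exact Or.inr (Or.inl (pow_eq_one_of_dvd A 4 (1 + X) (by rw [hχ]; ring1)))
  · exact Or.inr (Or.inr (Or.inr (Or.inr (pow_eq_one_of_dvd A 13
      (1 - X - X ^ 3 + X ^ 5 + X ^ 6 + X ^ 7 - X ^ 8 + X ^ 9 + X ^ 10)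
      (by rw [hχ]; linear_combination (-X ^ 3 + X ^ 6 + X ^ 7 + X ^ 11) * h3)))))

end upper

section lower

/-- companion matrix of `X³ + X - 1` over `ZMod 3` (order 8) -/
def B8 : Matrix (Fin 3) (Fin 3) (ZMod 3) := !![0,0,1; 1,0,2; 0,1,0]
/-- companion matrix of `X³ + X² - X - 1` over `ZMod 3` (order 6) -/
def B6 : Matrix (Fin 3) (Fin 3) (ZMod 3) := !![0,0,1; 1,0,1; 0,1,2]
/-- companion matrix of `X³ - X - 1` over `ZMod 3` (order 13) -/
def B13 : Matrix (Fin 3) (Fin 3) (ZMod 3) := !![0,0,1; 1,0,1; 0,1,0]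

set_option maxRecDepth 100000 in
theorem b8_facts : B8 ^ 8 = 1 ∧ B8 ^ 4 ≠ 1 ∧ B8.det = 1 := by decide +kernel
set_option maxRecDepth 100000 in
theorem b6_facts : B6 ^ 6 = 1 ∧ B6 ^ 2 ≠ 1 ∧ B6 ^ 3 ≠ 1 ∧ B6.det = 1 := by decide +kernel
set_option maxRecDepth 100000 in
theorem b13_facts : B13 ^ 13 = 1 ∧ B13 ≠ 1 ∧ B13.det = 1 := by decide +kernel

def S8 : Matrix.SpecialLinearGroup (Fin 3) (ZMod 3) := ⟨B8, b8_facts.2.2⟩
def S6 : Matrix.SpecialLinearGroup (Fin 3) (ZMod 3) := ⟨B6, b6_facts.2.2.2⟩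
def S13 : Matrix.SpecialLinearGroup (Fin 3) (ZMod 3) := ⟨B13, b13_facts.2.2⟩

theorem sl_pow_eq_one_iff (A : Matrix.SpecialLinearGroup (Fin 3) (ZMod 3)) (k : ℕ) :
    A ^ k = 1 ↔ (A : Matrix (Fin 3) (Fin 3) (ZMod 3)) ^ k = 1 := by
  rw [← Matrix.SpecialLinearGroup.coe_pow, ← Matrix.SpecialLinearGroup.coe_one]
  exact ⟨fun h => by rw [h], fun h => Subtype.ext h⟩

theorem orderOf_S8 : orderOf S8 = 8 := by
  haveI : Fact (Nat.Prime 2) := ⟨Nat.prime_two⟩
  have h4 : ¬ S8 ^ 2 ^ 2 = 1 := by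
    rw [sl_pow_eq_one_iff]; exact b8_facts.2.1
  have h8 : S8 ^ 2 ^ (2 + 1) = 1 := by
    rw [sl_pow_eq_one_iff]; exact b8_facts.1
  exact orderOf_eq_prime_pow h4 h8

theorem orderOf_S13 : orderOf S13 = 13 := by
  haveI : Fact (Nat.Prime 13) := ⟨by norm_num⟩
  apply orderOf_eq_prime
  · rw [sl_pow_eq_one_iff]; exact b13_facts.1
  · intro h
    exact b13_facts.2.1 (congrArg Subtype.val h)

theorem orderOf_S6 : orderOf S6 = 6 := by
  have h6 : S6 ^ 6 = 1 := by rw [sl_pow_eq_one_iff]; exact b6_facts.1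
  have h2 : S6 ^ 2 ≠ 1 := by rw [Ne, sl_pow_eq_one_iff]; exact b6_facts.2.1
  have h3 : S6 ^ 3 ≠ 1 := by rw [Ne, sl_pow_eq_one_iff]; exact b6_facts.2.2.1
  have hd : orderOf S6 ∣ 6 := orderOf_dvd_of_pow_eq_one h6
  have hm : orderOf S6 ∈ Nat.divisors 6 := Nat.mem_divisors.mpr ⟨hd, by norm_num⟩
  have h6' : Nat.divisors 6 = {1, 2, 3, 6} := by decide
  rw [h6'] at hm
  simp only [Finset.mem_insert, Finset.mem_singleton] at hm
  rcases hm with h | h | h | h
  · exfalso; apply h2; rw [orderOf_eq_one_iff] at h; rw [h, one_pow]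
  · exfalso; apply h2; have := pow_orderOf_eq_one S6; rwa [h] at this
  · exfalso; apply h3; have := pow_orderOf_eq_one S6; rwa [h] at this
  · exact h

/-- In any group with elements of orders 8, 6, 13 all of `1,2,3,4,6,8,13` are element orders. -/
theorem orders_of_three {G : Type*} [Group G] (a b c : G) (ha : orderOf a = 8) (hb : orderOf b = 6)
    (hc : orderOf c = 13) : ({1, 2, 3, 4, 6, 8, 13} : Set ℕ) ⊆ Set.range (orderOf : G → ℕ) := by
  intro n hn
  simp only [Set.mem_insert_iff, Set.mem_singleton_iff] at hn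
  rcases hn with rfl | rfl | rfl | rfl | rfl | rfl | rfl
  · exact ⟨1, orderOf_one⟩
  · exact ⟨a ^ 4, by rw [orderOf_pow_of_dvd (by norm_num) (by rw [ha]; norm_num), ha]⟩
  · exact ⟨b ^ 2, by rw [orderOf_pow_of_dvd (by norm_num) (by rw [hb]; norm_num), hb]⟩
  · exact ⟨a ^ 2, by rw [orderOf_pow_of_dvd (by norm_num) (by rw [ha]; norm_num), ha]⟩
  · exact ⟨b, hb⟩
  · exact ⟨a, ha⟩
  · exact ⟨c, hc⟩

end lower

section main

variable {F : Type*} [Field F] [Fintype F]

theorem sl_orderOf_mem (hF : Fintype.card F = 3) (A : Matrix.SpecialLinearGroup (Fin 3) F) :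
    orderOf A ∈ ({1, 2, 3, 4, 6, 8, 13} : Set ℕ) := by
  have key : ∀ k : ℕ, (A : Matrix (Fin 3) (Fin 3) F) ^ k = 1 → A ^ k = 1 := by
    intro k hk
    apply Subtype.ext
    rw [Matrix.SpecialLinearGroup.coe_pow, hk, Matrix.SpecialLinearGroup.coe_one]
  have hdiv : ∀ k : ℕ, k ≠ 0 → orderOf A ∣ k → orderOf A ∈ Nat.divisors k :=
    fun k hk hd => Nat.mem_divisors.mpr ⟨hd, hk⟩
  rcases pow_cases hF (A : Matrix (Fin 3) (Fin 3) F) A.2 with h | h | h | h | h
  · have hm := hdiv 3 (by norm_num) (orderOf_dvd_of_pow_eq_one (key 3 h))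
    have hd : Nat.divisors 3 = {1, 3} := by decide
    rw [hd] at hm
    simp only [Finset.mem_insert, Finset.mem_singleton] at hm
    rcases hm with h | h <;> rw [h] <;> simp
  · have hm := hdiv 4 (by norm_num) (orderOf_dvd_of_pow_eq_one (key 4 h))
    have hd : Nat.divisors 4 = {1, 2, 4} := by decide
    rw [hd] at hm
    simp only [Finset.mem_insert, Finset.mem_singleton] at hm
    rcases hm with h | h | h <;> rw [h] <;> simp
  · have hm := hdiv 6 (by norm_num) (orderOf_dvd_of_pow_eq_one (key 6 h))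
    have hd : Nat.divisors 6 = {1, 2, 3, 6} := by decide
    rw [hd] at hm
    simp only [Finset.mem_insert, Finset.mem_singleton] at hm
    rcases hm with h | h | h | h <;> rw [h] <;> simp
  · have hm := hdiv 8 (by norm_num) (orderOf_dvd_of_pow_eq_one (key 8 h))
    have hd : Nat.divisors 8 = {1, 2, 4, 8} := by decide
    rw [hd] at hm
    simp only [Finset.mem_insert, Finset.mem_singleton] at hm
    rcases hm with h | h | h | h <;> rw [h] <;> simp
  · have hm := hdiv 13 (by norm_num) (orderOf_dvd_of_pow_eq_one (key 13 h))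
    have hd : Nat.divisors 13 = {1, 13} := by decide
    rw [hd] at hm
    simp only [Finset.mem_insert, Finset.mem_singleton] at hm
    rcases hm with h | h <;> rw [h] <;> simp

theorem sl_spectrum (hF : Fintype.card F = 3) :
    Set.range (orderOf : Matrix.SpecialLinearGroup (Fin 3) F → ℕ) = {1, 2, 3, 4, 6, 8, 13} := by
  apply Set.Subset.antisymm
  · rintro _ ⟨A, rfl⟩
    exact sl_orderOf_mem hF A
  · haveI : Fact (Nat.Prime 3) := ⟨Nat.prime_three⟩
    haveI : CharP F 3 := charP_of_card_eq_prime hF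
    let f : ZMod 3 →+* F := ZMod.castHom (dvd_refl 3) F
    have hf : Function.Injective f := f.injective
    let φ : Matrix.SpecialLinearGroup (Fin 3) (ZMod 3) →* Matrix.SpecialLinearGroup (Fin 3) F :=
      Matrix.SpecialLinearGroup.map f
    have hφ : Function.Injective φ := by
      intro A B hAB
      apply Subtype.ext
      ext i j
      have h1 := congrArg (fun M : Matrix.SpecialLinearGroup (Fin 3) F => M.1 i j) hAB
      exact hf h1
    exact orders_of_three (φ S8) (φ S6) (φ S13)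
      (by rw [orderOf_injective φ hφ, orderOf_S8])
      (by rw [orderOf_injective φ hφ, orderOf_S6])
      (by rw [orderOf_injective φ hφ, orderOf_S13])

theorem center_eq_bot (hF : Fintype.card F = 3) :
    Subgroup.center (Matrix.SpecialLinearGroup (Fin 3) F) = ⊥ := by
  rw [eq_bot_iff]
  intro A hA
  rw [Matrix.SpecialLinearGroup.mem_center_iff] at hA
  obtain ⟨r, hr, hrA⟩ := hA
  have h3 : Fintype.card (Fin 3) = 3 := rfl
  rw [h3] at hr
  have h := FiniteField.pow_card r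
  rw [hF, hr] at h
  rw [Subgroup.mem_bot]
  apply Subtype.ext
  rw [← hrA, ← h, map_one, Matrix.SpecialLinearGroup.coe_one]

theorem psl_spectrum (hF : Fintype.card F = 3) :
    Set.range (orderOf : Matrix.ProjectiveSpecialLinearGroup (Fin 3) F → ℕ)
      = {1, 2, 3, 4, 6, 8, 13} := by
  rw [← sl_spectrum hF]
  have hinj : Function.Injective
      (QuotientGroup.mk' (Subgroup.center (Matrix.SpecialLinearGroup (Fin 3) F))) := by
    rw [← MonoidHom.ker_eq_bot_iff, QuotientGroup.ker_mk', center_eq_bot hF]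
  ext n
  constructor
  · rintro ⟨x, rfl⟩
    obtain ⟨A, rfl⟩ := QuotientGroup.mk'_surjective _ x
    exact ⟨A, (orderOf_injective _ hinj A).symm⟩
  · rintro ⟨A, rfl⟩
    exact ⟨QuotientGroup.mk' _ A, orderOf_injective _ hinj A⟩

end main

end Cfsg.Agent.Lib.Helper7.L33
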