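import Mathlib
import Cfsg.Agent.Lib.Helper4.LWB_Defs
import Cfsg.Agent.Lib.Helper7.LWB_B

/-!
# Livingstone–Wagner (b), package H: `trans_of_swappable` and the S0748 glue `main_748_of`
(helper7, for helper4's S0747/S0748 swarm; see `notes/S0747_S0748_PROOF_helper4.md`, §5)

`main_748_of` takes the other packages (S0746, `main_747`, `hall_t`) as hypotheses, so that this
file does not depend on them.
-/

set_option autoImplicit false

namespace Cfsg.Agent.Lib.Helper7.LWBH

open MulAction Cfsg.Agent.Lib.Helper4.LWB Cfsg.Agent.Lib.Helper7.LWBB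
open scoped Pointwise

variable {α : Type*} [Fintype α] [DecidableEq α]

/-- all `k`-sets swappable + `k`-homogeneous => `k`-transitive -/
theorem trans_of_swappable' (G : Subgroup (Equiv.Perm α)) {k : ℕ}
    (hh : IsPretransitive G (Set.powersetCard α k))
    (hs : ∀ Θ : Finset α, Θ.card = k → Swappable G Θ) : IsMultiplyPretransitive G α k := by
  classical
  rw [isMultiplyPretransitive_iff]
  intro e e'
  obtain ⟨g, hg⟩ := hh.exists_smul_eq (Set.powersetCard.ofFinEmb k α e)
    (Set.powersetCard.ofFinEmb k α e')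
  set Θ' : Finset α := Finset.univ.map e' with hΘ'
  have hcard : Θ'.card = k := by simp [hΘ']
  -- `g` maps the range of `e` into `Θ'`
  have hmem : ∀ i, (g : Equiv.Perm α) (e i) ∈ Θ' := by
    intro i
    have h1 : g • (Finset.univ.map e) = Θ' := by
      have h0 := congrArg Subtype.val hg
      have h1 := Set.powersetCard.coe_smul (g := g) (s := Set.powersetCard.ofFinEmb k α e)
      have h2 := h1.symm.trans h0
      rw [Set.powersetCard.val_ofFinEmb, Set.powersetCard.val_ofFinEmb] at h2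
      exact h2
    rw [← h1]
    exact Finset.smul_mem_smul_finset (a := g) (Finset.mem_map_of_mem e (Finset.mem_univ i))
  have hmem' : ∀ i, e' i ∈ Θ' := fun i => Finset.mem_map_of_mem e' (Finset.mem_univ i)
  let f₁ : Fin k → ↥Θ' := fun i => ⟨(g : Equiv.Perm α) (e i), hmem i⟩
  let f₂ : Fin k → ↥Θ' := fun i => ⟨e' i, hmem' i⟩
  have hcard' : Fintype.card (Fin k) = Fintype.card ↥Θ' := by
    rw [Fintype.card_fin, Fintype.card_coe, hcard]
  have hf₁ : Function.Bijective f₁ := by
    rw [Fintype.bijective_iff_injective_and_card]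
    refine ⟨fun i j hij => ?_, hcard'⟩
    have h1 : (g : Equiv.Perm α) (e i) = (g : Equiv.Perm α) (e j) := congrArg Subtype.val hij
    exact e.injective ((g : Equiv.Perm α).injective h1)
  have hf₂ : Function.Bijective f₂ := by
    rw [Fintype.bijective_iff_injective_and_card]
    refine ⟨fun i j hij => ?_, hcard'⟩
    have h1 : e' i = e' j := congrArg Subtype.val hij
    exact e'.injective h1
  let σ : Equiv.Perm ↥Θ' := (Equiv.ofBijective f₁ hf₁).symm.trans (Equiv.ofBijective f₂ hf₂)
  obtain ⟨h, hhG, hh'⟩ := induced_of_swappable G (hs Θ' hcard) σ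
  refine ⟨⟨h, hhG⟩ * g, ?_⟩
  ext i
  rw [Function.Embedding.smul_apply, mul_smul]
  have h2 := hh' (f₁ i)
  have h3 : σ (f₁ i) = f₂ i := by
    simp only [σ, Equiv.trans_apply]
    rw [← Equiv.ofBijective_apply f₁ hf₁ i, Equiv.symm_apply_apply]
    rfl
  rw [h3] at h2
  exact h2

omit [Fintype α] [DecidableEq α] in
/-- transport of swappability along an element of `G` -/
theorem swappable_of_conj (G : Subgroup (Equiv.Perm α)) {Δ Θ : Finset α} (h : Swappable G Δ)
    (g : Equiv.Perm α) (hg : g ∈ G) (hΘ : ∀ w, w ∈ Θ ↔ g⁻¹ w ∈ Δ) : Swappable G Θ := by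
  intro x hx y hy hxy
  obtain ⟨s, hs, h1, h2, h3⟩ := h (g⁻¹ x) ((hΘ x).1 hx) (g⁻¹ y) ((hΘ y).1 hy)
    (fun h => hxy (g⁻¹.injective h))
  refine ⟨g * s * g⁻¹, G.mul_mem (G.mul_mem hg hs) (G.inv_mem hg), ?_, ?_, ?_⟩
  · simp only [Equiv.Perm.mul_apply]
    rw [h1]; simp
  · simp only [Equiv.Perm.mul_apply]
    rw [h2]; simp
  · intro w hw hwx hwy
    simp only [Equiv.Perm.mul_apply]
    rw [h3 (g⁻¹ w) ((hΘ w).1 hw) (fun h => hwx (g⁻¹.injective h))
      (fun h => hwy (g⁻¹.injective h))]
    simp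

omit [Fintype α] in
theorem swappable_of_inducedOn_eq_top (G : Subgroup (Equiv.Perm α)) {Δ : Finset α}
    (h : inducedOn G Δ = ⊤) : Swappable G Δ := by
  intro x hx y hy hxy
  have hmem : Equiv.swap (⟨x, hx⟩ : ↥Δ) ⟨y, hy⟩ ∈ inducedOn G Δ := by
    rw [h]; exact Subgroup.mem_top _
  obtain ⟨g, hg, hg'⟩ := hmem
  refine ⟨g, hg, ?_, ?_, ?_⟩
  · have h1 := hg' ⟨x, hx⟩
    rw [Equiv.swap_apply_left] at h1
    exact h1
  · have h1 := hg' ⟨y, hy⟩
    rw [Equiv.swap_apply_right] at h1
    exact h1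
  · intro z hz hzx hzy
    have h1 := hg' ⟨z, hz⟩
    rw [Equiv.swap_apply_of_ne_of_ne (fun h => hzx (congrArg Subtype.val h))
      (fun h => hzy (congrArg Subtype.val h))] at h1
    exact h1

theorem eq_top_of_alt_le_of_odd {β : Type*} [Fintype β] [DecidableEq β]
    (I : Subgroup (Equiv.Perm β)) (hA : alternatingGroup β ≤ I) (t : Equiv.Perm β) (ht : t ∈ I)
    (hodd : Equiv.Perm.sign t = -1) : I = ⊤ := by
  rw [eq_top_iff]
  intro τ _
  rcases Int.units_eq_one_or (Equiv.Perm.sign τ) with h | h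
  · exact hA (Equiv.Perm.mem_alternatingGroup.2 h)
  · have h1 : τ * t⁻¹ ∈ alternatingGroup β := by
      rw [Equiv.Perm.mem_alternatingGroup, map_mul, map_inv, h, hodd]
      decide
    have h2 := I.mul_mem (hA h1) ht
    simpa using h2

/-- **S0748 glue** (note §5), with S0746 (`h746`), `main_747` at `k - 1` (`h747`) and `hall_t` at
`t = k - 1` (`hD`) as hypotheses. -/
theorem main_748_of (G : Subgroup (Equiv.Perm α)) {k : ℕ} (hk : 5 ≤ k)
    (hkn : 2 * k ≤ Fintype.card α) (hh : IsPretransitive G (Set.powersetCard α k))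
    (h746 : IsMultiplyPretransitive G α (k - 1))
    (h747 : ∃ Δ : Finset α, Δ.card = (k - 1) + 1 ∧ AltInduced G Δ)
    (hD : ∀ e : Fin (k - 1) ↪ α, Odd (Nat.card (stabilizer G e)) →
      (k - 1) + 4 ≤ Fintype.card α →
      Fintype.card α = (k - 1) + 7 ∧ ∀ e' : Fin (k - 1) ↪ α, stabilizer G e' = ⊥) :
    IsMultiplyPretransitive G α k := by
  classical
  obtain ⟨Δ₀, hΔ₀card, hAlt⟩ := h747
  have hΔ₀k : Δ₀.card = k := by omega
  -- a `k`-set as an element of `powersetCard`, and what `g • _ = _` means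
  have key : ∀ (Θ₁ Θ₂ : Finset α) (h₁ : Θ₁.card = k) (h₂ : Θ₂.card = k),
      ∃ g : Equiv.Perm α, g ∈ G ∧ ∀ w, w ∈ Θ₂ ↔ g⁻¹ w ∈ Θ₁ := by
    intro Θ₁ Θ₂ h₁ h₂
    obtain ⟨g, hg⟩ := hh.exists_smul_eq (Set.powersetCard.ofCard (s := Θ₁) h₁)
      (Set.powersetCard.ofCard (s := Θ₂) h₂)
    have h3 : g • Θ₁ = Θ₂ := by
      have h0 := congrArg Subtype.val hg
      have h1 := Set.powersetCard.coe_smul (g := g) (s := Set.powersetCard.ofCard (s := Θ₁) h₁)
      have h2 := h1.symm.trans h0
      rw [Set.powersetCard.val_ofCard, Set.powersetCard.val_ofCard] at h2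
      exact h2
    refine ⟨(g : Equiv.Perm α), g.2, fun w => ?_⟩
    rw [← h3]
    exact (Finset.inv_smul_mem_iff (a := g) (b := w) (s := Θ₁)).symm
  by_cases hev : ∃ S₀ : Finset α, S₀.card = k - 2 ∧ Even (Nat.card (fx G S₀))
  · obtain ⟨S₀, hScard, hSev⟩ := hev
    have : Fact (Nat.Prime 2) := ⟨Nat.prime_two⟩
    obtain ⟨z, hz⟩ := exists_prime_orderOf_dvd_card' (G := fx G S₀) 2 hSev.two_dvd
    set zp : Equiv.Perm α := ((z : ↥G) : Equiv.Perm α) with hzp
    have hzG : zp ∈ G := (z : ↥G).2
    have hzfix : ∀ w ∈ S₀, zp w = w := by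
      intro w hw
      exact (mem_fixingSubgroup_iff ↥G).1 z.2 w (by exact_mod_cast hw)
    have hz2 : zp * zp = 1 := by
      have h1 : z ^ 2 = 1 := by rw [← hz]; exact pow_orderOf_eq_one z
      have h2 : ((z ^ 2 : fx G S₀) : ↥G) = 1 := by rw [h1]; rfl
      have h3 : (((z ^ 2 : fx G S₀) : ↥G) : Equiv.Perm α) = 1 := by rw [h2]; rfl
      rw [← h3, pow_two]
      rfl
    have hz1 : zp ≠ 1 := by
      intro h
      have h1 : z = 1 := by
        apply Subtype.ext
        apply Subtype.ext
        exact h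
      rw [h1, orderOf_one] at hz
      omega
    obtain ⟨a, ha⟩ : ∃ a, zp a ≠ a := by
      by_contra hcon
      push Not at hcon
      exact hz1 (Equiv.ext hcon)
    set b := zp a with hb
    have hzb : zp b = a := by
      have h1 := congrArg (fun f : Equiv.Perm α => f a) hz2
      simpa using h1
    have hab : a ≠ b := fun h => ha h.symm
    have haS : a ∉ S₀ := fun h => ha (hzfix a h)
    have hbS : b ∉ S₀ := by
      intro h
      have h1 := hzfix b h
      rw [hzb] at h1
      exact hab h1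
    set Θ₀ : Finset α := insert a (insert b S₀) with hΘ₀
    have hΘ₀card : Θ₀.card = k := by
      rw [hΘ₀, Finset.card_insert_of_notMem, Finset.card_insert_of_notMem hbS, hScard]
      · omega
      · simp only [Finset.mem_insert, not_or]
        exact ⟨hab, haS⟩
    obtain ⟨gp, hgG, hgmem⟩ := key Θ₀ Δ₀ hΘ₀card hΔ₀k
    have hx₀ : gp a ∈ Δ₀ := by
      rw [hgmem]; simp [hΘ₀]
    have hy₀ : gp b ∈ Δ₀ := by
      rw [hgmem]; simp [hΘ₀]
    have hxy₀ : gp a ≠ gp b := fun h => hab (gp.injective h)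
    -- the transposition `(gp a, gp b)` is induced on `Δ₀`
    have hswap : Equiv.swap (⟨gp a, hx₀⟩ : ↥Δ₀) ⟨gp b, hy₀⟩ ∈ inducedOn G Δ₀ := by
      refine ⟨gp * zp * gp⁻¹, G.mul_mem (G.mul_mem hgG hzG) (G.inv_mem hgG), fun w => ?_⟩
      by_cases hwx : w = ⟨gp a, hx₀⟩
      · subst hwx
        rw [Equiv.swap_apply_left]
        show (gp * zp * gp⁻¹) (gp a) = gp b
        simp only [Equiv.Perm.mul_apply]
        have h5 : gp⁻¹ (gp a) = a := by simp
        rw [h5]
      by_cases hwy : w = ⟨gp b, hy₀⟩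
      · subst hwy
        rw [Equiv.swap_apply_right]
        show (gp * zp * gp⁻¹) (gp b) = gp a
        simp only [Equiv.Perm.mul_apply]
        have h5 : gp⁻¹ (gp b) = b := by simp
        rw [h5, hzb]
      · rw [Equiv.swap_apply_of_ne_of_ne hwx hwy]
        have h1 : gp⁻¹ (w : α) ∈ Θ₀ := (hgmem w).1 w.2
        have h2 : gp⁻¹ (w : α) ≠ a := by
          intro h
          apply hwx
          apply Subtype.ext
          show (w : α) = gp a
          rw [← h]; simp
        have h3 : gp⁻¹ (w : α) ≠ b := by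
          intro h
          apply hwy
          apply Subtype.ext
          show (w : α) = gp b
          rw [← h]; simp
        have h4 : gp⁻¹ (w : α) ∈ S₀ := by
          simp only [hΘ₀, Finset.mem_insert] at h1
          rcases h1 with h1 | h1 | h1
          · exact absurd h1 h2
          · exact absurd h1 h3
          · exact h1
        simp only [Equiv.Perm.mul_apply]
        rw [hzfix _ h4]
        simp
    have hsign : Equiv.Perm.sign (Equiv.swap (⟨gp a, hx₀⟩ : ↥Δ₀) ⟨gp b, hy₀⟩) = -1 :=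
      Equiv.Perm.sign_swap (fun h => hxy₀ (congrArg Subtype.val h))
    have hAle : alternatingGroup ↥Δ₀ ≤ inducedOn G Δ₀ := fun σ hσ => hAlt σ hσ
    have htop : inducedOn G Δ₀ = ⊤ := eq_top_of_alt_le_of_odd _ hAle _ hswap hsign
    have hsw₀ : Swappable G Δ₀ := swappable_of_inducedOn_eq_top G htop
    refine trans_of_swappable' G hh (fun Θ hΘ => ?_)
    obtain ⟨g', hg'G, hg'mem⟩ := key Δ₀ Θ hΔ₀k hΘ
    exact swappable_of_conj G hsw₀ g' hg'G hg'mem
  · -- all `(k-2)`-point stabilisers odd: Hall ⇒ sharply `(k-1)`-transitive of degree `k + 6`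
    exfalso
    push Not at hev
    have : IsPretransitive G (Fin (k - 1) ↪ α) := h746
    obtain ⟨e⟩ : Nonempty (Fin (k - 1) ↪ α) :=
      Function.Embedding.nonempty_of_card_le (by rw [Fintype.card_fin]; omega)
    obtain ⟨S₀, hSsub, hScard⟩ := Finset.exists_subset_card_eq (s := Finset.univ.map e)
      (n := k - 2) (by simp; omega)
    have hle : stabilizer G e ≤ fx G S₀ := by
      intro h hh'
      rw [mem_fixingSubgroup_iff]
      intro w hw
      have hw' : w ∈ Finset.univ.map e := hSsub (by exact_mod_cast hw)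
      obtain ⟨i, -, rfl⟩ := Finset.mem_map.1 hw'
      have h1 : h • e = e := hh'
      have h2 := congrArg (fun f : Fin (k - 1) ↪ α => f i) h1
      simpa [Function.Embedding.smul_apply] using h2
    have hodd : Odd (Nat.card (stabilizer G e)) := by
      have h1 : Odd (Nat.card (fx G S₀)) := Nat.not_even_iff_odd.1 (hev S₀ hScard)
      exact Odd.of_dvd_nat h1 (Subgroup.card_dvd_of_le hle)
    obtain ⟨hcardα, hsharp⟩ := hD e hodd (by omega)
    have hk6 : k ≤ 6 := by omega
    -- order of `G`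
    have hG1 : Nat.card G = Nat.card (Fin (k - 1) ↪ α) := by
      have h1 := @index_stabilizer_of_transitive ↥G _ _ _ e h746
      rw [hsharp e, Subgroup.index_bot] at h1
      exact h1
    have hG2 : Nat.card G = (Fintype.card α).descFactorial (k - 1) := by
      rw [hG1, Nat.card_eq_fintype_card, Fintype.card_embedding_eq, Fintype.card_fin]
    -- `C(n,k)` divides `|G|`
    have hdiv : (Fintype.card α).choose k ∣ Nat.card G := by
      have h1 := index_stabilizer_of_transitive G (Set.powersetCard.ofCard (s := Δ₀) hΔ₀k)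
      rw [Set.powersetCard.card, Nat.card_eq_fintype_card] at h1
      rw [← h1]
      exact Subgroup.index_dvd_card _
    rw [hG2, hcardα] at hdiv
    interval_cases k
    · revert hdiv; decide
    · revert hdiv; decide

end Cfsg.Agent.Lib.Helper7.LWBH

namespace Cfsg.Agent.Lib.Helper4.LWB

open MulAction

variable {α : Type*} [Fintype α] [DecidableEq α]

/-- **Package H, part 1** (exact stub signature): all `k`-sets swappable + `k`-homogeneous =>
`k`-transitive -/
theorem trans_of_swappable (G : Subgroup (Equiv.Perm α)) {k : ℕ}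
    (hh : IsPretransitive G (Set.powersetCard α k))
    (hs : ∀ Θ : Finset α, Θ.card = k → Swappable G Θ) : IsMultiplyPretransitive G α k :=
  Cfsg.Agent.Lib.Helper7.LWBH.trans_of_swappable' G hh hs

end Cfsg.Agent.Lib.Helper4.LWB
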