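import Mathlib
import Cfsg.Prelude.Def_Classical

set_option autoImplicit false

namespace Cfsg.Agent.Lib.Helper7.LawAuxO

open Matrix

universe u

/-- `A ↦ diag(A, A⁻ᵀ)` as a monoid hom into matrices. -/
noncomputable def hypM (F : Type u) [Field F] (k : ℕ) :
    GL (Fin k) F →* Matrix (Fin k ⊕ Fin k) (Fin k ⊕ Fin k) F where
  toFun A := fromBlocks (A : Matrix (Fin k) (Fin k) F) 0 0
    ((A⁻¹ : GL (Fin k) F) : Matrix (Fin k) (Fin k) F)ᵀ
  map_one' := by
    rw [inv_one, Units.val_one, transpose_one, fromBlocks_one]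
  map_mul' A B := by
    rw [fromBlocks_multiply, _root_.mul_inv_rev, Units.val_mul, Units.val_mul, transpose_mul]
    simp only [Matrix.mul_zero, Matrix.zero_mul, add_zero, zero_add]

theorem hypM_apply (F : Type u) [Field F] (k : ℕ) (A : GL (Fin k) F) :
    hypM F k A = fromBlocks (A : Matrix (Fin k) (Fin k) F) 0 0
      ((A⁻¹ : GL (Fin k) F) : Matrix (Fin k) (Fin k) F)ᵀ := rfl

theorem hypM_injective (F : Type u) [Field F] (k : ℕ) : Function.Injective (hypM F k) := by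
  intro A B h
  rw [hypM_apply, hypM_apply] at h
  have := (fromBlocks_inj.mp h).1
  exact Units.ext this

/-- The key identity: `(A x) ⬝ (A⁻ᵀ y) = x ⬝ y`. -/
theorem hyp_sum {F : Type u} [Field F] {k : ℕ} (A : GL (Fin k) F) (x y : Fin k → F) :
    ∑ i, ((A : Matrix (Fin k) (Fin k) F) *ᵥ x) i *
      ((((A⁻¹ : GL (Fin k) F) : Matrix (Fin k) (Fin k) F))ᵀ *ᵥ y) i = ∑ i, x i * y i := by
  have h1 : ((A⁻¹ : GL (Fin k) F) : Matrix (Fin k) (Fin k) F) * (A : Matrix (Fin k) (Fin k) F)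
      = 1 := by
    rw [← Units.val_mul, inv_mul_cancel, Units.val_one]
  have h2 : ((A : Matrix (Fin k) (Fin k) F) *ᵥ x) ⬝ᵥ
      ((((A⁻¹ : GL (Fin k) F) : Matrix (Fin k) (Fin k) F))ᵀ *ᵥ y) = x ⬝ᵥ y := by
    rw [dotProduct_mulVec, vecMul_transpose, mulVec_mulVec, h1, one_mulVec]
  exact h2

theorem hypM_mulVec_inl {F : Type u} [Field F] {k : ℕ} (A : GL (Fin k) F)
    (v : Fin k ⊕ Fin k → F) (i : Fin k) :
    (hypM F k A *ᵥ v) (Sum.inl i) = ((A : Matrix (Fin k) (Fin k) F) *ᵥ (v ∘ Sum.inl)) i := by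
  rw [hypM_apply, fromBlocks_mulVec]
  simp

theorem hypM_mulVec_inr {F : Type u} [Field F] {k : ℕ} (A : GL (Fin k) F)
    (v : Fin k ⊕ Fin k → F) (i : Fin k) :
    (hypM F k A *ᵥ v) (Sum.inr i) =
      ((((A⁻¹ : GL (Fin k) F) : Matrix (Fin k) (Fin k) F))ᵀ *ᵥ (v ∘ Sum.inr)) i := by
  rw [hypM_apply, fromBlocks_mulVec]
  simp

/-- The hyperbolic sum is preserved by `hypM A`. -/
theorem hypM_sum {F : Type u} [Field F] {k : ℕ} (A : GL (Fin k) F) (v : Fin k ⊕ Fin k → F) :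
    ∑ i, (hypM F k A *ᵥ v) (Sum.inl i) * (hypM F k A *ᵥ v) (Sum.inr i)
      = ∑ i, v (Sum.inl i) * v (Sum.inr i) := by
  simp only [hypM_mulVec_inl, hypM_mulVec_inr]
  exact hyp_sum A (v ∘ Sum.inl) (v ∘ Sum.inr)

theorem mem_isometryGroup_iff {ι : Type} [Fintype ι] [DecidableEq ι] {F : Type u} [Field F]
    (Q : (ι → F) → F) (g : GL ι F) :
    g ∈ Cfsg.isometryGroup F Q ↔ ∀ u : ι → F, Q ((g : Matrix ι ι F) *ᵥ u) = Q u := by
  constructor
  · intro h u
    exact h u u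
  · intro h u _
    exact h u

/-- `M ↦ diag(1, M)` on `Unit ⊕ ι`. -/
noncomputable def oddM (F : Type u) [Field F] (ι : Type) [Fintype ι] [DecidableEq ι] :
    Matrix ι ι F →* Matrix (Unit ⊕ ι) (Unit ⊕ ι) F where
  toFun M := fromBlocks 1 0 0 M
  map_one' := fromBlocks_one
  map_mul' M N := by
    rw [fromBlocks_multiply]
    simp only [Matrix.mul_zero, Matrix.zero_mul, add_zero, zero_add, Matrix.mul_one]

/-- `M ↦ diag(M, 1)` on `ι ⊕ Fin 2`. -/
noncomputable def minusM (F : Type u) [Field F] (ι : Type) [Fintype ι] [DecidableEq ι] :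
    Matrix ι ι F →* Matrix (ι ⊕ Fin 2) (ι ⊕ Fin 2) F where
  toFun M := fromBlocks M 0 0 1
  map_one' := fromBlocks_one
  map_mul' M N := by
    rw [fromBlocks_multiply]
    simp only [Matrix.mul_zero, Matrix.zero_mul, add_zero, zero_add, Matrix.mul_one]

theorem oddM_injective (F : Type u) [Field F] (ι : Type) [Fintype ι] [DecidableEq ι] :
    Function.Injective (oddM F ι) := by
  intro M N h
  exact (fromBlocks_inj.mp h).2.2.2

theorem minusM_injective (F : Type u) [Field F] (ι : Type) [Fintype ι] [DecidableEq ι] :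
    Function.Injective (minusM F ι) := by
  intro M N h
  exact (fromBlocks_inj.mp h).1

theorem oddM_mulVec_inl {F : Type u} [Field F] {ι : Type} [Fintype ι] [DecidableEq ι]
    (M : Matrix ι ι F) (v : Unit ⊕ ι → F) (i : Unit) :
    (oddM F ι M *ᵥ v) (Sum.inl i) = v (Sum.inl i) := by
  show (fromBlocks 1 0 0 M *ᵥ v) (Sum.inl i) = _
  rw [fromBlocks_mulVec]
  simp

theorem oddM_mulVec_inr {F : Type u} [Field F] {ι : Type} [Fintype ι] [DecidableEq ι]
    (M : Matrix ι ι F) (v : Unit ⊕ ι → F) (i : ι) :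
    (oddM F ι M *ᵥ v) (Sum.inr i) = (M *ᵥ (v ∘ Sum.inr)) i := by
  show (fromBlocks 1 0 0 M *ᵥ v) (Sum.inr i) = _
  rw [fromBlocks_mulVec]
  simp

theorem minusM_mulVec_inr {F : Type u} [Field F] {ι : Type} [Fintype ι] [DecidableEq ι]
    (M : Matrix ι ι F) (v : ι ⊕ Fin 2 → F) (i : Fin 2) :
    (minusM F ι M *ᵥ v) (Sum.inr i) = v (Sum.inr i) := by
  show (fromBlocks M 0 0 1 *ᵥ v) (Sum.inr i) = _
  rw [fromBlocks_mulVec]
  simp

theorem minusM_mulVec_inl {F : Type u} [Field F] {ι : Type} [Fintype ι] [DecidableEq ι]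
    (M : Matrix ι ι F) (v : ι ⊕ Fin 2 → F) (i : ι) :
    (minusM F ι M *ᵥ v) (Sum.inl i) = (M *ᵥ (v ∘ Sum.inl)) i := by
  show (fromBlocks M 0 0 1 *ᵥ v) (Sum.inl i) = _
  rw [fromBlocks_mulVec]
  simp

end Cfsg.Agent.Lib.Helper7.LawAuxO

namespace Cfsg.Agent.Lib.LawPkg

open Cfsg.Agent.Lib.Helper7.LawAuxO Matrix

universe u

/-- (E-Oplus) `GL_k(F) → O(quadFormPlus k F)`, index type `Fin k ⊕ Fin k`,
`Q v = ∑ i, v (inl i) * v (inr i)`. -/
theorem oplus_embed (F : Type u) [Field F] (k : ℕ) :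
    ∃ φ : Matrix.GeneralLinearGroup (Fin k) F →* ↥(Cfsg.isometryGroup F (Cfsg.quadFormPlus k F)),
      Function.Injective φ := by
  refine ⟨MonoidHom.codRestrict (hypM F k).toHomUnits (Cfsg.isometryGroup F (Cfsg.quadFormPlus k F))
    ?_, ?_⟩
  · intro A
    rw [mem_isometryGroup_iff]
    intro v
    rw [MonoidHom.coe_toHomUnits]
    unfold Cfsg.quadFormPlus
    exact hypM_sum A v
  · intro A B h
    apply hypM_injective F k
    have h1 := congrArg Subtype.val h
    have h2 := congrArg Units.val h1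
    exact h2

/-- (E-Oodd) `GL_k(F) → O(quadFormOdd k F)`, index type `Unit ⊕ (Fin k ⊕ Fin k)`. -/
theorem oodd_embed (F : Type u) [Field F] (k : ℕ) :
    ∃ φ : Matrix.GeneralLinearGroup (Fin k) F →* ↥(Cfsg.isometryGroup F (Cfsg.quadFormOdd k F)),
      Function.Injective φ := by
  refine ⟨MonoidHom.codRestrict ((oddM F (Fin k ⊕ Fin k)).comp (hypM F k)).toHomUnits
    (Cfsg.isometryGroup F (Cfsg.quadFormOdd k F)) ?_, ?_⟩
  · intro A
    rw [mem_isometryGroup_iff]
    intro v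
    rw [MonoidHom.coe_toHomUnits, MonoidHom.comp_apply]
    unfold Cfsg.quadFormOdd
    simp only [oddM_mulVec_inl, oddM_mulVec_inr]
    rw [hypM_sum A (v ∘ Sum.inr)]
    rfl
  · intro A B h
    apply hypM_injective F k
    apply oddM_injective F (Fin k ⊕ Fin k)
    have h1 := congrArg Subtype.val h
    have h2 := congrArg Units.val h1
    exact h2

/-- (E-Ominus) `GL_k(F) → O(quadFormMinus k F a b)`, index type `(Fin k ⊕ Fin k) ⊕ Fin 2`. -/
theorem ominus_embed (F : Type u) [Field F] (k : ℕ) (a b : F) :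
    ∃ φ : Matrix.GeneralLinearGroup (Fin k) F →*
        ↥(Cfsg.isometryGroup F (Cfsg.quadFormMinus k F a b)),
      Function.Injective φ := by
  refine ⟨MonoidHom.codRestrict ((minusM F (Fin k ⊕ Fin k)).comp (hypM F k)).toHomUnits
    (Cfsg.isometryGroup F (Cfsg.quadFormMinus k F a b)) ?_, ?_⟩
  · intro A
    rw [mem_isometryGroup_iff]
    intro v
    rw [MonoidHom.coe_toHomUnits, MonoidHom.comp_apply]
    unfold Cfsg.quadFormMinus
    simp only [minusM_mulVec_inl, minusM_mulVec_inr]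
    rw [hypM_sum A (v ∘ Sum.inl)]
    rfl
  · intro A B h
    apply hypM_injective F k
    apply minusM_injective F (Fin k ⊕ Fin k)
    have h1 := congrArg Subtype.val h
    have h2 := congrArg Units.val h1
    exact h2

end Cfsg.Agent.Lib.LawPkg
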