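import Mathlib

set_option autoImplicit false

/-!
# A function on `ZMod p` determining few directions is affine (Rédei, Lovász–Schrijver)
-/

namespace Cfsg.Agent.Lib.Helper7.LovSch

open Polynomial Finset

variable {p : ℕ} [Fact p.Prime]

theorem pow_sum_top : ∑ x : ZMod p, x ^ (p - 1) = -1 := by
  classical
  have hp := (Fact.out : p.Prime)
  have h1 : ∀ x : ZMod p, x ^ (p - 1) = 1 - if x = 0 then 1 else 0 := by
    intro x
    by_cases hx : x = 0
    · rw [if_pos hx, hx, zero_pow (by have := hp.two_le; omega), sub_self]
    · rw [if_neg hx, ZMod.pow_card_sub_one_eq_one hx, sub_zero]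
  rw [Finset.sum_congr rfl (fun x _ => h1 x), Finset.sum_sub_distrib, Finset.sum_const,
    Finset.card_univ, ZMod.card, Finset.sum_ite_eq' Finset.univ (0 : ZMod p)]
  simp

theorem pow_sum_lt (i : ℕ) (hi : i < p - 1) : ∑ x : ZMod p, x ^ i = 0 := by
  have := FiniteField.sum_pow_lt_card_sub_one (K := ZMod p) i (by rwa [ZMod.card])
  exact this

/-- sum of the values of a polynomial of degree at most `p - 1` -/
theorem sum_eval (R : (ZMod p)[X]) (hR : R.natDegree ≤ p - 1) :
    ∑ x : ZMod p, R.eval x = - R.coeff (p - 1) := by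
  classical
  have hp := (Fact.out : p.Prime)
  have h1 : ∀ x : ZMod p, R.eval x = ∑ i ∈ range p, R.coeff i * x ^ i := by
    intro x
    conv_lhs => rw [Polynomial.as_sum_range' R p (by have := hp.two_le; omega)]
    rw [eval_finsetSum]
    exact Finset.sum_congr rfl (fun i _ => by rw [eval_monomial])
  rw [Finset.sum_congr rfl (fun x _ => h1 x), Finset.sum_comm]
  have h2 : ∀ i ∈ range p, ∑ x : ZMod p, R.coeff i * x ^ i =
      if i = p - 1 then - R.coeff (p - 1) else 0 := by
    intro i hi
    rw [← Finset.mul_sum]
    by_cases h : i = p - 1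
    · rw [if_pos h, h, pow_sum_top, mul_neg_one]
    · rw [if_neg h, pow_sum_lt i (by have := Finset.mem_range.mp hi; omega), mul_zero]
  rw [Finset.sum_congr rfl h2, Finset.sum_ite_eq' (range p) (p - 1)]
  rw [if_pos (Finset.mem_range.mpr (by have := hp.two_le; omega))]

/-- vanishing of the mixed moments -/
theorem moments (f : ZMod p → ZMod p) (D : Finset (ZMod p))
    (hD : ∀ x y, x ≠ y → ∃ d ∈ D, f x - f y = d * (x - y))
    (i j : ℕ) (h1 : i + j + D.card < p) (h2 : i + j < p - 1) :
    ∑ x, x ^ i * f x ^ j = 0 := by
  classical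
  have hp := (Fact.out : p.Prime)
  set k := i + j with hk
  let d : ℕ → ZMod p := fun t => (k.choose t : ZMod p) * (-1) ^ t * ∑ x, x ^ t * f x ^ (k - t)
  let Q : (ZMod p)[X] := ∑ t ∈ range (k + 1), monomial t (d t)
  have hQdeg : Q.natDegree ≤ k := by
    apply natDegree_sum_le_of_forall_le
    intro t ht
    exact (natDegree_monomial_le _).trans (by have := Finset.mem_range.mp ht; omega)
  have hQeval : ∀ u : ZMod p, Q.eval u = ∑ x, (f x - u * x) ^ k := by
    intro u
    rw [eval_finsetSum]
    have e1 : ∀ x : ZMod p, (f x - u * x) ^ k =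
        ∑ t ∈ range (k + 1), (k.choose t : ZMod p) * (-1) ^ t * u ^ t * (x ^ t * f x ^ (k - t)) := by
      intro x
      have : f x - u * x = (-(u * x)) + f x := by ring
      rw [this, add_pow]
      apply Finset.sum_congr rfl
      intro t _
      rw [neg_pow, mul_pow]
      ring
    rw [Finset.sum_congr rfl (fun x _ => e1 x), Finset.sum_comm]
    apply Finset.sum_congr rfl
    intro t _
    rw [eval_monomial, ← Finset.mul_sum]
    ring
  have hroots : ∀ u : ZMod p, u ∉ D → Q.eval u = 0 := by
    intro u hu
    rw [hQeval]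
    have hinj : Function.Injective (fun x => f x - u * x) := by
      intro x y hxy
      by_contra hne
      obtain ⟨d', hd', hd''⟩ := hD x y hne
      have h3 : (f x - f y) = u * (x - y) := by
        have : f x - u * x = f y - u * y := hxy
        linear_combination this
      rw [h3] at hd''
      have h4 : x - y ≠ 0 := sub_ne_zero.mpr hne
      have h5 : u = d' := mul_right_cancel₀ h4 hd''
      exact hu (h5 ▸ hd')
    have hbij : Function.Bijective (fun x => f x - u * x) :=
      (Finite.injective_iff_bijective).mp hinj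
    have := Equiv.sum_comp (Equiv.ofBijective _ hbij) (fun z : ZMod p => z ^ k)
    simp only [Equiv.ofBijective_apply] at this
    rw [this]
    exact pow_sum_lt k h2
  have hQ0 : Q = 0 := by
    by_contra hne
    have hsub : (Finset.univ.filter (fun u : ZMod p => u ∉ D)).val ⊆ Q.roots := by
      intro u hu
      rw [Finset.mem_val, Finset.mem_filter] at hu
      rw [mem_roots hne]
      exact hroots u hu.2
    have h3 := Polynomial.card_le_degree_of_subset_roots hsub
    have h4 : (Finset.univ.filter (fun u : ZMod p => u ∉ D)).card = p - D.card := by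
      have h5 : Finset.univ.filter (fun u : ZMod p => u ∉ D) = Dᶜ := by
        ext u; simp
      rw [h5, Finset.card_compl, ZMod.card]
    omega
  have hcoeff : Q.coeff i = d i := by
    show (∑ t ∈ range (k + 1), monomial t (d t)).coeff i = d i
    rw [finset_sum_coeff]
    simp only [coeff_monomial]
    rw [Finset.sum_ite_eq' (range (k + 1)) i, if_pos (Finset.mem_range.mpr (by omega))]
  rw [hQ0, coeff_zero] at hcoeff
  have hki : k - i = j := by omega
  have hd : d i = (k.choose i : ZMod p) * (-1) ^ i * ∑ x, x ^ i * f x ^ j := by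
    show (k.choose i : ZMod p) * (-1) ^ i * ∑ x, x ^ i * f x ^ (k - i) = _
    rw [hki]
  rw [hd] at hcoeff
  have hch : (k.choose i : ZMod p) ≠ 0 := by
    rw [Ne, ZMod.natCast_eq_zero_iff]
    intro hdvd
    have h5 : p ∣ k.factorial := by
      rw [← Nat.choose_mul_factorial_mul_factorial (show i ≤ k by omega)]
      exact Dvd.dvd.mul_right (Dvd.dvd.mul_right hdvd _) _
    rw [hp.dvd_factorial] at h5
    omega
  have hsign : ((-1 : ZMod p)) ^ i ≠ 0 := pow_ne_zero _ (neg_ne_zero.mpr one_ne_zero)
  rcases mul_eq_zero.mp hcoeff.symm with h | h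
  · rcases mul_eq_zero.mp h with h' | h'
    · exact (hch h').elim
    · exact (hsign h').elim
  · exact h

/-- Rédei / Lovász–Schrijver: a function on `ZMod p` whose difference quotients take at most
`(p - 1) / 2` values is affine. -/
theorem affine_of_few_directions (f : ZMod p → ZMod p) (D : Finset (ZMod p))
    (hD : ∀ x y, x ≠ y → ∃ d ∈ D, f x - f y = d * (x - y)) (hcard : 2 * D.card + 1 ≤ p) :
    ∃ a b : ZMod p, ∀ x, f x = a * x + b := by
  classical
  have hp := (Fact.out : p.Prime)
  set P : (ZMod p)[X] := Lagrange.interpolate Finset.univ id f with hP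
  have hPeval : ∀ x : ZMod p, P.eval x = f x := fun x =>
    Lagrange.eval_interpolate_at_node f (Set.injOn_id _) (Finset.mem_univ x)
  have hPdeg : P.natDegree ≤ p - 1 := by
    have h1 := Lagrange.degree_interpolate_lt (s := (Finset.univ : Finset (ZMod p))) (v := id) f
      (Set.injOn_id _)
    rw [Finset.card_univ, ZMod.card] at h1
    by_cases h0 : P = 0
    · rw [h0, natDegree_zero]; exact Nat.zero_le _
    · have h2 := (natDegree_lt_iff_degree_lt h0).mpr h1
      omega
  by_cases he : P.natDegree ≤ 1
  · refine ⟨P.coeff 1, P.coeff 0, fun x => ?_⟩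
    rw [← hPeval x]
    conv_lhs => rw [Polynomial.eq_X_add_C_of_natDegree_le_one he]
    simp
  · exfalso
    push Not at he
    set e := P.natDegree with hedef
    have hP0 : P ≠ 0 := by
      intro h0
      rw [hedef, h0, natDegree_zero] at he
      omega
    have hodd : p % 2 = 1 := by
      rcases hp.eq_two_or_odd with h | h
      · omega
      · exact h
    obtain ⟨j, i, hq, hi⟩ : ∃ j i : ℕ, e * j + i = p - 1 ∧ i < e :=
      ⟨(p - 1) / e, (p - 1) % e, Nat.div_add_mod _ _, Nat.mod_lt _ (by omega)⟩
    have hj1 : 1 ≤ j := by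
      by_contra h
      have : j = 0 := by omega
      rw [this, mul_zero, zero_add] at hq
      omega
    have hclaim : i ≤ j * (e - 2) := by
      by_cases he2 : e = 2
      · rw [he2] at hq hi
        omega
      · by_cases hj2 : 2 ≤ j
        · have h1 : 2 * (e - 2) ≤ j * (e - 2) := Nat.mul_le_mul_right _ hj2
          omega
        · have hj : j = 1 := by omega
          rw [hj, mul_one] at hq
          rw [hj, one_mul]
          omega
    have hje : j * e = j * (e - 2) + 2 * j := by
      have : e = (e - 2) + 2 := by omega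
      conv_lhs => rw [this]
      ring
    have hm1 : i + j + D.card < p := by
      have : e * j = j * e := mul_comm _ _
      omega
    have hm2 : i + j < p - 1 := by
      have : e * j = j * e := mul_comm _ _
      omega
    have hmom := moments f D hD i j hm1 hm2
    set R : (ZMod p)[X] := X ^ i * P ^ j with hR
    have hRdeg : R.natDegree = p - 1 := by
      rw [hR, natDegree_mul (pow_ne_zero _ X_ne_zero) (pow_ne_zero _ hP0), natDegree_pow,
        natDegree_pow, natDegree_X, mul_one, ← hq]
      ring
    have hRne : R ≠ 0 := mul_ne_zero (pow_ne_zero _ X_ne_zero) (pow_ne_zero _ hP0)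
    have hRev : ∀ x : ZMod p, R.eval x = x ^ i * f x ^ j := by
      intro x
      rw [hR, eval_mul, eval_pow, eval_pow, eval_X, hPeval]
    have hsum := sum_eval R (le_of_eq hRdeg)
    rw [Finset.sum_congr rfl (fun x _ => hRev x), hmom] at hsum
    have hlc : R.coeff (p - 1) ≠ 0 := by
      rw [← hRdeg]
      exact leadingCoeff_ne_zero.mpr hRne
    apply hlc
    have := neg_eq_zero.mp hsum.symm
    exact this

end Cfsg.Agent.Lib.Helper7.LovSch
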