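import Mathlib

set_option autoImplicit false

open scoped Pointwise
open MulAction

namespace Cfsg.Agent.Lib.Helper7.Marg

/-- Jordan set, elementwise. -/
def JS (G : Type*) {Ω : Type*} [Group G] [MulAction G Ω] (J : Set Ω) : Prop :=
  ∀ a ∈ J, ∀ b ∈ J, ∃ g : G, (∀ x, x ∉ J → g • x = x) ∧ g • a = b

variable {G : Type*} {Ω : Type*} [Group G] [MulAction G Ω]

theorem JS.smul {J : Set Ω} (h : JS G J) (t : G) : JS G (t • J) := by
  intro a ha b hb
  rw [Set.mem_smul_set_iff_inv_smul_mem] at ha hb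
  obtain ⟨g, hg1, hg2⟩ := h _ ha _ hb
  refine ⟨t * g * t⁻¹, ?_, ?_⟩
  · intro x hx
    have : t⁻¹ • x ∉ J := by rwa [← Set.mem_smul_set_iff_inv_smul_mem]
    rw [mul_smul, mul_smul, hg1 _ this, smul_inv_smul]
  · rw [mul_smul, mul_smul, hg2, smul_inv_smul]

theorem JS.union {J₁ J₂ : Set Ω} (h₁ : JS G J₁) (h₂ : JS G J₂) (h : (J₁ ∩ J₂).Nonempty) :
    JS G (J₁ ∪ J₂) := by
  obtain ⟨c, hc1, hc2⟩ := h
  have key : ∀ a ∈ J₁ ∪ J₂, ∃ g : G, (∀ x, x ∉ J₁ ∪ J₂ → g • x = x) ∧ g • a = c := by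
    intro a ha
    rcases ha with ha | ha
    · obtain ⟨g, hg1, hg2⟩ := h₁ a ha c hc1
      exact ⟨g, fun x hx => hg1 x (fun hx' => hx (Or.inl hx')), hg2⟩
    · obtain ⟨g, hg1, hg2⟩ := h₂ a ha c hc2
      exact ⟨g, fun x hx => hg1 x (fun hx' => hx (Or.inr hx')), hg2⟩
  intro a ha b hb
  obtain ⟨g, hg1, hg2⟩ := key a ha
  obtain ⟨g', hg1', hg2'⟩ := key b hb
  refine ⟨g'⁻¹ * g, ?_, ?_⟩
  · intro x hx
    rw [mul_smul, hg1 x hx, inv_smul_eq_iff, hg1' x hx]
  · rw [mul_smul, hg2, inv_smul_eq_iff, hg2']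

theorem JS_iff_pretransitive (J : Set Ω) :
    JS G J ↔ IsPretransitive (fixingSubgroup G Jᶜ) (SubMulAction.ofFixingSubgroup G Jᶜ) := by
  constructor
  · intro h
    refine ⟨fun a b => ?_⟩
    have ha : (a : Ω) ∈ J := by
      have := a.2
      rw [SubMulAction.mem_ofFixingSubgroup_iff] at this
      simpa using this
    have hb : (b : Ω) ∈ J := by
      have := b.2
      rw [SubMulAction.mem_ofFixingSubgroup_iff] at this
      simpa using this
    obtain ⟨g, hg1, hg2⟩ := h _ ha _ hb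
    refine ⟨⟨g, ?_⟩, ?_⟩
    · rw [mem_fixingSubgroup_iff]
      intro y hy
      exact hg1 y hy
    · apply Subtype.ext
      exact hg2
  · intro h a ha b hb
    have ha' : a ∈ SubMulAction.ofFixingSubgroup G Jᶜ := by
      rw [SubMulAction.mem_ofFixingSubgroup_iff]; simpa using ha
    have hb' : b ∈ SubMulAction.ofFixingSubgroup G Jᶜ := by
      rw [SubMulAction.mem_ofFixingSubgroup_iff]; simpa using hb
    obtain ⟨g, hg⟩ := h.exists_smul_eq
      (⟨a, ha'⟩ : SubMulAction.ofFixingSubgroup G Jᶜ) ⟨b, hb'⟩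
    refine ⟨g, ?_, ?_⟩
    · intro x hx
      exact ((mem_fixingSubgroup_iff G).mp g.2) x hx
    · exact congrArg Subtype.val hg

/-- elementwise 2-transitivity -/
def T2 (G : Type*) (Ω : Type*) [Group G] [MulAction G Ω] : Prop :=
  ∀ a b c d : Ω, a ≠ b → c ≠ d → ∃ g : G, g • a = c ∧ g • b = d

theorem T2_iff : T2 G Ω ↔ IsMultiplyPretransitive G Ω 2 := by
  rw [is_two_pretransitive_iff]
  constructor
  · intro h a b c d hab hcd
    exact h a b c d hab hcd
  · intro h a b c d hab hcd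
    exact h hab hcd

theorem T2.trans (h : T2 G Ω) (a b : Ω) : ∃ g : G, g • a = b := by
  by_cases hab : a = b
  · exact ⟨1, by rw [one_smul, hab]⟩
  · obtain ⟨g, hg, _⟩ := h a b b a hab (Ne.symm hab)
    exact ⟨g, hg⟩


theorem ncard_eq_mul_of_partition [Finite Ω] (S : Set Ω) (P : Set (Set Ω)) (e : ℕ)
    (hcard : ∀ T ∈ P, T.ncard = e)
    (hdisj : ∀ T ∈ P, ∀ T' ∈ P, (T ∩ T').Nonempty → T = T')
    (hcover : ∀ x ∈ S, ∃ T ∈ P, x ∈ T)
    (hsub : ∀ T ∈ P, T ⊆ S) : S.ncard = P.ncard * e := by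
  classical
  have := Fintype.ofFinite Ω
  have hS : S.toFinset = P.toFinset.biUnion (fun T => T.toFinset) := by
    ext x
    simp only [Set.mem_toFinset, Finset.mem_biUnion]
    constructor
    · intro hx
      obtain ⟨T, hT, hxT⟩ := hcover x hx
      exact ⟨T, hT, hxT⟩
    · rintro ⟨T, hT, hxT⟩
      exact hsub T hT hxT
  have hc : ∀ T ∈ P.toFinset, T.toFinset.card = e := by
    intro T hT
    rw [← Set.ncard_eq_toFinset_card']
    exact hcard T (Set.mem_toFinset.mp hT)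
  rw [Set.ncard_eq_toFinset_card', hS, Finset.card_biUnion, Finset.sum_congr rfl hc,
    Finset.sum_const, smul_eq_mul, Set.ncard_eq_toFinset_card']
  intro T hT T' hT' hne
  rw [Function.onFun, Finset.disjoint_left]
  intro x hx hx'
  exact hne (hdisj T (Set.mem_toFinset.mp hT) T' (Set.mem_toFinset.mp hT')
    ⟨x, Set.mem_toFinset.mp hx, Set.mem_toFinset.mp hx'⟩)

/-- every even permutation is induced -/
def Goal (G : Type*) (Ω : Type*) [Group G] [MulAction G Ω] [Fintype Ω] [DecidableEq Ω] : Prop :=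
  ∀ σ : Equiv.Perm Ω, Equiv.Perm.sign σ = 1 → ∃ g : G, ∀ x, g • x = σ x

/-- every even permutation supported in `F` is induced on `F` -/
def IA (G : Type*) {Ω : Type*} [Group G] [MulAction G Ω] [Fintype Ω] [DecidableEq Ω]
    (F : Set Ω) : Prop :=
  ∀ σ : Equiv.Perm Ω, (∀ x, x ∉ F → σ x = x) → Equiv.Perm.sign σ = 1 →
    ∃ g : G, ∀ x ∈ F, g • x = σ x

theorem goal_of_alt_le [Fintype Ω] [DecidableEq Ω]
    (h : alternatingGroup Ω ≤ (toPermHom G Ω).range) : Goal G Ω := by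
  intro σ hσ
  have : σ ∈ alternatingGroup Ω := Equiv.Perm.mem_alternatingGroup.mpr hσ
  obtain ⟨g, hg⟩ := h this
  exact ⟨g, fun x => by rw [← hg]; rfl⟩

theorem isPreprimitive_range (h : IsPreprimitive G Ω) :
    IsPreprimitive (toPermHom G Ω).range Ω := by
  let φ : G → (toPermHom G Ω).range := fun g => ⟨toPermHom G Ω g, ⟨g, rfl⟩⟩
  let f : Ω →ₑ[φ] Ω := { toFun := id, map_smul' := fun g x => rfl }
  exact IsPreprimitive.of_surjective (f := f) Function.surjective_id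

theorem goal_of_threeCycle [Fintype Ω] [DecidableEq Ω] (hprim : IsPreprimitive G Ω) (g : G)
    (hg : (toPerm g : Equiv.Perm Ω).IsThreeCycle) : Goal G Ω := by
  apply goal_of_alt_le
  exact Equiv.Perm.alternatingGroup_le_of_isPreprimitive_of_isThreeCycle_mem
    (isPreprimitive_range hprim) hg ⟨g, rfl⟩

theorem goal_of_swap [Fintype Ω] [DecidableEq Ω] (hprim : IsPreprimitive G Ω) (g : G)
    (hg : (toPerm g : Equiv.Perm Ω).IsSwap) : Goal G Ω := by
  apply goal_of_alt_le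
  rw [Equiv.Perm.subgroup_eq_top_of_isPreprimitive_of_isSwap_mem
    (isPreprimitive_range hprim) _ hg ⟨g, rfl⟩]
  exact le_top

/-- elementwise 3-transitivity -/
def T3 (G : Type*) (Ω : Type*) [Group G] [MulAction G Ω] : Prop :=
  ∀ a b c a' b' c' : Ω, a ≠ b → a ≠ c → b ≠ c → a' ≠ b' → a' ≠ c' → b' ≠ c' →
    ∃ g : G, g • a = a' ∧ g • b = b' ∧ g • c = c'

end Cfsg.Agent.Lib.Helper7.Marg
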