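import Cfsg.Agent.Lib.Helper7.Marg1

set_option autoImplicit false

open scoped Pointwise
open MulAction

namespace Cfsg.Agent.Lib.Helper7.Marg

variable {G : Type*} {Ω : Type*} [Group G] [MulAction G Ω]

theorem blk_eq (ω : Ω) (B : Set Ω)
    (hB : ∀ g : G, g • ω = ω → g • B = B ∨ Disjoint (g • B) B)
    (s₁ s₂ : G) (h₁ : s₁ • ω = ω) (h₂ : s₂ • ω = ω)
    (h : (s₁ • B ∩ s₂ • B).Nonempty) : s₁ • B = s₂ • B := by
  obtain ⟨x, hx1, hx2⟩ := h
  have ht : (s₂⁻¹ * s₁) • ω = ω := by rw [mul_smul, h₁, inv_smul_eq_iff, h₂]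
  rcases hB _ ht with h | h
  · rw [mul_smul, inv_smul_eq_iff] at h
    exact h
  · exfalso
    rw [Set.disjoint_left] at h
    apply h (a := s₂⁻¹ • x)
    · rw [mul_smul, Set.smul_mem_smul_set_iff]
      exact hx1
    · rw [← Set.mem_smul_set_iff_inv_smul_mem]
      exact hx2

theorem blk_dich (ω : Ω) (B : Set Ω)
    (hB : ∀ g : G, g • ω = ω → g • B = B ∨ Disjoint (g • B) B)
    {J : Set Ω} (hJ : JS G J) (hωJ : ω ∉ J) (s : G) (hs : s • ω = ω)
    {q p : Ω} (hqJ : q ∈ J) (hqB : q ∈ s • B) (hpB : p ∈ s • B) (hpJ : p ∉ J) :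
    J ⊆ s • B := by
  intro q' hq'
  obtain ⟨h, hh1, hh2⟩ := hJ q hqJ q' hq'
  have hhω : h • ω = ω := hh1 ω hωJ
  have hhp : h • p = p := hh1 p hpJ
  have : (h * s) • B = s • B := by
    apply blk_eq ω B hB _ _ (by rw [mul_smul, hs, hhω]) hs
    refine ⟨p, ?_, hpB⟩
    rw [mul_smul, ← hhp]
    exact Set.smul_mem_smul_set hpB
  rw [← this, mul_smul, ← hh2]
  exact Set.smul_mem_smul_set hqB

theorem thmQ_caseA [Finite Ω] (h2 : T2 G Ω) (ω : Ω) (B : Set Ω)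
    (hB : ∀ g : G, g • ω = ω → g • B = B ∨ Disjoint (g • B) B)
    (hB3 : 2 * B.ncard + 1 ≤ Nat.card Ω)
    (fact1 : ∀ q, q ≠ ω → ∃ s : G, s • ω = ω ∧ q ∈ s • B)
    (hA : ∃ J : Set Ω, JS G J ∧ ω ∉ J ∧ 1 < J.ncard ∧ ∃ s : G, s • ω = ω ∧ J ⊆ s • B) :
    False := by
  classical
  let 𝒜 : Set (Set Ω) :=
    {J | JS G J ∧ ω ∉ J ∧ 1 < J.ncard ∧ ∃ s : G, s • ω = ω ∧ J ⊆ s • B}
  have h𝒜 : 𝒜.Nonempty := hA
  obtain ⟨Φ, hΦ, hmax⟩ := Set.exists_max_image 𝒜 Set.ncard (Set.toFinite _) h𝒜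
  obtain ⟨hΦJ, hωΦ, hΦ1, s₀, hs₀, hΦs₀⟩ := hΦ
  have hφb : Φ.ncard ≤ B.ncard := by
    calc Φ.ncard ≤ (s₀ • B).ncard := Set.ncard_le_ncard hΦs₀ (Set.toFinite _)
      _ = B.ncard := Set.ncard_smul_set _ _
  have inBlock : ∀ t : G, ω ∉ t • Φ → ∃ s : G, s • ω = ω ∧ t • Φ ⊆ s • B := by
    intro t ht
    have hne : (t • Φ).Nonempty :=
      (Set.nonempty_of_ncard_ne_zero (by omega : Φ.ncard ≠ 0)).smul_set
    obtain ⟨q, hq⟩ := hne
    have hqω : q ≠ ω := fun h => ht (h ▸ hq)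
    obtain ⟨s, hs, hqs⟩ := fact1 q hqω
    refine ⟨s, hs, ?_⟩
    by_cases hsub : s • B ⊆ t • Φ
    · have : s • B = t • Φ := Set.eq_of_subset_of_ncard_le hsub
        (by rw [Set.ncard_smul_set, Set.ncard_smul_set]; exact hφb) (Set.toFinite _)
      rw [this]
    · obtain ⟨p, hpB, hpJ⟩ := Set.not_subset.mp hsub
      exact blk_dich ω B hB (hΦJ.smul t) ht s hs hq hqs hpB hpJ
  have Pω : ∀ t₁ t₂ : G, ω ∉ t₁ • Φ → ω ∉ t₂ • Φ → (t₁ • Φ ∩ t₂ • Φ).Nonempty →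
      t₁ • Φ = t₂ • Φ := by
    intro t₁ t₂ h₁ h₂ hne
    obtain ⟨s₁, hs₁, hsub₁⟩ := inBlock t₁ h₁
    obtain ⟨s₂, hs₂, hsub₂⟩ := inBlock t₂ h₂
    have hss : s₁ • B = s₂ • B :=
      blk_eq ω B hB s₁ s₂ hs₁ hs₂ (hne.mono (Set.inter_subset_inter hsub₁ hsub₂))
    have hU : (t₁ • Φ ∪ t₂ • Φ) ∈ 𝒜 := by
      refine ⟨(hΦJ.smul t₁).union (hΦJ.smul t₂) hne, ?_, ?_, s₁, hs₁, ?_⟩
      · rintro (h | h)
        · exact h₁ h
        · exact h₂ h
      · calc 1 < Φ.ncard := hΦ1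
          _ = (t₁ • Φ).ncard := (Set.ncard_smul_set _ _).symm
          _ ≤ _ := Set.ncard_le_ncard Set.subset_union_left (Set.toFinite _)
      · exact Set.union_subset hsub₁ (hss ▸ hsub₂)
    have hle := hmax _ hU
    have e1 : t₁ • Φ = t₁ • Φ ∪ t₂ • Φ := Set.eq_of_subset_of_ncard_le Set.subset_union_left
      (by rw [Set.ncard_smul_set]; exact hle) (Set.toFinite _)
    have e2 : t₂ • Φ = t₁ • Φ ∪ t₂ • Φ := Set.eq_of_subset_of_ncard_le Set.subset_union_right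
      (by rw [Set.ncard_smul_set]; exact hle) (Set.toFinite _)
    exact e1.trans e2.symm
  have Py : ∀ (y : Ω) (t₁ t₂ : G), y ∉ t₁ • Φ → y ∉ t₂ • Φ → (t₁ • Φ ∩ t₂ • Φ).Nonempty →
      t₁ • Φ = t₂ • Φ := by
    intro y t₁ t₂ h₁ h₂ hne
    obtain ⟨u, hu⟩ := h2.trans ω y
    have key := Pω (u⁻¹ * t₁) (u⁻¹ * t₂) ?_ ?_ ?_
    · rw [mul_smul, mul_smul] at key
      exact smul_left_cancel _ key
    · rw [mul_smul, Set.mem_smul_set_iff_inv_smul_mem, inv_inv, hu]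
      exact h₁
    · rw [mul_smul, Set.mem_smul_set_iff_inv_smul_mem, inv_inv, hu]
      exact h₂
    · obtain ⟨z, hz1, hz2⟩ := hne
      exact ⟨u⁻¹ • z, by rw [mul_smul]; exact Set.smul_mem_smul_set hz1,
        by rw [mul_smul]; exact Set.smul_mem_smul_set hz2⟩
  obtain ⟨p, q, hp, hq, hpq⟩ := (Set.one_lt_ncard_iff (Set.toFinite _)).mp hΦ1
  have hqω : q ≠ ω := fun h => hωΦ (h ▸ hq)
  obtain ⟨g, hgp, hgq⟩ := h2 p q ω q hpq (Ne.symm hqω)
  have hqg : q ∈ g • Φ := by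
    rw [← hgq]
    exact Set.smul_mem_smul_set hq
  have hcard : (g • Φ ∪ Φ).ncard < Nat.card Ω := by
    have h1 := Set.ncard_union_add_ncard_inter (g • Φ) Φ
    have h2' : 0 < (g • Φ ∩ Φ).ncard := (Set.ncard_pos (Set.toFinite _)).mpr ⟨q, hqg, hq⟩
    rw [Set.ncard_smul_set] at h1
    omega
  obtain ⟨y, hy⟩ : ∃ y, y ∉ g • Φ ∪ Φ := by
    by_contra hcon
    simp only [not_exists, not_not] at hcon
    have : g • Φ ∪ Φ = Set.univ := Set.eq_univ_of_forall hcon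
    rw [this, Set.ncard_univ] at hcard
    exact lt_irrefl _ hcard
  have := Py y g 1 (fun h => hy (Or.inl h)) (by rw [one_smul]; exact fun h => hy (Or.inr h))
    ⟨q, hqg, by rw [one_smul]; exact hq⟩
  rw [one_smul] at this
  apply hωΦ
  rw [← this, ← hgp]
  exact Set.smul_mem_smul_set hp


theorem thmQ_count [Finite Ω] (h2 : T2 G Ω) (Γ : Set Ω) (hΓ1 : 1 < Γ.ncard)
    (hΓ2 : 2 * Γ.ncard ≤ Nat.card Ω)
    (x y ω : Ω) (hxy : x ≠ y) (hxω : x ≠ ω)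
    (hXY : ∀ t : G, x ∈ t • Γ → y ∉ t • Γ → ω ∈ t • Γ) : False := by
  classical
  have := Fintype.ofFinite Ω
  let 𝓑 : Finset (Set Ω) := (Set.range fun t : G => t • Γ).toFinset
  have mem𝓑 : ∀ S, S ∈ 𝓑 ↔ ∃ t : G, t • Γ = S := by
    intro S
    simp [𝓑]
  let c : Ω → ℕ := fun z => (𝓑.filter fun S => x ∈ S ∧ z ∈ S).card
  let R := 𝓑.filter fun S => x ∈ S
  have hinv : ∀ g : G, g • x = x → ∀ z, c (g • z) = c z := by
    intro g hg z
    have : (𝓑.filter fun S => x ∈ S ∧ g • z ∈ S) =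
        (𝓑.filter fun S => x ∈ S ∧ z ∈ S).image (fun S => g • S) := by
      ext S
      simp only [Finset.mem_filter, Finset.mem_image, mem𝓑]
      constructor
      · rintro ⟨⟨t, rfl⟩, hx, hz⟩
        refine ⟨g⁻¹ • t • Γ, ⟨⟨g⁻¹ * t, mul_smul _ _ _⟩, ?_, ?_⟩, smul_inv_smul _ _⟩
        · rw [Set.mem_smul_set_iff_inv_smul_mem, inv_inv, hg]
          exact hx
        · rw [Set.mem_smul_set_iff_inv_smul_mem, inv_inv]
          exact hz
      · rintro ⟨S', ⟨⟨t, rfl⟩, hx, hz⟩, rfl⟩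
        refine ⟨⟨g * t, mul_smul _ _ _⟩, ?_, Set.smul_mem_smul_set hz⟩
        rw [← hg]
        exact Set.smul_mem_smul_set hx
    show (𝓑.filter fun S => x ∈ S ∧ g • z ∈ S).card = _
    rw [this, Finset.card_image_of_injective _ (MulAction.injective g)]
  have hconst : ∀ z, z ≠ x → c z = c y := by
    intro z hz
    obtain ⟨g, hgx, hgy⟩ := h2 x y x z hxy (Ne.symm hz)
    rw [← hgy, hinv g hgx]
  have hdc : ∑ z ∈ Finset.univ.erase x, c z = R.card * (Γ.ncard - 1) := by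
    have h := Finset.sum_card_bipartiteAbove_eq_sum_card_bipartiteBelow
      (s := Finset.univ.erase x) (t := R) (fun z S => z ∈ S)
    have hl : ∀ z ∈ Finset.univ.erase x, (Finset.bipartiteAbove (fun z S => z ∈ S) R z).card
        = c z := by
      intro z _
      show (R.filter fun S => z ∈ S).card = _
      rw [Finset.filter_filter]
    have hr : ∀ S ∈ R, (Finset.bipartiteBelow (fun z S => z ∈ S) (Finset.univ.erase x) S).card
        = Γ.ncard - 1 := by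
      intro S hS
      rw [Finset.mem_filter] at hS
      obtain ⟨hS𝓑, hxS⟩ := hS
      obtain ⟨t, rfl⟩ := (mem𝓑 S).mp hS𝓑
      have : Finset.bipartiteBelow (fun z S => z ∈ S) (Finset.univ.erase x) (t • Γ)
          = ((t • Γ) \ {x}).toFinset := by
        ext z
        simp only [Finset.bipartiteBelow, Finset.mem_filter, Finset.mem_erase, Finset.mem_univ,
          Set.mem_toFinset, Set.mem_sdiff, Set.mem_singleton_iff]
        tauto
      rw [this, ← Set.ncard_eq_toFinset_card', Set.ncard_sdiff_singleton_of_mem hxS,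
        Set.ncard_smul_set]
    rw [Finset.sum_congr rfl hl, Finset.sum_congr rfl hr, Finset.sum_const, smul_eq_mul] at h
    exact h
  have hincl : R.card ≤ c y + c ω := by
    have : R ⊆ (𝓑.filter fun S => x ∈ S ∧ y ∈ S) ∪ (𝓑.filter fun S => x ∈ S ∧ ω ∈ S) := by
      intro S hS
      rw [Finset.mem_filter] at hS
      obtain ⟨hS𝓑, hxS⟩ := hS
      obtain ⟨t, rfl⟩ := (mem𝓑 S).mp hS𝓑
      by_cases hy : y ∈ t • Γ
      · exact Finset.mem_union_left _ (Finset.mem_filter.mpr ⟨hS𝓑, hxS, hy⟩)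
      · exact Finset.mem_union_right _ (Finset.mem_filter.mpr ⟨hS𝓑, hxS, hXY t hxS hy⟩)
    exact (Finset.card_le_card this).trans (Finset.card_union_le _ _)
  rw [hconst ω (Ne.symm hxω)] at hincl
  have hsum : ∑ z ∈ Finset.univ.erase x, c z = (Nat.card Ω - 1) * c y := by
    rw [Finset.sum_congr rfl (fun z hz => hconst z (Finset.ne_of_mem_erase hz)),
      Finset.sum_const, smul_eq_mul, Finset.card_erase_of_mem (Finset.mem_univ x),
      Finset.card_univ, Nat.card_eq_fintype_card]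
  have hr0 : 0 < R.card := by
    obtain ⟨γ, hγ⟩ := Set.nonempty_of_ncard_ne_zero (by omega : Γ.ncard ≠ 0)
    obtain ⟨t, ht⟩ := h2.trans γ x
    apply Finset.card_pos.mpr
    exact ⟨t • Γ, Finset.mem_filter.mpr ⟨(mem𝓑 _).mpr ⟨t, rfl⟩, ht ▸ Set.smul_mem_smul_set hγ⟩⟩
  rw [hsum] at hdc
  obtain ⟨m', hm'⟩ : ∃ m', Γ.ncard = m' + 2 := ⟨Γ.ncard - 2, by omega⟩
  obtain ⟨n', hn'⟩ : ∃ n', Nat.card Ω = n' + 1 := ⟨Nat.card Ω - 1, by omega⟩
  rw [hm', hn'] at hdc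
  rw [hm', hn'] at hΓ2
  simp only [Nat.add_sub_cancel] at hdc
  have h3 : m' + 2 - 1 = m' + 1 := by omega
  rw [h3] at hdc
  nlinarith [Nat.zero_le (c y), Nat.zero_le m', Nat.zero_le n']


/-- **Marggraff's first theorem** (elementwise): in a 2-transitive group with a Jordan set of
size `m` with `2 ≤ m ≤ n/2`, point stabilizers have no nontrivial blocks on the remaining points. -/
theorem thmQ [Finite Ω] (h2 : T2 G Ω) (Γ : Set Ω) (hJ : JS G Γ) (hΓ1 : 1 < Γ.ncard)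
    (hΓ2 : 2 * Γ.ncard ≤ Nat.card Ω) (ω : Ω) (B : Set Ω) (hωB : ω ∉ B) (hB2 : 1 < B.ncard)
    (hB : ∀ g : G, g • ω = ω → g • B = B ∨ Disjoint (g • B) B) (p : Ω) (hp : p ≠ ω) :
    p ∈ B := by
  by_contra hpB
  obtain ⟨x, y, hx, hy, hxy⟩ := (Set.one_lt_ncard_iff (Set.toFinite _)).mp hB2
  have hxω : x ≠ ω := fun h => hωB (h ▸ hx)
  have fact1 : ∀ q, q ≠ ω → ∃ s : G, s • ω = ω ∧ q ∈ s • B := by
    intro q hq
    obtain ⟨s, hs1, hs2⟩ := h2 ω x ω q (Ne.symm hxω) (Ne.symm hq)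
    exact ⟨s, hs1, hs2 ▸ Set.smul_mem_smul_set hx⟩
  have fact3 : 2 * B.ncard + 1 ≤ Nat.card Ω := by
    obtain ⟨s, hs, hps⟩ := fact1 p hp
    have hdis : Disjoint (s • B) B := by
      rcases hB s hs with h | h
      · exact absurd (h ▸ hps) hpB
      · exact h
    have hsub : s • B ∪ B ⊆ {ω}ᶜ := by
      rintro z (hz | hz) hzω
      · rw [Set.mem_singleton_iff] at hzω
        subst hzω
        rw [Set.mem_smul_set_iff_inv_smul_mem] at hz
        have : s⁻¹ • z = z := by rw [inv_smul_eq_iff, hs]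
        exact hωB (this ▸ hz)
      · rw [Set.mem_singleton_iff] at hzω
        exact hωB (hzω ▸ hz)
    have h1 := Set.ncard_le_ncard hsub (Set.toFinite _)
    rw [Set.ncard_union_eq hdis (Set.toFinite _) (Set.toFinite _), Set.ncard_smul_set,
      Set.ncard_compl, Set.ncard_singleton] at h1
    have : 0 < Nat.card Ω := Nat.card_pos_iff.mpr ⟨⟨ω⟩, inferInstance⟩
    omega
  by_cases hA : ∃ J : Set Ω, JS G J ∧ ω ∉ J ∧ 1 < J.ncard ∧ ∃ s : G, s • ω = ω ∧ J ⊆ s • B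
  · exact thmQ_caseA h2 ω B hB fact3 fact1 hA
  · apply thmQ_count h2 Γ hΓ1 hΓ2 x y ω hxy hxω
    intro t hxt hyt
    by_contra hωt
    apply hyt
    have hsub : B ⊆ t • Γ := by
      by_contra hsub
      obtain ⟨p', hp'B, hp'J⟩ := Set.not_subset.mp hsub
      apply hA
      refine ⟨t • Γ, hJ.smul t, hωt, by rw [Set.ncard_smul_set]; exact hΓ1, 1, one_smul _ _, ?_⟩
      exact blk_dich ω B hB (hJ.smul t) hωt 1 (one_smul _ _) hxt (by rw [one_smul]; exact hx)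
        (by rw [one_smul]; exact hp'B) hp'J
    exact hsub hy

end Cfsg.Agent.Lib.Helper7.Marg
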