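import Cfsg.Agent.Lib.Helper7.Marg2

set_option autoImplicit false

open scoped Pointwise
open MulAction

namespace Cfsg.Agent.Lib.Helper7.Marg

variable {G : Type*} {Ω : Type*} [Group G] [MulAction G Ω]

theorem image_val_smul (F : Set Ω) (g : stabilizer G F) (B' : Set F) :
    Subtype.val '' (g • B') = (g : G) • (Subtype.val '' B') := by
  ext x
  constructor
  · rintro ⟨y, ⟨z, hz, rfl⟩, rfl⟩
    exact ⟨z, ⟨z, hz, rfl⟩, rfl⟩
  · rintro ⟨_, ⟨z, hz, rfl⟩, rfl⟩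
    exact ⟨g • z, ⟨z, hz, rfl⟩, rfl⟩

/-- primitivity of the action of the setwise stabilizer of `F` on `F`, elementwise criterion -/
theorem isPreprimitive_sub [Finite Ω] (F : Set Ω)
    (htr : ∀ a ∈ F, ∀ b ∈ F, ∃ g : G, g • F = F ∧ g • a = b)
    (hblk : ∀ B : Set Ω, B ⊆ F → 1 < B.ncard →
      (∀ g : G, g • F = F → g • B = B ∨ Disjoint (g • B) B) → B = F) :
    IsPreprimitive (stabilizer G F) F := by
  have hpt : IsPretransitive (stabilizer G F) F := by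
    refine ⟨fun a b => ?_⟩
    obtain ⟨g, hg1, hg2⟩ := htr a a.2 b b.2
    exact ⟨⟨g, mem_stabilizer_iff.mpr hg1⟩, Subtype.ext hg2⟩
  refine { toIsPretransitive := hpt, isTrivialBlock_of_isBlock := ?_ }
  intro B' hB'
  by_cases hsub : B'.Subsingleton
  · exact Or.inl hsub
  · right
    have hnt : B'.Nontrivial := Set.not_subsingleton_iff.mp hsub
    have h1 : 1 < (Subtype.val '' B').ncard := by
      rw [Set.ncard_image_of_injective _ Subtype.val_injective]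
      exact (Set.one_lt_ncard_iff_nontrivial).mpr hnt
    have h2 : Subtype.val '' B' ⊆ F := by
      rintro _ ⟨y, _, rfl⟩
      exact y.2
    have h3 : ∀ g : G, g • F = F →
        g • (Subtype.val '' B') = Subtype.val '' B' ∨
          Disjoint (g • (Subtype.val '' B')) (Subtype.val '' B') := by
      intro g hg
      have hg' : g ∈ stabilizer G F := mem_stabilizer_iff.mpr hg
      rcases (isBlock_iff_smul_eq_or_disjoint.mp hB') ⟨g, hg'⟩ with h | h
      · left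
        rw [← image_val_smul F ⟨g, hg'⟩ B', h]
      · right
        rw [← image_val_smul F ⟨g, hg'⟩ B']
        exact (Set.disjoint_image_iff Subtype.val_injective).mpr h
    have h4 := hblk _ h2 h1 h3
    ext y
    simp only [Set.mem_univ, iff_true]
    have : (y : Ω) ∈ Subtype.val '' B' := by rw [h4]; exact y.2
    obtain ⟨z, hz, hzy⟩ := this
    rwa [← Subtype.ext hzy]

theorem JS_sub (F E : Set Ω)
    (h : ∀ a ∈ E, ∀ b ∈ E, ∃ g : G, g • F = F ∧ (∀ x ∈ F, x ∉ E → g • x = x) ∧ g • a = b) :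
    JS (stabilizer G F) (Subtype.val ⁻¹' E : Set F) := by
  intro a ha b hb
  obtain ⟨g, hg1, hg2, hg3⟩ := h a ha b hb
  refine ⟨⟨g, mem_stabilizer_iff.mpr hg1⟩, ?_, Subtype.ext hg3⟩
  intro x hx
  exact Subtype.ext (hg2 x x.2 hx)

theorem IA_of_goal_sub [Fintype Ω] [DecidableEq Ω] (F : Set Ω) [DecidablePred (· ∈ F)]
    (h : Goal (stabilizer G F) F) : IA G F := by
  intro σ hσ hsign
  have h1 : ∀ x, σ x ∈ F ↔ x ∈ F := by
    intro x
    constructor
    · intro hx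
      by_contra hx'
      rw [hσ x hx'] at hx
      exact hx' hx
    · intro hx
      by_contra hx'
      have := hσ _ hx'
      rw [σ.injective this] at hx'
      exact hx' hx
  have h2 : Equiv.Perm.sign (σ.subtypePerm h1) = 1 := by
    rw [Equiv.Perm.sign_subtypePerm _ h1 (fun x hx => by_contra fun hx' => hx (hσ x hx'))]
    exact hsign
  obtain ⟨s, hs⟩ := h _ h2
  refine ⟨s, fun x hx => ?_⟩
  have := hs ⟨x, hx⟩
  exact congrArg Subtype.val this


theorem smul_compl_singleton_iff (g : G) (ω : Ω) :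
    g • ({ω}ᶜ : Set Ω) = {ω}ᶜ ↔ g • ω = ω := by
  rw [Set.smul_set_compl, Set.smul_set_singleton, compl_inj_iff, Set.singleton_eq_singleton_iff]

theorem T2_of_prim [Finite Ω] (hprim : IsPreprimitive G Ω) (Γ : Set Ω) (hJ : JS G Γ)
    (hΓ1 : 1 < Γ.ncard) (hΓ2 : Γ.ncard < Nat.card Ω) : T2 G Ω := by
  rw [T2_iff]
  have hc : Γᶜ.ncard = (Nat.card Ω - Γ.ncard - 1) + 1 := by
    rw [Set.ncard_compl]
    omega
  exact hprim.is_two_pretransitive hc (by omega) ((JS_iff_pretransitive Γ).mp hJ)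

theorem prim_stab [Finite Ω] (h2 : T2 G Ω) (Γ : Set Ω) (hJ : JS G Γ)
    (hΓ1 : 1 < Γ.ncard) (hΓ2 : 2 * Γ.ncard ≤ Nat.card Ω) (ω : Ω) :
    IsPreprimitive (stabilizer G ({ω}ᶜ : Set Ω)) ({ω}ᶜ : Set Ω) := by
  apply isPreprimitive_sub
  · intro a ha b hb
    obtain ⟨g, hg1, hg2⟩ := h2 ω a ω b (Ne.symm ha) (Ne.symm hb)
    exact ⟨g, (smul_compl_singleton_iff g ω).mpr hg1, hg2⟩
  · intro B hBF hB1 hB
    apply Set.Subset.antisymm hBF
    intro p hp
    exact thmQ h2 Γ hJ hΓ1 hΓ2 ω B (fun h => hBF h rfl) hB1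
      (fun g hg => hB g ((smul_compl_singleton_iff g ω).mpr hg)) p hp

theorem T2_stab [Finite Ω] (hprim : IsPreprimitive G Ω) (Γ : Set Ω) (hJ : JS G Γ)
    (hΓ1 : 1 < Γ.ncard) (hΓ2 : 2 * Γ.ncard < Nat.card Ω) (ω : Ω) :
    T2 (stabilizer G ({ω}ᶜ : Set Ω)) ({ω}ᶜ : Set Ω) := by
  have h2 : T2 G Ω := T2_of_prim hprim Γ hJ hΓ1 (by omega)
  obtain ⟨δ, hδ⟩ : ∃ δ, δ ∉ Γ := by
    by_contra h
    simp only [not_exists, not_not] at h
    have : Γ = Set.univ := Set.eq_univ_of_forall h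
    rw [this, Set.ncard_univ] at hΓ2
    omega
  obtain ⟨t, ht⟩ := h2.trans δ ω
  have hωΓ' : ω ∉ t • Γ := by
    rw [Set.mem_smul_set_iff_inv_smul_mem, ← ht, inv_smul_smul]
    exact hδ
  have hJ' : JS G (t • Γ) := hJ.smul t
  have hcard' : (t • Γ).ncard = Γ.ncard := Set.ncard_smul_set _ _
  have hprimω := prim_stab h2 Γ hJ hΓ1 (by omega) ω
  have hJsub : JS (stabilizer G ({ω}ᶜ : Set Ω))
      (Subtype.val ⁻¹' (t • Γ) : Set ({ω}ᶜ : Set Ω)) := by
    apply JS_sub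
    intro a ha b hb
    obtain ⟨g, hg1, hg2⟩ := hJ' a ha b hb
    exact ⟨g, (smul_compl_singleton_iff g ω).mpr (hg1 ω hωΓ'), fun x _ hx => hg1 x hx, hg2⟩
  have hpre : (Subtype.val ⁻¹' (t • Γ) : Set ({ω}ᶜ : Set Ω)).ncard = Γ.ncard := by
    rw [Set.ncard_preimage_of_injective_subset_range Subtype.val_injective, hcard']
    intro x hx
    exact ⟨⟨x, fun h => hωΓ' (h ▸ hx)⟩, rfl⟩
  have hcardF : Nat.card ({ω}ᶜ : Set Ω) = Nat.card Ω - 1 := by
    rw [Nat.card_coe_set_eq, Set.ncard_compl, Set.ncard_singleton]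
  exact T2_of_prim hprimω _ hJsub (by rw [hpre]; exact hΓ1) (by rw [hpre, hcardF]; omega)

theorem T3_of_prim [Finite Ω] (hprim : IsPreprimitive G Ω) (Γ : Set Ω) (hJ : JS G Γ)
    (hΓ1 : 1 < Γ.ncard) (hΓ2 : 2 * Γ.ncard < Nat.card Ω) : T3 G Ω := by
  have h2 : T2 G Ω := T2_of_prim hprim Γ hJ hΓ1 (by omega)
  intro a b c a' b' c' hab hac hbc hab' hac' hbc'
  obtain ⟨g₁, hg₁⟩ := h2.trans a a'
  have hs := T2_stab hprim Γ hJ hΓ1 hΓ2 a'
  have hb1 : g₁ • b ∈ ({a'}ᶜ : Set Ω) := by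
    intro h
    apply hab
    rw [Set.mem_singleton_iff, ← hg₁] at h
    exact (smul_left_cancel _ h).symm
  have hc1 : g₁ • c ∈ ({a'}ᶜ : Set Ω) := by
    intro h
    apply hac
    rw [Set.mem_singleton_iff, ← hg₁] at h
    exact (smul_left_cancel _ h).symm
  obtain ⟨g₂, h1, h2'⟩ := hs ⟨g₁ • b, hb1⟩ ⟨g₁ • c, hc1⟩ ⟨b', fun h => hab' h.symm⟩
    ⟨c', fun h => hac' h.symm⟩
    (by
      intro h
      exact hbc (smul_left_cancel _ (congrArg Subtype.val h)))
    (by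
      intro h
      exact hbc' (congrArg Subtype.val h))
  refine ⟨g₂ * g₁, ?_, ?_, ?_⟩
  · rw [mul_smul, hg₁]
    exact (smul_compl_singleton_iff (g₂ : G) a').mp (mem_stabilizer_iff.mp g₂.2)
  · rw [mul_smul]
    exact congrArg Subtype.val h1
  · rw [mul_smul]
    exact congrArg Subtype.val h2'

end Cfsg.Agent.Lib.Helper7.Marg
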