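import Cfsg.Agent.Lib.Helper7.Marg3

set_option autoImplicit false

open scoped Pointwise
open MulAction

namespace Cfsg.Agent.Lib.Helper7.Marg

/-- A subgroup of `Perm α` (`5 ≤ |α|`) normalized by all even permutations and containing a
nontrivial even permutation contains the alternating group. -/
theorem alt_le_of_normalized {α : Type*} [Fintype α] [DecidableEq α] (h5 : 5 ≤ Fintype.card α)
    (K : Subgroup (Equiv.Perm α))
    (hnorm : ∀ τ : Equiv.Perm α, Equiv.Perm.sign τ = 1 → ∀ x ∈ K, τ * x * τ⁻¹ ∈ K)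
    (h3 : ∃ x ∈ K, x ≠ 1 ∧ Equiv.Perm.sign x = 1) : alternatingGroup α ≤ K := by
  have hsimple : IsSimpleGroup (alternatingGroup α) :=
    alternatingGroup.isSimpleGroup (by rw [Nat.card_eq_fintype_card]; exact h5)
  have hN : (K.subgroupOf (alternatingGroup α)).Normal := by
    refine ⟨fun n hn g => ?_⟩
    rw [Subgroup.mem_subgroupOf] at hn ⊢
    have := hnorm (g : Equiv.Perm α) (Equiv.Perm.mem_alternatingGroup.mp g.2) _ hn
    simpa using this
  rcases hN.eq_bot_or_eq_top with h | h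
  · exfalso
    rw [Subgroup.subgroupOf_eq_bot, Subgroup.disjoint_def] at h
    obtain ⟨x, hxK, hx1, hxs⟩ := h3
    exact hx1 (h hxK (Equiv.Perm.mem_alternatingGroup.mpr hxs))
  · exact Subgroup.subgroupOf_eq_top.mp h

theorem exists_even_of_three {α : Type*} [Fintype α] [DecidableEq α]
    (K : Subgroup (Equiv.Perm α))
    (h3 : ∃ x ∈ K, ∃ y ∈ K, x ≠ 1 ∧ y ≠ 1 ∧ x ≠ y) :
    ∃ x ∈ K, x ≠ 1 ∧ Equiv.Perm.sign x = 1 := by
  obtain ⟨x, hx, y, hy, hx1, hy1, hxy⟩ := h3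
  rcases Int.units_eq_one_or (Equiv.Perm.sign x) with h | h
  · exact ⟨x, hx, hx1, h⟩
  rcases Int.units_eq_one_or (Equiv.Perm.sign y) with h' | h'
  · exact ⟨y, hy, hy1, h'⟩
  refine ⟨x * y⁻¹, K.mul_mem hx (K.inv_mem hy), ?_, ?_⟩
  · intro h1
    exact hxy (mul_inv_eq_one.mp h1)
  · rw [map_mul, map_inv, h, h']
    decide

variable {Ω : Type*} [DecidableEq Ω]

theorem c3_supp (F : Set Ω) {a b c : Ω} (ha : a ∈ F) (hb : b ∈ F) (hc : c ∈ F) :
    ∀ p, p ∉ F → (Equiv.swap a b * Equiv.swap a c) p = p := by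
  intro p hp
  have hpa : p ≠ a := fun h => hp (h ▸ ha)
  have hpb : p ≠ b := fun h => hp (h ▸ hb)
  have hpc : p ≠ c := fun h => hp (h ▸ hc)
  rw [Equiv.Perm.mul_apply, Equiv.swap_apply_of_ne_of_ne hpa hpc,
    Equiv.swap_apply_of_ne_of_ne hpa hpb]

theorem c3_apply_a {a b c : Ω} (hac : a ≠ c) (hbc : b ≠ c) :
    (Equiv.swap a b * Equiv.swap a c) a = c := by
  rw [Equiv.Perm.mul_apply, Equiv.swap_apply_left,
    Equiv.swap_apply_of_ne_of_ne (Ne.symm hac) (Ne.symm hbc)]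

theorem c3_apply_c {a b c : Ω} : (Equiv.swap a b * Equiv.swap a c) c = b := by
  rw [Equiv.Perm.mul_apply, Equiv.swap_apply_right, Equiv.swap_apply_left]

theorem c3_apply_b {a b c : Ω} (hab : a ≠ b) (hbc : b ≠ c) :
    (Equiv.swap a b * Equiv.swap a c) b = a := by
  rw [Equiv.Perm.mul_apply, Equiv.swap_apply_of_ne_of_ne (Ne.symm hab) hbc,
    Equiv.swap_apply_right]

theorem c3_apply_other {a b c p : Ω} (hpa : p ≠ a) (hpb : p ≠ b) (hpc : p ≠ c) :
    (Equiv.swap a b * Equiv.swap a c) p = p := by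
  rw [Equiv.Perm.mul_apply, Equiv.swap_apply_of_ne_of_ne hpa hpc,
    Equiv.swap_apply_of_ne_of_ne hpa hpb]

omit [DecidableEq Ω] in
theorem supp_mem_iff (F : Set Ω) (σ : Equiv.Perm Ω) (hσ : ∀ p, p ∉ F → σ p = p) (x : Ω) :
    σ x ∈ F ↔ x ∈ F := by
  constructor
  · intro hx
    by_contra hx'
    rw [hσ x hx'] at hx
    exact hx' hx
  · intro hx
    by_contra hx'
    have := hσ _ hx'
    rw [σ.injective this] at hx'
    exact hx' hx

variable [Fintype Ω]

/-- relative version of `alt_le_of_normalized` for permutations supported in a subset -/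
theorem alt_le_of_normalized_set (F : Set Ω) (h5 : 5 ≤ F.ncard)
    (K : Subgroup (Equiv.Perm Ω))
    (hsupp : ∀ x ∈ K, ∀ p, p ∉ F → x p = p)
    (hnorm : ∀ τ : Equiv.Perm Ω, (∀ p, p ∉ F → τ p = p) → Equiv.Perm.sign τ = 1 →
      ∀ x ∈ K, τ * x * τ⁻¹ ∈ K)
    (h3 : ∃ x ∈ K, x ≠ 1 ∧ Equiv.Perm.sign x = 1)
    (τ : Equiv.Perm Ω) (hτ : ∀ p, p ∉ F → τ p = p) (hτs : Equiv.Perm.sign τ = 1) : τ ∈ K := by
  classical
  have hpres : ∀ σ : Equiv.Perm Ω, (∀ p, p ∉ F → σ p = p) → ∀ x, σ x ∈ F ↔ x ∈ F := by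
    intro σ hσ x
    constructor
    · intro hx
      by_contra hx'
      rw [hσ x hx'] at hx
      exact hx' hx
    · intro hx
      by_contra hx'
      have := hσ _ hx'
      rw [σ.injective this] at hx'
      exact hx' hx
  have hmv : ∀ σ : Equiv.Perm Ω, (∀ p, p ∉ F → σ p = p) → ∀ x, σ x ≠ x → x ∈ F :=
    fun σ hσ x hx => by_contra fun hx' => hx (hσ x hx')
  let K' : Subgroup (Equiv.Perm F) := K.comap (Equiv.Perm.ofSubtype : Equiv.Perm F →* Equiv.Perm Ω)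
  have hcard : 5 ≤ Fintype.card F := by
    rw [← Nat.card_eq_fintype_card, Nat.card_coe_set_eq]
    exact h5
  have key : alternatingGroup F ≤ K' := by
    apply alt_le_of_normalized hcard
    · intro τ' hτ' x' hx'
      show Equiv.Perm.ofSubtype (τ' * x' * τ'⁻¹) ∈ K
      rw [map_mul, map_mul, map_inv]
      apply hnorm _ _ _ _ hx'
      · intro p hp
        exact Equiv.Perm.ofSubtype_apply_of_not_mem _ hp
      · rw [Equiv.Perm.sign_ofSubtype]
        exact hτ'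
    · obtain ⟨x, hxK, hx1, hxs⟩ := h3
      have hx := hsupp x hxK
      refine ⟨x.subtypePerm (hpres x hx), ?_, ?_, ?_⟩
      · show Equiv.Perm.ofSubtype (x.subtypePerm (hpres x hx)) ∈ K
        rw [Equiv.Perm.ofSubtype_subtypePerm _ (hmv x hx)]
        exact hxK
      · intro h1
        apply hx1
        rw [← Equiv.Perm.ofSubtype_subtypePerm (hpres x hx) (hmv x hx), h1, map_one]
      · rw [Equiv.Perm.sign_subtypePerm _ _ (hmv x hx)]
        exact hxs
  have hmem : τ.subtypePerm (hpres τ hτ) ∈ alternatingGroup F := by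
    rw [Equiv.Perm.mem_alternatingGroup, Equiv.Perm.sign_subtypePerm _ _ (hmv τ hτ)]
    exact hτs
  have := key hmem
  change Equiv.Perm.ofSubtype (τ.subtypePerm (hpres τ hτ)) ∈ K at this
  rwa [Equiv.Perm.ofSubtype_subtypePerm _ (hmv τ hτ)] at this


theorem c3_sign {a b c : Ω} (hab : a ≠ b) (hac : a ≠ c) (hbc : b ≠ c) :
    Equiv.Perm.sign (Equiv.swap a b * Equiv.swap a c) = 1 :=
  (Equiv.Perm.isThreeCycle_swap_mul_swap_same hab hac hbc).sign

variable {G : Type*} [Group G] [MulAction G Ω]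

theorem IA.exists_c3 {F : Set Ω} (h : IA G F) {a b c : Ω} (ha : a ∈ F) (hb : b ∈ F)
    (hc : c ∈ F) (hab : a ≠ b) (hac : a ≠ c) (hbc : b ≠ c) :
    ∃ g : G, ∀ x ∈ F, g • x = (Equiv.swap a b * Equiv.swap a c) x :=
  h _ (c3_supp F ha hb hc) (c3_sign hab hac hbc)

omit [DecidableEq Ω] in
theorem smul_eq_of_agree (F : Set Ω) (σ : Equiv.Perm Ω) (hσ : ∀ p, p ∉ F → σ p = p) (g : G)
    (hg : ∀ x ∈ F, g • x = σ x) : g • F = F := by
  have hsub : g • F ⊆ F := by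
    rintro _ ⟨x, hx, rfl⟩
    show g • x ∈ F
    rw [hg x hx]
    exact (supp_mem_iff F σ hσ x).mpr hx
  exact Set.eq_of_subset_of_ncard_le hsub (by rw [Set.ncard_smul_set]) (Set.toFinite _)

/-- If `G` induces all even permutations on `Δ` (at least 5 points, more than half), then `G`
contains a 3-cycle. -/
theorem exists_threeCycle_of_IA (Δ : Set Ω) (h5 : 5 ≤ Δ.ncard) (hlt : Δᶜ.ncard < Δ.ncard)
    (hIA : IA G Δ) : ∃ g : G, (toPerm g : Equiv.Perm Ω).IsThreeCycle := by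
  classical
  -- Step 1 : a nontrivial even element fixing `Δᶜ` pointwise
  have step1 : ∃ c : G, (∀ x, x ∉ Δ → c • x = x) ∧ (toPerm c : Equiv.Perm Ω) ≠ 1 ∧
      Equiv.Perm.sign (toPerm c : Equiv.Perm Ω) = 1 := by
    have hch : ∀ τ' : alternatingGroup Δ, ∃ g : G, ∀ x ∈ Δ,
        g • x = Equiv.Perm.ofSubtype (τ' : Equiv.Perm Δ) x := fun τ' =>
      hIA _ (fun p hp => Equiv.Perm.ofSubtype_apply_of_not_mem _ hp)
        (by rw [Equiv.Perm.sign_ofSubtype]; exact Equiv.Perm.mem_alternatingGroup.mp τ'.2)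
    choose n hn using hch
    let f : alternatingGroup Δ → {π : Equiv.Perm Ω // ∀ a, ¬ (a ∈ Δᶜ) → π a = a} := fun τ' =>
      ⟨(Equiv.Perm.ofSubtype (τ' : Equiv.Perm Δ))⁻¹ * toPerm (n τ'), by
        intro a ha
        have ha' : a ∈ Δ := by
          by_contra h
          exact ha h
        rw [Equiv.Perm.mul_apply, toPerm_apply, hn τ' a ha']
        exact Equiv.symm_apply_apply _ _⟩
    have hc1 : Fintype.card {π : Equiv.Perm Ω // ∀ a, ¬ (a ∈ Δᶜ) → π a = a} =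
        (Δᶜ.ncard).factorial := by
      rw [← Fintype.card_congr (Equiv.Perm.subtypeEquivSubtypePerm (· ∈ Δᶜ)), Fintype.card_perm,
        ← Nat.card_eq_fintype_card, Nat.card_coe_set_eq]
    have hnt : Nontrivial Δ := by
      rw [← Fintype.one_lt_card_iff_nontrivial, ← Nat.card_eq_fintype_card, Nat.card_coe_set_eq]
      omega
    have hc2 : 2 * Fintype.card (alternatingGroup Δ) = (Δ.ncard).factorial := by
      rw [two_mul_card_alternatingGroup, Fintype.card_perm, ← Nat.card_eq_fintype_card,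
        Nat.card_coe_set_eq]
    have hlt' : Fintype.card {π : Equiv.Perm Ω // ∀ a, ¬ (a ∈ Δᶜ) → π a = a} <
        Fintype.card (alternatingGroup Δ) := by
      rw [hc1]
      obtain ⟨k, hk⟩ : ∃ k, Δ.ncard = k + 1 := ⟨Δ.ncard - 1, by omega⟩
      have h1 : (Δᶜ.ncard).factorial ≤ k.factorial := Nat.factorial_le (by omega)
      rw [hk, Nat.factorial_succ] at hc2
      have h2 : 0 < k.factorial := Nat.factorial_pos k
      nlinarith
    obtain ⟨τ₁, τ₂, hne, heq⟩ := Fintype.exists_ne_map_eq_of_card_lt f hlt'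
    have heq' : (Equiv.Perm.ofSubtype (τ₁ : Equiv.Perm Δ))⁻¹ * toPerm (n τ₁) =
        (Equiv.Perm.ofSubtype (τ₂ : Equiv.Perm Δ))⁻¹ * toPerm (n τ₂) := congrArg Subtype.val heq
    have hc : (toPerm (n τ₁ * (n τ₂)⁻¹) : Equiv.Perm Ω) =
        Equiv.Perm.ofSubtype ((τ₁ : Equiv.Perm Δ) * (τ₂ : Equiv.Perm Δ)⁻¹) := by
      have h1 : (toPerm (n τ₁) : Equiv.Perm Ω) = Equiv.Perm.ofSubtype (τ₁ : Equiv.Perm Δ) *
          ((Equiv.Perm.ofSubtype (τ₂ : Equiv.Perm Δ))⁻¹ * toPerm (n τ₂)) := by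
        rw [← heq', mul_inv_cancel_left]
      show toPermHom G Ω (n τ₁ * (n τ₂)⁻¹) = _
      rw [map_mul (toPermHom G Ω), map_inv (toPermHom G Ω), map_mul Equiv.Perm.ofSubtype,
        map_inv Equiv.Perm.ofSubtype]
      show (toPerm (n τ₁) : Equiv.Perm Ω) * (toPerm (n τ₂))⁻¹ = _
      rw [h1]
      group
    refine ⟨n τ₁ * (n τ₂)⁻¹, ?_, ?_, ?_⟩
    · intro x hx
      rw [← toPerm_apply, hc]
      exact Equiv.Perm.ofSubtype_apply_of_not_mem _ hx
    · rw [hc]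
      intro h1
      rw [← map_one (Equiv.Perm.ofSubtype : Equiv.Perm Δ →* Equiv.Perm Ω)] at h1
      have := Equiv.Perm.ofSubtype_injective h1
      apply hne
      exact Subtype.ext (mul_inv_eq_one.mp this)
    · rw [hc, Equiv.Perm.sign_ofSubtype, map_mul, map_inv,
        Equiv.Perm.mem_alternatingGroup.mp τ₁.2, Equiv.Perm.mem_alternatingGroup.mp τ₂.2]
      decide
  obtain ⟨c, hc1, hc2, hc3⟩ := step1
  -- Step 2
  let K : Subgroup (Equiv.Perm Ω) := (fixingSubgroup G Δᶜ).map (toPermHom G Ω)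
  have hsupp : ∀ x ∈ K, ∀ p, p ∉ Δ → x p = p := by
    rintro x ⟨c', hc', rfl⟩ p hp
    exact (mem_fixingSubgroup_iff G).mp hc' p hp
  have hnorm : ∀ τ : Equiv.Perm Ω, (∀ p, p ∉ Δ → τ p = p) → Equiv.Perm.sign τ = 1 →
      ∀ x ∈ K, τ * x * τ⁻¹ ∈ K := by
    rintro τ hτ hτs x ⟨c', hc', rfl⟩
    have hc'fix : ∀ p, p ∉ Δ → c' • p = p := fun p hp => (mem_fixingSubgroup_iff G).mp hc' p hp
    obtain ⟨n, hn⟩ := hIA τ hτ hτs
    have hnΔ : n • Δ = Δ := smul_eq_of_agree Δ τ hτ n hn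
    have hc'Δ : ∀ q, q ∈ Δ → c' • q ∈ Δ := by
      intro q hq
      by_contra h
      have := hc'fix _ h
      rw [smul_left_cancel _ this] at h
      exact h hq
    have hτinv : ∀ p, p ∉ Δ → τ⁻¹ p = p := by
      intro p hp
      rw [Equiv.Perm.inv_eq_iff_eq, hτ p hp]
    have key : ∀ p, (n * c' * n⁻¹) • p = (τ * toPermHom G Ω c' * τ⁻¹) p := by
      intro p
      rw [Equiv.Perm.mul_apply, Equiv.Perm.mul_apply, toPermHom_apply, toPerm_apply]
      by_cases hp : p ∈ Δ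
      · have h1 : τ⁻¹ p ∈ Δ := (supp_mem_iff Δ τ⁻¹ hτinv p).mpr hp
        have h2 : n⁻¹ • p = τ⁻¹ p := by
          rw [inv_smul_eq_iff, hn _ h1]
          exact (Equiv.apply_symm_apply τ p).symm
        rw [mul_smul, mul_smul, h2, hn _ (hc'Δ _ h1)]
      · have h1 : n⁻¹ • p ∉ Δ := by
          intro h
          apply hp
          rw [← hnΔ, Set.mem_smul_set_iff_inv_smul_mem]
          exact h
        rw [mul_smul, mul_smul, hc'fix _ h1, smul_inv_smul, hτinv p hp, hc'fix p hp, hτ p hp]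
    refine ⟨n * c' * n⁻¹, ?_, ?_⟩
    · show n * c' * n⁻¹ ∈ fixingSubgroup G Δᶜ
      rw [mem_fixingSubgroup_iff]
      intro p hp
      rw [key, Equiv.Perm.mul_apply, Equiv.Perm.mul_apply, hτinv p hp, toPermHom_apply,
        toPerm_apply, hc'fix p hp, hτ p hp]
    · ext p
      rw [toPermHom_apply, toPerm_apply, key]
  have h3 : ∃ x ∈ K, x ≠ 1 ∧ Equiv.Perm.sign x = 1 := by
    refine ⟨toPerm c, ⟨c, ?_, rfl⟩, hc2, hc3⟩
    show c ∈ fixingSubgroup G Δᶜ
    rw [mem_fixingSubgroup_iff]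
    exact fun p hp => hc1 p hp
  obtain ⟨a, b, c₀, ha, hb, hc₀, hab, hac, hbc⟩ : ∃ a b c₀ : Ω, a ∈ Δ ∧ b ∈ Δ ∧ c₀ ∈ Δ ∧
      a ≠ b ∧ a ≠ c₀ ∧ b ≠ c₀ := by
    have : 2 < Δ.ncard := by omega
    rw [Set.two_lt_ncard_iff (Set.toFinite _)] at this
    obtain ⟨a, b, c₀, ha, hb, hc₀, hab, hac, hbc⟩ := this
    exact ⟨a, b, c₀, ha, hb, hc₀, hab, hac, hbc⟩
  have hmem := alt_le_of_normalized_set Δ h5 K hsupp hnorm h3 (Equiv.swap a b * Equiv.swap a c₀)
    (c3_supp Δ ha hb hc₀) (c3_sign hab hac hbc)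
  obtain ⟨d, _, hd⟩ := hmem
  refine ⟨d, ?_⟩
  rw [← toPermHom_apply, hd]
  exact Equiv.Perm.isThreeCycle_swap_mul_swap_same hab hac hbc

end Cfsg.Agent.Lib.Helper7.Marg
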