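import Cfsg.Agent.Lib.Helper7.Marg4

set_option autoImplicit false

open scoped Pointwise
open MulAction

namespace Cfsg.Agent.Lib.Helper7.Marg

variable {G : Type*} {Ω : Type*} [Group G] [MulAction G Ω]

/-- complement of a Jordan set -/
def Flat (G : Type*) {Ω : Type*} [Group G] [MulAction G Ω] (F : Set Ω) : Prop := JS G Fᶜ

theorem Flat.smul {F : Set Ω} (h : Flat G F) (g : G) : Flat G (g • F) := by
  unfold Flat
  rw [← Set.smul_set_compl]
  exact JS.smul h g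

theorem Flat.inter {F₁ F₂ : Set Ω} (h₁ : Flat G F₁) (h₂ : Flat G F₂) (h : F₁ ∪ F₂ ≠ Set.univ) :
    Flat G (F₁ ∩ F₂) := by
  unfold Flat
  rw [Set.compl_inter]
  apply JS.union h₁ h₂
  by_contra hne
  apply h
  rw [Set.not_nonempty_iff_eq_empty, ← Set.compl_union, Set.compl_empty_iff] at hne
  exact hne

theorem flat_pair (h3 : T3 G Ω) {p q : Ω} (hpq : p ≠ q) : Flat G ({p, q} : Set Ω) := by
  intro a ha b hb
  have hap : a ≠ p := fun h => ha (by rw [h]; exact Set.mem_insert _ _)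
  have haq : a ≠ q := fun h => ha (by rw [h]; exact Set.mem_insert_of_mem _ rfl)
  have hbp : b ≠ p := fun h => hb (by rw [h]; exact Set.mem_insert _ _)
  have hbq : b ≠ q := fun h => hb (by rw [h]; exact Set.mem_insert_of_mem _ rfl)
  obtain ⟨g, hg1, hg2, hg3⟩ := h3 p q a p q b hpq (Ne.symm hap) (Ne.symm haq) hpq (Ne.symm hbp)
    (Ne.symm hbq)
  refine ⟨g, ?_, hg3⟩
  intro x hx
  rw [Set.mem_compl_iff, not_not] at hx
  rcases hx with rfl | hx
  · exact hg1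
  · rw [Set.mem_singleton_iff] at hx
    rw [hx]
    exact hg2

theorem IA_small [Fintype Ω] [DecidableEq Ω] (h3 : T3 G Ω) (F : Set Ω) (hF : F.ncard ≤ 3)
    (hΩ : 3 ≤ Fintype.card Ω) : IA G F := by
  classical
  intro σ _ _
  have h1 : F.toFinset.card ≤ 3 := by
    rw [← Set.ncard_eq_toFinset_card']
    exact hF
  obtain ⟨t, ht1, ht2⟩ := Finset.exists_superset_card_eq h1 hΩ
  obtain ⟨a, b, c, hab, hac, hbc, rfl⟩ := Finset.card_eq_three.mp ht2
  obtain ⟨g, hga, hgb, hgc⟩ := h3 a b c (σ a) (σ b) (σ c) hab hac hbc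
    (fun h => hab (σ.injective h)) (fun h => hac (σ.injective h)) (fun h => hbc (σ.injective h))
  refine ⟨g, fun x hx => ?_⟩
  have := ht1 (Set.mem_toFinset.mpr hx)
  simp only [Finset.mem_insert, Finset.mem_singleton] at this
  rcases this with rfl | rfl | rfl
  · exact hga
  · exact hgb
  · exact hgc

/-- maximal proper subflat -/
def IsMaxSub (G : Type*) {Ω : Type*} [Group G] [MulAction G Ω] (F F' : Set Ω) : Prop :=
  F' ⊂ F ∧ Flat G F' ∧ 2 ≤ F'.ncard ∧ ∀ F'' : Set Ω, F'' ⊂ F → Flat G F'' → F' ⊆ F'' → F'' = F'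

theorem exists_isMaxSub [Finite Ω] (h3 : T3 G Ω) (F : Set Ω) (hF : 3 ≤ F.ncard) {p q : Ω}
    (hp : p ∈ F) (hq : q ∈ F) (hpq : p ≠ q) : ∃ F', IsMaxSub G F F' ∧ p ∈ F' ∧ q ∈ F' := by
  let 𝒮 : Set (Set Ω) := {F' | F' ⊂ F ∧ Flat G F' ∧ p ∈ F' ∧ q ∈ F'}
  have hne : 𝒮.Nonempty := by
    refine ⟨{p, q}, ?_, flat_pair h3 hpq, Set.mem_insert _ _, Set.mem_insert_of_mem _ rfl⟩
    have hsub : ({p, q} : Set Ω) ⊆ F := by
      rintro x (rfl | hx)
      · exact hp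
      · rw [Set.mem_singleton_iff] at hx
        rw [hx]
        exact hq
    refine ⟨hsub, fun h => ?_⟩
    have := Set.ncard_le_ncard h (Set.toFinite _)
    rw [Set.ncard_pair hpq] at this
    omega
  obtain ⟨F', hF', hmax⟩ := Set.exists_max_image 𝒮 Set.ncard (Set.toFinite _) hne
  obtain ⟨h1, h2, h3', h4⟩ := hF'
  refine ⟨F', ⟨h1, h2, ?_, ?_⟩, h3', h4⟩
  · have hsub : ({p, q} : Set Ω) ⊆ F' := by
      rintro x (rfl | hx)
      · exact h3'
      · rw [Set.mem_singleton_iff] at hx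
        rw [hx]
        exact h4
    have := Set.ncard_le_ncard hsub (Set.toFinite _)
    rw [Set.ncard_pair hpq] at this
    exact this
  · intro F'' h1'' h2'' hsub
    have hmem : F'' ∈ 𝒮 := ⟨h1'', h2'', hsub h3', hsub h4⟩
    exact (Set.eq_of_subset_of_ncard_le hsub (hmax _ hmem) (Set.toFinite _)).symm


theorem smul_eq_of_fix {F' : Set Ω} (g : G) (hg : ∀ y ∈ F', g • y = y) : g • F' = F' := by
  ext x
  rw [Set.mem_smul_set_iff_inv_smul_mem]
  constructor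
  · intro h
    have := hg _ h
    rw [smul_inv_smul] at this
    rw [this]
    exact h
  · intro h
    rw [inv_smul_eq_iff.mpr (hg x h).symm]
    exact h

/-- context for the half case `n = 2m+1` -/
structure FCtx (G : Type*) {Ω : Type*} [Group G] [MulAction G Ω] [Fintype Ω] [DecidableEq Ω]
    (Δ : Set Ω) : Prop where
  t3 : T3 G Ω
  jΓ : JS G Δᶜ
  card : Δ.ncard = Δᶜ.ncard + 1
  m2 : 2 ≤ Δᶜ.ncard
  ih : ∀ F : Set Ω, F ⊆ Δ → IsPreprimitive (stabilizer G F) F → ∀ E' : Set F,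
      JS (stabilizer G F) E' → 1 < E'.ncard → 2 * E'.ncard < Nat.card F → IA G F

section ctx

variable [Fintype Ω] [DecidableEq Ω] {Δ : Set Ω}

theorem lemM (C : FCtx G Δ) {F F' : Set Ω} (hFΔ : F ⊆ Δ) (hF : Flat G F)
    (hmax : IsMaxSub G F F') (s : G) (hs : s • F' = F') {x : Ω} (hx : x ∈ F \ F')
    (hsx : s • x ∈ F \ F') : s • F = F := by
  obtain ⟨hF'sub, hF'flat, hF'2, hF'max⟩ := hmax
  have hcardF : F.ncard ≤ Δ.ncard := Set.ncard_le_ncard hFΔ (Set.toFinite _)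
  have hn : Δ.ncard + Δᶜ.ncard = Nat.card Ω := Set.ncard_add_ncard_compl Δ
  have hF'sF : F' ⊆ s • F := by
    rw [← hs]
    exact Set.smul_set_mono hF'sub.1
  have hF'F₂ : F' ⊆ F ∩ s • F := fun y hy => ⟨hF'sub.1 hy, hF'sF hy⟩
  have hsxF₂ : s • x ∈ F ∩ s • F := ⟨hsx.1, Set.smul_mem_smul_set hx.1⟩
  have h3 : F'.ncard + 1 ≤ (F ∩ s • F).ncard := by
    rw [← Set.ncard_insert_of_notMem hsx.2 (Set.toFinite _)]
    apply Set.ncard_le_ncard _ (Set.toFinite _)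
    intro y hy
    rcases hy with rfl | hy
    · exact hsxF₂
    · exact hF'F₂ hy
  have hunion : F ∪ s • F ≠ Set.univ := by
    intro h
    have h1 := Set.ncard_union_add_ncard_inter F (s • F)
    rw [h, Set.ncard_univ, Set.ncard_smul_set] at h1
    have := C.card
    omega
  have hF₂flat : Flat G (F ∩ s • F) := hF.inter (hF.smul s) hunion
  by_cases hF₂ : F ∩ s • F = F
  · have : F ⊆ s • F := fun y hy => (hF₂.symm ▸ hy : y ∈ F ∩ s • F).2
    exact (Set.eq_of_subset_of_ncard_le this (by rw [Set.ncard_smul_set]) (Set.toFinite _)).symm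
  · exfalso
    have hss : F ∩ s • F ⊂ F :=
      ⟨Set.inter_subset_left, fun h => hF₂ (Set.Subset.antisymm Set.inter_subset_left h)⟩
    have := hF'max _ hss hF₂flat hF'F₂
    exact hsx.2 (this ▸ hsxF₂)

theorem ebound (C : FCtx G Δ) {F F' : Set Ω} (hFΔ : F ⊆ Δ) (hF : Flat G F)
    (hmax : IsMaxSub G F F') : (F \ F').ncard + 1 ≤ F'.ncard := by
  have hmax' := hmax
  obtain ⟨hF'sub, hF'flat, hF'2, hF'max⟩ := hmax
  have hEne : (F \ F').Nonempty := Set.nonempty_of_ssubset hF'sub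
  have hEcard : (F \ F').ncard + F'.ncard = F.ncard :=
    Set.ncard_sdiff_add_ncard_of_subset hF'sub.1 (Set.toFinite _)
  have hcardF : F.ncard ≤ Δ.ncard := Set.ncard_le_ncard hFΔ (Set.toFinite _)
  have hn : Δ.ncard + Δᶜ.ncard = Nat.card Ω := Set.ncard_add_ncard_compl Δ
  have hcard := C.card
  have BP : ∀ g : G, (∀ y ∈ F', g • y = y) → (g • (F \ F') ∩ (F \ F')).Nonempty →
      g • (F \ F') = F \ F' := by
    rintro g hg ⟨z, ⟨x, hx, rfl⟩, hz⟩
    have h1 := smul_eq_of_fix g hg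
    have h2 := lemM C hFΔ hF hmax' g h1 hx hz
    rw [Set.smul_set_sdiff, h1, h2]
  let P : Set (Set Ω) := {T | ∃ g : G, (∀ y ∈ F', g • y = y) ∧ T = g • (F \ F')}
  have hPcard : ∀ T ∈ P, T.ncard = (F \ F').ncard := by
    rintro T ⟨g, _, rfl⟩
    exact Set.ncard_smul_set _ _
  have hPdisj : ∀ T ∈ P, ∀ T' ∈ P, (T ∩ T').Nonempty → T = T' := by
    rintro T ⟨g, hg, rfl⟩ T' ⟨g', hg', rfl⟩ ⟨z, hz, hz'⟩
    have hfix : ∀ y ∈ F', (g'⁻¹ * g) • y = y := by
      intro y hy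
      rw [mul_smul, hg y hy, inv_smul_eq_iff, hg' y hy]
    have := BP (g'⁻¹ * g) hfix ⟨g'⁻¹ • z, by
      rw [mul_smul, Set.smul_mem_smul_set_iff]
      exact hz, by
      rw [← Set.mem_smul_set_iff_inv_smul_mem]
      exact hz'⟩
    rw [mul_smul, inv_smul_eq_iff] at this
    exact this
  have hPcover : ∀ x ∈ F'ᶜ, ∃ T ∈ P, x ∈ T := by
    intro x hx
    obtain ⟨x₀, hx₀⟩ := hEne
    obtain ⟨g, hg1, hg2⟩ := hF'flat x₀ (by exact hx₀.2) x hx
    refine ⟨g • (F \ F'), ⟨g, ?_, rfl⟩, hg2 ▸ Set.smul_mem_smul_set hx₀⟩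
    intro y hy
    exact hg1 y (by rw [Set.mem_compl_iff, not_not]; exact hy)
  have hPsub : ∀ T ∈ P, T ⊆ F'ᶜ := by
    rintro T ⟨g, hg, rfl⟩ _ ⟨y, hy, rfl⟩ hgy
    have := hg _ hgy
    rw [smul_left_cancel _ this] at hgy
    exact hy.2 hgy
  have part1 := ncard_eq_mul_of_partition F'ᶜ P _ hPcard hPdisj hPcover hPsub
  have hΓ : ∀ T ∈ P, (T ∩ Δᶜ).Nonempty → T ⊆ Δᶜ := by
    intro T hT ⟨γ, hγT, hγ⟩
    by_contra hsub
    obtain ⟨p, hpT, hp⟩ := Set.not_subset.mp hsub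
    have hΓT : Δᶜ ⊆ T := by
      intro γ' hγ'
      obtain ⟨h, hh1, hh2⟩ := C.jΓ γ hγ γ' hγ'
      obtain ⟨g, hg, rfl⟩ := hT
      have hfix : ∀ y ∈ F', (h * g) • y = y := by
        intro y hy
        rw [mul_smul, hg y hy]
        exact hh1 y (fun hy' => hy' (hFΔ (hF'sub.1 hy)))
      have hmem : (h * g) • (F \ F') ∈ P := ⟨h * g, hfix, rfl⟩
      have := hPdisj _ hmem _ ⟨g, hg, rfl⟩ ⟨p, by
        rw [mul_smul, ← hh1 p hp]
        exact Set.smul_mem_smul_set hpT, hpT⟩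
      rw [← this, mul_smul, ← hh2]
      exact Set.smul_mem_smul_set hγT
    have h1 := Set.ncard_le_ncard hΓT (Set.toFinite _)
    rw [hPcard T hT] at h1
    omega
  have part2 := ncard_eq_mul_of_partition Δᶜ {T | T ∈ P ∧ T ⊆ Δᶜ} _
    (fun T hT => hPcard T hT.1) (fun T hT T' hT' h => hPdisj T hT.1 T' hT'.1 h)
    (by
      intro γ hγ
      have hγ' : γ ∈ F'ᶜ := fun h => hγ (hFΔ (hF'sub.1 h))
      obtain ⟨T, hT, hγT⟩ := hPcover γ hγ'
      exact ⟨T, ⟨hT, hΓ T hT ⟨γ, hγT, hγ⟩⟩, hγT⟩)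
    (fun T hT => hT.2)
  have hd1 : (F \ F').ncard ∣ F'ᶜ.ncard := ⟨_, by rw [part1, mul_comm]⟩
  have hd2 : (F \ F').ncard ∣ 2 * Δᶜ.ncard :=
    Dvd.dvd.mul_left ⟨_, by rw [part2, mul_comm]⟩ 2
  rw [Set.ncard_compl] at hd1
  have hd3 := Nat.dvd_sub hd2 hd1
  have h4 : 2 * Δᶜ.ncard - (Nat.card Ω - F'.ncard) = F'.ncard - 1 := by omega
  rw [h4] at hd3
  have := Nat.le_of_dvd (by omega) hd3
  omega


theorem stepD (C : FCtx G Δ) {F F' : Set Ω} (hFΔ : F ⊆ Δ) (hF : Flat G F)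
    (hmax : IsMaxSub G F F') (hIA : IA G F') (σ : Equiv.Perm Ω) (hσ : ∀ p, p ∉ F' → σ p = p)
    (hσs : Equiv.Perm.sign σ = 1) :
    ∃ s : G, s • F = F ∧ s • F' = F' ∧ ∀ y ∈ F', s • y = σ y := by
  obtain ⟨t, ht⟩ := hIA σ hσ hσs
  have htF' : t • F' = F' := smul_eq_of_agree F' σ hσ t ht
  obtain ⟨x₀, hx₀⟩ := Set.nonempty_of_ssubset hmax.1
  have htx : t • x₀ ∉ F' := by
    intro h
    rw [← htF', Set.smul_mem_smul_set_iff] at h
    exact hx₀.2 h
  obtain ⟨h, hh1, hh2⟩ := hmax.2.1 (t • x₀) htx x₀ hx₀.2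
  have hfix : ∀ y ∈ F', h • y = y :=
    fun y hy => hh1 y (by rw [Set.mem_compl_iff, not_not]; exact hy)
  have hsF' : (h * t) • F' = F' := by rw [mul_smul, htF', smul_eq_of_fix h hfix]
  refine ⟨h * t, ?_, hsF', ?_⟩
  · apply lemM C hFΔ hF hmax (h * t) hsF' hx₀
    rw [mul_smul, hh2]
    exact hx₀
  · intro y hy
    rw [mul_smul, ht y hy]
    exact hfix _ ((supp_mem_iff F' σ hσ y).mpr hy)

theorem relF_of_mem_sub (C : FCtx G Δ) {F F' : Set Ω} (hFΔ : F ⊆ Δ) (hF : Flat G F)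
    (hmax : IsMaxSub G F F') (hIA : IA G F') (h3 : 3 ≤ F'.ncard) {p q : Ω} (hp : p ∈ F')
    (hq : q ∈ F') : ∃ s : G, s • F = F ∧ s • F' = F' ∧ s • p = q := by
  by_cases hpq : p = q
  · exact ⟨1, one_smul _ _, one_smul _ _, by rw [one_smul, hpq]⟩
  · obtain ⟨z, hzF', hz⟩ : ∃ z, z ∈ F' ∧ z ∉ ({p, q} : Set Ω) := by
      apply Set.exists_mem_notMem_of_ncard_lt_ncard _ (Set.toFinite _)
      rw [Set.ncard_pair hpq]
      omega
    have hzp : z ≠ p := fun h => hz (by rw [h]; exact Set.mem_insert _ _)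
    have hzq : z ≠ q := fun h => hz (by rw [h]; exact Set.mem_insert_of_mem _ rfl)
    obtain ⟨s, hsF, hsF', hs⟩ := stepD C hFΔ hF hmax hIA (Equiv.swap p z * Equiv.swap p q)
      (c3_supp F' hp hzF' hq) (c3_sign (Ne.symm hzp) hpq hzq)
    exact ⟨s, hsF, hsF', by rw [hs p hp, c3_apply_a hpq hzq]⟩

theorem relF_of_mem_diff (C : FCtx G Δ) {F F' : Set Ω} (hFΔ : F ⊆ Δ) (hF : Flat G F)
    (hmax : IsMaxSub G F F') {x y : Ω} (hx : x ∈ F \ F') (hy : y ∈ F \ F') :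
    ∃ g : G, g • F = F ∧ (∀ z ∈ F', g • z = z) ∧ g • x = y := by
  obtain ⟨g, hg1, hg2⟩ := hmax.2.1 x hx.2 y hy.2
  have hfix : ∀ z ∈ F', g • z = z :=
    fun z hz => hg1 z (by rw [Set.mem_compl_iff, not_not]; exact hz)
  exact ⟨g, lemM C hFΔ hF hmax g (smul_eq_of_fix g hfix) hx (hg2 ▸ hy), hfix, hg2⟩

theorem three_le_of_isMaxSub (C : FCtx G Δ) {F F' : Set Ω} (hFΔ : F ⊆ Δ) (hF : Flat G F)
    (hmax : IsMaxSub G F F') (h4 : 4 ≤ F.ncard) : 3 ≤ F'.ncard ∧ F'.ncard < F.ncard ∧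
      (F \ F').ncard + F'.ncard = F.ncard := by
  have h1 := ebound C hFΔ hF hmax
  have h2 : (F \ F').ncard + F'.ncard = F.ncard :=
    Set.ncard_sdiff_add_ncard_of_subset hmax.1.1 (Set.toFinite _)
  have h3 : 0 < (F \ F').ncard :=
    (Set.ncard_pos (Set.toFinite _)).mpr (Set.nonempty_of_ssubset hmax.1)
  refine ⟨by omega, by omega, h2⟩

theorem trans_F (C : FCtx G Δ) {F : Set Ω} (hFΔ : F ⊆ Δ) (hF : Flat G F) (h4 : 4 ≤ F.ncard)
    (hIAsub : ∀ F'' : Set Ω, F'' ⊆ Δ → Flat G F'' → F''.ncard < F.ncard → IA G F'') :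
    ∀ a ∈ F, ∀ b ∈ F, ∃ g : G, g • F = F ∧ g • a = b := by
  obtain ⟨p, q, hp, hq, hpq⟩ := (Set.one_lt_ncard_iff (Set.toFinite _)).mp (by omega : 1 < F.ncard)
  obtain ⟨F₁, hmax₁, hpF₁, hqF₁⟩ := exists_isMaxSub C.t3 F (by omega) hp hq hpq
  obtain ⟨h31, hlt1, _⟩ := three_le_of_isMaxSub C hFΔ hF hmax₁ h4
  have hIA₁ := hIAsub F₁ (hmax₁.1.1.trans hFΔ) hmax₁.2.1 hlt1
  obtain ⟨x, hx⟩ := Set.nonempty_of_ssubset hmax₁.1
  have hpx : p ≠ x := fun h => hx.2 (h ▸ hpF₁)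
  obtain ⟨F₂, hmax₂, hpF₂, hxF₂⟩ := exists_isMaxSub C.t3 F (by omega) hp hx.1 hpx
  obtain ⟨h32, hlt2, _⟩ := three_le_of_isMaxSub C hFΔ hF hmax₂ h4
  have hIA₂ := hIAsub F₂ (hmax₂.1.1.trans hFΔ) hmax₂.2.1 hlt2
  have key : ∀ a ∈ F, ∃ g : G, g • F = F ∧ g • a = p := by
    intro a ha
    by_cases haF₁ : a ∈ F₁
    · obtain ⟨s, hs1, _, hs2⟩ := relF_of_mem_sub C hFΔ hF hmax₁ hIA₁ h31 haF₁ hpF₁
      exact ⟨s, hs1, hs2⟩
    · obtain ⟨g, hg1, _, hg2⟩ := relF_of_mem_diff C hFΔ hF hmax₁ (⟨ha, haF₁⟩ : a ∈ F \ F₁) hx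
      obtain ⟨s, hs1, _, hs2⟩ := relF_of_mem_sub C hFΔ hF hmax₂ hIA₂ h32 hxF₂ hpF₂
      exact ⟨s * g, by rw [mul_smul, hg1, hs1], by rw [mul_smul, hg2, hs2]⟩
  intro a ha b hb
  obtain ⟨g, hg1, hg2⟩ := key a ha
  obtain ⟨g', hg1', hg2'⟩ := key b hb
  refine ⟨g'⁻¹ * g, ?_, ?_⟩
  · rw [mul_smul, hg1, inv_smul_eq_iff, hg1']
  · rw [mul_smul, hg2, inv_smul_eq_iff, hg2']


omit [Fintype Ω] [DecidableEq Ω] in
theorem blk_pair_eq {F B : Set Ω}
    (hB : ∀ g : G, g • F = F → g • B = B ∨ Disjoint (g • B) B) (g₁ g₂ : G)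
    (h₁ : g₁ • F = F) (h₂ : g₂ • F = F) (h : (g₁ • B ∩ g₂ • B).Nonempty) :
    g₁ • B = g₂ • B := by
  obtain ⟨x, hx1, hx2⟩ := h
  have ht : (g₂⁻¹ * g₁) • F = F := by rw [mul_smul, h₁, inv_smul_eq_iff, h₂]
  rcases hB _ ht with h | h
  · rw [mul_smul, inv_smul_eq_iff] at h
    exact h
  · exfalso
    rw [Set.disjoint_left] at h
    apply h (a := g₂⁻¹ • x)
    · rw [mul_smul, Set.smul_mem_smul_set_iff]
      exact hx1
    · rw [← Set.mem_smul_set_iff_inv_smul_mem]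
      exact hx2

theorem blk_core (C : FCtx G Δ) {F F' : Set Ω} (hFΔ : F ⊆ Δ) (hF : Flat G F)
    (hmax : IsMaxSub G F F') (hIA : IA G F') (h4 : 4 ≤ F.ncard)
    (htr : ∀ a ∈ F, ∀ b ∈ F, ∃ g : G, g • F = F ∧ g • a = b)
    (B : Set Ω) (hBF : B ⊆ F) (hB1 : 1 < B.ncard)
    (hB : ∀ g : G, g • F = F → g • B = B ∨ Disjoint (g • B) B)
    (hBF' : (B ∩ F').Nonempty) : B = F := by
  obtain ⟨p, hpB, hpF'⟩ := hBF'
  have heb := ebound C hFΔ hF hmax
  obtain ⟨h3, _, hEcard⟩ := three_le_of_isMaxSub C hFΔ hF hmax h4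
  by_cases hq : ∃ q, q ∈ B ∧ q ∈ F' ∧ q ≠ p
  · obtain ⟨q, hqB, hqF', hqp⟩ := hq
    have hF'B : F' ⊆ B := by
      intro q' hq'F'
      by_contra hq'B
      have hq'p : q' ≠ p := fun h => hq'B (h ▸ hpB)
      have hq'q : q' ≠ q := fun h => hq'B (h ▸ hqB)
      obtain ⟨s, hsF, _, hs⟩ := stepD C hFΔ hF hmax hIA (Equiv.swap p q' * Equiv.swap p q)
        (c3_supp F' hpF' hq'F' hqF') (c3_sign (Ne.symm hq'p) (Ne.symm hqp) hq'q)
      have h1 : s • p = q := by rw [hs p hpF', c3_apply_a (Ne.symm hqp) hq'q]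
      have h2 : s • q = q' := by rw [hs q hqF', c3_apply_c]
      rcases hB s hsF with h | h
      · apply hq'B
        rw [← h, ← h2]
        exact Set.smul_mem_smul_set hqB
      · exact Set.disjoint_left.mp h (h1 ▸ Set.smul_mem_smul_set hpB) hqB
    apply Set.Subset.antisymm hBF
    intro a ha
    obtain ⟨g, hgF, hga⟩ := htr p (hBF hpB) a ha
    rcases hB g hgF with h | h
    · rw [← h, ← hga]
      exact Set.smul_mem_smul_set hpB
    · exfalso
      have h1 : (g • B ∪ B).ncard = B.ncard + B.ncard := by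
        rw [Set.ncard_union_eq h (Set.toFinite _) (Set.toFinite _), Set.ncard_smul_set]
      have h2 : (g • B ∪ B) ⊆ F := by
        apply Set.union_subset _ hBF
        rw [← hgF]
        exact Set.smul_set_mono hBF
      have h3' := Set.ncard_le_ncard h2 (Set.toFinite _)
      have h4' := Set.ncard_le_ncard hF'B (Set.toFinite _)
      omega
  · exfalso
    simp only [not_exists, not_and, not_not] at hq
    obtain ⟨x₁, hx₁B, hx₁p⟩ : ∃ x₁, x₁ ∈ B ∧ x₁ ≠ p := by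
      obtain ⟨a, b, ha, hb, hab⟩ := (Set.one_lt_ncard_iff (Set.toFinite _)).mp hB1
      by_cases hap : a = p
      · exact ⟨b, hb, fun h => hab (hap.trans h.symm)⟩
      · exact ⟨a, ha, hap⟩
    have hx₁F' : x₁ ∉ F' := fun h => hx₁p (hq x₁ hx₁B h)
    have hch : ∀ p' : Ω, p' ∈ F' → ∃ s : G, s • F = F ∧ s • F' = F' ∧ s • p = p' :=
      fun p' hp' => relF_of_mem_sub C hFΔ hF hmax hIA h3 hpF' hp'
    choose! s hs using hch
    have hmaps : ∀ p' ∈ F', s p' • x₁ ∈ F \ F' := by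
      intro p' hp'
      obtain ⟨h1, h2, _⟩ := hs p' hp'
      refine ⟨?_, ?_⟩
      · rw [← h1]
        exact Set.smul_mem_smul_set (hBF hx₁B)
      · intro h
        rw [← h2, Set.smul_mem_smul_set_iff] at h
        exact hx₁F' h
    have hinj : Set.InjOn (fun p' => s p' • x₁) F' := by
      intro p' hp' p'' hp'' heq
      obtain ⟨h1, h2, h3'⟩ := hs p' hp'
      obtain ⟨h1', h2', h3''⟩ := hs p'' hp''
      have hBB : s p' • B = s p'' • B := by
        apply blk_pair_eq hB _ _ h1 h1'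
        refine ⟨s p' • x₁, Set.smul_mem_smul_set hx₁B, ?_⟩
        have heq' : s p' • x₁ = s p'' • x₁ := heq
        rw [heq']
        exact Set.smul_mem_smul_set hx₁B
      have hmem : p'' ∈ s p' • B := by
        have h5 : s p'' • p ∈ s p'' • B := Set.smul_mem_smul_set hpB
        rw [h3''] at h5
        rw [hBB]
        exact h5
      rw [Set.mem_smul_set_iff_inv_smul_mem] at hmem
      have hmem' : (s p')⁻¹ • p'' ∈ F' := by
        rw [← Set.mem_smul_set_iff_inv_smul_mem, h2]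
        exact hp''
      have := hq _ hmem hmem'
      rw [inv_smul_eq_iff, h3'] at this
      exact this.symm
    have := Set.ncard_le_ncard_of_injOn (fun p' => s p' • x₁) hmaps hinj (Set.toFinite _)
    omega

theorem prim_F (C : FCtx G Δ) {F : Set Ω} (hFΔ : F ⊆ Δ) (hF : Flat G F) (h4 : 4 ≤ F.ncard)
    (hIAsub : ∀ F'' : Set Ω, F'' ⊆ Δ → Flat G F'' → F''.ncard < F.ncard → IA G F'') :
    IsPreprimitive (stabilizer G F) F := by
  have htr := trans_F C hFΔ hF h4 hIAsub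
  apply isPreprimitive_sub F htr
  intro B hBF hB1 hB
  obtain ⟨p, q, hp, hq, hpq⟩ := (Set.one_lt_ncard_iff (Set.toFinite _)).mp (by omega : 1 < F.ncard)
  obtain ⟨F', hmax, hpF', _⟩ := exists_isMaxSub C.t3 F (by omega) hp hq hpq
  obtain ⟨_, hlt, _⟩ := three_le_of_isMaxSub C hFΔ hF hmax h4
  have hIA := hIAsub F' (hmax.1.1.trans hFΔ) hmax.2.1 hlt
  obtain ⟨b₀, hb₀⟩ := Set.nonempty_of_ncard_ne_zero (by omega : B.ncard ≠ 0)
  obtain ⟨g, hgF, hgb⟩ := htr b₀ (hBF hb₀) p hp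
  have hgBF : g • B ⊆ F := by
    rw [← hgF]
    exact Set.smul_set_mono hBF
  have hblk : ∀ g' : G, g' • F = F → g' • (g • B) = g • B ∨ Disjoint (g' • (g • B)) (g • B) := by
    intro g' hg'
    have ht : (g⁻¹ * g' * g) • F = F := by
      rw [mul_smul, mul_smul, hgF, hg', inv_smul_eq_iff, hgF]
    rcases hB _ ht with h | h
    · left
      rw [mul_smul, mul_smul, inv_smul_eq_iff] at h
      exact h
    · right
      rw [mul_smul, mul_smul, ← Set.disjoint_smul_set (a := g), smul_inv_smul] at h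
      exact h
  have := blk_core C hFΔ hF hmax hIA h4 htr (g • B) hgBF (by rw [Set.ncard_smul_set]; exact hB1)
    hblk ⟨p, hgb ▸ Set.smul_mem_smul_set hb₀, hpF'⟩
  rw [← hgF] at this
  exact smul_left_cancel g this

theorem flats_IA_step (C : FCtx G Δ) {F : Set Ω} (hFΔ : F ⊆ Δ) (hF : Flat G F)
    (h4 : 4 ≤ F.ncard)
    (hIAsub : ∀ F'' : Set Ω, F'' ⊆ Δ → Flat G F'' → F''.ncard < F.ncard → IA G F'') :
    IA G F := by
  classical
  have hprim := prim_F C hFΔ hF h4 hIAsub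
  obtain ⟨p, q, hp, hq, hpq⟩ := (Set.one_lt_ncard_iff (Set.toFinite _)).mp (by omega : 1 < F.ncard)
  obtain ⟨F', hmax, _, _⟩ := exists_isMaxSub C.t3 F (by omega) hp hq hpq
  obtain ⟨h3, hlt, hEcard⟩ := three_le_of_isMaxSub C hFΔ hF hmax h4
  have hIA := hIAsub F' (hmax.1.1.trans hFΔ) hmax.2.1 hlt
  have heb := ebound C hFΔ hF hmax
  by_cases he : (F \ F').ncard = 1
  · obtain ⟨x₀, hx₀⟩ := Set.ncard_eq_one.mp he
    obtain ⟨a, b, c, ha, hb, hc, hab, hac, hbc⟩ :=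
      (Set.two_lt_ncard_iff (Set.toFinite _)).mp (by omega : 2 < F'.ncard)
    obtain ⟨s, hsF, hsF', hs⟩ := stepD C hFΔ hF hmax hIA (Equiv.swap a b * Equiv.swap a c)
      (c3_supp F' ha hb hc) (c3_sign hab hac hbc)
    have hx₀mem : x₀ ∈ F \ F' := by rw [hx₀]; exact Set.mem_singleton _
    have hsx₀ : s • x₀ = x₀ := by
      have : s • x₀ ∈ F \ F' := by
        refine ⟨?_, ?_⟩
        · rw [← hsF]
          exact Set.smul_mem_smul_set hx₀mem.1
        · intro h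
          rw [← hsF', Set.smul_mem_smul_set_iff] at h
          exact hx₀mem.2 h
      rw [hx₀] at this
      exact this
    have hall : ∀ x ∈ F, s • x = (Equiv.swap a b * Equiv.swap a c) x := by
      intro x hx
      by_cases hxF' : x ∈ F'
      · exact hs x hxF'
      · have : x ∈ F \ F' := ⟨hx, hxF'⟩
        rw [hx₀] at this
        rw [Set.mem_singleton_iff] at this
        have hxa : x ≠ a := fun h => hxF' (h ▸ ha)
        have hxb : x ≠ b := fun h => hxF' (h ▸ hb)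
        have hxc : x ≠ c := fun h => hxF' (h ▸ hc)
        rw [c3_apply_other hxa hxb hxc, this, hsx₀]
    have haF := hmax.1.1 ha
    have hbF := hmax.1.1 hb
    have hcF := hmax.1.1 hc
    have h3c : (toPerm (⟨s, mem_stabilizer_iff.mpr hsF⟩ : stabilizer G F) :
        Equiv.Perm F).IsThreeCycle := by
      have : (toPerm (⟨s, mem_stabilizer_iff.mpr hsF⟩ : stabilizer G F) : Equiv.Perm F) =
          Equiv.swap (⟨a, haF⟩ : F) ⟨b, hbF⟩ * Equiv.swap (⟨a, haF⟩ : F) ⟨c, hcF⟩ := by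
        ext y
        rw [toPerm_apply, Equiv.Perm.mul_apply]
        show s • (y : Ω) = _
        rw [hall y y.2, Equiv.Perm.mul_apply,
          ← Function.Injective.swap_apply Subtype.val_injective,
          ← Function.Injective.swap_apply Subtype.val_injective]
      rw [this]
      apply Equiv.Perm.isThreeCycle_swap_mul_swap_same
      · exact fun h => hab (congrArg Subtype.val h)
      · exact fun h => hac (congrArg Subtype.val h)
      · exact fun h => hbc (congrArg Subtype.val h)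
    exact IA_of_goal_sub F (goal_of_threeCycle hprim _ h3c)
  · have he2 : 1 < (F \ F').ncard := by
      have : 0 < (F \ F').ncard :=
        (Set.ncard_pos (Set.toFinite _)).mpr (Set.nonempty_of_ssubset hmax.1)
      omega
    have hpre : (Subtype.val ⁻¹' (F \ F') : Set F).ncard = (F \ F').ncard := by
      apply Set.ncard_preimage_of_injective_subset_range Subtype.val_injective
      rw [Subtype.range_coe]
      exact Set.sdiff_subset
    apply C.ih F hFΔ hprim (Subtype.val ⁻¹' (F \ F'))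
    · apply JS_sub
      intro x hx y hy
      obtain ⟨g, hg1, hg2, hg3⟩ := relF_of_mem_diff C hFΔ hF hmax hx hy
      refine ⟨g, hg1, ?_, hg3⟩
      intro z hzF hzE
      apply hg2
      by_contra hzF'
      exact hzE ⟨hzF, hzF'⟩
    · rw [hpre]
      exact he2
    · rw [hpre, Nat.card_coe_set_eq]
      omega

/-- all flats inside `Δ` carry (at least) the alternating group -/
theorem flats_IA (C : FCtx G Δ) : ∀ (k : ℕ) (F : Set Ω), F.ncard = k → F ⊆ Δ → Flat G F →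
    IA G F := by
  intro k
  induction k using Nat.strong_induction_on with
  | _ k ih =>
    intro F hk hFΔ hF
    by_cases h4 : 4 ≤ F.ncard
    · apply flats_IA_step C hFΔ hF h4
      intro F'' hF''Δ hF'' hlt
      exact ih F''.ncard (hk ▸ hlt) F'' rfl hF''Δ hF''
    · apply IA_small C.t3 F (by omega)
      have := C.card
      have h2 := C.m2
      have hn : Δ.ncard + Δᶜ.ncard = Nat.card Ω := Set.ncard_add_ncard_compl Δ
      rw [← Nat.card_eq_fintype_card]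
      omega

end ctx

end Cfsg.Agent.Lib.Helper7.Marg
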