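import Cfsg.Agent.Lib.Helper7.Marg5

set_option autoImplicit false

open scoped Pointwise
open MulAction

namespace Cfsg.Agent.Lib.Helper7.Marg

universe u v

theorem smul_mem_of_fix {G : Type*} {Ω : Type*} [Group G] [MulAction G Ω] {Γ : Set Ω} {h : G}
    (hfix : ∀ x, x ∉ Γ → h • x = x) {x : Ω} (hx : x ∈ Γ) : h • x ∈ Γ := by
  by_contra hx'
  have := hfix _ hx'
  rw [smul_left_cancel _ this] at hx'
  exact hx' hx

theorem goal_small {G : Type*} {Ω : Type*} [Group G] [MulAction G Ω] [Fintype Ω] [DecidableEq Ω]
    (hprim : IsPreprimitive G Ω) (Γ : Set Ω) (hJ : JS G Γ) (h1 : 1 < Γ.ncard)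
    (h3 : Γ.ncard ≤ 3) : Goal G Ω := by
  have hcases : Γ.ncard = 2 ∨ Γ.ncard = 3 := by omega
  rcases hcases with h | h
  · obtain ⟨a, b, hab, rfl⟩ := Set.ncard_eq_two.mp h
    obtain ⟨g, hg1, hg2⟩ := hJ a (Set.mem_insert _ _) b (Set.mem_insert_of_mem _ rfl)
    have hgb : g • b = a := by
      have hmem := smul_mem_of_fix hg1 (Set.mem_insert_of_mem a (Set.mem_singleton b))
      rcases hmem with h' | h'
      · exact h'
      · rw [Set.mem_singleton_iff] at h'
        exfalso
        apply hab
        apply smul_left_cancel g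
        rw [hg2, h']
    apply goal_of_swap hprim g
    refine ⟨a, b, hab, ?_⟩
    ext x
    rw [toPerm_apply]
    by_cases hxa : x = a
    · rw [hxa, hg2, Equiv.swap_apply_left]
    · by_cases hxb : x = b
      · rw [hxb, hgb, Equiv.swap_apply_right]
      · rw [Equiv.swap_apply_of_ne_of_ne hxa hxb]
        apply hg1
        rintro (h' | h')
        · exact hxa h'
        · exact hxb h'
  · obtain ⟨a, b, c, hab, hac, hbc, rfl⟩ := Set.ncard_eq_three.mp h
    have haΓ : a ∈ ({a, b, c} : Set Ω) := Set.mem_insert _ _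
    have hbΓ : b ∈ ({a, b, c} : Set Ω) := Set.mem_insert_of_mem _ (Set.mem_insert _ _)
    have hcΓ : c ∈ ({a, b, c} : Set Ω) :=
      Set.mem_insert_of_mem _ (Set.mem_insert_of_mem _ rfl)
    obtain ⟨g, hg1, hg2⟩ := hJ a haΓ b hbΓ
    have hfix : ∀ x, x ≠ a → x ≠ b → x ≠ c → g • x = x := by
      intro x hxa hxb hxc
      apply hg1
      rintro (h' | h' | h')
      · exact hxa h'
      · exact hxb h'
      · exact hxc h'
    have hgb := smul_mem_of_fix hg1 hbΓ
    have hgc := smul_mem_of_fix hg1 hcΓ
    have hinj : ∀ x y : Ω, g • x = g • y → x = y := fun x y h' => smul_left_cancel g h'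
    have hgb_ne : g • b ≠ b := fun h' => hab (hinj a b (hg2.trans h'.symm))
    have hgc_ne : g • c ≠ b := fun h' => hac (hinj a c (hg2.trans h'.symm))
    rcases hgb with h' | h' | h'
    · -- g b = a, so g c = c : a swap
      have hgc' : g • c = c := by
        rcases hgc with h'' | h'' | h''
        · exact absurd (hinj b c (h'.trans h''.symm)) hbc
        · exact absurd h'' hgc_ne
        · exact h''
      apply goal_of_swap hprim g
      refine ⟨a, b, hab, ?_⟩
      ext x
      rw [toPerm_apply]
      by_cases hxa : x = a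
      · rw [hxa, hg2, Equiv.swap_apply_left]
      · by_cases hxb : x = b
        · rw [hxb, h', Equiv.swap_apply_right]
        · rw [Equiv.swap_apply_of_ne_of_ne hxa hxb]
          by_cases hxc : x = c
          · rw [hxc, hgc']
          · exact hfix x hxa hxb hxc
    · exact absurd h' hgb_ne
    · -- g b = c, so g c = a : a 3-cycle
      rw [Set.mem_singleton_iff] at h'
      have hgc' : g • c = a := by
        rcases hgc with h'' | h'' | h''
        · exact h''
        · exact absurd h'' hgc_ne
        · rw [Set.mem_singleton_iff] at h''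
          exact absurd (hinj b c (h'.trans h''.symm)) hbc
      apply goal_of_threeCycle hprim g
      have : (toPerm g : Equiv.Perm Ω) = Equiv.swap a c * Equiv.swap a b := by
        ext x
        rw [toPerm_apply]
        by_cases hxa : x = a
        · rw [hxa, hg2, c3_apply_a hab (Ne.symm hbc)]
        · by_cases hxb : x = b
          · rw [hxb, h', c3_apply_c]
          · by_cases hxc : x = c
            · rw [hxc, hgc', c3_apply_b hac (Ne.symm hbc)]
            · rw [c3_apply_other hxa hxc hxb]
              exact hfix x hxa hxb hxc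
      rw [this]
      exact Equiv.Perm.isThreeCycle_swap_mul_swap_same hac hab (Ne.symm hbc)


/-- **Marggraff's theorem**, primitive case. -/
theorem main_prim : ∀ (n : ℕ) {G : Type v} {Ω : Type u} [Group G] [MulAction G Ω] [Fintype Ω]
    [DecidableEq Ω], Fintype.card Ω = n → IsPreprimitive G Ω → ∀ Γ : Set Ω, JS G Γ →
    1 < Γ.ncard → 2 * Γ.ncard < n → Goal G Ω := by
  intro n
  induction n using Nat.strong_induction_on with
  | _ n ih =>
    intro G Ω _ _ _ _ hn hprim Γ hJ h1 h2
    classical
    have hcard : Nat.card Ω = n := by rw [Nat.card_eq_fintype_card, hn]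
    by_cases hm3 : Γ.ncard ≤ 3
    · exact goal_small hprim Γ hJ h1 hm3
    have hT2 := T2_of_prim hprim Γ hJ h1 (by omega)
    have hT3 := T3_of_prim hprim Γ hJ h1 (by omega)
    by_cases hbig : 2 * Γ.ncard + 1 < n
    · -- induction via a point stabilizer
      obtain ⟨δ, hδ⟩ : ∃ δ, δ ∉ Γ := by
        by_contra h
        simp only [not_exists, not_not] at h
        have : Γ = Set.univ := Set.eq_univ_of_forall h
        rw [this, Set.ncard_univ] at h2
        omega
      have hprimδ := prim_stab hT2 Γ hJ h1 (by omega) δ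
      have hJsub : JS (stabilizer G ({δ}ᶜ : Set Ω))
          (Subtype.val ⁻¹' Γ : Set ({δ}ᶜ : Set Ω)) := by
        apply JS_sub
        intro a ha b hb
        obtain ⟨g, hg1, hg2⟩ := hJ a ha b hb
        exact ⟨g, (smul_compl_singleton_iff g δ).mpr (hg1 δ hδ), fun x _ hx => hg1 x hx, hg2⟩
      have hpre : (Subtype.val ⁻¹' Γ : Set ({δ}ᶜ : Set Ω)).ncard = Γ.ncard := by
        apply Set.ncard_preimage_of_injective_subset_range Subtype.val_injective
        intro x hx
        exact ⟨⟨x, fun h => hδ (h ▸ hx)⟩, rfl⟩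
      have hcardF : Nat.card ({δ}ᶜ : Set Ω) = n - 1 := by
        rw [Nat.card_coe_set_eq, Set.ncard_compl, Set.ncard_singleton, hcard]
      have hIA : IA G ({δ}ᶜ : Set Ω) := by
        refine IA_of_goal_sub _ ?_
        refine ih (n - 1) (by omega) ?_ hprimδ _ hJsub (by rw [hpre]; exact h1)
          (by rw [hpre]; omega)
        rw [← Nat.card_eq_fintype_card, hcardF]
      obtain ⟨a, b, c, ha, hb, hc, hab, hac, hbc⟩ :=
        (Set.two_lt_ncard_iff (Set.toFinite ({δ}ᶜ : Set Ω))).mp (by
          rw [Set.ncard_compl, Set.ncard_singleton, hcard]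
          omega)
      obtain ⟨g, hg⟩ := hIA.exists_c3 ha hb hc hab hac hbc
      have hgF := smul_eq_of_agree _ _ (c3_supp ({δ}ᶜ : Set Ω) ha hb hc) g hg
      have hgδ : g • δ = δ := (smul_compl_singleton_iff g δ).mp hgF
      apply goal_of_threeCycle hprim g
      have : (toPerm g : Equiv.Perm Ω) = Equiv.swap a b * Equiv.swap a c := by
        ext x
        rw [toPerm_apply]
        by_cases hx : x = δ
        · rw [hx, hgδ, c3_supp ({δ}ᶜ : Set Ω) ha hb hc δ (fun h => h rfl)]
        · exact hg x hx
      rw [this]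
      exact Equiv.Perm.isThreeCycle_swap_mul_swap_same hab hac hbc
    · -- the half case n = 2m+1
      have hnm : n = 2 * Γ.ncard + 1 := by omega
      have hΔcard : (Γᶜ).ncard = Γ.ncard + 1 := by
        rw [Set.ncard_compl, hcard]
        omega
      have C : FCtx G Γᶜ := by
        refine ⟨hT3, by rw [compl_compl]; exact hJ, by rw [compl_compl]; exact hΔcard,
          by rw [compl_compl]; omega, ?_⟩
        intro F hFΔ hprimF E' hJE' h1' h2'
        have hFcard : F.ncard ≤ Γ.ncard + 1 := by
          rw [← hΔcard]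
          exact Set.ncard_le_ncard hFΔ (Set.toFinite _)
        refine IA_of_goal_sub _ ?_
        refine ih (Fintype.card F) ?_ rfl hprimF E' hJE' h1' ?_
        · rw [← Nat.card_eq_fintype_card, Nat.card_coe_set_eq]
          omega
        · rw [← Nat.card_eq_fintype_card]
          exact h2'
      have hIA : IA G Γᶜ := flats_IA C _ _ rfl (Set.Subset.refl _) C.jΓ
      obtain ⟨g, hg⟩ := exists_threeCycle_of_IA Γᶜ (by omega)
        (by rw [compl_compl]; omega) hIA
      exact goal_of_threeCycle hprim g hg

end Cfsg.Agent.Lib.Helper7.Marg
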