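import Cfsg.Agent.Lib.Helper7.Marg6

set_option autoImplicit false

open scoped Pointwise
open MulAction

namespace Cfsg.Agent.Lib.Helper7.Marg

/-- The imprimitive case is contradictory: abstract form. -/
theorem qp_blocks_contra {G : Type*} {Ω : Type*} [Group G] [MulAction G Ω] [Finite Ω]
    {𝔅 : Type*} [Fintype 𝔅] [DecidableEq 𝔅] [MulAction G 𝔅] [FaithfulSMul G 𝔅]
    (S : 𝔅 → Set Ω)
    (hS_smul : ∀ (g : G) (b : 𝔅), S (g • b) = g • S b)
    (hS_disj : ∀ b₁ b₂, (S b₁ ∩ S b₂).Nonempty → b₁ = b₂)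
    (hS_two : ∀ b, 1 < (S b).ncard)
    (hqp : ∀ N : Subgroup G, N.Normal → N ≠ ⊥ → IsPretransitive N Ω)
    (hGoal : Goal G 𝔅)
    (Γ : Set Ω) (hJ : JS G Γ)
    (hclaim : ∀ b, (S b ∩ Γ).Nonempty → S b ⊆ Γ)
    (hr : 2 ≤ {b | S b ⊆ Γ}.ncard) (hk : 2 * {b | S b ⊆ Γ}.ncard < Fintype.card 𝔅) : False := by
  classical
  -- elements fixing the complement of Γ fix all blocks not inside Γ
  have hfixout : ∀ h : G, (∀ x, x ∉ Γ → h • x = x) → ∀ b, ¬ (S b ⊆ Γ) → h • b = b := by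
    intro h hh b hb
    obtain ⟨p, hpb, hpΓ⟩ := Set.not_subset.mp hb
    apply hS_disj
    refine ⟨p, ?_, hpb⟩
    rw [hS_smul, ← hh p hpΓ]
    exact Set.smul_mem_smul_set hpb
  have hpres : ∀ h : G, (∀ x, x ∉ Γ → h • x = x) → ∀ b, S b ⊆ Γ → S (h • b) ⊆ Γ := by
    intro h hh b hb
    rw [hS_smul]
    rintro _ ⟨y, hy, rfl⟩
    exact smul_mem_of_fix hh (hb hy)
  by_cases hr2 : {b | S b ⊆ Γ}.ncard = 2
  · obtain ⟨b₁, b₂, hb12, hGb⟩ := Set.ncard_eq_two.mp hr2
    have hb₁ : S b₁ ⊆ Γ := by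
      have : b₁ ∈ {b | S b ⊆ Γ} := by rw [hGb]; exact Set.mem_insert _ _
      exact this
    have hb₂ : S b₂ ⊆ Γ := by
      have : b₂ ∈ {b | S b ⊆ Γ} := by rw [hGb]; exact Set.mem_insert_of_mem _ rfl
      exact this
    obtain ⟨γ, γ', hγ, hγ', hne⟩ := (Set.one_lt_ncard_iff (Set.toFinite _)).mp (hS_two b₁)
    obtain ⟨h, hh1, hh2⟩ := hJ γ (hb₁ hγ) γ' (hb₁ hγ')
    have hhb₁ : h • b₁ = b₁ := by
      apply hS_disj
      refine ⟨γ', ?_, hγ'⟩
      rw [hS_smul, ← hh2]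
      exact Set.smul_mem_smul_set hγ
    have hall : ∀ b : 𝔅, h • b = (1 : G) • b := by
      intro b
      rw [one_smul]
      by_cases hb : S b ⊆ Γ
      · have hb' : b ∈ ({b₁, b₂} : Set 𝔅) := by rw [← hGb]; exact hb
        rcases hb' with rfl | hb'
        · exact hhb₁
        · rw [Set.mem_singleton_iff] at hb'
          subst hb'
          have h1 : h • b ∈ ({b₁, b} : Set 𝔅) := by rw [← hGb]; exact hpres h hh1 b hb
          rcases h1 with h1 | h1
          · exfalso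
            apply hb12
            rw [← hhb₁] at h1
            exact (smul_left_cancel h h1).symm
          · exact h1
      · exact hfixout h hh1 b hb
    have := FaithfulSMul.eq_of_smul_eq_smul hall
    rw [this, one_smul] at hh2
    exact hne hh2
  · have hr3 : 3 ≤ {b | S b ⊆ Γ}.ncard := by omega
    -- a block outside Γ
    obtain ⟨b', hb'⟩ : ∃ b', ¬ (S b' ⊆ Γ) := by
      by_contra h
      simp only [not_exists, not_not] at h
      have : {b | S b ⊆ Γ} = Set.univ := Set.eq_univ_of_forall h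
      rw [this, Set.ncard_univ, Nat.card_eq_fintype_card] at hk
      omega
    have hb'Γ : ∀ y ∈ S b', y ∉ Γ := by
      intro y hy hyΓ
      exact hb' (hclaim b' ⟨y, hy, hyΓ⟩)
    have hFcard : 5 ≤ ({b'}ᶜ : Set 𝔅).ncard := by
      rw [Set.ncard_compl, Set.ncard_singleton, Nat.card_eq_fintype_card]
      omega
    let K : Subgroup (Equiv.Perm 𝔅) := (fixingSubgroup G (S b')).map (toPermHom G 𝔅)
    have hfixb' : ∀ c : G, c ∈ fixingSubgroup G (S b') → c • b' = b' := by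
      intro c hc
      obtain ⟨y, hy⟩ := Set.nonempty_of_ncard_ne_zero (by have := hS_two b'; omega :
        (S b').ncard ≠ 0)
      apply hS_disj
      refine ⟨y, ?_, hy⟩
      rw [hS_smul, ← (mem_fixingSubgroup_iff G).mp hc y hy]
      exact Set.smul_mem_smul_set hy
    have hsupp : ∀ x ∈ K, ∀ p, p ∉ ({b'}ᶜ : Set 𝔅) → x p = p := by
      rintro x ⟨c, hc, rfl⟩ p hp
      rw [Set.mem_compl_iff, not_not, Set.mem_singleton_iff] at hp
      rw [hp]
      exact hfixb' c hc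
    have hnorm : ∀ τ : Equiv.Perm 𝔅, (∀ p, p ∉ ({b'}ᶜ : Set 𝔅) → τ p = p) →
        Equiv.Perm.sign τ = 1 → ∀ x ∈ K, τ * x * τ⁻¹ ∈ K := by
      rintro τ hτ hτs x ⟨c, hc, rfl⟩
      obtain ⟨n, hn⟩ := hGoal τ hτs
      have hnτ : toPermHom G 𝔅 n = τ := by
        ext b
        exact hn b
      have hnb' : n • b' = b' := by
        rw [hn]
        exact hτ b' (fun h => h rfl)
      have hnS : n • S b' = S b' := by rw [← hS_smul, hnb']
      refine ⟨n * c * n⁻¹, ?_, ?_⟩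
      · show n * c * n⁻¹ ∈ fixingSubgroup G (S b')
        rw [mem_fixingSubgroup_iff]
        intro y hy
        have h1 : n⁻¹ • y ∈ S b' := by
          rw [← Set.mem_smul_set_iff_inv_smul_mem, hnS]
          exact hy
        rw [mul_smul, mul_smul, (mem_fixingSubgroup_iff G).mp hc _ h1, smul_inv_smul]
      · rw [map_mul, map_mul, map_inv, hnτ]
    -- three distinct elements
    have h3 : ∃ x ∈ K, x ≠ 1 ∧ Equiv.Perm.sign x = 1 := by
      apply exists_even_of_three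
      obtain ⟨b₁, b₂, hb₁, hb₂, hb12⟩ :=
        (Set.one_lt_ncard_iff (Set.toFinite _)).mp (by omega : 1 < {b | S b ⊆ Γ}.ncard)
      obtain ⟨γ₀, γ₁, hγ₀, hγ₁, h01⟩ := (Set.one_lt_ncard_iff (Set.toFinite _)).mp (hS_two b₁)
      obtain ⟨γ₂, hγ₂⟩ := Set.nonempty_of_ncard_ne_zero (by have := hS_two b₂; omega :
        (S b₂).ncard ≠ 0)
      have h02 : γ₀ ≠ γ₂ := fun h => hb12 (hS_disj b₁ b₂ ⟨γ₀, hγ₀, h ▸ hγ₂⟩)
      have h12 : γ₁ ≠ γ₂ := fun h => hb12 (hS_disj b₁ b₂ ⟨γ₁, hγ₁, h ▸ hγ₂⟩)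
      obtain ⟨h₁, h₁f, h₁m⟩ := hJ γ₀ (hb₁ hγ₀) γ₁ (hb₁ hγ₁)
      obtain ⟨h₂, h₂f, h₂m⟩ := hJ γ₀ (hb₁ hγ₀) γ₂ (hb₂ hγ₂)
      have hmemK : ∀ h : G, (∀ x, x ∉ Γ → h • x = x) → toPermHom G 𝔅 h ∈ K := by
        intro h hh
        refine ⟨h, ?_, rfl⟩
        show h ∈ fixingSubgroup G (S b')
        rw [mem_fixingSubgroup_iff]
        exact fun y hy => hh y (hb'Γ y hy)
      have hinj : Function.Injective (toPermHom G 𝔅) := MulAction.toPerm_injective
      refine ⟨_, hmemK h₁ h₁f, _, hmemK h₂ h₂f, ?_, ?_, ?_⟩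
      · intro h
        rw [← map_one (toPermHom G 𝔅)] at h
        have := hinj h
        rw [this, one_smul] at h₁m
        exact h01 h₁m
      · intro h
        rw [← map_one (toPermHom G 𝔅)] at h
        have := hinj h
        rw [this, one_smul] at h₂m
        exact h02 h₂m
      · intro h
        have := hinj h
        rw [this, h₂m] at h₁m
        exact h12 h₁m.symm
    have hkey := alt_le_of_normalized_set ({b'}ᶜ : Set 𝔅) hFcard K hsupp hnorm h3
    -- the even part of G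
    let sgn : G →* ℤˣ := (Equiv.Perm.sign).comp (toPermHom G 𝔅)
    have hA : sgn.ker ≠ ⊥ := by
      obtain ⟨a, b, c, _, _, _, hab, hac, hbc⟩ :=
        (Set.two_lt_ncard_iff (Set.toFinite ({b'}ᶜ : Set 𝔅))).mp (by omega)
      obtain ⟨g, hg⟩ := hGoal (Equiv.swap a b * Equiv.swap a c) (c3_sign hab hac hbc)
      intro hbot
      have hgmem : g ∈ sgn.ker := by
        rw [MonoidHom.mem_ker]
        show Equiv.Perm.sign (toPermHom G 𝔅 g) = 1
        have : toPermHom G 𝔅 g = Equiv.swap a b * Equiv.swap a c := by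
          ext x
          exact hg x
        rw [this]
        exact c3_sign hab hac hbc
      rw [hbot, Subgroup.mem_bot] at hgmem
      have := hg a
      rw [hgmem, one_smul, c3_apply_a hac hbc] at this
      exact hac this
    have htrans := hqp sgn.ker (MonoidHom.normal_ker sgn) hA
    obtain ⟨ω₁, ω₂, hω₁, hω₂, hω12⟩ := (Set.one_lt_ncard_iff (Set.toFinite _)).mp (hS_two b')
    obtain ⟨a, ha⟩ := htrans.exists_smul_eq ω₁ ω₂
    have ha' : (a : G) • ω₁ = ω₂ := ha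
    have hab' : (a : G) • b' = b' := by
      apply hS_disj
      refine ⟨ω₂, ?_, hω₂⟩
      rw [hS_smul, ← ha']
      exact Set.smul_mem_smul_set hω₁
    have hsign : Equiv.Perm.sign (toPermHom G 𝔅 (a : G)) = 1 := a.2
    have hmem := hkey (toPermHom G 𝔅 (a : G)) (by
      intro p hp
      rw [Set.mem_compl_iff, not_not, Set.mem_singleton_iff] at hp
      rw [hp]
      exact hab') hsign
    obtain ⟨c, hc, hca⟩ := hmem
    have hca' : c = (a : G) := MulAction.toPerm_injective hca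
    rw [hca'] at hc
    have := (mem_fixingSubgroup_iff G).mp hc ω₁ hω₁
    rw [ha'] at this
    exact hω12 this.symm

end Cfsg.Agent.Lib.Helper7.Marg
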