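import Cfsg.Agent.Lib.Helper7.Marg7

set_option autoImplicit false

open scoped Pointwise
open MulAction

namespace Cfsg.Agent.Lib.Helper7.Marg

universe u v

section blocks

variable {G : Type*} {Ω : Type*} [Group G] [MulAction G Ω]

theorem orbit_blk_disj {B : Set Ω} (hB : IsBlock G B) (b₁ b₂ : orbit G B)
    (h : ((b₁ : Set Ω) ∩ (b₂ : Set Ω)).Nonempty) : b₁ = b₂ := by
  obtain ⟨g₁, hg₁⟩ := b₁.2
  obtain ⟨g₂, hg₂⟩ := b₂.2
  apply Subtype.ext
  by_contra hne
  have hg₁' : g₁ • B = (b₁ : Set Ω) := hg₁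
  have hg₂' : g₂ • B = (b₂ : Set Ω) := hg₂
  have := hB (g₁ := g₁) (g₂ := g₂) (by rw [hg₁', hg₂']; exact hne)
  rw [hg₁', hg₂'] at this
  exact Set.not_disjoint_iff_nonempty_inter.mpr h this

theorem orbit_blk_cover {B : Set Ω} [IsPretransitive G Ω] (hne : B.Nonempty) (x : Ω) :
    ∃ b : orbit G B, x ∈ (b : Set Ω) := by
  obtain ⟨y, hy⟩ := hne
  obtain ⟨g, hg⟩ := exists_smul_eq G y x
  exact ⟨⟨g • B, mem_orbit _ _⟩, hg ▸ Set.smul_mem_smul_set hy⟩

theorem orbit_blk_ncard {B : Set Ω} (b : orbit G B) : (b : Set Ω).ncard = B.ncard := by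
  obtain ⟨g, hg⟩ := b.2
  have hg' : g • B = (b : Set Ω) := hg
  rw [← hg']
  exact Set.ncard_smul_set _ _

theorem faithful_on_blocks
    (hqp : ∀ N : Subgroup G, N.Normal → N ≠ ⊥ → IsPretransitive N Ω) {B : Set Ω}
    (hne : B.Nonempty) (huniv : B ≠ Set.univ) : FaithfulSMul G (orbit G B) := by
  have hN : (toPermHom G (orbit G B)).ker = ⊥ := by
    by_contra hN
    have := hqp _ (MonoidHom.normal_ker _) hN
    obtain ⟨x, hx⟩ := hne
    obtain ⟨y, hy⟩ : ∃ y, y ∉ B := by
      by_contra h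
      simp only [not_exists, not_not] at h
      exact huniv (Set.eq_univ_of_forall h)
    obtain ⟨n, hn⟩ := this.exists_smul_eq x y
    have hn' : (n : G) • x = y := hn
    have hnB : (n : G) • B = B := by
      have h1 : toPermHom G (orbit G B) n = 1 := n.2
      have h2 : (toPermHom G (orbit G B) n) ⟨B, mem_orbit_self B⟩ = ⟨B, mem_orbit_self B⟩ := by
        rw [h1]
        rfl
      exact congrArg Subtype.val h2
    apply hy
    rw [← hn']
    have h3 : (n : G) • x ∈ (n : G) • B := Set.smul_mem_smul_set hx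
    rw [hnB] at h3
    exact h3
  constructor
  intro g₁ g₂ h
  have h1 : toPermHom G (orbit G B) g₁ = toPermHom G (orbit G B) g₂ := Equiv.ext h
  have hk : g₁ * g₂⁻¹ ∈ (toPermHom G (orbit G B)).ker := by
    rw [MonoidHom.mem_ker, map_mul, map_inv, h1, mul_inv_cancel]
  rw [hN, Subgroup.mem_bot] at hk
  exact mul_inv_eq_one.mp hk

theorem qp_on_blocks
    (hqp : ∀ N : Subgroup G, N.Normal → N ≠ ⊥ → IsPretransitive N Ω) {B : Set Ω}
    (hB : IsBlock G B) (hne : B.Nonempty) (N : Subgroup G) (hN : N.Normal) (hN' : N ≠ ⊥) :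
    IsPretransitive N (orbit G B) := by
  have := hqp N hN hN'
  refine ⟨fun b₁ b₂ => ?_⟩
  have hne' : ∀ b : orbit G B, (b : Set Ω).Nonempty := by
    intro b
    obtain ⟨g, hg⟩ := b.2
    have hg' : g • B = (b : Set Ω) := hg
    rw [← hg']
    exact hne.smul_set
  obtain ⟨x₁, hx₁⟩ := hne' b₁
  obtain ⟨x₂, hx₂⟩ := hne' b₂
  obtain ⟨n, hn⟩ := this.exists_smul_eq x₁ x₂
  have hn' : (n : G) • x₁ = x₂ := hn
  refine ⟨n, ?_⟩
  apply orbit_blk_disj hB
  refine ⟨x₂, ?_, hx₂⟩
  show x₂ ∈ (n : G) • (b₁ : Set Ω)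
  rw [← hn']
  exact Set.smul_mem_smul_set hx₁

end blocks


/-- **Marggraff's theorem** for quasiprimitive groups. -/
theorem main_qp {G : Type v} [Group G] : ∀ (n : ℕ) {Ω : Type u} [MulAction G Ω]
    [FaithfulSMul G Ω] [Fintype Ω] [DecidableEq Ω], Fintype.card Ω = n →
    (∀ N : Subgroup G, N.Normal → N ≠ ⊥ → IsPretransitive N Ω) →
    ∀ Γ : Set Ω, JS G Γ → 1 < Γ.ncard → 2 * Γ.ncard < n → Goal G Ω := by
  intro n
  induction n using Nat.strong_induction_on with
  | _ n ih =>
    intro Ω _ _ _ _ hn hqp Γ hJ h1 h2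
    classical
    have hcard : Nat.card Ω = n := by rw [Nat.card_eq_fintype_card, hn]
    obtain ⟨a₀, a₁, ha₀, ha₁, ha01⟩ := (Set.one_lt_ncard_iff (Set.toFinite _)).mp h1
    obtain ⟨g₀, hg₀f, hg₀m⟩ := hJ a₀ ha₀ a₁ ha₁
    have hg₀ : g₀ ≠ 1 := by
      intro h
      rw [h, one_smul] at hg₀m
      exact ha01 hg₀m
    have htop : (⊤ : Subgroup G) ≠ ⊥ := by
      intro h
      apply hg₀
      have : g₀ ∈ (⊤ : Subgroup G) := Subgroup.mem_top _
      rw [h, Subgroup.mem_bot] at this
      exact this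
    have htr : IsPretransitive G Ω := by
      have := hqp ⊤ inferInstance htop
      refine ⟨fun x y => ?_⟩
      obtain ⟨g, hg⟩ := this.exists_smul_eq x y
      exact ⟨g, hg⟩
    by_cases hprim : IsPreprimitive G Ω
    · exact main_prim n hn hprim Γ hJ h1 h2
    exfalso
    obtain ⟨B, hB, hBtriv⟩ : ∃ B : Set Ω, IsBlock G B ∧ ¬ IsTrivialBlock B := by
      by_contra hno
      simp only [not_exists, not_and, not_not] at hno
      exact hprim { toIsPretransitive := htr, isTrivialBlock_of_isBlock := fun {B} hB => hno B hB }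
    rw [IsTrivialBlock, not_or] at hBtriv
    obtain ⟨hBsub, hBuniv⟩ := hBtriv
    have hBnt : B.Nontrivial := Set.not_subsingleton_iff.mp hBsub
    have hBne : B.Nonempty := hBnt.nonempty
    have hB2 : 1 < B.ncard := Set.one_lt_ncard_iff_nontrivial.mpr hBnt
    have hfaith : FaithfulSMul G (orbit G B) := faithful_on_blocks hqp hBne hBuniv
    have hqp' := qp_on_blocks hqp hB hBne
    let _ : Fintype (orbit G B) := Fintype.ofFinite _
    let S : orbit G B → Set Ω := fun b => (b : Set Ω)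
    have hS_smul : ∀ (g : G) (b : orbit G B), S (g • b) = g • S b := fun g b => rfl
    have hS_disj : ∀ b₁ b₂ : orbit G B, (S b₁ ∩ S b₂).Nonempty → b₁ = b₂ := orbit_blk_disj hB
    have hS_card : ∀ b : orbit G B, (S b).ncard = B.ncard := orbit_blk_ncard
    have hS_cover : ∀ x, ∃ b : orbit G B, x ∈ S b := orbit_blk_cover hBne
    have hS_ne : ∀ b : orbit G B, (S b).Nonempty := fun b =>
      Set.nonempty_of_ncard_ne_zero (by rw [hS_card]; omega)
    have hS_inj : Function.Injective S := Subtype.val_injective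
    -- counting blocks
    have hn' : n = Nat.card (orbit G B) * B.ncard := by
      have := ncard_eq_mul_of_partition (Set.univ : Set Ω) (Set.range S) B.ncard
        (by rintro _ ⟨b, rfl⟩; exact hS_card b)
        (by
          rintro _ ⟨b, rfl⟩ _ ⟨b', rfl⟩ h
          rw [hS_disj b b' h])
        (by
          intro x _
          obtain ⟨b, hb⟩ := hS_cover x
          exact ⟨S b, ⟨b, rfl⟩, hb⟩)
        (fun _ _ => Set.subset_univ _)
      rw [Set.ncard_univ, hcard, ← Set.image_univ, Set.ncard_image_of_injective _ hS_inj,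
        Set.ncard_univ] at this
      exact this
    have hclaimA : ∀ b : orbit G B, ¬ Γ ⊆ S b := by
      intro b hΓb
      apply hg₀
      refine hfaith.eq_of_smul_eq_smul (fun b'' => ?_)
      rw [one_smul]
      apply hS_disj
      by_cases hbb : b'' = b
      · rw [hbb]
        refine ⟨a₁, ?_, hΓb ha₁⟩
        rw [hS_smul, ← hg₀m]
        exact Set.smul_mem_smul_set (hΓb ha₀)
      · obtain ⟨y, hy⟩ := hS_ne b''
        have hyΓ : y ∉ Γ := fun h => hbb (hS_disj b'' b ⟨y, hy, hΓb h⟩)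
        refine ⟨y, ?_, hy⟩
        rw [hS_smul, ← hg₀f y hyΓ]
        exact Set.smul_mem_smul_set hy
    have hclaim : ∀ b : orbit G B, (S b ∩ Γ).Nonempty → S b ⊆ Γ := by
      intro b ⟨γ, hγb, hγΓ⟩
      by_contra hsub
      obtain ⟨p, hpb, hpΓ⟩ := Set.not_subset.mp hsub
      apply hclaimA b
      intro γ' hγ'
      obtain ⟨h, hh1, hh2⟩ := hJ γ hγΓ γ' hγ'
      have hhb : h • b = b := by
        apply hS_disj
        refine ⟨p, ?_, hpb⟩
        rw [hS_smul, ← hh1 p hpΓ]
        exact Set.smul_mem_smul_set hpb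
      rw [← hhb, hS_smul, ← hh2]
      exact Set.smul_mem_smul_set hγb
    have hm : Γ.ncard = {b : orbit G B | S b ⊆ Γ}.ncard * B.ncard := by
      have := ncard_eq_mul_of_partition Γ (S '' {b : orbit G B | S b ⊆ Γ}) B.ncard
        (by rintro _ ⟨b, _, rfl⟩; exact hS_card b)
        (by
          rintro _ ⟨b, _, rfl⟩ _ ⟨b', _, rfl⟩ h
          rw [hS_disj b b' h])
        (by
          intro x hx
          obtain ⟨b, hb⟩ := hS_cover x
          exact ⟨S b, ⟨b, hclaim b ⟨x, hb, hx⟩, rfl⟩, hb⟩)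
        (by rintro _ ⟨b, hb, rfl⟩; exact hb)
      rw [Set.ncard_image_of_injective _ hS_inj] at this
      exact this
    have hr : 2 ≤ {b : orbit G B | S b ⊆ Γ}.ncard := by
      by_contra hlt
      have hr1 : {b : orbit G B | S b ⊆ Γ}.ncard = 1 := by
        have : {b : orbit G B | S b ⊆ Γ}.ncard ≠ 0 := by
          intro h0
          rw [h0, zero_mul] at hm
          omega
        omega
      rw [hr1, one_mul] at hm
      obtain ⟨b, hb⟩ := hS_cover a₀
      have hbΓ := hclaim b ⟨a₀, hb, ha₀⟩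
      have : S b = Γ := Set.eq_of_subset_of_ncard_le hbΓ (by rw [hS_card, hm]) (Set.toFinite _)
      exact hclaimA b (this ▸ Set.Subset.refl _)
    have hk : 2 * {b : orbit G B | S b ⊆ Γ}.ncard < Fintype.card (orbit G B) := by
      rw [← Nat.card_eq_fintype_card]
      rw [hm, hn'] at h2
      have h3 : (2 * {b : orbit G B | S b ⊆ Γ}.ncard) * B.ncard <
          Nat.card (orbit G B) * B.ncard := by
        rw [mul_assoc]
        exact h2
      exact Nat.lt_of_mul_lt_mul_right h3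
    have hklt : Fintype.card (orbit G B) < n := by
      rw [← Nat.card_eq_fintype_card, hn']
      have hpos : 0 < Nat.card (orbit G B) := by
        rw [Nat.card_eq_fintype_card]
        omega
      nlinarith
    have hJb : JS G {b : orbit G B | S b ⊆ Γ} := by
      intro b₁ hb₁ b₂ hb₂
      obtain ⟨x₁, hx₁⟩ := hS_ne b₁
      obtain ⟨x₂, hx₂⟩ := hS_ne b₂
      obtain ⟨h, hh1, hh2⟩ := hJ x₁ (hb₁ hx₁) x₂ (hb₂ hx₂)
      refine ⟨h, ?_, ?_⟩
      · intro b hb
        obtain ⟨p, hpb, hpΓ⟩ := Set.not_subset.mp hb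
        apply hS_disj
        refine ⟨p, ?_, hpb⟩
        rw [hS_smul, ← hh1 p hpΓ]
        exact Set.smul_mem_smul_set hpb
      · apply hS_disj
        refine ⟨x₂, ?_, hx₂⟩
        rw [hS_smul, ← hh2]
        exact Set.smul_mem_smul_set hx₁
    have hGoal : Goal G (orbit G B) :=
      ih _ hklt rfl hqp' _ hJb (by omega) hk
    exact qp_blocks_contra S hS_smul hS_disj (fun b => by rw [hS_card]; exact hB2) hqp hGoal
      Γ hJ hclaim hr hk

end Cfsg.Agent.Lib.Helper7.Marg
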