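import Mathlib

set_option autoImplicit false

/-! # Coprime operator groups on finite abelian groups: invariant complements (averaging) -/

namespace Cfsg.Agent.Lib.Helper7.Maschke

universe u v

variable {A : Type u} [CommGroup A] {X : Type v} [Group X] (φ : X →* MulAut A)

/-- `B` is invariant under the operator group. -/
def Inv (B : Subgroup A) : Prop := ∀ x : X, ∀ b ∈ B, φ x b ∈ B

variable {φ}

theorem Inv.map_eq {B : Subgroup A} (hB : Inv φ B) (x : X) : B.map (φ x).toMonoidHom = B := by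
  apply le_antisymm
  · rintro _ ⟨b, hb, rfl⟩
    exact hB x b hb
  · intro b hb
    refine ⟨φ x⁻¹ b, hB x⁻¹ b hb, ?_⟩
    show φ x (φ x⁻¹ b) = b
    rw [← MulAut.mul_apply, ← map_mul, mul_inv_cancel, map_one, MulAut.one_apply]

theorem Inv.inf {B C : Subgroup A} (hB : Inv φ B) (hC : Inv φ C) : Inv φ (B ⊓ C) :=
  fun x b hb => ⟨hB x b hb.1, hC x b hb.2⟩

theorem inv_top : Inv φ (⊤ : Subgroup A) := fun _ _ _ => Subgroup.mem_top _

theorem inv_bot : Inv φ (⊥ : Subgroup A) := by
  intro x b hb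
  rw [Subgroup.mem_bot] at hb ⊢
  rw [hb, map_one]

theorem inv_ker_pow (k : ℕ) : Inv φ (powMonoidHom k : A →* A).ker := by
  intro x b hb
  rw [MonoidHom.mem_ker, powMonoidHom_apply] at hb ⊢
  rw [← _root_.map_pow, hb, map_one]

theorem Inv.map_pow {B : Subgroup A} (hB : Inv φ B) (k : ℕ) :
    Inv φ (B.map (powMonoidHom k : A →* A)) := by
  rintro x _ ⟨b, hb, rfl⟩
  refine ⟨φ x b, hB x b hb, ?_⟩
  rw [powMonoidHom_apply, powMonoidHom_apply, _root_.map_pow]

theorem Inv.comap_pow {B : Subgroup A} (hB : Inv φ B) (k : ℕ) :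
    Inv φ (B.comap (powMonoidHom k : A →* A)) := by
  intro x b hb
  rw [Subgroup.mem_comap, powMonoidHom_apply] at hb ⊢
  rw [← _root_.map_pow]
  exact hB x _ hb

section Avg

variable [Fintype X] [Finite A]

/-- Relative version of the theorem on invariant complements: if the invariant subgroup `K` of the
invariant subgroup `B` has a complement in `B`, it has an invariant one, provided the order of the
operator group is prime to the order of `A`. -/
theorem exists_inv_complement (hcop : (Fintype.card X).Coprime (Nat.card A))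
    (B K C : Subgroup A) (hB : Inv φ B) (hK : Inv φ K) (hKB : K ≤ B) (hCB : C ≤ B)
    (hKC : K ⊓ C = ⊥) (hsup : K ⊔ C = B) :
    ∃ C' : Subgroup A, Inv φ C' ∧ C' ≤ B ∧ K ⊓ C' = ⊥ ∧ K ⊔ C' = B := by
  classical
  -- the decomposition
  have hdec : ∀ a ∈ B, ∃ k ∈ K, ∃ c ∈ C, a = k * c := by
    intro a ha
    rw [← hsup, Subgroup.mem_sup] at ha
    obtain ⟨k, hk, c, hc, rfl⟩ := ha
    exact ⟨k, hk, c, hc, rfl⟩
  have huniq : ∀ k ∈ K, ∀ c ∈ C, ∀ k' ∈ K, ∀ c' ∈ C, k * c = k' * c' → k = k' := by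
    intro k hk c hc k' hk' c' hc' h
    have h1 : k'⁻¹ * k = c' * c⁻¹ := by
      rw [inv_mul_eq_iff_eq_mul, ← mul_assoc, ← h, mul_assoc, mul_inv_cancel, mul_one]
    have h2 : k'⁻¹ * k ∈ K ⊓ C :=
      ⟨K.mul_mem (K.inv_mem hk') hk, h1 ▸ C.mul_mem hc' (C.inv_mem hc)⟩
    rw [hKC, Subgroup.mem_bot, inv_mul_eq_one] at h2
    exact h2.symm
  -- the projection
  let π : A → A := fun a => if h : a ∈ B then (hdec a h).choose else 1
  have hπK : ∀ a ∈ B, π a ∈ K := by
    intro a ha
    simp only [π, dif_pos ha]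
    exact (hdec a ha).choose_spec.1
  have hπeq : ∀ a ∈ B, ∀ k ∈ K, ∀ c ∈ C, a = k * c → π a = k := by
    intro a ha k hk c hc h
    simp only [π, dif_pos ha]
    obtain ⟨h1, c', hc', h2⟩ := (hdec a ha).choose_spec
    exact huniq _ h1 c' hc' k hk c hc (h2.symm.trans h)
  have hπmul : ∀ a ∈ B, ∀ b ∈ B, π (a * b) = π a * π b := by
    intro a ha b hb
    obtain ⟨k, hk, c, hc, rfl⟩ := hdec a ha
    obtain ⟨k', hk', c', hc', rfl⟩ := hdec b hb
    rw [hπeq _ ha k hk c hc rfl, hπeq _ hb k' hk' c' hc' rfl]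
    apply hπeq _ (B.mul_mem ha hb) (k * k') (K.mul_mem hk hk') (c * c') (C.mul_mem hc hc')
    rw [mul_mul_mul_comm]
  have hπid : ∀ k ∈ K, π k = k := by
    intro k hk
    exact hπeq k (hKB hk) k hk 1 C.one_mem (mul_one k).symm
  -- the averaged map
  let θ : A → A := fun a => ∏ x : X, φ x (π (φ x⁻¹ a))
  have hθK : ∀ a ∈ B, θ a ∈ K := by
    intro a ha
    apply Subgroup.prod_mem
    intro x _
    exact hK x _ (hπK _ (hB x⁻¹ a ha))
  have hθmul : ∀ a ∈ B, ∀ b ∈ B, θ (a * b) = θ a * θ b := by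
    intro a ha b hb
    simp only [θ]
    rw [← Finset.prod_mul_distrib]
    apply Finset.prod_congr rfl
    intro x _
    rw [map_mul, hπmul _ (hB x⁻¹ a ha) _ (hB x⁻¹ b hb), map_mul]
  have hθone : θ 1 = 1 := by
    have h := hθmul 1 B.one_mem 1 B.one_mem
    rw [one_mul] at h
    exact (mul_eq_left (a := θ 1) (b := θ 1)).1 h.symm
  have hθinv : ∀ a ∈ B, θ a⁻¹ = (θ a)⁻¹ := by
    intro a ha
    have h := hθmul a ha a⁻¹ (B.inv_mem ha)
    rw [mul_inv_cancel, hθone] at h
    exact eq_inv_of_mul_eq_one_right h.symm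
  have hθid : ∀ k ∈ K, θ k = k ^ Fintype.card X := by
    intro k hk
    simp only [θ]
    have : ∀ x : X, φ x (π (φ x⁻¹ k)) = k := by
      intro x
      rw [hπid _ (hK x⁻¹ k hk), ← MulAut.mul_apply, ← map_mul, mul_inv_cancel, map_one,
        MulAut.one_apply]
    rw [Finset.prod_congr rfl (fun x _ => this x), Finset.prod_const, Finset.card_univ]
  have hθeq : ∀ (y : X) (a : A), θ (φ y a) = φ y (θ a) := by
    intro y a
    simp only [θ]
    rw [map_prod]
    rw [← Equiv.prod_comp (Equiv.mulLeft y)]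
    apply Finset.prod_congr rfl
    intro x _
    simp only [Equiv.coe_mulLeft]
    rw [map_mul φ y x, MulAut.mul_apply]
    congr 2
    rw [mul_inv_rev, map_mul, MulAut.mul_apply, map_inv φ y, MulAut.inv_apply_self]
  -- the invariant complement
  let C' : Subgroup A :=
    { carrier := {a | a ∈ B ∧ θ a = 1}
      one_mem' := ⟨B.one_mem, hθone⟩
      mul_mem' := by
        rintro a b ⟨ha, ha1⟩ ⟨hb, hb1⟩
        exact ⟨B.mul_mem ha hb, by rw [hθmul a ha b hb, ha1, hb1, one_mul]⟩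
      inv_mem' := by
        rintro a ⟨ha, ha1⟩
        exact ⟨B.inv_mem ha, by rw [hθinv a ha, ha1, inv_one]⟩ }
  have hcopK : (Nat.card K).Coprime (Fintype.card X) :=
    (Nat.Coprime.coprime_dvd_right (Subgroup.card_subgroup_dvd_card K) hcop).symm
  refine ⟨C', ?_, fun a ha => ha.1, ?_, ?_⟩
  · intro y a ha
    exact ⟨hB y a ha.1, by rw [hθeq, ha.2, map_one]⟩
  · rw [eq_bot_iff]
    intro k hk
    rw [Subgroup.mem_bot]
    have h1 : k ^ Fintype.card X = 1 := by rw [← hθid k hk.1]; exact hk.2.2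
    have h2 : (powCoprime hcopK) ⟨k, hk.1⟩ = (powCoprime hcopK) 1 := by
      simp only [powCoprime_apply]
      apply Subtype.ext
      simp [h1]
    have h3 := (powCoprime hcopK).injective h2
    exact congrArg Subtype.val h3
  · apply le_antisymm
    · exact sup_le hKB (fun a ha => ha.1)
    · intro b hb
      obtain ⟨k₀, hk₀⟩ := (powCoprime hcopK).surjective ⟨θ b, hθK b hb⟩
      have hk₀' : (k₀ : A) ^ Fintype.card X = θ b := by
        have := congrArg Subtype.val hk₀
        simpa [powCoprime_apply] using this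
      have h1 : b * (k₀ : A)⁻¹ ∈ C' := by
        refine ⟨B.mul_mem hb (B.inv_mem (hKB k₀.2)), ?_⟩
        rw [hθmul b hb _ (B.inv_mem (hKB k₀.2)), hθinv _ (hKB k₀.2), hθid _ k₀.2, hk₀',
          mul_inv_cancel]
      have h2 : b = (k₀ : A) * (b * (k₀ : A)⁻¹) := by
        rw [mul_comm b, ← mul_assoc, mul_inv_cancel, one_mul]
      rw [h2]
      exact Subgroup.mul_mem _ (Subgroup.mem_sup_left k₀.2) (Subgroup.mem_sup_right h1)

end Avg

end Cfsg.Agent.Lib.Helper7.Maschke
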