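import Mathlib

set_option autoImplicit false

/-! # Pure subgroups of finite abelian `p`-groups have complements -/

namespace Cfsg.Agent.Lib.Helper7.Maschke

universe u

/-- Relative purity lemma: inside a subgroup `B` of exponent dividing `p ^ e`, a subgroup `K` in
which every element killed by `p ^ (e - 1)` is a `p`-th power has a complement in `B`. -/
theorem exists_complement_of_pure {A : Type u} [CommGroup A] [Finite A] (p : ℕ) (hp : p.Prime)
    (K B : Subgroup A) (hKB : K ≤ B) (e : ℕ) (he : 1 ≤ e) (hexp : ∀ b ∈ B, b ^ p ^ e = 1)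
    (hpure : ∀ k ∈ K, k ^ p ^ (e - 1) = 1 → ∃ k₁ ∈ K, k₁ ^ p = k) :
    ∃ C : Subgroup A, C ≤ B ∧ K ⊓ C = ⊥ ∧ K ⊔ C = B := by
  classical
  let S : Set (Subgroup A) := {C | C ≤ B ∧ K ⊓ C = ⊥}
  obtain ⟨C, ⟨hCB, hKC⟩, hmax⟩ := Set.exists_max_image S (fun C => Nat.card C) (Set.toFinite S)
    ⟨⊥, bot_le, inf_bot_eq _⟩
  refine ⟨C, hCB, hKC, le_antisymm (sup_le hKB hCB) ?_⟩
  by_contra hne
  obtain ⟨b, hbB, hb⟩ := SetLike.not_le_iff_exists.1 hne
  have hex : ∃ j : ℕ, b ^ p ^ j ∈ K ⊔ C := ⟨e, by rw [hexp b hbB]; exact Subgroup.one_mem _⟩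
  set j := Nat.find hex with hj
  have hj1 : b ^ p ^ j ∈ K ⊔ C := Nat.find_spec hex
  have hj0 : j ≠ 0 := by
    intro h0
    rw [h0, pow_zero, pow_one] at hj1
    exact hb hj1
  obtain ⟨j', hj'⟩ := Nat.exists_eq_succ_of_ne_zero hj0
  have hj2 : b ^ p ^ j' ∉ K ⊔ C := Nat.find_min hex (by rw [← hj, hj']; exact Nat.lt_succ_self j')
  set b₀ := b ^ p ^ j' with hb₀
  have hb₀B : b₀ ∈ B := B.pow_mem hbB _
  have hb₀p : b₀ ^ p ∈ K ⊔ C := by
    rw [hb₀, ← pow_mul, ← pow_succ, ← Nat.succ_eq_add_one, ← hj']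
    exact hj1
  obtain ⟨k, hk, c, hc, hkc⟩ := Subgroup.mem_sup.1 hb₀p
  have hpe : p * p ^ (e - 1) = p ^ e := by
    rw [← pow_succ']
    congr 1
    omega
  have hk1 : k ^ p ^ (e - 1) = 1 := by
    have h1 : (k * c) ^ p ^ (e - 1) = 1 := by
      rw [hkc, ← pow_mul, hpe]
      exact hexp b₀ hb₀B
    rw [mul_pow] at h1
    have h2 : k ^ p ^ (e - 1) ∈ K ⊓ C := by
      refine ⟨K.pow_mem hk _, ?_⟩
      rw [eq_inv_of_mul_eq_one_left h1]
      exact C.inv_mem (C.pow_mem hc _)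
    rw [hKC, Subgroup.mem_bot] at h2
    exact h2
  obtain ⟨k₁, hk₁, hk₁p⟩ := hpure k hk hk1
  set b' := b₀ * k₁⁻¹ with hb'
  have hb'B : b' ∈ B := B.mul_mem hb₀B (B.inv_mem (hKB hk₁))
  have hb'n : b' ∉ K ⊔ C := by
    intro h
    apply hj2
    have : b₀ = b' * k₁ := by rw [hb', inv_mul_cancel_right]
    rw [this]
    exact Subgroup.mul_mem _ h (Subgroup.mem_sup_left hk₁)
  have hb'p : b' ^ p = c := by
    rw [hb', mul_pow, inv_pow, hk₁p, ← hkc, mul_comm k c, mul_inv_cancel_right]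
  have hb'C : b' ∉ C := fun h => hb'n (Subgroup.mem_sup_right h)
  -- the bigger subgroup
  set C₁ := C ⊔ Subgroup.zpowers b' with hC₁
  have hC₁B : C₁ ≤ B := sup_le hCB (Subgroup.zpowers_le.2 hb'B)
  have hKC₁ : K ⊓ C₁ = ⊥ := by
    rw [eq_bot_iff]
    rintro x ⟨hxK, hxC₁⟩
    rw [Subgroup.mem_bot]
    obtain ⟨c', hc', z, hz, hxz⟩ := Subgroup.mem_sup.1 hxC₁
    obtain ⟨i, rfl⟩ := Subgroup.mem_zpowers_iff.1 hz
    have hbi : b' ^ i ∈ K ⊔ C := by
      have : b' ^ i = x * c'⁻¹ := by rw [← hxz, mul_comm c', mul_inv_cancel_right]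
      rw [this]
      exact Subgroup.mul_mem _ (Subgroup.mem_sup_left hxK) (Subgroup.mem_sup_right (C.inv_mem hc'))
    have hdvd : (p : ℤ) ∣ i := by
      by_contra hnd
      have hcop : IsCoprime i (p : ℤ) := by
        rw [isCoprime_comm]
        exact (Nat.prime_iff_prime_int.1 hp).coprime_iff_not_dvd.2 hnd
      obtain ⟨u, v, huv⟩ := hcop
      apply hb'n
      have : b' = (b' ^ i) ^ u * (b' ^ (p : ℤ)) ^ v := by
        rw [← zpow_mul, ← zpow_mul, ← zpow_add, mul_comm i u, mul_comm (p : ℤ) v, huv, zpow_one]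
      rw [this]
      apply Subgroup.mul_mem _ (Subgroup.zpow_mem _ hbi u)
      apply Subgroup.zpow_mem
      rw [zpow_natCast, hb'p]
      exact Subgroup.mem_sup_right hc
    obtain ⟨i', rfl⟩ := hdvd
    have hxC : x ∈ C := by
      rw [← hxz, zpow_mul, zpow_natCast, hb'p]
      exact C.mul_mem hc' (C.zpow_mem hc i')
    have : x ∈ K ⊓ C := ⟨hxK, hxC⟩
    rw [hKC, Subgroup.mem_bot] at this
    exact this
  have hle : C ≤ C₁ := le_sup_left
  have hcard := hmax C₁ ⟨hC₁B, hKC₁⟩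
  have heq : C = C₁ := Subgroup.eq_of_le_of_card_ge hle hcard
  apply hb'C
  rw [heq]
  exact Subgroup.mem_sup_right (Subgroup.mem_zpowers b')

end Cfsg.Agent.Lib.Helper7.Maschke
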