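import Mathlib
import Cfsg.Agent.Lib.Helper7.Maschke1
import Cfsg.Agent.Lib.Helper7.Maschke2

set_option autoImplicit false

/-! # Complete reducibility of elementary abelian sections under coprime operator groups -/

namespace Cfsg.Agent.Lib.Helper7.Maschke

universe u v

variable {A : Type u} [CommGroup A] {X : Type v} [Group X] (φ : X →* MulAut A)

theorem Inv.map_eq' {φ : X →* MulAut A} {B : Subgroup A} (hB : Inv φ B) (x : X) :
    B.map ((φ x : A ≃* A) : A →* A) = B := hB.map_eq x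

/-- The induced action on the quotient by an invariant subgroup. -/
noncomputable def quotAct (N : Subgroup A) (hN : Inv φ N) : X →* MulAut (A ⧸ N) where
  toFun x := QuotientGroup.congr N N (φ x) (hN.map_eq' x)
  map_one' := by
    ext a
    induction a using QuotientGroup.induction_on
    simp
  map_mul' x y := by
    ext a
    induction a using QuotientGroup.induction_on with
    | H z =>
      rw [MulAut.mul_apply, QuotientGroup.congr_mk, QuotientGroup.congr_mk, QuotientGroup.congr_mk,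
        map_mul, MulAut.mul_apply]

theorem quotAct_mk (N : Subgroup A) (hN : Inv φ N) (x : X) (a : A) :
    quotAct φ N hN x (QuotientGroup.mk a) = QuotientGroup.mk (φ x a) :=
  QuotientGroup.congr_mk N N (φ x) (hN.map_eq' x) a

variable {φ}

theorem Inv.map_mk {N : Subgroup A} (hN : Inv φ N) {B : Subgroup A} (hB : Inv φ B) :
    Inv (quotAct φ N hN) (B.map (QuotientGroup.mk' N)) := by
  rintro x _ ⟨b, hb, rfl⟩
  refine ⟨φ x b, hB x b hb, ?_⟩
  rw [QuotientGroup.mk'_apply, QuotientGroup.mk'_apply, quotAct_mk]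

theorem Inv.comap_mk {N : Subgroup A} (hN : Inv φ N) {D : Subgroup (A ⧸ N)}
    (hD : Inv (quotAct φ N hN) D) : Inv φ (D.comap (QuotientGroup.mk' N)) := by
  intro x a ha
  rw [Subgroup.mem_comap, QuotientGroup.mk'_apply] at ha ⊢
  rw [← quotAct_mk φ N hN]
  exact hD x _ ha

/-- Maschke for elementary abelian sections. -/
theorem exists_inv_complement_section [Fintype X] [Finite A] (p : ℕ) (hp : p.Prime)
    (hcop : (Fintype.card X).Coprime (Nat.card A))
    (N K B : Subgroup A) (hN : Inv φ N) (hK : Inv φ K) (hB : Inv φ B) (hNK : N ≤ K) (hKB : K ≤ B)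
    (hexp : ∀ b ∈ B, b ^ p ∈ N) :
    ∃ B' : Subgroup A, Inv φ B' ∧ N ≤ B' ∧ B' ≤ B ∧ B' ⊔ K = B ∧ B' ⊓ K = N := by
  set π := QuotientGroup.mk' N with hπ
  have hπN : ∀ a : A, π a = 1 ↔ a ∈ N := fun a => QuotientGroup.eq_one_iff a
  have hcopQ : (Fintype.card X).Coprime (Nat.card (A ⧸ N)) := by
    apply Nat.Coprime.coprime_dvd_right _ hcop
    rw [← Subgroup.index_eq_card]
    exact Subgroup.index_dvd_card N
  have hKBm : K.map π ≤ B.map π := Subgroup.map_mono hKB
  obtain ⟨Cb, hCbB, hKCb, hsupb⟩ := exists_complement_of_pure p hp (K.map π) (B.map π) hKBm 1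
    le_rfl (by
      rintro _ ⟨b, hb, rfl⟩
      rw [pow_one, ← map_pow, hπN]
      exact hexp b hb)
    (by
      intro k hk hk1
      have : k = 1 := by simpa using hk1
      exact ⟨1, Subgroup.one_mem _, by rw [one_pow, this]⟩)
  obtain ⟨Cb', hCb'i, hCb'B, hKCb', hsupb'⟩ := exists_inv_complement (φ := quotAct φ N hN) hcopQ
    (B.map π) (K.map π) Cb (hN.map_mk hB) (hN.map_mk hK) hKBm hCbB hKCb hsupb
  refine ⟨Cb'.comap π, hN.comap_mk hCb'i, ?_, ?_, ?_, ?_⟩
  · intro n hn
    show π n ∈ Cb'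
    rw [(hπN n).2 hn]
    exact Subgroup.one_mem _
  · intro a ha
    obtain ⟨b, hb, hba⟩ := hCb'B ha
    have h1 : π (b⁻¹ * a) = 1 := by rw [map_mul, map_inv, hba, inv_mul_cancel]
    rw [hπN] at h1
    have : a = b * (b⁻¹ * a) := by rw [mul_inv_cancel_left]
    rw [this]
    exact B.mul_mem hb (hKB (hNK h1))
  · apply le_antisymm
    · apply sup_le _ hKB
      intro a ha
      obtain ⟨b, hb, hba⟩ := hCb'B ha
      have h1 : π (b⁻¹ * a) = 1 := by rw [map_mul, map_inv, hba, inv_mul_cancel]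
      rw [hπN] at h1
      have : a = b * (b⁻¹ * a) := by rw [mul_inv_cancel_left]
      rw [this]
      exact B.mul_mem hb (hKB (hNK h1))
    · intro b hb
      have h1 : π b ∈ K.map π ⊔ Cb' := by rw [hsupb']; exact ⟨b, hb, rfl⟩
      obtain ⟨kb, ⟨k, hk, rfl⟩, cb, hcb, h2⟩ := Subgroup.mem_sup.1 h1
      obtain ⟨c, rfl⟩ := QuotientGroup.mk'_surjective N cb
      have h3 : π ((k * c)⁻¹ * b) = 1 := by
        rw [map_mul, map_inv, map_mul, ← h2, inv_mul_cancel]
      rw [hπN] at h3
      have : b = c * (k * ((k * c)⁻¹ * b)) := by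
        rw [← mul_assoc, mul_comm c k, mul_inv_cancel_left]
      rw [this]
      exact Subgroup.mul_mem _ (Subgroup.mem_sup_left hcb)
        (Subgroup.mem_sup_right (K.mul_mem hk (hNK h3)))
  · apply le_antisymm
    · rintro a ⟨ha1, ha2⟩
      have h1 : π a ∈ K.map π ⊓ Cb' := ⟨⟨a, ha2, rfl⟩, ha1⟩
      rw [hKCb', Subgroup.mem_bot, hπN] at h1
      exact h1
    · intro n hn
      refine ⟨?_, hNK hn⟩
      show π n ∈ Cb'
      rw [(hπN n).2 hn]
      exact Subgroup.one_mem _

end Cfsg.Agent.Lib.Helper7.Maschke
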