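import Mathlib
import Cfsg.Agent.Lib.Helper7.Maschke3

set_option autoImplicit false

/-! # Indecomposable abelian `p`-groups under a coprime operator group: `Ω₁` is irreducible -/

namespace Cfsg.Agent.Lib.Helper7.Maschke

universe u v

variable {A : Type u} [CommGroup A] {X : Type v} [Group X] {φ : X →* MulAut A}

theorem card_ker_mul_card_range [Finite A] (f : A →* A) :
    Nat.card f.ker * Nat.card f.range = Nat.card A := by
  rw [← Subgroup.index_ker, Subgroup.card_mul_index]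

theorem irreducible_omega_one [Fintype X] [Finite A] (p : ℕ) [hp : Fact p.Prime]
    (hA : IsPGroup p A) (hcop : (Fintype.card X).Coprime p)
    (hindec : ∀ B C : Subgroup A, Inv φ B → Inv φ C → B ⊓ C = ⊥ → B ⊔ C = ⊤ → B = ⊥ ∨ C = ⊥)
    (V : Subgroup A) (hV : Inv φ V) (hVp : ∀ v ∈ V, v ^ p = 1) :
    V = ⊥ ∨ ∀ a : A, a ∈ V ↔ a ^ p = 1 := by
  classical
  obtain ⟨n, hn⟩ := IsPGroup.iff_card.1 hA
  have hcopA : (Fintype.card X).Coprime (Nat.card A) := by
    rw [hn]; exact Nat.Coprime.pow_right n hcop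
  by_cases hV1 : V = ⊥
  · exact Or.inl hV1
  right
  -- the exponent
  have hex : ∃ e : ℕ, ∀ a : A, a ^ p ^ e = 1 := ⟨n, fun a => by rw [← hn]; exact pow_card_eq_one'⟩
  set e := Nat.find hex with he
  have hexp : ∀ a : A, a ^ p ^ e = 1 := Nat.find_spec hex
  obtain ⟨⟨v, hvV⟩, hv1⟩ := (Subgroup.ne_bot_iff_exists_ne_one).1 hV1
  have hv1' : v ≠ 1 := fun h => hv1 (Subtype.ext h)
  have he0 : e ≠ 0 := by
    intro h0
    have := hexp v
    rw [h0, pow_zero, pow_one] at this
    exact hv1' this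
  obtain ⟨e', he'⟩ := Nat.exists_eq_succ_of_ne_zero he0
  have hnot : ¬ ∀ a : A, a ^ p ^ e' = 1 :=
    Nat.find_min hex (by rw [← he, he']; exact Nat.lt_succ_self e')
  set f : A →* A := powMonoidHom (p ^ e') with hf
  set Ω : Subgroup A := f.ker with hΩ
  have hΩi : Inv φ Ω := inv_ker_pow _
  have hΩmem : ∀ a : A, a ∈ Ω ↔ a ^ p ^ e' = 1 := fun a => by
    rw [hΩ, MonoidHom.mem_ker, hf, powMonoidHom_apply]
  have hpe : ∀ a : A, (a ^ p) ^ p ^ e' = 1 := by
    intro a
    rw [← pow_mul, ← pow_succ', ← Nat.succ_eq_add_one, ← he']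
    exact hexp a
  -- minimal invariant subgroup outside Ω
  let S : Set (Subgroup A) := {B | Inv φ B ∧ ¬ B ≤ Ω}
  have hStop : (⊤ : Subgroup A) ∈ S := by
    refine ⟨inv_top, fun h => hnot fun a => ?_⟩
    exact (hΩmem a).1 (h (Subgroup.mem_top a))
  obtain ⟨B, ⟨hBi, hBΩ⟩, hBmin⟩ :=
    Set.exists_min_image S (fun B => Nat.card B) (Set.toFinite S) ⟨⊤, hStop⟩
  have hmin' : ∀ B' : Subgroup A, Inv φ B' → B' ≤ B → ¬ B' ≤ Ω → B' = B := by
    intro B' hB'i hB'B hB'Ω
    exact Subgroup.eq_of_le_of_card_ge hB'B (hBmin B' ⟨hB'i, hB'Ω⟩)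
  set N : Subgroup A := B.map (powMonoidHom p) with hN
  set K : Subgroup A := B ⊓ Ω with hK
  have hNi : Inv φ N := hBi.map_pow p
  have hKi : Inv φ K := hBi.inf hΩi
  have hNK : N ≤ K := by
    rintro _ ⟨b, hb, rfl⟩
    rw [powMonoidHom_apply]
    exact ⟨B.pow_mem hb p, (hΩmem _).2 (hpe b)⟩
  have hKB : K ≤ B := inf_le_left
  obtain ⟨B', hB'i, hNB', hB'B, hsup, hinf⟩ := exists_inv_complement_section p hp.out hcopA
    N K B hNi hKi hBi hNK hKB (fun b hb => ⟨b, hb, rfl⟩)
  have hB'eq : B' = B := by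
    apply hmin' B' hB'i hB'B
    intro h
    apply hBΩ
    have h1 : B' ≤ K := le_inf hB'B h
    rw [← hsup]
    exact (sup_le h1 le_rfl).trans inf_le_right
  have hKN : K = N := by
    rw [← hinf, hB'eq]
    exact (inf_eq_right.2 hKB).symm
  -- B is a direct factor, hence everything
  have hpure : ∀ b ∈ B, b ^ p ^ (e - 1) = 1 → ∃ b₁ ∈ B, b₁ ^ p = b := by
    intro b hb hb1
    have he1 : e - 1 = e' := by omega
    rw [he1] at hb1
    have : b ∈ K := ⟨hb, (hΩmem b).2 hb1⟩
    rw [hKN] at this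
    obtain ⟨b₁, hb₁, rfl⟩ := this
    exact ⟨b₁, hb₁, rfl⟩
  obtain ⟨C, -, hBC, hBCs⟩ := exists_complement_of_pure p hp.out B ⊤ le_top e
    (Nat.one_le_iff_ne_zero.2 he0) (fun b _ => hexp b) hpure
  obtain ⟨C', hC'i, -, hBC', hBCs'⟩ := exists_inv_complement (φ := φ) hcopA ⊤ B C inv_top hBi le_top
    le_top hBC hBCs
  have hBtop : B = ⊤ := by
    rcases hindec B C' hBi hC'i hBC' hBCs' with h | h
    · exfalso
      apply hBΩ
      rw [h]; exact bot_le
    · rw [h, sup_bot_eq] at hBCs'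
      exact hBCs'
  -- consequences
  have hΩN : Ω = (powMonoidHom p : A →* A).range := by
    have : K = Ω := by rw [hK, hBtop, top_inf_eq]
    rw [← this, hKN, hN, hBtop, MonoidHom.range_eq_map]
  have hmax : ∀ B' : Subgroup A, Inv φ B' → ¬ B' ≤ Ω → B' = ⊤ := by
    intro B' hB'i hB'Ω
    rw [← hBtop]
    exact hmin' B' hB'i (by rw [hBtop]; exact le_top) hB'Ω
  set Ω₁ : Subgroup A := (powMonoidHom p : A →* A).ker with hΩ₁
  have hrange : f.range = Ω₁ := by
    apply Subgroup.eq_of_le_of_card_ge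
    · rintro _ ⟨a, rfl⟩
      rw [hΩ₁, MonoidHom.mem_ker, hf, powMonoidHom_apply, powMonoidHom_apply, ← pow_mul,
        ← pow_succ, ← Nat.succ_eq_add_one, ← he']
      exact hexp a
    · have h1 := card_ker_mul_card_range f
      have h2 := card_ker_mul_card_range (powMonoidHom p : A →* A)
      rw [← hΩ, hΩN] at h1
      rw [mul_comm] at h1
      have h3 : Nat.card f.range * Nat.card (powMonoidHom p : A →* A).range =
          Nat.card (powMonoidHom p : A →* A).ker * Nat.card (powMonoidHom p : A →* A).range := by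
        rw [h1, h2]
      have hpos : 0 < Nat.card (powMonoidHom p : A →* A).range := Nat.card_pos
      exact (Nat.eq_of_mul_eq_mul_right hpos h3).ge
  -- the preimage of V
  have hWi : Inv φ (V.comap f) := hV.comap_pow _
  have hvΩ₁ : v ∈ Ω₁ := by
    rw [hΩ₁, MonoidHom.mem_ker, powMonoidHom_apply]
    exact hVp v hvV
  rw [← hrange] at hvΩ₁
  obtain ⟨w, hw⟩ := hvΩ₁
  have hWtop : V.comap f = ⊤ := by
    apply hmax _ hWi
    intro h
    have hwW : w ∈ V.comap f := by rw [Subgroup.mem_comap, hw]; exact hvV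
    have := h hwW
    rw [hΩ, MonoidHom.mem_ker, hw] at this
    exact hv1' this
  intro a
  constructor
  · exact hVp a
  · intro ha
    have haΩ₁ : a ∈ Ω₁ := by
      rw [hΩ₁, MonoidHom.mem_ker, powMonoidHom_apply]; exact ha
    rw [← hrange] at haΩ₁
    obtain ⟨w', hw'⟩ := haΩ₁
    have : w' ∈ V.comap f := by rw [hWtop]; exact Subgroup.mem_top _
    rw [Subgroup.mem_comap, hw'] at this
    exact this

end Cfsg.Agent.Lib.Helper7.Maschke
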