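import Mathlib
import Cfsg.Agent.Lib.Helper7.Maschke4

set_option autoImplicit false

/-! # Invariant subgroups of an abelian `p`-group with irreducible `Ω₁` -/

namespace Cfsg.Agent.Lib.Helper7.Maschke

universe u v

variable {A : Type u} [CommGroup A] {X : Type v} [Group X] {φ : X →* MulAut A}

theorem omega_of_irreducible [Finite A] (p : ℕ) [hp : Fact p.Prime] (hA : IsPGroup p A)
    (h3 : ∀ V : Subgroup A, Inv φ V → (∀ v ∈ V, v ^ p = 1) → V = ⊥ ∨ ∀ a : A, a ∈ V ↔ a ^ p = 1)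
    (B : Subgroup A) (hB : Inv φ B) : ∃ i : ℕ, ∀ a : A, a ∈ B ↔ a ^ p ^ i = 1 := by
  classical
  by_cases hB1 : B = ⊥
  · refine ⟨0, fun a => ?_⟩
    rw [hB1, Subgroup.mem_bot, pow_zero, pow_one]
  obtain ⟨n, hn⟩ := IsPGroup.iff_card.1 hA
  have hex : ∃ i : ℕ, ∀ b ∈ B, b ^ p ^ i = 1 :=
    ⟨n, fun b _ => by rw [← hn]; exact pow_card_eq_one'⟩
  set i := Nat.find hex with hi
  have hexp : ∀ b ∈ B, b ^ p ^ i = 1 := Nat.find_spec hex
  obtain ⟨⟨v, hvB⟩, hv1⟩ := (Subgroup.ne_bot_iff_exists_ne_one).1 hB1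
  have hv1' : v ≠ 1 := fun h => hv1 (Subtype.ext h)
  have hi0 : i ≠ 0 := by
    intro h0
    have := hexp v hvB
    rw [h0, pow_zero, pow_one] at this
    exact hv1' this
  obtain ⟨i', hi'⟩ := Nat.exists_eq_succ_of_ne_zero hi0
  have hnot : ¬ ∀ b ∈ B, b ^ p ^ i' = 1 :=
    Nat.find_min hex (by rw [← hi, hi']; exact Nat.lt_succ_self i')
  push_neg at hnot
  obtain ⟨b₀, hb₀B, hb₀⟩ := hnot
  refine ⟨i, fun a => ⟨hexp a, ?_⟩⟩
  have key : ∀ j : ℕ, j ≤ i → ∀ a : A, a ^ p ^ j = 1 → a ∈ B := by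
    intro j
    induction j with
    | zero =>
      intro _ a ha
      rw [pow_zero, pow_one] at ha
      rw [ha]; exact B.one_mem
    | succ j ih =>
      intro hj a ha
      have hji' : j ≤ i' := by omega
      set D : Subgroup A := B.map (powMonoidHom (p ^ j)) ⊓ (powMonoidHom p : A →* A).ker with hD
      have hDi : Inv φ D := (hB.map_pow _).inf (inv_ker_pow p)
      have hDp : ∀ d ∈ D, d ^ p = 1 := by
        intro d hd
        have : d ∈ (powMonoidHom p : A →* A).ker := hd.2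
        rwa [MonoidHom.mem_ker, powMonoidHom_apply] at this
      have hd₀ : b₀ ^ p ^ i' ∈ D := by
        refine ⟨⟨b₀ ^ p ^ (i' - j), B.pow_mem hb₀B _, ?_⟩, ?_⟩
        · rw [powMonoidHom_apply, ← pow_mul, ← pow_add]
          congr 2
          omega
        · show b₀ ^ p ^ i' ∈ (powMonoidHom p : A →* A).ker
          rw [MonoidHom.mem_ker, powMonoidHom_apply, ← pow_mul, ← pow_succ, ← Nat.succ_eq_add_one,
            ← hi']
          exact hexp b₀ hb₀B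
      have hD1 : D ≠ ⊥ := by
        intro h
        rw [h, Subgroup.mem_bot] at hd₀
        exact hb₀ hd₀
      rcases h3 D hDi hDp with h | h
      · exact absurd h hD1
      · have h1 : a ^ p ^ j ∈ D := by
          rw [h, ← pow_mul, ← pow_succ]
          exact ha
        obtain ⟨b, hbB, hb⟩ := h1.1
        rw [powMonoidHom_apply] at hb
        have h2 : (a * b⁻¹) ^ p ^ j = 1 := by
          rw [mul_pow, inv_pow, hb, mul_inv_cancel]
        have h3' := ih (by omega) _ h2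
        have : a = a * b⁻¹ * b := by rw [inv_mul_cancel_right]
        rw [this]
        exact B.mul_mem h3' hbB
  exact key i le_rfl a

/-- The three-way equivalence for a general operator group. -/
theorem three_equiv [Fintype X] [Finite A] (p : ℕ) [hp : Fact p.Prime] (hA : IsPGroup p A)
    (hcop : (Fintype.card X).Coprime p) :
    ((¬ ∃ B C : Subgroup A, B ≠ ⊥ ∧ C ≠ ⊥ ∧ Inv φ B ∧ Inv φ C ∧ B ⊓ C = ⊥ ∧ B ⊔ C = ⊤) ↔
      (∀ B : Subgroup A, Inv φ B → ∃ i : ℕ, ∀ a : A, a ∈ B ↔ a ^ p ^ i = 1)) ∧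
    ((∀ B : Subgroup A, Inv φ B → ∃ i : ℕ, ∀ a : A, a ∈ B ↔ a ^ p ^ i = 1) ↔
      (∀ B : Subgroup A, Inv φ B → (∀ b ∈ B, b ^ p = 1) → B = ⊥ ∨ ∀ a : A, a ∈ B ↔ a ^ p = 1)) := by
  have h23 : (∀ B : Subgroup A, Inv φ B → ∃ i : ℕ, ∀ a : A, a ∈ B ↔ a ^ p ^ i = 1) →
      (∀ B : Subgroup A, Inv φ B → (∀ b ∈ B, b ^ p = 1) → B = ⊥ ∨ ∀ a : A, a ∈ B ↔ a ^ p = 1) := by
    intro h2 B hB hBp
    obtain ⟨i, hi⟩ := h2 B hB
    rcases Nat.eq_zero_or_pos i with h0 | h0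
    · left
      rw [eq_bot_iff]
      intro a ha
      rw [Subgroup.mem_bot]
      have := (hi a).1 ha
      rwa [h0, pow_zero, pow_one] at this
    · right
      intro a
      refine ⟨hBp a, fun ha => (hi a).2 ?_⟩
      obtain ⟨i', rfl⟩ := Nat.exists_eq_succ_of_ne_zero h0.ne'
      rw [pow_succ', pow_mul, ha, one_pow]
  have h32 : (∀ B : Subgroup A, Inv φ B → (∀ b ∈ B, b ^ p = 1) →
      B = ⊥ ∨ ∀ a : A, a ∈ B ↔ a ^ p = 1) →
      (∀ B : Subgroup A, Inv φ B → ∃ i : ℕ, ∀ a : A, a ∈ B ↔ a ^ p ^ i = 1) :=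
    fun h3 B hB => omega_of_irreducible p hA h3 B hB
  refine ⟨⟨?_, ?_⟩, ⟨h23, h32⟩⟩
  · intro h1
    apply h32
    apply irreducible_omega_one p hA hcop
    intro B C hB hC hBC hsup
    by_contra hne
    push_neg at hne
    exact h1 ⟨B, C, hne.1, hne.2, hB, hC, hBC, hsup⟩
  · rintro h2 ⟨B, C, hB1, hC1, hB, hC, hBC, -⟩
    obtain ⟨i, hi⟩ := h2 B hB
    obtain ⟨j, hj⟩ := h2 C hC
    rcases le_total i j with hij | hij
    · apply hB1
      rw [eq_bot_iff, ← hBC]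
      intro a ha
      refine ⟨ha, (hj a).2 ?_⟩
      obtain ⟨d, rfl⟩ := Nat.exists_eq_add_of_le hij
      rw [pow_add, pow_mul, (hi a).1 ha, one_pow]
    · apply hC1
      rw [eq_bot_iff, ← hBC]
      intro a ha
      refine ⟨(hi a).2 ?_, ha⟩
      obtain ⟨d, rfl⟩ := Nat.exists_eq_add_of_le hij
      rw [pow_add, pow_mul, (hj a).1 ha, one_pow]

end Cfsg.Agent.Lib.Helper7.Maschke
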