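import Mathlib
import Cfsg.Agent.Lib.Helper7.MaxCls1

set_option autoImplicit false

/-! Structure of `p`-groups of maximal class: orders of the lower central terms, uniform elements. -/

namespace Cfsg.Agent.Lib.Helper7.MaxCls

open scoped commutatorElement

/-- a `p`-group of order `p^n`, `n ≥ 3`, of class `n - 1` -/
structure IsMC (p n : ℕ) (S : Type*) [Group S] : Prop where
  pgrp : IsPGroup p S
  three : 3 ≤ n
  card : Nat.card S = p ^ n
  bot : (⊤ : Subgroup S).lowerCentralSeries (n - 1) = ⊥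
  nbot : (⊤ : Subgroup S).lowerCentralSeries (n - 2) ≠ ⊥

variable {S : Type*} [Group S] [Finite S] {p : ℕ} [hp : Fact p.Prime] {n : ℕ}


theorem eq_of_index_prime (E M D : Subgroup S) (hEM : E ≤ M) (hMD : M ≤ D)
    (hcard : Nat.card D = p * Nat.card E) (hne : M ≠ E) : M = D := by
  have h1 : Nat.card E ∣ Nat.card M := Subgroup.card_dvd_of_le hEM
  have h2 : Nat.card M ∣ Nat.card D := Subgroup.card_dvd_of_le hMD
  obtain ⟨t, ht⟩ := h1
  have hEpos : 0 < Nat.card E := Nat.card_pos
  have ht2 : t ∣ p := by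
    rw [hcard, ht, mul_comm p] at h2
    exact (Nat.mul_dvd_mul_iff_left hEpos).1 h2
  have ht3 : t ≠ 1 := by
    intro h
    rw [h, mul_one] at ht
    exact hne (Subgroup.eq_of_le_of_card_ge hEM (le_of_eq ht)).symm
  have ht4 : t = p := ((Nat.dvd_prime hp.out).1 ht2).resolve_left ht3
  apply Subgroup.eq_of_le_of_card_ge hMD
  rw [hcard, ht, ht4, mul_comm]

theorem pow_mem_of_card (D E : Subgroup S) [E.Normal] (hED : E ≤ D)
    (hcard : Nat.card D = p * Nat.card E) (x : S) (hx : x ∈ D) : x ^ p ∈ E := by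
  have hidx : (E.subgroupOf D).index = p := by
    have h1 := Subgroup.card_mul_index (E.subgroupOf D)
    have h2 : Nat.card (E.subgroupOf D) = Nat.card E :=
      Nat.card_congr (Subgroup.subgroupOfEquivOfLe hED).toEquiv
    rw [h2, hcard, mul_comm] at h1
    have hEpos : 0 < Nat.card E := Nat.card_pos
    exact Nat.eq_of_mul_eq_mul_right hEpos h1
  have h := Subgroup.pow_index_mem (E.subgroupOf D) (⟨x, hx⟩ : ↥D)
  rw [hidx, Subgroup.mem_subgroupOf] at h
  simpa using h

section MC

variable (h : IsMC p n S)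
include h

theorem IsMC.strict (i : ℕ) (hi : i < n - 1) : (⊤ : Subgroup S).lowerCentralSeries (i + 1) < (⊤ : Subgroup S).lowerCentralSeries i := by
  refine lt_of_le_of_ne (Subgroup.lowerCentralSeries_antitone _ (Nat.le_succ i)) ?_
  intro he
  have hall : ∀ j, (⊤ : Subgroup S).lowerCentralSeries (i + j) = (⊤ : Subgroup S).lowerCentralSeries i := by
    intro j
    induction j with
    | zero => rfl
    | succ j ih =>
      rw [← add_assoc, Subgroup.lowerCentralSeries_succ, ih, ← Subgroup.lowerCentralSeries_succ, he]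
  have h1 : (⊤ : Subgroup S).lowerCentralSeries (n - 2) = (⊤ : Subgroup S).lowerCentralSeries i := by
    have : n - 2 = i + (n - 2 - i) := by omega
    rw [this]; exact hall _
  have h2 : (⊤ : Subgroup S).lowerCentralSeries (n - 1) = (⊤ : Subgroup S).lowerCentralSeries i := by
    have : n - 1 = i + (n - 1 - i) := by omega
    rw [this]; exact hall _
  exact h.nbot (by rw [h1, ← h2]; exact h.bot)

theorem IsMC.card_step (i : ℕ) (hi : i < n - 1) :
    p * Nat.card ((⊤ : Subgroup S).lowerCentralSeries (i + 1)) ≤ Nat.card ((⊤ : Subgroup S).lowerCentralSeries i) := by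
  have hlt := h.strict i hi
  obtain ⟨e₁, he₁⟩ := (h.pgrp.to_subgroup ((⊤ : Subgroup S).lowerCentralSeries (i + 1))).exists_card_eq
  obtain ⟨e₀, he₀⟩ := (h.pgrp.to_subgroup ((⊤ : Subgroup S).lowerCentralSeries i)).exists_card_eq
  have hdvd : Nat.card ((⊤ : Subgroup S).lowerCentralSeries (i + 1)) ∣ Nat.card ((⊤ : Subgroup S).lowerCentralSeries i) := Subgroup.card_dvd_of_le hlt.le
  rw [he₁, he₀] at hdvd ⊢
  have hle : e₁ ≤ e₀ := (Nat.pow_dvd_pow_iff_le_right hp.out.one_lt).1 hdvd
  have hne : e₁ ≠ e₀ := by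
    intro he
    have : (⊤ : Subgroup S).lowerCentralSeries i = (⊤ : Subgroup S).lowerCentralSeries (i + 1) := by
      apply (Subgroup.eq_of_le_of_card_ge hlt.le _).symm
      rw [he₁, he₀, he]
    exact (ne_of_lt hlt) this.symm
  have : e₁ + 1 ≤ e₀ := by omega
  calc p * p ^ e₁ = p ^ (e₁ + 1) := by rw [pow_succ, mul_comm]
    _ ≤ p ^ e₀ := Nat.pow_le_pow_right hp.out.pos this

theorem IsMC.not_cyclic_mod :
    ¬ ∃ g : S, ∀ d : S, ∃ a : ℤ, ∃ e ∈ (⊤ : Subgroup S).lowerCentralSeries 1, d = g ^ a * e := by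
  rintro ⟨g, hg⟩
  have h1 : ⁅(⊤ : Subgroup S), (⊤ : Subgroup S)⁆ ≤ (⊤ : Subgroup S).lowerCentralSeries 2 := by
    apply comm_le_of_cyclic ⊤ ((⊤ : Subgroup S).lowerCentralSeries 1) ((⊤ : Subgroup S).lowerCentralSeries 2) le_top _ g (Subgroup.mem_top g)
      (fun d _ => hg d)
    rw [Subgroup.commutator_comm]
    exact le_of_eq (Subgroup.lowerCentralSeries_succ _ 1).symm
  have h2 : (⊤ : Subgroup S).lowerCentralSeries 1 ≤ (⊤ : Subgroup S).lowerCentralSeries 2 := by
    have : (⊤ : Subgroup S).lowerCentralSeries 1 = ⁅(⊤ : Subgroup S), (⊤ : Subgroup S)⁆ := by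
      rw [Subgroup.lowerCentralSeries_succ, Subgroup.lowerCentralSeries_zero]
    rw [this]; exact h1
  have h3 := h.strict 1 (by have := h.three; omega)
  exact absurd h2 (not_le_of_gt h3)

theorem IsMC.card_one : p ^ 2 * Nat.card ((⊤ : Subgroup S).lowerCentralSeries 1) ≤ p ^ n := by
  have h0 : Nat.card ((⊤ : Subgroup S).lowerCentralSeries 0) = p ^ n := by
    rw [Subgroup.lowerCentralSeries_zero, Subgroup.card_top, h.card]
  have hlt := h.strict 0 (by have := h.three; omega)
  obtain ⟨e₁, he₁⟩ := (h.pgrp.to_subgroup ((⊤ : Subgroup S).lowerCentralSeries 1)).exists_card_eq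
  have hdvd : Nat.card ((⊤ : Subgroup S).lowerCentralSeries 1) ∣ Nat.card ((⊤ : Subgroup S).lowerCentralSeries 0) := Subgroup.card_dvd_of_le hlt.le
  rw [h0, he₁] at hdvd
  have hle : e₁ ≤ n := (Nat.pow_dvd_pow_iff_le_right hp.out.one_lt).1 hdvd
  have hstep := h.card_step 0 (by have := h.three; omega)
  rw [zero_add, h0, he₁] at hstep
  have hne1 : e₁ ≠ n := by
    intro he
    rw [he] at hstep
    have : p ^ n < p * p ^ n := by
      have hpos : 0 < p ^ n := pow_pos hp.out.pos n
      have := hp.out.one_lt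
      nlinarith
    omega
  have hne2 : e₁ + 1 ≠ n := by
    intro he
    -- index p: the quotient is cyclic
    have hcard : Nat.card (⊤ : Subgroup S) = p * Nat.card ((⊤ : Subgroup S).lowerCentralSeries 1) := by
      rw [Subgroup.card_top, h.card, he₁, ← he, pow_succ, mul_comm]
    obtain ⟨g, -, hg⟩ := SetLike.exists_of_lt hlt
    rw [Subgroup.lowerCentralSeries_zero] at hlt
    have hgen := exists_zpow_mul (p := p) ⊤ ((⊤ : Subgroup S).lowerCentralSeries 1) le_top hcard g (Subgroup.mem_top g) hg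
    exact h.not_cyclic_mod ⟨g, fun d => hgen d (Subgroup.mem_top d)⟩
  rw [he₁, ← pow_add]
  exact Nat.pow_le_pow_right hp.out.pos (by omega)

theorem IsMC.card_lcs (i : ℕ) (hi1 : 1 ≤ i) (hin : i ≤ n - 1) :
    Nat.card ((⊤ : Subgroup S).lowerCentralSeries i) = p ^ (n - 1 - i) := by
  have hn := h.three
  -- lower bound
  have hlow : ∀ j, j ≤ n - 2 → p ^ j ≤ Nat.card ((⊤ : Subgroup S).lowerCentralSeries (n - 1 - j)) := by
    intro j
    induction j with
    | zero =>
      intro _
      rw [Nat.sub_zero, h.bot]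
      simp
    | succ j ih =>
      intro hj
      have h1 := h.card_step (n - 1 - (j + 1)) (by omega)
      have h2 : n - 1 - (j + 1) + 1 = n - 1 - j := by omega
      rw [h2] at h1
      calc p ^ (j + 1) = p * p ^ j := by rw [pow_succ, mul_comm]
        _ ≤ p * Nat.card ((⊤ : Subgroup S).lowerCentralSeries (n - 1 - j)) := Nat.mul_le_mul_left p (ih (by omega))
        _ ≤ _ := h1
  -- upper bound
  have hup : ∀ i, 1 ≤ i → i ≤ n - 1 → Nat.card ((⊤ : Subgroup S).lowerCentralSeries i) * p ^ (i + 1) ≤ p ^ n := by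
    intro i hi1
    induction i, hi1 using Nat.le_induction with
    | base =>
      intro _
      have := h.card_one
      rw [mul_comm]; exact this
    | succ i hi1 ih =>
      intro hin
      have h1 := h.card_step i (by omega)
      calc Nat.card ((⊤ : Subgroup S).lowerCentralSeries (i + 1)) * p ^ (i + 1 + 1)
          = (p * Nat.card ((⊤ : Subgroup S).lowerCentralSeries (i + 1))) * p ^ (i + 1) := by rw [pow_succ]; ring
        _ ≤ Nat.card ((⊤ : Subgroup S).lowerCentralSeries i) * p ^ (i + 1) := Nat.mul_le_mul_right _ h1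
        _ ≤ p ^ n := ih (by omega)
  have h1 := hlow (n - 1 - i) (by omega)
  have h2 : n - 1 - (n - 1 - i) = i := by omega
  rw [h2] at h1
  have h3 := hup i hi1 hin
  have h4 : p ^ n = p ^ (n - 1 - i) * p ^ (i + 1) := by
    rw [← pow_add]; congr 1; omega
  rw [h4] at h3
  have h5 : Nat.card ((⊤ : Subgroup S).lowerCentralSeries i) ≤ p ^ (n - 1 - i) :=
    Nat.le_of_mul_le_mul_right h3 (pow_pos hp.out.pos _)
  exact le_antisymm h5 h1

theorem IsMC.card_succ (i : ℕ) (hi1 : 1 ≤ i) (hin : i + 1 ≤ n - 1) :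
    Nat.card ((⊤ : Subgroup S).lowerCentralSeries i) = p * Nat.card ((⊤ : Subgroup S).lowerCentralSeries (i + 1)) := by
  rw [h.card_lcs i hi1 (by omega), h.card_lcs (i + 1) (by omega) hin, ← pow_succ']
  congr 1; omega

theorem IsMC.lcs_eq_bot (i : ℕ) (hi : n - 1 ≤ i) : (⊤ : Subgroup S).lowerCentralSeries i = ⊥ := by
  rw [eq_bot_iff, ← h.bot]
  exact Subgroup.lowerCentralSeries_antitone _ hi

/-- `S / γ₂` has exponent `p` -/
theorem IsMC.pow_mem_one (x : S) : x ^ p ∈ (⊤ : Subgroup S).lowerCentralSeries 1 := by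
  classical
  by_contra hx
  apply h.not_cyclic_mod
  refine ⟨x, ?_⟩
  have hn := h.three
  have hcardQ : Nat.card (S ⧸ (⊤ : Subgroup S).lowerCentralSeries 1) = p ^ 2 := by
    have h1 := Subgroup.card_eq_card_quotient_mul_card_subgroup ((⊤ : Subgroup S).lowerCentralSeries 1)
    rw [h.card, h.card_lcs 1 le_rfl (by omega)] at h1
    have h2 : p ^ n = p ^ 2 * p ^ (n - 1 - 1) := by rw [← pow_add]; congr 1; omega
    rw [h2] at h1
    exact (Nat.eq_of_mul_eq_mul_right (pow_pos hp.out.pos _) h1).symm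
  set π := QuotientGroup.mk' ((⊤ : Subgroup S).lowerCentralSeries 1) with hπ
  have hxp : (π x) ^ p ≠ 1 := by
    intro h1
    rw [← map_pow] at h1
    exact hx ((QuotientGroup.eq_one_iff _).1 h1)
  have hord : orderOf (π x) = p ^ 2 := by
    have h1 : orderOf (π x) ∣ p ^ 2 := by
      rw [← hcardQ]; exact orderOf_dvd_natCard _
    obtain ⟨j, hj, hjo⟩ := (Nat.dvd_prime_pow hp.out).1 h1
    have : j = 2 := by
      by_contra hj2
      have hj1 : j ≤ 1 := by omega
      apply hxp
      apply orderOf_dvd_iff_pow_eq_one.1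
      rw [hjo]
      calc p ^ j ∣ p ^ 1 := pow_dvd_pow p hj1
        _ = p := pow_one p
    rw [hjo, this]
  have htop : Subgroup.zpowers (π x) = ⊤ := by
    apply Subgroup.eq_top_of_card_eq
    rw [Nat.card_zpowers, hord, hcardQ]
  intro d
  have hd : π d ∈ Subgroup.zpowers (π x) := by rw [htop]; exact Subgroup.mem_top _
  obtain ⟨a, ha⟩ := Subgroup.mem_zpowers_iff.1 hd
  refine ⟨a, (x ^ a)⁻¹ * d, ?_, by group⟩
  apply (QuotientGroup.eq_one_iff _).1
  change π ((x ^ a)⁻¹ * d) = 1
  rw [map_mul, map_inv, map_zpow, ha, inv_mul_cancel]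

end MC

end Cfsg.Agent.Lib.Helper7.MaxCls
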