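import Mathlib
import Cfsg.Agent.Lib.Helper7.MaxCls2

set_option autoImplicit false

/-! Uniform elements in `p`-groups of maximal class. -/

namespace Cfsg.Agent.Lib.Helper7.MaxCls

open scoped commutatorElement

section general

variable {S : Type*} [Group S]

/-- elements of `S` commuting with `s` modulo `N` -/
def centMod (N : Subgroup S) [N.Normal] (s : S) : Subgroup S :=
  (Subgroup.centralizer {QuotientGroup.mk' N s}).comap (QuotientGroup.mk' N)

theorem mem_centMod {N : Subgroup S} [N.Normal] {s g : S} :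
    g ∈ centMod N s ↔ ⁅g, s⁆ ∈ N := by
  unfold centMod
  rw [Subgroup.mem_comap, Subgroup.mem_centralizer_singleton_iff,
    ← commutatorElement_eq_one_iff_mul_comm, ← map_commutatorElement]
  exact QuotientGroup.eq_one_iff _

/-- the centralizer of `γ_{a+1}/γ_{a+3}` -/
def Cc (S : Type*) [Group S] (a : ℕ) : Subgroup S :=
  ⨅ g : ↥((⊤ : Subgroup S).lowerCentralSeries a),
    centMod ((⊤ : Subgroup S).lowerCentralSeries (a + 2)) (g : S)

theorem mem_Cc {a : ℕ} {u : S} :
    u ∈ Cc S a ↔ ∀ g ∈ (⊤ : Subgroup S).lowerCentralSeries a,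
      ⁅u, g⁆ ∈ (⊤ : Subgroup S).lowerCentralSeries (a + 2) := by
  unfold Cc
  rw [Subgroup.mem_iInf]
  constructor
  · intro h g hg
    exact mem_centMod.1 (h ⟨g, hg⟩)
  · intro h g
    exact mem_centMod.2 (h g g.2)

theorem exists_not_mem_of_card [Finite S] (p n r : ℕ) (hp : 0 < p) (hcard : Nat.card S = p ^ n)
    (hr : r < p) (K : ℕ → Subgroup S) (hK : ∀ a < r, Nat.card (K a) * p ≤ p ^ n) :
    ∃ s : S, ∀ a < r, s ∉ K a := by
  classical
  by_contra hcon
  push Not at hcon
  have := Fintype.ofFinite S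
  have hsub : (Finset.univ : Finset S) ⊆
      (Finset.range r).biUnion (fun a => (Finset.univ.filter (fun s => s ∈ K a))) := by
    intro s _
    obtain ⟨a, ha, hs⟩ := hcon s
    rw [Finset.mem_biUnion]
    exact ⟨a, Finset.mem_range.2 ha, Finset.mem_filter.2 ⟨Finset.mem_univ _, hs⟩⟩
  have h1 := Finset.card_le_card hsub
  have h2 := Finset.card_biUnion_le (s := Finset.range r)
    (t := fun a => (Finset.univ.filter (fun s => s ∈ K a)))
  have h3 : ∀ a ∈ Finset.range r,
      (Finset.univ.filter (fun s => s ∈ K a)).card * p ≤ p ^ n := by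
    intro a ha
    have : Nat.card (K a) = (Finset.univ.filter (fun s => s ∈ K a)).card :=
      Nat.subtype_card _ (by simp)
    rw [← this]; exact hK a (Finset.mem_range.1 ha)
  have h4 := Finset.sum_le_card_nsmul (Finset.range r)
    (fun a => (Finset.univ.filter (fun s => s ∈ K a)).card * p) (p ^ n) h3
  rw [← Finset.sum_mul, Finset.card_range, smul_eq_mul] at h4
  have h5 : Nat.card S * p ≤ r * p ^ n := by
    rw [Nat.card_eq_fintype_card, ← Finset.card_univ]
    exact le_trans (Nat.mul_le_mul_right p (le_trans h1 h2)) h4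
  rw [hcard] at h5
  have hpos : 0 < p ^ n := pow_pos hp n
  have h6 : r * p ^ n < p * p ^ n := Nat.mul_lt_mul_of_pos_right hr hpos
  have h7 : p ^ n * p = p * p ^ n := mul_comm _ _
  omega

end general

variable {S : Type*} [Group S] [Finite S] {p : ℕ} [hp : Fact p.Prime] {n : ℕ}

theorem IsMC.Cc_ne_top (h : IsMC p n S) (a : ℕ) (ha : a + 3 ≤ n) : Cc S a ≠ ⊤ := by
  intro htop
  have h1 : (⊤ : Subgroup S).lowerCentralSeries (a + 1) ≤
      (⊤ : Subgroup S).lowerCentralSeries (a + 2) := by
    rw [Subgroup.lowerCentralSeries_succ, Subgroup.commutator_le]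
    intro g hg u _
    have hu : u ∈ Cc S a := by rw [htop]; exact Subgroup.mem_top u
    have := mem_Cc.1 hu g hg
    rw [← commutatorElement_inv]
    exact Subgroup.inv_mem _ this
  exact absurd h1 (not_le_of_gt (h.strict (a + 1) (by omega)))

theorem IsMC.card_le_of_ne_top (h : IsMC p n S) (K : Subgroup S) (hK : K ≠ ⊤) :
    Nat.card K * p ≤ p ^ n := by
  obtain ⟨e, he⟩ := (h.pgrp.to_subgroup K).exists_card_eq
  have hdvd : Nat.card K ∣ Nat.card S := Subgroup.card_subgroup_dvd_card K
  rw [h.card, he] at hdvd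
  have hle : e ≤ n := (Nat.pow_dvd_pow_iff_le_right hp.out.one_lt).1 hdvd
  have hne : e ≠ n := by
    intro hen
    apply hK
    apply Subgroup.eq_top_of_card_eq
    rw [he, hen, h.card]
  rw [he, ← pow_succ]
  exact Nat.pow_le_pow_right hp.out.pos (by omega)

/-- existence of a uniform element `s`: it does not centralize `S/γ₃`, and `s^p` is far down
the lower central series. -/
theorem IsMC.exists_uniform (h : IsMC p n S) :
    ∃ s s₁ : S, ⁅s₁, s⁆ ∉ (⊤ : Subgroup S).lowerCentralSeries 2 ∧
      ∀ t : S, ∀ j ≤ p, ⁅t, s ^ p⁆ ∈ (⊤ : Subgroup S).lowerCentralSeries j := by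
  have hn := h.three
  have hp2 := hp.out.two_le
  obtain ⟨r, hr⟩ : ∃ r, r = min (p - 1) (n - 2) := ⟨_, rfl⟩
  have hrp1 : r ≤ p - 1 := hr ▸ min_le_left _ _
  have hrn : r ≤ n - 2 := hr ▸ min_le_right _ _
  have hr0 : 0 < r := by
    rw [hr]; exact lt_min (by omega) (by omega)
  obtain ⟨s, hs⟩ := exists_not_mem_of_card p n r hp.out.pos h.card (by omega) (fun a => Cc S a)
    (fun a ha => h.card_le_of_ne_top _ (h.Cc_ne_top a (by omega)))
  have h0 := hs 0 hr0
  rw [mem_Cc] at h0
  push Not at h0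
  obtain ⟨s₁, -, hs₁⟩ := h0
  have hs₁' : ⁅s₁, s⁆ ∉ (⊤ : Subgroup S).lowerCentralSeries 2 := by
    intro hc
    apply hs₁
    rw [← commutatorElement_inv]
    exact Subgroup.inv_mem _ hc
  have hpow : ∀ a, 1 ≤ a → a ≤ r → s ^ p ∈ (⊤ : Subgroup S).lowerCentralSeries a := by
    intro a ha1
    induction a, ha1 using Nat.le_induction with
    | base => intro _; exact h.pow_mem_one s
    | succ a ha1 ih =>
      intro har
      have hsa := ih (by omega)
      by_contra hcon
      apply hs a (by omega)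
      rw [mem_Cc]
      obtain ⟨E, hE⟩ : ∃ E : Subgroup S, E = (⊤ : Subgroup S).lowerCentralSeries a ⊓
        centMod ((⊤ : Subgroup S).lowerCentralSeries (a + 2)) s := ⟨_, rfl⟩
      have hE1 : (⊤ : Subgroup S).lowerCentralSeries (a + 1) ≤ E := by
        rw [hE]
        apply le_inf (Subgroup.lowerCentralSeries_antitone _ (Nat.le_succ a))
        intro g hg
        rw [mem_centMod]
        have : ⁅g, s⁆ ∈ ⁅(⊤ : Subgroup S).lowerCentralSeries (a + 1), (⊤ : Subgroup S)⁆ :=
          Subgroup.commutator_mem_commutator hg (Subgroup.mem_top s)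
        rwa [← Subgroup.lowerCentralSeries_succ] at this
      have hE2 : E ≤ (⊤ : Subgroup S).lowerCentralSeries a := by rw [hE]; exact inf_le_left
      have hsE : s ^ p ∈ E := by
        rw [hE]
        refine Subgroup.mem_inf.2 ⟨hsa, ?_⟩
        rw [mem_centMod]
        have : ⁅s ^ p, s⁆ = 1 := by
          rw [commutatorElement_eq_one_iff_mul_comm]
          exact ((Commute.refl s).pow_left p).eq
        rw [this]; exact Subgroup.one_mem _
      have hEne : E ≠ (⊤ : Subgroup S).lowerCentralSeries (a + 1) := fun he => hcon (he ▸ hsE)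
      have hEeq : E = (⊤ : Subgroup S).lowerCentralSeries a :=
        eq_of_index_prime (p := p) ((⊤ : Subgroup S).lowerCentralSeries (a + 1)) E
          ((⊤ : Subgroup S).lowerCentralSeries a) hE1 hE2 (h.card_succ a ha1 (by omega)) hEne
      intro g hg
      have hgE : g ∈ E := by rw [hEeq]; exact hg
      rw [hE] at hgE
      have := mem_centMod.1 (Subgroup.mem_inf.1 hgE).2
      rw [← commutatorElement_inv]
      exact Subgroup.inv_mem _ this
  have hsr : s ^ p ∈ (⊤ : Subgroup S).lowerCentralSeries r := hpow r hr0 le_rfl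
  refine ⟨s, s₁, hs₁', ?_⟩
  intro t j hj
  have h1 : ⁅t, s ^ p⁆ ∈ (⊤ : Subgroup S).lowerCentralSeries (r + 1) := by
    rw [Subgroup.lowerCentralSeries_succ]
    have : ⁅s ^ p, t⁆ ∈ ⁅(⊤ : Subgroup S).lowerCentralSeries r, (⊤ : Subgroup S)⁆ :=
      Subgroup.commutator_mem_commutator hsr (Subgroup.mem_top t)
    rw [← commutatorElement_inv]
    exact Subgroup.inv_mem _ this
  rcases le_total (p - 1) (n - 2) with hc | hc
  · have hr' : r = p - 1 := hr.trans (min_eq_left hc)
    exact Subgroup.lowerCentralSeries_antitone _ (by omega) h1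
  · have hr' : r = n - 2 := hr.trans (min_eq_right hc)
    have hb : (⊤ : Subgroup S).lowerCentralSeries (r + 1) = ⊥ := h.lcs_eq_bot (r + 1) (by omega)
    rw [hb, Subgroup.mem_bot] at h1
    rw [h1]; exact Subgroup.one_mem _

end Cfsg.Agent.Lib.Helper7.MaxCls
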