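import Mathlib
import Cfsg.Prelude.Def_CaseTheorems
import Cfsg.Agent.Lib.Helper7.MaxCls3

set_option autoImplicit false

/-! Power structure of `p`-groups of maximal class, and the sectional rank bound. -/

namespace Cfsg.Agent.Lib.Helper7.MaxCls

open scoped commutatorElement

/-- the property `Q(m)`: `p`-th powers of elements of `γ_{i+1}` lie in `γ_{i+m+1}` -/
def QQ (p m : ℕ) (S : Type*) [Group S] : Prop :=
  ∀ i, 1 ≤ i → ∀ x ∈ (⊤ : Subgroup S).lowerCentralSeries i,
    x ^ p ∈ (⊤ : Subgroup S).lowerCentralSeries (i + m)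

variable {S : Type*} [Group S] [Finite S] {p : ℕ} [hp : Fact p.Prime] {n : ℕ}

theorem IsMC.QQ_one (h : IsMC p n S) : QQ p 1 S := by
  intro i hi x hx
  rcases Nat.lt_or_ge i (n - 1) with hlt | hge
  · exact pow_mem_of_card (p := p) ((⊤ : Subgroup S).lowerCentralSeries i)
      ((⊤ : Subgroup S).lowerCentralSeries (i + 1))
      (Subgroup.lowerCentralSeries_antitone _ (Nat.le_succ i)) (h.card_succ i hi (by omega)) x hx
  · have : (⊤ : Subgroup S).lowerCentralSeries i = ⊥ := h.lcs_eq_bot i hge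
    rw [this, Subgroup.mem_bot] at hx
    rw [hx, one_pow]; exact Subgroup.one_mem _

theorem pmm {m : ℕ} (hm1 : 1 ≤ m) (hmp : m + 2 ≤ p) (hQ : QQ p m S) (i : ℕ) (hi : 1 ≤ i) :
    ∀ x ∈ (⊤ : Subgroup S).lowerCentralSeries i, ∀ y ∈ (⊤ : Subgroup S).lowerCentralSeries i,
      ((x * y) ^ p)⁻¹ * x ^ p * y ^ p ∈ (⊤ : Subgroup S).lowerCentralSeries (i + m + 2) := by
  apply pow_mul_mod (p := p) ((⊤ : Subgroup S).lowerCentralSeries i)
    ((⊤ : Subgroup S).lowerCentralSeries (i + m + 2))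
  · have h1 := rel_lcs_le ((⊤ : Subgroup S).lowerCentralSeries i) i (i + i + 1) le_rfl
      (lcs_comm i i) (p - 2)
    have h2 : p - 2 + 1 = p - 1 := by omega
    rw [h2] at h1
    refine le_trans h1 (Subgroup.lowerCentralSeries_antitone _ ?_)
    have h3 : m * (i + 1) ≤ (p - 2) * (i + 1) := Nat.mul_le_mul_right _ (by omega)
    have h4 : m * (i + 1) = m * i + m := by ring
    have h5 : m ≤ m * i := Nat.le_mul_of_pos_right m hi
    omega
  · intro d hd
    have hd1 : d ∈ (⊤ : Subgroup S).lowerCentralSeries (i + i + 1) := lcs_comm i i hd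
    have := hQ (i + i + 1) (by omega) d hd1
    exact Subgroup.lowerCentralSeries_antitone _ (by omega) this

theorem IsMC.QQ_step (h : IsMC p n S) (s s₁ : S)
    (hs : ⁅s₁, s⁆ ∉ (⊤ : Subgroup S).lowerCentralSeries 2)
    (hsp : ∀ t : S, ∀ j ≤ p, ⁅t, s ^ p⁆ ∈ (⊤ : Subgroup S).lowerCentralSeries j)
    {m : ℕ} (hm1 : 1 ≤ m) (hmp : m + 2 ≤ p) (hQ : QQ p m S) : QQ p (m + 1) S := by
  intro i hi
  induction i, hi using Nat.le_induction with
  | base =>
    have hT : ∀ x ∈ (⊤ : Subgroup S).lowerCentralSeries 1,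
        ∀ y ∈ (⊤ : Subgroup S).lowerCentralSeries 1,
        ((x * y) ^ p)⁻¹ * x ^ p * y ^ p ∈ (⊤ : Subgroup S).lowerCentralSeries (1 + (m + 1)) :=
      fun x hx y hy => (Subgroup.lowerCentralSeries_antitone (⊤ : Subgroup S)
        (by omega : 1 + (m + 1) ≤ 1 + m + 2)) (pmm hm1 hmp hQ 1 le_rfl x hx y hy)
    obtain ⟨T, hTmem⟩ : ∃ T : Subgroup S, ∀ x, x ∈ T ↔
        x ∈ (⊤ : Subgroup S).lowerCentralSeries 1 ∧
          x ^ p ∈ (⊤ : Subgroup S).lowerCentralSeries (1 + (m + 1)) :=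
      ⟨powSub p _ _ hT, fun x => Iff.rfl⟩
    suffices hle : (⊤ : Subgroup S).lowerCentralSeries 1 ≤ T by
      intro x hx
      exact ((hTmem x).1 (hle hx)).2
    have hc₀1 : ⁅s₁, s⁆ ∈ (⊤ : Subgroup S).lowerCentralSeries 1 := by
      rw [Subgroup.lowerCentralSeries_succ, Subgroup.lowerCentralSeries_zero]
      exact Subgroup.commutator_mem_commutator (Subgroup.mem_top _) (Subgroup.mem_top _)
    have hgen := exists_zpow_mul (p := p) ((⊤ : Subgroup S).lowerCentralSeries 1)
      ((⊤ : Subgroup S).lowerCentralSeries 2)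
      (Subgroup.lowerCentralSeries_antitone _ (by norm_num))
      (h.card_succ 1 le_rfl (by have := h.three; omega)) ⁅s₁, s⁆ hc₀1 hs
    have e12 : 1 + (m + 1) = 2 + m := by omega
    have hL2T : (⊤ : Subgroup S).lowerCentralSeries 2 ≤ T := by
      intro e he
      rw [hTmem]
      refine ⟨Subgroup.lowerCentralSeries_antitone _ (by norm_num) he, ?_⟩
      have := hQ 2 (by norm_num) e he
      rw [e12]; exact this
    have hc₀T : ⁅s₁, s⁆ ∈ T := by
      rw [hTmem]
      refine ⟨hc₀1, ?_⟩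
      obtain ⟨D, hD⟩ : ∃ D : Subgroup S,
        D = Subgroup.zpowers s ⊔ (⊤ : Subgroup S).lowerCentralSeries 1 := ⟨_, rfl⟩
      have hsD : s ∈ D := by
        rw [hD]
        exact (le_sup_left : Subgroup.zpowers s ≤ _) (Subgroup.mem_zpowers s)
      have hL1D : (⊤ : Subgroup S).lowerCentralSeries 1 ≤ D := by rw [hD]; exact le_sup_right
      have hDD : ⁅D, D⁆ ≤ (⊤ : Subgroup S).lowerCentralSeries 2 := by
        refine comm_le_of_cyclic D ((⊤ : Subgroup S).lowerCentralSeries 1)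
          ((⊤ : Subgroup S).lowerCentralSeries 2) hL1D ?_ s hsD ?_
        · rw [Subgroup.commutator_comm]
          calc ⁅(⊤ : Subgroup S).lowerCentralSeries 1, D⁆
              ≤ ⁅(⊤ : Subgroup S).lowerCentralSeries 1, (⊤ : Subgroup S)⁆ :=
                Subgroup.commutator_mono le_rfl le_top
            _ = (⊤ : Subgroup S).lowerCentralSeries 2 :=
                (Subgroup.lowerCentralSeries_succ _ 1).symm
        · intro d hd
          rw [hD, Subgroup.mem_sup_of_normal_right] at hd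
          obtain ⟨y, hy, z, hz, rfl⟩ := hd
          obtain ⟨a, rfl⟩ := Subgroup.mem_zpowers_iff.1 hy
          exact ⟨a, z, hz, rfl⟩
      have hcl : D.lowerCentralSeries (p - 1) ≤
          (⊤ : Subgroup S).lowerCentralSeries (1 + (m + 1)) := by
        have h1 := rel_lcs_le D 0 2
          (by rw [Subgroup.lowerCentralSeries_zero]; exact le_top) hDD (p - 2)
        have h2 : p - 2 + 1 = p - 1 := by omega
        rw [h2] at h1
        refine le_trans h1 (Subgroup.lowerCentralSeries_antitone _ ?_)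
        omega
      have hdD : ∀ d ∈ ⁅D, D⁆, d ^ p ∈ (⊤ : Subgroup S).lowerCentralSeries (1 + (m + 1)) := by
        intro d hd
        have := hQ 2 (by norm_num) d (hDD hd)
        rw [e12]; exact this
      have hkey := pow_mul_mod (p := p) D ((⊤ : Subgroup S).lowerCentralSeries (1 + (m + 1)))
        hcl hdD ⁅s₁, s⁆ (hL1D hc₀1) s hsD
      have hcs : ⁅s₁, s⁆ * s = s₁ * s * s₁⁻¹ := by rw [commutatorElement_def]; group
      rw [hcs, conj_pow] at hkey
      have hcomm := hsp s₁ (1 + (m + 1)) (by omega)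
      rw [commutatorElement_def] at hcomm
      generalize ⁅s₁, s⁆ ^ p = C at hkey ⊢
      generalize s ^ p = P at hkey hcomm ⊢
      have : C = (s₁ * P * s₁⁻¹ * P⁻¹) * (P * ((s₁ * P * s₁⁻¹)⁻¹ * C * P) * P⁻¹) := by group
      rw [this]
      exact Subgroup.mul_mem _ hcomm (Subgroup.Normal.conj_mem inferInstance _ hkey _)
    intro d hd
    obtain ⟨a, e, he, rfl⟩ := hgen d hd
    exact T.mul_mem (T.zpow_mem hc₀T a) (hL2T he)
  | succ i hi ih =>
    have hT : ∀ x ∈ (⊤ : Subgroup S).lowerCentralSeries (i + 1),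
        ∀ y ∈ (⊤ : Subgroup S).lowerCentralSeries (i + 1),
        ((x * y) ^ p)⁻¹ * x ^ p * y ^ p ∈
          (⊤ : Subgroup S).lowerCentralSeries (i + 1 + (m + 1)) :=
      fun x hx y hy => (Subgroup.lowerCentralSeries_antitone (⊤ : Subgroup S)
        (by omega : i + 1 + (m + 1) ≤ i + 1 + m + 2))
        (pmm hm1 hmp hQ (i + 1) (by omega) x hx y hy)
    obtain ⟨T, hTmem⟩ : ∃ T : Subgroup S, ∀ x, x ∈ T ↔
        x ∈ (⊤ : Subgroup S).lowerCentralSeries (i + 1) ∧
          x ^ p ∈ (⊤ : Subgroup S).lowerCentralSeries (i + 1 + (m + 1)) :=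
      ⟨powSub p _ _ hT, fun x => Iff.rfl⟩
    suffices hle : (⊤ : Subgroup S).lowerCentralSeries (i + 1) ≤ T by
      intro x hx
      exact ((hTmem x).1 (hle hx)).2
    rw [Subgroup.lowerCentralSeries_succ, Subgroup.commutator_le]
    intro y hy t _
    rw [hTmem]
    have hc1 : ⁅y, t⁆ ∈ (⊤ : Subgroup S).lowerCentralSeries (i + 1) := by
      rw [Subgroup.lowerCentralSeries_succ]
      exact Subgroup.commutator_mem_commutator hy (Subgroup.mem_top t)
    refine ⟨hc1, ?_⟩
    have hy' : t * y * t⁻¹ ∈ (⊤ : Subgroup S).lowerCentralSeries i :=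
      Subgroup.Normal.conj_mem inferInstance y hy t
    have hc0 : ⁅y, t⁆ ∈ (⊤ : Subgroup S).lowerCentralSeries i :=
      Subgroup.lowerCentralSeries_antitone _ (Nat.le_succ i) hc1
    have hkey := pmm hm1 hmp hQ i hi ⁅y, t⁆ hc0 (t * y * t⁻¹) hy'
    have hcy : ⁅y, t⁆ * (t * y * t⁻¹) = y := by rw [commutatorElement_def]; group
    rw [hcy, conj_pow] at hkey
    have hyp := ih y hy
    have hcomm : ⁅y ^ p, t⁆ ∈ (⊤ : Subgroup S).lowerCentralSeries (i + (m + 1) + 1) := by
      rw [Subgroup.lowerCentralSeries_succ]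
      exact Subgroup.commutator_mem_commutator hyp (Subgroup.mem_top t)
    have e1 : i + 1 + (m + 1) = i + m + 2 := by omega
    have e2 : i + (m + 1) + 1 = i + m + 2 := by omega
    rw [e1]
    rw [e2, commutatorElement_def] at hcomm
    generalize ⁅y, t⁆ ^ p = C at hkey ⊢
    generalize y ^ p = P at hkey hcomm ⊢
    have : C = (P * (P⁻¹ * C * (t * P * t⁻¹)) * P⁻¹) * (P * t * P⁻¹ * t⁻¹) := by group
    rw [this]
    exact Subgroup.mul_mem _ (Subgroup.Normal.conj_mem inferInstance _ hkey _) hcomm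

theorem IsMC.QQ_all (h : IsMC p n S) : ∀ m, 1 ≤ m → m + 1 ≤ p → QQ p m S := by
  obtain ⟨s, s₁, hs, hsp⟩ := h.exists_uniform
  intro m hm
  induction m, hm using Nat.le_induction with
  | base => intro _; exact h.QQ_one
  | succ m hm ih =>
    intro hmp
    exact h.QQ_step s s₁ hs hsp hm (by omega) (ih (by omega))

omit [Finite S] in
/-- a section of order `p^(k+1)` which is elementary abelian contradicts sectional rank `≤ k` -/
theorem not_sectionalPRankLE (k : ℕ) (H M : Subgroup S) [Finite H] [M.Normal] (hHH : ⁅H, H⁆ ≤ M)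
    (hpow : ∀ x ∈ H, x ^ p ∈ M) (hMH : M ≤ H)
    (hcard : Nat.card H = p ^ (k + 1) * Nat.card M) :
    ¬ Cfsg.SectionalPRankLE p k S := by
  intro hsec
  have hrank := hsec H (M.subgroupOf H)
  have hcomm : ∀ a b : ↥H ⧸ M.subgroupOf H, a * b = b * a := by
    intro a b
    obtain ⟨a, rfl⟩ := QuotientGroup.mk_surjective a
    obtain ⟨b, rfl⟩ := QuotientGroup.mk_surjective b
    rw [← QuotientGroup.mk_mul, ← QuotientGroup.mk_mul, QuotientGroup.eq, Subgroup.mem_subgroupOf]
    have h1 : (((a * b)⁻¹ * (b * a) : ↥H) : S) = ⁅((b⁻¹ : ↥H) : S), ((a⁻¹ : ↥H) : S)⁆ := by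
      rw [commutatorElement_def]
      push_cast
      group
    rw [h1]
    exact hHH (Subgroup.commutator_mem_commutator (b⁻¹).2 (a⁻¹).2)
  have hA := hrank ⊤ ⟨⟨fun a b => Subtype.ext (hcomm a b)⟩⟩ (by
    intro a _
    obtain ⟨a, rfl⟩ := QuotientGroup.mk_surjective a
    rw [← QuotientGroup.mk_pow, QuotientGroup.eq_one_iff, Subgroup.mem_subgroupOf]
    exact hpow a a.2)
  rw [Subgroup.card_top] at hA
  have h1 := Subgroup.card_eq_card_quotient_mul_card_subgroup (M.subgroupOf H)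
  have h2 : Nat.card (M.subgroupOf H) = Nat.card M :=
    Nat.card_congr (Subgroup.subgroupOfEquivOfLe hMH).toEquiv
  rw [h2, hcard] at h1
  have hMpos : 0 < Nat.card M := by
    have : Finite M := Finite.of_injective (Subgroup.inclusion hMH) (Subgroup.inclusion_injective hMH)
    exact Nat.card_pos
  have h3 : p ^ (k + 1) = Nat.card (↥H ⧸ M.subgroupOf H) := Nat.eq_of_mul_eq_mul_right hMpos h1
  rw [← h3] at hA
  have := hp.out.one_lt
  have h4 : p ^ k < p ^ (k + 1) := Nat.pow_lt_pow_right this (Nat.lt_succ_self k)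
  omega

/-- the main theorem: a `p`-group of maximal class of order `p^n`, `n ≥ 2k+1`, `p ≥ k+2`, has a
section which is elementary abelian of rank `k+1`. -/
theorem IsMC.not_sectional (h : IsMC p n S) (k : ℕ) (hk : 1 ≤ k) (hnk : 2 * k + 1 ≤ n)
    (hpk : k + 2 ≤ p) : ¬ Cfsg.SectionalPRankLE p k S := by
  have hn := h.three
  rcases Nat.eq_or_lt_of_le hk with hk1 | hk2
  · -- k = 1
    subst hk1
    apply not_sectionalPRankLE (p := p) 1 ⊤ ((⊤ : Subgroup S).lowerCentralSeries 1)
    · rw [Subgroup.lowerCentralSeries_succ, Subgroup.lowerCentralSeries_zero]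
    · intro x _; exact h.pow_mem_one x
    · exact le_top
    · rw [Subgroup.card_top, h.card, h.card_lcs 1 le_rfl (by omega), ← pow_add]
      congr 1; omega
  · obtain ⟨k', rfl⟩ : ∃ k', k = k' + 2 := ⟨k - 2, by omega⟩
    have hQ := h.QQ_all (k' + 3) (by omega) (by omega)
    have hlt := h.strict (k' + 1) (by omega)
    obtain ⟨g, hg1, hg2⟩ := SetLike.exists_of_lt hlt
    have hgen := exists_zpow_mul (p := p) ((⊤ : Subgroup S).lowerCentralSeries (k' + 1))
      ((⊤ : Subgroup S).lowerCentralSeries (k' + 1 + 1)) hlt.le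
      (h.card_succ (k' + 1) (by omega) (by omega)) g hg1 hg2
    apply not_sectionalPRankLE (p := p) (k' + 2) ((⊤ : Subgroup S).lowerCentralSeries (k' + 1))
      ((⊤ : Subgroup S).lowerCentralSeries (2 * (k' + 2)))
    · refine comm_le_of_cyclic _ ((⊤ : Subgroup S).lowerCentralSeries (k' + 1 + 1)) _ hlt.le ?_
        g hg1 hgen
      have := lcs_comm (S := S) (k' + 1) (k' + 1 + 1)
      have e : k' + 1 + (k' + 1 + 1) + 1 = 2 * (k' + 2) := by omega
      rw [e] at this
      exact this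
    · intro x hx
      have := hQ (k' + 1) (by omega) x hx
      have e : k' + 1 + (k' + 3) = 2 * (k' + 2) := by omega
      rw [e] at this
      exact this
    · exact Subgroup.lowerCentralSeries_antitone _ (by omega)
    · rw [h.card_lcs (k' + 1) (by omega) (by omega), h.card_lcs (2 * (k' + 2)) (by omega) (by omega),
        ← pow_add]
      congr 1; omega

end Cfsg.Agent.Lib.Helper7.MaxCls
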