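import Mathlib
import Cfsg.Agent.Lib.Helper7.McLU1
import Cfsg.Agent.Lib.Helper7.McLB8
import Cfsg.Agent.Lib.Helper7.GraphIso
import Cfsg.Agent.Lib.Helper7.U43N5
import Cfsg.Agent.Lib.Helper1.U43C
import Cfsg.Agent.S0283
import Cfsg.Agent.S0279

/-!
# The point stabilizer of the McLaughlin group is `PSU₄(3)`: the model
-/

set_option autoImplicit false
set_option maxRecDepth 100000

namespace Cfsg.Agent.Lib.Helper7.McLU

open Cfsg Cfsg.Agent.Lib.Helper1 Cfsg.Agent.Lib.Helper1.MatCode
open Cfsg.Agent.Lib.Helper6.TC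
open Cfsg.Agent.Lib.Helper7.McLB (M0 phi LT px xL)
open Cfsg.Agent.Lib.Helper1.U43 (Gm F9c pt2160 D2160 GG Mat)
open Cfsg.Agent.Lib.Helper7.U43N (P0 τ)

/-! ### the checks -/

/-- the loop -/
noncomputable def allN (f : ℕ → Bool) (n : ℕ) : Bool :=
  Nat.rec (motive := fun _ => Bool) true (fun k r => Bool.rec false r (f k)) n

theorem allN_spec {f : ℕ → Bool} {n : ℕ} (h : allN f n = true) : ∀ i < n, f i = true := by
  induction n with
  | zero => intro i hi; omega
  | succ k ih =>
    have h' : Bool.rec false (allN f k) (f k) = true := h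
    intro i hi
    cases hfk : f k with
    | false => rw [hfk] at h'; exact absurd h' Bool.false_ne_true
    | true =>
      rw [hfk] at h'
      rcases Nat.lt_succ_iff_lt_or_eq.mp hi with hlt | rfl
      · exact ih h' i hlt
      · exact hfk

/-- membership in the relation -/
def Rm (x j : ℕ) : Bool := Nat.beq (Nat.land (Nat.shiftRight (RL.getD x 0) j) 1) 1

/-- the words have letters below 4 and give the tables -/
theorem chk_words : (w1L.all fun c => Nat.blt c 4) = true ∧ (w2L.all fun c => Nat.blt c 4) = true ∧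
    allN (fun x => Nat.beq (wapp px w1L x) (T1L.getD x 0) && Nat.beq (wapp px w2L x) (T2L.getD x 0) &&
      Nat.blt (T1L.getD x 0) 275 && Nat.blt (T2L.getD x 0) 275) 275 = true := by
  decide +kernel

theorem chk_U : allN (fun x => Nat.beq (wapp px (UL.getD x []) 0) x &&
    (UL.getD x []).all fun c => Nat.blt c 4) 275 = true := by
  decide +kernel

/-- the relation is invariant under the two pairs -/
theorem chk_inv1 : allN (fun x => allN (fun j =>
    !(Rm x j) || Rm (T1L.getD x 0) (D2160.pi 0 j)) 2160) 275 = true := by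
  decide +kernel

theorem chk_inv2 : allN (fun x => allN (fun j =>
    !(Rm x j) || Rm (T2L.getD x 0) (D2160.pi 1 j)) 2160) 275 = true := by
  decide +kernel

theorem chk_p0 : Rm 1 19 = true ∧ Rm 1 2011 = false ∧ D2160.pi 1 944 = 19 ∧ D2160.pi 0 1064 = 944 ∧
    D2160.pi 1 1064 = 1602 ∧ D2160.pi 0 1602 = 2011 := by
  decide +kernel

end Cfsg.Agent.Lib.Helper7.McLU
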