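import Mathlib
import Cfsg.Agent.Lib.Helper7.McLU2

/-!
# The point stabilizer of the McLaughlin group is `PSU₄(3)`: the isomorphism for the model
-/

set_option autoImplicit false
set_option maxRecDepth 100000

namespace Cfsg.Agent.Lib.Helper7.McLU

open Cfsg Cfsg.Agent.Lib.Helper1 Cfsg.Agent.Lib.Helper1.MatCode
open Cfsg.Agent.Lib.Helper6.TC
open Cfsg.Agent.Lib.Helper7.McLB (M0 phi LT px xL)
open Cfsg.Agent.Lib.Helper1.U43 (Gm F9c pt2160 D2160 GG Mat)
open Cfsg.Agent.Lib.Helper7.U43N (P0 τ)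

/-! ### the stabilizer of the first point -/

/-- the stabilizer of the first point -/
def K0 : Subgroup M0 where
  carrier := {g | phi g 0 = 0}
  one_mem' := by simp
  mul_mem' := by
    intro a b ha hb
    show phi (a * b) 0 = 0
    rw [map_mul, Equiv.Perm.mul_apply]
    rw [show phi b 0 = 0 from hb]
    exact ha
  inv_mem' := by
    intro a ha
    show phi a⁻¹ 0 = 0
    rw [map_inv, Equiv.Perm.inv_eq_iff_eq]
    exact (show phi a 0 = 0 from ha).symm

theorem mem_K0 (g : M0) : g ∈ K0 ↔ phi g 0 = 0 := Iff.rfl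

/-- the action of the stabilizer of the two vectors on the indices -/
noncomputable def act275 : MulAction M0 (Fin 275) := MulAction.compHom (Fin 275) phi

theorem lt4_of_all {w : List ℕ} (h : (w.all fun c => Nat.blt c 4) = true) : ∀ c ∈ w, c < 4 := by
  intro c hc
  rw [List.all_eq_true] at h
  have := h c hc
  exact Nat.blt_eq.mp this

/-- the inverse of the element of a word acts by the table -/
theorem phi_inv_wordProd (w : List ℕ) (hw : (w.all fun c => Nat.blt c 4) = true) (x : Fin 275) :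
    (phi (wordProd LT w)⁻¹ x).val = wapp px w x.val := by
  rw [map_inv]
  exact Cfsg.Agent.Lib.Helper7.McLB.phi_inv_word w (lt4_of_all hw) x

theorem exists_move (i : Fin 275) : ∃ g : M0, phi g 0 = i := by
  have h := allN_spec chk_U i.val i.isLt
  rw [Bool.and_eq_true] at h
  refine ⟨(wordProd LT (UL.getD i.val []))⁻¹, ?_⟩
  apply Fin.ext
  rw [phi_inv_wordProd _ h.2]
  exact Nat.eq_of_beq_eq_true h.1

theorem card_K0 : Nat.card K0 = 3265920 := by
  letI := act275
  have horb : MulAction.orbit M0 (0 : Fin 275) = Set.univ := by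
    ext i
    simp only [Set.mem_univ, iff_true]
    obtain ⟨g, hg⟩ := exists_move i
    exact ⟨g, hg⟩
  have hst : MulAction.stabilizer M0 (0 : Fin 275) = K0 := by
    ext g
    rfl
  have h1 := MulAction.index_stabilizer M0 (0 : Fin 275)
  rw [horb, hst, Set.ncard_univ, Nat.card_eq_fintype_card, Fintype.card_fin] at h1
  have h2 := Subgroup.card_mul_index K0
  rw [h1, Cfsg.Agent.Lib.Helper7.McLB.card_M0] at h2
  omega

instance : Finite K0 := Nat.finite_of_card_ne_zero (by rw [card_K0]; norm_num)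

/-- the action of the stabilizer of the point on the indices -/
noncomputable instance actK0 : MulAction K0 (Fin 275) :=
  MulAction.compHom (Fin 275) (phi.comp K0.subtype)

theorem smul_K0 (a : K0) (x : Fin 275) : a • x = phi a.1 x := rfl

/-! ### the two elements -/

theorem T_spec (x : ℕ) (hx : x < 275) :
    wapp px w1L x = T1L.getD x 0 ∧ wapp px w2L x = T2L.getD x 0 ∧ T1L.getD x 0 < 275 ∧
      T2L.getD x 0 < 275 := by
  have h := allN_spec chk_words.2.2 x hx
  simp only [Bool.and_eq_true] at h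
  exact ⟨Nat.eq_of_beq_eq_true h.1.1.1, Nat.eq_of_beq_eq_true h.1.1.2, Nat.blt_eq.mp h.1.2,
    Nat.blt_eq.mp h.2⟩

theorem T_zero : T1L.getD 0 0 = 0 ∧ T2L.getD 0 0 = 0 := by decide +kernel

/-- the two elements -/
noncomputable def a1 : K0 := ⟨(wordProd LT w1L)⁻¹, by
  rw [mem_K0]
  apply Fin.ext
  rw [phi_inv_wordProd _ chk_words.1]
  exact ((T_spec 0 (by norm_num)).1).trans T_zero.1⟩

noncomputable def a2 : K0 := ⟨(wordProd LT w2L)⁻¹, by
  rw [mem_K0]
  apply Fin.ext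
  rw [phi_inv_wordProd _ chk_words.2.1]
  exact ((T_spec 0 (by norm_num)).2.1).trans T_zero.2⟩

theorem a1_smul (x : Fin 275) : (a1 • x).val = T1L.getD x.val 0 := by
  rw [smul_K0]
  show (phi (wordProd LT w1L)⁻¹ x).val = _
  rw [phi_inv_wordProd _ chk_words.1, (T_spec x.val x.isLt).1]

theorem a2_smul (x : Fin 275) : (a2 • x).val = T2L.getD x.val 0 := by
  rw [smul_K0]
  show (phi (wordProd LT w2L)⁻¹ x).val = _
  rw [phi_inv_wordProd _ chk_words.2.1, (T_spec x.val x.isLt).2.1]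

/-! ### the unitary side -/

theorem card_center_Gm : Nat.card (Subgroup.center Gm) = 4 := by
  have h := Cfsg.Agent.S0279.result (F := F9c) (q := 3) Cfsg.Agent.Lib.Helper1.U43.F9c.card 4
    (by norm_num)
  rw [h]
  decide

theorem card_P0 : Nat.card P0 = 3265920 := by
  have h := Subgroup.card_eq_card_quotient_mul_card_subgroup (Subgroup.center Gm)
  rw [Cfsg.Agent.Lib.Helper1.U43.card_Gm, card_center_Gm] at h
  have h' : Nat.card P0 = Nat.card (Gm ⧸ Subgroup.center Gm) := rfl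
  omega

instance simple_P0 : IsSimpleGroup P0 :=
  Cfsg.Agent.S0283.result (F := F9c) (q := 3) Cfsg.Agent.Lib.Helper1.U43.F9c.card 4 (by norm_num)
    (by omega)

theorem closure_gens : Subgroup.closure {Cfsg.Agent.Lib.Helper1.U43.gA,
    Cfsg.Agent.Lib.Helper1.U43.gB} = (⊤ : Subgroup Gm) := by
  rw [← Cfsg.Agent.Lib.Helper1.U43.hgen]
  congr 1
  ext g
  constructor
  · rintro (rfl | rfl)
    · exact ⟨0, by norm_num, rfl⟩
    · exact ⟨1, by norm_num, rfl⟩
  · rintro ⟨i, hi, rfl⟩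
    interval_cases i
    · left; rfl
    · right; rfl

/-! ### the relation -/

/-- the relation -/
def Rel : Set (Fin 275 × Mat) :=
  {p | ∃ j < 2160, Rm p.1.val j = true ∧ p.2 = pt2160 j}

theorem Rel_finite : Rel.Finite := by
  apply Set.Finite.subset (Set.finite_range
    (fun q : Fin 275 × Fin 2160 => ((q.1, pt2160 q.2.val) : Fin 275 × Mat)))
  rintro ⟨x, M⟩ ⟨j, hj, -, rfl⟩
  exact ⟨(x, ⟨j, hj⟩), rfl⟩

theorem gA_smul (j : ℕ) (hj : j < 2160) :
    Cfsg.Agent.Lib.Helper1.U43.gA • pt2160 j = pt2160 (D2160.pi 0 j) :=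
  Cfsg.Agent.Lib.Helper1.U43.pi_act2160 0 (by decide) j hj

theorem gB_smul (j : ℕ) (hj : j < 2160) :
    Cfsg.Agent.Lib.Helper1.U43.gB • pt2160 j = pt2160 (D2160.pi 1 j) :=
  Cfsg.Agent.Lib.Helper1.U43.pi_act2160 1 (by decide) j hj

theorem pi_lt (i j : ℕ) (hi : i < 2) (hj : j < 2160) : D2160.pi i j < 2160 :=
  Cfsg.Agent.Lib.Helper1.StemSA.pi_lt D2160 Cfsg.Agent.Lib.Helper1.U43.chk_struct2160 i j hi hj

theorem Rel_inv1 : ∀ p ∈ Rel, (a1 • p.1, Cfsg.Agent.Lib.Helper1.U43.gA • p.2) ∈ Rel := by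
  rintro ⟨x, M⟩ ⟨j, hj, hR, rfl⟩
  refine ⟨D2160.pi 0 j, pi_lt 0 j (by norm_num) hj, ?_, gA_smul j hj⟩
  have h := allN_spec (allN_spec chk_inv1 x.val x.isLt) j hj
  show Rm (a1 • x).val (D2160.pi 0 j) = true
  rw [a1_smul]
  have hR' : Rm x.val j = true := hR
  rw [hR'] at h
  simpa using h

theorem Rel_inv2 : ∀ p ∈ Rel, (a2 • p.1, Cfsg.Agent.Lib.Helper1.U43.gB • p.2) ∈ Rel := by
  rintro ⟨x, M⟩ ⟨j, hj, hR, rfl⟩
  refine ⟨D2160.pi 1 j, pi_lt 1 j (by norm_num) hj, ?_, gB_smul j hj⟩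
  have h := allN_spec (allN_spec chk_inv2 x.val x.isLt) j hj
  show Rm (a2 • x).val (D2160.pi 1 j) = true
  rw [a2_smul]
  have hR' : Rm x.val j = true := hR
  rw [hR'] at h
  simpa using h

theorem comm_smul : (Cfsg.Agent.Lib.Helper1.U43.gA * Cfsg.Agent.Lib.Helper1.U43.gB *
    (Cfsg.Agent.Lib.Helper1.U43.gA)⁻¹ * (Cfsg.Agent.Lib.Helper1.U43.gB)⁻¹) • pt2160 19 =
      pt2160 2011 := by
  obtain ⟨-, -, e1, e2, e3, e4⟩ := chk_p0
  have h1 : (Cfsg.Agent.Lib.Helper1.U43.gB)⁻¹ • pt2160 19 = pt2160 944 := by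
    rw [inv_smul_eq_iff, gB_smul 944 (by norm_num), e1]
  have h2 : (Cfsg.Agent.Lib.Helper1.U43.gA)⁻¹ • pt2160 944 = pt2160 1064 := by
    rw [inv_smul_eq_iff, gA_smul 1064 (by norm_num), e2]
  rw [mul_smul, mul_smul, mul_smul, h1, h2, gB_smul 1064 (by norm_num), e3,
    gA_smul 1602 (by norm_num), e4]

/-- the stabilizer of the point is the projective special unitary group -/
theorem nonempty_K0_equiv : Nonempty (K0 ≃* P0) := by
  apply Cfsg.Agent.Lib.Helper7.GraphIso.nonempty_mulEquiv (K := K0) (G := Gm) (Γ := P0)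
    (X := Fin 275) (Y := Mat)
    (by rw [card_K0, card_P0]) τ Cfsg.Agent.Lib.Helper7.U43N.τ_surjective
    (by rw [Cfsg.Agent.Lib.Helper7.U43N.τ_ker]) a1 a2 Cfsg.Agent.Lib.Helper1.U43.gA
    Cfsg.Agent.Lib.Helper1.U43.gB closure_gens Rel Rel_finite Rel_inv1 Rel_inv2
    ((⟨1, by norm_num⟩ : Fin 275), pt2160 19)
  · exact ⟨19, by norm_num, chk_p0.1, rfl⟩
  · rintro ⟨j, hj, hR, e⟩
    have e' : pt2160 2011 = pt2160 j := by
      rw [← comm_smul]
      exact e
    have hj' := Cfsg.Agent.Lib.Helper1.U43.pt2160_inj 2011 (by norm_num) j hj e'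
    subst hj'
    have h2 : Rm 1 2011 = true := hR
    rw [chk_p0.2.1] at h2
    exact absurd h2 (by decide)

end Cfsg.Agent.Lib.Helper7.McLU
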