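import Mathlib
import Cfsg.Agent.Lib.Helper7.McLU3
import Cfsg.Agent.Lib.Helper1.LeechEnum11
import Cfsg.Agent.Lib.Helper1.ConwayOrd2

/-!
# The point stabilizer of the McLaughlin group is `PSU₄(3)`: all triples of vectors
-/

set_option autoImplicit false
set_option maxRecDepth 100000

namespace Cfsg.Agent.Lib.Helper7.McLU

open Cfsg MulAction Cfsg.Agent.Lib.Helper1 Cfsg.Agent.Lib.Helper1.LeechEnum
  Cfsg.Agent.Lib.Helper1.LeechConn Cfsg.Agent.Lib.Helper1.LeechAut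
  Cfsg.Agent.Lib.Helper1.LeechCross
open Cfsg.Agent.Lib.Helper7.McLB (M0 phi xL D0L OmL CC)
open Cfsg.Agent.Lib.Helper7.U43N (P0)

/-- the stabilizer of the three standard vectors -/
def S3 : Subgroup Co0 :=
  stabilizer Co0 D0L ⊓ stabilizer Co0 Cfsg.Spor.leechU ⊓ stabilizer Co0 (xL 0)

theorem mem_S3 (g : Co0) : g ∈ S3 ↔ g ∈ M0 ∧ g • xL 0 = xL 0 := by
  unfold S3 M0
  rw [Subgroup.mem_inf, mem_stabilizer_iff]

/-- the stabilizer of the three standard vectors is the stabilizer of the first point -/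
noncomputable def equivK0 : S3 ≃* K0 where
  toFun s := ⟨⟨s.1, ((mem_S3 s.1).1 s.2).1⟩, by
    rw [mem_K0, Cfsg.Agent.Lib.Helper7.McLB.phi_eq_iff]
    exact ((mem_S3 s.1).1 s.2).2⟩
  invFun k := ⟨k.1.1, (mem_S3 k.1.1).2 ⟨k.1.2, by
    have := (mem_K0 k.1).1 k.2
    rwa [Cfsg.Agent.Lib.Helper7.McLB.phi_eq_iff] at this⟩⟩
  left_inv s := rfl
  right_inv k := rfl
  map_mul' a b := rfl

theorem nonempty_S3_equiv : Nonempty (S3 ≃* P0) := by
  obtain ⟨e⟩ := nonempty_K0_equiv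
  exact ⟨equivK0.trans e⟩

/-- all triples -/
theorem main (u v x : leechLattice) (hu : sqNorm (u : GolayPt → ℤ) = 48)
    (hv : sqNorm (v : GolayPt → ℤ) = 32 ∧ sqNorm ((u - v) : GolayPt → ℤ) = 32)
    (hx : sqNorm (x : GolayPt → ℤ) = 32 ∧ sqNorm ((u - x) : GolayPt → ℤ) = 32 ∧
      dotInt (v : GolayPt → ℤ) (x : GolayPt → ℤ) = 16) :
    Nonempty (↥(stabilizer Co0 u ⊓ stabilizer Co0 v ⊓ stabilizer Co0 x) ≃* P0) := by
  obtain ⟨h, hh1, hh2⟩ := std_pair_A u v hu hv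
  have e1 : h • u = D0L := Subtype.ext hh1
  have e2 : h • v = Cfsg.Spor.leechU := Subtype.ext hh2
  -- the image of the third vector is one of the 275
  have hmem : h • x ∈ OmL := by
    refine ⟨(smul_norm h x).trans hx.1, ?_, ?_⟩
    · have n1 : sqNorm (((h • u : leechLattice) : GolayPt → ℤ) -
          ((h • x : leechLattice) : GolayPt → ℤ)) = 32 := by
        rw [← coe_sub', ← smul_sub, smul_norm]
        exact hx.2.1
      rw [sqNorm_sub, smul_norm, smul_norm, hu, hx.1, hh1] at n1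
      omega
    · have := smul_dot h v x
      rw [hh2] at this
      exact this.trans hx.2.2
  obtain ⟨i, hi⟩ := Cfsg.Agent.Lib.Helper7.McLB.exists_index (h • x) hmem
  obtain ⟨m, hm⟩ := exists_move i
  have hm' : m.1 • xL 0 = xL i := (Cfsg.Agent.Lib.Helper7.McLB.phi_eq_iff m 0 i).1 hm
  obtain ⟨m1, m2⟩ := (Cfsg.Agent.Lib.Helper7.McLB.mem_M0 m.1).1 m.2
  set g : Co0 := m.1⁻¹ * h with hg
  have g1 : g • u = D0L := by
    rw [hg, mul_smul, e1, inv_smul_eq_iff, m1]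
  have g2 : g • v = Cfsg.Spor.leechU := by
    rw [hg, mul_smul, e2, inv_smul_eq_iff, m2]
  have g3 : g • x = xL 0 := by
    rw [hg, mul_smul, ← hi, inv_smul_eq_iff, hm']
  have hmap := Cfsg.Agent.Lib.Helper1.ConwayOrd.map_conj_stab3 g u v x
  rw [g1, g2, g3] at hmap
  obtain ⟨e⟩ := nonempty_S3_equiv
  have eq1 := (stabilizer Co0 u ⊓ stabilizer Co0 v ⊓ stabilizer Co0 x).equivMapOfInjective
    (MulAut.conj g).toMonoidHom (MulAut.conj g).injective
  exact ⟨(eq1.trans (MulEquiv.subgroupCongr hmap)).trans e⟩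

/-- every field of order 9 -/
theorem main_field (u v x : leechLattice) (hu : sqNorm (u : GolayPt → ℤ) = 48)
    (hv : sqNorm (v : GolayPt → ℤ) = 32 ∧ sqNorm ((u - v) : GolayPt → ℤ) = 32)
    (hx : sqNorm (x : GolayPt → ℤ) = 32 ∧ sqNorm ((u - x) : GolayPt → ℤ) = 32 ∧
      dotInt (v : GolayPt → ℤ) (x : GolayPt → ℤ) = 16)
    (F : Type) [Field F] [Fintype F] (hF : Fintype.card F = 9) :
    Nonempty (↥(stabilizer Co0 u ⊓ stabilizer Co0 v ⊓ stabilizer Co0 x) ≃* Cfsg.PSU 4 F 3) := by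
  obtain ⟨e⟩ := main u v x hu hv hx
  have e9 : F ≃+* Cfsg.Agent.Lib.Helper1.U43.F9c :=
    FiniteField.ringEquivOfCardEq (by rw [hF]; rfl)
  exact ⟨e.trans (Cfsg.Agent.Lib.Helper1.SUCongr.psuCongr e9).symm⟩

end Cfsg.Agent.Lib.Helper7.McLU
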