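import Mathlib

/-!
Maximal element orders of classical groups (S2264, S2265): reverse-polynomial toolkit.
-/

namespace Cfsg.Agent.Lib.Meo

open Polynomial

section Rev

variable {F : Type*} [Field F]

theorem natDegree_reverse_of {f : F[X]} (h0 : f.coeff 0 ≠ 0) :
    f.reverse.natDegree = f.natDegree := by
  have h1 : f.natTrailingDegree = 0 := natTrailingDegree_eq_zero.mpr (Or.inr h0)
  rw [reverse_natDegree, h1, Nat.sub_zero]

theorem rev_rev {f : F[X]} (h0 : f.coeff 0 ≠ 0) : f.reverse.reverse = f := by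
  have h2 := natDegree_reverse_of h0
  have h3 : f.reverse.reverse = reflect f.reverse.natDegree f.reverse := rfl
  rw [h3, h2]
  exact reflect_reflect

theorem coeff_zero_rev_ne {f : F[X]} (hf : f ≠ 0) : f.reverse.coeff 0 ≠ 0 := by
  rw [coeff_zero_reverse]
  exact leadingCoeff_ne_zero.mpr hf

theorem rev_one : (1 : F[X]).reverse = 1 := by
  have : (1 : F[X]) = C 1 := by simp
  rw [this, reverse_C]

theorem rev_X : (X : F[X]).reverse = 1 := by
  have : (X : F[X]) = 1 * X := by simp
  rw [this, reverse_mul_X, rev_one]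

theorem rev_pow (f : F[X]) (n : ℕ) : (f ^ n).reverse = f.reverse ^ n := by
  induction n with
  | zero => simp [rev_one]
  | succ n ih => rw [pow_succ, reverse_mul_of_domain, ih, pow_succ]

theorem rev_dvd {f g : F[X]} (h : f ∣ g) : f.reverse ∣ g.reverse := by
  obtain ⟨c, rfl⟩ := h
  rw [reverse_mul_of_domain]
  exact dvd_mul_right _ _

theorem coeff_zero_ne_of_dvd {f g : F[X]} (h : f ∣ g) (hg : g.coeff 0 ≠ 0) : f.coeff 0 ≠ 0 := by
  obtain ⟨c, rfl⟩ := h
  rw [mul_coeff_zero] at hg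
  exact left_ne_zero_of_mul hg

theorem ne_zero_of_coeff_zero_ne {f : F[X]} (h : f.coeff 0 ≠ 0) : f ≠ 0 := by
  rintro rfl
  simp at h

theorem irreducible_rev {f : F[X]} (hf : Irreducible f) (h0 : f.coeff 0 ≠ 0) :
    Irreducible f.reverse := by
  have hdeg := natDegree_reverse_of h0
  have hpos : 0 < f.natDegree := hf.natDegree_pos
  refine ⟨?_, ?_⟩
  · intro hu
    have := natDegree_eq_zero_of_isUnit hu
    omega
  · intro a b hab
    have hr0 : f.reverse.coeff 0 ≠ 0 := coeff_zero_rev_ne hf.ne_zero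
    have ha0 : a.coeff 0 ≠ 0 := coeff_zero_ne_of_dvd ⟨b, hab⟩ hr0
    have hb0 : b.coeff 0 ≠ 0 := coeff_zero_ne_of_dvd ⟨a, by rw [hab, mul_comm]⟩ hr0
    have h1 : f = a.reverse * b.reverse := by
      rw [← reverse_mul_of_domain, ← hab, rev_rev h0]
    rcases hf.isUnit_or_isUnit h1 with hu | hu
    · left
      have h2 := natDegree_eq_zero_of_isUnit hu
      rw [natDegree_reverse_of ha0] at h2
      rw [eq_C_of_natDegree_eq_zero h2]
      have : a.coeff 0 ≠ 0 := ha0
      exact isUnit_C.mpr (isUnit_iff_ne_zero.mpr this)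
    · right
      have h2 := natDegree_eq_zero_of_isUnit hu
      rw [natDegree_reverse_of hb0] at h2
      rw [eq_C_of_natDegree_eq_zero h2]
      exact isUnit_C.mpr (isUnit_iff_ne_zero.mpr hb0)

/-- Self-reciprocal polynomials with nonzero constant term. -/
def SR (ν : F[X]) : Prop := ν.coeff 0 ≠ 0 ∧ ν ∣ ν.reverse

theorem SR.rev_dvd_self {ν : F[X]} (h : SR ν) : ν.reverse ∣ ν := by
  have hne : ν ≠ 0 := ne_zero_of_coeff_zero_ne h.1
  have h1 : ν.reverse ≠ 0 := by rwa [Ne, reverse_eq_zero]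
  have h2 : Associated ν ν.reverse :=
    associated_of_dvd_of_natDegree_le h.2 h1 (natDegree_reverse_of h.1).le
  exact h2.symm.dvd

/-- cancel an "anti-self-reciprocal" factor. -/
theorem SR.of_mul {u h : F[X]} (hs : SR (u * h)) (hu : u.reverse ∣ u) : SR h := by
  have hc : (u * h).coeff 0 ≠ 0 := hs.1
  rw [mul_coeff_zero] at hc
  have hu0 : u.coeff 0 ≠ 0 := left_ne_zero_of_mul hc
  have hh0 : h.coeff 0 ≠ 0 := right_ne_zero_of_mul hc
  refine ⟨hh0, ?_⟩
  have h1 : u * h ∣ u.reverse * h.reverse := by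
    have := hs.2
    rwa [reverse_mul_of_domain] at this
  have h2 : u * h ∣ u * h.reverse := h1.trans (mul_dvd_mul_right hu _)
  exact (mul_dvd_mul_iff_left (ne_zero_of_coeff_zero_ne hu0)).mp h2

theorem rev_X_sub_one : (X - 1 : F[X]).reverse = -(X - 1) := by
  have : (X - 1 : F[X]) = X + C (-1) := by simp [sub_eq_add_neg]
  rw [this, reverse_add_C, rev_X]
  simp

theorem rev_X_add_one : (X + 1 : F[X]).reverse = X + 1 := by
  have : (X + 1 : F[X]) = X + C 1 := by simp
  rw [this, reverse_add_C, rev_X]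
  simp
  ring

end Rev

end Cfsg.Agent.Lib.Meo
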