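import Mathlib
import Cfsg.Agent.Lib.Helper7.MeoRev

/-!
Maximal element orders of classical groups (S2264, S2265): the polynomial core.
-/

namespace Cfsg.Agent.Lib.Meo

open Polynomial

/-- the numeric package (pure plus-type lcm bound), as a hypothesis. -/
def N1stmt : Prop :=
  ∀ (q : ℕ), 2 ≤ q → ∀ P : Multiset ℕ, (∀ a ∈ P, 0 < a) →
    (q - 1) * (P.map (fun a => q ^ a + 1)).lcm ≤ q ^ (P.sum + 1) - 1

/-- the finite field package (self-reciprocal irreducibles), as a hypothesis. -/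
def F3stmt (F : Type*) [Field F] [Fintype F] : Prop :=
  ∀ f : F[X], Irreducible f → f ∣ f.reverse → ¬ f ∣ X - 1 → ¬ f ∣ X + 1 →
    ∃ a : ℕ, 0 < a ∧ f.natDegree = 2 * a ∧ f ∣ X ^ (Fintype.card F ^ a + 1) - 1

section Fin

variable {F : Type*} [Field F] [Fintype F]

theorem irr_dvd_pow_sub_one {f : F[X]} (hf : Irreducible f) (h0 : ¬ f ∣ X) :
    f ∣ X ^ (Fintype.card F ^ f.natDegree - 1) - 1 := by
  have h1 : f ∣ X ^ (Nat.card F) ^ f.natDegree - X :=
    hf.natDegree_dvd_iff_dvd_X_pow_card_pow_sub_X.mp dvd_rfl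
  rw [Nat.card_eq_fintype_card] at h1
  have hpos : 0 < Fintype.card F ^ f.natDegree := pow_pos Fintype.card_pos _
  have h2 : (X : F[X]) ^ (Fintype.card F ^ f.natDegree) - X
      = X * (X ^ (Fintype.card F ^ f.natDegree - 1) - 1) := by
    rw [mul_sub, mul_one, ← pow_succ', Nat.sub_add_cancel hpos]
  rw [h2] at h1
  rcases (hf.prime.dvd_or_dvd h1) with h | h
  · exact absurd h h0
  · exact h

theorem sub_one_pow_card_pow (K t : ℕ) :
    ((X : F[X]) ^ K - 1) ^ (Fintype.card F ^ t) = X ^ (K * Fintype.card F ^ t) - 1 := by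
  induction t with
  | zero => simp
  | succ t ih =>
    rw [pow_succ, pow_mul, ih, ← FiniteField.expand_card]
    simp only [map_sub, map_pow, expand_X, map_one]
    rw [← pow_mul]
    congr 2
    ring

theorem add_one_pow_card_pow (t : ℕ) :
    ((X : F[X]) + 1) ^ (Fintype.card F ^ t) = X ^ (Fintype.card F ^ t) + 1 := by
  induction t with
  | zero => simp
  | succ t ih =>
    rw [pow_succ, pow_mul, ih, ← FiniteField.expand_card]
    simp only [map_add, map_pow, expand_X, map_one]
    rw [← pow_mul, mul_comm]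

/-- The certificate produced by the induction on the self-reciprocal part. -/
def Cert (q : ℕ) (ν : F[X]) : Prop :=
  ∃ (P : Multiset ℕ) (A L E K : ℕ), (∀ a ∈ P, 0 < a) ∧ 0 < L ∧ L ≤ q ^ A ∧ 0 < K ∧
    K ∣ L * (P.map (fun a => q ^ a + 1)).lcm ∧
    ν ∣ (X ^ K - 1) ^ E ∧ 2 * (P.sum + A) + 2 * (E - 1) ≤ ν.natDegree ∧
    (Odd q → 1 ≤ E → 2 ∣ K)

omit [Fintype F] in
theorem cert_of_isUnit (q : ℕ) {ν : F[X]} (hν : IsUnit ν) : Cert q ν := by
  refine ⟨0, 0, 1, 0, 1, by simp, by norm_num, by simp, by norm_num, by simp, ?_, by simp, ?_⟩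
  · simpa using hν.dvd
  · intro _ h; omega

omit [Fintype F] in
theorem pow_sub_one_dvd' {a b : ℕ} (h : a ∣ b) : ((X : F[X]) ^ a - 1) ∣ X ^ b - 1 :=
  dvd_pow_sub_one_of_dvd h

omit [Fintype F] in
theorem Cert.step {q : ℕ} {ν u h : F[X]} {e a N : ℕ} (hν : ν = u ^ e * h) (he : 1 ≤ e)
    (hcop : IsCoprime u h) (hdeg : u.natDegree = 2 * a) (ha : 0 < a) (hN : u ∣ X ^ N - 1)
    (hNpos : 0 < N) (hcase : N = q ^ a + 1 ∨ N = q ^ a - 1) (hNeven : Odd q → 2 ∣ N)
    (hh : h ≠ 0) (hu : u ≠ 0) (hc : Cert q h) : Cert q ν := by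
  obtain ⟨P, A, L, E, K, hP, hL, hLA, hK, hKd, hdvd, hdg, hpar⟩ := hc
  have hK' : 0 < lcm N K := Nat.pos_of_ne_zero (by
    rw [Ne, lcm_eq_zero_iff, not_or]; exact ⟨hNpos.ne', hK.ne'⟩)
  -- divisibility of ν
  have hdv : ν ∣ (X ^ (lcm N K) - 1) ^ (max E e) := by
    rw [hν]
    refine IsCoprime.mul_dvd (hcop.pow_left) ?_ ?_
    · calc u ^ e ∣ (X ^ N - 1) ^ e := pow_dvd_pow_of_dvd hN e
        _ ∣ (X ^ (lcm N K) - 1) ^ e := pow_dvd_pow_of_dvd (pow_sub_one_dvd' (dvd_lcm_left N K)) e
        _ ∣ (X ^ (lcm N K) - 1) ^ (max E e) := pow_dvd_pow _ (le_max_right E e)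
    · calc h ∣ (X ^ K - 1) ^ E := hdvd
        _ ∣ (X ^ (lcm N K) - 1) ^ E := pow_dvd_pow_of_dvd (pow_sub_one_dvd' (dvd_lcm_right N K)) E
        _ ∣ (X ^ (lcm N K) - 1) ^ (max E e) := pow_dvd_pow _ (le_max_left E e)
  -- degree
  have hnd : ν.natDegree = e * (2 * a) + h.natDegree := by
    rw [hν, natDegree_mul (pow_ne_zero e hu) hh, natDegree_pow, hdeg]
  have hae : a + e ≤ a * e + 1 := by
    obtain ⟨a', rfl⟩ : ∃ a', a = a' + 1 := ⟨a - 1, by omega⟩
    obtain ⟨e', rfl⟩ : ∃ e', e = e' + 1 := ⟨e - 1, by omega⟩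
    nlinarith [Nat.zero_le (a' * e')]
  have hae2 : a ≤ a * e := Nat.le_mul_of_pos_right a he
  have hdegfinal : ∀ S : ℕ, 2 * S + 2 * (E - 1) ≤ h.natDegree →
      2 * (a + S) + 2 * (max E e - 1) ≤ ν.natDegree := by
    intro S hS
    rw [hnd]
    have h3 : e * (2 * a) = 2 * (a * e) := by ring
    rw [h3]
    rcases le_total E e with hle | hle
    · rw [max_eq_right hle]; omega
    · rw [max_eq_left hle]; omega
  have hpar' : Odd q → 1 ≤ max E e → 2 ∣ lcm N K := fun ho _ => (hNeven ho).trans (dvd_lcm_left N K)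
  rcases hcase with hN1 | hN1
  · -- plus type
    refine ⟨a ::ₘ P, A, L, max E e, lcm N K, ?_, hL, hLA, hK', ?_, hdv, ?_, hpar'⟩
    · intro b hb
      rcases Multiset.mem_cons.mp hb with rfl | hb
      · exact ha
      · exact hP b hb
    · rw [Multiset.map_cons, Multiset.lcm_cons, ← hN1]
      refine lcm_dvd ?_ ?_
      · exact dvd_mul_of_dvd_right (dvd_lcm_left _ _) _
      · exact hKd.trans (mul_dvd_mul_left L (dvd_lcm_right _ _))
    · rw [Multiset.sum_cons]
      have := hdegfinal (P.sum + A) hdg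
      have h4 : a + P.sum + A = a + (P.sum + A) := by ring
      rw [h4]; exact this
  · -- minus type
    have hL' : 0 < lcm L N := Nat.pos_of_ne_zero (by
      rw [Ne, lcm_eq_zero_iff, not_or]; exact ⟨hL.ne', hNpos.ne'⟩)
    refine ⟨P, A + a, lcm L N, max E e, lcm N K, hP, hL', ?_, hK', ?_, hdv, ?_, hpar'⟩
    · have h5 : lcm L N ≤ L * N :=
        Nat.le_of_dvd (Nat.mul_pos hL hNpos) (lcm_dvd (dvd_mul_right _ _) (dvd_mul_left _ _))
      have h6 : N ≤ q ^ a := by rw [hN1]; exact Nat.sub_le _ _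
      calc lcm L N ≤ L * N := h5
        _ ≤ q ^ A * q ^ a := Nat.mul_le_mul hLA h6
        _ = q ^ (A + a) := (pow_add q A a).symm
    · refine lcm_dvd ?_ ?_
      · exact dvd_mul_of_dvd_left (dvd_lcm_right _ _) _
      · exact hKd.trans (mul_dvd_mul_right (dvd_lcm_left _ _) _)
    · have := hdegfinal (P.sum + A) hdg
      have h4 : P.sum + (A + a) = a + (P.sum + A) := by ring
      rw [h4]; exact this

omit [Fintype F] in
/-- `X - 1` is irreducible. -/
theorem irr_X_sub_one : Irreducible (X - 1 : F[X]) := by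
  have := irreducible_X_sub_C (1 : F)
  simpa using this

omit [Fintype F] in
theorem irr_X_add_one : Irreducible (X + 1 : F[X]) := by
  have := irreducible_X_sub_C (-1 : F)
  simpa using this

omit [Fintype F] in
theorem not_dvd_of_irr_dvd {f g ν : F[X]} (hf : Irreducible f) (hg : Irreducible g) (hfν : f ∣ ν)
    (hgν : ¬ g ∣ ν) : ¬ f ∣ g := by
  intro h
  have h1 : Associated f g := hf.associated_of_dvd hg h
  exact hgν (h1.symm.dvd.trans hfν)

/-- The main induction: every self-reciprocal polynomial prime to `X ^ 2 - 1` has a certificate. -/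
theorem cert_exists (hF3 : F3stmt F) : ∀ (n : ℕ) (ν : F[X]), ν.natDegree = n → SR ν →
    ¬ (X - 1) ∣ ν → ¬ (X + 1) ∣ ν → Cert (Fintype.card F) ν := by
  intro n
  induction n using Nat.strong_induction_on with
  | _ n ih =>
  intro ν hn hsr h1 h2
  have hν0 : ν ≠ 0 := ne_zero_of_coeff_zero_ne hsr.1
  have hq2 : 2 ≤ Fintype.card F := Fintype.one_lt_card
  rcases Nat.eq_zero_or_pos n with hn0 | hnpos
  · -- unit
    apply cert_of_isUnit
    rw [hn0] at hn
    rw [eq_C_of_natDegree_eq_zero hn]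
    refine isUnit_C.mpr (isUnit_iff_ne_zero.mpr ?_)
    intro hc
    apply hν0
    rw [eq_C_of_natDegree_eq_zero hn, hc, C_0]
  · obtain ⟨f, hf, hfν⟩ := exists_irreducible_of_natDegree_pos (hn ▸ hnpos : 0 < ν.natDegree)
    have hf0 : f.coeff 0 ≠ 0 := coeff_zero_ne_of_dvd hfν hsr.1
    have hfr : Irreducible f.reverse := irreducible_rev hf hf0
    have hfX : ¬ f ∣ X := by
      intro h
      have h3 : Associated f X := hf.associated_of_dvd irreducible_X h
      have h4 : X ∣ ν := h3.symm.dvd.trans hfν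
      rw [X_dvd_iff] at h4
      exact hsr.1 h4
    have hfpos : 0 < f.natDegree := hf.natDegree_pos
    have hqodd : Odd (Fintype.card F) → ∀ a : ℕ, 0 < a →
        2 ∣ Fintype.card F ^ a + 1 ∧ 2 ∣ Fintype.card F ^ a - 1 := by
      intro ho a _
      have h5 : Odd (Fintype.card F ^ a) := ho.pow
      obtain ⟨c, hc⟩ := h5
      constructor
      · exact ⟨c + 1, by omega⟩
      · exact ⟨c, by omega⟩
    -- common tail: given the block u
    have tail : ∀ (u : F[X]) (a N : ℕ), u ∣ ν → ¬ IsUnit u → u ≠ 0 → u.reverse ∣ u →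
        u.natDegree = 2 * a → 0 < a → u ∣ X ^ N - 1 → 0 < N →
        (N = Fintype.card F ^ a + 1 ∨ N = Fintype.card F ^ a - 1) →
        (∀ h : F[X], SR h → ¬ u ∣ h → IsCoprime u h) → Cert (Fintype.card F) ν := by
      intro u a N huν hunit hu0 hurev hudeg ha hN hNpos hcase hcop
      obtain ⟨e, h, hnd, hνeq⟩ := WfDvdMonoid.max_power_factor' hν0 hunit
      have he : 1 ≤ e := by
        rcases Nat.eq_zero_or_pos e with he0 | hepos
        · exfalso
          rw [he0, pow_zero, one_mul] at hνeq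
          exact hnd (hνeq ▸ huν)
        · exact hepos
      have hh0 : h ≠ 0 := by
        rintro rfl
        rw [mul_zero] at hνeq
        exact hν0 hνeq
      have hsrh : SR h := by
        have h6 : SR (u ^ e * h) := hνeq ▸ hsr
        refine h6.of_mul ?_
        rw [rev_pow]
        exact pow_dvd_pow_of_dvd hurev e
      have hhν : h ∣ ν := ⟨u ^ e, by rw [hνeq, mul_comm]⟩
      have hdeglt : h.natDegree < n := by
        rw [← hn, hνeq, natDegree_mul (pow_ne_zero e hu0) hh0, natDegree_pow, hudeg]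
        have : 1 * (2 * a) ≤ e * (2 * a) := Nat.mul_le_mul_right _ he
        omega
      have hcert : Cert (Fintype.card F) h :=
        ih h.natDegree hdeglt h rfl hsrh (fun hx => h1 (hx.trans hhν)) (fun hx => h2 (hx.trans hhν))
      refine Cert.step hνeq he (hcop h hsrh hnd) hudeg ha hN hNpos hcase ?_ hh0 hu0 hcert
      intro ho
      rcases hcase with hc | hc
      · rw [hc]; exact (hqodd ho a ha).1
      · rw [hc]; exact (hqodd ho a ha).2
    by_cases hself : f ∣ f.reverse
    · -- self-reciprocal irreducible factor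
      obtain ⟨a, ha, hdeg, hdvd⟩ := hF3 f hf hself
        (not_dvd_of_irr_dvd hf irr_X_sub_one hfν h1) (not_dvd_of_irr_dvd hf irr_X_add_one hfν h2)
      have hrev : f.reverse ∣ f := SR.rev_dvd_self ⟨hf0, hself⟩
      refine tail f a (Fintype.card F ^ a + 1) hfν hf.not_isUnit hf.ne_zero hrev hdeg ha hdvd
        (Nat.succ_pos _) (Or.inl rfl) ?_
      intro h _ hnd
      exact (hf.coprime_iff_not_dvd).mpr hnd
    · -- a pair f, f.reverse
      set f' := f.reverse with hf'
      have hf'0 : f'.coeff 0 ≠ 0 := coeff_zero_rev_ne hf.ne_zero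
      have hcopff : IsCoprime f f' := (hf.coprime_iff_not_dvd).mpr hself
      have hf'ν : f' ∣ ν := (rev_dvd hfν).trans hsr.rev_dvd_self
      have huν : f * f' ∣ ν := hcopff.mul_dvd hfν hf'ν
      have hf'deg : f'.natDegree = f.natDegree := natDegree_reverse_of hf0
      have hf'X : ¬ f' ∣ X := by
        intro h
        have h3 : Associated f' X := hfr.associated_of_dvd irreducible_X h
        have h4 : X ∣ ν := h3.symm.dvd.trans hf'ν
        rw [X_dvd_iff] at h4
        exact hsr.1 h4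
      have hd1 := irr_dvd_pow_sub_one hf hfX
      have hd2 := irr_dvd_pow_sub_one hfr hf'X
      rw [hf'deg] at hd2
      have hNpos : 0 < Fintype.card F ^ f.natDegree - 1 := by
        have : 2 ^ 1 ≤ Fintype.card F ^ f.natDegree :=
          (Nat.pow_le_pow_left hq2 1).trans (Nat.pow_le_pow_right (by omega) hfpos)
        omega
      have hrevu : (f * f').reverse ∣ f * f' := by
        rw [reverse_mul_of_domain, hf', rev_rev hf0, mul_comm]
      refine tail (f * f') f.natDegree (Fintype.card F ^ f.natDegree - 1) huν ?_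
        (mul_ne_zero hf.ne_zero hfr.ne_zero) hrevu ?_ hfpos (hcopff.mul_dvd hd1 hd2) hNpos
        (Or.inr rfl) ?_
      · intro hu
        exact hf.not_isUnit (isUnit_of_mul_isUnit_left hu)
      · rw [natDegree_mul hf.ne_zero hfr.ne_zero, hf'deg]; ring
      · intro h hsrh hnd
        have hfh : ¬ f ∣ h := by
          intro hfh
          have h7 : f' ∣ h := (rev_dvd hfh).trans hsrh.rev_dvd_self
          exact hnd (hcopff.mul_dvd hfh h7)
        have hf'h : ¬ f' ∣ h := by
          intro hf'h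
          have h7 : f ∣ h := by
            have := (rev_dvd hf'h).trans hsrh.rev_dvd_self
            rwa [hf', rev_rev hf0] at this
          exact hnd (hcopff.mul_dvd h7 hf'h)
        exact IsCoprime.mul_left ((hf.coprime_iff_not_dvd).mpr hfh)
          ((hfr.coprime_iff_not_dvd).mpr hf'h)

end Fin

end Cfsg.Agent.Lib.Meo
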