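import Mathlib
import Cfsg.Agent.Lib.Helper7.MeoPoly

/-!
Maximal element orders of classical groups (S2264, S2265): the polynomial theorem.
-/

namespace Cfsg.Agent.Lib.Meo

open Polynomial

theorem two_mul_le_two_pow (s : ℕ) : 2 * s ≤ 2 ^ s := by
  induction s with
  | zero => simp
  | succ s ih =>
    rcases Nat.eq_zero_or_pos s with rfl | hs
    · simp
    · have : 2 ≤ 2 ^ s := by
        calc 2 = 2 ^ 1 := by norm_num
          _ ≤ 2 ^ s := Nat.pow_le_pow_right (by norm_num) hs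
      rw [pow_succ]; omega

theorem two_mul_add_one_le_three_pow (s : ℕ) : 2 * s + 1 ≤ 3 ^ s := by
  induction s with
  | zero => simp
  | succ s ih => rw [pow_succ]; omega

theorem two_mul_add_two_le_three_pow (s : ℕ) (hs : 2 ≤ s) : 2 * s + 2 ≤ 3 ^ s := by
  induction s, hs using Nat.le_induction with
  | base => norm_num
  | succ s _ ih => rw [pow_succ]; omega

section Core

variable {F : Type*} [Field F] [Fintype F]

omit [Fintype F] in
theorem natDegree_X_sub_one' : (X - 1 : F[X]).natDegree = 1 := by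
  simpa using natDegree_X_sub_C (1 : F)

omit [Fintype F] in
theorem natDegree_X_add_one' : (X + 1 : F[X]).natDegree = 1 := by
  simpa using natDegree_X_add_C (1 : F)

theorem core (hN1 : N1stmt) (hF3 : F3stmt F) (μ : F[X]) (hsr : SR μ) (m : ℕ)
    (hdeg : (μ.natDegree ≤ 2 * m ∧ 2 ≤ m) ∨
      (μ.natDegree ≤ 2 * m + 1 ∧ 3 ≤ m ∧ Odd (Fintype.card F))) :
    ∃ k, 0 < k ∧ (μ ∣ X ^ k - 1 ∨ μ ∣ X ^ k + 1) ∧
      (Fintype.card F - 1) * k ≤ Fintype.card F ^ (m + 1) := by
  have hq2 : 2 ≤ Fintype.card F := Fintype.one_lt_card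
  have hμ0 : μ ≠ 0 := ne_zero_of_coeff_zero_ne hsr.1
  obtain ⟨e₁, μ₁, hnd1, hμeq⟩ := WfDvdMonoid.max_power_factor' hμ0 (irr_X_sub_one (F := F)).not_isUnit
  have hμ₁0 : μ₁ ≠ 0 := by
    rintro rfl
    rw [mul_zero] at hμeq
    exact hμ0 hμeq
  have hsr1 : SR μ₁ := by
    have h6 : SR ((X - 1) ^ e₁ * μ₁) := hμeq ▸ hsr
    refine h6.of_mul ?_
    rw [rev_pow, rev_X_sub_one]
    exact pow_dvd_pow_of_dvd (neg_dvd.mpr dvd_rfl) _
  obtain ⟨e₂, ν, hnd2, hμ₁eq⟩ :=
    WfDvdMonoid.max_power_factor' hμ₁0 (irr_X_add_one (F := F)).not_isUnit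
  have hν0 : ν ≠ 0 := by
    rintro rfl
    rw [mul_zero] at hμ₁eq
    exact hμ₁0 hμ₁eq
  have hsrν : SR ν := by
    have h6 : SR ((X + 1) ^ e₂ * ν) := hμ₁eq ▸ hsr1
    refine h6.of_mul ?_
    rw [rev_pow, rev_X_add_one]
  have hνμ₁ : ν ∣ μ₁ := ⟨(X + 1) ^ e₂, by rw [hμ₁eq, mul_comm]⟩
  have hnd1' : ¬ (X - 1) ∣ ν := fun h => hnd1 (h.trans hνμ₁)
  have hcert := cert_exists hF3 ν.natDegree ν rfl hsrν hnd1' hnd2
  have hdegμ : μ.natDegree = e₁ + e₂ + ν.natDegree := by
    rw [hμeq, hμ₁eq, natDegree_mul (pow_ne_zero _ (irr_X_sub_one (F := F)).ne_zero)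
      (mul_ne_zero (pow_ne_zero _ (irr_X_add_one (F := F)).ne_zero) hν0),
      natDegree_mul (pow_ne_zero _ (irr_X_add_one (F := F)).ne_zero) hν0, natDegree_pow,
      natDegree_pow, natDegree_X_sub_one', natDegree_X_add_one']
    ring
  -- parity
  have hodd : 1 ≤ e₂ → Odd (Fintype.card F) := by
    intro he2
    have hx : (X + 1 : F[X]) ∣ μ₁ := by
      rw [hμ₁eq]
      exact dvd_mul_of_dvd_left (dvd_pow_self _ (by omega)) _
    have hne : ringChar F ≠ 2 := by
      intro h2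
      have : CharP F 2 := ringChar.eq_iff.mp h2
      apply hnd1
      have h3 : (X - 1 : F[X]) = X + 1 := by
        have h4 : (-1 : F) = 1 := CharTwo.neg_eq 1
        have h5 : (-1 : F[X]) = 1 := by
          rw [← C_1, ← C_neg, h4]
        rw [sub_eq_add_neg, h5]
      rw [h3]
      exact hx
    exact Nat.odd_iff.mpr (FiniteField.odd_card_of_char_ne_two hne)
  -- the two coprimality facts
  have hcop2 : IsCoprime ((X + 1 : F[X]) ^ e₂) ν :=
    ((irr_X_add_one (F := F)).coprime_iff_not_dvd.mpr hnd2).pow_left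
  have hcop1 : IsCoprime ((X - 1 : F[X]) ^ e₁) μ₁ :=
    ((irr_X_sub_one (F := F)).coprime_iff_not_dvd.mpr hnd1).pow_left
  have hcomb : ∀ R : F[X], (X - 1) ^ e₁ ∣ R → (X + 1) ^ e₂ ∣ R → ν ∣ R → μ ∣ R := by
    intro R h1 h2 h3
    rw [hμeq]
    refine hcop1.mul_dvd h1 ?_
    rw [hμ₁eq]
    exact hcop2.mul_dvd h2 h3
  have hbound0 : (Fintype.card F - 1) * Fintype.card F ^ m ≤ Fintype.card F ^ (m + 1) := by
    rw [pow_succ, mul_comm]
    exact Nat.mul_le_mul_left _ (Nat.sub_le _ _)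
  obtain ⟨P, A, L, E, K, hP, hL, hLA, hK, hKd, hdvd, hdg, hpar⟩ := hcert
  by_cases hunit : ν.natDegree = 0
  · -- ν is a unit
    have hνu : IsUnit ν := by
      rw [eq_C_of_natDegree_eq_zero hunit]
      refine isUnit_C.mpr (isUnit_iff_ne_zero.mpr ?_)
      intro hc
      apply hν0
      rw [eq_C_of_natDegree_eq_zero hunit, hc, C_0]
    have hn : μ.natDegree = e₁ + e₂ := by rw [hdegμ, hunit]; ring
    have hle_m : ∀ e : ℕ, e ≤ μ.natDegree → e ≤ Fintype.card F ^ m := by
      intro e he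
      rcases hdeg with ⟨h1, _⟩ | ⟨h1, _, ho⟩
      · calc e ≤ 2 * m := he.trans h1
          _ ≤ 2 ^ m := two_mul_le_two_pow m
          _ ≤ Fintype.card F ^ m := Nat.pow_le_pow_left hq2 m
      · have hq3 : 3 ≤ Fintype.card F := by
          obtain ⟨c, hc⟩ := ho
          omega
        calc e ≤ 2 * m + 1 := he.trans h1
          _ ≤ 3 ^ m := two_mul_add_one_le_three_pow m
          _ ≤ Fintype.card F ^ m := Nat.pow_le_pow_left hq3 m
    rcases Nat.eq_zero_or_pos e₂ with he2 | he2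
    · -- only X - 1
      refine ⟨Fintype.card F ^ m, pow_pos (by omega) _, Or.inl ?_, hbound0⟩
      have h7 := sub_one_pow_card_pow (F := F) 1 m
      rw [pow_one, one_mul] at h7
      rw [← h7]
      refine hcomb _ (pow_dvd_pow _ (hle_m e₁ (by omega))) ?_ hνu.dvd
      rw [he2, pow_zero]; exact one_dvd _
    · rcases Nat.eq_zero_or_pos e₁ with he1 | he1
      · -- only X + 1
        refine ⟨Fintype.card F ^ m, pow_pos (by omega) _, Or.inr ?_, hbound0⟩
        rw [← add_one_pow_card_pow]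
        refine hcomb _ ?_ (pow_dvd_pow _ (hle_m e₂ (by omega))) hνu.dvd
        rw [he1, pow_zero]; exact one_dvd _
      · -- both signs: q odd
        have ho := hodd he2
        have hq3 : 3 ≤ Fintype.card F := by
          obtain ⟨c, hc⟩ := ho
          omega
        have hm1 : 1 ≤ m := by rcases hdeg with ⟨_, h⟩ | ⟨_, h, _⟩ <;> omega
        obtain ⟨j, rfl⟩ : ∃ j, m = j + 1 := ⟨m - 1, by omega⟩
        have hle_j : ∀ e : ℕ, e + 1 ≤ μ.natDegree → e ≤ Fintype.card F ^ j := by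
          intro e he
          rcases hdeg with ⟨h1, h2⟩ | ⟨h1, h2, _⟩
          · calc e ≤ 2 * j + 1 := by omega
              _ ≤ 3 ^ j := two_mul_add_one_le_three_pow j
              _ ≤ Fintype.card F ^ j := Nat.pow_le_pow_left hq3 j
          · calc e ≤ 2 * j + 2 := by omega
              _ ≤ 3 ^ j := two_mul_add_two_le_three_pow j (by omega)
              _ ≤ Fintype.card F ^ j := Nat.pow_le_pow_left hq3 j
        refine ⟨2 * Fintype.card F ^ j, by positivity, Or.inl ?_, ?_⟩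
        · rw [← sub_one_pow_card_pow]
          have h8 : ((X : F[X]) ^ 2 - 1) = (X - 1) * (X + 1) := by ring
          rw [h8, mul_pow]
          refine hcomb _ ?_ ?_ hνu.dvd
          · exact dvd_mul_of_dvd_left (pow_dvd_pow _ (hle_j e₁ (by omega))) _
          · exact dvd_mul_of_dvd_right (pow_dvd_pow _ (hle_j e₂ (by omega))) _
        · have h9 : (Fintype.card F - 1) * 2 ≤ Fintype.card F ^ 2 := by
            obtain ⟨c, hc⟩ : ∃ c, Fintype.card F = c + 1 := ⟨Fintype.card F - 1, by omega⟩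
            rw [hc]
            simp only [Nat.add_sub_cancel]
            nlinarith
          calc (Fintype.card F - 1) * (2 * Fintype.card F ^ j)
              = ((Fintype.card F - 1) * 2) * Fintype.card F ^ j := by ring
            _ ≤ Fintype.card F ^ 2 * Fintype.card F ^ j := Nat.mul_le_mul_right _ h9
            _ = Fintype.card F ^ (j + 1 + 1) := by ring
  · -- ν is not a unit
    have hE : 1 ≤ E := by
      rcases Nat.eq_zero_or_pos E with hE0 | hE0
      · exfalso
        rw [hE0, pow_zero] at hdvd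
        exact hunit (natDegree_eq_zero_of_isUnit (isUnit_of_dvd_one hdvd))
      · exact hE0
    have hAm : P.sum + A ≤ m := by
      rcases hdeg with ⟨h1, _⟩ | ⟨h1, _, _⟩ <;> omega
    obtain ⟨s, hs⟩ : ∃ s, m = (P.sum + A) + s := ⟨m - (P.sum + A), by omega⟩
    have hle_s : ∀ e : ℕ, e + 2 * (P.sum + A) ≤ μ.natDegree → e ≤ Fintype.card F ^ s := by
      intro e he
      rcases hdeg with ⟨h1, _⟩ | ⟨h1, _, ho⟩
      · calc e ≤ 2 * s := by omega
          _ ≤ 2 ^ s := two_mul_le_two_pow s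
          _ ≤ Fintype.card F ^ s := Nat.pow_le_pow_left hq2 s
      · have hq3 : 3 ≤ Fintype.card F := by
          obtain ⟨c, hc⟩ := ho
          omega
        calc e ≤ 2 * s + 1 := by omega
          _ ≤ 3 ^ s := two_mul_add_one_le_three_pow s
          _ ≤ Fintype.card F ^ s := Nat.pow_le_pow_left hq3 s
    have hE_s : E ≤ Fintype.card F ^ s := by
      have h10 : E ≤ s + 1 := by
        rcases hdeg with ⟨h1, _⟩ | ⟨h1, _, _⟩ <;> omega
      calc E ≤ s + 1 := h10
        _ ≤ 2 ^ s := Nat.lt_two_pow_self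
        _ ≤ Fintype.card F ^ s := Nat.pow_le_pow_left hq2 s
    refine ⟨K * Fintype.card F ^ s, Nat.mul_pos hK (pow_pos (by omega) _), Or.inl ?_, ?_⟩
    · rw [← sub_one_pow_card_pow]
      refine hcomb _ ?_ ?_ ?_
      · calc (X - 1 : F[X]) ^ e₁ ∣ (X ^ K - 1) ^ e₁ :=
              pow_dvd_pow_of_dvd (sub_one_dvd_pow_sub_one X K) _
          _ ∣ (X ^ K - 1) ^ (Fintype.card F ^ s) := pow_dvd_pow _ (hle_s e₁ (by omega))
      · rcases Nat.eq_zero_or_pos e₂ with he2 | he2
        · rw [he2, pow_zero]; exact one_dvd _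
        · have h2K : 2 ∣ K := hpar (hodd he2) hE
          have h11 : (X + 1 : F[X]) ∣ X ^ K - 1 := by
            have h12 : ((X : F[X]) ^ 2 - 1) ∣ X ^ K - 1 := pow_sub_one_dvd' h2K
            refine dvd_trans ⟨X - 1, by ring⟩ h12
          calc (X + 1 : F[X]) ^ e₂ ∣ (X ^ K - 1) ^ e₂ := pow_dvd_pow_of_dvd h11 _
            _ ∣ (X ^ K - 1) ^ (Fintype.card F ^ s) := pow_dvd_pow _ (hle_s e₂ (by omega))
      · exact hdvd.trans (pow_dvd_pow _ hE_s)
    · -- the numeric bound
      have hlcm0 : (P.map (fun a => Fintype.card F ^ a + 1)).lcm ≠ 0 := by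
        rw [Ne, Multiset.lcm_eq_zero_iff]
        intro h0
        obtain ⟨a, _, ha⟩ := Multiset.mem_map.mp h0
        omega
      have h13 : K ≤ L * (P.map (fun a => Fintype.card F ^ a + 1)).lcm :=
        Nat.le_of_dvd (Nat.mul_pos hL (Nat.pos_of_ne_zero hlcm0)) hKd
      have h14 := hN1 (Fintype.card F) hq2 P hP
      have h15 : (Fintype.card F - 1) * (P.map (fun a => Fintype.card F ^ a + 1)).lcm
          ≤ Fintype.card F ^ (P.sum + 1) := h14.trans (Nat.sub_le _ _)
      calc (Fintype.card F - 1) * (K * Fintype.card F ^ s)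
          ≤ (Fintype.card F - 1) * ((L * (P.map (fun a => Fintype.card F ^ a + 1)).lcm)
              * Fintype.card F ^ s) :=
            Nat.mul_le_mul_left _ (Nat.mul_le_mul_right _ h13)
        _ = L * ((Fintype.card F - 1) * (P.map (fun a => Fintype.card F ^ a + 1)).lcm)
              * Fintype.card F ^ s := by ring
        _ ≤ Fintype.card F ^ A * Fintype.card F ^ (P.sum + 1) * Fintype.card F ^ s :=
            Nat.mul_le_mul_right _ (Nat.mul_le_mul hLA h15)
        _ = Fintype.card F ^ (m + 1) := by rw [hs]; ring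

end Core

end Cfsg.Agent.Lib.Meo
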