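import Mathlib
import Cfsg.Agent.Lib.Helper7.MeoCore

/-!
Maximal element orders of classical groups (S2264, S2265): the matrix-level theorem.
-/

namespace Cfsg.Agent.Lib.Meo

open Polynomial Matrix

section Mat

variable {F : Type*} [Field F]

theorem aeval_rev_eq {R : Type*} [Ring R] [Algebra F R] (a a' : R) (h1 : a * a' = 1)
    (h2 : a' * a = 1) (P : F[X]) :
    aeval a P.reverse = a ^ P.natDegree * aeval a' P := by
  have hcomm : Commute a a' := by rw [Commute, SemiconjBy, h1, h2]
  have hlt : P.reverse.natDegree < P.natDegree + 1 :=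
    Nat.lt_succ_of_le (reverse_natDegree_le P)
  rw [aeval_eq_sum_range' hlt, aeval_eq_sum_range, Finset.mul_sum,
    ← Finset.sum_range_reflect]
  refine Finset.sum_congr rfl ?_
  intro j hj
  have hj' : j ≤ P.natDegree := Nat.lt_succ_iff.mp (Finset.mem_range.mp hj)
  have h3 : P.natDegree + 1 - 1 - j = P.natDegree - j := by omega
  rw [h3, coeff_reverse, revAt_le (Nat.sub_le _ _), Nat.sub_sub_self hj', mul_smul_comm]
  congr 1
  have h4 : a ^ P.natDegree = a ^ (P.natDegree - j) * a ^ j := by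
    rw [← pow_add, Nat.sub_add_cancel hj']
  rw [h4, mul_assoc, ← hcomm.mul_pow, h1, one_pow, mul_one]

variable {ι : Type*} [Fintype ι] [DecidableEq ι]

theorem aeval_conj (S S' B : Matrix ι ι F) (h : S * S' = 1) (P : F[X]) :
    aeval (S' * B * S) P = S' * aeval B P * S := by
  have h' : S' * S = 1 := mul_eq_one_comm.mp h
  have hpow : ∀ i : ℕ, (S' * B * S) ^ i = S' * B ^ i * S := by
    intro i
    induction i with
    | zero => simp [h']
    | succ i ih =>
      rw [pow_succ, ih, pow_succ]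
      calc S' * B ^ i * S * (S' * B * S) = S' * B ^ i * (S * S') * B * S := by
            simp only [Matrix.mul_assoc]
        _ = S' * (B ^ i * B) * S := by rw [h, Matrix.mul_one]; simp only [Matrix.mul_assoc]
  rw [aeval_eq_sum_range, aeval_eq_sum_range, Finset.mul_sum, Finset.sum_mul]
  refine Finset.sum_congr rfl ?_
  intro i _
  rw [hpow, Matrix.mul_smul, Matrix.smul_mul]

theorem aeval_transpose' (B : Matrix ι ι F) (P : F[X]) : aeval Bᵀ P = (aeval B P)ᵀ := by
  rw [aeval_eq_sum_range, aeval_eq_sum_range, Matrix.transpose_sum]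
  refine Finset.sum_congr rfl ?_
  intro i _
  rw [Matrix.transpose_smul, Matrix.transpose_pow]

variable [Fintype F]

theorem mat_core (hN1 : N1stmt) (hF3 : F3stmt F) (A A' : Matrix ι ι F) (h1 : A * A' = 1)
    (hrec : ∀ P : F[X], aeval A P = 0 → aeval A' P = 0) (m : ℕ)
    (hdim : (Fintype.card ι ≤ 2 * m ∧ 2 ≤ m) ∨
      (Fintype.card ι ≤ 2 * m + 1 ∧ 3 ≤ m ∧ Odd (Fintype.card F))) :
    ∃ k, 0 < k ∧ (A ^ k = 1 ∨ A ^ k = -1) ∧
      (Fintype.card F - 1) * k ≤ Fintype.card F ^ (m + 1) := by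
  have h2 : A' * A = 1 := mul_eq_one_comm.mp h1
  have hμ : aeval A (minpoly F A) = 0 := minpoly.aeval F A
  have hint : IsIntegral F A := Matrix.isIntegral A
  have hμ0 : minpoly F A ≠ 0 := minpoly.ne_zero hint
  have hdegle : (minpoly F A).natDegree ≤ Fintype.card ι := by
    have h3 := natDegree_le_of_dvd (Matrix.minpoly_dvd_charpoly A) (Matrix.charpoly_monic A).ne_zero
    rwa [Matrix.charpoly_natDegree_eq_dim] at h3
  have hc0 : (minpoly F A).coeff 0 ≠ 0 := by
    intro hc
    obtain ⟨h', hh'⟩ := X_dvd_iff.mpr hc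
    have h4 : aeval A h' = 0 := by
      have h5 : A * aeval A h' = 0 := by
        have := hμ
        rw [hh', map_mul, aeval_X] at this
        exact this
      calc aeval A h' = (A' * A) * aeval A h' := by rw [h2, one_mul]
        _ = A' * (A * aeval A h') := by rw [mul_assoc]
        _ = 0 := by rw [h5, mul_zero]
    have h6 : minpoly F A ∣ h' := minpoly.dvd F A h4
    have hh'0 : h' ≠ 0 := by
      rintro rfl
      rw [mul_zero] at hh'
      exact hμ0 hh'
    have h7 := natDegree_le_of_dvd h6 hh'0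
    have h8 : (minpoly F A).natDegree = 1 + h'.natDegree := by
      conv_lhs => rw [hh']
      rw [natDegree_mul X_ne_zero hh'0, natDegree_X]
    omega
  have hsr : SR (minpoly F A) := by
    refine ⟨hc0, minpoly.dvd F A ?_⟩
    rw [aeval_rev_eq A A' h1 h2, hrec _ hμ, mul_zero]
  have hdeg : ((minpoly F A).natDegree ≤ 2 * m ∧ 2 ≤ m) ∨
      ((minpoly F A).natDegree ≤ 2 * m + 1 ∧ 3 ≤ m ∧ Odd (Fintype.card F)) := by
    rcases hdim with ⟨h, h'⟩ | ⟨h, h'⟩
    · exact Or.inl ⟨hdegle.trans h, h'⟩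
    · exact Or.inr ⟨hdegle.trans h, h'⟩
  obtain ⟨k, hk, hdvd, hb⟩ := core hN1 hF3 (minpoly F A) hsr m hdeg
  refine ⟨k, hk, ?_, hb⟩
  have hz : ∀ R : F[X], minpoly F A ∣ R → aeval A R = 0 := by
    intro R hR
    obtain ⟨c, rfl⟩ := hR
    rw [map_mul, hμ, zero_mul]
  rcases hdvd with h | h
  · left
    have := hz _ h
    rw [map_sub, map_pow, aeval_X, map_one] at this
    exact sub_eq_zero.mp this
  · right
    have := hz _ h
    rw [map_add, map_pow, aeval_X, map_one] at this
    exact eq_neg_of_add_eq_zero_left this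

end Mat

end Cfsg.Agent.Lib.Meo
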