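import Mathlib
import Cfsg.Agent.Lib.Helper7.MeoCore

/-!
Refined form of the polynomial theorem of `MeoCore`: the data behind the bound is exposed
(used for the automorphism groups of `PSL_d(q)`, S2262).
-/

namespace Cfsg.Agent.Lib.Meo

open Polynomial

section Core2

variable {F : Type*} [Field F] [Fintype F]

theorem core_data (hN1 : N1stmt) (hF3 : F3stmt F) (p : ℕ) [Fact p.Prime] [CharP F p]
    (μ : F[X]) (hsr : SR μ) :
    ∃ (e₁ e₂ A E K : ℕ),
      e₁ + e₂ + 2 * A + 2 * (E - 1) ≤ μ.natDegree ∧ 0 < K ∧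
      (Fintype.card F - 1) * K ≤ Fintype.card F ^ (A + 1) - 1 ∧
      (1 ≤ e₂ → Odd (Fintype.card F)) ∧
      (∀ j : ℕ, e₁ ≤ p ^ j → e₂ ≤ p ^ j → E ≤ p ^ j →
        (1 ≤ E → μ ∣ X ^ (K * p ^ j) - 1) ∧
        (E = 0 → (e₂ = 0 → μ ∣ X ^ (p ^ j) - 1) ∧ (e₁ = 0 → μ ∣ X ^ (p ^ j) + 1) ∧
          μ ∣ X ^ (2 * p ^ j) - 1)) := by
  have hq2 : 2 ≤ Fintype.card F := Fintype.one_lt_card
  have hμ0 : μ ≠ 0 := ne_zero_of_coeff_zero_ne hsr.1
  obtain ⟨e₁, μ₁, hnd1, hμeq⟩ :=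
    WfDvdMonoid.max_power_factor' hμ0 (irr_X_sub_one (F := F)).not_isUnit
  have hμ₁0 : μ₁ ≠ 0 := by
    rintro rfl
    rw [mul_zero] at hμeq
    exact hμ0 hμeq
  have hsr1 : SR μ₁ := by
    have h6 : SR ((X - 1) ^ e₁ * μ₁) := hμeq ▸ hsr
    refine h6.of_mul ?_
    rw [rev_pow, rev_X_sub_one]
    exact pow_dvd_pow_of_dvd (neg_dvd.mpr dvd_rfl) _
  obtain ⟨e₂, ν, hnd2, hμ₁eq⟩ :=
    WfDvdMonoid.max_power_factor' hμ₁0 (irr_X_add_one (F := F)).not_isUnit
  have hν0 : ν ≠ 0 := by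
    rintro rfl
    rw [mul_zero] at hμ₁eq
    exact hμ₁0 hμ₁eq
  have hsrν : SR ν := by
    have h6 : SR ((X + 1) ^ e₂ * ν) := hμ₁eq ▸ hsr1
    refine h6.of_mul ?_
    rw [rev_pow, rev_X_add_one]
  have hνμ₁ : ν ∣ μ₁ := ⟨(X + 1) ^ e₂, by rw [hμ₁eq, mul_comm]⟩
  have hnd1' : ¬ (X - 1) ∣ ν := fun h => hnd1 (h.trans hνμ₁)
  have hcert := cert_exists hF3 ν.natDegree ν rfl hsrν hnd1' hnd2
  have hdegμ : μ.natDegree = e₁ + e₂ + ν.natDegree := by
    rw [hμeq, hμ₁eq, natDegree_mul (pow_ne_zero _ (irr_X_sub_one (F := F)).ne_zero)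
      (mul_ne_zero (pow_ne_zero _ (irr_X_add_one (F := F)).ne_zero) hν0),
      natDegree_mul (pow_ne_zero _ (irr_X_add_one (F := F)).ne_zero) hν0, natDegree_pow,
      natDegree_pow, natDegree_X_sub_one', natDegree_X_add_one']
    ring
  have hodd : 1 ≤ e₂ → Odd (Fintype.card F) := by
    intro he2
    have hx : (X + 1 : F[X]) ∣ μ₁ := by
      rw [hμ₁eq]
      exact dvd_mul_of_dvd_left (dvd_pow_self _ (by omega)) _
    have hne : ringChar F ≠ 2 := by
      intro h2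
      have : CharP F 2 := ringChar.eq_iff.mp h2
      apply hnd1
      have h3 : (X - 1 : F[X]) = X + 1 := by
        have h4 : (-1 : F) = 1 := CharTwo.neg_eq 1
        have h5 : (-1 : F[X]) = 1 := by
          rw [← C_1, ← C_neg, h4]
        rw [sub_eq_add_neg, h5]
      rw [h3]
      exact hx
    exact Nat.odd_iff.mpr (FiniteField.odd_card_of_char_ne_two hne)
  have hcop2 : IsCoprime ((X + 1 : F[X]) ^ e₂) ν :=
    ((irr_X_add_one (F := F)).coprime_iff_not_dvd.mpr hnd2).pow_left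
  have hcop1 : IsCoprime ((X - 1 : F[X]) ^ e₁) μ₁ :=
    ((irr_X_sub_one (F := F)).coprime_iff_not_dvd.mpr hnd1).pow_left
  have hcomb : ∀ R : F[X], (X - 1) ^ e₁ ∣ R → (X + 1) ^ e₂ ∣ R → ν ∣ R → μ ∣ R := by
    intro R h1 h2 h3
    rw [hμeq]
    refine hcop1.mul_dvd h1 ?_
    rw [hμ₁eq]
    exact hcop2.mul_dvd h2 h3
  obtain ⟨P, A, L, E, K, hP, hL, hLA, hK, hKd, hdvd, hdg, hpar⟩ := hcert
  refine ⟨e₁, e₂, P.sum + A, E, K, ?_, hK, ?_, hodd, ?_⟩
  · rw [hdegμ]; omega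
  · -- numeric bound on K
    have hlcm0 : (P.map (fun a => Fintype.card F ^ a + 1)).lcm ≠ 0 := by
      rw [Ne, Multiset.lcm_eq_zero_iff]
      intro h0
      obtain ⟨a, _, ha⟩ := Multiset.mem_map.mp h0
      omega
    have h13 : K ≤ L * (P.map (fun a => Fintype.card F ^ a + 1)).lcm :=
      Nat.le_of_dvd (Nat.mul_pos hL (Nat.pos_of_ne_zero hlcm0)) hKd
    have h14 := hN1 (Fintype.card F) hq2 P hP
    have hpos1 : 1 ≤ Fintype.card F ^ (P.sum + 1) := Nat.one_le_pow _ _ (by omega)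
    have hposA : 1 ≤ Fintype.card F ^ A := Nat.one_le_pow _ _ (by omega)
    have h16 : (Fintype.card F - 1) * K
        ≤ Fintype.card F ^ A * (Fintype.card F ^ (P.sum + 1) - 1) := by
      calc (Fintype.card F - 1) * K
          ≤ (Fintype.card F - 1) * (L * (P.map (fun a => Fintype.card F ^ a + 1)).lcm) :=
            Nat.mul_le_mul_left _ h13
        _ = L * ((Fintype.card F - 1) * (P.map (fun a => Fintype.card F ^ a + 1)).lcm) := by ring
        _ ≤ Fintype.card F ^ A * (Fintype.card F ^ (P.sum + 1) - 1) := Nat.mul_le_mul hLA h14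
    have h17 : Fintype.card F ^ A * (Fintype.card F ^ (P.sum + 1) - 1)
        ≤ Fintype.card F ^ (P.sum + A + 1) - 1 := by
      have h18 : Fintype.card F ^ (P.sum + A + 1)
          = Fintype.card F ^ A * Fintype.card F ^ (P.sum + 1) := by ring
      rw [h18, Nat.mul_sub, mul_one]
      exact Nat.sub_le_sub_left hposA _
    exact h16.trans h17
  · intro j h1 h2 h3
    have hfrob : ∀ K' : ℕ, ((X : F[X]) ^ K' - 1) ^ (p ^ j) = X ^ (K' * p ^ j) - 1 := by
      intro K'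
      rw [sub_pow_char_pow, one_pow, ← pow_mul]
    have hfrob2 : ((X : F[X]) + 1) ^ (p ^ j) = X ^ (p ^ j) + 1 := by
      rw [add_pow_char_pow, one_pow]
    refine ⟨fun hE => ?_, fun hE => ?_⟩
    · rw [← hfrob]
      refine hcomb _ ?_ ?_ ?_
      · calc (X - 1 : F[X]) ^ e₁ ∣ (X ^ K - 1) ^ e₁ :=
              pow_dvd_pow_of_dvd (sub_one_dvd_pow_sub_one X K) _
          _ ∣ (X ^ K - 1) ^ (p ^ j) := pow_dvd_pow _ h1
      · rcases Nat.eq_zero_or_pos e₂ with he2 | he2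
        · rw [he2, pow_zero]; exact one_dvd _
        · have h2K : 2 ∣ K := hpar (hodd he2) hE
          have h11 : (X + 1 : F[X]) ∣ X ^ K - 1 := by
            have h12 : ((X : F[X]) ^ 2 - 1) ∣ X ^ K - 1 := pow_sub_one_dvd' h2K
            refine dvd_trans ⟨X - 1, by ring⟩ h12
          calc (X + 1 : F[X]) ^ e₂ ∣ (X ^ K - 1) ^ e₂ := pow_dvd_pow_of_dvd h11 _
            _ ∣ (X ^ K - 1) ^ (p ^ j) := pow_dvd_pow _ h2
      · exact hdvd.trans (pow_dvd_pow _ h3)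
    · have hνu : ν ∣ 1 := by rw [hE, pow_zero] at hdvd; exact hdvd
      have hνu' : ∀ R : F[X], ν ∣ R := fun R => hνu.trans (one_dvd R)
      refine ⟨fun he2 => ?_, fun he1 => ?_, ?_⟩
      · have h7 := hfrob 1
        rw [pow_one, one_mul] at h7
        rw [← h7]
        refine hcomb _ (pow_dvd_pow _ h1) ?_ (hνu' _)
        rw [he2, pow_zero]; exact one_dvd _
      · rw [← hfrob2]
        refine hcomb _ ?_ (pow_dvd_pow _ h2) (hνu' _)
        rw [he1, pow_zero]; exact one_dvd _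
      · rw [← hfrob]
        have h8 : ((X : F[X]) ^ 2 - 1) = (X - 1) * (X + 1) := by ring
        rw [h8, mul_pow]
        refine hcomb _ ?_ ?_ (hνu' _)
        · exact dvd_mul_of_dvd_left (pow_dvd_pow _ h1) _
        · exact dvd_mul_of_dvd_right (pow_dvd_pow _ h2) _

end Core2

end Cfsg.Agent.Lib.Meo
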