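import Mathlib
import Cfsg.Agent.Lib.Helper7.MeoCore2

/-!
Small cases of the self-reciprocal bound (needed for graph automorphisms of `PSL_d(q)`, S2262).
-/

namespace Cfsg.Agent.Lib.Meo

open Polynomial

theorem exists_pow_ge (p M : ℕ) (hp : 2 ≤ p) :
    ∃ j, M ≤ p ^ j ∧ (M ≤ 1 → p ^ j = 1) ∧ (2 ≤ M → p ^ j ≤ p * (M - 1)) ∧ (M ≤ p → p ^ j ≤ p) := by
  have hex : ∃ j, M ≤ p ^ j := ⟨M, (Nat.lt_pow_self hp).le⟩
  refine ⟨Nat.find hex, Nat.find_spec hex, ?_, ?_, ?_⟩
  · intro hM
    have h0 : Nat.find hex ≤ 0 := Nat.find_le (by simpa using hM)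
    have h1 : Nat.find hex = 0 := by omega
    rw [h1, pow_zero]
  · intro hM
    have hpos : Nat.find hex ≠ 0 := by
      intro h0
      have := Nat.find_spec hex
      rw [h0, pow_zero] at this
      omega
    obtain ⟨i, hi⟩ := Nat.exists_eq_succ_of_ne_zero hpos
    have hmin : ¬ M ≤ p ^ i := Nat.find_min hex (by omega)
    rw [hi, pow_succ, mul_comm]
    exact Nat.mul_le_mul_left p (by omega)
  · intro hM
    have h1 : Nat.find hex ≤ 1 := Nat.find_le (by simpa using hM)
    calc p ^ Nat.find hex ≤ p ^ 1 := Nat.pow_le_pow_right (by omega) h1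
      _ = p := pow_one p

section Small

variable {F : Type*} [Field F] [Fintype F]

set_option maxHeartbeats 1000000 in
theorem sr_small (hN1 : N1stmt) (hF3 : F3stmt F) (μ : F[X]) (hsr : SR μ) (d : ℕ)
    (hdeg : μ.natDegree ≤ d)
    (hcase : (d = 3 ∧ 3 ≤ Fintype.card F) ∨ (d = 4 ∧ Fintype.card F = 2) ∨
      (d = 5 ∧ Fintype.card F = 2)) :
    ∃ k, 0 < k ∧ (μ ∣ X ^ k - 1 ∨ μ ∣ X ^ k + 1) ∧
      (Fintype.card F - 1) * (2 * k) ≤ Fintype.card F ^ d - 1 := by
  obtain ⟨p, hchar⟩ := CharP.exists F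
  have hpp : p.Prime := CharP.char_is_prime F p
  have : Fact p.Prime := ⟨hpp⟩
  obtain ⟨⟨n, hn⟩, _, hqn⟩ := FiniteField.card F p
  have hqn' : Fintype.card F = p ^ n := hqn
  have hp2 : 2 ≤ p := hpp.two_le
  have hple : p ≤ Fintype.card F := by
    rw [hqn']
    calc p = p ^ 1 := (pow_one p).symm
      _ ≤ p ^ n := Nat.pow_le_pow_right (by omega) hn
  have hp2q : p = 2 → 3 ≤ Fintype.card F → 4 ≤ Fintype.card F := by
    intro h2 h3
    rw [hqn', h2] at h3 ⊢
    have hn2 : 2 ≤ n := by
      by_contra hlt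
      have : n = 1 := by omega
      rw [this] at h3
      omega
    calc 4 = 2 ^ 2 := by norm_num
      _ ≤ 2 ^ n := Nat.pow_le_pow_right (by norm_num) hn2
  obtain ⟨e₁, e₂, A, E, K, hsum, hK, hKb, hodd, hdiv⟩ := core_data hN1 hF3 p μ hsr
  have hsum' : e₁ + e₂ + 2 * A + 2 * (E - 1) ≤ d := hsum.trans hdeg
  obtain ⟨j, hj1, hj2, hj3, hj4⟩ := exists_pow_ge p (max e₁ (max e₂ E)) hp2
  have hd := hdiv j ((le_max_left _ _).trans hj1)
    (((le_max_left _ _).trans (le_max_right _ _)).trans hj1)
    (((le_max_right _ _).trans (le_max_right _ _)).trans hj1)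
  have hpj : 0 < p ^ j := pow_pos (by omega) j
  obtain ⟨c, hc⟩ : ∃ c, Fintype.card F = c + 1 := ⟨Fintype.card F - 1, by
    have : 2 ≤ Fintype.card F := Fintype.one_lt_card
    omega⟩
  have hc1 : 1 ≤ c := by
    have : 2 ≤ Fintype.card F := Fintype.one_lt_card
    omega
  -- reduce the goal to: find k with the divisibility and `2 * k ≤ B` where `c * B = q ^ d - 1`
  have key : ∀ (B k : ℕ), c * B = Fintype.card F ^ d - 1 → 2 * k ≤ B →
      (Fintype.card F - 1) * (2 * k) ≤ Fintype.card F ^ d - 1 := by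
    intro B k hB hk
    rw [← hB, hc, Nat.add_sub_cancel]
    exact Nat.mul_le_mul_left c hk
  obtain ⟨M, hM⟩ : ∃ M, M = max e₁ (max e₂ E) := ⟨_, rfl⟩
  rw [← hM] at hj1 hj2 hj3 hj4
  have hple' : p ≤ c + 1 := by rw [← hc]; exact hple
  have hMe1 : e₁ ≤ M := hM ▸ le_max_left _ _
  have hMe2 : e₂ ≤ M := hM ▸ (le_max_left _ _).trans (le_max_right _ _)
  have hME : E ≤ M := hM ▸ (le_max_right _ _).trans (le_max_right _ _)
  have hMle : M ≤ e₁ ∨ M ≤ e₂ ∨ M ≤ E := by
    rcases le_total e₁ (max e₂ E) with h | h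
    · rcases le_total e₂ E with h' | h'
      · right; right; rw [hM, max_eq_right h, max_eq_right h']
      · right; left; rw [hM, max_eq_right h, max_eq_left h']
    · left; rw [hM, max_eq_left h]
  rcases hcase with ⟨rfl, hq3⟩ | ⟨rfl, hq2⟩ | ⟨rfl, hq2⟩
  · -- d = 3, q ≥ 3
    have hc2 : 2 ≤ c := by omega
    have hB : c * (c ^ 2 + 3 * c + 3) = Fintype.card F ^ 3 - 1 := by
      rw [hc]
      have : (c + 1) ^ 3 = c * (c ^ 2 + 3 * c + 3) + 1 := by ring
      rw [this, Nat.add_sub_cancel]
    have hM3 : M ≤ 3 := by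
      rcases hMle with h | h | h <;> omega
    -- p ^ j ≤ q + 1 = c + 2 (indeed ≤ q)
    have hpjq : p ^ j ≤ c + 1 := by
      by_cases hMp : M ≤ p
      · exact (hj4 hMp).trans hple'
      · have hp2' : p = 2 := by omega
        have hM2 : 2 ≤ M := by omega
        have h4 := hp2q hp2' hq3
        have := hj3 hM2
        rw [hp2'] at this ⊢
        have h5 : 2 * (M - 1) ≤ 4 := by omega
        omega
    rcases Nat.eq_zero_or_pos E with hE | hE
    · -- E = 0
      obtain ⟨hd1, hd2, hd3⟩ := hd.2 hE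
      rcases Nat.eq_zero_or_pos e₂ with he2 | he2
      · refine ⟨p ^ j, hpj, Or.inl (hd1 he2), key _ _ hB ?_⟩
        omega
      · rcases Nat.eq_zero_or_pos e₁ with he1 | he1
        · refine ⟨p ^ j, hpj, Or.inr (hd2 he1), key _ _ hB ?_⟩
          omega
        · -- both signs
          have hM2 : M ≤ 2 := by
            rcases hMle with h | h | h <;> omega
          have hpj' : p ^ j ≤ p := hj4 (hM2.trans hp2)
          have hpjq' : p ^ j ≤ c + 1 := hpj'.trans hple'
          have hcc : 2 * c ≤ c ^ 2 := by nlinarith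
          refine ⟨2 * p ^ j, by omega, Or.inl hd3, key _ _ hB ?_⟩
          omega
    · -- E ≥ 1
      have hdv := hd.1 hE
      have hA1 : A ≤ 1 := by omega
      rcases Nat.eq_zero_or_pos A with hA | hA
      · -- A = 0, K = 1
        have hK1 : K = 1 := by
          rw [hA, hc, Nat.add_sub_cancel, zero_add, pow_one, Nat.add_sub_cancel] at hKb
          have : c * K ≤ c * 1 := by simpa using hKb
          have := Nat.le_of_mul_le_mul_left this (by omega)
          omega
        rw [hK1, one_mul] at hdv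
        refine ⟨p ^ j, hpj, Or.inl hdv, key _ _ hB ?_⟩
        omega
      · -- A = 1
        have hA' : A = 1 := by omega
        have hM1 : M ≤ 1 := by
          rcases hMle with h | h | h <;> omega
        have hpj1 : p ^ j = 1 := hj2 hM1
        rw [hpj1, mul_one] at hdv
        have hK2 : K ≤ c + 2 := by
          rw [hA', hc, Nat.add_sub_cancel] at hKb
          have h6 : (c + 1) ^ (1 + 1) - 1 = c * (c + 2) := by
            have : (c + 1) ^ (1 + 1) = c * (c + 2) + 1 := by ring
            rw [this, Nat.add_sub_cancel]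
          rw [h6] at hKb
          exact Nat.le_of_mul_le_mul_left hKb (by omega)
        refine ⟨K, hK, Or.inl hdv, key _ _ hB ?_⟩
        omega
  · -- d = 4, q = 2
    have hc' : c = 1 := by omega
    have hp' : p = 2 := by omega
    have hB : c * 15 = Fintype.card F ^ 4 - 1 := by rw [hq2, hc']; norm_num
    have hnodd : ¬ Odd (Fintype.card F) := by rw [hq2]; decide
    have he2 : e₂ = 0 := by
      by_contra h
      exact hnodd (hodd (Nat.pos_of_ne_zero h))
    have hpjle : p ^ j ≤ 6 ∧ (M ≤ 2 → p ^ j ≤ 2) ∧ (M ≤ 1 → p ^ j = 1) := by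
      refine ⟨?_, ?_, hj2⟩
      · by_cases h2 : 2 ≤ M
        · have := hj3 h2
          rw [hp'] at this ⊢
          have hM4 : M ≤ 4 := by rcases hMle with h | h | h <;> omega
          omega
        · rw [hj2 (by omega)]; norm_num
      · intro hM2
        have := hj4 (hM2.trans hp2)
        omega
    rcases Nat.eq_zero_or_pos E with hE | hE
    · obtain ⟨hd1, _, _⟩ := hd.2 hE
      refine ⟨p ^ j, hpj, Or.inl (hd1 he2), key _ _ hB ?_⟩
      omega
    · have hdv := hd.1 hE
      have hKb' : K ≤ 2 ^ (A + 1) - 1 := by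
        rw [hq2] at hKb
        simpa using hKb
      have hA2 : A ≤ 2 := by omega
      refine ⟨K * p ^ j, Nat.mul_pos hK hpj, Or.inl hdv, key _ _ hB ?_⟩
      interval_cases A
      · have : K ≤ 1 := by simpa using hKb'
        have hK1 : K = 1 := by omega
        rw [hK1]; omega
      · have hK3 : K ≤ 3 := by simpa using hKb'
        have hM2 : M ≤ 2 := by rcases hMle with h | h | h <;> omega
        have := hpjle.2.1 hM2
        calc 2 * (K * p ^ j) ≤ 2 * (3 * 2) := by
              exact Nat.mul_le_mul_left 2 (Nat.mul_le_mul hK3 this)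
          _ ≤ 15 := by norm_num
      · have hK7 : K ≤ 7 := by simpa using hKb'
        have hM1 : M ≤ 1 := by rcases hMle with h | h | h <;> omega
        rw [hpjle.2.2 hM1]; omega
  · -- d = 5, q = 2
    have hc' : c = 1 := by omega
    have hp' : p = 2 := by omega
    have hB : c * 31 = Fintype.card F ^ 5 - 1 := by rw [hq2, hc']; norm_num
    have hnodd : ¬ Odd (Fintype.card F) := by rw [hq2]; decide
    have he2 : e₂ = 0 := by
      by_contra h
      exact hnodd (hodd (Nat.pos_of_ne_zero h))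
    have hM5 : M ≤ 5 := by rcases hMle with h | h | h <;> omega
    have hpjle : p ^ j ≤ 8 ∧ (M ≤ 3 → p ^ j ≤ 4) ∧ (M ≤ 1 → p ^ j = 1) := by
      refine ⟨?_, ?_, hj2⟩
      · by_cases h2 : 2 ≤ M
        · have := hj3 h2
          rw [hp'] at this ⊢
          omega
        · rw [hj2 (by omega)]; norm_num
      · intro hM3
        by_cases h2 : 2 ≤ M
        · have := hj3 h2
          rw [hp'] at this ⊢
          omega
        · rw [hj2 (by omega)]; norm_num
    rcases Nat.eq_zero_or_pos E with hE | hE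
    · obtain ⟨hd1, _, _⟩ := hd.2 hE
      refine ⟨p ^ j, hpj, Or.inl (hd1 he2), key _ _ hB ?_⟩
      omega
    · have hdv := hd.1 hE
      have hKb' : K ≤ 2 ^ (A + 1) - 1 := by
        rw [hq2] at hKb
        simpa using hKb
      have hA2 : A ≤ 2 := by omega
      refine ⟨K * p ^ j, Nat.mul_pos hK hpj, Or.inl hdv, key _ _ hB ?_⟩
      interval_cases A
      · have : K ≤ 1 := by simpa using hKb'
        have hK1 : K = 1 := by omega
        rw [hK1]; omega
      · have hK3 : K ≤ 3 := by simpa using hKb'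
        have hM3 : M ≤ 3 := by rcases hMle with h | h | h <;> omega
        have := hpjle.2.1 hM3
        calc 2 * (K * p ^ j) ≤ 2 * (3 * 4) := by
              exact Nat.mul_le_mul_left 2 (Nat.mul_le_mul hK3 this)
          _ ≤ 31 := by norm_num
      · have hK7 : K ≤ 7 := by simpa using hKb'
        have hM1 : M ≤ 1 := by rcases hMle with h | h | h <;> omega
        rw [hpjle.2.2 hM1]; omega

end Small

end Cfsg.Agent.Lib.Meo
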