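import Mathlib
import Cfsg.Agent.Lib.Helper7.MeoMat
import Cfsg.Agent.Lib.Helper7.MeoSmall

/-!
Matrix-level lemmas for the maximal order of an automorphism of `PSL_d(q)` (S2262).
-/

namespace Cfsg.Agent.Lib.Meo

open Polynomial Matrix

/-- package PK-D (Galois descent to the fixed field), as a hypothesis. -/
def Dstmt (F : Type*) [Field F] [Fintype F] : Prop :=
  ∀ σ : F ≃+* F, ∃ (K : Subfield F) (_ : Fintype K),
    Fintype.card K ^ orderOf σ = Fintype.card F ∧
    ∀ P : F[X], P.map (σ : F →+* F) = P → ∃ P₀ : (↥K)[X], P₀.map K.subtype = P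

/-- package PK-B (the `PGL`-type bound for polynomials), as a hypothesis. -/
def Bstmt (K : Type*) [Field K] [Fintype K] : Prop :=
  ∀ μ : K[X], μ.coeff 0 ≠ 0 → 1 ≤ μ.natDegree →
    ∃ k : ℕ, 0 < k ∧ ∃ c : K, c ≠ 0 ∧ μ ∣ X ^ k - C c ∧
      (Fintype.card K - 1) * k ≤ Fintype.card K ^ μ.natDegree - 1

section AutMat

variable {F : Type*} [Field F] {ι : Type*} [Fintype ι] [DecidableEq ι]

theorem coeff_zero_minpoly_ne (A A' : Matrix ι ι F) (h1 : A * A' = 1) :
    (minpoly F A).coeff 0 ≠ 0 := by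
  have h2 : A' * A = 1 := mul_eq_one_comm.mp h1
  have hμ : aeval A (minpoly F A) = 0 := minpoly.aeval F A
  have hint : IsIntegral F A := Matrix.isIntegral A
  have hμ0 : minpoly F A ≠ 0 := minpoly.ne_zero hint
  intro hc
  obtain ⟨h', hh'⟩ := X_dvd_iff.mpr hc
  have h4 : aeval A h' = 0 := by
    have h5 : A * aeval A h' = 0 := by
      have := hμ
      rw [hh', map_mul, aeval_X] at this
      exact this
    calc aeval A h' = (A' * A) * aeval A h' := by rw [h2, one_mul]
      _ = A' * (A * aeval A h') := by rw [mul_assoc]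
      _ = 0 := by rw [h5, mul_zero]
  have h6 : minpoly F A ∣ h' := minpoly.dvd F A h4
  have hh'0 : h' ≠ 0 := by
    rintro rfl
    rw [mul_zero] at hh'
    exact hμ0 hh'
  have h7 := natDegree_le_of_dvd h6 hh'0
  have h8 : (minpoly F A).natDegree = 1 + h'.natDegree := by
    conv_lhs => rw [hh']
    rw [natDegree_mul X_ne_zero hh'0, natDegree_X]
  omega

theorem natDegree_minpoly_le (A : Matrix ι ι F) : (minpoly F A).natDegree ≤ Fintype.card ι := by
  have h3 := natDegree_le_of_dvd (Matrix.minpoly_dvd_charpoly A) (Matrix.charpoly_monic A).ne_zero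
  rwa [Matrix.charpoly_natDegree_eq_dim] at h3

theorem sr_minpoly (A A' : Matrix ι ι F) (h1 : A * A' = 1)
    (hrec : ∀ P : F[X], aeval A P = 0 → aeval A' P = 0) : SR (minpoly F A) := by
  have h2 : A' * A = 1 := mul_eq_one_comm.mp h1
  refine ⟨coeff_zero_minpoly_ne A A' h1, minpoly.dvd F A ?_⟩
  rw [aeval_rev_eq A A' h1 h2, hrec _ (minpoly.aeval F A), mul_zero]

theorem aeval_dvd_zero (A : Matrix ι ι F) (R : F[X]) (h : minpoly F A ∣ R) : aeval A R = 0 := by
  obtain ⟨c, rfl⟩ := h
  rw [map_mul, minpoly.aeval, zero_mul]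

/-- applying a ring endomorphism to entries and coefficients. -/
theorem aeval_map_map (σ : F →+* F) (M : Matrix ι ι F) (P : F[X]) :
    aeval (M.map σ) (P.map σ) = (aeval M P).map σ := by
  have hlt : (P.map σ).natDegree < P.natDegree + 1 := Nat.lt_succ_of_le natDegree_map_le
  rw [aeval_eq_sum_range' hlt, aeval_eq_sum_range]
  have hΦ : ∀ A : Matrix ι ι F, A.map σ = σ.mapMatrix A := fun A => rfl
  rw [hΦ (∑ i ∈ Finset.range (P.natDegree + 1), P.coeff i • M ^ i), map_sum]
  refine Finset.sum_congr rfl ?_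
  intro i _
  rw [coeff_map, hΦ M, ← map_pow]
  ext a b
  simp [Matrix.smul_apply]

theorem minpoly_map_eq (σ : F →+* F) (N g g' : Matrix ι ι F) (hg : g * g' = 1)
    (hsim : g * N.map σ = N * g) : (minpoly F N).map σ = minpoly F N := by
  have hg' : g' * g = 1 := mul_eq_one_comm.mp hg
  have hNσ : N.map σ = g' * N * g := by
    calc N.map σ = (g' * g) * N.map σ := by rw [hg', one_mul]
      _ = g' * (g * N.map σ) := by rw [mul_assoc]
      _ = g' * N * g := by rw [hsim, mul_assoc]
  have h1 : aeval (N.map σ) ((minpoly F N).map σ) = 0 := by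
    rw [aeval_map_map, minpoly.aeval]
    ext a b
    simp
  rw [hNσ, aeval_conj _ _ _ hg] at h1
  have h2 : aeval N ((minpoly F N).map σ) = 0 := by
    calc aeval N ((minpoly F N).map σ)
        = (g * g') * aeval N ((minpoly F N).map σ) * (g * g') := by rw [hg, one_mul, mul_one]
      _ = g * (g' * aeval N ((minpoly F N).map σ) * g) * g' := by
          simp only [mul_assoc]
      _ = 0 := by rw [h1, mul_zero, zero_mul]
  have hmon : (minpoly F N).Monic := minpoly.monic (Matrix.isIntegral N)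
  have hmon' : ((minpoly F N).map σ).Monic := hmon.map σ
  have hdvd : minpoly F N ∣ (minpoly F N).map σ := minpoly.dvd F N h2
  exact eq_of_monic_of_dvd_of_natDegree_le hmon hmon' hdvd (by rw [hmon.natDegree_map])

end AutMat

section AutMatFin

variable {F : Type*} [Field F] [Fintype F] {ι : Type*} [Fintype ι] [DecidableEq ι]

/-- (M1) the norm of a semilinear map has small projective order. -/
theorem norm_pow_scalar (hD : Dstmt F) (hB : ∀ (K : Subfield F) (inst : Fintype K), @Bstmt (↥K) _ inst)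
    (σ : F ≃+* F) (N N' g g' : Matrix ι ι F) (hN : N * N' = 1) (hg : g * g' = 1)
    (hsim : g * N.map (σ : F →+* F) = N * g) (hι : 1 ≤ Fintype.card ι) :
    ∃ q₀ k : ℕ, ∃ c : F, 2 ≤ q₀ ∧ q₀ ^ orderOf σ = Fintype.card F ∧ 0 < k ∧ c ≠ 0 ∧
      N ^ k = c • (1 : Matrix ι ι F) ∧ (q₀ - 1) * k ≤ q₀ ^ Fintype.card ι - 1 := by
  obtain ⟨K, instK, hcard, hlift⟩ := hD σ
  have hμσ := minpoly_map_eq (σ : F →+* F) N g g' hg hsim
  obtain ⟨P₀, hP₀⟩ := hlift _ hμσ
  have hinj : Function.Injective K.subtype := K.subtype.injective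
  have hdegP : P₀.natDegree = (minpoly F N).natDegree := by
    rw [← hP₀, natDegree_map_eq_of_injective hinj]
  have hc0 : P₀.coeff 0 ≠ 0 := by
    intro h
    have := coeff_zero_minpoly_ne N N' hN
    rw [← hP₀, coeff_map, h, map_zero] at this
    exact this rfl
  have hne : Nonempty ι := Fintype.card_pos_iff.mp hι
  have hint : IsIntegral F N := Matrix.isIntegral N
  have hpos : 1 ≤ P₀.natDegree := by
    rw [hdegP]
    exact minpoly.natDegree_pos hint
  obtain ⟨k, hk, c, hc, hdvd, hb⟩ := hB K instK P₀ hc0 hpos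
  have hdvd' : minpoly F N ∣ X ^ k - C (K.subtype c) := by
    have := Polynomial.map_dvd K.subtype hdvd
    rwa [hP₀, Polynomial.map_sub, Polynomial.map_pow, map_X, map_C] at this
  have h0 := aeval_dvd_zero N _ hdvd'
  rw [map_sub, map_pow, aeval_X, aeval_C] at h0
  have hq0 : 2 ≤ Fintype.card K := Fintype.one_lt_card
  refine ⟨Fintype.card K, k, K.subtype c, hq0, hcard, hk, ?_, ?_, ?_⟩
  · intro h
    exact hc (hinj (by rw [h, map_zero]))
  · rw [← Algebra.algebraMap_eq_smul_one]
    exact sub_eq_zero.mp h0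
  · refine hb.trans (Nat.sub_le_sub_right ?_ 1)
    refine Nat.pow_le_pow_right (by omega) ?_
    rw [hdegP]
    exact natDegree_minpoly_le N

omit [Fintype F] in
theorem reverse_map_of_injective {K : Type*} [Field K] (f : K →+* F) (hf : Function.Injective f)
    (P : K[X]) : (P.map f).reverse = P.reverse.map f := by
  have h1 : (P.map f).reverse = reflect (P.map f).natDegree (P.map f) := rfl
  have h2 : P.reverse = reflect P.natDegree P := rfl
  rw [h1, h2, natDegree_map_eq_of_injective hf, reflect_map]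

omit [Fintype F] in
/-- the twisted self-reciprocity of the minimal polynomial. -/
theorem twisted_dvd (σ : F →+* F) (N N' : Matrix ι ι F) (hN : N * N' = 1)
    (htw : ∀ P : F[X], aeval N P = 0 → aeval N' (P.map σ) = 0) :
    minpoly F N ∣ ((minpoly F N).map σ).reverse := by
  have h2 : N' * N = 1 := mul_eq_one_comm.mp hN
  refine minpoly.dvd F N ?_
  rw [aeval_rev_eq N N' hN h2, htw _ (minpoly.aeval F N), mul_zero]

/-- (M4) the general graph-field case, by restriction of scalars. -/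
theorem twisted_pow (hN1 : N1stmt) (hD : Dstmt F)
    (hF3K : ∀ (K : Subfield F) (inst : Fintype K), @F3stmt (↥K) _ inst)
    (σ : F ≃+* F) (hσ2 : orderOf σ = 2) (N N' : Matrix ι ι F) (hN : N * N' = 1)
    (htw : ∀ P : F[X], aeval N P = 0 → aeval N' (P.map (σ : F →+* F)) = 0) (d : ℕ)
    (hd : Fintype.card ι ≤ d) (hd2 : 2 ≤ d) :
    ∃ q₀ k : ℕ, 2 ≤ q₀ ∧ q₀ ^ 2 = Fintype.card F ∧ 0 < k ∧ (N ^ k = 1 ∨ N ^ k = -1) ∧
      (q₀ - 1) * k ≤ q₀ ^ (d + 1) := by
  obtain ⟨K, instK, hcard, hlift⟩ := hD σ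
  rw [hσ2] at hcard
  have hσσ : ∀ x : F, σ (σ x) = x := by
    intro x
    have h := pow_orderOf_eq_one σ
    rw [hσ2] at h
    have := congrArg (fun τ : F ≃+* F => τ x) h
    simpa [pow_two, RingAut.mul_apply] using this
  have hcomp : (σ : F →+* F).comp (σ : F →+* F) = RingHom.id F := by
    ext x
    exact hσσ x
  set μ := minpoly F N with hμdef
  have hμσσ : (μ.map (σ : F →+* F)).map (σ : F →+* F) = μ := by
    rw [Polynomial.map_map, hcomp, Polynomial.map_id]
  have hinjσ : Function.Injective (σ : F →+* F) := σ.injective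
  -- (a)
  have ha : (μ * μ.map (σ : F →+* F)).map (σ : F →+* F) = μ * μ.map (σ : F →+* F) := by
    rw [Polynomial.map_mul, hμσσ, mul_comm]
  -- (b)
  have hμ0 : μ.coeff 0 ≠ 0 := coeff_zero_minpoly_ne N N' hN
  have hμσ0 : (μ.map (σ : F →+* F)).coeff 0 ≠ 0 := by
    rw [coeff_map]
    intro h
    exact hμ0 (hinjσ (by rw [h, map_zero]))
  have hb1 : μ ∣ (μ.map (σ : F →+* F)).reverse := twisted_dvd (σ : F →+* F) N N' hN htw
  have hb2 : μ.map (σ : F →+* F) ∣ μ.reverse := by
    have := Polynomial.map_dvd (σ : F →+* F) hb1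
    rwa [← reverse_map_of_injective _ hinjσ, hμσσ] at this
  have hsr : SR (μ * μ.map (σ : F →+* F)) := by
    refine ⟨by rw [mul_coeff_zero]; exact mul_ne_zero hμ0 hμσ0, ?_⟩
    rw [reverse_mul_of_domain, mul_comm μ.reverse]
    exact mul_dvd_mul hb1 hb2
  -- (c)
  obtain ⟨P₀, hP₀⟩ := hlift _ ha
  have hinj : Function.Injective K.subtype := K.subtype.injective
  have hsr0 : SR P₀ := by
    refine ⟨?_, ?_⟩
    · intro h
      have := hsr.1
      rw [← hP₀, coeff_map, h, map_zero] at this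
      exact this rfl
    · rw [← Polynomial.map_dvd_map' K.subtype, ← reverse_map_of_injective _ hinj, hP₀]
      exact hsr.2
  -- (d)
  have hdeg0 : P₀.natDegree ≤ 2 * d := by
    have h1 : P₀.natDegree = (μ * μ.map (σ : F →+* F)).natDegree := by
      rw [← hP₀, natDegree_map_eq_of_injective hinj]
    have hμne : μ ≠ 0 := ne_zero_of_coeff_zero_ne hμ0
    have hμσne : μ.map (σ : F →+* F) ≠ 0 := ne_zero_of_coeff_zero_ne hμσ0
    rw [h1, natDegree_mul hμne hμσne, natDegree_map_eq_of_injective hinjσ]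
    have : μ.natDegree ≤ Fintype.card ι := natDegree_minpoly_le N
    omega
  obtain ⟨k, hk, hdvd, hb⟩ := core hN1 (hF3K K instK) P₀ hsr0 d (Or.inl ⟨hdeg0, hd2⟩)
  have hq0 : 2 ≤ Fintype.card K := Fintype.one_lt_card
  refine ⟨Fintype.card K, k, hq0, hcard, hk, ?_, hb⟩
  have hμdvd : μ ∣ μ * μ.map (σ : F →+* F) := dvd_mul_right _ _
  rcases hdvd with h | h
  · left
    have h1 := Polynomial.map_dvd K.subtype h
    rw [hP₀, Polynomial.map_sub, Polynomial.map_pow, map_X, Polynomial.map_one] at h1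
    have h0 := aeval_dvd_zero N _ (hμdvd.trans h1)
    rw [map_sub, map_pow, aeval_X, map_one] at h0
    exact sub_eq_zero.mp h0
  · right
    have h1 := Polynomial.map_dvd K.subtype h
    rw [hP₀, Polynomial.map_add, Polynomial.map_pow, map_X, Polynomial.map_one] at h1
    have h0 := aeval_dvd_zero N _ (hμdvd.trans h1)
    rw [map_add, map_pow, aeval_X, map_one] at h0
    exact eq_neg_of_add_eq_zero_left h0

end AutMatFin

end Cfsg.Agent.Lib.Meo
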