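import Mathlib
import Cfsg.Agent.Lib.Helper5.SLnOut3
import Cfsg.Agent.Lib.Helper7.MeoAutMat

/-!
Group-level part of S2262: orders of the automorphisms `semi g σ` and `semi g σ * tauBar`
of `PSL_n(F)` (helper5's calculus `Cfsg.Agent.Lib.Helper5.SLnAut`).
-/

namespace Cfsg.Agent.Lib.Meo

open Polynomial Matrix Cfsg.Agent.Lib.Helper5.SLnAut

section Grp

variable {F : Type*} [Field F] {n : ℕ}

/-- the iterated norm `g σ(g) ⋯ σ^(k-1)(g)`. -/
noncomputable def normSeq (g : GL (Fin n) F) (σ : F ≃+* F) : ℕ → GL (Fin n) F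
  | 0 => 1
  | (k + 1) => g * Matrix.GeneralLinearGroup.map (σ : F →+* F) (normSeq g σ k)

theorem semi_pow (g : GL (Fin n) F) (σ : F ≃+* F) (k : ℕ) :
    (semi g σ) ^ k = semi (normSeq g σ k) (σ ^ k) := by
  induction k with
  | zero => rw [pow_zero, pow_zero]; exact semi_one_one.symm
  | succ k ih =>
    rw [pow_succ', ih, semi_mul_semi, ← pow_succ']
    rfl

theorem coe_map (σ : F →+* F) (g : GL (Fin n) F) :
    ((Matrix.GeneralLinearGroup.map σ g : GL (Fin n) F) : Matrix (Fin n) (Fin n) F)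
      = (g : Matrix (Fin n) (Fin n) F).map σ := rfl

theorem normSeq_succ_coe (g : GL (Fin n) F) (σ : F ≃+* F) (k : ℕ) :
    ((normSeq g σ (k + 1) : GL (Fin n) F) : Matrix (Fin n) (Fin n) F)
      = (g : Matrix (Fin n) (Fin n) F) *
        ((normSeq g σ k : GL (Fin n) F) : Matrix (Fin n) (Fin n) F).map (σ : F →+* F) := rfl

theorem normSeq_succ_coe' (g : GL (Fin n) F) (σ : F ≃+* F) (k : ℕ) :
    ((normSeq g σ (k + 1) : GL (Fin n) F) : Matrix (Fin n) (Fin n) F)
      = ((normSeq g σ k : GL (Fin n) F) : Matrix (Fin n) (Fin n) F) *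
        (g : Matrix (Fin n) (Fin n) F).map ((σ ^ k : F ≃+* F) : F →+* F) := by
  induction k with
  | zero =>
    rw [normSeq_succ_coe]
    have h1 : ((normSeq g σ 0 : GL (Fin n) F) : Matrix (Fin n) (Fin n) F) = 1 := rfl
    rw [h1, one_mul]
    have h2 : (1 : Matrix (Fin n) (Fin n) F).map (σ : F →+* F) = 1 := by
      ext i j
      simp [Matrix.one_apply, apply_ite]
    rw [h2, mul_one]
    ext i j
    simp
  | succ k ih =>
    rw [normSeq_succ_coe g σ (k + 1), ih, Matrix.map_mul, ← mul_assoc, ← normSeq_succ_coe]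
    congr 1
    ext i j
    simp [pow_succ', RingAut.mul_apply]

theorem semi_one_pow (N : GL (Fin n) F) (k : ℕ) :
    (semi N (1 : F ≃+* F)) ^ k = semi (N ^ k) 1 := by
  induction k with
  | zero => rw [pow_zero, pow_zero]; exact semi_one_one.symm
  | succ k ih => rw [pow_succ', ih, Cfsg.Agent.Lib.Helper5.SLnBN.semi_one_mul_semi, ← pow_succ']

theorem semi_scalar_eq_one (N : GL (Fin n) F) (c : F) (hc : c ≠ 0)
    (h : (N : Matrix (Fin n) (Fin n) F) = c • (1 : Matrix (Fin n) (Fin n) F)) :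
    semi N (1 : F ≃+* F) = 1 := by
  rw [semi_eq_of_smul N 1 1 c hc (by rw [h]; rfl)]
  exact semi_one_one

theorem coe_mul_coe_inv (g : GL (Fin n) F) :
    (g : Matrix (Fin n) (Fin n) F) * ((g⁻¹ : GL (Fin n) F) : Matrix (Fin n) (Fin n) F) = 1 := by
  rw [← Units.val_mul, mul_inv_cancel, Units.val_one]

end Grp

section GrpFin

variable {F : Type*} [Field F] [Fintype F] {n : ℕ}

theorem eps0_bound (hD : Dstmt F)
    (hB : ∀ (K : Subfield F) (inst : Fintype K), @Bstmt (↥K) _ inst) (hn : 1 ≤ n)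
    (g : GL (Fin n) F) (σ : F ≃+* F) :
    ∃ q₀ k : ℕ, 2 ≤ q₀ ∧ q₀ ^ orderOf σ = Fintype.card F ∧ 0 < k ∧
      (q₀ - 1) * k ≤ q₀ ^ n - 1 ∧ (semi g σ) ^ (orderOf σ * k) = 1 := by
  set N := normSeq g σ (orderOf σ) with hNdef
  have hsim : (g : Matrix (Fin n) (Fin n) F) *
      (N : Matrix (Fin n) (Fin n) F).map (σ : F →+* F) = (N : Matrix (Fin n) (Fin n) F) *
      (g : Matrix (Fin n) (Fin n) F) := by
    rw [← normSeq_succ_coe, normSeq_succ_coe', pow_orderOf_eq_one]
    congr 1
  obtain ⟨q₀, k, c, hq₀, hcard, hk, hc, hpow, hb⟩ :=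
    norm_pow_scalar hD hB σ (N : Matrix (Fin n) (Fin n) F) _ (g : Matrix (Fin n) (Fin n) F) _
      (coe_mul_coe_inv N) (coe_mul_coe_inv g) hsim (by rw [Fintype.card_fin]; exact hn)
  rw [Fintype.card_fin] at hb
  refine ⟨q₀, k, hq₀, hcard, hk, hb, ?_⟩
  rw [pow_mul, semi_pow, pow_orderOf_eq_one, semi_one_pow]
  refine semi_scalar_eq_one _ c hc ?_
  rw [Units.val_pow_eq_pow_val]
  exact hpow

theorem finite_ringAut : Finite (F ≃+* F) :=
  Finite.of_injective (fun σ : F ≃+* F => (σ : F → F)) DFunLike.coe_injective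

/-- the four numeric packages. -/
def NL1 : Prop := ∀ (d Q e k : ℕ), 2 ≤ d → 2 ≤ Q → 1 ≤ e → ¬ (d = 2 ∧ Q = 2 ∧ e = 2) →
  (Q - 1) * k ≤ Q ^ d - 1 → (Q ^ e - 1) * (e * k) ≤ (Q ^ e) ^ d - 1

def NL2 : Prop := ∀ (d Q e k : ℕ), 3 ≤ d → 2 ≤ Q → 2 ≤ e → (3 ≤ e ∨ 4 ≤ Q) →
  (Q - 1) * k ≤ Q ^ d - 1 → (Q ^ e - 1) * (2 * e * k) ≤ (Q ^ e) ^ d - 1

def NL3 : Prop := ∀ (d q k : ℕ), 2 ≤ q → (6 ≤ d ∨ (4 ≤ d ∧ 3 ≤ q)) →
  (q - 1) * k ≤ q ^ ((d + 1) / 2 + 1) → (q - 1) * (2 * k) ≤ q ^ d - 1

def NL4 : Prop := ∀ (d Q k : ℕ), 3 ≤ d → 2 ≤ Q → ¬ (d = 3 ∧ Q = 2) →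
  (Q - 1) * k ≤ Q ^ (d + 1) → (Q ^ 2 - 1) * (2 * k) ≤ (Q ^ 2) ^ d - 1

/-- package PK-U3. -/
def U3stmt (F : Type*) [Field F] [Fintype F] : Prop :=
  Fintype.card F = 4 → ∀ σ : F ≃+* F, σ ≠ 1 → ∀ μ : F[X], μ.coeff 0 ≠ 0 → μ.natDegree ≤ 3 →
    μ ∣ (μ.map (σ : F →+* F)).reverse →
    ∃ k : ℕ, 0 < k ∧ k ≤ 10 ∧ ∃ c : F, c ≠ 0 ∧ μ ∣ X ^ k - C c

theorem upper_semi (hD : Dstmt F)
    (hB : ∀ (K : Subfield F) (inst : Fintype K), @Bstmt (↥K) _ inst) (h1 : NL1) (d : ℕ)
    (hd : 2 ≤ d) (h24 : ¬ (d = 2 ∧ Fintype.card F = 4)) (g : GL (Fin d) F) (σ : F ≃+* F) :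
    (Fintype.card F - 1) * orderOf (semi g σ) ≤ Fintype.card F ^ d - 1 := by
  have := finite_ringAut (F := F)
  obtain ⟨q₀, k, hq₀, hcard, hk, hb, hpow⟩ := eps0_bound hD hB (by omega) g σ
  have he : 1 ≤ orderOf σ := orderOf_pos σ
  have hle : orderOf (semi g σ) ≤ orderOf σ * k :=
    Nat.le_of_dvd (Nat.mul_pos he hk) (orderOf_dvd_of_pow_eq_one hpow)
  have hex : ¬ (d = 2 ∧ q₀ = 2 ∧ orderOf σ = 2) := by
    rintro ⟨hd2, hq2, he2⟩
    apply h24
    refine ⟨hd2, ?_⟩
    rw [← hcard, hq2, he2]; norm_num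
  have := h1 d q₀ (orderOf σ) k hd hq₀ he hex hb
  rw [hcard] at this
  exact (Nat.mul_le_mul_left _ hle).trans this

omit [Fintype F] in
theorem sq_semi_tau (g : GL (Fin n) F) (σ : F ≃+* F) :
    (semi g σ * tauBar) ^ 2
      = semi (g * Matrix.GeneralLinearGroup.map (σ : F →+* F) (tauGL g)) (σ * σ) := by
  rw [pow_two]
  calc semi g σ * tauBar * (semi g σ * tauBar)
      = semi g σ * (tauBar * semi g σ) * tauBar := by simp only [mul_assoc]
    _ = semi g σ * (semi (tauGL g) σ * tauBar) * tauBar := by rw [tauBar_mul_semi]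
    _ = semi g σ * semi (tauGL g) σ * (tauBar * tauBar) := by simp only [mul_assoc]
    _ = semi (g * Matrix.GeneralLinearGroup.map (σ : F →+* F) (tauGL g)) (σ * σ) := by
        rw [tauBar_mul_self, mul_one, semi_mul_semi]

theorem order_le_of_sq {G : Type*} [Group G] (β : G) (m : ℕ) (hm : 0 < m)
    (h : (β ^ 2) ^ m = 1) : orderOf β ≤ 2 * m :=
  Nat.le_of_dvd (by omega) (orderOf_dvd_of_pow_eq_one (by rw [pow_mul]; exact h))

omit [Fintype F] in
/-- the cosquare `g g⁻ᵀ` is similar to its inverse transpose. -/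
theorem cosquare_rec (g g' : Matrix (Fin n) (Fin n) F) (hg : g * g' = 1) :
    (g * g'ᵀ) * (gᵀ * g') = 1 ∧
    ∀ P : F[X], aeval (g * g'ᵀ) P = 0 → aeval (gᵀ * g') P = 0 := by
  have hg' : g' * g = 1 := mul_eq_one_comm.mp hg
  have ht : g'ᵀ * gᵀ = 1 := by rw [← Matrix.transpose_mul, hg, Matrix.transpose_one]
  constructor
  · calc g * g'ᵀ * (gᵀ * g') = g * (g'ᵀ * gᵀ) * g' := by simp only [Matrix.mul_assoc]
      _ = 1 := by rw [ht, Matrix.mul_one, hg]
  · intro P hP
    have h1 : gᵀ * g' = g * (g * g'ᵀ)ᵀ * g' := by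
      rw [Matrix.transpose_mul, Matrix.transpose_transpose]
      calc gᵀ * g' = (g * g') * gᵀ * g' := by rw [hg, Matrix.one_mul]
        _ = g * (g' * gᵀ) * g' := by simp only [Matrix.mul_assoc]
    rw [h1, aeval_conj _ _ _ hg', aeval_transpose', hP]
    simp

omit [Fintype F] in
/-- the twisted cosquare `g σ(g)⁻ᵀ` for an involutory `σ`. -/
theorem twisted_cosquare_rec (σ : F →+* F) (hσ : ∀ x, σ (σ x) = x)
    (g g' : Matrix (Fin n) (Fin n) F) (hg : g * g' = 1) :
    (g * (g'ᵀ).map σ) * ((gᵀ).map σ * g') = 1 ∧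
    ∀ P : F[X], aeval (g * (g'ᵀ).map σ) P = 0 → aeval ((gᵀ).map σ * g') (P.map σ) = 0 := by
  have hg' : g' * g = 1 := mul_eq_one_comm.mp hg
  have ht : g'ᵀ * gᵀ = 1 := by rw [← Matrix.transpose_mul, hg, Matrix.transpose_one]
  have hone : (1 : Matrix (Fin n) (Fin n) F).map σ = 1 := by
    ext i j
    simp [Matrix.one_apply, apply_ite]
  have htσ : (g'ᵀ).map σ * (gᵀ).map σ = 1 := by
    rw [← Matrix.map_mul, ht, hone]
  have hσσ : ∀ M : Matrix (Fin n) (Fin n) F, (M.map σ).map σ = M := by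
    intro M
    ext i j
    simp [hσ]
  constructor
  · calc g * (g'ᵀ).map σ * ((gᵀ).map σ * g')
        = g * ((g'ᵀ).map σ * (gᵀ).map σ) * g' := by simp only [Matrix.mul_assoc]
      _ = 1 := by rw [htσ, Matrix.mul_one, hg]
  · intro P hP
    have h1 : (gᵀ).map σ * g' = g * ((g * (g'ᵀ).map σ).map σ)ᵀ * g' := by
      rw [Matrix.map_mul, hσσ, Matrix.transpose_mul, Matrix.transpose_transpose]
      have h2 : (g.map σ)ᵀ = (gᵀ).map σ := by
        ext i j
        simp
      rw [h2]
      calc (gᵀ).map σ * g' = (g * g') * (gᵀ).map σ * g' := by rw [hg, Matrix.one_mul]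
        _ = g * (g' * (gᵀ).map σ) * g' := by simp only [Matrix.mul_assoc]
    rw [h1, aeval_conj _ _ _ hg', aeval_transpose', aeval_map_map, hP]
    simp

/-- the matrix `J` with `x⁻ᵀ = J x J⁻¹` on `SL₂`. -/
noncomputable def J2 : GL (Fin 2) F :=
  Matrix.GeneralLinearGroup.mkOfDetNeZero !![0, 1; -1, 0] (by simp [Matrix.det_fin_two])

omit [Fintype F] in
theorem tauBar_two :
    (tauBar : MulAut (Matrix.ProjectiveSpecialLinearGroup (Fin 2) F)) = semi J2 (1 : F ≃+* F) := by
  ext q
  obtain ⟨x, rfl⟩ := piN_surjective q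
  rw [tauBar_pi, semi_pi]
  congr 1
  apply Subtype.ext
  have hJ : ((J2 : GL (Fin 2) F) : Matrix (Fin 2) (Fin 2) F) = !![0, 1; -1, 0] := rfl
  have h1 := glConj_mul_eq (J2 : GL (Fin 2) F) (fieldAut (1 : F ≃+* F) x)
  have h2 : ((tauAut x : Matrix.SpecialLinearGroup (Fin 2) F) : Matrix (Fin 2) (Fin 2) F)
      * ((J2 : GL (Fin 2) F) : Matrix (Fin 2) (Fin 2) F)
      = ((J2 : GL (Fin 2) F) : Matrix (Fin 2) (Fin 2) F)
        * ((fieldAut (1 : F ≃+* F) x : Matrix.SpecialLinearGroup (Fin 2) F) :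
          Matrix (Fin 2) (Fin 2) F) := by
    rw [tauAut_coe, fieldAut_coe, Matrix.SpecialLinearGroup.coe_inv, Matrix.adjugate_fin_two, hJ]
    ext i j
    fin_cases i <;> fin_cases j <;> simp [Matrix.mul_apply, Fin.sum_univ_two]
  have h3 : ((tauAut x : Matrix.SpecialLinearGroup (Fin 2) F) : Matrix (Fin 2) (Fin 2) F)
      * ((J2 : GL (Fin 2) F) : Matrix (Fin 2) (Fin 2) F)
      = ((glConj (J2 : GL (Fin 2) F) (fieldAut (1 : F ≃+* F) x) :
          Matrix.SpecialLinearGroup (Fin 2) F) : Matrix (Fin 2) (Fin 2) F)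
        * ((J2 : GL (Fin 2) F) : Matrix (Fin 2) (Fin 2) F) := by rw [h2, h1]
  have h4 := congrArg (fun M => M * ((J2⁻¹ : GL (Fin 2) F) : Matrix (Fin 2) (Fin 2) F)) h3
  simp only [Matrix.mul_assoc, coe_mul_coe_inv, Matrix.mul_one] at h4
  exact h4

omit [Fintype F] in
theorem semi_pow_eq_one_of_pm (C : GL (Fin n) F) (k : ℕ)
    (h : (C : Matrix (Fin n) (Fin n) F) ^ k = 1 ∨ (C : Matrix (Fin n) (Fin n) F) ^ k = -1) :
    (semi C (1 : F ≃+* F)) ^ k = 1 := by
  rw [semi_one_pow]
  rcases h with h | h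
  · refine semi_scalar_eq_one _ 1 one_ne_zero ?_
    rw [Units.val_pow_eq_pow_val, h, one_smul]
  · refine semi_scalar_eq_one _ (-1) (neg_ne_zero.mpr one_ne_zero) ?_
    rw [Units.val_pow_eq_pow_val, h, neg_smul, one_smul]

omit [Fintype F] in
theorem coe_graph_elt (g : GL (Fin n) F) (σ : F ≃+* F) :
    ((g * Matrix.GeneralLinearGroup.map (σ : F →+* F) (tauGL g) : GL (Fin n) F) :
        Matrix (Fin n) (Fin n) F)
      = (g : Matrix (Fin n) (Fin n) F) *
        ((((g⁻¹ : GL (Fin n) F) : Matrix (Fin n) (Fin n) F))ᵀ).map (σ : F →+* F) := rfl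

theorem aut_upper (hN1 : N1stmt) (hF3 : F3stmt F)
    (hF3K : ∀ (K : Subfield F) (inst : Fintype K), @F3stmt (↥K) _ inst) (hD : Dstmt F)
    (hB : ∀ (K : Subfield F) (inst : Fintype K), @Bstmt (↥K) _ inst)
    (h1 : NL1) (h2 : NL2) (h3 : NL3) (h4 : NL4) (hU3 : U3stmt F) (d : ℕ) (hd : 2 ≤ d)
    (h24 : ¬ (d = 2 ∧ Fintype.card F = 4)) (h32 : ¬ (d = 3 ∧ Fintype.card F = 2))
    (β : MulAut (Matrix.ProjectiveSpecialLinearGroup (Fin d) F)) :
    (Fintype.card F - 1) * orderOf β ≤ Fintype.card F ^ d - 1 := by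
  obtain ⟨p, hchar⟩ := CharP.exists F
  have : Fact p.Prime := ⟨CharP.char_is_prime F p⟩
  obtain ⟨⟨f, hf⟩, _, hqf⟩ := FiniteField.card F p
  obtain ⟨g, σ, hβ | hβ⟩ :=
    Cfsg.Agent.Lib.Helper5.SLnBN.exists_semi_tau_all (p := p) (f := f) hf hqf hd β
  · rw [hβ]; exact upper_semi hD hB h1 d hd h24 g σ
  · rcases Nat.lt_or_ge d 3 with hd3 | hd3
    · have hd2 : d = 2 := by omega
      subst hd2
      rw [hβ, tauBar_two, semi_mul_semi]
      exact upper_semi hD hB h1 2 hd h24 _ _
    · rw [hβ]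
      have hsq := sq_semi_tau g σ
      have hq2 : 2 ≤ Fintype.card F := Fintype.one_lt_card
      have key : ∀ m : ℕ, 0 < m →
          (semi (g * Matrix.GeneralLinearGroup.map (σ : F →+* F) (tauGL g)) (σ * σ)) ^ m = 1 →
          (Fintype.card F - 1) * (2 * m) ≤ Fintype.card F ^ d - 1 →
          (Fintype.card F - 1) * orderOf (semi g σ * tauBar) ≤ Fintype.card F ^ d - 1 := by
        intro m hm hpow hbd
        have := order_le_of_sq (semi g σ * tauBar) m hm (by rw [hsq]; exact hpow)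
        exact (Nat.mul_le_mul_left _ this).trans hbd
      have hfin := finite_ringAut (F := F)
      have hgg := coe_mul_coe_inv g
      by_cases hσ2 : σ * σ = 1
      · rw [hσ2] at key
        by_cases hσ1 : σ = 1
        · -- H1: pure graph automorphism
          subst hσ1
          obtain ⟨hCC', hrec⟩ := cosquare_rec _ _ hgg
          have hCm : ((g * Matrix.GeneralLinearGroup.map ((1 : F ≃+* F) : F →+* F) (tauGL g) :
              GL (Fin d) F) : Matrix (Fin d) (Fin d) F)
              = (g : Matrix (Fin d) (Fin d) F) *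
                (((g⁻¹ : GL (Fin d) F) : Matrix (Fin d) (Fin d) F))ᵀ := by
            rw [coe_graph_elt]
            congr 1
          by_cases hbig : 6 ≤ d ∨ (4 ≤ d ∧ 3 ≤ Fintype.card F)
          · obtain ⟨k, hk, hpow, hb⟩ := mat_core hN1 hF3 _ _ hCC' hrec ((d + 1) / 2)
              (Or.inl ⟨by rw [Fintype.card_fin]; omega, by omega⟩)
            refine key k hk (semi_pow_eq_one_of_pm _ k (by rw [hCm]; exact hpow)) ?_
            exact h3 d (Fintype.card F) k hq2 hbig hb
          · have hcase : (d = 3 ∧ 3 ≤ Fintype.card F) ∨ (d = 4 ∧ Fintype.card F = 2) ∨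
                (d = 5 ∧ Fintype.card F = 2) := by
              push Not at hbig
              obtain ⟨hb1, hb2⟩ := hbig
              rcases Nat.lt_or_ge d 4 with h | h
              · left
                have hd3' : d = 3 := by omega
                refine ⟨hd3', ?_⟩
                by_contra hlt
                exact h32 ⟨hd3', by omega⟩
              · have := hb2 h
                rcases Nat.lt_or_ge d 5 with h' | h'
                · right; left; exact ⟨by omega, by omega⟩
                · right; right; exact ⟨by omega, by omega⟩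
            have hdeg : (minpoly F ((g : Matrix (Fin d) (Fin d) F) *
                (((g⁻¹ : GL (Fin d) F) : Matrix (Fin d) (Fin d) F))ᵀ)).natDegree ≤ d := by
              have := natDegree_minpoly_le ((g : Matrix (Fin d) (Fin d) F) *
                (((g⁻¹ : GL (Fin d) F) : Matrix (Fin d) (Fin d) F))ᵀ)
              rwa [Fintype.card_fin] at this
            obtain ⟨k, hk, hdvd, hb⟩ := sr_small hN1 hF3 _ (sr_minpoly _ _ hCC' hrec) d hdeg hcase
            refine key k hk (semi_pow_eq_one_of_pm _ k ?_) hb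
            rw [hCm]
            rcases hdvd with h | h
            · left
              have h0 := aeval_dvd_zero _ _ h
              rw [map_sub, map_pow, aeval_X, map_one] at h0
              exact sub_eq_zero.mp h0
            · right
              have h0 := aeval_dvd_zero _ _ h
              rw [map_add, map_pow, aeval_X, map_one] at h0
              exact eq_neg_of_add_eq_zero_left h0
        · -- H2: graph-field automorphism with an involutory field automorphism
          have hord : orderOf σ = 2 := by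
            have hσsq : σ ^ 2 = 1 := by rw [pow_two]; exact hσ2
            exact orderOf_eq_prime hσsq hσ1
          have hσσ : ∀ x : F, (σ : F →+* F) ((σ : F →+* F) x) = x := by
            intro x
            have := congrArg (fun τ : F ≃+* F => τ x) hσ2
            simpa [RingAut.mul_apply] using this
          obtain ⟨hNN', htw⟩ := twisted_cosquare_rec (σ : F →+* F) hσσ _ _ hgg
          by_cases h34 : d = 3 ∧ Fintype.card F = 4
          · obtain ⟨hd3', hq4⟩ := h34
            have hdeg : (minpoly F ((g : Matrix (Fin d) (Fin d) F) *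
                ((((g⁻¹ : GL (Fin d) F) : Matrix (Fin d) (Fin d) F))ᵀ).map
                  (σ : F →+* F))).natDegree ≤ 3 := by
              have := natDegree_minpoly_le ((g : Matrix (Fin d) (Fin d) F) *
                ((((g⁻¹ : GL (Fin d) F) : Matrix (Fin d) (Fin d) F))ᵀ).map (σ : F →+* F))
              rw [Fintype.card_fin] at this
              omega
            obtain ⟨k, hk, hk10, c, hc, hdvd⟩ := hU3 hq4 σ hσ1 _
              (coeff_zero_minpoly_ne _ _ hNN') hdeg (twisted_dvd (σ : F →+* F) _ _ hNN' htw)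
            have h0 := aeval_dvd_zero _ _ hdvd
            rw [map_sub, map_pow, aeval_X, aeval_C] at h0
            refine key k hk ?_ ?_
            · rw [semi_one_pow]
              refine semi_scalar_eq_one _ c hc ?_
              rw [Units.val_pow_eq_pow_val, coe_graph_elt, ← Algebra.algebraMap_eq_smul_one]
              exact sub_eq_zero.mp h0
            · rw [hq4, hd3']
              omega
          · obtain ⟨q₀, k, hq₀, hcard, hk, hpow, hb⟩ := twisted_pow hN1 hD hF3K σ hord _ _ hNN' htw d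
              (by rw [Fintype.card_fin]) (by omega)
            refine key k hk (semi_pow_eq_one_of_pm _ k (by rw [coe_graph_elt]; exact hpow)) ?_
            have hex : ¬ (d = 3 ∧ q₀ = 2) := by
              rintro ⟨hd3', hq2'⟩
              apply h34
              refine ⟨hd3', ?_⟩
              rw [← hcard, hq2']; norm_num
            have := h4 d q₀ k hd3 hq₀ hex hb
            rwa [hcard] at this
      · -- the field automorphism has a square of order ≥ 2
        obtain ⟨q₁, k, hq₁, hcard, hk, hb, hpow⟩ := eps0_bound hD hB (by omega)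
          (g * Matrix.GeneralLinearGroup.map (σ : F →+* F) (tauGL g)) (σ * σ)
        have he' : 2 ≤ orderOf (σ * σ) := by
          have h0 : 0 < orderOf (σ * σ) := orderOf_pos _
          have h1' : orderOf (σ * σ) ≠ 1 := by rw [Ne, orderOf_eq_one_iff]; exact hσ2
          omega
        have hex : 3 ≤ orderOf (σ * σ) ∨ 4 ≤ q₁ := by
          by_contra hcon
          push Not at hcon
          obtain ⟨hc1, hc2⟩ := hcon
          have he2 : orderOf (σ * σ) = 2 := by omega
          obtain ⟨K, instK, hKcard, _⟩ := hD σ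
          have hpw : orderOf (σ ^ 2) = orderOf σ / (orderOf σ).gcd 2 := orderOf_pow σ
          rw [pow_two, he2] at hpw
          have hK2 : 2 ≤ Fintype.card K := Fintype.one_lt_card
          have h4' : orderOf σ = 4 := by
            have hg2 : (orderOf σ).gcd 2 ∣ 2 := Nat.gcd_dvd_right _ _
            have hg2' : (orderOf σ).gcd 2 ∣ orderOf σ := Nat.gcd_dvd_left _ _
            have hcases : (orderOf σ).gcd 2 = 1 ∨ (orderOf σ).gcd 2 = 2 := by
              have := Nat.le_of_dvd (by norm_num) hg2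
              have hpos : 0 < (orderOf σ).gcd 2 := Nat.gcd_pos_of_pos_right _ (by norm_num)
              interval_cases h : (orderOf σ).gcd 2
              · left; rfl
              · right; rfl
            rcases hcases with hg | hg
            · rw [hg, Nat.div_one] at hpw
              rw [← hpw] at hg
              norm_num at hg
            · rw [hg] at hpw hg2'
              obtain ⟨t, ht⟩ := hg2'
              rw [ht] at hpw ⊢
              omega
          rw [h4'] at hKcard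
          rw [he2] at hcard
          have h16 : 2 ^ 4 ≤ Fintype.card K ^ 4 := Nat.pow_le_pow_left hK2 4
          have h9 : q₁ ^ 2 ≤ 3 ^ 2 := Nat.pow_le_pow_left (by omega) 2
          omega
        refine key (orderOf (σ * σ) * k) (Nat.mul_pos (by omega) hk) hpow ?_
        have := h2 d q₁ (orderOf (σ * σ)) k hd3 hq₁ he' hex hb
        rw [hcard] at this
        rw [← mul_assoc 2]
        exact this

omit [Fintype F] in
theorem semi_one_eq_one_iff (hn : 2 ≤ n) (N : GL (Fin n) F) :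
    semi N (1 : F ≃+* F) = 1 ↔ N ∈ Subgroup.center (GL (Fin n) F) := by
  have hnt : Nontrivial (Fin n) := Fin.nontrivial_iff_two_le.mpr hn
  rw [Matrix.GeneralLinearGroup.mem_center_iff_val_mem_range_scalar]
  constructor
  · intro h
    rw [← semi_one_one] at h
    obtain ⟨_, z, _, hz⟩ := semi_eq_semi N 1 1 1 h
    refine ⟨z, ?_⟩
    rw [hz]
    ext i j
    simp [Matrix.scalar_apply, Matrix.diagonal_apply, Matrix.one_apply]
  · rintro ⟨z, hz⟩
    have hz0 : z ≠ 0 := by
      rintro rfl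
      have h0 : (N : Matrix (Fin n) (Fin n) F) = 0 := by rw [← hz]; simp
      have h1 := coe_mul_coe_inv N
      rw [h0, zero_mul] at h1
      exact zero_ne_one h1
    refine semi_scalar_eq_one N z hz0 ?_
    rw [← hz]
    ext i j
    simp [Matrix.scalar_apply, Matrix.diagonal_apply, Matrix.one_apply]

omit [Fintype F] in
theorem orderOf_semi_one (hn : 2 ≤ n) (g : GL (Fin n) F) :
    orderOf (semi g (1 : F ≃+* F))
      = orderOf (QuotientGroup.mk g : GL (Fin n) F ⧸ Subgroup.center (GL (Fin n) F)) := by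
  rw [orderOf_eq_orderOf_iff]
  intro k
  rw [semi_one_pow, semi_one_eq_one_iff hn, ← QuotientGroup.mk_pow, QuotientGroup.eq_one_iff]

theorem aut_exists (d : ℕ) (hd : 2 ≤ d)
    (hex : ∃ g : (GL (Fin d) F ⧸ Subgroup.center (GL (Fin d) F)),
      (Fintype.card F - 1) * orderOf g = Fintype.card F ^ d - 1) :
    ∃ φ : MulAut (Matrix.ProjectiveSpecialLinearGroup (Fin d) F),
      (Fintype.card F - 1) * orderOf φ = Fintype.card F ^ d - 1 := by
  obtain ⟨gb, h⟩ := hex
  obtain ⟨g, rfl⟩ := QuotientGroup.mk_surjective gb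
  exact ⟨semi g 1, by rw [orderOf_semi_one hd]; exact h⟩

end GrpFin

end Cfsg.Agent.Lib.Meo
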