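import Mathlib
import Cfsg.Prelude.Def_Classical
import Cfsg.Agent.Lib.Helper7.MeoMat

/-!
Maximal element orders of classical groups: the orthogonal wrapper (S2265).
-/

namespace Cfsg.Agent.Lib.Meo

open Polynomial Matrix

section Orth

variable {ι : Type} [Fintype ι] [DecidableEq ι] {F : Type*} [Field F]

/-- adjointness passes to polynomial expressions. -/
theorem adj_sum (B : LinearMap.BilinForm F (ι → F)) (A A' : Matrix ι ι F)
    (hadj : ∀ u v, B (A' *ᵥ u) v = B u (A *ᵥ v)) (c : ℕ → F) (s : Finset ℕ) (u v : ι → F) :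
    B ((∑ i ∈ s, c i • A' ^ i) *ᵥ u) v = B u ((∑ i ∈ s, c i • A ^ i) *ᵥ v) := by
  have hpow : ∀ i : ℕ, ∀ u v, B ((A' ^ i) *ᵥ u) v = B u ((A ^ i) *ᵥ v) := by
    intro i
    induction i with
    | zero => intro u v; simp
    | succ i ih =>
      intro u v
      rw [pow_succ, pow_succ', ← Matrix.mulVec_mulVec, ← Matrix.mulVec_mulVec, ih, hadj]
  induction s using Finset.induction_on with
  | empty => simp
  | insert j s hj ih =>
    rw [Finset.sum_insert hj, Finset.sum_insert hj, Matrix.add_mulVec, Matrix.add_mulVec,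
      map_add, LinearMap.add_apply, map_add, ih, Matrix.smul_mulVec, Matrix.smul_mulVec,
      map_smul, LinearMap.smul_apply, map_smul, hpow]

variable [Fintype F]

theorem pomega_bound (hN1 : N1stmt) (hF3 : F3stmt F) (Q : (ι → F) → F)
    (B : LinearMap.BilinForm F (ι → F)) (hB : ∀ u v, B u v = Q (u + v) - Q u - Q v)
    (hnd : ∀ u, (∀ v, B u v = 0) → u = 0) (m : ℕ)
    (hdim : (Fintype.card ι ≤ 2 * m ∧ 2 ≤ m) ∨
      (Fintype.card ι ≤ 2 * m + 1 ∧ 3 ≤ m ∧ Odd (Fintype.card F)))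
    (g : Cfsg.POmega F Q) :
    (Fintype.card F - 1) * orderOf g ≤ Fintype.card F ^ (m + 1) := by
  obtain ⟨ω, rfl⟩ := QuotientGroup.mk_surjective g
  set γ : Matrix.GeneralLinearGroup ι F := ((ω : Cfsg.isometryGroup F Q) : Matrix.GeneralLinearGroup ι F)
    with hγ
  set A : Matrix ι ι F := (γ : Matrix ι ι F) with hA
  set A' : Matrix ι ι F := ((γ⁻¹ : Matrix.GeneralLinearGroup ι F) : Matrix ι ι F) with hA'
  have h1 : A * A' = 1 := by
    rw [hA, hA', ← Units.val_mul, mul_inv_cancel, Units.val_one]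
  have h2 : A' * A = 1 := mul_eq_one_comm.mp h1
  have hQ : ∀ u, Q (A *ᵥ u) = Q u := by
    intro u
    have := (ω : Cfsg.isometryGroup F Q).2 u u
    exact this
  have hBinv : ∀ u v, B (A *ᵥ u) (A *ᵥ v) = B u v := by
    intro u v
    rw [hB, hB, ← Matrix.mulVec_add, hQ, hQ, hQ]
  have hadj : ∀ u v, B (A' *ᵥ u) v = B u (A *ᵥ v) := by
    intro u v
    have h3 : A *ᵥ (A' *ᵥ u) = u := by rw [Matrix.mulVec_mulVec, h1, Matrix.one_mulVec]
    rw [← hBinv (A' *ᵥ u) v, h3]
  have hrec : ∀ P : F[X], aeval A P = 0 → aeval A' P = 0 := by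
    intro P hP
    have h4 : ∀ u, (aeval A' P) *ᵥ u = 0 := by
      intro u
      apply hnd
      intro v
      rw [aeval_eq_sum_range, adj_sum B A A' hadj, ← aeval_eq_sum_range, hP, Matrix.zero_mulVec,
        map_zero]
    ext i j
    have := congrFun (h4 (Pi.single j 1)) i
    rw [Matrix.mulVec_single_one] at this
    simpa using this
  obtain ⟨k, hk, hpow, hb⟩ := mat_core hN1 hF3 A A' h1 hrec m hdim
  have hcen : ω ^ k ∈ Subgroup.center (Cfsg.Omega F Q) := by
    rw [Subgroup.mem_center_iff]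
    intro b
    apply Subtype.ext
    apply Subtype.ext
    apply Units.ext
    have hak : ((((ω ^ k : Cfsg.Omega F Q) : Cfsg.isometryGroup F Q) :
        Matrix.GeneralLinearGroup ι F) : Matrix ι ι F) = A ^ k := by
      rw [Subgroup.coe_pow, Subgroup.coe_pow, Units.val_pow_eq_pow_val]
    rw [Subgroup.coe_mul, Subgroup.coe_mul, Units.val_mul, Subgroup.coe_mul, Subgroup.coe_mul,
      Units.val_mul, hak]
    rcases hpow with h | h
    · rw [h, mul_one, one_mul]
    · rw [h, mul_neg, neg_mul, mul_one, one_mul]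
  have h1' : ((ω : Cfsg.Omega F Q) : Cfsg.POmega F Q) ^ k = 1 := by
    rw [← QuotientGroup.mk_pow]
    exact (QuotientGroup.eq_one_iff _).mpr hcen
  have hle : orderOf ((ω : Cfsg.Omega F Q) : Cfsg.POmega F Q) ≤ k :=
    Nat.le_of_dvd hk (orderOf_dvd_of_pow_eq_one h1')
  exact (Nat.mul_le_mul_left _ hle).trans hb

theorem two_ne_zero_of_odd_card (ho : Odd (Fintype.card F)) : (2 : F) ≠ 0 := by
  intro h2
  have h3 : ringChar F = 2 := CharP.ringChar_of_prime_eq_zero Nat.prime_two (by exact_mod_cast h2)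
  have h4 := FiniteField.even_card_of_char_two h3
  have h5 := Nat.odd_iff.mp ho
  omega

end Orth

end Cfsg.Agent.Lib.Meo
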