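import Mathlib
import Cfsg.Prelude.Def_Classical
import Cfsg.Agent.Lib.Helper7.MeoMat

/-!
Maximal element orders of classical groups: the symplectic wrapper (S2264).
-/

namespace Cfsg.Agent.Lib.Meo

open Polynomial Matrix

theorem psp_bound (hN1 : N1stmt) {F : Type*} [Field F] [Fintype F] (hF3 : F3stmt F) (m : ℕ)
    (hm : 2 ≤ m) (g : Cfsg.PSp m F) :
    (Fintype.card F - 1) * orderOf g ≤ Fintype.card F ^ (m + 1) := by
  obtain ⟨a, rfl⟩ := QuotientGroup.mk_surjective g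
  have h1 : (a : Matrix (Fin m ⊕ Fin m) (Fin m ⊕ Fin m) F) * ((a⁻¹ : Matrix.symplecticGroup (Fin m) F) :
      Matrix (Fin m ⊕ Fin m) (Fin m ⊕ Fin m) F) = 1 := by
    have := congrArg Subtype.val (mul_inv_cancel a)
    exact this
  have hJ : Matrix.J (Fin m) F * (-Matrix.J (Fin m) F) = 1 := by
    rw [Matrix.mul_neg, Matrix.J_squared, neg_neg]
  have hrec : ∀ P : F[X], aeval (a : Matrix (Fin m ⊕ Fin m) (Fin m ⊕ Fin m) F) P = 0 →
      aeval ((a⁻¹ : Matrix.symplecticGroup (Fin m) F) : Matrix (Fin m ⊕ Fin m) (Fin m ⊕ Fin m) F) P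
        = 0 := by
    intro P hP
    rw [SymplecticGroup.coe_inv, aeval_conj _ _ _ hJ, aeval_transpose', hP]
    simp
  have hdim : (Fintype.card (Fin m ⊕ Fin m) ≤ 2 * m ∧ 2 ≤ m) ∨
      (Fintype.card (Fin m ⊕ Fin m) ≤ 2 * m + 1 ∧ 3 ≤ m ∧ Odd (Fintype.card F)) := by
    left
    refine ⟨?_, hm⟩
    rw [Fintype.card_sum, Fintype.card_fin]
    omega
  obtain ⟨k, hk, hpow, hb⟩ := mat_core hN1 hF3 _ _ h1 hrec m hdim
  have hcen : a ^ k ∈ Subgroup.center (Matrix.symplecticGroup (Fin m) F) := by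
    rw [Subgroup.mem_center_iff]
    intro b
    apply Subtype.ext
    have hak : ((a ^ k : Matrix.symplecticGroup (Fin m) F) :
        Matrix (Fin m ⊕ Fin m) (Fin m ⊕ Fin m) F)
        = (a : Matrix (Fin m ⊕ Fin m) (Fin m ⊕ Fin m) F) ^ k := SubmonoidClass.coe_pow a k
    show (b : Matrix (Fin m ⊕ Fin m) (Fin m ⊕ Fin m) F) * ((a ^ k : Matrix.symplecticGroup (Fin m) F) :
        Matrix (Fin m ⊕ Fin m) (Fin m ⊕ Fin m) F)
      = ((a ^ k : Matrix.symplecticGroup (Fin m) F) : Matrix (Fin m ⊕ Fin m) (Fin m ⊕ Fin m) F)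
        * (b : Matrix (Fin m ⊕ Fin m) (Fin m ⊕ Fin m) F)
    rw [hak]
    rcases hpow with h | h
    · rw [h, mul_one, one_mul]
    · rw [h, mul_neg, neg_mul, mul_one, one_mul]
  have h1' : ((a : Matrix.symplecticGroup (Fin m) F) : Cfsg.PSp m F) ^ k = 1 := by
    rw [← QuotientGroup.mk_pow]
    exact (QuotientGroup.eq_one_iff _).mpr hcen
  have hle : orderOf ((a : Matrix.symplecticGroup (Fin m) F) : Cfsg.PSp m F) ≤ k :=
    Nat.le_of_dvd hk (orderOf_dvd_of_pow_eq_one h1')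
  exact (Nat.mul_le_mul_left _ hle).trans hb

end Cfsg.Agent.Lib.Meo
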