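import Mathlib

set_option autoImplicit false

/-!
# S4079, package F: the computation with the automorphism

`L` a finite `p`-group (`p` odd) in which `E = Ω₁(L)` has order `p²`, `H = Ω₂(L)`, `E` is central
in `H`, the `p`-th power map is an endomorphism of `H` with image containing `E`.  If an
automorphism `a` of order `p` moves an element of order `p`, then `p = 3` and the fixed points
of `a` form a group of order `p`.
-/

namespace Cfsg.Agent.Lib.Helper7.MetaAutF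

open Subgroup


/-- Lemma A: an automorphism of order dividing `p` of an elementary abelian group of order `p²`
which is not the identity has a fixed-point group `⟨c⟩` of order `p` containing all the
"commutators" `x⁻¹ α(x)`. -/
theorem fixed_structure {A : Type*} [Group A] [Finite A] {p : ℕ} [Fact p.Prime]
    (hcomm : ∀ x y : A, x * y = y * x) (hcard : Nat.card A = p ^ 2) (hexp : ∀ x : A, x ^ p = 1)
    (α : MulAut A) (hα : α ^ p = 1) (hmove : ∃ x, α x ≠ x) :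
    ∃ c : A, c ≠ 1 ∧ α c = c ∧ (∀ x, x⁻¹ * α x ∈ zpowers c) ∧
      (∀ x, α x = x → x ∈ zpowers c) := by
  classical
  have hpp : p.Prime := Fact.out
  let _ : CommGroup A := { (inferInstance : Group A) with mul_comm := hcomm }
  -- a nontrivial fixed point
  have hPG : IsPGroup p ↥(zpowers α) := by
    intro g
    refine ⟨1, ?_⟩
    obtain ⟨g, n, rfl⟩ := g
    ext : 1
    simp only [pow_one, Subgroup.coe_pow, Subgroup.coe_one]
    rw [← zpow_natCast, ← zpow_mul, mul_comm, zpow_mul, zpow_natCast, hα, one_zpow]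
  have h1fix : (1 : A) ∈ MulAction.fixedPoints ↥(zpowers α) A := by
    intro g
    rw [Subgroup.smul_def, MulAut.smul_def, map_one]
  have hdvd : p ∣ Nat.card A := by rw [hcard]; exact dvd_pow_self p two_ne_zero
  obtain ⟨c, hcfix, hc1⟩ :=
    hPG.exists_fixed_point_of_prime_dvd_card_of_fixed_point A hdvd h1fix
  have hαc : α c = c := by
    have := hcfix ⟨α, mem_zpowers α⟩
    rwa [Subgroup.smul_def, MulAut.smul_def] at this
  have hc1' : c ≠ 1 := fun h => hc1 h.symm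
  have hfixz : ∀ t ∈ zpowers c, α t = t := by
    rintro t ⟨n, rfl⟩
    rw [map_zpow, hαc]
  have hoc : orderOf c = p := orderOf_eq_prime (hexp c) hc1'
  have hcardQ : Nat.card (A ⧸ zpowers c) = p := by
    have h := Subgroup.card_eq_card_quotient_mul_card_subgroup (zpowers c)
    rw [Nat.card_zpowers, hoc, hcard, pow_two] at h
    exact (Nat.eq_of_mul_eq_mul_right hpp.pos h).symm
  obtain ⟨x₀, hx₀⟩ := hmove
  have hx₀c : x₀ ∉ zpowers c := fun h => hx₀ (hfixz x₀ h)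
  have hx₀1 : x₀ ≠ 1 := fun h => hx₀c (h ▸ one_mem _)
  have hox₀ : orderOf x₀ = p := orderOf_eq_prime (hexp x₀) hx₀1
  have hmk : (QuotientGroup.mk x₀ : A ⧸ zpowers c) ≠ 1 := by
    rw [Ne, QuotientGroup.eq_one_iff]; exact hx₀c
  -- decomposition
  have hdec : ∀ x : A, ∃ v : ℕ, ∃ t ∈ zpowers c, x = x₀ ^ v * t := by
    intro x
    obtain ⟨v, hv⟩ := mem_powers_of_prime_card hcardQ hmk (g' := (QuotientGroup.mk x : A ⧸ zpowers c))
    refine ⟨v, (x₀ ^ v)⁻¹ * x, ?_, by group⟩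
    rw [← QuotientGroup.eq, QuotientGroup.mk_pow]
    exact hv
  obtain ⟨j, t₀, ht₀, hj⟩ := hdec (α x₀)
  -- iterate
  have hiter : ∀ k : ℕ, ∃ t ∈ zpowers c, (α ^ k) x₀ = x₀ ^ (j ^ k) * t := by
    intro k
    induction k with
    | zero => exact ⟨1, one_mem _, by simp⟩
    | succ k ih =>
      obtain ⟨t, ht, hk⟩ := ih
      refine ⟨t₀ ^ (j ^ k) * t, mul_mem (pow_mem ht₀ _) ht, ?_⟩
      rw [pow_succ', MulAut.mul_apply, hk, map_mul, map_pow, hj, hfixz t ht, mul_pow, ← pow_mul,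
        ← pow_succ', mul_assoc]
  obtain ⟨t, ht, hp⟩ := hiter p
  rw [hα, MulAut.one_apply] at hp
  have hmkp : (QuotientGroup.mk x₀ : A ⧸ zpowers c) ^ (j ^ p) = (QuotientGroup.mk x₀) ^ 1 := by
    rw [pow_one, ← QuotientGroup.mk_pow, eq_comm, QuotientGroup.eq]
    have : x₀⁻¹ * x₀ ^ j ^ p = t⁻¹ := by
      rw [eq_inv_iff_mul_eq_one, mul_assoc, ← hp, inv_mul_cancel]
    rw [this]; exact inv_mem ht
  have homk : orderOf (QuotientGroup.mk x₀ : A ⧸ zpowers c) = p := by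
    refine orderOf_eq_prime ?_ hmk
    rw [← QuotientGroup.mk_pow, hexp, QuotientGroup.mk_one]
  rw [pow_eq_pow_iff_modEq, homk] at hmkp
  have hj1 : j ≡ 1 [MOD p] := by
    have hF : j ^ p ≡ j [MOD p] := by
      rw [← ZMod.natCast_eq_natCast_iff]; push_cast; exact ZMod.pow_card _
    exact hF.symm.trans hmkp
  have hx₀j : x₀ ^ j = x₀ := by
    have : x₀ ^ j = x₀ ^ 1 := by rw [pow_eq_pow_iff_modEq, hox₀]; exact hj1
    rwa [pow_one] at this
  rw [hx₀j] at hj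
  have ht₀1 : t₀ ≠ 1 := by
    rintro rfl; exact hx₀ (by rw [hj, mul_one])
  have hot₀ : orderOf t₀ = p := orderOf_eq_prime (hexp t₀) ht₀1
  have hαx : ∀ (v : ℕ) (t : A), t ∈ zpowers c → (x₀ ^ v * t)⁻¹ * α (x₀ ^ v * t) = t₀ ^ v := by
    intro v t ht
    rw [map_mul, map_pow, hj, hfixz t ht, mul_pow]
    have : x₀ ^ v * t₀ ^ v * t = (x₀ ^ v * t) * t₀ ^ v := by
      rw [mul_assoc, mul_comm (t₀ ^ v) t, ← mul_assoc]
    rw [this, inv_mul_cancel_left]
  refine ⟨c, hc1', hαc, ?_, ?_⟩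
  · intro x
    obtain ⟨v, t, ht, rfl⟩ := hdec x
    rw [hαx v t ht]
    exact pow_mem ht₀ _
  · intro x hx
    obtain ⟨v, t, ht, rfl⟩ := hdec x
    have h := hαx v t ht
    rw [hx, inv_mul_cancel] at h
    have hpv : p ∣ v := by rw [← hot₀]; exact orderOf_dvd_of_pow_eq_one h.symm
    obtain ⟨w, rfl⟩ := hpv
    rw [pow_mul, hexp, one_pow, one_mul]
    exact ht


theorem comm_id1 {B : Type*} [CommMonoid B] (X Z D : B) (i c : ℕ) :
    X * Z * (Z * D) ^ i * D ^ c = X * Z ^ (i + 1) * D ^ (i + c) := by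
  rw [mul_pow, pow_succ, pow_add]
  ac_rfl

theorem comm_id3 {B : Type*} [CommMonoid B] (X Z₁ D₁ Z₂ D₂ : B) (k c2 c3 : ℕ) :
    X ^ k * Z₁ ^ c2 * D₁ ^ c3 * Z₂ ^ k * D₂ ^ c2 * (X * Z₁ ^ k * D₁ ^ c2 * (Z₂ * D₂ ^ k)) =
      X ^ (k + 1) * Z₁ ^ (k + c2) * D₁ ^ (c2 + c3) * Z₂ ^ (k + 1) * D₂ ^ (k + c2) := by
  simp only [pow_succ, pow_add]
  ac_rfl

/-- Lemma B: the iteration formula. -/
theorem iterate_formula {L : Type*} [Group L] (a : MulAut L) (x z₁ d₁ z₂ d₂ y : L)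
    (hcomm : ∀ s ∈ ({x, z₁, d₁, z₂, d₂} : Set L), ∀ t ∈ ({x, z₁, d₁, z₂, d₂} : Set L),
      s * t = t * s)
    (hx : a x = x * z₁) (hz₁ : a z₁ = z₁ * d₁) (hd₁ : a d₁ = d₁) (hz₂ : a z₂ = z₂ * d₂)
    (hd₂ : a d₂ = d₂) (hy : a y = y * (x * z₂)) (k : ℕ) :
    (a ^ k) y =
      y * (x ^ k * z₁ ^ (k.choose 2) * d₁ ^ (k.choose 3) * z₂ ^ k * d₂ ^ (k.choose 2)) := by
  classical
  have hBc := Subgroup.isMulCommutative_closure hcomm
  let _ : CommGroup ↥(closure ({x, z₁, d₁, z₂, d₂} : Set L)) :=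
    { (inferInstance : Group ↥(closure ({x, z₁, d₁, z₂, d₂} : Set L))) with
      mul_comm := fun u v => mul_comm' u v }
  let X : ↥(closure ({x, z₁, d₁, z₂, d₂} : Set L)) := ⟨x, subset_closure (by simp)⟩
  let Z₁ : ↥(closure ({x, z₁, d₁, z₂, d₂} : Set L)) := ⟨z₁, subset_closure (by simp)⟩
  let D₁ : ↥(closure ({x, z₁, d₁, z₂, d₂} : Set L)) := ⟨d₁, subset_closure (by simp)⟩
  let Z₂ : ↥(closure ({x, z₁, d₁, z₂, d₂} : Set L)) := ⟨z₂, subset_closure (by simp)⟩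
  let D₂ : ↥(closure ({x, z₁, d₁, z₂, d₂} : Set L)) := ⟨d₂, subset_closure (by simp)⟩
  have h1 : ∀ i : ℕ, (a ^ i) x = ((X * Z₁ ^ i * D₁ ^ (i.choose 2) : _) : L) := by
    intro i
    induction i with
    | zero => simp [X]
    | succ i ih =>
      rw [pow_succ', MulAut.mul_apply, ih]
      have hid := comm_id1 X Z₁ D₁ i (i.choose 2)
      have hch : (i + 1).choose 2 = i + i.choose 2 := by
        rw [Nat.choose_succ_succ' i 1, Nat.choose_one_right]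
      rw [hch, ← hid]
      simp only [Subgroup.coe_mul, Subgroup.coe_pow, map_mul, map_pow, X, Z₁, D₁, hx, hz₁, hd₁]
  have h2 : ∀ i : ℕ, (a ^ i) z₂ = ((Z₂ * D₂ ^ i : _) : L) := by
    intro i
    induction i with
    | zero => simp [Z₂]
    | succ i ih =>
      rw [pow_succ', MulAut.mul_apply, ih]
      simp only [Subgroup.coe_mul, Subgroup.coe_pow, map_mul, map_pow, Z₂, D₂, hz₂, hd₂]
      rw [pow_succ', mul_assoc]
  have h3 : ∀ k : ℕ, (a ^ k) y = y * ((X ^ k * Z₁ ^ (k.choose 2) * D₁ ^ (k.choose 3) * Z₂ ^ k *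
      D₂ ^ (k.choose 2) : _) : L) := by
    intro k
    induction k with
    | zero => simp
    | succ k ih =>
      rw [pow_succ, MulAut.mul_apply, hy, map_mul, map_mul, ih, h1, h2, mul_assoc]
      congr 1
      have hid := comm_id3 X Z₁ D₁ Z₂ D₂ k (k.choose 2) (k.choose 3)
      have hch2 : (k + 1).choose 2 = k + k.choose 2 := by
        rw [Nat.choose_succ_succ' k 1, Nat.choose_one_right]
      have hch3 : (k + 1).choose 3 = k.choose 2 + k.choose 3 := Nat.choose_succ_succ' k 2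
      rw [hch2, hch3, ← hid]
      simp only [Subgroup.coe_mul]
  rw [h3 k]
  simp only [Subgroup.coe_mul, Subgroup.coe_pow, X, Z₁, D₁, Z₂, D₂]

/-- PACKAGE F (the computation with the automorphism). -/
theorem eq_three_and_fixed_points {L : Type*} [Group L] [Finite L] {p : ℕ} [Fact p.Prime]
    (hp : p ≠ 2) (hL : IsPGroup p L) (E H : Subgroup L)
    (hE : ∀ x : L, x ∈ E ↔ x ^ p = 1) (hH : ∀ x : L, x ∈ H ↔ x ^ p ^ 2 = 1)
    (hEcard : Nat.card E = p ^ 2)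
    (hEZ : ∀ e ∈ E, ∀ h ∈ H, e * h = h * e)
    (hpow : ∀ h₁ ∈ H, ∀ h₂ ∈ H, (h₁ * h₂) ^ p = h₁ ^ p * h₂ ^ p)
    (hsurj : ∀ e ∈ E, ∃ h ∈ H, h ^ p = e)
    (a : MulAut L) (ha : orderOf a = p) (hmove : ∃ x : L, orderOf x = p ∧ a x ≠ x) :
    p = 3 ∧ ∃ e₁ : L, orderOf e₁ = p ∧ a e₁ = e₁ ∧ ∀ c : L, a c = c → c ∈ zpowers e₁ := by
  classical
  have hpp : p.Prime := Fact.out
  have h2p : 2 < p := lt_of_le_of_ne hpp.two_le (Ne.symm hp)
  have hap : a ^ p = 1 := by rw [← ha]; exact pow_orderOf_eq_one a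
  have hEH : ∀ x ∈ E, x ∈ H := by
    intro x hx
    rw [hH, pow_two, pow_mul, (hE x).1 hx, one_pow]
  have haE : ∀ x ∈ E, a x ∈ E := by
    intro x hx
    rw [hE, ← map_pow, (hE x).1 hx, map_one]
  have haE' : ∀ x ∈ E, a.symm x ∈ E := by
    intro x hx
    rw [hE, ← map_pow, (hE x).1 hx, map_one]
  have haH : ∀ x ∈ H, a x ∈ H := by
    intro x hx
    rw [hH, ← map_pow, (hH x).1 hx, map_one]
  -- the restriction of `a` to `E`
  let α : MulAut ↥E :=
    { toFun := fun e => ⟨a e, haE e e.2⟩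
      invFun := fun e => ⟨a.symm e, haE' e e.2⟩
      left_inv := fun e => Subtype.ext (a.symm_apply_apply e)
      right_inv := fun e => Subtype.ext (a.apply_symm_apply e)
      map_mul' := fun e f => Subtype.ext (map_mul a (e : L) f) }
  have hα1 : ∀ e : ↥E, ((α e : ↥E) : L) = a (e : L) := fun e => rfl
  have hαk : ∀ (k : ℕ) (e : ↥E), (((α ^ k) e : ↥E) : L) = (a ^ k) (e : L) := by
    intro k
    induction k with
    | zero => intro e; simp
    | succ k ih =>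
      intro e
      rw [pow_succ', MulAut.mul_apply, pow_succ', MulAut.mul_apply, hα1, ih]
  have hαp : α ^ p = 1 := by
    ext e
    rw [hαk, hap]
    rfl
  have hcommE : ∀ u v : ↥E, u * v = v * u := by
    intro u v
    apply Subtype.ext
    exact hEZ u u.2 v (hEH v v.2)
  have hexpE : ∀ u : ↥E, u ^ p = 1 := by
    intro u
    apply Subtype.ext
    rw [Subgroup.coe_pow, Subgroup.coe_one]
    exact (hE u).1 u.2
  obtain ⟨x₀, hx₀o, hx₀a⟩ := hmove
  have hx₀E : x₀ ∈ E := by rw [hE, ← hx₀o]; exact pow_orderOf_eq_one x₀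
  have hmoveE : ∃ u : ↥E, α u ≠ u := by
    refine ⟨⟨x₀, hx₀E⟩, fun h => hx₀a ?_⟩
    have := congrArg Subtype.val h
    exact this
  obtain ⟨c', hc'1, hαc', hδ', hfix'⟩ := fixed_structure hcommE hEcard hexpE α hαp hmoveE
  -- transfer to `L`
  have hzp : ∀ t : ↥E, t ∈ zpowers c' → (t : L) ∈ zpowers (c' : L) := by
    rintro t ⟨n, rfl⟩
    exact ⟨n, by simp⟩
  have hc1 : (c' : L) ≠ 1 := fun h => hc'1 (Subtype.ext h)
  have hac : a (c' : L) = c' := congrArg Subtype.val hαc'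
  have hcE : (c' : L) ∈ E := c'.2
  have hδ : ∀ e ∈ E, e⁻¹ * a e ∈ zpowers (c' : L) := fun e he => hzp _ (hδ' ⟨e, he⟩)
  have hfixE : ∀ e ∈ E, a e = e → e ∈ zpowers (c' : L) := fun e he hae =>
    hzp ⟨e, he⟩ (hfix' ⟨e, he⟩ (Subtype.ext hae))
  have hfixz : ∀ t ∈ zpowers (c' : L), a t = t := by
    rintro t ⟨n, rfl⟩
    rw [map_zpow, hac]
  have hzE : ∀ t ∈ zpowers (c' : L), t ∈ E := by
    rintro t ⟨n, rfl⟩
    exact zpow_mem hcE n
  have hoc : orderOf (c' : L) = p := orderOf_eq_prime ((hE _).1 hcE) hc1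
  have hinvpow : ∀ u : L, (u⁻¹) ^ p = (u ^ p)⁻¹ := fun u => inv_pow u p
  -- the key computation
  have key : ∀ x ∈ H, ∀ e ∈ E, x ^ p = e⁻¹ * a e →
      ∃ d ∈ E, x ^ p * d ^ (p.choose 3) = 1 ∧ (a x = x → d = 1) := by
    intro x hxH e heE hxe
    have hfx : a (x ^ p) = x ^ p := hfixz _ (hxe ▸ hδ e heE)
    have hz₁p : (x⁻¹ * a x) ^ p = 1 := by
      rw [hpow _ (inv_mem hxH) _ (haH x hxH), inv_pow, ← map_pow, hfx, inv_mul_cancel]
    have hz₁E : x⁻¹ * a x ∈ E := (hE _).2 hz₁p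
    obtain ⟨y, hyH, hye⟩ := hsurj e heE
    have hwH : y⁻¹ * a y ∈ H := mul_mem (inv_mem hyH) (haH y hyH)
    have hwp : (y⁻¹ * a y) ^ p = x ^ p := by
      rw [hpow _ (inv_mem hyH) _ (haH y hyH), inv_pow, ← map_pow, hye, hxe]
    have hz₂p : (x⁻¹ * (y⁻¹ * a y)) ^ p = 1 := by
      rw [hpow _ (inv_mem hxH) _ hwH, inv_pow, hwp, inv_mul_cancel]
    have hz₂E : x⁻¹ * (y⁻¹ * a y) ∈ E := (hE _).2 hz₂p
    have hd₁z := hδ _ hz₁E
    have hd₂z := hδ _ hz₂E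
    have hd₁E := hzE _ hd₁z
    have hd₂E := hzE _ hd₂z
    have hcomm : ∀ s ∈ ({x, x⁻¹ * a x, (x⁻¹ * a x)⁻¹ * a (x⁻¹ * a x), x⁻¹ * (y⁻¹ * a y),
        (x⁻¹ * (y⁻¹ * a y))⁻¹ * a (x⁻¹ * (y⁻¹ * a y))} : Set L),
        ∀ t ∈ ({x, x⁻¹ * a x, (x⁻¹ * a x)⁻¹ * a (x⁻¹ * a x), x⁻¹ * (y⁻¹ * a y),
        (x⁻¹ * (y⁻¹ * a y))⁻¹ * a (x⁻¹ * (y⁻¹ * a y))} : Set L), s * t = t * s := by
      have hS : ∀ s ∈ ({x, x⁻¹ * a x, (x⁻¹ * a x)⁻¹ * a (x⁻¹ * a x), x⁻¹ * (y⁻¹ * a y),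
          (x⁻¹ * (y⁻¹ * a y))⁻¹ * a (x⁻¹ * (y⁻¹ * a y))} : Set L), s = x ∨ s ∈ E := by
        intro s hs
        simp only [Set.mem_insert_iff, Set.mem_singleton_iff] at hs
        rcases hs with rfl | rfl | rfl | rfl | rfl
        · exact Or.inl rfl
        · exact Or.inr hz₁E
        · exact Or.inr hd₁E
        · exact Or.inr hz₂E
        · exact Or.inr hd₂E
      intro s hs t ht
      rcases hS s hs with rfl | hsE
      · rcases hS t ht with rfl | htE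
        · rfl
        · exact (hEZ t htE s hxH).symm
      · rcases hS t ht with rfl | htE
        · exact hEZ s hsE t hxH
        · exact hEZ s hsE t (hEH t htE)
    have hB := iterate_formula a x (x⁻¹ * a x) ((x⁻¹ * a x)⁻¹ * a (x⁻¹ * a x))
      (x⁻¹ * (y⁻¹ * a y)) ((x⁻¹ * (y⁻¹ * a y))⁻¹ * a (x⁻¹ * (y⁻¹ * a y))) y hcomm
      (by rw [mul_inv_cancel_left]) (by rw [mul_inv_cancel_left]) (hfixz _ hd₁z)
      (by rw [mul_inv_cancel_left]) (hfixz _ hd₂z)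
      (by rw [mul_inv_cancel_left, mul_inv_cancel_left]) p
    rw [hap, MulAut.one_apply] at hB
    have hB' := left_eq_mul.mp hB
    have hdvd2 : p ∣ p.choose 2 := hpp.dvd_choose_self (by norm_num) h2p
    obtain ⟨r, hr⟩ := hdvd2
    have hd₂p : ((x⁻¹ * (y⁻¹ * a y))⁻¹ * a (x⁻¹ * (y⁻¹ * a y))) ^ p = 1 := (hE _).1 hd₂E
    rw [hz₂p, hr, pow_mul, pow_mul, hz₁p, hd₂p, one_pow] at hB'
    simp only [mul_one] at hB'
    refine ⟨_, hd₁E, hB', ?_⟩
    intro hax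
    rw [hax, inv_mul_cancel, map_one, inv_one, one_mul]
  -- the moved element and its commutator
  have he₁z := hδ x₀ hx₀E
  have he₁1 : x₀⁻¹ * a x₀ ≠ 1 := by
    intro h
    apply hx₀a
    have := congrArg (fun t => x₀ * t) h
    simpa using this
  refine ⟨?_, (c' : L), hoc, hac, ?_⟩
  · -- `p = 3`
    by_contra hp3
    have h3p : 3 < p := by
      have := hpp.two_le
      omega
    obtain ⟨x, hxH, hxe⟩ := hsurj _ (hzE _ he₁z)
    obtain ⟨d, hdE, hd, -⟩ := key x hxH x₀ hx₀E hxe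
    obtain ⟨r, hr⟩ := hpp.dvd_choose_self (by norm_num : (3 : ℕ) ≠ 0) h3p
    rw [hr, pow_mul, (hE d).1 hdE, one_pow, mul_one] at hd
    exact he₁1 (hxe ▸ hd)
  · -- the fixed points
    intro c₁ hc₁
    by_contra hc₁z
    obtain ⟨k, hk⟩ := (IsPGroup.iff_orderOf.mp hL) c₁
    have hk2 : 2 ≤ k := by
      by_contra hlt
      have hk1 : k ≤ 1 := by omega
      have hc₁p : c₁ ^ p = 1 := by
        apply orderOf_dvd_iff_pow_eq_one.mp
        rw [hk]
        calc p ^ k ∣ p ^ 1 := pow_dvd_pow p hk1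
          _ = p := pow_one p
      exact hc₁z (hfixE c₁ ((hE _).2 hc₁p) hc₁)
    have hxH : c₁ ^ p ^ (k - 2) ∈ H := by
      rw [hH, ← pow_mul, ← pow_add, Nat.sub_add_cancel hk2, ← hk]
      exact pow_orderOf_eq_one c₁
    have hxp1 : (c₁ ^ p ^ (k - 2)) ^ p ≠ 1 := by
      rw [← pow_mul, ← pow_succ]
      intro h
      have hdvd := orderOf_dvd_of_pow_eq_one h
      rw [hk] at hdvd
      have := (Nat.pow_dvd_pow_iff_le_right hpp.one_lt).mp hdvd
      omega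
    have hax : a (c₁ ^ p ^ (k - 2)) = c₁ ^ p ^ (k - 2) := by rw [map_pow, hc₁]
    have hxpE : (c₁ ^ p ^ (k - 2)) ^ p ∈ E := by
      rw [hE, ← pow_mul, ← pow_two]
      exact (hH _).1 hxH
    have hxpz : (c₁ ^ p ^ (k - 2)) ^ p ∈ zpowers (c' : L) :=
      hfixE _ hxpE (by rw [map_pow, hax])
    -- `x^p` is a power of `e₁`
    have hcardz : Nat.card ↥(zpowers (c' : L)) = p := by rw [Nat.card_zpowers, hoc]
    have hg1 : (⟨x₀⁻¹ * a x₀, he₁z⟩ : ↥(zpowers (c' : L))) ≠ 1 := by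
      intro h
      exact he₁1 (congrArg Subtype.val h)
    obtain ⟨u, hu⟩ := mem_powers_of_prime_card hcardz hg1
      (g' := (⟨(c₁ ^ p ^ (k - 2)) ^ p, hxpz⟩ : ↥(zpowers (c' : L))))
    have hu' : (x₀⁻¹ * a x₀) ^ u = (c₁ ^ p ^ (k - 2)) ^ p := congrArg Subtype.val hu
    have hcm : Commute x₀⁻¹ (a x₀) := by
      have : Commute x₀ (a x₀) := hEZ x₀ hx₀E (a x₀) (hEH _ (haE x₀ hx₀E))
      exact this.inv_left
    have hxe : (c₁ ^ p ^ (k - 2)) ^ p = (x₀ ^ u)⁻¹ * a (x₀ ^ u) := by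
      rw [← hu', hcm.mul_pow, inv_pow, map_pow]
    obtain ⟨d, hdE, hd, hd1⟩ := key _ hxH (x₀ ^ u) (pow_mem hx₀E u) hxe
    rw [hd1 hax, one_pow, mul_one] at hd
    exact hxp1 hd

end Cfsg.Agent.Lib.Helper7.MetaAutF
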