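import Mathlib
import Cfsg.Prelude.Def_OddOrderLocal
import Cfsg.Agent.S0662
import Cfsg.Agent.Lib.Lead.MaxClass3
import Cfsg.Agent.Lib.Helper2.MetaOmegaK4

set_option autoImplicit false

/-!
# S4079, package R: the converse

In a `p`-group `G` of maximal class (`p` odd) with a metacyclic maximal subgroup `L` without
cyclic maximal subgroups, no element outside `L` centralizes `Ω₁(L)`.
-/

namespace Cfsg.Agent.Lib.Helper7.MetaAutR

open Subgroup
open scoped commutatorElement

theorem exists_moved_of_maximal_class {G : Type*} [Group G] [Finite G] {p : ℕ} [Fact p.Prime]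
    (hp : p ≠ 2) (m : ℕ) (hG : Nat.card G = p ^ (m + 1)) (hcl : Group.nilpotencyClass G = m)
    (L : Subgroup G) [L.Normal] (hLidx : L.index = p) (hmc : Cfsg.IsMetacyclic ↥L)
    (hnt : Nontrivial ↥L)
    (hnc : ∀ C : Subgroup ↥L, IsCyclic C → C.index ≠ p)
    (a : G) (haL : a ∉ L) : ∃ x ∈ L, orderOf x = p ∧ a * x ≠ x * a := by
  classical
  have hpp : p.Prime := Fact.out
  have hGp : IsPGroup p G := IsPGroup.of_card hG
  have hLp : IsPGroup p ↥L := hGp.to_subgroup L
  have : Group.IsNilpotent G := hGp.isNilpotent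
  obtain ⟨E₀, H₀, hE₀, hH₀, hE₀card, hH₀card, hEZ, hpow, hsurj⟩ :=
    Cfsg.Agent.Lib.Helper2.MetaOmegaK.omega_structure hp hLp hmc hnt hnc
  have hLcard : Nat.card ↥L = p ^ m := by
    have h := L.card_mul_index
    rw [hLidx, hG, pow_succ] at h
    exact Nat.eq_of_mul_eq_mul_right hpp.pos h
  have hm4 : 4 ≤ m := by
    have h := Subgroup.card_subgroup_dvd_card H₀
    rw [hH₀card, hLcard] at h
    exact (Nat.pow_dvd_pow_iff_le_right hpp.one_lt).mp h
  by_contra hcon0
  have hcon : ∀ x ∈ L, orderOf x = p → a * x = x * a := by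
    intro x hx ho
    by_contra h
    exact hcon0 ⟨x, hx, ho, h⟩
  -- `E = Ω₁(L)` as a subgroup of `G`
  have hEmem : ∀ x : G, x ∈ E₀.map L.subtype ↔ x ∈ L ∧ x ^ p = 1 := by
    intro x
    constructor
    · rintro ⟨y, hy, rfl⟩
      refine ⟨y.2, ?_⟩
      have := (hE₀ y).1 hy
      have h2 := congrArg Subtype.val this
      simpa using h2
    · rintro ⟨hxL, hxp⟩
      refine ⟨⟨x, hxL⟩, (hE₀ _).2 (Subtype.ext ?_), rfl⟩
      simpa using hxp
  have hEn : (E₀.map L.subtype).Normal := by
    refine ⟨fun x hx g => ?_⟩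
    obtain ⟨hxL, hxp⟩ := (hEmem x).1 hx
    refine (hEmem _).2 ⟨‹L.Normal›.conj_mem x hxL g, ?_⟩
    rw [conj_pow, hxp, mul_one, mul_inv_cancel]
  have hEcard : Nat.card ↥(E₀.map L.subtype) = p ^ 2 := by
    rw [Subgroup.card_map_of_injective L.subtype_injective, hE₀card]
  have hEidx : (E₀.map L.subtype).index = p ^ (m - 1) := by
    have h := (E₀.map L.subtype).card_mul_index
    rw [hEcard, hG] at h
    have h2 : p ^ (m + 1) = p ^ 2 * p ^ (m - 1) := by
      rw [← pow_add]; congr 1; omega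
    rw [h2] at h
    exact Nat.eq_of_mul_eq_mul_left (pow_pos hpp.pos 2) h
  have hEnc : ¬ IsCyclic ↥(E₀.map L.subtype) := by
    intro hcyc
    obtain ⟨g, hg⟩ := hcyc.exists_ofOrder_eq_natCard
    rw [hEcard] at hg
    have hgp : g ^ p = 1 := by
      apply Subtype.ext
      rw [Subgroup.coe_pow, Subgroup.coe_one]
      exact ((hEmem g).1 g.2).2
    have hdvd := orderOf_dvd_of_pow_eq_one hgp
    rw [hg] at hdvd
    have := Nat.le_of_dvd hpp.pos hdvd
    have h1 : p < p ^ 2 := by
      calc p = p ^ 1 := (pow_one p).symm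
        _ < p ^ 2 := Nat.pow_lt_pow_right hpp.one_lt (by norm_num)
    omega
  have haE : ∀ x ∈ E₀.map L.subtype, a * x = x * a := by
    intro x hx
    obtain ⟨hxL, hxp⟩ := (hEmem x).1 hx
    by_cases hx1 : x = 1
    · rw [hx1, mul_one, one_mul]
    · exact hcon x hxL (orderOf_eq_prime hxp hx1)
  -- the S0662 input
  have hS := (Cfsg.Agent.S0662.result (p := p) (m + 1) hG (by rw [hcl]; rfl) (by omega)).1
  have hEγ : E₀.map L.subtype = (⊤ : Subgroup G).lowerCentralSeries (m - 1 - 1) :=
    hS _ (m - 1) (by omega) hEidx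
  -- `γ_{m-1} ≤ Z(G)`
  have hγcen : (⊤ : Subgroup G).lowerCentralSeries (m - 1) ≤ center G := by
    have h := Subgroup.lowerCentralSeries_nilpotencyClass (G := G)
    rw [hcl] at h
    have h2 : (⊤ : Subgroup G).lowerCentralSeries (m - 1 + 1) = ⊥ := by
      rw [Nat.sub_add_cancel (by omega)]; exact h
    rw [Subgroup.lowerCentralSeries_succ, Subgroup.commutator_eq_bot_iff_le_centralizer,
      Subgroup.coe_top, Subgroup.centralizer_univ] at h2
    exact h2
  have hcenter := (Cfsg.Agent.Lib.Lead.card_center_of_maximal_class (p := p) (X := G) (m + 1)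
    (by omega) hG (by rw [hcl]; rfl)).1
  -- the commutator subgroup of `L`
  have hCL : ⁅L, L⁆ ≤ L := Subgroup.commutator_le_left L L
  have hCcyc : IsCyclic ↥⁅L, L⁆ := by
    obtain ⟨N₀, hN₀n, hN₀c, hQc⟩ := hmc
    have := hN₀n
    have := hN₀c
    have := hQc
    have hNcyc : IsCyclic ↥(N₀.map L.subtype) :=
      isCyclic_of_surjective (N₀.equivMapOfInjective L.subtype L.subtype_injective)
        (N₀.equivMapOfInjective L.subtype L.subtype_injective).surjective
    have hle : ⁅L, L⁆ ≤ N₀.map L.subtype := by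
      rw [Subgroup.commutator_le]
      intro g₁ hg₁ g₂ hg₂
      have hmem : ⁅(⟨g₁, hg₁⟩ : ↥L), ⟨g₂, hg₂⟩⁆ ∈ N₀ := by
        rw [← QuotientGroup.eq_one_iff, ← QuotientGroup.mk'_apply, map_commutatorElement,
          commutatorElement_eq_one_iff_commute]
        have : IsMulCommutative (↥L ⧸ N₀) := IsCyclic.isMulCommutative
        exact mul_comm' _ _
      exact ⟨_, hmem, by simp [commutatorElement_def]⟩
    exact isCyclic_of_le hle
  -- the commutator subgroup of `L` is central of exponent `p`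
  have hCprop : ⁅L, L⁆ ≤ center G ∧ ∀ c ∈ ⁅L, L⁆, c ^ p = 1 := by
    obtain ⟨r, hr, hidx⟩ : ∃ r ≤ m + 1, (⁅L, L⁆ : Subgroup G).index = p ^ r := by
      have hd : (⁅L, L⁆ : Subgroup G).index ∣ p ^ (m + 1) := by
        rw [← hG]; exact Subgroup.index_dvd_card _
      exact (Nat.dvd_prime_pow hpp).1 hd
    have hr0 : r ≠ 0 := by
      rintro rfl
      rw [pow_zero, Subgroup.index_eq_one] at hidx
      have hLtop : L = ⊤ := top_le_iff.mp (hidx ▸ hCL)
      rw [hLtop, Subgroup.index_top] at hLidx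
      exact hpp.one_lt.ne hLidx
    have hr1 : r ≠ 1 := by
      rintro rfl
      rw [pow_one] at hidx
      have hcard : Nat.card ↥L ≤ Nat.card ↥⁅L, L⁆ := by
        have h1 := (⁅L, L⁆ : Subgroup G).card_mul_index
        have h2 := L.card_mul_index
        rw [hidx] at h1
        rw [hLidx, ← h1] at h2
        exact (Nat.eq_of_mul_eq_mul_right hpp.pos h2).le
      have heq : ⁅L, L⁆ = L := Subgroup.eq_of_le_of_card_ge hCL hcard
      have hLc : IsCyclic ↥L := heq ▸ hCcyc
      exact Cfsg.Agent.Lib.Helper2.MetaOmegaK.not_isCyclic_of_no_cyclic_index hLp hnt hnc hLc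
    have hCγ : ⁅L, L⁆ = (⊤ : Subgroup G).lowerCentralSeries (r - 1) :=
      hS _ r (by omega) hidx
    have hrm : m ≤ r := by
      by_contra hlt
      apply hEnc
      have hle : E₀.map L.subtype ≤ ⁅L, L⁆ := by
        rw [hEγ, hCγ]
        exact Subgroup.lowerCentralSeries_antitone _ (by omega)
      exact isCyclic_of_le hle
    have hCcen : ⁅L, L⁆ ≤ center G := by
      rw [hCγ]
      exact le_trans (Subgroup.lowerCentralSeries_antitone _ (by omega)) hγcen
    refine ⟨hCcen, fun c hc => ?_⟩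
    have h1 : orderOf c ∣ Nat.card ↥⁅L, L⁆ := Subgroup.orderOf_dvd_natCard _ hc
    have h2 : Nat.card ↥⁅L, L⁆ ∣ Nat.card ↥(center G) := Subgroup.card_dvd_of_le hCcen
    rw [hcenter] at h2
    exact orderOf_dvd_iff_pow_eq_one.mp (h1.trans h2)
  obtain ⟨hCcen, hCexp⟩ := hCprop
  -- `L` centralizes `E`
  have hLE : ∀ g ∈ L, ∀ x ∈ E₀.map L.subtype, g * x = x * g := by
    intro g hg x hx
    obtain ⟨y, hy, rfl⟩ := hx
    obtain ⟨h, hhH, hhy⟩ := hsurj y hy
    have hc : ⁅(h : G)⁻¹, g⁆ ∈ ⁅L, L⁆ :=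
      Subgroup.commutator_mem_commutator (inv_mem h.2) hg
    have hccen := hCcen hc
    have hcomm : Commute (h : G) ⁅(h : G)⁻¹, g⁆ := (Subgroup.mem_center_iff.mp hccen (h : G))
    have hconj : g * (h : G) * g⁻¹ = (h : G) * ⁅(h : G)⁻¹, g⁆ := by
      rw [commutatorElement_def]; group
    have hyh : ((y : ↥L) : G) = (h : G) ^ p := by rw [← hhy]; simp
    have : g * (L.subtype y) * g⁻¹ = L.subtype y := by
      rw [Subgroup.coe_subtype, hyh, ← conj_pow, hconj, hcomm.mul_pow, hCexp _ hc, mul_one]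
    calc g * L.subtype y = g * L.subtype y * g⁻¹ * g := by group
      _ = L.subtype y * g := by rw [this]
  -- hence `E ≤ Z(G)`
  have hZtop : centralizer ((E₀.map L.subtype : Subgroup G) : Set G) = ⊤ := by
    have hLZ : L ≤ centralizer ((E₀.map L.subtype : Subgroup G) : Set G) := by
      intro g hg
      rw [Subgroup.mem_centralizer_iff]
      intro x hx
      exact (hLE g hg x hx).symm
    have haZ : a ∈ centralizer ((E₀.map L.subtype : Subgroup G) : Set G) := by
      rw [Subgroup.mem_centralizer_iff]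
      intro x hx
      exact (haE x hx).symm
    have h := Subgroup.relIndex_mul_index hLZ
    rw [hLidx] at h
    have hdvd : (centralizer ((E₀.map L.subtype : Subgroup G) : Set G)).index ∣ p :=
      Dvd.intro_left _ h
    rcases (Nat.dvd_prime hpp).1 hdvd with h1 | h1
    · exact Subgroup.index_eq_one.mp h1
    · rw [h1] at h
      have h2 : L.relIndex (centralizer ((E₀.map L.subtype : Subgroup G) : Set G)) = 1 := by
        have : L.relIndex (centralizer ((E₀.map L.subtype : Subgroup G) : Set G)) * p = 1 * p := by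
          rw [h, one_mul]
        exact Nat.eq_of_mul_eq_mul_right hpp.pos this
      exact absurd (Subgroup.relIndex_eq_one.mp h2 haZ) haL
  have hEcen : E₀.map L.subtype ≤ center G := by
    intro x hx
    rw [Subgroup.mem_center_iff]
    intro g
    have hg : g ∈ centralizer ((E₀.map L.subtype : Subgroup G) : Set G) := by
      rw [hZtop]; exact mem_top g
    rw [Subgroup.mem_centralizer_iff] at hg
    exact (hg x hx).symm
  have := Subgroup.card_le_of_le hEcen
  rw [hEcard, hcenter] at this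
  have h1 : p < p ^ 2 := by
    calc p = p ^ 1 := (pow_one p).symm
      _ < p ^ 2 := Nat.pow_lt_pow_right hpp.one_lt (by norm_num)
  omega

end Cfsg.Agent.Lib.Helper7.MetaAutR
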