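import Mathlib
import Cfsg.Prelude.Def_OddOrderLocal
import Cfsg.Agent.S0112
import Cfsg.Agent.Lib.Helper7.MetaAutR

set_option autoImplicit false

/-!
# S4079: the two directions in the semidirect product `L ⋊ ⟨a⟩`
-/

namespace Cfsg.Agent.Lib.Helper7.MetaAutS

open Subgroup

theorem isMetacyclic_transfer {D E : Type*} [Group D] [Group E] (e : D ≃* E)
    (h : Cfsg.IsMetacyclic D) : Cfsg.IsMetacyclic E := by
  obtain ⟨N, hNn, hNc, hQc⟩ := h
  have := hNn
  have := hNc
  have := hQc
  have hNn' : (N.map e.toMonoidHom).Normal := Subgroup.Normal.map hNn _ e.surjective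
  refine ⟨N.map e.toMonoidHom, hNn', ?_, ?_⟩
  · exact isCyclic_of_surjective (e.subgroupMap N).toMonoidHom (e.subgroupMap N).surjective
  · let ψ : D ⧸ N →* E ⧸ N.map e.toMonoidHom :=
      QuotientGroup.map N (N.map e.toMonoidHom) e.toMonoidHom (Subgroup.le_comap_map _ _)
    apply isCyclic_of_surjective ψ
    intro q
    obtain ⟨y, rfl⟩ := QuotientGroup.mk_surjective q
    exact ⟨QuotientGroup.mk (e.symm y), by
      show QuotientGroup.mk (e (e.symm y)) = _
      rw [e.apply_symm_apply]⟩

theorem finite_semidirect {L : Type*} [Group L] [Finite L] (a : MulAut L) :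
    Finite (SemidirectProduct L ↥(zpowers a) (zpowers a).subtype) := by
  have : Finite ↥(zpowers a) := inferInstance
  exact Finite.of_equiv _ SemidirectProduct.equivProd.symm

theorem fixes_of_mem_zpowers {L : Type*} [Group L] (a : MulAut L) (e₁ : L) (hfix : a e₁ = e₁)
    (z : MulAut L) (hz : z ∈ zpowers a) (n : L) (hn : n ∈ zpowers e₁) : z n = n := by
  have h1 : zpowers a ≤ MulAction.stabilizer (MulAut L) e₁ := by
    rw [Subgroup.zpowers_le, MulAction.mem_stabilizer_iff, MulAut.smul_def]
    exact hfix
  have h2 := h1 hz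
  rw [MulAction.mem_stabilizer_iff, MulAut.smul_def] at h2
  obtain ⟨i, rfl⟩ := hn
  rw [map_zpow, h2]

/-- Forward direction: a self-centralizing subgroup of order `p²`. -/
theorem nilpotencyClass_semidirect {L : Type*} [Group L] [Finite L] {p : ℕ} [Fact p.Prime]
    (a : MulAut L) (ha : orderOf a = p) (m : ℕ) (hm : Nat.card L = p ^ m)
    (e₁ : L) (he₁ : orderOf e₁ = p) (hfix : a e₁ = e₁)
    (hall : ∀ c : L, a c = c → c ∈ zpowers e₁) :
    Group.nilpotencyClass (SemidirectProduct L ↥(zpowers a) (zpowers a).subtype) = m := by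
  classical
  have := finite_semidirect a
  have hcard : Nat.card (SemidirectProduct L ↥(zpowers a) (zpowers a).subtype) = p ^ (m + 1) := by
    rw [SemidirectProduct.card, hm, Nat.card_zpowers, ha, pow_succ]
  have hfz : ∀ (z : ↥(zpowers a)) (n : L), n ∈ zpowers e₁ → (zpowers a).subtype z n = n :=
    fun z n hn => fixes_of_mem_zpowers a e₁ hfix z z.2 n hn
  let A : Subgroup (SemidirectProduct L ↥(zpowers a) (zpowers a).subtype) :=
    { carrier := {g | g.left ∈ zpowers e₁}
      mul_mem' := by
        intro x y hx hy
        show (x * y).left ∈ zpowers e₁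
        rw [SemidirectProduct.mul_left, hfz _ _ hy]
        exact mul_mem hx hy
      one_mem' := by
        show (1 : SemidirectProduct L ↥(zpowers a) (zpowers a).subtype).left ∈ zpowers e₁
        rw [SemidirectProduct.one_left]
        exact one_mem _
      inv_mem' := by
        intro x hx
        show (x⁻¹).left ∈ zpowers e₁
        rw [SemidirectProduct.inv_left, hfz _ _ (inv_mem hx)]
        exact inv_mem hx }
  have hAmem : ∀ g, g ∈ A ↔ g.left ∈ zpowers e₁ := fun g => Iff.rfl
  have hAcard : Nat.card ↥A = p ^ 2 := by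
    let eqv : ↥A ≃ ↥(zpowers e₁) × ↥(zpowers a) :=
      { toFun := fun g => (⟨g.1.left, g.2⟩, g.1.right)
        invFun := fun nz => ⟨⟨nz.1.1, nz.2⟩, nz.1.2⟩
        left_inv := fun g => rfl
        right_inv := fun nz => rfl }
    rw [Nat.card_congr eqv, Nat.card_prod, Nat.card_zpowers, Nat.card_zpowers, he₁, ha, pow_two]
  have hAC : centralizer (A : Set (SemidirectProduct L ↥(zpowers a) (zpowers a).subtype)) = A := by
    ext g
    rw [Subgroup.mem_centralizer_iff]
    constructor
    · intro hg
      have ht : (SemidirectProduct.inr ⟨a, mem_zpowers a⟩ :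
          SemidirectProduct L ↥(zpowers a) (zpowers a).subtype) ∈ A := by
        rw [hAmem, SemidirectProduct.left_inr]; exact one_mem _
      have h := congrArg SemidirectProduct.left (hg _ ht)
      rw [SemidirectProduct.mul_left, SemidirectProduct.mul_left, SemidirectProduct.left_inr,
        SemidirectProduct.right_inr, one_mul, map_one, mul_one] at h
      rw [hAmem]
      exact hall _ h
    · intro hg h hh
      rw [hAmem] at hg
      have hh' : h.left ∈ zpowers e₁ := hh
      apply SemidirectProduct.ext
      · rw [SemidirectProduct.mul_left, SemidirectProduct.mul_left, hfz _ _ hg, hfz _ _ hh']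
        obtain ⟨i, hi⟩ := hg
        obtain ⟨j, hj⟩ := hh'
        rw [← hi, ← hj]
        exact zpow_mul_comm e₁ j i
      · rw [SemidirectProduct.mul_right, SemidirectProduct.mul_right]
        apply Subtype.ext
        rw [Subgroup.coe_mul, Subgroup.coe_mul]
        obtain ⟨i, hi⟩ := g.right.2
        obtain ⟨j, hj⟩ := h.right.2
        rw [← hi, ← hj]
        exact zpow_mul_comm a j i
  have h := Cfsg.Agent.S0112.result (m + 1) hcard A hAcard hAC
  rw [h, Nat.add_sub_cancel]

/-- Backward direction. -/
theorem exists_moved_of_class {L : Type*} [Group L] [Finite L] {p : ℕ} [Fact p.Prime]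
    (hp : p ≠ 2) (hmc : Cfsg.IsMetacyclic L) (hnt : Nontrivial L)
    (hnc : ∀ C : Subgroup L, IsCyclic C → C.index ≠ p)
    (a : MulAut L) (ha : orderOf a = p) (m : ℕ) (hm : Nat.card L = p ^ m)
    (hcl : Group.nilpotencyClass (SemidirectProduct L ↥(zpowers a) (zpowers a).subtype) = m) :
    ∃ x : L, orderOf x = p ∧ a x ≠ x := by
  classical
  have hpp : p.Prime := Fact.out
  have := finite_semidirect a
  have hcard : Nat.card (SemidirectProduct L ↥(zpowers a) (zpowers a).subtype) = p ^ (m + 1) := by
    rw [SemidirectProduct.card, hm, Nat.card_zpowers, ha, pow_succ]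
  have hinj : Function.Injective
      (SemidirectProduct.inl : L →* SemidirectProduct L ↥(zpowers a) (zpowers a).subtype) :=
    SemidirectProduct.inl_injective
  have hLn : (SemidirectProduct.inl :
      L →* SemidirectProduct L ↥(zpowers a) (zpowers a).subtype).range.Normal := by
    rw [SemidirectProduct.range_inl_eq_ker_rightHom]; infer_instance
  let e : L ≃* ↥(SemidirectProduct.inl :
      L →* SemidirectProduct L ↥(zpowers a) (zpowers a).subtype).range := MonoidHom.ofInjective hinj
  have hLcard : Nat.card ↥(SemidirectProduct.inl :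
      L →* SemidirectProduct L ↥(zpowers a) (zpowers a).subtype).range = p ^ m := by
    rw [← Nat.card_congr e.toEquiv, hm]
  have hLidx : (SemidirectProduct.inl :
      L →* SemidirectProduct L ↥(zpowers a) (zpowers a).subtype).range.index = p := by
    have h := (SemidirectProduct.inl :
      L →* SemidirectProduct L ↥(zpowers a) (zpowers a).subtype).range.card_mul_index
    rw [hLcard, hcard, pow_succ] at h
    exact Nat.eq_of_mul_eq_mul_left (pow_pos hpp.pos m) h
  have hmc' := isMetacyclic_transfer e hmc
  have hnt' : Nontrivial ↥(SemidirectProduct.inl :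
      L →* SemidirectProduct L ↥(zpowers a) (zpowers a).subtype).range := e.symm.toEquiv.nontrivial
  have hnc' : ∀ C : Subgroup ↥(SemidirectProduct.inl :
      L →* SemidirectProduct L ↥(zpowers a) (zpowers a).subtype).range, IsCyclic C → C.index ≠ p := by
    intro C hC hidx
    refine hnc (C.map (e.symm : _ →* L)) ?_ ?_
    · exact isCyclic_of_surjective (e.symm.subgroupMap C).toMonoidHom (e.symm.subgroupMap C).surjective
    · rw [Subgroup.index_map_equiv]; exact hidx
  have ha1 : a ≠ 1 := by
    intro h
    rw [h, orderOf_one] at ha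
    exact hpp.one_lt.ne ha
  have haL : (SemidirectProduct.inr ⟨a, mem_zpowers a⟩ :
      SemidirectProduct L ↥(zpowers a) (zpowers a).subtype) ∉ (SemidirectProduct.inl :
      L →* SemidirectProduct L ↥(zpowers a) (zpowers a).subtype).range := by
    rw [SemidirectProduct.range_inl_eq_ker_rightHom, MonoidHom.mem_ker,
      SemidirectProduct.rightHom_inr]
    intro h
    exact ha1 (congrArg Subtype.val h)
  obtain ⟨x, ⟨x', rfl⟩, hxo, hne⟩ :=
    Cfsg.Agent.Lib.Helper7.MetaAutR.exists_moved_of_maximal_class hp m hcard hcl _ hLidx hmc' hnt'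
      hnc' _ haL
  refine ⟨x', ?_, ?_⟩
  · rw [← hxo]; exact (orderOf_injective _ hinj x').symm
  · intro hfix
    apply hne
    apply SemidirectProduct.ext
    · rw [SemidirectProduct.mul_left, SemidirectProduct.mul_left, SemidirectProduct.left_inr,
        SemidirectProduct.right_inr, SemidirectProduct.left_inl, SemidirectProduct.right_inl,
        one_mul, map_one, mul_one]
      exact hfix
    · rw [SemidirectProduct.mul_right, SemidirectProduct.mul_right, SemidirectProduct.right_inr,
        SemidirectProduct.right_inl, one_mul, mul_one]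

end Cfsg.Agent.Lib.Helper7.MetaAutS
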