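import Mathlib
import Cfsg.Prelude.Def_Transfer
import Cfsg.Agent.Lib.Lead.CoprimeSylow3
import Cfsg.Agent.Lib.Lead.CoprimeTools
import Cfsg.Agent.Lib.Lead.HallTools
import Cfsg.Agent.Lib.Helper2.MinNormal
import Cfsg.Agent.Lib.Helper7.IrredCard

set_option autoImplicit false

namespace Cfsg.Agent.Lib.Helper7

open Cfsg.Agent.Lib

section
variable {G : Type*} [Group G] [Finite G] {p : ℕ} [hp : Fact p.Prime]

/-- a nontrivial non-simple group has a proper minimal normal subgroup -/
theorem exists_min_normal_proper [Nontrivial G] (hns : ¬ IsSimpleGroup G) :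
    ∃ N : Subgroup G, N.Normal ∧ N ≠ ⊥ ∧ N ≠ ⊤ ∧
      ∀ B : Subgroup G, B.Normal → B ≤ N → B = ⊥ ∨ B = N := by
  classical
  have hex : ∃ N : Subgroup G, N.Normal ∧ N ≠ ⊥ ∧ N ≠ ⊤ := by
    by_contra h
    push Not at h
    apply hns
    exact
      { eq_bot_or_eq_top_of_normal := fun N hN => by
          by_cases h1 : N = ⊥
          · exact Or.inl h1
          · exact Or.inr (h N hN h1) }
  let S : Set (Subgroup G) := {N | N.Normal ∧ N ≠ ⊥ ∧ N ≠ ⊤}
  obtain ⟨N, hN, hmin⟩ := Set.exists_min_image S (fun N => Nat.card N) (Set.toFinite S) hex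
  refine ⟨N, hN.1, hN.2.1, hN.2.2, ?_⟩
  intro B hB hBN
  by_cases hB1 : B = ⊥
  · exact Or.inl hB1
  · right
    have hBt : B ≠ ⊤ := by
      intro h
      apply hN.2.2
      rw [eq_top_iff, ← h]; exact hBN
    exact Subgroup.eq_of_le_of_card_ge hBN (hmin B ⟨hB, hB1, hBt⟩)

/-- the order of a Sylow subgroup of `G` inside a subgroup `K` -/
theorem sylow_card_eq_of_le (P : Sylow p G) (K : Subgroup G) (hPK : (P : Subgroup G) ≤ K) :
    Nat.card (P : Subgroup G) = p ^ (Nat.card K).factorization p := by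
  have h1 := (P.subtype hPK).card_eq_multiplicity
  rw [Sylow.coe_subtype, Lead.card_subgroupOf_of_le hPK] at h1
  exact h1

/-- **The common skeleton of minimal non-closed groups.** -/
theorem minNonClosed_skeleton
    (P : Sylow p G) (N : Subgroup G) [hNn : N.Normal] (hNne : N ≠ ⊥)
    (hmin : ∀ B : Subgroup G, B.Normal → B ≤ N → B = ⊥ ∨ B = N)
    (hPN : (P : Subgroup G) ⊔ N = ⊤) (hpN : ¬ p ∣ Nat.card N)
    (hPnn : ¬ (P : Subgroup G).Normal)
    (H1 : ∀ K : Subgroup G, K ≠ ⊤ → ∀ R : Subgroup G, R ≤ P → R ≤ K →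
        Nat.card R = p ^ (Nat.card K).factorization p → K ≤ Subgroup.normalizer (R : Set G))
    (H2 : ∀ R : Subgroup G, R.Normal → R ≤ P → R = ⊥) :
    ∃ q : ℕ, q.Prime ∧ q ≠ p ∧ Cfsg.IsElementaryAbelian q N ∧ N.index = p := by
  classical
  have hpp := hp.out
  have hNtop : Subgroup.normalizer (N : Set G) = ⊤ := Subgroup.normalizer_eq_top N
  have hPnorm : (P : Subgroup G) ≤ Subgroup.normalizer (N : Set G) := by
    rw [hNtop]; exact le_top
  obtain ⟨n, hn⟩ := IsPGroup.iff_card.mp P.isPGroup'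
  have hcop : (Nat.card (P : Subgroup G)).Coprime (Nat.card N) := by
    rw [hn]; exact Nat.Coprime.pow_left n ((Nat.Prime.coprime_iff_not_dvd hpp).mpr hpN)
  have hdisj : (P : Subgroup G) ⊓ N = ⊥ :=
    disjoint_iff.mp (Subgroup.disjoint_of_coprime_natCard hcop)
  have hcardG : Nat.card G = Nat.card (P : Subgroup G) * Nat.card N := by
    have := Lead.card_sup_of_disjoint (P : Subgroup G) N hPnorm hdisj
    rw [hPN, Subgroup.card_top] at this
    exact this
  have hn0 : n ≠ 0 := by
    intro h0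
    apply hPnn
    have : (P : Subgroup G) = ⊥ := by rw [← Subgroup.card_eq_one, hn, h0, pow_zero]
    rw [this]; infer_instance
  -- a maximal subgroup of `P`
  obtain ⟨P₁', hP₁'⟩ := Sylow.exists_subgroup_card_pow_prime (G := (P : Subgroup G)) p
    (n := n - 1) (by rw [hn]; exact pow_dvd_pow p (Nat.sub_le n 1))
  have hpn : p ^ n = p ^ (n - 1) * p := by
    rw [← pow_succ]; congr 1; omega
  have hidx' : P₁'.index = p := by
    have := Subgroup.card_mul_index P₁'
    rw [hP₁', hn, hpn] at this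
    exact Nat.eq_of_mul_eq_mul_left (pow_pos hpp.pos _) this
  have hminFac : (Nat.card (P : Subgroup G)).minFac = p := by
    rw [hn]; exact Nat.Prime.pow_minFac hpp hn0
  haveI hP₁'n : P₁'.Normal :=
    Subgroup.normal_of_index_eq_minFac_card (by rw [hidx', hminFac])
  set P₁ : Subgroup G := P₁'.map (P : Subgroup G).subtype with hP₁
  have hP₁P : P₁ ≤ P := Subgroup.map_subtype_le _
  have hP₁card : Nat.card P₁ = p ^ (n - 1) := by rw [Lead.card_map_subtype, hP₁']
  have hP₁N : P₁ ⊓ N = ⊥ := by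
    rw [eq_bot_iff, ← hdisj]; exact inf_le_inf_right N hP₁P
  have hKcard : Nat.card (P₁ ⊔ N : Subgroup G) = p ^ (n - 1) * Nat.card N := by
    rw [Lead.card_sup_of_disjoint P₁ N (by rw [hNtop]; exact le_top) hP₁N, hP₁card]
  have hKne : P₁ ⊔ N ≠ ⊤ := by
    intro h
    rw [h, Subgroup.card_top, hcardG, hn] at hKcard
    have h2 := Nat.eq_of_mul_eq_mul_right Nat.card_pos hKcard
    have h3 := Nat.pow_right_injective hpp.two_le h2
    omega
  have hKfac : (Nat.card (P₁ ⊔ N : Subgroup G)).factorization p = n - 1 := by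
    rw [hKcard, Nat.factorization_mul (pow_pos hpp.pos _).ne' Nat.card_pos.ne',
      Finsupp.add_apply, Nat.Prime.factorization_pow hpp, Finsupp.single_eq_same,
      Nat.factorization_eq_zero_of_not_dvd hpN, add_zero]
  have hnorm₁ := H1 (P₁ ⊔ N) hKne P₁ hP₁P le_sup_left (by rw [hP₁card, hKfac])
  have hP₁n : P₁.Normal := by
    refine normal_of_sup_eq_top hPN ?_ ?_
    · intro h hh b hb
      obtain ⟨b', hb', rfl⟩ := hb
      refine ⟨⟨h, hh⟩ * b' * ⟨h, hh⟩⁻¹, hP₁'n.conj_mem b' hb' ⟨h, hh⟩, ?_⟩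
      simp
    · intro k hk b hb
      have hk' : k ∈ Subgroup.normalizer (P₁ : Set G) := hnorm₁ ((le_sup_right : N ≤ P₁ ⊔ N) hk)
      exact (Subgroup.mem_normalizer_iff.mp hk' b).mp hb
  have hP₁bot := H2 P₁ hP₁n hP₁P
  have hn1 : n = 1 := by
    rw [hP₁bot, Subgroup.card_bot] at hP₁card
    have := (Nat.pow_eq_one.mp hP₁card.symm).resolve_left hpp.one_lt.ne'
    omega
  have hPcard : Nat.card (P : Subgroup G) = p := by rw [hn, hn1, pow_one]
  haveI : Group.IsNilpotent (P : Subgroup G) := P.isPGroup'.isNilpotent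
  have hPsolv : Group.IsSolvable (P : Subgroup G) := inferInstance
  -- invariant Sylow subgroups of `N`
  have hinv : ∀ (q : ℕ) [Fact q.Prime], ∃ Q : Sylow q N,
      (P : Subgroup G) ≤ Subgroup.normalizer ((Q : Subgroup N).map N.subtype : Set G) :=
    fun q _ => Lead.coprime_invariant_sylow_exists (P : Subgroup G) N hPnorm hcop (Or.inl hPsolv) q
  obtain ⟨q, hqf, Q, hQinv, hQtop⟩ : ∃ (q : ℕ) (_ : Fact q.Prime) (Q : Sylow q N),
      (P : Subgroup G) ≤ Subgroup.normalizer ((Q : Subgroup N).map N.subtype : Set G) ∧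
      (P : Subgroup G) ⊔ (Q : Subgroup N).map N.subtype = ⊤ := by
    by_contra hcon
    push Not at hcon
    apply hPnn
    have hNle : N ≤ Subgroup.normalizer ((P : Subgroup G) : Set G) := by
      set M := N ⊓ Subgroup.normalizer ((P : Subgroup G) : Set G) with hM
      have hdvd : Nat.card N ∣ Nat.card M := by
        rw [← Nat.factorization_prime_le_iff_dvd Nat.card_pos.ne' Nat.card_pos.ne']
        intro q hq
        haveI : Fact q.Prime := ⟨hq⟩
        obtain ⟨Q, hQ⟩ := hinv q
        have hne := hcon q ⟨hq⟩ Q hQ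
        have hle := H1 _ hne P le_rfl le_sup_left (sylow_card_eq_of_le P _ le_sup_left)
        have hQM : (Q : Subgroup N).map N.subtype ≤ M :=
          le_inf (Subgroup.map_subtype_le _) (le_sup_right.trans hle)
        have h1 := Subgroup.card_dvd_of_le hQM
        rw [Lead.card_map_subtype, Q.card_eq_multiplicity] at h1
        exact (Nat.Prime.pow_dvd_iff_le_factorization hq Nat.card_pos.ne').mp h1
      have hMN : M = N :=
        Subgroup.eq_of_le_of_card_ge inf_le_left (Nat.le_of_dvd Nat.card_pos hdvd)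
      rw [← hMN]; exact inf_le_right
    rw [← Subgroup.normalizer_eq_top_iff, eq_top_iff, ← hPN]
    exact sup_le Subgroup.le_normalizer hNle
  set Q' : Subgroup G := (Q : Subgroup N).map N.subtype with hQ'
  have hQ'N : Q' ≤ N := Subgroup.map_subtype_le _
  have hPQ' : (P : Subgroup G) ⊓ Q' = ⊥ := by
    rw [eq_bot_iff, ← hdisj]; exact inf_le_inf_left _ hQ'N
  have h1 := Lead.card_sup_of_disjoint (P : Subgroup G) Q' hQinv hPQ'
  rw [hQtop, Subgroup.card_top, hcardG] at h1
  have h2 : Nat.card N = Nat.card Q' := Nat.eq_of_mul_eq_mul_left Nat.card_pos h1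
  have hQ'eq : Q' = N := Subgroup.eq_of_le_of_card_ge hQ'N h2.le
  have hQtop' : (Q : Subgroup N) = ⊤ := by
    rw [eq_top_iff]
    intro a _
    have : (a : G) ∈ Q' := by rw [hQ'eq]; exact a.2
    obtain ⟨b, hb, hba⟩ := this
    have : b = a := Subtype.ext hba
    rw [← this]; exact hb
  have hNq : IsPGroup q N := by
    intro a
    obtain ⟨k, hk⟩ := Q.isPGroup' ⟨a, by rw [hQtop']; trivial⟩
    exact ⟨k, by simpa using congrArg Subtype.val hk⟩
  -- `N` is abelian
  haveI : Nontrivial N := (Subgroup.nontrivial_iff_ne_bot N).mpr hNne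
  have hZnt : Nontrivial (Subgroup.center N) := hNq.center_nontrivial
  have hZn : ((Subgroup.center N).map N.subtype).Normal :=
    ConjAct.normal_of_characteristic_of_normal
  have hZeq : (Subgroup.center N).map N.subtype = N := by
    rcases hmin _ hZn (Subgroup.map_subtype_le _) with h | h
    · exfalso
      have h3 := (Subgroup.map_eq_bot_iff_of_injective _ N.subtype_injective).mp h
      rw [h3] at hZnt
      exact not_nontrivial _ hZnt
    · exact h
  have hNc : IsMulCommutative N := by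
    refine ⟨⟨fun a b => ?_⟩⟩
    have : (a : G) ∈ (Subgroup.center N).map N.subtype := by rw [hZeq]; exact a.2
    obtain ⟨z, hz, hza⟩ := this
    have : z = a := Subtype.ext hza
    rw [← this]
    exact (Subgroup.mem_center_iff.mp hz b).symm
  obtain ⟨q', hq', hexp, d, hd, hcard⟩ :=
    Helper2.exists_prime_pow_of_minNormal_abelian N hNne hmin hNc
  refine ⟨q', hq', ?_, ⟨hNc, hexp⟩, ?_⟩
  · rintro rfl
    apply hpN
    rw [hcard]
    exact dvd_pow_self _ hd.ne'
  · have := Subgroup.card_mul_index N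
    rw [hcardG, hPcard, mul_comm p] at this
    exact Nat.eq_of_mul_eq_mul_left Nat.card_pos this

end

end Cfsg.Agent.Lib.Helper7
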