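import Mathlib

set_option autoImplicit false

/-!
If a finite group `Q` has two distinct abelian normal subgroups of prime index `p`, then
`|Q'| ≤ p`.
-/

namespace Cfsg.Agent.Lib.Helper7.MinNonab

variable {Q : Type*} [Group Q]

/-- the commutator `x y x⁻¹ y⁻¹` as a homomorphism in `y`, when all commutators are central -/
def commHom (hc : ∀ x y z : Q, (x * y * x⁻¹ * y⁻¹) * z = z * (x * y * x⁻¹ * y⁻¹)) (x : Q) :
    Q →* Q :=
  MonoidHom.mk' (fun y => x * y * x⁻¹ * y⁻¹) (by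
    intro y y'
    have h1 := hc x y' (y⁻¹)
    calc x * (y * y') * x⁻¹ * (y * y')⁻¹
        = x * y * x⁻¹ * ((x * y' * x⁻¹ * y'⁻¹) * y⁻¹) := by group
      _ = x * y * x⁻¹ * (y⁻¹ * (x * y' * x⁻¹ * y'⁻¹)) := by rw [h1]
      _ = x * y * x⁻¹ * y⁻¹ * (x * y' * x⁻¹ * y'⁻¹) := by group)

@[simp] theorem commHom_apply (hc : ∀ x y z : Q, (x * y * x⁻¹ * y⁻¹) * z = z * (x * y * x⁻¹ * y⁻¹))
    (x y : Q) : commHom hc x y = x * y * x⁻¹ * y⁻¹ := rfl

theorem card_commutator_le [Finite Q] {p : ℕ} (hp : p.Prime) (A B : Subgroup Q)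
    [hAn : A.Normal] [hBn : B.Normal]
    (hA : ∀ x ∈ A, ∀ y ∈ A, x * y = y * x) (hB : ∀ x ∈ B, ∀ y ∈ B, x * y = y * x)
    (hAi : A.index = p) (hBi : B.index = p) (hAB : A ≠ B) :
    Nat.card (commutator Q) ≤ p := by
  haveI : Fact p.Prime := ⟨hp⟩
  -- `B ⊄ A`
  have hcardA : Nat.card A * p = Nat.card Q := by rw [← hAi]; exact A.card_mul_index
  have hcardB : Nat.card B * p = Nat.card Q := by rw [← hBi]; exact B.card_mul_index
  have hcAB : Nat.card A = Nat.card B :=
    Nat.eq_of_mul_eq_mul_right hp.pos (hcardA.trans hcardB.symm)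
  have hBA : ¬ B ≤ A := fun h =>
    hAB (Subgroup.eq_of_le_of_card_ge h hcAB.le).symm
  obtain ⟨b, hbB, hbA⟩ := SetLike.not_le_iff_exists.mp hBA
  -- `A ⊔ B = ⊤`
  have htop : A ⊔ B = ⊤ := by
    have h1 : (A ⊔ B).index ∣ p := hAi ▸ Subgroup.index_dvd_of_le le_sup_left
    rcases (Nat.dvd_prime hp).mp h1 with h2 | h2
    · exact Subgroup.index_eq_one.mp h2
    · exfalso
      have h3 : Nat.card (A ⊔ B : Subgroup Q) * p = Nat.card Q := by
        rw [← h2]; exact (A ⊔ B).card_mul_index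
      have h4 : Nat.card (A ⊔ B : Subgroup Q) = Nat.card A :=
        Nat.eq_of_mul_eq_mul_right hp.pos (h3.trans hcardA.symm)
      have h5 : A = A ⊔ B := Subgroup.eq_of_le_of_card_ge le_sup_left h4.le
      exact hBA (h5 ▸ le_sup_right)
  -- commutators lie in `A ⊓ B`
  have hcomA : commutator Q ≤ A := by
    have hcA : Nat.card (Q ⧸ A) = p := by rw [← Subgroup.index_eq_card]; exact hAi
    haveI : IsCyclic (Q ⧸ A) := isCyclic_of_prime_card hcA
    letI : CommGroup (Q ⧸ A) := IsCyclic.commGroup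
    have := Abelianization.commutator_subset_ker (QuotientGroup.mk' A)
    rwa [QuotientGroup.ker_mk'] at this
  have hcomB : commutator Q ≤ B := by
    have hcB : Nat.card (Q ⧸ B) = p := by rw [← Subgroup.index_eq_card]; exact hBi
    haveI : IsCyclic (Q ⧸ B) := isCyclic_of_prime_card hcB
    letI : CommGroup (Q ⧸ B) := IsCyclic.commGroup
    have := Abelianization.commutator_subset_ker (QuotientGroup.mk' B)
    rwa [QuotientGroup.ker_mk'] at this
  -- elements of `A ⊓ B` are central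
  have hDc : ∀ d ∈ A ⊓ B, ∀ z : Q, d * z = z * d := by
    intro d hd z
    have h1 : A ⊔ B ≤ Subgroup.centralizer ({d} : Set Q) := by
      apply sup_le
      · intro a ha
        rw [Subgroup.mem_centralizer_singleton_iff]
        exact hA a ha d hd.1
      · intro b' hb'
        rw [Subgroup.mem_centralizer_singleton_iff]
        exact hB b' hb' d hd.2
    have h2 : z ∈ Subgroup.centralizer ({d} : Set Q) := h1 (htop ▸ Subgroup.mem_top z)
    exact (Subgroup.mem_centralizer_singleton_iff.mp h2).symm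
  have hmemcomm : ∀ x y : Q, x * y * x⁻¹ * y⁻¹ ∈ commutator Q := by
    intro x y
    rw [commutator_def]
    exact Subgroup.commutator_mem_commutator (Subgroup.mem_top x) (Subgroup.mem_top y)
  have hc : ∀ x y z : Q, (x * y * x⁻¹ * y⁻¹) * z = z * (x * y * x⁻¹ * y⁻¹) := by
    intro x y z
    exact hDc _ ⟨hcomA (hmemcomm x y), hcomB (hmemcomm x y)⟩ z
  -- the range of `y ↦ [b, y]`
  set R := (commHom hc b).range with hR
  have hRcard : Nat.card R ≤ p := by
    have h1 : B ≤ (commHom hc b).ker := by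
      intro y hy
      rw [MonoidHom.mem_ker, commHom_apply, hB b hbB y hy]
      group
    have h2 : (commHom hc b).ker.index ∣ p := hBi ▸ Subgroup.index_dvd_of_le h1
    rw [hR, ← Subgroup.index_ker]
    exact Nat.le_of_dvd hp.pos h2
  have hinv : ∀ x y : Q, x * y * x⁻¹ * y⁻¹ = (y * x * y⁻¹ * x⁻¹)⁻¹ := by
    intro x y; group
  -- every element of `B` is `b ^ j * d`
  have hBdec : ∀ b1 ∈ B, ∃ (j : ℤ) (d : Q), d ∈ A ⊓ B ∧ b1 = b ^ j * d := by
    intro b1 hb1
    have hcA : Nat.card (Q ⧸ A) = p := by rw [← Subgroup.index_eq_card]; exact hAi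
    have hne : (QuotientGroup.mk' A) b ≠ 1 := by
      intro h
      exact hbA ((QuotientGroup.eq_one_iff b).mp h)
    have hz := zpowers_eq_top_of_prime_card (G := Q ⧸ A) hcA hne
    have hm : (QuotientGroup.mk' A) b1 ∈ Subgroup.zpowers ((QuotientGroup.mk' A) b) := by
      rw [hz]; trivial
    obtain ⟨j, hj⟩ := Subgroup.mem_zpowers_iff.mp hm
    refine ⟨j, (b ^ j)⁻¹ * b1, ⟨?_, ?_⟩, by group⟩
    · show (b ^ j)⁻¹ * b1 ∈ A
      rw [← QuotientGroup.eq]
      have h5 : ((b ^ j : Q) : Q ⧸ A) = (QuotientGroup.mk' A) b ^ j := by simp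
      rw [h5, hj]
      rfl
    · exact B.mul_mem (B.inv_mem (B.zpow_mem hbB j)) hb1
  -- base cases
  have hbase1 : ∀ a1 ∈ A, ∀ b1 ∈ B, a1 * b1 * a1⁻¹ * b1⁻¹ ∈ R := by
    intro a1 ha1 b1 hb1
    obtain ⟨j, d, hd, rfl⟩ := hBdec b1 hb1
    have h1 : a1 * (b ^ j * d) * a1⁻¹ * (b ^ j * d)⁻¹ = commHom hc a1 (b ^ j * d) := rfl
    rw [h1, map_mul, map_zpow]
    have h2 : commHom hc a1 d = 1 := by
      rw [commHom_apply, ← hDc d hd a1]; group
    rw [h2, mul_one]
    apply R.zpow_mem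
    rw [commHom_apply, hinv]
    exact R.inv_mem ⟨a1, rfl⟩
  have hbase : ∀ x ∈ (A : Set Q) ∪ B, ∀ y ∈ (A : Set Q) ∪ B, x * y * x⁻¹ * y⁻¹ ∈ R := by
    intro x hx y hy
    rcases hx with hx | hx <;> rcases hy with hy | hy
    · have : x * y * x⁻¹ * y⁻¹ = 1 := by rw [hA x hx y hy]; group
      rw [this]; exact R.one_mem
    · exact hbase1 x hx y hy
    · rw [hinv]; exact R.inv_mem (hbase1 y hy x hx)
    · have : x * y * x⁻¹ * y⁻¹ = 1 := by rw [hB x hx y hy]; group
      rw [this]; exact R.one_mem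
  have hclos : Subgroup.closure ((A : Set Q) ∪ B) = ⊤ := by
    rw [Subgroup.closure_union, Subgroup.closure_eq, Subgroup.closure_eq, htop]
  have hstep1 : ∀ x ∈ (A : Set Q) ∪ B, ∀ y : Q, x * y * x⁻¹ * y⁻¹ ∈ R := by
    intro x hx y
    have h1 : Subgroup.closure ((A : Set Q) ∪ B) ≤ R.comap (commHom hc x) := by
      rw [Subgroup.closure_le]
      intro y' hy'
      exact hbase x hx y' hy'
    have : y ∈ R.comap (commHom hc x) := h1 (hclos ▸ Subgroup.mem_top y)
    exact this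
  have hstep2 : ∀ x y : Q, x * y * x⁻¹ * y⁻¹ ∈ R := by
    intro x y
    have h1 : Subgroup.closure ((A : Set Q) ∪ B) ≤ R.comap (commHom hc y) := by
      rw [Subgroup.closure_le]
      intro x' hx'
      show commHom hc y x' ∈ R
      rw [commHom_apply, hinv]
      exact R.inv_mem (hstep1 x' hx' y)
    have h2 : x ∈ R.comap (commHom hc y) := h1 (hclos ▸ Subgroup.mem_top x)
    have h3 : y * x * y⁻¹ * x⁻¹ ∈ R := h2
    rw [hinv]
    exact R.inv_mem h3
  have hle : commutator Q ≤ R := by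
    rw [commutator_def, Subgroup.commutator_le]
    intro x _ y _
    rw [commutatorElement_def]
    exact hstep2 x y
  exact (Subgroup.card_le_of_le hle).trans hRcard

end Cfsg.Agent.Lib.Helper7.MinNonab
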