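import Mathlib
import Cfsg.Agent.Lib.Lead.MixCfg
import Cfsg.Agent.Lib.Helper7.IndexLemmas

/-!
# S4017, package P1a: consequences (S), (N), (R) of minimality

`notes/S4017_paper_lead.md`, §0.1.
-/

set_option autoImplicit false

namespace Cfsg.Agent.Lib.Helper7.Mix

open Cfsg.Agent.Lib.Lead.Mix

universe u

variable {G : Type u} [Group G] [Finite G] {p q : ℕ}

/-- `|N H|` divides `|N| |H|` when `H` normalizes `N` -/
theorem card_sup_dvd_mul {N H : Subgroup G} (hn : H ≤ Subgroup.normalizer (N : Set G)) :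
    Nat.card (N ⊔ H : Subgroup G) ∣ Nat.card N * Nat.card H := by
  have h1 := Cfsg.Agent.Lib.Helper7.relIndex_sup_dvd_card N H hn
  have h2 := Subgroup.relIndex_mul_relIndex ⊥ H (N ⊔ H) bot_le le_sup_right
  rw [Subgroup.relIndex_bot_left, Subgroup.relIndex_bot_left] at h2
  rw [← h2, mul_comm]
  exact Nat.mul_dvd_mul_right h1 _

theorem card_lt_of_ne_top {L : Subgroup G} (hL : L ≠ ⊤) : Nat.card L < Nat.card G := by
  have h1 : Nat.card L ≤ Nat.card G := Subgroup.card_le_card_group L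
  rcases h1.lt_or_eq with h | h
  · exact h
  · exact absurd (Subgroup.card_eq_iff_eq_top L |>.mp h) hL

/-- (0.1) a proper subgroup of order divisible by `p q` inherits the hypotheses -/
theorem hyp_subgroup (h : Hyp G p q) (L : Subgroup G) (hL : L ≠ ⊤) (hpL : p ∣ Nat.card L)
    (hqL : q ∣ Nat.card L) : Hyp (↥L) p q where
  hp := h.hp
  hq := h.hq
  hpq := h.hpq
  hp2 := h.hp2
  hpG := hpL
  hqG := hqL
  hmix := by
    intro H hH hnq hqH
    have hcard : Nat.card (H.map L.subtype) = Nat.card H :=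
      Subgroup.card_map_of_injective L.subtype_injective
    have h1 : H.map L.subtype ≠ ⊤ := by
      intro htop
      apply hL
      rw [eq_top_iff, ← htop]
      exact Subgroup.map_subtype_le H
    have h2 : ¬ IsPGroup q (H.map L.subtype) := by
      intro hp'
      apply hnq
      exact hp'.of_injective (H.equivMapOfInjective L.subtype L.subtype_injective).toMonoidHom
        (H.equivMapOfInjective L.subtype L.subtype_injective).injective
    have h3 := h.hmix (H.map L.subtype) h1 h2 (by rw [hcard]; exact hqH)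
    rwa [hcard] at h3
  hlarge := by
    have hG0 : Nat.card G ≠ 0 := Nat.card_pos.ne'
    have hL0 : Nat.card L ≠ 0 := Nat.card_pos.ne'
    have hdvd : Nat.card L ∣ Nat.card G := Subgroup.card_subgroup_dvd_card L
    have hle : (Nat.card L).factorization q ≤ (Nat.card G).factorization q :=
      (Nat.factorization_le_iff_dvd hL0 hG0).mpr hdvd q
    have hq2 : 2 ≤ q := h.hq.two_le
    have hpow : q ^ (Nat.card L).factorization q ≤ q ^ (Nat.card G).factorization q :=
      Nat.pow_le_pow_right (by omega) hle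
    rcases h.hlarge with h1 | ⟨h1, h2⟩
    · left
      omega
    · rcases hle.lt_or_eq with hlt | heq
      · left
        have : q ^ (Nat.card L).factorization q < q ^ (Nat.card G).factorization q :=
          Nat.pow_lt_pow_right (by omega) hlt
        have hpos : 0 < q ^ (Nat.card L).factorization q := Nat.pow_pos (by omega)
        omega
      · right
        refine ⟨by rw [heq]; exact h1, ?_⟩
        intro S
        haveI : Fact p.Prime := ⟨h.hp⟩
        have hSp : IsPGroup p ((S : Subgroup L).map L.subtype) := by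
          have : IsPGroup p (S : Subgroup L) := S.isPGroup'
          exact this.map L.subtype
        obtain ⟨T, hT⟩ := hSp.exists_le_sylow
        haveI := h2 T
        refine ⟨⟨fun a b => ?_⟩⟩
        have ha : ((a : L) : G) ∈ (T : Subgroup G) := hT ⟨a, a.2, rfl⟩
        have hb : ((b : L) : G) ∈ (T : Subgroup G) := hT ⟨b, b.2, rfl⟩
        have hc : (⟨_, ha⟩ : (T : Subgroup G)) * ⟨_, hb⟩ = ⟨_, hb⟩ * ⟨_, ha⟩ := mul_comm' _ _
        have hc' : ((a : L) : G) * ((b : L) : G) = ((b : L) : G) * ((a : L) : G) :=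
          congrArg Subtype.val hc
        apply Subtype.ext
        apply Subtype.ext
        simpa using hc'

/-- (S) proper subgroups of order divisible by `q` are `{p, q}`-groups -/
theorem sub_pq (h : MinCex G p q) (L : Subgroup G) (hL : L ≠ ⊤) (hqL : q ∣ Nat.card L)
    (r : ℕ) (hr : r.Prime) (hrL : r ∣ Nat.card L) : r = p ∨ r = q := by
  by_cases hLq : IsPGroup q L
  · right
    haveI : Fact q.Prime := ⟨h.hq⟩
    obtain ⟨n, hn⟩ := hLq.exists_card_eq
    rw [hn] at hrL
    exact (Nat.prime_dvd_prime_iff_eq hr h.hq).mp (hr.dvd_of_dvd_pow hrL)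
  · have hpL : p ∣ Nat.card L := h.hmix L hL hLq hqL
    have hyp := hyp_subgroup h.toHyp L hL hpL hqL
    exact h.ih (↥L) (card_lt_of_ne_top hL) hyp r hr hrL

/-- a subgroup `A ⟨z⟩` with `A` an `ℓ`-group, `z` of prime order `m` normalizing `A`,
`{ℓ, m} = {q, r}`, `r ∉ {p, q}` violates `hmix` -/
theorem no_mixed (h : Hyp G p q) {ℓ m : ℕ} (hℓ : ℓ.Prime) (hm : m.Prime) (hℓp : ℓ ≠ p) (hmp : m ≠ p)
    (hq : q = ℓ ∨ q = m) (hne : ∃ r : ℕ, r.Prime ∧ r ≠ q ∧ (r = ℓ ∨ r = m))
    (A : Subgroup G) (hA : IsPGroup ℓ A) (hA1 : A ≠ ⊥) (z : G) (hz : orderOf z = m)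
    (hzA : z ∈ Subgroup.normalizer (A : Set G)) : False := by
  haveI : Fact ℓ.Prime := ⟨hℓ⟩
  set H : Subgroup G := A ⊔ Subgroup.zpowers z with hH
  have hzn : Subgroup.zpowers z ≤ Subgroup.normalizer (A : Set G) := by
    rw [Subgroup.zpowers_le]; exact hzA
  have hdvd : Nat.card H ∣ Nat.card A * Nat.card (Subgroup.zpowers z) := card_sup_dvd_mul hzn
  obtain ⟨n, hn⟩ := hA.exists_card_eq
  have hcz : Nat.card (Subgroup.zpowers z) = m := by rw [Nat.card_zpowers, hz]
  rw [hn, hcz] at hdvd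
  have hn0 : n ≠ 0 := by
    rintro rfl
    rw [pow_zero] at hn
    exact hA1 (Subgroup.card_eq_one.mp hn)
  have hℓH : ℓ ∣ Nat.card H := by
    have : Nat.card A ∣ Nat.card H := Subgroup.card_dvd_of_le le_sup_left
    rw [hn] at this
    exact (dvd_pow_self ℓ hn0).trans this
  have hmH : m ∣ Nat.card H := by
    have : Nat.card (Subgroup.zpowers z) ∣ Nat.card H := Subgroup.card_dvd_of_le le_sup_right
    rwa [hcz] at this
  have hpH : ¬ p ∣ Nat.card H := by
    intro hp'
    have := hp'.trans hdvd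
    rcases (Nat.Prime.dvd_mul h.hp).mp this with h1 | h1
    · exact hℓp ((Nat.prime_dvd_prime_iff_eq h.hp hℓ).mp (h.hp.dvd_of_dvd_pow h1)).symm
    · exact hmp ((Nat.prime_dvd_prime_iff_eq h.hp hm).mp h1).symm
  have hHtop : H ≠ ⊤ := by
    intro htop
    apply hpH
    rw [htop, Subgroup.card_top]
    exact h.hpG
  have hqH : q ∣ Nat.card H := by
    rcases hq with rfl | rfl
    · exact hℓH
    · exact hmH
  have hnq : ¬ IsPGroup q H := by
    intro hq'
    obtain ⟨r, hr, hrq, hr'⟩ := hne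
    haveI : Fact q.Prime := ⟨h.hq⟩
    obtain ⟨k, hk⟩ := hq'.exists_card_eq
    have hrH : r ∣ Nat.card H := by
      rcases hr' with rfl | rfl
      · exact hℓH
      · exact hmH
    rw [hk] at hrH
    exact hrq ((Nat.prime_dvd_prime_iff_eq hr h.hq).mp (hr.dvd_of_dvd_pow hrH))
  exact hpH (h.hmix H hHtop hnq hqH)

/-- (N) `q`-local subgroups are proper -/
theorem qloc (h : MinCex G p q) (Q0 : Subgroup G) (hQ1 : Q0 ≠ ⊥) (hQ : IsPGroup q Q0) :
    Subgroup.normalizer (Q0 : Set G) ≠ ⊤ := by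
  intro htop
  have hnc := h.notc
  unfold Concl at hnc
  push_neg at hnc
  obtain ⟨r, hr, hrG, hrp, hrq⟩ := hnc
  haveI : Fact r.Prime := ⟨hr⟩
  obtain ⟨z, hz⟩ := exists_prime_orderOf_dvd_card' r hrG
  exact no_mixed h.toHyp h.hq hr h.hpq.symm hrp (Or.inl rfl) ⟨r, hr, hrq, Or.inr rfl⟩ Q0 hQ hQ1 z hz
    (by rw [htop]; exact Subgroup.mem_top z)

/-- (R) no element of order `q` normalizes a non-trivial `r`-subgroup, `r ∉ {p, q}` -/
theorem rloc (h : MinCex G p q) (r : ℕ) (R : Subgroup G) (hr : r.Prime) (hrp : r ≠ p) (hrq : r ≠ q)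
    (hR : IsPGroup r R) (hR1 : R ≠ ⊥) :
    ¬ q ∣ Nat.card (Subgroup.normalizer (R : Set G)) := by
  intro hq
  haveI : Fact q.Prime := ⟨h.hq⟩
  obtain ⟨x, hx⟩ := exists_prime_orderOf_dvd_card' q hq
  have hx' : orderOf (x : G) = q := by rw [Subgroup.orderOf_coe]; exact hx
  exact no_mixed h.toHyp hr h.hq hrp h.hpq.symm (Or.inr rfl) ⟨r, hr, hrq, Or.inl rfl⟩ R hR hR1
    (x : G) hx' x.2

end Cfsg.Agent.Lib.Helper7.Mix
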