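import Mathlib
import Cfsg.Agent.Lib.Helper7.MixP1a
import Cfsg.Agent.Lib.Helper4.MixP1b

/-!
# S4017, package P1ab: a minimal counterexample has the properties (S), (N), (R) and is simple
-/

set_option autoImplicit false

namespace Cfsg.Agent.Lib.Helper7.Mix

open Cfsg.Agent.Lib.Lead.Mix

universe u

variable {G : Type u} [Group G] [Finite G] {p q : ℕ}

theorem _root_.Cfsg.Agent.Lib.Lead.Mix.MinCex.toMinCexB (h : MinCex G p q) : MinCexB G p q where
  toMinCex := h
  sub_pq := sub_pq h
  qloc := qloc h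
  rloc := rloc h
  simp := Cfsg.Agent.Lib.Helper4.Mix.simple_of_minCex h (sub_pq h) (qloc h) (rloc h)

end Cfsg.Agent.Lib.Helper7.Mix
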