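import Mathlib
import Cfsg.Agent.Lib.Helper7.MixP2a

/-!
# S4017, package P2 (1.5): `C_G(t) = K_t ⋊ Q` with `K_t` a `p`-group

`notes/S4017_paper_lead.md`, §1.5.  Burnside's transfer theorem in `C_G(t)`.
-/

set_option autoImplicit false

namespace Cfsg.Agent.Lib.Helper7.Mix

open Cfsg.Agent.Lib.Lead.Mix

universe u

variable {G : Type u} [Group G] [Finite G] {p a : ℕ} {Q : Subgroup G} {w : G}

/-- the structure of `C_G(t)`: a normal `p`-subgroup `K` with `|C_G(t)| = 2 ^ a |K|` containing all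
`p`-elements of `C_G(t)` -/
theorem cfg_centralizer_struct (h : Cfg G p a Q w)
    (hfpf : ∀ m ∈ Subgroup.normalizer (Q : Set G), m ∉ Subgroup.centralizer (Q : Set G) →
      ∀ t ∈ Q, t ≠ 1 → m * t ≠ t * m)
    (t : G) (ht : t ∈ Q) (ht1 : t ≠ 1) :
    ∃ K : Subgroup (Subgroup.centralizer ({t} : Set G)), IsPGroup p K ∧
      Nat.card (Subgroup.centralizer ({t} : Set G)) = 2 ^ a * Nat.card K ∧
      ∀ x : Subgroup.centralizer ({t} : Set G), (∃ k : ℕ, orderOf x = p ^ k) → x ∈ K := by
  classical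
  haveI : Fact (Nat.Prime 2) := ⟨Nat.prime_two⟩
  set C : Subgroup G := Subgroup.centralizer ({t} : Set G) with hC
  have ht2 : t ^ 2 = 1 := h.Qexp t ht
  have hto : orderOf t = 2 := orderOf_eq_prime ht2 ht1
  have htC : t ∈ C := by
    rw [hC, Subgroup.mem_centralizer_singleton_iff]
  -- `Q ≤ C`
  have hQC : Q ≤ C := by
    intro y hy
    rw [hC, Subgroup.mem_centralizer_singleton_iff]
    exact h.Qab y hy t ht
  -- `C ≠ ⊤`
  have h4 : 4 ≤ Nat.card Q := by
    rw [h.Qcard]
    calc 4 = 2 ^ 2 := by norm_num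
      _ ≤ 2 ^ a := Nat.pow_le_pow_right (by norm_num) h.ha
  have hCtop : C ≠ ⊤ := by
    intro htop
    have hn : (Subgroup.zpowers t).Normal := by
      constructor
      intro y hy g
      obtain ⟨k, rfl⟩ := Subgroup.mem_zpowers_iff.mp hy
      have hg : g ∈ C := by rw [htop]; exact Subgroup.mem_top g
      rw [hC, Subgroup.mem_centralizer_singleton_iff] at hg
      have : g * t ^ k * g⁻¹ = t ^ k := by
        have hc : Commute g t := hg
        have := (hc.zpow_right k).eq
        rw [this]; group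
      rw [this]
      exact Subgroup.zpow_mem_zpowers t k
    rcases h.simp _ hn with h1 | h1
    · have : t ∈ Subgroup.zpowers t := Subgroup.mem_zpowers t
      rw [h1, Subgroup.mem_bot] at this
      exact ht1 this
    · have hc : Nat.card (Subgroup.zpowers t) = 2 := by rw [Nat.card_zpowers, hto]
      rw [h1, Subgroup.card_top] at hc
      have := Subgroup.card_subgroup_dvd_card Q
      rw [hc] at this
      have := Nat.le_of_dvd (by norm_num) this
      omega
  have h2C : 2 ∣ Nat.card C := by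
    have : orderOf (⟨t, htC⟩ : C) = 2 := by
      rw [← Subgroup.orderOf_coe]; exact hto
    rw [← this]; exact orderOf_dvd_natCard _
  have hprime : ∀ r : ℕ, r.Prime → r ∣ Nat.card C → r = 2 ∨ r = p := h.prop C hCtop h2C
  -- `Q` as a Sylow `2`-subgroup of `C`
  set QC : Subgroup C := Q.subgroupOf C with hQCdef
  have hQCcard : Nat.card QC = 2 ^ a := by
    rw [hQCdef, ← h.Qcard]
    exact Nat.card_congr (Subgroup.subgroupOfEquivOfLe hQC).toEquiv
  have hC0 : Nat.card C ≠ 0 := Nat.card_pos.ne'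
  have hfac : (Nat.card C).factorization 2 = a := by
    have h1 : 2 ^ a ∣ Nat.card C := by
      rw [← hQCcard]; exact Subgroup.card_subgroup_dvd_card QC
    have h2 : a ≤ (Nat.card C).factorization 2 :=
      (Nat.Prime.pow_dvd_iff_le_factorization Nat.prime_two hC0).mp h1
    have h3 : ¬ a + 1 ≤ (Nat.card C).factorization 2 := fun hle =>
      h.Gcard (((Nat.Prime.pow_dvd_iff_le_factorization Nat.prime_two hC0).mpr hle).trans
        (Subgroup.card_subgroup_dvd_card C))
    omega
  let S : Sylow 2 C := Sylow.ofCard QC (by rw [hQCcard, hfac])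
  have hS : (S : Subgroup C) = QC := Sylow.coe_ofCard _ _
  -- `N_C(Q) ≤ C_C(Q)`
  have hNC : Subgroup.normalizer ((S : Subgroup C) : Set C) ≤
      Subgroup.centralizer ((S : Subgroup C) : Set C) := by
    intro m hm
    rw [hS] at hm ⊢
    have hmN : (m : G) ∈ Subgroup.normalizer (Q : Set G) := by
      rw [Subgroup.mem_normalizer_iff]
      intro y
      constructor
      · intro hy
        have hyC : y ∈ C := hQC hy
        have := (Subgroup.mem_normalizer_iff.mp hm ⟨y, hyC⟩).mp (Subgroup.mem_subgroupOf.mpr hy)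
        exact Subgroup.mem_subgroupOf.mp this
      · intro hy
        have hyC : y ∈ C := by
          have h1 : (m : G) * y * (m : G)⁻¹ ∈ C := hQC hy
          have h2 : y = (m : G)⁻¹ * ((m : G) * y * (m : G)⁻¹) * (m : G) := by group
          rw [h2]
          exact C.mul_mem (C.mul_mem (C.inv_mem m.2) h1) m.2
        have := (Subgroup.mem_normalizer_iff.mp hm ⟨y, hyC⟩).mpr (Subgroup.mem_subgroupOf.mpr hy)
        exact Subgroup.mem_subgroupOf.mp this
    have hmt : (m : G) * t = t * (m : G) :=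
      Subgroup.mem_centralizer_singleton_iff.mp m.2
    have hmC : (m : G) ∈ Subgroup.centralizer (Q : Set G) := by
      by_contra hcon
      exact hfpf _ hmN hcon t ht ht1 hmt
    rw [Subgroup.mem_centralizer_iff]
    intro y hy
    have hyQ : (y : G) ∈ Q := Subgroup.mem_subgroupOf.mp hy
    apply Subtype.ext
    have := Subgroup.mem_centralizer_iff.mp hmC (y : G) hyQ
    simpa using this
  -- Burnside
  set K : Subgroup C := (MonoidHom.transferSylow S hNC).ker with hK
  have hcompl : Subgroup.IsComplement' K (S : Subgroup C) :=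
    MonoidHom.ker_transferSylow_isComplement' S hNC
  have hcardmul : Nat.card K * Nat.card (S : Subgroup C) = Nat.card C := hcompl.card_mul
  have h2K : ¬ 2 ∣ Nat.card K := MonoidHom.not_dvd_card_ker_transferSylow S hNC
  have hScard : Nat.card (S : Subgroup C) = 2 ^ a := by rw [hS, hQCcard]
  have hKp : IsPGroup p K := by
    have hK0 : Nat.card K ≠ 0 := Nat.card_pos.ne'
    have : Nat.card K = p ^ (Nat.card K).primeFactorsList.length := by
      apply Nat.eq_prime_pow_of_unique_prime_dvd hK0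
      intro d hd hdK
      have hdC : d ∣ Nat.card C := hdK.trans (Subgroup.card_subgroup_dvd_card K)
      rcases hprime d hd hdC with h1 | h1
      · exfalso; rw [h1] at hdK; exact h2K hdK
      · exact h1
    exact IsPGroup.of_card this
  refine ⟨K, hKp, ?_, ?_⟩
  · rw [← hcardmul, hScard, mul_comm]
  · rintro x ⟨k, hk⟩
    rw [hK, MonoidHom.mem_ker]
    set y := MonoidHom.transferSylow S hNC x with hy
    have h1 : orderOf y ∣ p ^ k := by
      rw [← hk]; exact orderOf_map_dvd _ x
    have h2 : orderOf y ∣ 2 ^ a := by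
      rw [← hScard]; exact orderOf_dvd_natCard y
    have hcop : Nat.Coprime (p ^ k) (2 ^ a) := by
      apply Nat.Coprime.pow
      rw [Nat.coprime_primes h.hp Nat.prime_two]
      intro hp2
      have := h.hpa
      rw [hp2] at this
      have h3 : (2 : ℕ) ^ a ≥ 4 := by
        calc 4 = 2 ^ 2 := by norm_num
          _ ≤ 2 ^ a := Nat.pow_le_pow_right (by norm_num) h.ha
      omega
    have h3 : orderOf y = 1 := Nat.eq_one_of_dvd_coprimes hcop h1 h2
    exact orderOf_eq_one_iff.mp h3

/-- `K_t` is the image of `K` -/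
theorem cfg_kt_eq (h : Cfg G p a Q w) (t : G)
    (K : Subgroup (Subgroup.centralizer ({t} : Set G))) (hKp : IsPGroup p K)
    (hK : ∀ x : Subgroup.centralizer ({t} : Set G), (∃ k : ℕ, orderOf x = p ^ k) → x ∈ K) :
    Kt p t = K.map (Subgroup.centralizer ({t} : Set G)).subtype := by
  haveI : Fact p.Prime := ⟨h.hp⟩
  apply le_antisymm
  · unfold Kt
    rw [Subgroup.closure_le]
    rintro x ⟨hxt, k, hk⟩
    have hxC : x ∈ Subgroup.centralizer ({t} : Set G) := by
      rw [Subgroup.mem_centralizer_singleton_iff]; exact hxt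
    refine ⟨⟨x, hxC⟩, hK ⟨x, hxC⟩ ⟨k, ?_⟩, rfl⟩
    rw [← Subgroup.orderOf_coe]; exact hk
  · rintro _ ⟨x, hx, rfl⟩
    unfold Kt
    apply Subgroup.subset_closure
    refine ⟨?_, ?_⟩
    · have := x.2
      rw [Subgroup.mem_centralizer_singleton_iff] at this
      exact this
    · obtain ⟨k, hk⟩ := hKp ⟨x, hx⟩
      have h1 : (x : G) ^ p ^ k = 1 := by
        have := congrArg (fun z : K => ((z : Subgroup.centralizer ({t} : Set G)) : G)) hk
        simpa using this
      obtain ⟨j, _, hj⟩ := (Nat.dvd_prime_pow h.hp).mp (orderOf_dvd_of_pow_eq_one h1)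
      exact ⟨j, hj⟩

/-- (1.5) `K_t` is a `p`-group -/
theorem cfg_kt_pgroup (h : Cfg G p a Q w)
    (hfpf : ∀ m ∈ Subgroup.normalizer (Q : Set G), m ∉ Subgroup.centralizer (Q : Set G) →
      ∀ t ∈ Q, t ≠ 1 → m * t ≠ t * m) :
    ∀ t ∈ Q, t ≠ 1 → IsPGroup p (Kt p t) := by
  intro t ht ht1
  obtain ⟨K, hKp, -, hK⟩ := cfg_centralizer_struct h hfpf t ht ht1
  rw [cfg_kt_eq h t K hKp hK]
  exact hKp.map _

/-- (1.5) `|C_G(t)| = 2 ^ a |K_t|` -/
theorem cfg_kt_card (h : Cfg G p a Q w)
    (hfpf : ∀ m ∈ Subgroup.normalizer (Q : Set G), m ∉ Subgroup.centralizer (Q : Set G) →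
      ∀ t ∈ Q, t ≠ 1 → m * t ≠ t * m) :
    ∀ t ∈ Q, t ≠ 1 →
      Nat.card (Subgroup.centralizer ({t} : Set G)) = 2 ^ a * Nat.card (Kt p t) := by
  intro t ht ht1
  obtain ⟨K, hKp, hcard, hK⟩ := cfg_centralizer_struct h hfpf t ht ht1
  rw [cfg_kt_eq h t K hKp hK, Subgroup.card_map_of_injective (Subgroup.subtype_injective _)]
  exact hcard

end Cfsg.Agent.Lib.Helper7.Mix
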