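import Mathlib

/-!
# Nilpotent minimal covers: lifting to a central extension, and the merge lemma (helper7, for S3894)
-/

namespace Cfsg.Agent.Lib.Helper7.NilCov

variable {Γ : Type*} [Group Γ]

/-- A *lifted cover* of `H` relative to `Z`: a finite set of subgroups `A` with `Z ≤ A ≤ H`, `A ≠ H`,
whose union is `H`. -/
structure LiftedCover (Z H : Subgroup Γ) (C : Finset (Subgroup Γ)) : Prop where
  mem : ∀ A ∈ C, Z ≤ A ∧ A ≤ H ∧ A ≠ H
  cover : ∀ g ∈ H, ∃ A ∈ C, g ∈ A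

/-- A lifted cover which has minimum cardinality among lifted covers and has nilpotent members. -/
def NilMinLiftedCover (Z H : Subgroup Γ) (C : Finset (Subgroup Γ)) : Prop :=
  LiftedCover Z H C ∧ (∀ C', LiftedCover Z H C' → C.card ≤ C'.card) ∧
    ∀ A ∈ C, Group.IsNilpotent ↥A

/-- **Merge lemma**: in a minimum lifted cover, a proper subgroup `M ⊇ Z` of `H` contains at most one
member. -/
theorem LiftedCover.merge {Z H : Subgroup Γ} {C : Finset (Subgroup Γ)} (hC : LiftedCover Z H C)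
    (hmin : ∀ C', LiftedCover Z H C' → C.card ≤ C'.card) {M : Subgroup Γ} (hZM : Z ≤ M)
    (hMH : M ≤ H) (hne : M ≠ H) {A₁ A₂ : Subgroup Γ} (h1 : A₁ ∈ C) (h2 : A₂ ∈ C) (h1M : A₁ ≤ M)
    (h2M : A₂ ≤ M) : A₁ = A₂ := by
  classical
  by_contra h12
  let C' : Finset (Subgroup Γ) := insert M ((C.erase A₁).erase A₂)
  have hC' : LiftedCover Z H C' := by
    refine ⟨?_, ?_⟩
    · intro A hA
      rcases Finset.mem_insert.1 hA with rfl | hA
      · exact ⟨hZM, hMH, hne⟩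
      · exact hC.mem A (Finset.mem_of_mem_erase (Finset.mem_of_mem_erase hA))
    · intro g hg
      obtain ⟨A, hA, hgA⟩ := hC.cover g hg
      by_cases hA1 : A = A₁
      · exact ⟨M, Finset.mem_insert_self _ _, h1M (hA1 ▸ hgA)⟩
      by_cases hA2 : A = A₂
      · exact ⟨M, Finset.mem_insert_self _ _, h2M (hA2 ▸ hgA)⟩
      · exact ⟨A, Finset.mem_insert_of_mem
          (Finset.mem_erase.2 ⟨hA2, Finset.mem_erase.2 ⟨hA1, hA⟩⟩), hgA⟩
  have hcard : C'.card < C.card := by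
    have h2' : A₂ ∈ C.erase A₁ := Finset.mem_erase.2 ⟨fun h => h12 h.symm, h2⟩
    have e1 : ((C.erase A₁).erase A₂).card = (C.erase A₁).card - 1 := Finset.card_erase_of_mem h2'
    have e2 : (C.erase A₁).card = C.card - 1 := Finset.card_erase_of_mem h1
    have e3 : C'.card ≤ ((C.erase A₁).erase A₂).card + 1 := Finset.card_insert_le _ _
    have e4 : 0 < (C.erase A₁).card := Finset.card_pos.2 ⟨A₂, h2'⟩
    have e5 : 0 < C.card := Finset.card_pos.2 ⟨A₁, h1⟩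
    omega
  exact absurd (hmin C' hC') (by omega)

section lift

variable {Z : Subgroup Γ} [Z.Normal]

/-- The lift of a subgroup of `↥G`, `G ≤ Γ ⧸ Z`, to `Γ`. -/
def liftSub (G : Subgroup (Γ ⧸ Z)) (A : Subgroup ↥G) : Subgroup Γ :=
  (A.map G.subtype).comap (QuotientGroup.mk' Z)

theorem mem_liftSub {G : Subgroup (Γ ⧸ Z)} {A : Subgroup ↥G} {g : Γ} :
    g ∈ liftSub G A ↔ ∃ h : (QuotientGroup.mk' Z g) ∈ G, (⟨_, h⟩ : ↥G) ∈ A := by
  unfold liftSub
  rw [Subgroup.mem_comap, Subgroup.mem_map]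
  constructor
  · rintro ⟨x, hx, hxg⟩
    have : x = ⟨QuotientGroup.mk' Z g, hxg ▸ x.2⟩ := Subtype.ext hxg
    exact ⟨hxg ▸ x.2, this ▸ hx⟩
  · rintro ⟨h, hA⟩
    exact ⟨⟨_, h⟩, hA, rfl⟩

theorem le_liftSub (G : Subgroup (Γ ⧸ Z)) (A : Subgroup ↥G) : Z ≤ liftSub G A := by
  intro z hz
  rw [mem_liftSub]
  have h1 : QuotientGroup.mk' Z z = 1 := (QuotientGroup.eq_one_iff z).2 hz
  refine ⟨h1 ▸ G.one_mem, ?_⟩
  have : (⟨QuotientGroup.mk' Z z, h1 ▸ G.one_mem⟩ : ↥G) = 1 := Subtype.ext h1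
  rw [this]; exact A.one_mem

theorem liftSub_le (G : Subgroup (Γ ⧸ Z)) (A : Subgroup ↥G) :
    liftSub G A ≤ G.comap (QuotientGroup.mk' Z) := by
  intro g hg
  obtain ⟨h, -⟩ := mem_liftSub.1 hg
  exact h

theorem liftSub_injective (G : Subgroup (Γ ⧸ Z)) : Function.Injective (liftSub (Z := Z) G) := by
  intro A B hAB
  ext x
  obtain ⟨g, hg⟩ := QuotientGroup.mk'_surjective Z x.1
  have hx : x = ⟨QuotientGroup.mk' Z g, hg ▸ x.2⟩ := Subtype.ext hg.symm
  have h1 : g ∈ liftSub G A ↔ x ∈ A := by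
    rw [mem_liftSub]
    constructor
    · rintro ⟨h, hA⟩; rw [hx]; exact hA
    · intro hA; exact ⟨hg ▸ x.2, hx ▸ hA⟩
  have h2 : g ∈ liftSub G B ↔ x ∈ B := by
    rw [mem_liftSub]
    constructor
    · rintro ⟨h, hA⟩; rw [hx]; exact hA
    · intro hA; exact ⟨hg ▸ x.2, hx ▸ hA⟩
  rw [← h1, ← h2, hAB]

theorem liftSub_eq_comap_iff (G : Subgroup (Γ ⧸ Z)) (A : Subgroup ↥G) :
    liftSub G A = G.comap (QuotientGroup.mk' Z) ↔ A = ⊤ := by
  constructor
  · intro h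
    rw [eq_top_iff]
    intro x _
    obtain ⟨g, hg⟩ := QuotientGroup.mk'_surjective Z x.1
    have hx : x = ⟨QuotientGroup.mk' Z g, hg ▸ x.2⟩ := Subtype.ext hg.symm
    have : g ∈ liftSub G A := by rw [h]; exact (hg ▸ x.2 : QuotientGroup.mk' Z g ∈ G)
    obtain ⟨h', hA⟩ := mem_liftSub.1 this
    rw [hx]; exact hA
  · rintro rfl
    apply le_antisymm (liftSub_le G ⊤)
    intro g hg
    exact mem_liftSub.2 ⟨hg, Subgroup.mem_top _⟩

/-- the lift of a nilpotent subgroup along a central quotient is nilpotent -/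
theorem liftSub_isNilpotent (hZ : Z ≤ Subgroup.center Γ) (G : Subgroup (Γ ⧸ Z)) (A : Subgroup ↥G)
    (hA : Group.IsNilpotent ↥A) : Group.IsNilpotent ↥(liftSub G A) := by
  let f : ↥(liftSub G A) →* ↥A :=
    { toFun := fun g => ⟨⟨QuotientGroup.mk' Z g.1, (mem_liftSub.1 g.2).1⟩, (mem_liftSub.1 g.2).2⟩
      map_one' := by apply Subtype.ext; apply Subtype.ext; simp
      map_mul' := by intro a b; apply Subtype.ext; apply Subtype.ext; simp }
  have := hA
  refine Subgroup.isNilpotent_of_ker_le_center f ?_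
  intro g hg
  rw [MonoidHom.mem_ker] at hg
  have h1 : QuotientGroup.mk' Z g.1 = 1 := by
    have := congrArg (fun y : ↥A => (y.1.1 : Γ ⧸ Z)) hg
    simpa [f] using this
  have hgZ : g.1 ∈ Z := (QuotientGroup.eq_one_iff g.1).1 h1
  rw [Subgroup.mem_center_iff]
  intro y
  apply Subtype.ext
  have := (Subgroup.mem_center_iff.1 (hZ hgZ)) y.1
  simpa using this

/-- push a subgroup of `Γ` down to a subgroup of `↥G`. -/
def pushSub (G : Subgroup (Γ ⧸ Z)) (A' : Subgroup Γ) : Subgroup ↥G :=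
  (A'.map (QuotientGroup.mk' Z)).subgroupOf G

theorem pushSub_ne_top (G : Subgroup (Γ ⧸ Z)) {A' : Subgroup Γ} (hZA : Z ≤ A')
    (hle : A' ≤ G.comap (QuotientGroup.mk' Z)) (hne : A' ≠ G.comap (QuotientGroup.mk' Z)) :
    pushSub G A' ≠ ⊤ := by
  intro htop
  apply hne
  apply le_antisymm hle
  intro g hg
  have hg' : QuotientGroup.mk' Z g ∈ G := hg
  have : (⟨_, hg'⟩ : ↥G) ∈ pushSub G A' := by rw [htop]; exact Subgroup.mem_top _
  unfold pushSub at this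
  rw [Subgroup.mem_subgroupOf, Subgroup.mem_map] at this
  obtain ⟨a, ha, hag⟩ := this
  have : a⁻¹ * g ∈ Z := by
    have h2 : QuotientGroup.mk' Z (a⁻¹ * g) = 1 := by
      rw [map_mul, map_inv, hag]; simp
    exact (QuotientGroup.eq_one_iff _).1 h2
  have : a * (a⁻¹ * g) ∈ A' := A'.mul_mem ha (hZA this)
  simpa using this

/-- **Lifting**: a nilpotent minimal cover of `↥G`, `G ≤ Γ ⧸ Z` with `Z` central, gives a nilpotent
minimum lifted cover of the preimage of `G`. -/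
theorem exists_nilMinLiftedCover (hZ : Z ≤ Subgroup.center Γ) (G : Subgroup (Γ ⧸ Z))
    (h : ∃ 𝓐 : Finset (Subgroup ↥G), ((∀ A ∈ 𝓐, A ≠ ⊤) ∧ (∀ g : ↥G, ∃ A ∈ 𝓐, g ∈ A)) ∧
      (∀ 𝓑 : Finset (Subgroup ↥G), (∀ A ∈ 𝓑, A ≠ ⊤) ∧ (∀ g : ↥G, ∃ A ∈ 𝓑, g ∈ A) →
        𝓐.card ≤ 𝓑.card) ∧ (∀ A ∈ 𝓐, Group.IsNilpotent ↥A)) :
    ∃ C, NilMinLiftedCover Z (G.comap (QuotientGroup.mk' Z)) C := by
  classical
  obtain ⟨𝓐, ⟨hprop, hcov⟩, hmin, hnil⟩ := h
  refine ⟨𝓐.image (liftSub G), ⟨?_, ?_⟩, ?_, ?_⟩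
  · intro A' hA'
    obtain ⟨A, hA, rfl⟩ := Finset.mem_image.1 hA'
    refine ⟨le_liftSub G A, liftSub_le G A, ?_⟩
    intro h
    exact hprop A hA ((liftSub_eq_comap_iff G A).1 h)
  · intro g hg
    have hg' : QuotientGroup.mk' Z g ∈ G := hg
    obtain ⟨A, hA, hgA⟩ := hcov ⟨_, hg'⟩
    exact ⟨liftSub G A, Finset.mem_image_of_mem _ hA, mem_liftSub.2 ⟨hg', hgA⟩⟩
  · intro C' hC'
    rw [Finset.card_image_of_injective _ (liftSub_injective G)]
    have h1 := hmin (C'.image (pushSub G)) ⟨?_, ?_⟩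
    · exact h1.trans Finset.card_image_le
    · intro A hA
      obtain ⟨A', hA', rfl⟩ := Finset.mem_image.1 hA
      obtain ⟨h1, h2, h3⟩ := hC'.mem A' hA'
      exact pushSub_ne_top G h1 h2 h3
    · intro x
      obtain ⟨g, hg⟩ := QuotientGroup.mk'_surjective Z x.1
      have hgH : g ∈ G.comap (QuotientGroup.mk' Z) := by
        change QuotientGroup.mk' Z g ∈ G
        rw [hg]; exact x.2
      obtain ⟨A', hA', hgA'⟩ := hC'.cover g hgH
      refine ⟨pushSub G A', Finset.mem_image_of_mem _ hA', ?_⟩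
      unfold pushSub
      rw [Subgroup.mem_subgroupOf, Subgroup.mem_map]
      exact ⟨g, hgA', hg⟩
  · intro A' hA'
    obtain ⟨A, hA, rfl⟩ := Finset.mem_image.1 hA'
    exact liftSub_isNilpotent hZ G A (hnil A hA)

end lift

end Cfsg.Agent.Lib.Helper7.NilCov
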