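import Mathlib

/-!
# Regular unipotent elements and nilpotent subgroups of `GL_n` (helper7, for S3894)
-/

namespace Cfsg.Agent.Lib.Helper7.NilCov

open Matrix

variable {F : Type*} [Field F] {n : ℕ}

/-- block triangular subgroup of `GL_n` -/
def btSub (b : Fin n → ℕ) : Subgroup (GL (Fin n) F) where
  carrier := {g | Matrix.BlockTriangular (g : Matrix (Fin n) (Fin n) F) b}
  mul_mem' := by
    intro a c ha hc
    have : ((a * c : GL (Fin n) F) : Matrix (Fin n) (Fin n) F) = a.1 * c.1 := rfl
    rw [Set.mem_ofPred_eq, this]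
    exact BlockTriangular.mul ha hc
  one_mem' := Matrix.blockTriangular_one
  inv_mem' := by
    intro a ha
    have h1 : ((a⁻¹ : GL (Fin n) F) : Matrix (Fin n) (Fin n) F) = (a : Matrix _ _ F)⁻¹ :=
      Matrix.coe_units_inv a
    rw [Set.mem_ofPred_eq, h1]
    have : Invertible (a : Matrix (Fin n) (Fin n) F) := a.invertible
    exact Matrix.blockTriangular_inv_of_blockTriangular ha

theorem mem_btSub {b : Fin n → ℕ} {g : GL (Fin n) F} :
    g ∈ btSub b ↔ Matrix.BlockTriangular (g : Matrix (Fin n) (Fin n) F) b := Iff.rfl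

/-- the regular nilpotent matrix `∑ E_{i,i+1}` -/
def nilN : Matrix (Fin n) (Fin n) F := Matrix.of fun i j => if (j : ℕ) = (i : ℕ) + 1 then 1 else 0

theorem nilN_mul_apply (g : Matrix (Fin n) (Fin n) F) (i j : Fin n) :
    ((nilN : Matrix (Fin n) (Fin n) F) * g) i j =
      if h : (i : ℕ) + 1 < n then g ⟨(i : ℕ) + 1, h⟩ j else 0 := by
  rw [Matrix.mul_apply]
  split_ifs with h
  · rw [Finset.sum_eq_single (⟨(i : ℕ) + 1, h⟩ : Fin n)]
    · simp [nilN]
    · intro k _ hk
      have : ¬ ((k : ℕ) = (i : ℕ) + 1) := fun hk' => hk (Fin.ext hk')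
      simp [nilN, this]
    · intro h'; exact absurd (Finset.mem_univ _) h'
  · apply Finset.sum_eq_zero
    intro k _
    have : ¬ ((k : ℕ) = (i : ℕ) + 1) := fun hk' => h (hk' ▸ k.2)
    simp [nilN, this]

/-- **Lemma C'**: if `N g = g b'` with `b'` upper triangular then `g` is upper triangular. -/
theorem upper_of_nilN_mul_eq {g b' : Matrix (Fin n) (Fin n) F}
    (hb : b'.BlockTriangular (fun i : Fin n => (i : ℕ)))
    (h : (nilN : Matrix (Fin n) (Fin n) F) * g = g * b') :
    g.BlockTriangular (fun i : Fin n => (i : ℕ)) := by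
  have key : ∀ m : ℕ, ∀ j : Fin n, (j : ℕ) = m → ∀ i : Fin n, (j : ℕ) < (i : ℕ) → g i j = 0 := by
    intro m
    induction m using Nat.strong_induction_on with
    | _ m ih =>
    intro j hj
    -- the equation in column j, rows i ≥ j
    have eqn : ∀ i : Fin n, (j : ℕ) ≤ (i : ℕ) →
        (if h : (i : ℕ) + 1 < n then g ⟨(i : ℕ) + 1, h⟩ j else 0) = g i j * b' j j := by
      intro i hij
      have h1 := congrFun (congrFun h i) j
      rw [nilN_mul_apply, Matrix.mul_apply] at h1
      rw [h1]
      apply Finset.sum_eq_single j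
      · intro k _ hk
        rcases lt_or_gt_of_ne (fun hh => hk (Fin.ext hh) : (k : ℕ) ≠ (j : ℕ)) with hlt | hgt
        · have : g i k = 0 := ih (k : ℕ) (hj ▸ hlt) k rfl i (lt_of_lt_of_le hlt hij)
          rw [this, zero_mul]
        · have : b' k j = 0 := hb hgt
          rw [this, mul_zero]
      · intro h'; exact absurd (Finset.mem_univ _) h'
    intro i hji
    by_cases hc : b' j j = 0
    · -- g i j = g (i-1) j * 0
      have hi1 : ((i : ℕ) - 1) < n := lt_of_le_of_lt (Nat.sub_le _ _) i.2
      have h2 := eqn ⟨(i : ℕ) - 1, hi1⟩ (by simp; omega)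
      have h3 : ((⟨(i : ℕ) - 1, hi1⟩ : Fin n) : ℕ) + 1 < n := by simp; omega
      rw [dif_pos h3, hc, mul_zero] at h2
      have : (⟨((⟨(i : ℕ) - 1, hi1⟩ : Fin n) : ℕ) + 1, h3⟩ : Fin n) = i := by
        apply Fin.ext; simp; omega
      rw [this] at h2
      exact h2
    · -- descending induction: all g i j = 0 for i ≥ j
      have desc : ∀ d : ℕ, ∀ i : Fin n, (j : ℕ) ≤ (i : ℕ) → n ≤ (i : ℕ) + 1 + d → g i j = 0 := by
        intro d
        induction d with
        | zero =>
          intro i hij hn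
          have h2 := eqn i hij
          rw [dif_neg (by omega)] at h2
          exact (mul_eq_zero.1 h2.symm).resolve_right hc
        | succ d ihd =>
          intro i hij hn
          have h2 := eqn i hij
          by_cases h3 : (i : ℕ) + 1 < n
          · rw [dif_pos h3] at h2
            have : g ⟨(i : ℕ) + 1, h3⟩ j = 0 := ihd ⟨(i : ℕ) + 1, h3⟩ (by simp; omega) (by simp; omega)
            rw [this] at h2
            exact (mul_eq_zero.1 h2.symm).resolve_right hc
          · rw [dif_neg h3] at h2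
            exact (mul_eq_zero.1 h2.symm).resolve_right hc
      exact desc n i hji.le (by omega)
  intro i j hij
  exact key (j : ℕ) j rfl i hij

theorem nilN_blockTriangular :
    (nilN : Matrix (Fin n) (Fin n) F).BlockTriangular (fun i : Fin n => (i : ℕ)) := by
  intro i j hij
  have : ¬ ((j : ℕ) = (i : ℕ) + 1) := by
    have : (j : ℕ) < (i : ℕ) := hij
    omega
  simp [nilN, this]

theorem det_one_add_nilN : (1 + (nilN : Matrix (Fin n) (Fin n) F)).det = 1 := by
  have h1 : (1 + (nilN : Matrix (Fin n) (Fin n) F)).BlockTriangular (fun i : Fin n => (i : ℕ)) :=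
    Matrix.blockTriangular_one.add nilN_blockTriangular
  have h2 : (1 + (nilN : Matrix (Fin n) (Fin n) F)).BlockTriangular id := by
    intro i j hij
    exact h1 (by exact_mod_cast hij)
  rw [Matrix.det_of_isUpperTriangular h2]
  apply Finset.prod_eq_one
  intro i _
  simp [nilN]

/-- the regular unipotent element of `SL_n` -/
def uSL : Matrix.SpecialLinearGroup (Fin n) F := ⟨1 + nilN, det_one_add_nilN⟩

/-- the regular unipotent element of `GL_n` -/
def uGL : GL (Fin n) F := Matrix.SpecialLinearGroup.toGL uSL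

theorem uGL_val : ((uGL : GL (Fin n) F) : Matrix (Fin n) (Fin n) F) = 1 + nilN := rfl

theorem uGL_mem_range :
    (uGL : GL (Fin n) F) ∈ (Matrix.SpecialLinearGroup.toGL :
      Matrix.SpecialLinearGroup (Fin n) F →* GL (Fin n) F).range := ⟨uSL, rfl⟩

/-- the upper triangular (Borel) subgroup -/
def borel : Subgroup (GL (Fin n) F) := btSub (fun i : Fin n => (i : ℕ))

/-- **Lemma C**: `g⁻¹ u g ∈ B ⇒ g ∈ B`. -/
theorem mem_borel_of_conj_uGL {g : GL (Fin n) F} (h : g⁻¹ * uGL * g ∈ (borel : Subgroup (GL (Fin n) F))) :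
    g ∈ (borel : Subgroup (GL (Fin n) F)) := by
  set b : GL (Fin n) F := g⁻¹ * uGL * g with hb
  have hbB : (b : Matrix (Fin n) (Fin n) F).BlockTriangular (fun i : Fin n => (i : ℕ)) := h
  have h1 : uGL * g = g * b := by rw [hb]; group
  have h2 : ((uGL : GL (Fin n) F) : Matrix (Fin n) (Fin n) F) * (g : Matrix (Fin n) (Fin n) F) =
      (g : Matrix (Fin n) (Fin n) F) * (b : Matrix (Fin n) (Fin n) F) := by
    have := congrArg (fun x : GL (Fin n) F => (x : Matrix (Fin n) (Fin n) F)) h1
    simpa using this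
  rw [uGL_val, add_mul, one_mul] at h2
  have h3 : (nilN : Matrix (Fin n) (Fin n) F) * (g : Matrix (Fin n) (Fin n) F) =
      (g : Matrix (Fin n) (Fin n) F) * ((b : Matrix (Fin n) (Fin n) F) - 1) := by
    rw [mul_sub, mul_one, ← h2]; abel
  exact upper_of_nilN_mul_eq (hbB.sub Matrix.blockTriangular_one) h3

/-- **Lemma B**: a nilpotent subgroup of `GL_n` containing the regular unipotent `u` is upper
triangular. -/
theorem le_borel_of_isNilpotent {A : Subgroup (GL (Fin n) F)} (hA : Group.IsNilpotent ↥A)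
    (hu : (uGL : GL (Fin n) F) ∈ A) : A ≤ (borel : Subgroup (GL (Fin n) F)) := by
  have := hA
  set K : Subgroup ↥A := (borel : Subgroup (GL (Fin n) F)).subgroupOf A with hK
  have huK : (⟨uGL, hu⟩ : ↥A) ∈ K := by
    rw [hK, Subgroup.mem_subgroupOf]
    change (uGL : GL (Fin n) F) ∈ borel
    change ((uGL : GL (Fin n) F) : Matrix (Fin n) (Fin n) F).BlockTriangular _
    rw [uGL_val]
    exact Matrix.blockTriangular_one.add nilN_blockTriangular
  have hKtop : K = ⊤ := by
    by_contra hne
    have hlt : K < ⊤ := lt_top_iff_ne_top.2 hne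
    have hnc := Group.normalizerCondition_of_isNilpotent (G := ↥A) K hlt
    obtain ⟨a, haN, haK⟩ := Set.exists_of_ssubset hnc
    apply haK
    have haN' : a⁻¹ ∈ Subgroup.normalizer (K : Set ↥A) := Subgroup.inv_mem _ haN
    have h1 := (Subgroup.mem_normalizer_iff.1 haN' ⟨uGL, hu⟩).1 huK
    rw [hK, Subgroup.mem_subgroupOf] at h1
    change a ∈ (borel : Subgroup (GL (Fin n) F)).subgroupOf A
    rw [Subgroup.mem_subgroupOf]
    apply mem_borel_of_conj_uGL
    simpa using h1
  intro a ha
  have : (⟨a, ha⟩ : ↥A) ∈ K := by rw [hKtop]; exact Subgroup.mem_top _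
  rw [hK, Subgroup.mem_subgroupOf] at this
  exact this

end Cfsg.Agent.Lib.Helper7.NilCov
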