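import Mathlib
import Cfsg.Agent.Lib.Helper7.NilCov1
import Cfsg.Agent.Lib.Helper7.NilCov2

/-!
# No nilpotent minimal lifted cover for `SL_n ≤ H ≤ GL_n`, `n ≥ 3` (helper7, for S3894)
-/

namespace Cfsg.Agent.Lib.Helper7.NilCov

open Matrix

variable {F : Type*} [Field F] {n : ℕ}

/-- conjugate version of Lemma B -/
theorem conj_mem_borel_of_isNilpotent {A : Subgroup (GL (Fin n) F)} (hA : Group.IsNilpotent ↥A)
    (x : GL (Fin n) F) (hu : x * uGL * x⁻¹ ∈ A) {a : GL (Fin n) F} (ha : a ∈ A) :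
    x⁻¹ * a * x ∈ (borel : Subgroup (GL (Fin n) F)) := by
  have := hA
  set A' : Subgroup (GL (Fin n) F) := A.map (MulAut.conj x⁻¹).toMonoidHom with hA'
  have hnil : Group.IsNilpotent ↥A' := Group.nilpotent_of_mulEquiv ((MulAut.conj x⁻¹).subgroupMap A)
  have hu' : (uGL : GL (Fin n) F) ∈ A' := by
    rw [hA', Subgroup.mem_map]
    refine ⟨x * uGL * x⁻¹, hu, ?_⟩
    simp; group
  have hle := le_borel_of_isNilpotent hnil hu'
  apply hle
  rw [hA', Subgroup.mem_map]
  refine ⟨a, ha, ?_⟩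
  simp

/-- the block function of the parabolic `P` (the `(1,0)` entry is free) -/
def bP (n : ℕ) : Fin n → ℕ := fun i => max (i : ℕ) 1

theorem borel_le_btSub_bP : (borel : Subgroup (GL (Fin n) F)) ≤ btSub (bP n) := by
  intro g hg i j hij
  apply hg
  unfold bP at hij
  change (j : ℕ) < (i : ℕ)
  omega

theorem center_le_btSub (b : Fin n → ℕ) : Subgroup.center (GL (Fin n) F) ≤ btSub b := by
  intro z hz
  obtain ⟨a, ha⟩ := Matrix.GeneralLinearGroup.mem_center_iff_val_mem_range_scalar.1 hz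
  rw [mem_btSub]
  have : (z : Matrix (Fin n) (Fin n) F) = Matrix.diagonal (fun _ => a) := by
    rw [← ha]; rfl
  rw [this]
  exact Matrix.blockTriangular_diagonal _

/-- a transvection as an element of `GL_n` (via `SL_n`) -/
def tvGL (i j : Fin n) (hij : i ≠ j) (c : F) : GL (Fin n) F :=
  Matrix.SpecialLinearGroup.toGL ⟨Matrix.transvection i j c, Matrix.det_transvection_of_ne i j hij c⟩

theorem tvGL_val (i j : Fin n) (hij : i ≠ j) (c : F) :
    ((tvGL i j hij c : GL (Fin n) F) : Matrix (Fin n) (Fin n) F) = Matrix.transvection i j c := rfl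

theorem tvGL_mem_range (i j : Fin n) (hij : i ≠ j) (c : F) :
    tvGL i j hij c ∈ (Matrix.SpecialLinearGroup.toGL :
      Matrix.SpecialLinearGroup (Fin n) F →* GL (Fin n) F).range := ⟨_, rfl⟩

theorem transvection_apply_self (i j : Fin n) (hij : i ≠ j) (c : F) :
    (Matrix.transvection i j c) i j = c := by
  simp [Matrix.transvection, hij]

/-- **n ≥ 3**: no nilpotent minimum lifted cover. -/
theorem no_nilMin_three (hn : 3 ≤ n) (H : Subgroup (GL (Fin n) F))
    (hZ : Subgroup.center (GL (Fin n) F) ≤ H)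
    (hSL : (Matrix.SpecialLinearGroup.toGL :
      Matrix.SpecialLinearGroup (Fin n) F →* GL (Fin n) F).range ≤ H)
    (C : Finset (Subgroup (GL (Fin n) F)))
    (hC : NilMinLiftedCover (Subgroup.center (GL (Fin n) F)) H C) : False := by
  obtain ⟨hcov, hmin, hnil⟩ := hC
  set i0 : Fin n := ⟨0, by omega⟩ with hi0
  set i1 : Fin n := ⟨1, by omega⟩ with hi1
  set i2 : Fin n := ⟨2, by omega⟩ with hi2
  have h10 : i1 ≠ i0 := by intro h; have := congrArg Fin.val h; simp [hi0, hi1] at this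
  have h21 : i2 ≠ i1 := by intro h; have := congrArg Fin.val h; simp [hi2, hi1] at this
  set x : GL (Fin n) F := tvGL i1 i0 h10 1 with hx
  set y : GL (Fin n) F := tvGL i2 i1 h21 1 with hy
  set P : Subgroup (GL (Fin n) F) := btSub (bP n) with hP
  have hxP : x ∈ P := by
    rw [hP, mem_btSub, hx, tvGL_val]
    apply Matrix.blockTriangular_transvection
    simp [bP, hi0, hi1]
  have hxB : x ∉ (borel : Subgroup (GL (Fin n) F)) := by
    intro hxB
    have h1 : (x : Matrix (Fin n) (Fin n) F) i1 i0 = 0 := hxB (by simp [hi0, hi1])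
    rw [hx, tvGL_val, transvection_apply_self _ _ h10] at h1
    exact one_ne_zero h1
  have hyP : y ∉ P := by
    intro hyP
    have h1 : (y : Matrix (Fin n) (Fin n) F) i2 i1 = 0 := hyP (by simp [bP, hi2, hi1])
    rw [hy, tvGL_val, transvection_apply_self _ _ h21] at h1
    exact one_ne_zero h1
  have hyH : y ∈ H := hSL (tvGL_mem_range _ _ _ _)
  have hxH : x ∈ (Matrix.SpecialLinearGroup.toGL :
      Matrix.SpecialLinearGroup (Fin n) F →* GL (Fin n) F).range := tvGL_mem_range _ _ _ _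
  -- the proper subgroup M
  have hZM : Subgroup.center (GL (Fin n) F) ≤ P ⊓ H := le_inf (center_le_btSub _) hZ
  have hMH : P ⊓ H ≤ H := inf_le_right
  have hMne : P ⊓ H ≠ H := by
    intro h
    have : y ∈ P ⊓ H := by rw [h]; exact hyH
    exact hyP this.1
  -- the two members
  have huH : (uGL : GL (Fin n) F) ∈ H := hSL uGL_mem_range
  obtain ⟨A₁, hA₁, hu₁⟩ := hcov.cover _ huH
  have hxuH : x * uGL * x⁻¹ ∈ H :=
    hSL (Subgroup.mul_mem _ (Subgroup.mul_mem _ hxH uGL_mem_range) (Subgroup.inv_mem _ hxH))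
  obtain ⟨A₂, hA₂, hu₂⟩ := hcov.cover _ hxuH
  have hA₁B : A₁ ≤ (borel : Subgroup (GL (Fin n) F)) := le_borel_of_isNilpotent (hnil A₁ hA₁) hu₁
  have h1M : A₁ ≤ P ⊓ H := le_inf (hA₁B.trans borel_le_btSub_bP) (hcov.mem A₁ hA₁).2.1
  have h2M : A₂ ≤ P ⊓ H := by
    refine le_inf ?_ (hcov.mem A₂ hA₂).2.1
    intro a ha
    have h1 : x⁻¹ * a * x ∈ P :=
      borel_le_btSub_bP (conj_mem_borel_of_isNilpotent (hnil A₂ hA₂) x hu₂ ha)
    have h2 : x * (x⁻¹ * a * x) * x⁻¹ ∈ P := P.mul_mem (P.mul_mem hxP h1) (P.inv_mem hxP)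
    have h3 : x * (x⁻¹ * a * x) * x⁻¹ = a := by group
    rwa [h3] at h2
  have h12 : A₁ = A₂ := hcov.merge hmin hZM hMH hMne hA₁ hA₂ h1M h2M
  -- contradiction: x ∈ B
  have h4 : x * uGL * x⁻¹ ∈ (borel : Subgroup (GL (Fin n) F)) := hA₁B (h12 ▸ hu₂)
  have h5 : x⁻¹ ∈ (borel : Subgroup (GL (Fin n) F)) := by
    apply mem_borel_of_conj_uGL
    simpa using h4
  exact hxB (by simpa using Subgroup.inv_mem _ h5)

end Cfsg.Agent.Lib.Helper7.NilCov
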