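import Mathlib

/-!
# Elements central modulo a central subgroup in a nilpotent group (helper7, for S3894)
-/

namespace Cfsg.Agent.Lib.Helper7.NilCov

variable {Γ : Type*} [Group Γ]

/-- If `A` is nilpotent, `Z` is central in `Γ` and `A ≰ Z`, then some `z ∈ A \ Z` is central in
`A` modulo `Z`. -/
theorem exists_central_mod (Z A : Subgroup Γ) (hZ : Z ≤ Subgroup.center Γ)
    (hnil : Group.IsNilpotent ↥A) (hne : ¬ A ≤ Z) :
    ∃ z ∈ A, z ∉ Z ∧ ∀ x ∈ A, x * z * x⁻¹ * z⁻¹ ∈ Z := by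
  have := hnil
  have hnormal : (Z.subgroupOf A).Normal := by
    constructor
    intro n hn g
    rw [Subgroup.mem_subgroupOf] at hn ⊢
    have hc := Subgroup.mem_center_iff.1 (hZ hn) (g : Γ)
    have : ((g * n * g⁻¹ : ↥A) : Γ) = (n : Γ) := by
      push_cast
      rw [hc]; group
    rw [this]; exact hn
  obtain ⟨a, haA, haZ⟩ := SetLike.not_le_iff_exists.1 hne
  have hnt : Nontrivial (↥A ⧸ Z.subgroupOf A) := by
    refine ⟨⟨QuotientGroup.mk' _ ⟨a, haA⟩, 1, ?_⟩⟩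
    intro h
    have := (QuotientGroup.eq_one_iff _).1 h
    rw [Subgroup.mem_subgroupOf] at this
    exact haZ this
  have hQ : Group.IsNilpotent (↥A ⧸ Z.subgroupOf A) := inferInstance
  have hcne := Group.IsNilpotent.center_ne_bot (G := ↥A ⧸ Z.subgroupOf A)
  obtain ⟨q, hq, hq1⟩ := (Subgroup.ne_bot_iff_exists_ne_one
    (H := Subgroup.center (↥A ⧸ Z.subgroupOf A))).1 hcne |> fun ⟨q, hq⟩ =>
      (⟨q.1, q.2, fun h => hq (Subtype.ext h)⟩ : ∃ q : ↥A ⧸ Z.subgroupOf A,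
        q ∈ Subgroup.center (↥A ⧸ Z.subgroupOf A) ∧ q ≠ 1)
  obtain ⟨z, rfl⟩ := QuotientGroup.mk'_surjective (Z.subgroupOf A) q
  refine ⟨z.1, z.2, ?_, ?_⟩
  · intro hz
    apply hq1
    exact (QuotientGroup.eq_one_iff _).2 (by rw [Subgroup.mem_subgroupOf]; exact hz)
  · intro x hx
    have hc := Subgroup.mem_center_iff.1 hq (QuotientGroup.mk' (Z.subgroupOf A) ⟨x, hx⟩)
    have h1 : QuotientGroup.mk' (Z.subgroupOf A) (⟨x, hx⟩ * z * ⟨x, hx⟩⁻¹ * z⁻¹) = 1 := by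
      rw [map_mul, map_mul, map_mul, map_inv, map_inv, hc]; group
    have h2 := (QuotientGroup.eq_one_iff _).1 h1
    rw [Subgroup.mem_subgroupOf] at h2
    simpa using h2

end Cfsg.Agent.Lib.Helper7.NilCov
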