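import Mathlib
import Cfsg.Agent.Lib.Helper7.NilCov2
import Cfsg.Agent.Lib.Helper7.NilCov4

/-!
# The torus member of a nilpotent lifted cover of `SL₂·Z` (helper7, for S3894, §4 (iv)–(v))
-/

namespace Cfsg.Agent.Lib.Helper7.NilCov

open Matrix

variable {F : Type*} [Field F]

theorem mem_borel_two {g : GL (Fin 2) F} :
    g ∈ (borel : Subgroup (GL (Fin 2) F)) ↔ (g : Matrix (Fin 2) (Fin 2) F) 1 0 = 0 := by
  constructor
  · intro h
    exact h (by simp)
  · intro h i j hij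
    fin_cases i <;> fin_cases j <;> simp at hij ⊢
    exact h

/-- if `x g = g b` with `b` upper triangular then `g⁻¹ x g ∈ B`. -/
theorem conj_mem_borel_of_mul_eq {x g : GL (Fin 2) F} {b : Matrix (Fin 2) (Fin 2) F}
    (hb : b 1 0 = 0)
    (h : (x : Matrix (Fin 2) (Fin 2) F) * (g : Matrix (Fin 2) (Fin 2) F) =
      (g : Matrix (Fin 2) (Fin 2) F) * b) : g⁻¹ * x * g ∈ (borel : Subgroup (GL (Fin 2) F)) := by
  rw [mem_borel_two]
  have h1 : ((g⁻¹ * x * g : GL (Fin 2) F) : Matrix (Fin 2) (Fin 2) F) = b := by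
    have : ((g⁻¹ * x * g : GL (Fin 2) F) : Matrix (Fin 2) (Fin 2) F) =
        ((g⁻¹ : GL (Fin 2) F) : Matrix (Fin 2) (Fin 2) F) *
          ((x : Matrix (Fin 2) (Fin 2) F) * (g : Matrix (Fin 2) (Fin 2) F)) := by
      simp [mul_assoc]
    rw [this, h, ← mul_assoc]
    have h2 : ((g⁻¹ : GL (Fin 2) F) : Matrix (Fin 2) (Fin 2) F) * (g : Matrix (Fin 2) (Fin 2) F) = 1 := by
      have := congrArg (fun u : GL (Fin 2) F => (u : Matrix (Fin 2) (Fin 2) F)) (inv_mul_cancel g)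
      simpa using this
    rw [h2, one_mul]
  rw [h1]; exact hb

/-- commuting modulo the centre, in matrix form -/
theorem exists_scalar_of_comm_mem_center {n : ℕ} {x z : GL (Fin n) F}
    (h : x * z * x⁻¹ * z⁻¹ ∈ Subgroup.center (GL (Fin n) F)) :
    ∃ l : F, (x : Matrix (Fin n) (Fin n) F) * (z : Matrix (Fin n) (Fin n) F) =
      l • ((z : Matrix (Fin n) (Fin n) F) * (x : Matrix (Fin n) (Fin n) F)) := by
  obtain ⟨l, hl⟩ := Matrix.GeneralLinearGroup.mem_center_iff_val_mem_range_scalar.1 h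
  refine ⟨l, ?_⟩
  have h1 : x * z = (x * z * x⁻¹ * z⁻¹) * (z * x) := by group
  have h2 := congrArg (fun u : GL (Fin n) F => (u : Matrix (Fin n) (Fin n) F)) h1
  simp only [Units.val_mul] at h2
  rw [h2]
  have h3 : ((x : Matrix (Fin n) (Fin n) F) * (z : Matrix (Fin n) (Fin n) F) *
      ((x⁻¹ : GL (Fin n) F) : Matrix (Fin n) (Fin n) F) *
      ((z⁻¹ : GL (Fin n) F) : Matrix (Fin n) (Fin n) F)) = Matrix.scalar (Fin n) l := by
    rw [hl]; simp only [Units.val_mul]
  rw [h3]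
  simp [Matrix.smul_eq_diagonal_mul]

/-- **L1**: a matrix commuting up to a scalar with a non-scalar invertible diagonal matrix is
diagonal or antidiagonal. -/
theorem diag_or_antidiag {x d : Matrix (Fin 2) (Fin 2) F} {l : F} (hd01 : d 0 1 = 0)
    (hd10 : d 1 0 = 0) (h0 : d 0 0 ≠ 0) (h1 : d 1 1 ≠ 0) (hne : d 0 0 ≠ d 1 1)
    (h : x * d = l • (d * x)) :
    (x 0 1 = 0 ∧ x 1 0 = 0) ∨ (x 0 0 = 0 ∧ x 1 1 = 0) := by
  have e00 := congrFun (congrFun h 0) 0
  have e01 := congrFun (congrFun h 0) 1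
  have e10 := congrFun (congrFun h 1) 0
  have e11 := congrFun (congrFun h 1) 1
  simp only [Matrix.mul_apply, Fin.sum_univ_two, Matrix.smul_apply, smul_eq_mul, hd01, hd10,
    mul_zero, zero_mul, add_zero, zero_add] at e00 e01 e10 e11
  by_cases hl : l = 1
  · left
    subst hl
    rw [one_mul] at e01 e10
    constructor
    · have : x 0 1 * (d 1 1 - d 0 0) = 0 := by rw [mul_sub, e01]; ring
      rcases mul_eq_zero.1 this with h' | h'
      · exact h'
      · exact absurd (sub_eq_zero.1 h').symm hne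
    · have : x 1 0 * (d 0 0 - d 1 1) = 0 := by rw [mul_sub, e10]; ring
      rcases mul_eq_zero.1 this with h' | h'
      · exact h'
      · exact absurd (sub_eq_zero.1 h') hne
  · right
    have hl' : (1 : F) - l ≠ 0 := fun h' => hl (sub_eq_zero.1 h').symm
    constructor
    · have : x 0 0 * (d 0 0 * (1 - l)) = 0 := by
        have : x 0 0 * (d 0 0 * (1 - l)) = x 0 0 * d 0 0 - l * (d 0 0 * x 0 0) := by ring
        rw [this, e00]; ring
      rcases mul_eq_zero.1 this with h' | h'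
      · exact h'
      · exact absurd h' (mul_ne_zero h0 hl')
    · have : x 1 1 * (d 1 1 * (1 - l)) = 0 := by
        have : x 1 1 * (d 1 1 * (1 - l)) = x 1 1 * d 1 1 - l * (d 1 1 * x 1 1) := by ring
        rw [this, e11]; ring
      rcases mul_eq_zero.1 this with h' | h'
      · exact h'
      · exact absurd h' (mul_ne_zero h1 hl')


/-- **Lemma M**: a diagonal or antidiagonal element of `GL₂` whose determinant is a square has an
eigenvector (lies in a conjugate of the Borel subgroup), provided `-1` is a square. -/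
theorem exists_conj_mem_borel_of_monomial {x : GL (Fin 2) F} {c i : F} (hi : i ^ 2 = -1)
    (hdet : (x : Matrix (Fin 2) (Fin 2) F).det = c ^ 2)
    (hx : ((x : Matrix (Fin 2) (Fin 2) F) 0 1 = 0 ∧ (x : Matrix (Fin 2) (Fin 2) F) 1 0 = 0) ∨
      ((x : Matrix (Fin 2) (Fin 2) F) 0 0 = 0 ∧ (x : Matrix (Fin 2) (Fin 2) F) 1 1 = 0)) :
    ∃ g : GL (Fin 2) F, g⁻¹ * x * g ∈ (borel : Subgroup (GL (Fin 2) F)) := by
  rcases hx with ⟨-, h10⟩ | ⟨h00, h11⟩
  · refine ⟨1, ?_⟩
    rw [mem_borel_two]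
    simpa using h10
  · have hdet' := hdet
    rw [Matrix.det_fin_two, h00, h11, zero_mul, zero_sub] at hdet'
    have hne := Matrix.GeneralLinearGroup.det_ne_zero x
    rw [Matrix.det_fin_two, h00, h11, zero_mul, zero_sub] at hne
    have hβ : (x : Matrix (Fin 2) (Fin 2) F) 0 1 ≠ 0 := by
      intro h; apply hne; rw [h, zero_mul, neg_zero]
    set β := (x : Matrix (Fin 2) (Fin 2) F) 0 1 with hβdef
    set γ := (x : Matrix (Fin 2) (Fin 2) F) 1 0 with hγdef
    have hg : (!![β, 0; i * c, 1] : Matrix (Fin 2) (Fin 2) F).det ≠ 0 := by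
      rw [Matrix.det_fin_two_of]; simpa using hβ
    refine ⟨Matrix.GeneralLinearGroup.mkOfDetNeZero _ hg, ?_⟩
    apply conj_mem_borel_of_mul_eq (b := !![i * c, 1; 0, -(i * c)]) (by simp)
    have hx' : (x : Matrix (Fin 2) (Fin 2) F) = !![0, β; γ, 0] := by
      ext a b
      fin_cases a <;> fin_cases b <;> simp [h00, h11, hβdef, hγdef]
    rw [hx']
    have hrel : γ * β = i * c * (i * c) := by
      have : i * c * (i * c) = i ^ 2 * c ^ 2 := by ring
      rw [this, hi, ← hdet']; ring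
    change !![0, β; γ, 0] * !![β, 0; i * c, 1] = !![β, 0; i * c, 1] * !![i * c, 1; 0, -(i * c)]
    ext a b
    fin_cases a <;> fin_cases b <;> simp [Matrix.mul_apply, Fin.sum_univ_two, hrel]


/-- if `x g = g b` then `(g⁻¹ x g).val = b`. -/
theorem conj_val_of_mul_eq {x g : GL (Fin 2) F} {b : Matrix (Fin 2) (Fin 2) F}
    (h : (x : Matrix (Fin 2) (Fin 2) F) * (g : Matrix (Fin 2) (Fin 2) F) =
      (g : Matrix (Fin 2) (Fin 2) F) * b) :
    ((g⁻¹ * x * g : GL (Fin 2) F) : Matrix (Fin 2) (Fin 2) F) = b := by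
  have : ((g⁻¹ * x * g : GL (Fin 2) F) : Matrix (Fin 2) (Fin 2) F) =
      ((g⁻¹ : GL (Fin 2) F) : Matrix (Fin 2) (Fin 2) F) *
        ((x : Matrix (Fin 2) (Fin 2) F) * (g : Matrix (Fin 2) (Fin 2) F)) := by
    simp [mul_assoc]
  rw [this, h, ← mul_assoc]
  have h2 : ((g⁻¹ : GL (Fin 2) F) : Matrix (Fin 2) (Fin 2) F) * (g : Matrix (Fin 2) (Fin 2) F) = 1 := by
    have := congrArg (fun u : GL (Fin 2) F => (u : Matrix (Fin 2) (Fin 2) F)) (inv_mul_cancel g)
    simpa using this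
  rw [h2, one_mul]

theorem det_conj_val (x h : GL (Fin 2) F) :
    ((h⁻¹ * x * h : GL (Fin 2) F) : Matrix (Fin 2) (Fin 2) F).det =
      (x : Matrix (Fin 2) (Fin 2) F).det := by
  have h2 : ((h⁻¹ : GL (Fin 2) F) : Matrix (Fin 2) (Fin 2) F).det *
      (h : Matrix (Fin 2) (Fin 2) F).det = 1 := by
    rw [← Matrix.det_mul]
    have := congrArg (fun u : GL (Fin 2) F => (u : Matrix (Fin 2) (Fin 2) F)) (inv_mul_cancel h)
    simp only [Units.val_mul] at this
    rw [this]; simp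
  simp only [Units.val_mul, Matrix.det_mul]
  calc ((h⁻¹ : GL (Fin 2) F) : Matrix (Fin 2) (Fin 2) F).det * (x : Matrix (Fin 2) (Fin 2) F).det *
      (h : Matrix (Fin 2) (Fin 2) F).det
      = (((h⁻¹ : GL (Fin 2) F) : Matrix (Fin 2) (Fin 2) F).det *
          (h : Matrix (Fin 2) (Fin 2) F).det) * (x : Matrix (Fin 2) (Fin 2) F).det := by ring
    _ = (x : Matrix (Fin 2) (Fin 2) F).det := by rw [h2, one_mul]

/-- **FIN**: if some `z`, central in `A` modulo scalars, is conjugate (by `h`) to a non-scalar diagonal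
matrix, all determinants in `A` are squares and `-1` is a square, then every element of `A` lies in a
conjugate of the Borel subgroup. -/
theorem fixed_points_of_diagonalizable_central {A : Subgroup (GL (Fin 2) F)} {z h : GL (Fin 2) F}
    {i : F} (hi : i ^ 2 = -1)
    (hzc : ∀ x ∈ A, x * z * x⁻¹ * z⁻¹ ∈ Subgroup.center (GL (Fin 2) F))
    (hsq : ∀ x ∈ A, ∃ c : F, (x : Matrix (Fin 2) (Fin 2) F).det = c ^ 2)
    (hd01 : ((h⁻¹ * z * h : GL (Fin 2) F) : Matrix (Fin 2) (Fin 2) F) 0 1 = 0)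
    (hd10 : ((h⁻¹ * z * h : GL (Fin 2) F) : Matrix (Fin 2) (Fin 2) F) 1 0 = 0)
    (hne : ((h⁻¹ * z * h : GL (Fin 2) F) : Matrix (Fin 2) (Fin 2) F) 0 0 ≠
      ((h⁻¹ * z * h : GL (Fin 2) F) : Matrix (Fin 2) (Fin 2) F) 1 1) :
    ∀ x ∈ A, ∃ g : GL (Fin 2) F, g⁻¹ * x * g ∈ (borel : Subgroup (GL (Fin 2) F)) := by
  intro x hx
  set d : GL (Fin 2) F := h⁻¹ * z * h with hd
  set x' : GL (Fin 2) F := h⁻¹ * x * h with hx'
  have hdet := Matrix.GeneralLinearGroup.det_ne_zero d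
  rw [Matrix.det_fin_two, hd01, hd10, mul_zero, sub_zero] at hdet
  have h0 : (d : Matrix (Fin 2) (Fin 2) F) 0 0 ≠ 0 := left_ne_zero_of_mul hdet
  have h1 : (d : Matrix (Fin 2) (Fin 2) F) 1 1 ≠ 0 := right_ne_zero_of_mul hdet
  have hc : x' * d * x'⁻¹ * d⁻¹ ∈ Subgroup.center (GL (Fin 2) F) := by
    have h2 : x' * d * x'⁻¹ * d⁻¹ = h⁻¹ * (x * z * x⁻¹ * z⁻¹) * h⁻¹⁻¹ := by
      rw [hx', hd]; group
    rw [h2]
    exact (inferInstance : (Subgroup.center (GL (Fin 2) F)).Normal).conj_mem _ (hzc x hx) _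
  obtain ⟨l, hl⟩ := exists_scalar_of_comm_mem_center hc
  have hmono := diag_or_antidiag hd01 hd10 h0 h1 hne hl
  obtain ⟨c, hcx⟩ := hsq x hx
  have hdet' : (x' : Matrix (Fin 2) (Fin 2) F).det = c ^ 2 := by
    rw [hx', det_conj_val, hcx]
  obtain ⟨g', hg'⟩ := exists_conj_mem_borel_of_monomial hi hdet' hmono
  refine ⟨h * g', ?_⟩
  have : (h * g')⁻¹ * x * (h * g') = g'⁻¹ * x' * g' := by rw [hx']; group
  rw [this]; exact hg'


/-- the diagonal matrix `diag(a, b)` in `GL₂` -/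
def dGL (a b : Fˣ) : GL (Fin 2) F :=
  ⟨!![(a : F), 0; 0, (b : F)], !![((a⁻¹ : Fˣ) : F), 0; 0, ((b⁻¹ : Fˣ) : F)],
    by ext i j; fin_cases i <;> fin_cases j <;> simp [Matrix.mul_apply, Fin.sum_univ_two],
    by ext i j; fin_cases i <;> fin_cases j <;> simp [Matrix.mul_apply, Fin.sum_univ_two]⟩

theorem dGL_val (a b : Fˣ) :
    ((dGL a b : GL (Fin 2) F) : Matrix (Fin 2) (Fin 2) F) = !![(a : F), 0; 0, (b : F)] := rfl

theorem dGL_mem_range (a : Fˣ) :
    dGL a a⁻¹ ∈ (Matrix.SpecialLinearGroup.toGL :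
      Matrix.SpecialLinearGroup (Fin 2) F →* GL (Fin 2) F).range := by
  refine ⟨⟨!![(a : F), 0; 0, ((a⁻¹ : Fˣ) : F)], by simp [Matrix.det_fin_two_of]⟩, ?_⟩
  apply Units.ext
  rfl

/-- determinants of elements of `SL₂·Z` are squares -/
theorem det_sq_of_mem_sup {x : GL (Fin 2) F}
    (hx : x ∈ (Matrix.SpecialLinearGroup.toGL :
      Matrix.SpecialLinearGroup (Fin 2) F →* GL (Fin 2) F).range ⊔ Subgroup.center (GL (Fin 2) F)) :
    ∃ c : F, (x : Matrix (Fin 2) (Fin 2) F).det = c ^ 2 := by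
  have hx' : x ∈ (((Matrix.SpecialLinearGroup.toGL :
      Matrix.SpecialLinearGroup (Fin 2) F →* GL (Fin 2) F).range ⊔
        Subgroup.center (GL (Fin 2) F) : Subgroup (GL (Fin 2) F)) : Set (GL (Fin 2) F)) := hx
  rw [Subgroup.mul_normal] at hx'
  obtain ⟨y, ⟨s, rfl⟩, w, hw, rfl⟩ := Set.mem_mul.1 hx'
  obtain ⟨c, hc⟩ := Matrix.GeneralLinearGroup.mem_center_iff_val_mem_range_scalar.1 hw
  refine ⟨c, ?_⟩
  have h1 : ((Matrix.SpecialLinearGroup.toGL s * w : GL (Fin 2) F) : Matrix (Fin 2) (Fin 2) F) =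
      (s : Matrix (Fin 2) (Fin 2) F) * (w : Matrix (Fin 2) (Fin 2) F) := rfl
  rw [h1, Matrix.det_mul, s.2, one_mul, ← hc]
  simp [sq]


theorem not_mem_center_of_entries {z : GL (Fin 2) F}
    (h : (z : Matrix (Fin 2) (Fin 2) F) 0 0 ≠ (z : Matrix (Fin 2) (Fin 2) F) 1 1) :
    z ∉ Subgroup.center (GL (Fin 2) F) := by
  intro hz
  obtain ⟨c, hc⟩ := Matrix.GeneralLinearGroup.mem_center_iff_val_mem_range_scalar.1 hz
  apply h
  rw [← hc]; simp

theorem mem_center_of_entries {z : GL (Fin 2) F}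
    (h01 : (z : Matrix (Fin 2) (Fin 2) F) 0 1 = 0) (h10 : (z : Matrix (Fin 2) (Fin 2) F) 1 0 = 0)
    (h : (z : Matrix (Fin 2) (Fin 2) F) 0 0 = (z : Matrix (Fin 2) (Fin 2) F) 1 1) :
    z ∈ Subgroup.center (GL (Fin 2) F) := by
  rw [Matrix.GeneralLinearGroup.mem_center_iff_val_mem_range_scalar]
  refine ⟨(z : Matrix (Fin 2) (Fin 2) F) 0 0, ?_⟩
  ext a b
  fin_cases a <;> fin_cases b <;> simp [h01, h10, h]

/-- **§4 (iv)–(v)**: the member through the torus element `diag(a, a⁻¹)`, `a² ≠ 1`, of a nilpotent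
lifted cover of `SL₂·Z`, if not upper triangular, consists of elements having an eigenvector. -/
theorem torus_member_fixed_points (A : Subgroup (GL (Fin 2) F)) (hnil : Group.IsNilpotent ↥A)
    (hZA : Subgroup.center (GL (Fin 2) F) ≤ A)
    (hASZ : A ≤ (Matrix.SpecialLinearGroup.toGL :
      Matrix.SpecialLinearGroup (Fin 2) F →* GL (Fin 2) F).range ⊔ Subgroup.center (GL (Fin 2) F))
    (a : Fˣ) (ha2 : (a : F) ^ 2 ≠ 1) (ht : dGL a a⁻¹ ∈ A)
    (hnotB : ¬ A ≤ (borel : Subgroup (GL (Fin 2) F))) :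
    ∀ x ∈ A, ∃ g : GL (Fin 2) F, g⁻¹ * x * g ∈ (borel : Subgroup (GL (Fin 2) F)) := by
  have hsq : ∀ x ∈ A, ∃ c : F, (x : Matrix (Fin 2) (Fin 2) F).det = c ^ 2 :=
    fun x hx => det_sq_of_mem_sup (hASZ hx)
  have ha0 : (a : F) ≠ 0 := a.ne_zero
  have hainv : ((a⁻¹ : Fˣ) : F) = (a : F)⁻¹ := by simp
  have hane : (a : F) ≠ ((a⁻¹ : Fˣ) : F) := by
    intro h
    apply ha2
    rw [sq]
    nth_rewrite 2 [h]
    simp
  set t : GL (Fin 2) F := dGL a a⁻¹ with ht_def
  have ht00 : (t : Matrix (Fin 2) (Fin 2) F) 0 0 = (a : F) := by simp [ht_def, dGL_val]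
  have ht11 : (t : Matrix (Fin 2) (Fin 2) F) 1 1 = ((a⁻¹ : Fˣ) : F) := by simp [ht_def, dGL_val]
  have ht01 : (t : Matrix (Fin 2) (Fin 2) F) 0 1 = 0 := by simp [ht_def, dGL_val]
  have ht10 : (t : Matrix (Fin 2) (Fin 2) F) 1 0 = 0 := by simp [ht_def, dGL_val]
  have htZ : t ∉ Subgroup.center (GL (Fin 2) F) :=
    not_mem_center_of_entries (by rw [ht00, ht11]; exact hane)
  have hAZ : ¬ A ≤ Subgroup.center (GL (Fin 2) F) := fun h => htZ (h ht)
  obtain ⟨z, hzA, hzZ, hzc⟩ := exists_central_mod _ A le_rfl hnil hAZ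
  -- z commutes with t up to a scalar
  obtain ⟨l, hl⟩ := exists_scalar_of_comm_mem_center (hzc t ht)
  have hl0 : l ≠ 0 := by
    intro h0
    rw [h0, zero_smul] at hl
    have h1 : ((t * z : GL (Fin 2) F) : Matrix (Fin 2) (Fin 2) F) = 0 := hl
    have h2 := Matrix.GeneralLinearGroup.det_ne_zero (t * z)
    rw [h1] at h2
    simp at h2
  have hl' : (z : Matrix (Fin 2) (Fin 2) F) * (t : Matrix (Fin 2) (Fin 2) F) =
      l⁻¹ • ((t : Matrix (Fin 2) (Fin 2) F) * (z : Matrix (Fin 2) (Fin 2) F)) := by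
    rw [hl, smul_smul, inv_mul_cancel₀ hl0, one_smul]
  have hzmono := diag_or_antidiag ht01 ht10 (by rw [ht00]; exact ha0)
    (by rw [ht11, hainv]; exact inv_ne_zero ha0) (by rw [ht00, ht11]; exact hane) hl'
  rcases hzmono with ⟨hz01, hz10⟩ | ⟨hz00, hz11⟩
  · -- case (a): z diagonal
    have hzne : (z : Matrix (Fin 2) (Fin 2) F) 0 0 ≠ (z : Matrix (Fin 2) (Fin 2) F) 1 1 :=
      fun h => hzZ (mem_center_of_entries hz01 hz10 h)
    have hzdet := Matrix.GeneralLinearGroup.det_ne_zero z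
    rw [Matrix.det_fin_two, hz01, hz10, mul_zero, sub_zero] at hzdet
    have hz0 : (z : Matrix (Fin 2) (Fin 2) F) 0 0 ≠ 0 := left_ne_zero_of_mul hzdet
    have hz1 : (z : Matrix (Fin 2) (Fin 2) F) 1 1 ≠ 0 := right_ne_zero_of_mul hzdet
    -- an element r of A outside the Borel subgroup
    obtain ⟨r, hrA, hrB⟩ := SetLike.not_le_iff_exists.1 hnotB
    rw [mem_borel_two] at hrB
    obtain ⟨m, hm⟩ := exists_scalar_of_comm_mem_center (hzc r hrA)
    have hrmono := diag_or_antidiag hz01 hz10 hz0 hz1 hzne hm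
    rcases hrmono with ⟨-, hr10⟩ | ⟨hr00, hr11⟩
    · exact absurd hr10 hrB
    have hrdet := Matrix.GeneralLinearGroup.det_ne_zero r
    rw [Matrix.det_fin_two, hr00, hr11, zero_mul, zero_sub] at hrdet
    have hr01 : (r : Matrix (Fin 2) (Fin 2) F) 0 1 ≠ 0 := by
      intro h; apply hrdet; rw [h, zero_mul, neg_zero]
    have e01 := congrFun (congrFun hm 0) 1
    have e10 := congrFun (congrFun hm 1) 0
    simp only [Matrix.mul_apply, Fin.sum_univ_two, Matrix.smul_apply, smul_eq_mul, hz01, hz10,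
      hr00, hr11, mul_zero, add_zero, zero_add] at e01 e10
    -- e01 : r01 * z11 = m * (z00 * r01), e10 : r10 * z00 = m * (z11 * r10)
    have f1 : (z : Matrix (Fin 2) (Fin 2) F) 1 1 = m * (z : Matrix (Fin 2) (Fin 2) F) 0 0 := by
      apply mul_left_cancel₀ hr01
      rw [e01]; ring
    have f2 : (z : Matrix (Fin 2) (Fin 2) F) 0 0 = m * (z : Matrix (Fin 2) (Fin 2) F) 1 1 := by
      apply mul_left_cancel₀ hrB
      rw [e10]; ring
    have f3 : (m - 1) * (m + 1) = 0 := by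
      have : (z : Matrix (Fin 2) (Fin 2) F) 0 0 * ((m - 1) * (m + 1)) = 0 := by
        have h3 : (z : Matrix (Fin 2) (Fin 2) F) 0 0 =
            m * (m * (z : Matrix (Fin 2) (Fin 2) F) 0 0) := by rw [← f1]; exact f2
        have : (z : Matrix (Fin 2) (Fin 2) F) 0 0 * ((m - 1) * (m + 1)) =
            m * (m * (z : Matrix (Fin 2) (Fin 2) F) 0 0) - (z : Matrix (Fin 2) (Fin 2) F) 0 0 := by
          ring
        rw [this, ← h3, sub_self]
      exact (mul_eq_zero.1 this).resolve_left hz0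
    have hm1 : m = -1 := by
      rcases mul_eq_zero.1 f3 with h | h
      · exfalso
        apply hzne
        rw [f2, sub_eq_zero.1 h, one_mul]
      · exact eq_neg_of_add_eq_zero_left h
    obtain ⟨c, hc⟩ := hsq z hzA
    rw [Matrix.det_fin_two, hz01, hz10, mul_zero, sub_zero, f1, hm1] at hc
    have hi : (c / (z : Matrix (Fin 2) (Fin 2) F) 0 0) ^ 2 = -1 := by
      rw [div_pow, ← hc]
      field_simp
    refine fixed_points_of_diagonalizable_central (h := 1) (z := z) hi hzc hsq ?_ ?_ ?_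
    · simpa using hz01
    · simpa using hz10
    · simpa using hzne
  · -- case (b): z antidiagonal, a² = -1
    have hzdet := Matrix.GeneralLinearGroup.det_ne_zero z
    rw [Matrix.det_fin_two, hz00, hz11, zero_mul, zero_sub] at hzdet
    have hβ : (z : Matrix (Fin 2) (Fin 2) F) 0 1 ≠ 0 := by
      intro h; apply hzdet; rw [h, zero_mul, neg_zero]
    have hγ : (z : Matrix (Fin 2) (Fin 2) F) 1 0 ≠ 0 := by
      intro h; apply hzdet; rw [h, mul_zero, neg_zero]
    have e01 := congrFun (congrFun hl' 0) 1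
    have e10 := congrFun (congrFun hl' 1) 0
    simp only [Matrix.mul_apply, Fin.sum_univ_two, Matrix.smul_apply, smul_eq_mul, ht01, ht10,
      hz00, hz11, ht00, ht11, mul_zero, add_zero, zero_add] at e01 e10
    -- e01 : z01 * a⁻¹ = l⁻¹ * (a * z01), e10 : z10 * a = l⁻¹ * (a⁻¹ * z10)
    have f1 : ((a⁻¹ : Fˣ) : F) = l⁻¹ * (a : F) := by
      apply mul_left_cancel₀ hβ
      rw [e01]; ring
    have f2 : (a : F) = l⁻¹ * ((a⁻¹ : Fˣ) : F) := by
      apply mul_left_cancel₀ hγ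
      rw [e10]; ring
    have f3 : (l⁻¹ - 1) * (l⁻¹ + 1) = 0 := by
      have : (a : F) * ((l⁻¹ - 1) * (l⁻¹ + 1)) = 0 := by
        have h3 : (a : F) = l⁻¹ * (l⁻¹ * (a : F)) := by rw [← f1]; exact f2
        have : (a : F) * ((l⁻¹ - 1) * (l⁻¹ + 1)) = l⁻¹ * (l⁻¹ * (a : F)) - (a : F) := by ring
        rw [this, ← h3, sub_self]
      exact (mul_eq_zero.1 this).resolve_left ha0
    have hm1 : l⁻¹ = -1 := by
      rcases mul_eq_zero.1 f3 with h | h
      · exfalso
        apply hane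
        rw [f2, sub_eq_zero.1 h, one_mul]
      · exact eq_neg_of_add_eq_zero_left h
    have hi : (a : F) ^ 2 = -1 := by
      have h1 : (a : F) * ((a⁻¹ : Fˣ) : F) = 1 := by simp
      rw [f1, hm1] at h1
      rw [sq]
      have : (a : F) * (-1 * (a : F)) = -((a : F) * (a : F)) := by ring
      rw [this] at h1
      rw [← h1]; ring
    have h2 : (2 : F) ≠ 0 := by
      intro h2
      apply ha2
      rw [hi]
      have : (-1 : F) = 1 - 2 := by ring
      rw [this, h2, sub_zero]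
    obtain ⟨c, hc⟩ := hsq z hzA
    rw [Matrix.det_fin_two, hz00, hz11, zero_mul, zero_sub] at hc
    have hc0 : c ≠ 0 := by
      intro h; apply hzdet; rw [hc, h]; ring
    set β := (z : Matrix (Fin 2) (Fin 2) F) 0 1 with hβdef
    set γ := (z : Matrix (Fin 2) (Fin 2) F) 1 0 with hγdef
    have hh : (!![β, β; (a : F) * c, -((a : F) * c)] : Matrix (Fin 2) (Fin 2) F).det ≠ 0 := by
      rw [Matrix.det_fin_two_of]
      have : β * -((a : F) * c) - β * ((a : F) * c) = -(2 * (a : F) * c * β) := by ring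
      rw [this]
      exact neg_ne_zero.2 (mul_ne_zero (mul_ne_zero (mul_ne_zero h2 ha0) hc0) hβ)
    set h : GL (Fin 2) F := Matrix.GeneralLinearGroup.mkOfDetNeZero _ hh with hh_def
    have hz' : (z : Matrix (Fin 2) (Fin 2) F) = !![0, β; γ, 0] := by
      ext p q
      fin_cases p <;> fin_cases q <;> simp [hz00, hz11, hβdef, hγdef]
    have hrel : γ * β = (a : F) * c * ((a : F) * c) := by
      have : (a : F) * c * ((a : F) * c) = (a : F) ^ 2 * c ^ 2 := by ring
      rw [this, hi, ← hc]; ring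
    have hconj : (z : Matrix (Fin 2) (Fin 2) F) * (h : Matrix (Fin 2) (Fin 2) F) =
        (h : Matrix (Fin 2) (Fin 2) F) * !![(a : F) * c, 0; 0, -((a : F) * c)] := by
      rw [hz']
      change !![0, β; γ, 0] * !![β, β; (a : F) * c, -((a : F) * c)] =
        !![β, β; (a : F) * c, -((a : F) * c)] * !![(a : F) * c, 0; 0, -((a : F) * c)]
      ext p q
      fin_cases p <;> fin_cases q <;> simp [Matrix.mul_apply, Fin.sum_univ_two, hrel]
    have hD := conj_val_of_mul_eq hconj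
    refine fixed_points_of_diagonalizable_central (h := h) (z := z) hi hzc hsq ?_ ?_ ?_
    · rw [hD]; simp
    · rw [hD]; simp
    · rw [hD]
      simp only [Matrix.of_apply, Matrix.cons_val', Matrix.cons_val_zero, Matrix.cons_val_one]
      intro h'
      have : 2 * ((a : F) * c) = 0 := by
        have : 2 * ((a : F) * c) = (a : F) * c - -((a : F) * c) := by ring
        rw [this, sub_eq_zero]; exact h'
      exact (mul_ne_zero h2 (mul_ne_zero ha0 hc0)) this

end Cfsg.Agent.Lib.Helper7.NilCov
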