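import Mathlib

/-!
# A unit with `a² ≠ 1` in a finite field with at least 4 elements (helper7, for S3894)
-/

namespace Cfsg.Agent.Lib.Helper7.NilCov

theorem exists_unit_sq_ne_one {F : Type*} [Field F] [Fintype F] (hq : 4 ≤ Fintype.card F) :
    ∃ a : Fˣ, (a : F) ^ 2 ≠ 1 := by
  classical
  by_contra hcon
  push Not at hcon
  have hsub : (Finset.univ : Finset F) ⊆ {0, 1, -1} := by
    intro x _
    by_cases hx : x = 0
    · simp [hx]
    · have h1 := hcon (Units.mk0 x hx)
      simp only [Units.val_mk0] at h1
      have h2 : (x - 1) * (x + 1) = 0 := by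
        have : (x - 1) * (x + 1) = x ^ 2 - 1 := by ring
        rw [this, h1, sub_self]
      rcases mul_eq_zero.1 h2 with h | h
      · simp [sub_eq_zero.1 h]
      · simp [eq_neg_of_add_eq_zero_left h]
  have h3 : Fintype.card F ≤ 3 := by
    rw [← Finset.card_univ]
    exact (Finset.card_le_card hsub).trans (Finset.card_le_three)
  omega

end Cfsg.Agent.Lib.Helper7.NilCov
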