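import Mathlib
import Cfsg.Prelude
import Cfsg.Agent.Lib.Helper4.NilpSub

set_option autoImplicit false

/-!
Groups with a nilpotent minimal cover: abelian Sylow subgroups.
-/

namespace Cfsg.Agent.Lib.Helper7.NilpCover

open Cfsg Pointwise

variable {G : Type*} [Group G]

/-- a cover by proper subgroups with the least possible number of members,
all of whose members are nilpotent -/
def IsMinNilpCover (𝓐 : Finset (Subgroup G)) : Prop :=
  ((∀ A ∈ 𝓐, A ≠ ⊤) ∧ (∀ g : G, ∃ A ∈ 𝓐, g ∈ A)) ∧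
    (∀ 𝓑 : Finset (Subgroup G), (∀ A ∈ 𝓑, A ≠ ⊤) ∧ (∀ g : G, ∃ A ∈ 𝓑, g ∈ A) →
      𝓐.card ≤ 𝓑.card) ∧ (∀ A ∈ 𝓐, Group.IsNilpotent ↥A)

/-- two distinct members of a minimal cover do not lie in a common proper subgroup -/
theorem merge {𝓐 : Finset (Subgroup G)} (h𝓐 : IsMinNilpCover 𝓐) {A B H : Subgroup G}
    (hA : A ∈ 𝓐) (hB : B ∈ 𝓐) (hAB : A ≠ B) (hH : H ≠ ⊤) (hAH : A ≤ H) (hBH : B ≤ H) :
    False := by
  classical
  obtain ⟨⟨hprop, hcov⟩, hmin, -⟩ := h𝓐
  let 𝓑 : Finset (Subgroup G) := insert H ((𝓐.erase A).erase B)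
  have hB' : B ∈ 𝓐.erase A := Finset.mem_erase.mpr ⟨hAB.symm, hB⟩
  have hcard : 𝓑.card < 𝓐.card := by
    have h1 : 𝓑.card ≤ ((𝓐.erase A).erase B).card + 1 := Finset.card_insert_le _ _
    have h2 : ((𝓐.erase A).erase B).card = (𝓐.erase A).card - 1 := Finset.card_erase_of_mem hB'
    have h3 : (𝓐.erase A).card = 𝓐.card - 1 := Finset.card_erase_of_mem hA
    have h4 : 0 < (𝓐.erase A).card := Finset.card_pos.mpr ⟨B, hB'⟩
    have h5 : 0 < 𝓐.card := Finset.card_pos.mpr ⟨A, hA⟩
    omega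
  have hle := hmin 𝓑 ⟨?_, ?_⟩
  · omega
  · intro X hX
    rcases Finset.mem_insert.mp hX with rfl | hX
    · exact hH
    · exact hprop X (Finset.mem_of_mem_erase (Finset.mem_of_mem_erase hX))
  · intro g
    obtain ⟨X, hX, hgX⟩ := hcov g
    by_cases hXA : X = A
    · exact ⟨H, Finset.mem_insert_self _ _, hAH (hXA ▸ hgX)⟩
    by_cases hXB : X = B
    · exact ⟨H, Finset.mem_insert_self _ _, hBH (hXB ▸ hgX)⟩
    exact ⟨X, Finset.mem_insert_of_mem
      (Finset.mem_erase.mpr ⟨hXB, Finset.mem_erase.mpr ⟨hXA, hX⟩⟩), hgX⟩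

theorem exists_mem_ne_one {H : Subgroup G} (h : H ≠ ⊥) : ∃ x ∈ H, x ≠ 1 := by
  obtain ⟨x, hx⟩ := (Subgroup.ne_bot_iff_exists_ne_one).mp h
  exact ⟨(x : G), x.2, fun h => hx (Subtype.ext h)⟩

variable [Finite G] {p : ℕ} [hp : Fact p.Prime]

/-- two `p`-elements of a nilpotent subgroup commute when the Sylow subgroups are abelian -/
theorem commute_pElements (hab : ∀ Q : Sylow p G, IsMulCommutative ↥(Q : Subgroup G))
    {A : Subgroup G} (hnil : Group.IsNilpotent ↥A) {y z : G} (hy : y ∈ A) (hz : z ∈ A)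
    (hyp : IsPGroup p (Subgroup.zpowers y)) (hzp : IsPGroup p (Subgroup.zpowers z)) :
    y * z = z * y := by
  obtain ⟨R, hzR, hR⟩ := Cfsg.Agent.Lib.Helper4.exists_sylIn_ge (Subgroup.zpowers_le.mpr hz) hzp
  have hn := Cfsg.Agent.Lib.Helper4.sylIn_normal_of_isNilpotent hnil hR
  have hyR : Subgroup.zpowers y ≤ R :=
    Cfsg.Agent.Lib.Helper4.SylIn.le_of_normal hR hn (Subgroup.zpowers_le.mpr hy) hyp
  obtain ⟨Q, hQ⟩ := hR.2.1.exists_le_sylow
  haveI := hab Q
  exact setLike_mul_comm (s := (Q : Subgroup G))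
    (hQ (hyR (Subgroup.mem_zpowers y))) (hQ (hzR (Subgroup.mem_zpowers z)))

/-- a `p`-element of a nilpotent subgroup is central in it when the Sylow subgroups are abelian -/
theorem le_centralizer_of_pElement (hab : ∀ Q : Sylow p G, IsMulCommutative ↥(Q : Subgroup G))
    {A : Subgroup G} (hnil : Group.IsNilpotent ↥A) {z : G} (hz : z ∈ A)
    (hzp : IsPGroup p (Subgroup.zpowers z)) : A ≤ Subgroup.centralizer ({z} : Set G) := by
  have h := Cfsg.Agent.Lib.Helper4.central_of_commute_pElements hnil hz hzp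
    (fun y hy hyp => commute_pElements hab hnil hy hz hyp hzp)
  intro a ha
  rw [Subgroup.mem_centralizer_iff]
  intro w hw
  rw [Set.mem_singleton_iff] at hw
  rw [hw]
  exact (h a ha).symm

/-- a nontrivial `p`-element lies in a unique member of the cover -/
theorem unique_member (hZ : Subgroup.center G = ⊥) {𝓐 : Finset (Subgroup G)}
    (h𝓐 : IsMinNilpCover 𝓐)
    (hab : ∀ Q : Sylow p G, IsMulCommutative ↥(Q : Subgroup G)) {z : G} (hz1 : z ≠ 1)
    (hzp : IsPGroup p (Subgroup.zpowers z)) {A B : Subgroup G} (hA : A ∈ 𝓐) (hB : B ∈ 𝓐)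
    (hzA : z ∈ A) (hzB : z ∈ B) : A = B := by
  by_contra hAB
  refine merge h𝓐 hA hB hAB (H := Subgroup.centralizer ({z} : Set G)) ?_
    (le_centralizer_of_pElement hab (h𝓐.2.2 A hA) hzA hzp)
    (le_centralizer_of_pElement hab (h𝓐.2.2 B hB) hzB hzp)
  intro htop
  apply hz1
  have : z ∈ Subgroup.center G := by
    rw [Subgroup.mem_center_iff]
    intro g
    have hg : g ∈ Subgroup.centralizer ({z} : Set G) := by rw [htop]; exact Subgroup.mem_top g
    exact (Subgroup.mem_centralizer_iff.mp hg z (Set.mem_singleton z)).symm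
  rw [hZ, Subgroup.mem_bot] at this
  exact this

theorem isPGroup_zpowers_of_mem_sylow (P : Sylow p G) {z : G} (hz : z ∈ (P : Subgroup G)) :
    IsPGroup p (Subgroup.zpowers z) :=
  P.isPGroup'.to_le (Subgroup.zpowers_le.mpr hz)

/-- a `p`-element normalizing a Sylow `p`-subgroup lies in it -/
theorem mem_sylow_of_normalizes (P : Sylow p G) {z : G} (hzp : IsPGroup p (Subgroup.zpowers z))
    (hzn : z ∈ Subgroup.normalizer ((P : Subgroup G) : Set G)) : z ∈ (P : Subgroup G) := by
  have h1 : IsPGroup p (Subgroup.zpowers z ⊔ (P : Subgroup G) : Subgroup G) :=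
    IsPGroup.to_sup_of_normal_right' hzp P.isPGroup' (Subgroup.zpowers_le.mpr hzn)
  have h2 := P.is_maximal' h1 le_sup_right
  have : Subgroup.zpowers z ≤ (P : Subgroup G) := by
    rw [← h2]; exact le_sup_left
  exact this (Subgroup.mem_zpowers z)

/-- a non-trivial Sylow subgroup that is abelian and is not elementary abelian of order `> p`
lies in a member of the cover -/
theorem sylow_le_member (hZ : Subgroup.center G = ⊥) {𝓐 : Finset (Subgroup G)}
    (h𝓐 : IsMinNilpCover 𝓐)
    (hab : ∀ Q : Sylow p G, IsMulCommutative ↥(Q : Subgroup G)) (P : Sylow p G)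
    (hP1 : (P : Subgroup G) ≠ ⊥)
    (hnot : ¬ (Cfsg.IsElementaryAbelian p (P : Subgroup G) ∧ p < Nat.card ↥(P : Subgroup G))) :
    ∃ A ∈ 𝓐, (P : Subgroup G) ≤ A := by
  haveI := hab P
  have hcomm : ∀ a b : G, a ∈ (P : Subgroup G) → b ∈ (P : Subgroup G) → a * b = b * a :=
    fun a b ha hb => setLike_mul_comm (s := (P : Subgroup G)) ha hb
  by_cases hexp : ∀ x ∈ (P : Subgroup G), x ^ p = 1
  · -- `P` has order `p`
    have hle : Nat.card ↥(P : Subgroup G) ≤ p := by
      by_contra hlt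
      exact hnot ⟨⟨hab P, hexp⟩, not_le.mp hlt⟩
    obtain ⟨x, hxP, hx1⟩ := exists_mem_ne_one hP1
    have hord : orderOf x = p := orderOf_eq_prime (hexp x hxP) hx1
    have hzP : Subgroup.zpowers x = (P : Subgroup G) := by
      apply Subgroup.eq_of_le_of_card_ge (Subgroup.zpowers_le.mpr hxP)
      rw [Nat.card_zpowers, hord]
      exact hle
    obtain ⟨A, hA, hxA⟩ := h𝓐.1.2 x
    exact ⟨A, hA, hzP ▸ Subgroup.zpowers_le.mpr hxA⟩
  · push Not at hexp
    obtain ⟨x, hxP, hxp⟩ := hexp
    -- elements of order dividing `p` lie in every member containing an element of larger order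
    have key : ∀ x' ∈ (P : Subgroup G), x' ^ p ≠ 1 → ∀ A' ∈ 𝓐, x' ∈ A' →
        ∀ w ∈ (P : Subgroup G), w ^ p = 1 → w ∈ A' := by
      intro x' hx'P hx'p A' hA' hx'A' w hwP hwp
      obtain ⟨B, hB, hxwB⟩ := h𝓐.1.2 (x' * w)
      have hpow : (x' * w) ^ p = x' ^ p := by
        rw [(show Commute x' w from hcomm x' w hx'P hwP).mul_pow, hwp, mul_one]
      have h1 : x' ^ p ∈ B := hpow ▸ B.pow_mem hxwB p
      have h2 : x' ^ p ∈ A' := A'.pow_mem hx'A' p
      have hBA : B = A' := unique_member hZ h𝓐 hab hx'p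
        (isPGroup_zpowers_of_mem_sylow P ((P : Subgroup G).pow_mem hx'P p)) hB hA' h1 h2
      have h3 : x' * w ∈ A' := hBA ▸ hxwB
      have : w = x'⁻¹ * (x' * w) := by group
      rw [this]
      exact A'.mul_mem (A'.inv_mem hx'A') h3
    -- an element of order `p` in `P`
    obtain ⟨w, hwP, hw1, hwp⟩ : ∃ w ∈ (P : Subgroup G), w ≠ 1 ∧ w ^ p = 1 := by
      have hdvd : p ∣ Nat.card ↥(P : Subgroup G) := by
        obtain ⟨k, hk⟩ := IsPGroup.iff_card.mp P.isPGroup'
        have hk0 : k ≠ 0 := by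
          rintro rfl
          rw [pow_zero] at hk
          exact hP1 ((Subgroup.card_eq_one).mp hk)
        rw [hk]
        exact dvd_pow_self p hk0
      obtain ⟨w, hw⟩ := exists_prime_orderOf_dvd_card' p hdvd
      refine ⟨(w : G), w.2, ?_, ?_⟩
      · intro h
        have : w = 1 := Subtype.ext h
        rw [this, orderOf_one] at hw
        exact hp.out.one_lt.ne hw
      · have := pow_orderOf_eq_one w
        rw [hw] at this
        have := congrArg Subtype.val this
        simpa using this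
    obtain ⟨A, hA, hxA⟩ := h𝓐.1.2 x
    refine ⟨A, hA, ?_⟩
    intro y hyP
    by_cases hyp : y ^ p = 1
    · exact key x hxP hxp A hA hxA y hyP hyp
    · obtain ⟨B, hB, hyB⟩ := h𝓐.1.2 y
      have h1 : w ∈ B := key y hyP hyp B hB hyB w hwP hwp
      have h2 : w ∈ A := key x hxP hxp A hA hxA w hwP hwp
      have hBA : B = A := unique_member hZ h𝓐 hab hw1
        (isPGroup_zpowers_of_mem_sylow P hwP) hB hA h1 h2
      exact hBA ▸ hyB

/-- a member of the cover containing a non-trivial abelian Sylow subgroup is its centralizer -/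
theorem centralizer_eq_member (hZ : Subgroup.center G = ⊥) {𝓐 : Finset (Subgroup G)}
    (h𝓐 : IsMinNilpCover 𝓐)
    (hab : ∀ Q : Sylow p G, IsMulCommutative ↥(Q : Subgroup G)) (P : Sylow p G)
    (hP1 : (P : Subgroup G) ≠ ⊥) {A : Subgroup G} (hA : A ∈ 𝓐) (hPA : (P : Subgroup G) ≤ A) :
    Subgroup.centralizer ((P : Subgroup G) : Set G) = A := by
  haveI := hab P
  obtain ⟨x, hxP, hx1⟩ := exists_mem_ne_one hP1
  have hPc : (P : Subgroup G) ≤ Subgroup.centralizer ((P : Subgroup G) : Set G) := by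
    intro a ha
    rw [Subgroup.mem_centralizer_iff]
    intro b hb
    exact setLike_mul_comm (s := (P : Subgroup G)) hb ha
  -- elements of the centralizer of order divisible by `p`
  have key : ∀ c ∈ Subgroup.centralizer ((P : Subgroup G) : Set G), p ∣ orderOf c → c ∈ A := by
    intro c hc hpc
    obtain ⟨B, hB, hcB⟩ := h𝓐.1.2 c
    set z := c ^ (orderOf c / p) with hzdef
    have hzord : orderOf z = p := orderOf_pow_orderOf_div (orderOf_pos c).ne' hpc
    have hz1 : z ≠ 1 := by
      intro h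
      rw [h, orderOf_one] at hzord
      exact hp.out.one_lt.ne hzord
    have hzp : IsPGroup p (Subgroup.zpowers z) := by
      rw [IsPGroup.iff_card]
      exact ⟨1, by rw [Nat.card_zpowers, hzord, pow_one]⟩
    have hzc : z ∈ Subgroup.centralizer ((P : Subgroup G) : Set G) := Subgroup.pow_mem _ hc _
    have hzP : z ∈ (P : Subgroup G) :=
      mem_sylow_of_normalizes P hzp (Subgroup.centralizer_le_normalizer _ hzc)
    have hBA : B = A := unique_member hZ h𝓐 hab hz1 hzp hB hA (B.pow_mem hcB _) (hPA hzP)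
    exact hBA ▸ hcB
  apply le_antisymm
  · intro c hc
    by_cases hpc : p ∣ orderOf c
    · exact key c hc hpc
    · -- multiply by a non-trivial element of `P`
      have hcomm : Commute x c :=
        (Subgroup.mem_centralizer_iff.mp hc x hxP)
      have hxord : ∃ k, orderOf x = p ^ k := by
        have := IsPGroup.iff_card.mp (isPGroup_zpowers_of_mem_sylow P hxP)
        rwa [Nat.card_zpowers] at this
      obtain ⟨k, hk⟩ := hxord
      have hk0 : k ≠ 0 := by
        rintro rfl
        rw [pow_zero, orderOf_eq_one_iff] at hk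
        exact hx1 hk
      have hcop : (orderOf x).Coprime (orderOf c) := by
        rw [hk]
        exact Nat.Coprime.pow_left k ((Nat.Prime.coprime_iff_not_dvd hp.out).mpr hpc)
      have hord : orderOf (x * c) = orderOf x * orderOf c :=
        hcomm.orderOf_mul_eq_mul_orderOf_of_coprime hcop
      have hdvd : p ∣ orderOf (x * c) := by
        rw [hord, hk]
        exact Dvd.dvd.mul_right (dvd_pow_self p hk0) _
      have h1 : x * c ∈ A := key (x * c) (Subgroup.mul_mem _ (hPc hxP) hc) hdvd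
      have : c = x⁻¹ * (x * c) := by group
      rw [this]
      exact A.mul_mem (A.inv_mem (hPA hxP)) h1
  · intro a ha
    rw [Subgroup.mem_centralizer_iff]
    intro z hz
    have h1 := le_centralizer_of_pElement hab (h𝓐.2.2 A hA) (hPA hz)
      (isPGroup_zpowers_of_mem_sylow P hz) ha
    exact Subgroup.mem_centralizer_iff.mp h1 z (Set.mem_singleton z)

/-- membership in a conjugate Sylow subgroup -/
theorem mem_smul_sylow_iff (P : Sylow p G) (g x : G) :
    x ∈ ((g • P : Sylow p G) : Subgroup G) ↔ g⁻¹ * x * g ∈ (P : Subgroup G) := by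
  rw [Sylow.coe_subgroup_smul, Subgroup.mem_pointwise_smul_iff_inv_smul_mem]
  simp [MulAut.smul_def]

/-- the hypotheses pass to every Sylow `p`-subgroup -/
theorem transport (P : Sylow p G) (hab : IsMulCommutative ↥(P : Subgroup G))
    (hP1 : (P : Subgroup G) ≠ ⊥)
    (hnot : ¬ (Cfsg.IsElementaryAbelian p (P : Subgroup G) ∧ p < Nat.card ↥(P : Subgroup G)))
    (Q : Sylow p G) :
    IsMulCommutative ↥(Q : Subgroup G) ∧ (Q : Subgroup G) ≠ ⊥ ∧
      ¬ (Cfsg.IsElementaryAbelian p (Q : Subgroup G) ∧ p < Nat.card ↥(Q : Subgroup G)) := by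
  obtain ⟨g, rfl⟩ := MulAction.exists_smul_eq G P Q
  have hcard : Nat.card ↥((g • P : Sylow p G) : Subgroup G) = Nat.card ↥(P : Subgroup G) := by
    rw [Sylow.card_eq_multiplicity, Sylow.card_eq_multiplicity]
  have hcomm : IsMulCommutative ↥((g • P : Sylow p G) : Subgroup G) := by
    refine ⟨⟨fun a b => ?_⟩⟩
    have ha := (mem_smul_sylow_iff P g a).mp a.2
    have hb := (mem_smul_sylow_iff P g b).mp b.2
    have h := setLike_mul_comm (s := (P : Subgroup G)) ha hb
    apply Subtype.ext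
    have h2 : g⁻¹ * ((a : G) * b) * g = g⁻¹ * ((b : G) * a) * g := by
      have e1 : g⁻¹ * ((a : G) * b) * g = (g⁻¹ * a * g) * (g⁻¹ * b * g) := by group
      have e2 : g⁻¹ * ((b : G) * a) * g = (g⁻¹ * b * g) * (g⁻¹ * a * g) := by group
      rw [e1, e2, h]
    have h3 := mul_left_cancel (mul_right_cancel h2)
    simpa using h3
  refine ⟨hcomm, ?_, ?_⟩
  · intro h
    apply hP1
    rw [← Subgroup.card_eq_one] at h ⊢
    rw [← hcard, h]
  · rintro ⟨⟨-, hexp⟩, hlt⟩
    apply hnot
    refine ⟨⟨hab, ?_⟩, hcard ▸ hlt⟩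
    intro a ha
    have h1 : g * a * g⁻¹ ∈ ((g • P : Sylow p G) : Subgroup G) := by
      rw [mem_smul_sylow_iff]
      have : g⁻¹ * (g * a * g⁻¹) * g = a := by group
      rw [this]; exact ha
    have h2 := hexp _ h1
    rw [conj_pow] at h2
    have h3 : a ^ p = g⁻¹ * (g * a ^ p * g⁻¹) * g := by group
    rw [h3, h2]; group

/-- Sylow subgroups with the same centralizer coincide -/
theorem sylow_eq_of_centralizer_eq (hab : ∀ Q : Sylow p G, IsMulCommutative ↥(Q : Subgroup G))
    (Q Q' : Sylow p G)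
    (h : Subgroup.centralizer ((Q : Subgroup G) : Set G) =
      Subgroup.centralizer ((Q' : Subgroup G) : Set G)) : Q = Q' := by
  haveI := hab Q'
  have hle : (Q' : Subgroup G) ≤ (Q : Subgroup G) := by
    intro z hz
    have hzc : z ∈ Subgroup.centralizer ((Q' : Subgroup G) : Set G) := by
      rw [Subgroup.mem_centralizer_iff]
      intro b hb
      exact setLike_mul_comm (s := (Q' : Subgroup G)) hb hz
    rw [← h] at hzc
    exact mem_sylow_of_normalizes Q (isPGroup_zpowers_of_mem_sylow Q' hz)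
      (Subgroup.centralizer_le_normalizer _ hzc)
  exact Sylow.ext (Q'.is_maximal' Q.isPGroup' hle)

/-- the main structure theorem -/
theorem main (hZ : Subgroup.center G = ⊥) {𝓐 : Finset (Subgroup G)}
    (h𝓐 : IsMinNilpCover 𝓐) (P : Sylow p G) (hab : IsMulCommutative ↥(P : Subgroup G))
    (hnn : ¬ (P : Subgroup G).Normal)
    (hnot : ¬ (Cfsg.IsElementaryAbelian p (P : Subgroup G) ∧ p < Nat.card ↥(P : Subgroup G))) :
    Subgroup.centralizer ((P : Subgroup G) : Set G) ∈ 𝓐 ∧
    (∀ H : Subgroup G, H ≠ ⊤ → Subgroup.centralizer ((P : Subgroup G) : Set G) ≤ H →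
      H ≤ Subgroup.normalizer ((P : Subgroup G) : Set G)) ∧
    (∀ g : G, g ∉ Subgroup.normalizer ((P : Subgroup G) : Set G) →
        ¬ p ∣ Nat.card ↥(Subgroup.normalizer ((P : Subgroup G) : Set G) ⊓
          (Subgroup.normalizer ((P : Subgroup G) : Set G)).map (MulAut.conj g).toMonoidHom)) := by
  have hP1 : (P : Subgroup G) ≠ ⊥ := by
    intro h
    apply hnn
    rw [h]
    infer_instance
  have htr := transport P hab hP1 hnot
  have habQ : ∀ Q : Sylow p G, IsMulCommutative ↥(Q : Subgroup G) := fun Q => (htr Q).1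
  have hcent : ∀ Q : Sylow p G, Subgroup.centralizer ((Q : Subgroup G) : Set G) ∈ 𝓐 := by
    intro Q
    obtain ⟨A, hA, hQA⟩ := sylow_le_member hZ h𝓐 habQ Q (htr Q).2.1 (htr Q).2.2
    rw [centralizer_eq_member hZ h𝓐 habQ Q (htr Q).2.1 hA hQA]
    exact hA
  have hPc : ∀ Q : Sylow p G,
      (Q : Subgroup G) ≤ Subgroup.centralizer ((Q : Subgroup G) : Set G) := by
    intro Q a ha
    haveI := habQ Q
    rw [Subgroup.mem_centralizer_iff]
    intro b hb
    exact setLike_mul_comm (s := (Q : Subgroup G)) hb ha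
  refine ⟨hcent P, ?_, ?_⟩
  · intro H hH hCH h hh
    refine (Sylow.smul_eq_iff_mem_normalizer (g := h) (P := P)).mp ?_
    apply sylow_eq_of_centralizer_eq habQ
    by_contra hne
    refine merge h𝓐 (hcent (h • P)) (hcent P) hne hH ?_ hCH
    intro c hc
    have h1 : h⁻¹ * c * h ∈ Subgroup.centralizer ((P : Subgroup G) : Set G) := by
      rw [Subgroup.mem_centralizer_iff]
      intro y hy
      have hy' : h * y * h⁻¹ ∈ ((h • P : Sylow p G) : Subgroup G) := by
        rw [mem_smul_sylow_iff]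
        have : h⁻¹ * (h * y * h⁻¹) * h = y := by group
        rw [this]; exact hy
      have h2 := Subgroup.mem_centralizer_iff.mp hc _ hy'
      have e1 : y * (h⁻¹ * c * h) = h⁻¹ * (h * y * h⁻¹ * c) * h := by group
      have e2 : h⁻¹ * c * h * y = h⁻¹ * (c * (h * y * h⁻¹)) * h := by group
      rw [e1, e2, h2]
    have h3 : c = h * (h⁻¹ * c * h) * h⁻¹ := by group
    rw [h3]
    exact H.mul_mem (H.mul_mem hh (hCH h1)) (H.inv_mem hh)
  · intro g hg hdvd
    apply hg
    obtain ⟨z, hz⟩ := exists_prime_orderOf_dvd_card' p hdvd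
    have hz1 : (z : G) ≠ 1 := by
      intro h
      have : z = 1 := Subtype.ext h
      rw [this, orderOf_one] at hz
      exact hp.out.one_lt.ne hz
    have hzord : orderOf (z : G) = p := by rw [Subgroup.orderOf_coe]; exact hz
    have hzp : IsPGroup p (Subgroup.zpowers (z : G)) := by
      rw [IsPGroup.iff_card]
      exact ⟨1, by rw [Nat.card_zpowers, hzord, pow_one]⟩
    obtain ⟨hzN, hzNg⟩ := Subgroup.mem_inf.mp z.2
    have hzP : (z : G) ∈ (P : Subgroup G) := mem_sylow_of_normalizes P hzp hzN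
    obtain ⟨n, hnN, hnz⟩ := Subgroup.mem_map.mp hzNg
    have hnz' : g * n * g⁻¹ = (z : G) := by simpa using hnz
    have hn_eq : n = g⁻¹ * (z : G) * g := by rw [← hnz']; group
    have hnp : IsPGroup p (Subgroup.zpowers n) := by
      rw [IsPGroup.iff_card]
      refine ⟨1, ?_⟩
      rw [Nat.card_zpowers, pow_one, ← hzord]
      have hsc : SemiconjBy g n (z : G) := by
        rw [SemiconjBy, ← hnz']; group
      exact hsc.orderOf_eq
    have hnP : n ∈ (P : Subgroup G) := mem_sylow_of_normalizes P hnp hnN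
    have hzQ : (z : G) ∈ ((g • P : Sylow p G) : Subgroup G) := by
      rw [mem_smul_sylow_iff, ← hn_eq]; exact hnP
    refine (Sylow.smul_eq_iff_mem_normalizer (g := g) (P := P)).mp ?_
    apply sylow_eq_of_centralizer_eq habQ
    exact unique_member hZ h𝓐 habQ hz1 hzp (hcent (g • P)) (hcent P) (hPc _ hzQ) (hPc _ hzP)

end Cfsg.Agent.Lib.Helper7.NilpCover
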