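import Mathlib
import Cfsg.Prelude.Def_Local
import Cfsg.Agent.Lib.Helper7.NormB5
import Cfsg.Agent.Lib.Helper7.FrattRed
import Cfsg.Agent.Lib.Lead.PStabQuot2
import Cfsg.Agent.Lib.Helper2.PSeries

set_option autoImplicit false

/-! `p`-length at most the exponent of the Sylow `p`-subgroups when the other Sylow subgroups are
abelian. -/

namespace Cfsg.Agent.Lib.Helper7.NormB

open Cfsg

universe u

variable {G : Type u} [Group G] [Finite G] {p : ℕ} [hp : Fact p.Prime]

/-- the key claim when `O_{p'}(G) = 1` -/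
theorem pow_mem_pCore_of_bot {n : ℕ} (h : AbHyp p (n + 1) G) (hO : pPrimeCore p G = ⊥)
    (P : Sylow p G) (x : G) (hx : x ∈ (P : Subgroup G)) : x ^ p ^ n ∈ pCore p G := by
  apply FrattRed.mem_pCore_of_mk_mem p
  rw [map_pow]
  have hs := QuotientGroup.mk'_surjective (FrattRed.phi p G)
  have hq := h.quotient (FrattRed.phi p G)
  have hmem : (QuotientGroup.mk' (FrattRed.phi p G)) x ∈
      ((P.mapSurjective hs : Sylow p (G ⧸ FrattRed.phi p G)) : Subgroup (G ⧸ FrattRed.phi p G)) := by
    rw [Sylow.coe_mapSurjective]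
    exact Subgroup.mem_map_of_mem _ hx
  exact pow_mem_pCore_of_selfcentralizing hq FrattRed.quot_comm
    (FrattRed.quot_selfcentralizing h.psolv hO) (P.mapSurjective hs) _ hmem

/-- the key claim -/
theorem pow_mem_pPrimePCore {n : ℕ} (h : AbHyp p (n + 1) G)
    (P : Sylow p G) (x : G) (hx : x ∈ (P : Subgroup G)) : x ^ p ^ n ∈ pPrimePCore p G := by
  obtain ⟨N, hNdef⟩ : ∃ N : Subgroup G, N = pPrimeCore p G := ⟨_, rfl⟩
  haveI hNn : N.Normal := by
    rw [hNdef]; exact (Cfsg.Agent.Lib.Helper6.pPrimeCore_mem_set p).1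
  have hO : pPrimeCore p (G ⧸ N) = ⊥ := by
    subst hNdef
    exact Cfsg.Agent.Lib.Lead.PStabQuot.pPrimeCore_quotient_eq_bot p
  have hs := QuotientGroup.mk'_surjective N
  have hq := h.quotient N
  have hmem : (QuotientGroup.mk' N) x ∈
      ((P.mapSurjective hs : Sylow p (G ⧸ N)) : Subgroup (G ⧸ N)) := by
    rw [Sylow.coe_mapSurjective]
    exact Subgroup.mem_map_of_mem _ hx
  have h1 := pow_mem_pCore_of_bot hq hO (P.mapSurjective hs) _ hmem
  unfold pPrimePCore
  rw [Subgroup.mem_comap]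
  subst hNdef
  rw [map_pow]
  exact h1

/-- the main theorem -/
theorem pLengthLE_of_abHyp (p : ℕ) [hp : Fact p.Prime] (n : ℕ) :
    ∀ (G : Type u) [Group G] [Finite G], AbHyp p n G → PLengthLE p n G := by
  induction n with
  | zero =>
    intro G _ _ h
    apply Cfsg.Agent.Lib.Helper2.PSeries.pLengthLE_zero_of_coprime
    obtain ⟨P⟩ : Nonempty (Sylow p G) := inferInstance
    have hP : (P : Subgroup G) = ⊥ := by
      rw [eq_bot_iff]
      intro x hx
      have := h.exp P x hx
      rw [pow_zero, pow_one] at this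
      exact Subgroup.mem_bot.mpr this
    have hcard : Nat.card (P : Subgroup G) = 1 := by rw [hP]; exact Subgroup.card_bot
    rw [Nat.coprime_comm, Nat.Prime.coprime_iff_not_dvd hp.out]
    intro hdvd
    have h1 := P.card_eq_multiplicity
    rw [hcard] at h1
    have h2 : (Nat.card G).factorization p ≠ 0 := by
      rw [← Nat.pos_iff_ne_zero]
      exact Nat.Prime.factorization_pos_of_dvd hp.out Nat.card_pos.ne' hdvd
    have h3 : 1 < p ^ (Nat.card G).factorization p := Nat.one_lt_pow h2 hp.out.one_lt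
    omega
  | succ n ih =>
    intro G _ _ h
    apply Cfsg.Agent.Lib.Helper2.PSeries.pLengthLE_succ_of_quotient
    apply ih
    haveI : (pPrimePCore p G).Normal := by
      unfold pPrimePCore
      haveI : (pPrimeCore p G).Normal := (Cfsg.Agent.Lib.Helper6.pPrimeCore_mem_set p).1
      haveI : (pCore p (G ⧸ pPrimeCore p G)).Normal := Cfsg.Agent.Lib.Lead.pCore_normal p
      infer_instance
    have hs := QuotientGroup.mk'_surjective (pPrimePCore p G)
    have hq := h.quotient (pPrimePCore p G)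
    refine ⟨hq.psolv, hq.ab, ?_⟩
    intro P x hx
    obtain ⟨P₀, rfl⟩ := Sylow.mapSurjective_surjective hs p P
    have hcoe : ((P₀.mapSurjective hs : Sylow p (G ⧸ pPrimePCore p G)) :
        Subgroup (G ⧸ pPrimePCore p G)) = (P₀ : Subgroup G).map (QuotientGroup.mk' _) :=
      Sylow.coe_mapSurjective hs P₀
    rw [hcoe] at hx
    obtain ⟨x₀, hx₀, rfl⟩ := Subgroup.mem_map.mp hx
    rw [← map_pow]
    exact (QuotientGroup.eq_one_iff _).mpr (pow_mem_pPrimePCore h P₀ x₀ hx₀)

end Cfsg.Agent.Lib.Helper7.NormB
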