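import Mathlib
import Cfsg.Prelude
import Cfsg.Agent.Lib.Helper7.OSubDefs

set_option autoImplicit false
set_option linter.unusedSectionVars false

/-! S5683 / S5702: change of coordinates.  The form `Q' v = ζ * Q₁ (P v)` (rational when `P` is a rational
structure for `ζ Q₁`), its isometry group and `Ω` are the conjugates by `P⁻¹` of those of `Q₁`. -/

namespace Cfsg.Agent.Lib.Helper7.OSub

open Matrix Cfsg.Agent.Lib.Helper7.Subg

/-- maximality is transported by a group isomorphism -/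
theorem isMaximalIn_map {G G' : Type*} [Group G] [Group G'] (ψ : G ≃* G') {K H : Subgroup G}
    (h : Cfsg.Geo.IsMaximalIn K H) :
    Cfsg.Geo.IsMaximalIn (K.map ψ.toMonoidHom) (H.map ψ.toMonoidHom) := by
  obtain ⟨hlt, hmax⟩ := h
  have hinj : Function.Injective ψ.toMonoidHom := ψ.injective
  have hsurj : Function.Surjective ψ.toMonoidHom := ψ.surjective
  refine ⟨?_, ?_⟩
  · refine lt_of_le_of_ne (Subgroup.map_mono hlt.le) ?_
    intro heq
    exact ne_of_lt hlt (Subgroup.map_injective hinj heq)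
  · intro M' h1 h2
    have e : (M'.comap ψ.toMonoidHom).map ψ.toMonoidHom = M' :=
      Subgroup.map_comap_eq_self_of_surjective hsurj M'
    have h1' : H ≤ M'.comap ψ.toMonoidHom := by
      rw [← Subgroup.map_le_iff_le_comap]; exact h1
    have h2' : M'.comap ψ.toMonoidHom ≤ K := by
      intro x hx
      have : ψ.toMonoidHom x ∈ K.map ψ.toMonoidHom := h2 hx
      obtain ⟨y, hy, hyx⟩ := this
      rw [← hinj hyx]; exact hy
    rcases hmax _ h1' h2' with h | h
    · left; rw [← e, h]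
    · right; rw [← e, h]

variable {F : Type*} [Field F] {ι : Type} [Fintype ι] [DecidableEq ι]

theorem mem_iso_iff (Q : (ι → F) → F) (g : Matrix.GeneralLinearGroup ι F) :
    g ∈ Cfsg.isometryGroup F Q ↔ ∀ u : ι → F, Q ((g : Matrix ι ι F) *ᵥ u) = Q u := by
  constructor
  · intro h u
    exact h u u
  · intro h u _
    exact h u

/-- the twisted form `v ↦ ζ * Q₁ (P v)` -/
noncomputable def twist (Q₁ : QuadraticForm F (ι → F)) (P : Matrix ι ι F) (ζ : F) :
    QuadraticForm F (ι → F) :=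
  ζ • Q₁.comp (Matrix.toLin' P)

theorem twist_apply (Q₁ : QuadraticForm F (ι → F)) (P : Matrix ι ι F) (ζ : F) (v : ι → F) :
    twist Q₁ P ζ v = ζ * Q₁ (P *ᵥ v) := by
  unfold twist
  rw [QuadraticMap.smul_apply, QuadraticMap.comp_apply, Matrix.toLin'_apply, smul_eq_mul]

theorem twist_polar (Q₁ : QuadraticForm F (ι → F)) (P : Matrix ι ι F) (ζ : F) (x y : ι → F) :
    QuadraticMap.polar (⇑(twist Q₁ P ζ)) x y = ζ * QuadraticMap.polar (⇑Q₁) (P *ᵥ x) (P *ᵥ y) := by
  unfold QuadraticMap.polar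
  rw [twist_apply, twist_apply, twist_apply, Matrix.mulVec_add]
  ring

theorem gl_mulVec_inv (P : Matrix.GeneralLinearGroup ι F) (x : ι → F) :
    (P : Matrix ι ι F) *ᵥ (((P⁻¹ : Matrix.GeneralLinearGroup ι F) : Matrix ι ι F) *ᵥ x) = x := by
  rw [Matrix.mulVec_mulVec, ← Units.val_mul, mul_inv_cancel, Units.val_one, Matrix.one_mulVec]

theorem gl_inv_mulVec (P : Matrix.GeneralLinearGroup ι F) (x : ι → F) :
    ((P⁻¹ : Matrix.GeneralLinearGroup ι F) : Matrix ι ι F) *ᵥ ((P : Matrix ι ι F) *ᵥ x) = x := by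
  rw [Matrix.mulVec_mulVec, ← Units.val_mul, inv_mul_cancel, Units.val_one, Matrix.one_mulVec]

theorem twist_nondeg (Q₁ : QuadraticForm F (ι → F))
    (hQ₁ : (QuadraticMap.polarBilin Q₁).Nondegenerate) (P : Matrix.GeneralLinearGroup ι F) (ζ : F)
    (hζ : ζ ≠ 0) : (QuadraticMap.polarBilin (twist Q₁ (P : Matrix ι ι F) ζ)).Nondegenerate := by
  obtain ⟨hl, hr⟩ := hQ₁
  have hP0 : ∀ x : ι → F, (P : Matrix ι ι F) *ᵥ x = 0 → x = 0 := by
    intro x hx
    have := gl_inv_mulVec P x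
    rw [hx, Matrix.mulVec_zero] at this
    exact this.symm
  constructor
  · intro x hx
    apply hP0
    apply hl
    intro y
    have := hx (((P⁻¹ : Matrix.GeneralLinearGroup ι F) : Matrix ι ι F) *ᵥ y)
    have h2 : QuadraticMap.polar (⇑(twist Q₁ (P : Matrix ι ι F) ζ)) x
        (((P⁻¹ : Matrix.GeneralLinearGroup ι F) : Matrix ι ι F) *ᵥ y) = 0 := this
    rw [twist_polar, gl_mulVec_inv] at h2
    rcases mul_eq_zero.1 h2 with h | h
    · exact absurd h hζ
    · exact h
  · intro x hx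
    apply hP0
    apply hr
    intro y
    have := hx (((P⁻¹ : Matrix.GeneralLinearGroup ι F) : Matrix ι ι F) *ᵥ y)
    have h2 : QuadraticMap.polar (⇑(twist Q₁ (P : Matrix ι ι F) ζ))
        (((P⁻¹ : Matrix.GeneralLinearGroup ι F) : Matrix ι ι F) *ᵥ y) x = 0 := this
    rw [twist_polar, gl_mulVec_inv] at h2
    rcases mul_eq_zero.1 h2 with h | h
    · exact absurd h hζ
    · exact h

/-- the isometry group of the twisted form is the conjugate by `P⁻¹` -/
theorem iso_twist (Q₁ : QuadraticForm F (ι → F)) (P : Matrix.GeneralLinearGroup ι F) (ζ : F)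
    (hζ : ζ ≠ 0) :
    Cfsg.isometryGroup F ⇑(twist Q₁ (P : Matrix ι ι F) ζ) =
      (Cfsg.isometryGroup F ⇑Q₁).map (MulAut.conj P⁻¹).toMonoidHom := by
  ext g
  rw [Subgroup.mem_map, mem_iso_iff]
  constructor
  · intro h
    refine ⟨P * g * P⁻¹, ?_, ?_⟩
    · rw [mem_iso_iff]
      intro u
      have := h (((P⁻¹ : Matrix.GeneralLinearGroup ι F) : Matrix ι ι F) *ᵥ u)
      rw [twist_apply, twist_apply, gl_mulVec_inv] at this
      have h2 := mul_left_cancel₀ hζ this
      rw [Units.val_mul, Units.val_mul, ← Matrix.mulVec_mulVec, ← Matrix.mulVec_mulVec]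
      exact h2
    · simp only [MulEquiv.coe_toMonoidHom, MulAut.conj_apply, inv_inv]
      group
  · rintro ⟨y, hy, rfl⟩
    rw [mem_iso_iff] at hy
    intro u
    simp only [MulEquiv.coe_toMonoidHom, MulAut.conj_apply, inv_inv]
    rw [twist_apply, twist_apply, Units.val_mul, Units.val_mul, ← Matrix.mulVec_mulVec,
      ← Matrix.mulVec_mulVec, gl_mulVec_inv, hy]

/-- `Ω` in `GL` is the commutator subgroup of the isometry group -/
theorem omegaGL_eq (Q : (ι → F) → F) :
    Cfsg.Geo.omegaGL Q = ⁅Cfsg.isometryGroup F Q, Cfsg.isometryGroup F Q⁆ := by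
  unfold Cfsg.Geo.omegaGL
  exact Subgroup.map_subtype_commutator _

/-- `Ω` of the twisted form is the conjugate by `P⁻¹` -/
theorem omegaGL_twist (Q₁ : QuadraticForm F (ι → F)) (P : Matrix.GeneralLinearGroup ι F) (ζ : F)
    (hζ : ζ ≠ 0) :
    Cfsg.Geo.omegaGL ⇑(twist Q₁ (P : Matrix ι ι F) ζ) =
      (Cfsg.Geo.omegaGL ⇑Q₁).map (MulAut.conj P⁻¹).toMonoidHom := by
  rw [omegaGL_eq, omegaGL_eq, iso_twist Q₁ P ζ hζ, Subgroup.map_commutator]

/-- the twisted form is rational -/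
theorem ratQ_twist (Q₁ : QuadraticForm F (ι → F)) (F₀ : Subfield F)
    (P : Matrix.GeneralLinearGroup ι F) (ζ : F)
    (hP : Cfsg.Geo.IsQuadFormRationalStructure (fun v : ι → F => ζ * Q₁ v) F₀ P) :
    RatQ F₀ (twist Q₁ (P : Matrix ι ι F) ζ) := by
  intro v hv
  rw [twist_apply]
  exact hP v hv

end Cfsg.Agent.Lib.Helper7.OSub
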