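import Mathlib
import Cfsg.Prelude
import Cfsg.Agent.Lib.Helper7.OSubDefs
import Cfsg.Agent.Lib.Helper7.Subg_E
import Cfsg.Agent.Lib.Helper3.OSub_BCA
import Cfsg.Agent.Lib.Helper3.StrEmb
import Cfsg.Agent.Lib.Helper9.OrthDk2
import Cfsg.Agent.Lib.Helper5.QuadFin

set_option autoImplicit false
set_option linter.unusedSectionVars false
set_option linter.unusedVariables false

/-! S5683 / S5702 PK-EVEN: characteristic two.  `M ∩ N` is strongly embedded in `M` unless `M ≤ N`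
(an element of `M` conjugating a rational involution of `Ω` to a rational involution lies in `N`, by (NKO):
`Im (X - 1)` contains a rational singular vector, `Fix Y` contains a rational totally singular line), and then
the long root involution `E(u,w)` and the involution `E(u,y)`, `Q y ≠ 0`, of `M ∩ N` would be conjugate. -/

namespace Cfsg.Agent.Lib.Helper7.OSub

open Matrix Module Cfsg.Agent.Lib.Helper7.Subg Cfsg.Agent.Lib.Helper2.LongRoot
  Cfsg.Agent.Lib.Helper2.OmMin Cfsg.Agent.Lib.Helper2.CDG Cfsg.Agent.Lib.Helper3.OrthRat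

namespace PkEVEN

section basics
variable {F : Type*} [Field F] {ι : Type} [Fintype ι] [DecidableEq ι]
variable {Q : QuadraticForm F (ι → F)}

theorem mat_injective : Function.Injective (mat (Q := Q)) := fun _ _ h =>
  Subtype.ext (Units.ext h)

theorem mat_mul_self_of_orderOf {x : ↥(Cfsg.isometryGroup F ⇑Q)} (hx : orderOf x = 2) :
    mat x * mat x = 1 := by
  rw [← mat_mul, Cfsg.Agent.Lib.Helper3.StrEmb.invol_mul_self hx, mat_one]

theorem mat_ne_one_of_orderOf {x : ↥(Cfsg.isometryGroup F ⇑Q)} (hx : orderOf x = 2) :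
    mat x ≠ 1 := by
  intro h
  have : x = 1 := mat_injective (by rw [h, mat_one])
  rw [this, orderOf_one] at hx
  omega

theorem orderOf_eq_two_of_mat {x : ↥(Cfsg.isometryGroup F ⇑Q)} (h1 : mat x * mat x = 1)
    (h2 : mat x ≠ 1) : orderOf x = 2 := by
  have hx2 : x ^ 2 = 1 := by
    apply mat_injective
    rw [pow_two, mat_mul, h1, mat_one]
  have hx1 : x ≠ 1 := fun h => h2 (by rw [h, mat_one])
  exact orderOf_eq_prime hx2 hx1

/-- characteristic two: `(X - 1)² = 0` for an involution -/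
theorem nil_sq (h2 : (2 : F) = 0) {X : Matrix ι ι F} (hXX : X * X = 1) :
    (X - 1) * (X - 1) = 0 := by
  have e : (X - 1) * (X - 1) = X * X - X - X + 1 := by
    rw [sub_mul, mul_sub, mul_one, one_mul]
    abel
  rw [e, hXX]
  have e2 : (1 : Matrix ι ι F) - X - X + 1 = (2 : F) • (1 - X) := by
    rw [two_smul]
    abel
  rw [e2, h2, zero_smul]

/-- `Im (X - 1)` is orthogonal to the fixed vectors of the isometry `X` -/
theorem polar_nil_fix (x : ↥(Cfsg.isometryGroup F ⇑Q)) (a v : ι → F) (hv : mat x *ᵥ v = v) :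
    QuadraticMap.polar (⇑Q) ((mat x - 1) *ᵥ a) v = 0 := by
  rw [Matrix.sub_mulVec, Matrix.one_mulVec, QuadraticMap.polar_sub_left]
  nth_rewrite 1 [← hv]
  rw [iso_polar, sub_self]

/-- `Im (X - 1)` consists of fixed vectors -/
theorem fix_nil (h2 : (2 : F) = 0) {X : Matrix ι ι F} (hXX : X * X = 1) (a : ι → F) :
    X *ᵥ ((X - 1) *ᵥ a) = (X - 1) *ᵥ a := by
  have h := congrArg (fun A => A *ᵥ a) (nil_sq h2 hXX)
  simp only [Matrix.zero_mulVec] at h
  rw [← Matrix.mulVec_mulVec, Matrix.sub_mulVec, Matrix.one_mulVec, sub_eq_zero] at h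
  exact h

/-- characteristic two: `Q` is additive on orthogonal vectors, semilinear -/
theorem Q_comb (a b : ι → F) (hab : QuadraticMap.polar (⇑Q) a b = 0) (s : F) :
    Q (s • a + b) = s * s * Q a + Q b := by
  have e : Q (s • a + b) = Q (s • a) + Q b + QuadraticMap.polar (⇑Q) (s • a) b := by
    unfold QuadraticMap.polar; ring
  rw [e, QuadraticMap.polar_smul_left, hab, smul_zero, add_zero, QuadraticMap.map_smul, smul_eq_mul]

end basics

section rank
variable {F : Type*} [Field F] [Fintype F] {ι : Type} [Fintype ι] [DecidableEq ι]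
variable {Q : QuadraticForm F (ι → F)}

theorem mulVec_eq_sum_cols (N : Matrix ι ι F) (z : ι → F) :
    N *ᵥ z = ∑ j, z j • (N *ᵥ (Pi.single j (1 : F) : ι → F)) := by
  conv_lhs => rw [eq_sum_single z]
  rw [Matrix.mulVec_sum]
  refine Finset.sum_congr rfl fun j _ => ?_
  rw [Matrix.mulVec_smul]

/-- a non-trivial element of `Ω` has `X - 1` of rank at least two: two independent columns -/
theorem exists_two_cols (hQ : (QuadraticMap.polarBilin Q).Nondegenerate)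
    (hn5 : 5 ≤ Fintype.card ι) (x : ↥(Cfsg.isometryGroup F ⇑Q)) (hxΩ : x ∈ Cfsg.Omega F ⇑Q)
    (hx1 : mat x ≠ 1) :
    ∃ j₀ j₁ : ι, ∀ s t : F, s • ((mat x - 1) *ᵥ (Pi.single j₀ (1 : F) : ι → F)) +
      t • ((mat x - 1) *ᵥ (Pi.single j₁ (1 : F) : ι → F)) = 0 → s = 0 ∧ t = 0 := by
  classical
  set N : Matrix ι ι F := mat x - 1 with hN
  have hN0 : N ≠ 0 := sub_ne_zero.mpr hx1
  obtain ⟨i, j, hij⟩ : ∃ i j, N i j ≠ 0 := by
    by_contra hcon
    simp only [not_exists, not_not] at hcon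
    exact hN0 (by ext i j; exact hcon i j)
  set a : ι → F := N *ᵥ (Pi.single j (1 : F) : ι → F) with ha
  have ha0 : a ≠ 0 := by
    intro h
    apply hij
    have := congrFun h i
    rw [ha, Matrix.mulVec_single_one] at this
    exact this
  by_contra hcon
  push Not at hcon
  -- every column is a multiple of `a`
  have hcol : ∀ j₁ : ι, N *ᵥ (Pi.single j₁ (1 : F) : ι → F) ∈ Submodule.span F {a} := by
    intro j₁
    obtain ⟨s, t, hst, hne⟩ := hcon j j₁
    have ht : t ≠ 0 := by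
      intro ht
      rw [ht, zero_smul, add_zero] at hst
      rcases smul_eq_zero.1 hst with h | h
      · exact hne h ht
      · exact ha0 h
    rw [Submodule.mem_span_singleton]
    refine ⟨-(t⁻¹ * s), ?_⟩
    have h3 : t • (N *ᵥ (Pi.single j₁ (1 : F) : ι → F)) = -(s • a) := by
      rw [eq_neg_iff_add_eq_zero, add_comm]; exact hst
    have h4 : N *ᵥ (Pi.single j₁ (1 : F) : ι → F) = t⁻¹ • (t • (N *ᵥ (Pi.single j₁ (1 : F) : ι → F))) := by
      rw [smul_smul, inv_mul_cancel₀ ht, one_smul]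
    rw [h4, h3, smul_neg, smul_smul, neg_smul]
  have hrange : LinearMap.range N.mulVecLin ≤ Submodule.span F {a} := by
    rintro _ ⟨z, rfl⟩
    rw [Matrix.mulVecLin_apply, mulVec_eq_sum_cols]
    exact Submodule.sum_mem _ fun j₁ _ => Submodule.smul_mem _ _ (hcol j₁)
  have hr1 : finrank F (LinearMap.range N.mulVecLin) ≤ 1 := by
    calc finrank F (LinearMap.range N.mulVecLin) ≤ finrank F (Submodule.span F {a}) :=
          Submodule.finrank_mono hrange
      _ = 1 := finrank_span_singleton ha0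
  have hr2 : 1 ≤ finrank F (LinearMap.range N.mulVecLin) := by
    rw [Nat.one_le_iff_ne_zero]
    intro h0
    have hbot : LinearMap.range N.mulVecLin = ⊥ := Submodule.finrank_eq_zero.mp h0
    have hamem : a ∈ LinearMap.range N.mulVecLin := ⟨_, rfl⟩
    rw [hbot, Submodule.mem_bot] at hamem
    exact ha0 hamem
  have hker : LinearMap.ker N.mulVecLin = Cfsg.Agent.Lib.Helper2.Dickson.Fix x := by
    ext v
    rw [LinearMap.mem_ker, Matrix.mulVecLin_apply, Cfsg.Agent.Lib.Helper2.Dickson.mem_Fix, hN,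
      Matrix.sub_mulVec, Matrix.one_mulVec, sub_eq_zero]
  have hrn := LinearMap.finrank_range_add_finrank_ker N.mulVecLin
  rw [Module.finrank_fintype_fun_eq_card, hker] at hrn
  have hd := Cfsg.Agent.H9Orth.dfun_eq_zero_of_mem_commutator hQ hn5 x hxΩ
  unfold Cfsg.Agent.Lib.Helper2.Dickson.dfun at hd
  have hcard : Fintype.card ι = finrank F (Cfsg.Agent.Lib.Helper2.Dickson.Fix x) + 1 := by omega
  rw [hcard] at hd
  push_cast at hd
  have h10 : (1 : ZMod 2) = 0 := by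
    have h2m : ∀ m : ZMod 2, m + (m + 1) = 1 := by decide
    rw [h2m] at hd
    exact hd
  exact one_ne_zero h10

end rank

section partA
variable {F : Type*} [Field F] [Fintype F] {ι : Type} [Fintype ι] [DecidableEq ι]
variable {Q : QuadraticForm F (ι → F)}

/-- square roots in a subfield of a finite field of characteristic two -/
theorem exists_sqrt_mem (h2 : (2 : F) = 0) (F₀ : Subfield F) {c : F} (hc : c ∈ F₀) :
    ∃ s ∈ F₀, s * s = c := by
  have hinj : Function.Injective (fun x : F₀ => x * x) := by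
    intro x y hxy
    apply Subtype.ext
    apply Cfsg.Agent.Lib.Helper7.Subg.PkE.eq_of_mul_self_eq_two h2
    exact congrArg Subtype.val hxy
  have hsurj : Function.Surjective (fun x : F₀ => x * x) := Finite.injective_iff_surjective.mp hinj
  obtain ⟨d, hd⟩ := hsurj ⟨c, hc⟩
  exact ⟨d, d.2, congrArg Subtype.val hd⟩

/-- (a) a rational involution of `Ω` has a non-zero rational singular vector in `Im (X - 1)` -/
theorem exists_sing_in_im (hQ : (QuadraticMap.polarBilin Q).Nondegenerate) (F₀ : Subfield F)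
    (hR : RatQ F₀ Q) (hn5 : 5 ≤ Fintype.card ι) (h2 : (2 : F) = 0)
    (x : ↥(Cfsg.isometryGroup F ⇑Q)) (hxΩ : x ∈ Cfsg.Omega F ⇑Q) (hxr : RatMat F₀ (mat x))
    (hxx : mat x * mat x = 1) (hx1 : mat x ≠ 1) :
    ∃ a : ι → F, Rat F₀ a ∧ (mat x - 1) *ᵥ a ≠ 0 ∧ Q ((mat x - 1) *ᵥ a) = 0 := by
  classical
  obtain ⟨j₀, j₁, hind⟩ := exists_two_cols hQ hn5 x hxΩ hx1
  set A : ι → F := (mat x - 1) *ᵥ (Pi.single j₀ (1 : F) : ι → F) with hA
  set B' : ι → F := (mat x - 1) *ᵥ (Pi.single j₁ (1 : F) : ι → F) with hB'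
  have hr0 : Rat F₀ (Pi.single j₀ (1 : F) : ι → F) := Rat.single F₀ j₀ F₀.one_mem
  have hr1 : Rat F₀ (Pi.single j₁ (1 : F) : ι → F) := Rat.single F₀ j₁ F₀.one_mem
  have hNr : RatMat F₀ (mat x - 1) := fun i j => F₀.sub_mem (hxr i j) (RatMat.one F₀ i j)
  have hAr : Rat F₀ A := hNr.mulVec hr0
  have hBr : Rat F₀ B' := hNr.mulVec hr1
  have hAB : QuadraticMap.polar (⇑Q) A B' = 0 :=
    polar_nil_fix x _ B' (fix_nil h2 hxx _)
  by_cases hQA : Q A = 0
  · refine ⟨_, hr0, ?_, hQA⟩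
    intro h0
    have := hind 1 0 (by rw [one_smul, zero_smul, add_zero]; exact h0)
    exact one_ne_zero this.1
  · have hc : Q B' / Q A ∈ F₀ := F₀.div_mem (hR _ hBr) (hR _ hAr)
    obtain ⟨s, hs, hss⟩ := exists_sqrt_mem h2 F₀ hc
    refine ⟨s • (Pi.single j₀ (1 : F) : ι → F) + (Pi.single j₁ (1 : F) : ι → F),
      (Rat.smul hs hr0).add hr1, ?_, ?_⟩
    · rw [Matrix.mulVec_add, Matrix.mulVec_smul]
      intro h0
      have := hind s 1 (by rw [one_smul]; exact h0)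
      exact one_ne_zero this.2
    · rw [Matrix.mulVec_add, Matrix.mulVec_smul, Q_comb _ _ hAB, hss, div_mul_cancel₀ _ hQA]
      have : Q B' + Q B' = (2 : F) * Q B' := by ring
      rw [this, h2, zero_mul]

end partA

section avoid
variable {K : Type*} [Field K] [Finite K] {ι : Type} [Fintype ι] [DecidableEq ι]

/-- a singular vector of a subspace of dimension at least four, outside a given line -/
theorem exists_singular_avoid (Q₀ : QuadraticForm K (ι → K)) (S : Submodule K (ι → K))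
    (h : 4 ≤ finrank K S) (p : ι → K) :
    ∃ s ∈ S, s ≠ 0 ∧ Q₀ s = 0 ∧ ∀ c : K, s ≠ c • p := by
  classical
  by_cases hp : p = 0
  · obtain ⟨v, hv0, hv⟩ := Cfsg.Agent.Lib.Helper5.exists_singular_of_finrank
      (Q₀.comp S.subtype) (by omega : 3 ≤ finrank K S)
    refine ⟨v.1, v.2, fun h0 => hv0 (Subtype.ext h0), hv, fun c hc => ?_⟩
    rw [hp, smul_zero] at hc
    exact hv0 (Subtype.ext hc)
  · obtain ⟨i₁, hi₁⟩ : ∃ i, p i ≠ 0 := by
      by_contra hcon
      push Not at hcon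
      exact hp (funext hcon)
    set ℓ : ↥S →ₗ[K] K := (LinearMap.proj i₁).comp S.subtype with hℓ
    have hrn := LinearMap.finrank_range_add_finrank_ker ℓ
    have hr1 : finrank K (LinearMap.range ℓ) ≤ 1 := by
      calc finrank K (LinearMap.range ℓ) ≤ finrank K K := Submodule.finrank_le _
        _ = 1 := finrank_self K
    have h3 : 3 ≤ finrank K (LinearMap.ker ℓ) := by omega
    obtain ⟨v, hv0, hv⟩ := Cfsg.Agent.Lib.Helper5.exists_singular_of_finrank
      (V := ↥(LinearMap.ker ℓ)) (Q₀.comp (S.subtype.comp (LinearMap.ker ℓ).subtype)) h3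
    have hvi : (v.1 : ι → K) i₁ = 0 := by
      have := v.2
      rw [LinearMap.mem_ker] at this
      exact this
    refine ⟨(v.1 : ι → K), v.1.2, ?_, hv, fun c hc => ?_⟩
    · intro h0
      apply hv0
      apply Subtype.ext
      apply Subtype.ext
      exact h0
    · have h1 : c * p i₁ = 0 := by
        have := congrFun hc i₁
        rw [hvi, Pi.smul_apply, smul_eq_mul] at this
        exact this.symm
      rcases mul_eq_zero.1 h1 with h | h
      · rw [h, zero_smul] at hc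
        apply hv0
        apply Subtype.ext
        apply Subtype.ext
        exact hc
      · exact hi₁ h

end avoid

section partB
variable {F : Type*} [Field F] [Fintype F] {ι : Type} [Fintype ι] [DecidableEq ι]
variable {Q : QuadraticForm F (ι → F)}

/-- (b) the fixed space of a rational involution of `Ω` contains a rational totally singular pair -/
theorem exists_rtsp_fix (hQ : (QuadraticMap.polarBilin Q).Nondegenerate) (F₀ : Subfield F)
    (hR : RatQ F₀ Q) (hn : 13 ≤ Fintype.card ι) (h2 : (2 : F) = 0)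
    (y : ↥(Cfsg.isometryGroup F ⇑Q)) (hyΩ : y ∈ Cfsg.Omega F ⇑Q) (hyr : RatMat F₀ (mat y))
    (hyy : mat y * mat y = 1) (hy1 : mat y ≠ 1) :
    ∃ p p' : ι → F, RTSP F₀ Q p p' ∧ mat y *ᵥ p = p ∧ mat y *ᵥ p' = p' := by
  classical
  obtain ⟨a, har, hNa0, hQNa⟩ := exists_sing_in_im hQ F₀ hR (by omega) h2 y hyΩ hyr hyy hy1
  set p : ι → F := (mat y - 1) *ᵥ a with hp
  have hNr : RatMat F₀ (mat y - 1) := fun i j => F₀.sub_mem (hyr i j) (RatMat.one F₀ i j)
  have hpr : Rat F₀ p := hNr.mulVec har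
  have hpfix : mat y *ᵥ p = p := fix_nil h2 hyy a
  obtain ⟨Y₀, hY₀⟩ := ratMat_exists_map hyr
  have hY₀' : upM F₀ Y₀ = mat y := hY₀
  have hmapinj : Function.Injective (upM F₀ (ι := ι)) := by
    intro A B hAB
    ext i j
    have := congrFun (congrFun hAB i) j
    exact this
  have hN₀ : upM F₀ (Y₀ - 1) = mat y - 1 := by
    ext i j
    have := congrFun (congrFun hY₀' i) j
    simp only [upM_apply, Matrix.sub_apply] at this ⊢
    rw [← this]
    by_cases hij : i = j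
    · subst hij; simp
    · simp [Matrix.one_apply_ne hij]
  have hN₀sq : (Y₀ - 1) * (Y₀ - 1) = 0 := by
    apply hmapinj
    rw [upM_mul, hN₀, nil_sq h2 hyy]
    ext i j
    simp [upM_apply]
  set f : (ι → ↥F₀) →ₗ[↥F₀] (ι → ↥F₀) := (Y₀ - 1).mulVecLin with hf
  have hrk : LinearMap.range f ≤ LinearMap.ker f := by
    rintro _ ⟨z, rfl⟩
    rw [LinearMap.mem_ker, hf, Matrix.mulVecLin_apply, Matrix.mulVecLin_apply,
      Matrix.mulVec_mulVec, hN₀sq, Matrix.zero_mulVec]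
  have hrn := LinearMap.finrank_range_add_finrank_ker f
  rw [Module.finrank_fintype_fun_eq_card] at hrn
  have hle := Submodule.finrank_mono hrk
  have h4 : 4 ≤ finrank ↥F₀ (LinearMap.ker f) := by omega
  obtain ⟨s, hsS, hs0, hQs, hsp⟩ := exists_singular_avoid (Q₀ (PkBCA.qrat hR)) (LinearMap.ker f) h4
    (down F₀ hpr)
  have hsfix₀ : Y₀ *ᵥ s = s := by
    rw [LinearMap.mem_ker, hf, Matrix.mulVecLin_apply, Matrix.sub_mulVec, Matrix.one_mulVec,
      sub_eq_zero] at hsS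
    exact hsS
  have hp'fix : mat y *ᵥ up F₀ s = up F₀ s := by
    rw [← hY₀', upM_mulVec, hsfix₀]
  have hQp' : Q (up F₀ s) = 0 := (Q₀_eq_zero (PkBCA.qrat hR) s).mp hQs
  have hpp' : QuadraticMap.polar (⇑Q) p (up F₀ s) = 0 := polar_nil_fix y a _ hp'fix
  refine ⟨p, up F₀ s, ⟨hpr, rat_up F₀ s, hQNa, hQp', hpp', ?_⟩, hpfix, hp'fix⟩
  intro c t hct
  by_cases ht : t = 0
  · rw [ht, zero_smul, add_zero] at hct
    rcases smul_eq_zero.1 hct with h | h
    · exact ⟨h, ht⟩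
    · exact absurd h hNa0
  · exfalso
    obtain ⟨i, hi⟩ : ∃ i, p i ≠ 0 := by
      by_contra hcon
      push Not at hcon
      exact hNa0 (funext hcon)
    have e : up F₀ s = (-(t⁻¹ * c)) • p := by
      have h3 : t • up F₀ s = -(c • p) := by
        rw [eq_neg_iff_add_eq_zero, add_comm]; exact hct
      have h4 : up F₀ s = t⁻¹ • (t • up F₀ s) := by
        rw [smul_smul, inv_mul_cancel₀ ht, one_smul]
      rw [h4, h3, smul_neg, smul_smul, neg_smul]
    have hc₀ : -(t⁻¹ * c) ∈ F₀ := by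
      have := congrFun e i
      rw [Pi.smul_apply, smul_eq_mul] at this
      have h5 : -(t⁻¹ * c) = up F₀ s i / p i := by
        rw [this, mul_div_assoc, div_self hi, mul_one]
      rw [h5]
      exact F₀.div_mem (rat_up F₀ s i) (hpr i)
    apply hsp ⟨_, hc₀⟩
    apply up_injective F₀
    rw [up_smul, up_down]
    exact e

end partB

section star
variable {F : Type*} [Field F] [Fintype F] {ι : Type} [Fintype ι] [DecidableEq ι]
variable {Q : QuadraticForm F (ι → F)}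

/-- STAR: an element of `M` conjugating a rational involution of `Ω` to a rational involution is in `N` -/
theorem star (hQ : (QuadraticMap.polarBilin Q).Nondegenerate) (F₀ : Subfield F)
    (M : Subgroup ↥(Cfsg.isometryGroup F ⇑Q)) (hR : RatQ F₀ Q) (hn : 13 ≤ Fintype.card ι)
    (h2 : (2 : F) = 0) (hNKO : NKO F₀ M)
    (g x y : ↥(Cfsg.isometryGroup F ⇑Q)) (hg : g ∈ M) (hxΩ : x ∈ Cfsg.Omega F ⇑Q)
    (hyΩ : y ∈ Cfsg.Omega F ⇑Q) (hxr : RatMat F₀ (mat x)) (hyr : RatMat F₀ (mat y))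
    (hxx : mat x * mat x = 1) (hyy : mat y * mat y = 1) (hx1 : mat x ≠ 1) (hy1 : mat y ≠ 1)
    (hc : mat g * mat y = mat x * mat g) : InN F₀ (mat g) := by
  obtain ⟨a, har, hNa0, hQNa⟩ := exists_sing_in_im hQ F₀ hR (by omega) h2 x hxΩ hxr hxx hx1
  have hNr : RatMat F₀ (mat x - 1) := fun i j => F₀.sub_mem (hxr i j) (RatMat.one F₀ i j)
  obtain ⟨p, p', hrtsp, hpf, hp'f⟩ := exists_rtsp_fix hQ F₀ hR hn h2 y hyΩ hyr hyy hy1
  have hfix : ∀ v : ι → F, mat y *ᵥ v = v → mat x *ᵥ (mat g *ᵥ v) = mat g *ᵥ v := by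
    intro v hv
    rw [Matrix.mulVec_mulVec, ← hc, ← Matrix.mulVec_mulVec, hv]
  exact hNKO g hg p p' _ hrtsp (hNr.mulVec har) hNa0 hQNa
    (polar_nil_fix x a _ (hfix p hpf)) (polar_nil_fix x a _ (hfix p' hp'f))

/-- `M ∩ N` as a subgroup of `M` -/
def HN (F₀ : Subfield F) (M : Subgroup ↥(Cfsg.isometryGroup F ⇑Q)) : Subgroup ↥M :=
  (nnSubgroup (ι := ι) F₀).comap ((Cfsg.isometryGroup F ⇑Q).subtype.comp M.subtype)

theorem mem_HN (F₀ : Subfield F) (M : Subgroup ↥(Cfsg.isometryGroup F ⇑Q)) (x : ↥M) :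
    x ∈ HN F₀ M ↔ InN F₀ (mat (x : ↥(Cfsg.isometryGroup F ⇑Q))) := Iff.rfl

/-- characteristic two: `M ∩ N` is strongly embedded in `M` unless `M ≤ N` -/
theorem stronglyEmbedded (hQ : (QuadraticMap.polarBilin Q).Nondegenerate) (F₀ : Subfield F)
    (M : Subgroup ↥(Cfsg.isometryGroup F ⇑Q)) (hR : RatQ F₀ Q) (hn : 13 ≤ Fintype.card ι)
    (h2 : (2 : F) = 0) (hMΩ : M ≤ Cfsg.Omega F ⇑Q) (hNKO : NKO F₀ M) (i₀ : ι)
    (g₀ : ↥M) (hg₀ : g₀ ∉ HN F₀ M) (s : ↥M) (hs : orderOf s = 2) (hsN : s ∈ HN F₀ M) :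
    Cfsg.IsStronglyEmbedded (HN F₀ M) := by
  refine ⟨?_, ?_, ?_⟩
  · intro htop
    exact hg₀ (by rw [htop]; exact Subgroup.mem_top _)
  · rw [even_iff_two_dvd]
    have h : orderOf (⟨s, hsN⟩ : ↥(HN F₀ M)) = 2 := by
      rw [← hs]
      exact Subgroup.orderOf_mk _ _
    rw [← h]
    exact orderOf_dvd_natCard _
  · intro g hg
    by_contra hodd
    rw [Nat.not_odd_iff_even, even_iff_two_dvd] at hodd
    have : Fact (Nat.Prime 2) := ⟨Nat.prime_two⟩
    obtain ⟨x, hx⟩ := exists_prime_orderOf_dvd_card' 2 hodd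
    have hxmem := x.2
    rw [Subgroup.mem_inf] at hxmem
    obtain ⟨hxH, hxmap⟩ := hxmem
    rw [Subgroup.mem_map] at hxmap
    obtain ⟨y, hyH, hyx⟩ := hxmap
    have hx2 : orderOf (x : ↥M) = 2 := by rw [Subgroup.orderOf_coe]; exact hx
    have hyx' : g * y * g⁻¹ = (x : ↥M) := hyx
    have hy : y = g⁻¹ * (x : ↥M) * g := by rw [← hyx']; group
    have hy2 : orderOf y = 2 := by
      rw [hy, Cfsg.Agent.Lib.Helper3.StrEmb.orderOf_conj_inv]; exact hx2
    have hc : g * y = (x : ↥M) * g := by rw [← hyx']; group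
    have hx2' : orderOf (((x : ↥M) : ↥(Cfsg.isometryGroup F ⇑Q))) = 2 := by
      rw [Subgroup.orderOf_coe]; exact hx2
    have hy2' : orderOf ((y : ↥(Cfsg.isometryGroup F ⇑Q))) = 2 := by
      rw [Subgroup.orderOf_coe]; exact hy2
    have hXr : RatMat F₀ (mat (((x : ↥M) : ↥(Cfsg.isometryGroup F ⇑Q)))) :=
      Cfsg.Agent.Lib.Helper7.Subg.PkE.ratMat_of_inN_of_mul_self h2 i₀ F₀ hxH
        (mat_mul_self_of_orderOf hx2')
    have hYr : RatMat F₀ (mat ((y : ↥(Cfsg.isometryGroup F ⇑Q)))) :=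
      Cfsg.Agent.Lib.Helper7.Subg.PkE.ratMat_of_inN_of_mul_self h2 i₀ F₀ hyH
        (mat_mul_self_of_orderOf hy2')
    have hc' : mat ((g : ↥(Cfsg.isometryGroup F ⇑Q))) * mat ((y : ↥(Cfsg.isometryGroup F ⇑Q))) =
        mat (((x : ↥M) : ↥(Cfsg.isometryGroup F ⇑Q))) * mat ((g : ↥(Cfsg.isometryGroup F ⇑Q))) := by
      rw [← mat_mul, ← mat_mul]
      exact congrArg (fun z : ↥M => mat (z : ↥(Cfsg.isometryGroup F ⇑Q))) hc
    apply hg
    rw [mem_HN]
    exact star hQ F₀ M hR hn h2 hNKO _ _ _ g.2 (hMΩ (x : ↥M).2) (hMΩ y.2) hXr hYr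
      (mat_mul_self_of_orderOf hx2') (mat_mul_self_of_orderOf hy2')
      (mat_ne_one_of_orderOf hx2') (mat_ne_one_of_orderOf hy2') hc'

end star

end PkEVEN

section final
variable {F : Type*} [Field F] [Fintype F] {ι : Type} [Fintype ι] [DecidableEq ι]
variable {Q : QuadraticForm F (ι → F)}

open PkEVEN in
/-- PK-EVEN: characteristic two -/
theorem even_case (hQ : (QuadraticMap.polarBilin Q).Nondegenerate) (F₀ : Subfield F)
    (M : Subgroup ↥(Cfsg.isometryGroup F ⇑Q)) (hR : RatQ F₀ Q) (hn : 13 ≤ Fintype.card ι)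
    (h2 : (2 : F) = 0) (hMΩ : M ≤ Cfsg.Omega F ⇑Q) (hE : HasRatE hQ F₀ M) (hNKO : NKO F₀ M) :
    ∀ g ∈ M, InN F₀ (mat g) := by
  classical
  by_contra hcon
  push Not at hcon
  obtain ⟨g₀, hg₀M, hg₀N⟩ := hcon
  have hne : Nonempty ι := by
    rw [← Fintype.card_pos_iff]; omega
  obtain ⟨i₀⟩ := hne
  -- a rational hyperbolic pair and a second one orthogonal to it
  obtain ⟨p₁, q₁, hp₁r, hq₁r, hp₁, hq₁, hpq₁, -⟩ :=
    rat_hyp_perp hQ F₀ hR (k := 0) (fun i => i.elim0) (fun i => i.elim0) (by omega)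
  obtain ⟨p₂, q₂, hp₂r, hq₂r, hp₂, hq₂, hpq₂, hperp⟩ :=
    rat_hyp_perp hQ F₀ hR (k := 2) ![p₁, q₁]
      (fun i => by fin_cases i <;> simp <;> assumption) (by omega)
  have h12 : QuadraticMap.polar (⇑Q) p₁ p₂ = 0 := (hperp 0).1
  have h12' : QuadraticMap.polar (⇑Q) p₁ q₂ = 0 := (hperp 0).2
  have hq12 : QuadraticMap.polar (⇑Q) q₁ p₂ = 0 := (hperp 1).1
  have hind : ∀ s t : F, s • p₁ + t • p₂ = 0 → s = 0 ∧ t = 0 := by
    intro s t hst
    have e1 : QuadraticMap.polar (⇑Q) (s • p₁ + t • p₂) q₁ = 0 := by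
      rw [hst]; exact QuadraticMap.polar_zero_left _ _
    rw [QuadraticMap.polar_add_left, QuadraticMap.polar_smul_left, QuadraticMap.polar_smul_left,
      hpq₁, QuadraticMap.polar_comm (⇑Q) p₂ q₁, hq12, smul_eq_mul, smul_eq_mul, mul_one, mul_zero,
      add_zero] at e1
    rw [e1, zero_smul, zero_add] at hst
    have e2 : QuadraticMap.polar (⇑Q) (t • p₂) q₂ = 0 := by
      rw [hst]; exact QuadraticMap.polar_zero_left _ _
    rw [QuadraticMap.polar_smul_left, hpq₂, smul_eq_mul, mul_one] at e2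
    exact ⟨e1, e2⟩
  have hrtsp : RTSP F₀ Q p₁ p₂ := ⟨hp₁r, hp₂r, hp₁, hp₂, h12, hind⟩
  -- the second involution: `E(p₁, p₂ + q₂)`
  set yv : ι → F := p₂ + q₂ with hyv
  have hyvr : Rat F₀ yv := hp₂r.add hq₂r
  have huy : QuadraticMap.polar (⇑Q) p₁ yv = 0 := by
    rw [hyv, QuadraticMap.polar_add_right, h12, h12', add_zero]
  have hQy : Q yv = 1 := by
    have e : Q (p₂ + q₂) = Q p₂ + Q q₂ + QuadraticMap.polar (⇑Q) p₂ q₂ := by
      unfold QuadraticMap.polar; ring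
    rw [hyv, e, hp₂, hq₂, hpq₂]; ring
  -- the two involutions
  have hsM : eich hQ p₁ p₂ ∈ M := hE _ _ hp₁r hp₂r
  have htM : eich hQ p₁ yv ∈ M := hE _ _ hp₁r hyvr
  have hs_vec : ∀ z : ι → F, (mat (eich hQ p₁ p₂) - 1) *ᵥ z =
      QuadraticMap.polar (⇑Q) p₁ z • p₂ + (-QuadraticMap.polar (⇑Q) p₂ z) • p₁ := by
    intro z
    rw [Matrix.sub_mulVec, Matrix.one_mulVec, eich_mulVec hQ hp₁ h12, hp₂]
    module
  have ht_vec : (mat (eich hQ p₁ yv) - 1) *ᵥ q₁ =
      yv + (-(QuadraticMap.polar (⇑Q) yv q₁ + 1)) • p₁ := by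
    rw [Matrix.sub_mulVec, Matrix.one_mulVec, eich_mulVec hQ hp₁ huy, hQy, hpq₁]
    module
  have hQs : ∀ z : ι → F, Q ((mat (eich hQ p₁ p₂) - 1) *ᵥ z) = 0 := by
    intro z
    rw [hs_vec]
    exact PkCONJ.Q_span_eq_zero hp₂ hp₁ (by rw [QuadraticMap.polar_comm]; exact h12) _ _
  have hQt : Q ((mat (eich hQ p₁ yv) - 1) *ᵥ q₁) = 1 := by
    rw [ht_vec]
    have e : ∀ c : F, Q (yv + c • p₁) = Q yv + Q (c • p₁) + QuadraticMap.polar (⇑Q) yv (c • p₁) := by
      intro c; unfold QuadraticMap.polar; ring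
    rw [e, QuadraticMap.map_smul, hp₁, QuadraticMap.polar_smul_right,
      QuadraticMap.polar_comm (⇑Q) yv p₁, huy, hQy]
    simp
  have hsq : ∀ v : ι → F, QuadraticMap.polar (⇑Q) p₁ v = 0 →
      mat (eich hQ p₁ v) * mat (eich hQ p₁ v) = 1 := by
    intro v hv
    rw [← mat_mul, ← eich_add hQ hp₁ hv hv]
    have : v + v = 0 := by
      have : v + v = (2 : F) • v := (two_smul F v).symm
      rw [this, h2, zero_smul]
    rw [this, eich_zero, mat_one]
  have hs1 : mat (eich hQ p₁ p₂) ≠ 1 := by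
    intro h
    have e := hs_vec q₁
    rw [h, sub_self, Matrix.zero_mulVec, hpq₁] at e
    have := hind (-QuadraticMap.polar (⇑Q) p₂ q₁) 1 (by rw [add_comm]; exact e.symm)
    exact one_ne_zero this.2
  have ht1 : mat (eich hQ p₁ yv) ≠ 1 := by
    intro h
    rw [h, sub_self, Matrix.zero_mulVec, map_zero] at hQt
    exact zero_ne_one hQt
  have hs2 : orderOf (⟨eich hQ p₁ p₂, hsM⟩ : ↥M) = 2 := by
    rw [← Subgroup.orderOf_coe]
    exact orderOf_eq_two_of_mat (hsq _ h12) hs1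
  have ht2 : orderOf (⟨eich hQ p₁ yv, htM⟩ : ↥M) = 2 := by
    rw [← Subgroup.orderOf_coe]
    exact orderOf_eq_two_of_mat (hsq _ huy) ht1
  have hsH : (⟨eich hQ p₁ p₂, hsM⟩ : ↥M) ∈ HN F₀ M := by
    rw [mem_HN]
    exact ⟨1, one_ne_zero, by rw [one_smul]; exact ratMat_eich hQ hR hp₁r hp₂r⟩
  have htH : (⟨eich hQ p₁ yv, htM⟩ : ↥M) ∈ HN F₀ M := by
    rw [mem_HN]
    exact ⟨1, one_ne_zero, by rw [one_smul]; exact ratMat_eich hQ hR hp₁r hyvr⟩
  have hg₀H : (⟨g₀, hg₀M⟩ : ↥M) ∉ HN F₀ M := by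
    rw [mem_HN]; exact hg₀N
  have hSE := stronglyEmbedded hQ F₀ M hR hn h2 hMΩ hNKO i₀ ⟨g₀, hg₀M⟩ hg₀H _ hs2 hsH
  -- an involution outside `H`
  have hu2 : orderOf ((⟨g₀, hg₀M⟩ : ↥M) * ⟨eich hQ p₁ p₂, hsM⟩ * (⟨g₀, hg₀M⟩ : ↥M)⁻¹) = 2 := by
    rw [Cfsg.Agent.Lib.Helper3.StrEmb.orderOf_conj]
    exact hs2
  have huH : (⟨g₀, hg₀M⟩ : ↥M) * ⟨eich hQ p₁ p₂, hsM⟩ * (⟨g₀, hg₀M⟩ : ↥M)⁻¹ ∉ HN F₀ M := by
    intro h
    apply hg₀H
    refine Cfsg.Agent.Lib.Helper3.StrEmb.se_mem hSE h hu2 ?_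
    have e : (⟨g₀, hg₀M⟩ : ↥M)⁻¹ * ((⟨g₀, hg₀M⟩ : ↥M) * ⟨eich hQ p₁ p₂, hsM⟩ *
        (⟨g₀, hg₀M⟩ : ↥M)⁻¹) * (⟨g₀, hg₀M⟩ : ↥M) = ⟨eich hQ p₁ p₂, hsM⟩ := by group
    rw [e]
    exact hsH
  obtain ⟨d, -, hd⟩ :=
    Cfsg.Agent.Lib.Helper3.StrEmb.exists_conj_mem_inf hSE hu2 huH hs2 hsH ht2 htH
  have hm : mat ((d : ↥(Cfsg.isometryGroup F ⇑Q))) * mat (eich hQ p₁ p₂) *
      mat ((d : ↥(Cfsg.isometryGroup F ⇑Q)))⁻¹ = mat (eich hQ p₁ yv) := by
    rw [← mat_mul, ← mat_mul]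
    exact congrArg (fun z : ↥M => mat (z : ↥(Cfsg.isometryGroup F ⇑Q))) hd
  have hkey : (mat (eich hQ p₁ yv) - 1) *ᵥ q₁ =
      mat ((d : ↥(Cfsg.isometryGroup F ⇑Q))) *ᵥ ((mat (eich hQ p₁ p₂) - 1) *ᵥ
        (mat ((d : ↥(Cfsg.isometryGroup F ⇑Q)))⁻¹ *ᵥ q₁)) := by
    rw [← hm, Matrix.sub_mulVec, Matrix.sub_mulVec, Matrix.one_mulVec, Matrix.one_mulVec,
      Matrix.mulVec_sub, mat_mulVec_inv, ← Matrix.mulVec_mulVec, ← Matrix.mulVec_mulVec]
  rw [hkey, iso_Q, hQs] at hQt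
  exact zero_ne_one hQt

end final

namespace PkEVEN

end PkEVEN

end Cfsg.Agent.Lib.Helper7.OSub
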