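import Mathlib
import Cfsg.Prelude
import Cfsg.Agent.Lib.Helper7.OSubDefs
import Cfsg.Agent.Lib.Helper3.OSub_BCA
import Cfsg.Agent.Lib.Helper3.OSub_COEF
import Cfsg.Agent.Lib.Helper5.OSub_BCB
import Cfsg.Agent.Lib.Helper5.OSub_QUAD
import Cfsg.Agent.Lib.Helper6.OSub_S
import Cfsg.Agent.Lib.Helper6.OSub_ODD
import Cfsg.Agent.Lib.Helper7.OSub_EVEN
import Cfsg.Agent.Lib.Helper8.OSub_KO
import Cfsg.Agent.Lib.Helper8.OSub_RLO
import Cfsg.Agent.Lib.Helper9.OSub_PROPER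
import Cfsg.Agent.Lib.Helper9.OSub_NKO
import Cfsg.Agent.Lib.Lead.OSub_GEN

set_option autoImplicit false
set_option linter.unusedSectionVars false

/-! S5683 / S5702: the core dichotomy for overgroups of the rational Eichler elements. -/

namespace Cfsg.Agent.Lib.Helper7.OSub

open Matrix Cfsg.Agent.Lib.Helper7.Subg Cfsg.Agent.Lib.Helper2.LongRoot Cfsg.Agent.Lib.Helper2.OmMin
  Cfsg.Agent.Lib.Helper2.CDG

variable {F : Type*} [Field F] [Fintype F] {ι : Type} [Fintype ι] [DecidableEq ι]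
variable {Q : QuadraticForm F (ι → F)}

/-- CORE: a subgroup of `Ω` containing the rational Eichler elements lies in `N` or is `Ω`. -/
theorem osub_core (hQ : (QuadraticMap.polarBilin Q).Nondegenerate) (F₀ : Subfield F)
    (M : Subgroup ↥(Cfsg.isometryGroup F ⇑Q)) (hR : RatQ F₀ Q) (hn : 13 ≤ Fintype.card ι)
    (r : ℕ) (hr : r.Prime) (hcard : Fintype.card F = Nat.card F₀ ^ r)
    (hMΩ : M ≤ Cfsg.Omega F ⇑Q) (hE : HasRatE hQ F₀ M) :
    (∀ g ∈ M, InN F₀ (mat g)) ∨ Cfsg.Omega F ⇑Q ≤ M := by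
  have hn7 : 7 ≤ Fintype.card ι := by omega
  have hn9 : 9 ≤ Fintype.card ι := by omega
  rcases al_dichotomy hQ F₀ M hR hn7 hE r hr hcard with hAL | hAL
  · left
    have hSS := ss_of_al hQ F₀ M hR hn7 hE hAL
    have hKO := ko_of_ss hQ F₀ M hR hn7 hE hSS
    have hRLO := rlo_of_ko hQ F₀ M hR hn9 hE hKO
    have hNKO := nko_of_rlo hQ F₀ M hR hn hE hRLO
    rcases hr.eq_two_or_odd' with h2 | hodd
    · subst h2
      exact quad_case hQ F₀ M hR hn7 hcard hNKO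
    · by_cases hc : (2 : F) = 0
      · exact even_case hQ F₀ M hR hn hc hMΩ hE hNKO
      · exact odd_case hQ F₀ M hR hn7 hc r hodd hcard hE hSS hNKO
  · right
    exact gen_of_al_univ hQ F₀ M hR hn7 hE hAL

end Cfsg.Agent.Lib.Helper7.OSub
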