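import Mathlib
import Cfsg.Prelude
import Cfsg.Agent.Lib.Helper7.OSubDefs
import Cfsg.Agent.Lib.Helper7.OSubBridge
import Cfsg.Agent.Lib.Helper7.OSubMain

set_option autoImplicit false
set_option linter.unusedSectionVars false

/-! S5683 / S5702: maximality of the subfield subgroup of `Ω(Q₁)` for a rational structure `P` of `ζ Q₁`. -/

namespace Cfsg.Agent.Lib.Helper7.OSub

open Matrix Cfsg.Agent.Lib.Helper7.Subg Cfsg.Agent.Lib.Helper2.LongRoot Cfsg.Agent.Lib.Helper2.OmMin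
  Cfsg.Agent.Lib.Helper2.CDG

variable {F : Type*} [Field F] [Fintype F] {ι : Type} [Fintype ι] [DecidableEq ι]

/-- maximality in standard coordinates: `Q` rational -/
theorem osub_max_std (Q : QuadraticForm F (ι → F))
    (hQ : (QuadraticMap.polarBilin Q).Nondegenerate) (F₀ : Subfield F) (hR : RatQ F₀ Q)
    (hn : 13 ≤ Fintype.card ι) (r : ℕ) (hr : r.Prime)
    (hcard : Fintype.card F = Nat.card F₀ ^ r) :
    Cfsg.Geo.IsMaximalIn (Cfsg.Geo.omegaGL ⇑Q)
      (((Matrix.GeneralLinearGroup.map (F₀.subtype : F₀ →+* F)).range ⊔ Cfsg.Geo.scalars ι F) ⊓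
        Cfsg.Geo.omegaGL ⇑Q) := by
  classical
  set N₁ : Subgroup (Matrix.GeneralLinearGroup ι F) :=
    (Matrix.GeneralLinearGroup.map (F₀.subtype : F₀ →+* F)).range ⊔ Cfsg.Geo.scalars ι F with hN₁
  have hn7 : 7 ≤ Fintype.card ι := by omega
  have hn5 : 5 ≤ Fintype.card ι := by omega
  have hF₀ : F₀ ≠ ⊤ := by
    intro h
    have h1 : Nat.card F₀ = Fintype.card F := by
      rw [h, ← Nat.card_eq_fintype_card]
      exact Nat.card_congr Subfield.topEquiv.toEquiv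
    rw [h1] at hcard
    have h2 : 1 < Fintype.card F := Fintype.one_lt_card
    have h3 : Fintype.card F ^ 1 < Fintype.card F ^ r := Nat.pow_lt_pow_right h2 hr.one_lt
    rw [pow_one] at h3
    omega
  have hmemΩ : ∀ x : Matrix.GeneralLinearGroup ι F, x ∈ Cfsg.Geo.omegaGL ⇑Q ↔
      ∃ g : ↥(Cfsg.isometryGroup F ⇑Q), g ∈ Cfsg.Omega F ⇑Q ∧
        (g : Matrix.GeneralLinearGroup ι F) = x := by
    intro x
    unfold Cfsg.Geo.omegaGL
    rw [Subgroup.mem_map]
    rfl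
  have hmemN : ∀ g : ↥(Cfsg.isometryGroup F ⇑Q),
      (g : Matrix.GeneralLinearGroup ι F) ∈ N₁ ↔ InN F₀ (mat g) := by
    intro g
    rw [hN₁, ← inN_iff_mem]
  refine ⟨?_, ?_⟩
  · refine lt_of_le_of_ne inf_le_right ?_
    intro heq
    obtain ⟨g, hgΩ, hgN⟩ := exists_not_inN hQ F₀ hR hn7 hF₀
    have h1 : (g : Matrix.GeneralLinearGroup ι F) ∈ Cfsg.Geo.omegaGL ⇑Q :=
      (hmemΩ _).2 ⟨g, hgΩ, rfl⟩
    rw [← heq] at h1
    exact hgN ((hmemN g).1 h1.1)
  · intro MG h1 h2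
    set M : Subgroup ↥(Cfsg.isometryGroup F ⇑Q) :=
      MG.comap (Cfsg.isometryGroup F ⇑Q).subtype with hM
    have hMmem : ∀ g : ↥(Cfsg.isometryGroup F ⇑Q),
        g ∈ M ↔ (g : Matrix.GeneralLinearGroup ι F) ∈ MG := fun g => Iff.rfl
    have hMΩ : M ≤ Cfsg.Omega F ⇑Q := by
      intro g hg
      obtain ⟨g', hg', e⟩ := (hmemΩ _).1 (h2 ((hMmem g).1 hg))
      have : g' = g := Subtype.ext e
      rw [← this]
      exact hg'
    have hE : HasRatE hQ F₀ M := by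
      intro u y hu hy
      rw [hMmem]
      apply h1
      refine Subgroup.mem_inf.2 ⟨?_, ?_⟩
      · rw [hmemN]
        exact ⟨1, one_ne_zero, by rw [one_smul]; exact ratMat_eich hQ hR hu hy⟩
      · exact (hmemΩ _).2 ⟨_, eich_mem_Omega hQ hn5 u y, rfl⟩
    rcases osub_core hQ F₀ M hR hn r hr hcard hMΩ hE with h | h
    · left
      apply le_antisymm _ h1
      intro x hx
      obtain ⟨g, hgΩ, rfl⟩ := (hmemΩ _).1 (h2 hx)
      refine Subgroup.mem_inf.2 ⟨?_, h2 hx⟩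
      rw [hmemN]
      exact h g ((hMmem g).2 hx)
    · right
      apply le_antisymm h2
      intro x hx
      obtain ⟨g, hgΩ, rfl⟩ := (hmemΩ _).1 hx
      exact (hMmem g).1 (h hgΩ)

/-- MAXIMALITY: for a rational structure `P` of `ζ Q₁`, the subfield subgroup of `P` meets `Ω(Q₁)` in a
maximal subgroup. -/
theorem osub_max (Q₁ : QuadraticForm F (ι → F))
    (hQ₁ : (QuadraticMap.polarBilin Q₁).Nondegenerate) (hn : 13 ≤ Fintype.card ι)
    (F₀ : Subfield F) (r : ℕ) (hr : r.Prime) (hcard : Fintype.card F = Nat.card F₀ ^ r)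
    (P : Matrix.GeneralLinearGroup ι F) (ζ : F) (hζ : ζ ≠ 0)
    (hP : Cfsg.Geo.IsQuadFormRationalStructure (fun v : ι → F => ζ * Q₁ v) F₀ P) :
    Cfsg.Geo.IsMaximalIn (Cfsg.Geo.omegaGL ⇑Q₁)
      (Cfsg.Geo.subfieldSubgroup F₀ P ⊓ Cfsg.Geo.omegaGL ⇑Q₁) := by
  classical
  have hstd := osub_max_std (twist Q₁ (P : Matrix ι ι F) ζ) (twist_nondeg Q₁ hQ₁ P ζ hζ) F₀
    (ratQ_twist Q₁ F₀ P ζ hP) hn r hr hcard
  have hmap := isMaximalIn_map (MulAut.conj P) hstd
  have hinj : Function.Injective (MulAut.conj P).toMonoidHom := (MulAut.conj P).injective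
  have e1 : (Cfsg.Geo.omegaGL ⇑(twist Q₁ (P : Matrix ι ι F) ζ)).map (MulAut.conj P).toMonoidHom =
      Cfsg.Geo.omegaGL ⇑Q₁ := by
    rw [omegaGL_twist Q₁ P ζ hζ, Subgroup.map_map]
    have : (MulAut.conj P).toMonoidHom.comp (MulAut.conj P⁻¹).toMonoidHom =
        MonoidHom.id (Matrix.GeneralLinearGroup ι F) := by
      ext x
      simp only [MonoidHom.coe_comp, MulEquiv.coe_toMonoidHom, Function.comp_apply,
        MulAut.conj_apply, inv_inv, MonoidHom.id_apply]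
      group
    rw [this, Subgroup.map_id]
  rw [Subgroup.map_inf _ _ _ hinj, e1] at hmap
  exact hmap

end Cfsg.Agent.Lib.Helper7.OSub
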