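import Mathlib
import Cfsg.Prelude
import Cfsg.Agent.Lib.Helper7.OmTwoB
import Cfsg.Agent.Lib.Helper2.OrthCard1
import Cfsg.Agent.Lib.Helper2.QuadStd

set_option autoImplicit false

/-! The concrete frame of the minus type form `QMn (l+1) a b` on
`(Fin (l+1) ⊕ Fin (l+1)) ⊕ Fin 2`. -/

namespace Cfsg.Agent.Lib.Helper7.OmTwo

open Matrix Cfsg.Agent.Lib.Helper2 Cfsg.Agent.Lib.Helper2.OrthCard Cfsg.Agent.Lib.Helper2.QuadStd

variable {F : Type*} [Field F]

/-- the index type -/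
abbrev CI (l : ℕ) := (Fin (l + 1) ⊕ Fin (l + 1)) ⊕ Fin 2

/-- the basis vector `e_k` (zero if `k > l`) -/
def ce (l k : ℕ) : CI l → F :=
  if h : k < l + 1 then Pi.single (Sum.inl (Sum.inl ⟨k, h⟩)) 1 else 0

/-- the basis vector `f_k` (zero if `k > l`) -/
def cf (l k : ℕ) : CI l → F :=
  if h : k < l + 1 then Pi.single (Sum.inl (Sum.inr ⟨k, h⟩)) 1 else 0

/-- the vector `(s,t)` of the anisotropic plane -/
def za (l : ℕ) (s t : F) : CI l → F := Pi.single (Sum.inr 0) s + Pi.single (Sum.inr 1) t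

/-- the `e_k`-coordinate -/
def xe {l : ℕ} (x : CI l → F) (k : ℕ) : F := if h : k < l + 1 then x (Sum.inl (Sum.inl ⟨k, h⟩)) else 0

/-- the `f_k`-coordinate -/
def xf {l : ℕ} (x : CI l → F) (k : ℕ) : F := if h : k < l + 1 then x (Sum.inl (Sum.inr ⟨k, h⟩)) else 0

theorem polar_QMn (l : ℕ) (a b : F) (u v : CI l → F) :
    QuadraticMap.polar (⇑(QMn (l + 1) a b)) u v =
      ∑ i : Fin (l + 1), (u (.inl (.inl i)) * v (.inl (.inr i)) + v (.inl (.inl i)) * u (.inl (.inr i))) +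
      (2 * u (.inr 0) * v (.inr 0) + a * (u (.inr 0) * v (.inr 1) + u (.inr 1) * v (.inr 0)) +
        2 * b * u (.inr 1) * v (.inr 1)) := by
  rw [QMn_coe, ← QM_coe]
  exact polar_minus _ _ _ _ _

theorem QMn_apply (l : ℕ) (a b : F) (v : CI l → F) :
    QMn (l + 1) a b v = (∑ i : Fin (l + 1), v (.inl (.inl i)) * v (.inl (.inr i))) +
      (v (.inr 0) ^ 2 + a * v (.inr 0) * v (.inr 1) + b * v (.inr 1) ^ 2) := by
  have := congrFun (QMn_coe (F := F) (l + 1) a b) v
  rw [this]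
  rfl

theorem polar_ce (l : ℕ) (a b : F) (k : ℕ) (x : CI l → F) :
    QuadraticMap.polar (⇑(QMn (l + 1) a b)) (ce l k) x = xf x k := by
  rw [polar_QMn]
  unfold ce xf
  by_cases h : k < l + 1
  · rw [dif_pos h, dif_pos h]
    simp [Pi.single_apply, Fin.ext_iff]
    rw [Finset.sum_eq_single ⟨k, h⟩]
    · simp
    · intro j _ hj
      have : ¬ (j.val = k) := fun e => hj (Fin.ext e)
      simp [this]
    · simp
  · rw [dif_neg h, dif_neg h]
    simp

theorem polar_cf (l : ℕ) (a b : F) (k : ℕ) (x : CI l → F) :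
    QuadraticMap.polar (⇑(QMn (l + 1) a b)) (cf l k) x = xe x k := by
  rw [polar_QMn]
  unfold cf xe
  by_cases h : k < l + 1
  · rw [dif_pos h, dif_pos h]
    simp [Pi.single_apply, Fin.ext_iff]
    rw [Finset.sum_eq_single ⟨k, h⟩]
    · simp
    · intro j _ hj
      have : ¬ (j.val = k) := fun e => hj (Fin.ext e)
      simp [this]
    · simp
  · rw [dif_neg h, dif_neg h]
    simp

theorem polar_za (l : ℕ) (a b s t : F) (x : CI l → F) :
    QuadraticMap.polar (⇑(QMn (l + 1) a b)) (za l s t) x =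
      2 * s * x (.inr 0) + a * (s * x (.inr 1) + t * x (.inr 0)) + 2 * b * t * x (.inr 1) := by
  rw [polar_QMn]
  unfold za
  simp

theorem ce_inr (l k : ℕ) (i : Fin 2) : (ce l k : CI l → F) (Sum.inr i) = 0 := by
  unfold ce
  split_ifs <;> simp

theorem cf_inr (l k : ℕ) (i : Fin 2) : (cf l k : CI l → F) (Sum.inr i) = 0 := by
  unfold cf
  split_ifs <;> simp

theorem za_inr0 (l : ℕ) (s t : F) : (za l s t) (Sum.inr 0) = s := by
  unfold za
  simp

theorem za_inr1 (l : ℕ) (s t : F) : (za l s t) (Sum.inr 1) = t := by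
  unfold za
  simp

theorem za_inl (l : ℕ) (s t : F) (i : Fin (l + 1) ⊕ Fin (l + 1)) : (za l s t) (Sum.inl i) = 0 := by
  unfold za
  simp

theorem xe_ce (l i j : ℕ) : xe (ce l i : CI l → F) j = if i = j ∧ i < l + 1 then 1 else 0 := by
  unfold xe ce
  by_cases hj : j < l + 1
  · by_cases hi : i < l + 1
    · rw [dif_pos hj, dif_pos hi]
      by_cases hij : i = j
      · subst hij
        simp [hi]
      · have : (⟨j, hj⟩ : Fin (l + 1)) ≠ ⟨i, hi⟩ := fun e => hij (Fin.ext_iff.1 e).symm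
        simp [hij, this]
    · rw [dif_pos hj, dif_neg hi]
      simp [hi]
  · rw [dif_neg hj]
    by_cases hij : i = j
    · subst hij
      simp [hj]
    · simp [hij]

theorem xf_cf (l i j : ℕ) : xf (cf l i : CI l → F) j = if i = j ∧ i < l + 1 then 1 else 0 := by
  unfold xf cf
  by_cases hj : j < l + 1
  · by_cases hi : i < l + 1
    · rw [dif_pos hj, dif_pos hi]
      by_cases hij : i = j
      · subst hij
        simp [hi]
      · have : (⟨j, hj⟩ : Fin (l + 1)) ≠ ⟨i, hi⟩ := fun e => hij (Fin.ext_iff.1 e).symm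
        simp [hij, this]
    · rw [dif_pos hj, dif_neg hi]
      simp [hi]
  · rw [dif_neg hj]
    by_cases hij : i = j
    · subst hij
      simp [hj]
    · simp [hij]

theorem xf_ce (l i j : ℕ) : xf (ce l i : CI l → F) j = 0 := by
  unfold xf ce
  split_ifs <;> simp

theorem xe_cf (l i j : ℕ) : xe (cf l i : CI l → F) j = 0 := by
  unfold xe cf
  split_ifs <;> simp

theorem xe_za (l : ℕ) (s t : F) (j : ℕ) : xe (za l s t) j = 0 := by
  unfold xe
  split_ifs
  · exact za_inl l s t _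
  · rfl

theorem xf_za (l : ℕ) (s t : F) (j : ℕ) : xf (za l s t) j = 0 := by
  unfold xf
  split_ifs
  · exact za_inl l s t _
  · rfl

theorem Q_ce (l : ℕ) (a b : F) (k : ℕ) : QMn (l + 1) a b (ce l k) = 0 := by
  have h := polar_ce l a b k (ce l k)
  rw [QuadraticMap.polar_self, xf_ce] at h
  rw [QMn_apply]
  unfold ce
  split_ifs <;> simp [Pi.single_apply]

theorem Q_cf (l : ℕ) (a b : F) (k : ℕ) : QMn (l + 1) a b (cf l k) = 0 := by
  rw [QMn_apply]
  unfold cf
  split_ifs <;> simp [Pi.single_apply]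

theorem Q_za (l : ℕ) (a b s t : F) : QMn (l + 1) a b (za l s t) = s ^ 2 + a * s * t + b * t ^ 2 := by
  rw [QMn_apply, za_inr0, za_inr1]
  simp [za_inl]

/-- the concrete frame -/
theorem fr_concrete (l : ℕ) (a b s₁ t₁ s₂ t₂ N₀ : F)
    (h₁ : s₁ ^ 2 + a * s₁ * t₁ + b * t₁ ^ 2 = N₀) (h₂ : s₂ ^ 2 + a * s₂ * t₂ + b * t₂ ^ 2 = N₀)
    (hN : N₀ ≠ 0) :
    Fr (QMn (l + 1) a b) l (ce l) (cf l) (za l s₁ t₁) (za l s₂ t₂) N₀ where
  qe i _ := Q_ce l a b i
  qf i _ := Q_cf l a b i
  ef i j hi hj := by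
    rw [polar_ce, xf_cf]
    by_cases hij : i = j
    · subst hij
      rw [if_pos rfl, if_pos ⟨rfl, by omega⟩]
    · rw [if_neg hij, if_neg (fun h => hij h.1.symm)]
  ee i j _ _ := by rw [polar_ce, xf_ce]
  ff i j _ _ := by rw [polar_cf, xe_cf]
  ez₁ i _ := by rw [polar_ce, xf_za]
  fz₁ i _ := by rw [polar_cf, xe_za]
  ez₂ i _ := by rw [polar_ce, xf_za]
  fz₂ i _ := by rw [polar_cf, xe_za]
  qz₁ := by rw [Q_za, h₁]
  qz₂ := by rw [Q_za, h₂]
  hN := hN

/-- coordinate decomposition -/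
theorem decomp_concrete (l : ℕ) (v : CI l → F) :
    v = ∑ k ∈ Finset.range (l + 1), (xe v k • ce l k + xf v k • cf l k) +
      za l (v (Sum.inr 0)) (v (Sum.inr 1)) := by
  funext x
  rw [Pi.add_apply, Finset.sum_apply]
  rcases x with (i | i) | i
  · rw [za_inl, add_zero, Finset.sum_eq_single i.val]
    · simp only [Pi.add_apply, Pi.smul_apply, smul_eq_mul]
      unfold xe xf ce cf
      rw [dif_pos i.isLt, dif_pos i.isLt, dif_pos i.isLt, dif_pos i.isLt]
      simp
    · intro k hk hki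
      simp only [Pi.add_apply, Pi.smul_apply, smul_eq_mul]
      unfold ce cf
      have hk' : k < l + 1 := Finset.mem_range.1 hk
      rw [dif_pos hk', dif_pos hk']
      have : (i : Fin (l + 1)) ≠ ⟨k, hk'⟩ := fun e => hki (Fin.ext_iff.1 e).symm
      simp [this]
    · intro h
      exact absurd (Finset.mem_range.2 i.isLt) h
  · rw [za_inl, add_zero, Finset.sum_eq_single i.val]
    · simp only [Pi.add_apply, Pi.smul_apply, smul_eq_mul]
      unfold xe xf ce cf
      rw [dif_pos i.isLt, dif_pos i.isLt, dif_pos i.isLt, dif_pos i.isLt]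
      simp
    · intro k hk hki
      simp only [Pi.add_apply, Pi.smul_apply, smul_eq_mul]
      unfold ce cf
      have hk' : k < l + 1 := Finset.mem_range.1 hk
      rw [dif_pos hk', dif_pos hk']
      have : (i : Fin (l + 1)) ≠ ⟨k, hk'⟩ := fun e => hki (Fin.ext_iff.1 e).symm
      simp [this]
    · intro h
      exact absurd (Finset.mem_range.2 i.isLt) h
  · have h0 : ∀ k ∈ Finset.range (l + 1),
        (xe v k • (ce l k : CI l → F) + xf v k • (cf l k : CI l → F)) (Sum.inr i) = 0 := by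
      intro k _
      simp [ce_inr, cf_inr]
    rw [Finset.sum_eq_zero h0, zero_add]
    fin_cases i
    · exact (za_inr0 l _ _).symm
    · exact (za_inr1 l _ _).symm

theorem za_add (l : ℕ) (s t s' t' : F) : za l s t + za l s' t' = za l (s + s') (t + t') := by
  unfold za
  rw [Pi.single_add, Pi.single_add]
  abel

theorem za_smul (l : ℕ) (c s t : F) : c • za l s t = za l (c * s) (c * t) := by
  unfold za
  rw [smul_add, ← Pi.single_smul', ← Pi.single_smul', smul_eq_mul, smul_eq_mul]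

/-- spanning: frame plus two independent vectors of the plane -/
theorem hspan_concrete (l : ℕ) (s₁ t₁ s₂ t₂ : F) (hd : s₁ * t₂ - s₂ * t₁ ≠ 0) (v : CI l → F) :
    ∃ (a b : ℕ → F) (α β : F),
      v = ∑ k ∈ Finset.range (l + 1), (a k • ce l k + b k • cf l k) + α • za l s₁ t₁ +
        β • za l s₂ t₂ := by
  refine ⟨xe v, xf v, (v (Sum.inr 0) * t₂ - v (Sum.inr 1) * s₂) / (s₁ * t₂ - s₂ * t₁),
    (v (Sum.inr 1) * s₁ - v (Sum.inr 0) * t₁) / (s₁ * t₂ - s₂ * t₁), ?_⟩
  conv_lhs => rw [decomp_concrete l v]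
  rw [add_assoc, za_smul, za_smul, za_add]
  congr 2
  · rw [div_mul_eq_mul_div, div_mul_eq_mul_div, ← add_div, eq_div_iff hd]
    ring
  · rw [div_mul_eq_mul_div, div_mul_eq_mul_div, ← add_div, eq_div_iff hd]
    ring

end Cfsg.Agent.Lib.Helper7.OmTwo
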