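import Mathlib
import Cfsg.Prelude
import Cfsg.Agent.Lib.Helper7.OmTwoC
import Cfsg.Agent.Lib.Helper2.LongRoot9

set_option autoImplicit false
set_option linter.unusedSimpArgs false

namespace Cfsg.Agent.Lib.Helper7.OmTwo

open Matrix Cfsg.Agent.H9Orth Cfsg.Agent.Lib.Helper2.CDG Cfsg.Agent.Lib.Helper2
  Cfsg.Agent.Lib.Helper2.OrthCard Cfsg.Agent.Lib.Helper2.LongRoot

variable {F : Type*} [Field F]

theorem polar_ce_ce (l : ℕ) (a b : F) (i j : ℕ) :
    QuadraticMap.polar (⇑(QMn (l + 1) a b)) (ce l i) (ce l j) = 0 := by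
  rw [polar_ce, xf_ce]

theorem polar_cf_cf (l : ℕ) (a b : F) (i j : ℕ) :
    QuadraticMap.polar (⇑(QMn (l + 1) a b)) (cf l i) (cf l j) = 0 := by
  rw [polar_cf, xe_cf]

theorem polar_ce_cf (l : ℕ) (a b : F) (i j : ℕ) :
    QuadraticMap.polar (⇑(QMn (l + 1) a b)) (ce l i) (cf l j) =
      if j = i ∧ j < l + 1 then 1 else 0 := by
  rw [polar_ce, xf_cf]

theorem polar_cf_ce (l : ℕ) (a b : F) (i j : ℕ) :
    QuadraticMap.polar (⇑(QMn (l + 1) a b)) (cf l i) (ce l j) =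
      if j = i ∧ j < l + 1 then 1 else 0 := by
  rw [polar_cf, xe_ce]

theorem polar_ce_za (l : ℕ) (a b : F) (i : ℕ) (s t : F) :
    QuadraticMap.polar (⇑(QMn (l + 1) a b)) (ce l i) (za l s t) = 0 := by
  rw [polar_ce, xf_za]

theorem polar_cf_za (l : ℕ) (a b : F) (i : ℕ) (s t : F) :
    QuadraticMap.polar (⇑(QMn (l + 1) a b)) (cf l i) (za l s t) = 0 := by
  rw [polar_cf, xe_za]

theorem polar_za_ce (l : ℕ) (a b : F) (i : ℕ) (s t : F) :
    QuadraticMap.polar (⇑(QMn (l + 1) a b)) (za l s t) (ce l i) = 0 := by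
  rw [QuadraticMap.polar_comm, polar_ce_za]

theorem polar_za_cf (l : ℕ) (a b : F) (i : ℕ) (s t : F) :
    QuadraticMap.polar (⇑(QMn (l + 1) a b)) (za l s t) (cf l i) = 0 := by
  rw [QuadraticMap.polar_comm, polar_cf_za]

theorem polar_za_za (l : ℕ) (a b s t s' t' : F) :
    QuadraticMap.polar (⇑(QMn (l + 1) a b)) (za l s t) (za l s' t') =
      2 * s * s' + a * (s * t' + t * s') + 2 * b * t * t' := by
  rw [polar_za, za_inr0, za_inr1]

/-- the vector `e_l + f_l` has norm one -/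
theorem Q_w (l : ℕ) (a b : F) : QMn (l + 1) a b (ce l l + cf l l) = 1 := by
  have h := QuadraticMap.polar (⇑(QMn (l + 1) a b)) (ce l l) (cf l l)
  have e : QMn (l + 1) a b (ce l l + cf l l) = QMn (l + 1) a b (ce l l) + QMn (l + 1) a b (cf l l) +
      QuadraticMap.polar (⇑(QMn (l + 1) a b)) (ce l l) (cf l l) := by
    unfold QuadraticMap.polar
    ring
  rw [e, Q_ce, Q_cf, polar_ce_cf, if_pos ⟨rfl, Nat.lt_succ_self l⟩]
  ring

theorem xe_add {l : ℕ} (x y : CI l → F) (k : ℕ) : xe (x + y) k = xe x k + xe y k := by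
  unfold xe
  split_ifs <;> simp

theorem xf_add {l : ℕ} (x y : CI l → F) (k : ℕ) : xf (x + y) k = xf x k + xf y k := by
  unfold xf
  split_ifs <;> simp

theorem xe_sub {l : ℕ} (x y : CI l → F) (k : ℕ) : xe (x - y) k = xe x k - xe y k := by
  unfold xe
  split_ifs <;> simp

theorem xf_sub {l : ℕ} (x y : CI l → F) (k : ℕ) : xf (x - y) k = xf x k - xf y k := by
  unfold xf
  split_ifs <;> simp

theorem xe_smul {l : ℕ} (c : F) (x : CI l → F) (k : ℕ) : xe (c • x) k = c * xe x k := by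
  unfold xe
  split_ifs <;> simp

theorem xf_smul {l : ℕ} (c : F) (x : CI l → F) (k : ℕ) : xf (c • x) k = c * xf x k := by
  unfold xf
  split_ifs <;> simp

theorem xe_neg {l : ℕ} (x : CI l → F) (k : ℕ) : xe (-x) k = - xe x k := by
  unfold xe
  split_ifs <;> simp

theorem xf_neg {l : ℕ} (x : CI l → F) (k : ℕ) : xf (-x) k = - xf x k := by
  unfold xf
  split_ifs <;> simp

section concrete

variable (l : ℕ) (a b : F)

/-- `s = refl(e_l + f_l) * refl(za 1 0)` -/
noncomputable def sEl : ↥(Cfsg.isometryGroup F ⇑(QMn (l + 1) a b)) :=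
  refl (QMn (l + 1) a b) (ce l l + cf l l) (by rw [Q_w]; exact one_ne_zero) *
  refl (QMn (l + 1) a b) (za l 1 0) (by rw [Q_za]; simp)

theorem sEl_mulVec (x : CI l → F) :
    ((sEl l a b : Matrix.GeneralLinearGroup (CI l) F) : Matrix (CI l) (CI l) F) *ᵥ x =
      (x - (2 * x (Sum.inr 0) + a * x (Sum.inr 1)) • za l 1 0) -
        (xf x l + xe x l) • (ce l l + cf l l) := by
  unfold sEl
  rw [mul_mulVec, refl_mulVec, refl_mulVec, Q_w, Q_za, polar_za, QuadraticMap.polar_add_left,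
    polar_ce, polar_cf]
  simp only [xe_sub, xf_sub, xe_smul, xf_smul, xe_za, xf_za]
  congr 1
  · congr 1
    congr 1
    ring
  · congr 1
    ring

end concrete

theorem za_sub (l : ℕ) (s t s' t' : F) : za l s t - za l s' t' = za l (s - s') (t - t') := by
  unfold za
  rw [Pi.single_sub, Pi.single_sub]
  abel

theorem za_shift (l : ℕ) (x c : F) : za l (x - c) (1 : F) = za l x 1 - c • za l 1 0 := by
  rw [za_smul, za_sub]
  congr 1 <;> ring

section concrete2

variable [Fintype F] (l : ℕ) (a b : F)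
  (hab : ∀ z₁ z₂ : F, z₁ ^ 2 + a * z₁ * z₂ + b * z₂ ^ 2 = 0 → z₁ = 0 ∧ z₂ = 0)

/-- `E = E(e_l, z₀)`, `z₀ = za x 1` -/
noncomputable def eEl (x : F) : ↥(Cfsg.isometryGroup F ⇑(QMn (l + 1) a b)) :=
  eich (QMn_nondeg (l + 1) a b hab) (ce l l) (za l x 1) (Q_ce l a b l) (polar_ce_za l a b l x 1)

theorem eEl_mulVec (x : F) (v : CI l → F) :
    ((eEl l a b hab x : Matrix.GeneralLinearGroup (CI l) F) : Matrix (CI l) (CI l) F) *ᵥ v =
      v + xf v l • za l x 1 -
        (2 * x * v (Sum.inr 0) + a * (x * v (Sum.inr 1) + v (Sum.inr 0)) + 2 * b * v (Sum.inr 1)) •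
          ce l l - ((x ^ 2 + a * x + b) * xf v l) • ce l l := by
  unfold eEl
  rw [eich_mulVec, polar_ce, polar_za, Q_za]
  simp only [one_mul, mul_one, one_pow]

/-- `τ = s * E` -/
noncomputable def tauEl (x : F) : ↥(Cfsg.isometryGroup F ⇑(QMn (l + 1) a b)) :=
  sEl l a b * eEl l a b hab x

theorem tau_ce (x : F) (k : ℕ) (hk : k ≠ l) :
    ((tauEl l a b hab x : Matrix.GeneralLinearGroup (CI l) F) : Matrix (CI l) (CI l) F) *ᵥ ce l k =
      ce l k := by
  unfold tauEl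
  rw [mul_mulVec, eEl_mulVec]
  simp only [xf_ce, ce_inr, zero_smul, mul_zero, add_zero, sub_zero]
  rw [sEl_mulVec]
  simp only [xf_ce, ce_inr, xe_ce, zero_smul, mul_zero, add_zero, sub_zero, zero_add]
  rw [if_neg (fun h => hk h.1), zero_smul, sub_zero]

theorem tau_cf (x : F) (k : ℕ) (hk : k ≠ l) :
    ((tauEl l a b hab x : Matrix.GeneralLinearGroup (CI l) F) : Matrix (CI l) (CI l) F) *ᵥ cf l k =
      cf l k := by
  unfold tauEl
  rw [mul_mulVec, eEl_mulVec]
  simp only [xf_cf, cf_inr, zero_smul, mul_zero, add_zero, sub_zero]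
  rw [if_neg (fun h => hk h.1)]
  simp only [zero_smul, mul_zero, add_zero, sub_zero]
  rw [sEl_mulVec]
  simp only [xf_cf, cf_inr, xe_cf, zero_smul, mul_zero, add_zero, sub_zero, zero_add]
  rw [if_neg (fun h => hk h.1), zero_smul, sub_zero]

theorem tau_ce_l (x : F) :
    ((tauEl l a b hab x : Matrix.GeneralLinearGroup (CI l) F) : Matrix (CI l) (CI l) F) *ᵥ ce l l =
      - cf l l := by
  unfold tauEl
  rw [mul_mulVec, eEl_mulVec]
  simp only [xf_ce, ce_inr, zero_smul, mul_zero, add_zero, sub_zero]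
  rw [sEl_mulVec]
  simp only [xf_ce, ce_inr, xe_ce, zero_smul, mul_zero, add_zero, sub_zero, zero_add]
  simp only [lt_add_one, and_self, if_true, one_smul]
  abel

theorem tau_cf_l (x : F) :
    ((tauEl l a b hab x : Matrix.GeneralLinearGroup (CI l) F) : Matrix (CI l) (CI l) F) *ᵥ cf l l =
      - ce l l + za l (x - (2 * x + a)) 1 + (x ^ 2 + a * x + b) • cf l l := by
  unfold tauEl
  rw [mul_mulVec, eEl_mulVec]
  simp only [xf_cf, cf_inr, zero_smul, mul_zero, add_zero, sub_zero]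
  simp only [lt_add_one, and_self, if_true, one_smul, mul_one]
  rw [sEl_mulVec]
  simp only [xf_add, xf_sub, xf_smul, xe_add, xe_sub, xe_smul, xf_cf, xe_cf, xf_ce, xe_ce, xf_za,
    xe_za, Pi.add_apply, Pi.sub_apply, Pi.smul_apply, cf_inr, ce_inr, za_inr0, za_inr1, smul_eq_mul]
  simp only [lt_add_one, and_self, if_true]
  rw [za_shift]
  simp only [mul_zero, mul_one, add_zero, zero_add, sub_zero]
  module

theorem tau_z1 (x : F) :
    ((tauEl l a b hab x : Matrix.GeneralLinearGroup (CI l) F) : Matrix (CI l) (CI l) F) *ᵥ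
        za l (x - (2 * x + a)) 1 =
      za l x 1 + (2 * x * (x - (2 * x + a)) + a * (x + (x - (2 * x + a))) + 2 * b) • cf l l := by
  unfold tauEl
  rw [mul_mulVec, eEl_mulVec]
  simp only [xf_za, za_inr0, za_inr1, zero_smul, mul_zero, add_zero, sub_zero, mul_one]
  rw [sEl_mulVec]
  simp only [xf_add, xf_sub, xf_smul, xe_add, xe_sub, xe_smul, xf_cf, xe_cf, xf_ce, xe_ce, xf_za,
    xe_za, Pi.add_apply, Pi.sub_apply, Pi.smul_apply, cf_inr, ce_inr, za_inr0, za_inr1, smul_eq_mul]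
  simp only [lt_add_one, and_self, if_true]
  rw [za_shift]
  simp only [mul_zero, mul_one, add_zero, zero_add, sub_zero]
  module

end concrete2

section yact

variable [Fintype F] (l : ℕ) (a b : F)
  (hab : ∀ z₁ z₂ : F, z₁ ^ 2 + a * z₁ * z₂ + b * z₂ ^ 2 = 0 → z₁ = 0 ∧ z₂ = 0)

/-- the action of `y = P * τ` on the frame -/
theorem yact_concrete (x : F) (P : ↥(Cfsg.isometryGroup F ⇑(QMn (l + 1) a b))) (d : F) (hd : d ≠ 0)
    (hPe : ∀ k, k < l →
      ((P : Matrix.GeneralLinearGroup (CI l) F) : Matrix (CI l) (CI l) F) *ᵥ ce l k = ce l (k + 1))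
    (hPf : ∀ k, k < l →
      ((P : Matrix.GeneralLinearGroup (CI l) F) : Matrix (CI l) (CI l) F) *ᵥ cf l k = cf l (k + 1))
    (hPel : ((P : Matrix.GeneralLinearGroup (CI l) F) : Matrix (CI l) (CI l) F) *ᵥ ce l l =
      d • ce l 0)
    (hPfl : ((P : Matrix.GeneralLinearGroup (CI l) F) : Matrix (CI l) (CI l) F) *ᵥ cf l l =
      d⁻¹ • cf l 0)
    (hPz : ∀ s t : F,
      ((P : Matrix.GeneralLinearGroup (CI l) F) : Matrix (CI l) (CI l) F) *ᵥ za l s t = za l s t) :
    YAct l (ce l) (cf l) (za l (x - (2 * x + a)) 1) (za l x 1) (x ^ 2 + a * x + b) (-d⁻¹)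
      ((2 * x * (x - (2 * x + a)) + a * (x + (x - (2 * x + a))) + 2 * b) * d⁻¹)
      (P * tauEl l a b hab x) where
  ye k hk := by rw [mul_mulVec, tau_ce l a b hab x k (Nat.ne_of_lt hk), hPe k hk]
  yf k hk := by rw [mul_mulVec, tau_cf l a b hab x k (Nat.ne_of_lt hk), hPf k hk]
  yel := by rw [mul_mulVec, tau_ce_l, Matrix.mulVec_neg, hPfl, neg_smul]
  yfl := by
    rw [mul_mulVec, tau_cf_l, Matrix.mulVec_add, Matrix.mulVec_add, Matrix.mulVec_neg,
      Matrix.mulVec_smul, hPel, hPfl, hPz, inv_neg, inv_inv]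
    module
  yz := by
    rw [mul_mulVec, tau_z1, Matrix.mulVec_add, Matrix.mulVec_smul, hPfl, hPz, smul_smul]
  hg := neg_ne_zero.2 (inv_ne_zero hd)

end yact

end Cfsg.Agent.Lib.Helper7.OmTwo
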