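import Mathlib
import Cfsg.Prelude
import Cfsg.Agent.Lib.Helper7.OmTwoB
import Cfsg.Agent.Lib.Lead.OmTwoB1
import Cfsg.Agent.Lib.Lead.OmTwoB4
import Cfsg.Agent.Lib.Helper4.OmTwoB2
import Cfsg.Agent.Lib.Helper8.OmTwoB3

set_option autoImplicit false

/-! The generic two-generation criterion: assembling the stages of the chase. -/

namespace Cfsg.Agent.Lib.Helper7.OmTwo

open Matrix Cfsg.Agent.H9Orth Cfsg.Agent.Lib.Helper2.CDG

variable {F : Type*} [Field F] {ι : Type} [Fintype ι] [DecidableEq ι]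
variable {Q : QuadraticForm F (ι → F)}
variable {hQ : (QuadraticMap.polarBilin Q).Nondegenerate}
  {K : Subgroup ↥(Cfsg.isometryGroup F ⇑Q)}
  {l : ℕ} {e f : ℕ → ι → F} {z₁ z₂ : ι → F} {N₀ g t : F} {y : ↥(Cfsg.isometryGroup F ⇑Q)}

theorem omega_le_of_chase [Fintype F] (hcard : 7 ≤ Fintype.card ι) (hl : 2 ≤ l)
    (fr : Fr Q l e f z₁ z₂ N₀) (ya : YAct l e f z₁ z₂ N₀ g t y) (hy : y ∈ K)
    (hspan : ∀ v : ι → F, ∃ (a b : ℕ → F) (α β : F),
      v = ∑ k ∈ Finset.range (l + 1), (a k • e k + b k • f k) + α • z₁ + β • z₂)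
    (hx0 : EK hQ K (e 0) (f 1)) (hx1 : ∀ c : F, EK hQ K (e 1) (c • f 2)) :
    Cfsg.Omega F ⇑Q ≤ K := by
  have hb := chase_base hl fr ya hy hx0 hx1
  have hu := chase_upper hl fr hb
  have hla := chase_last hl fr ya hy hu
  have hn := chase_neg hl fr ya hy hu hla
  have hn2 := chase_neg2 hl fr ya.hg hu hla hn
  have hp := chase_pos hl fr ya.hg hu hla hn2
  have hfull := chase_full hl fr hspan hu hp
  obtain ⟨hf0, hfz, hk⟩ := hn2.2 1
  have hkM : ((eich hQ (f 0) ((1 : F) • z₂) hf0 hfz : ↥(Cfsg.isometryGroup F ⇑Q)) :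
      Matrix.GeneralLinearGroup ι F) ∈ K.map (Cfsg.isometryGroup F ⇑Q).subtype := ⟨_, hk, rfl⟩
  have hfull2 := full_map hQ hfull (eich hQ (f 0) ((1 : F) • z₂) hf0 hfz) hkM
  have he0 : Q (e 0) = 0 := fr.qe 0 (Nat.zero_le l)
  have hne : QuadraticMap.polar (⇑Q) (e 0)
      (((eich hQ (f 0) ((1 : F) • z₂) hf0 hfz : Matrix.GeneralLinearGroup ι F) : Matrix ι ι F) *ᵥ
        e 0) ≠ 0 := by
    rw [eich_mulVec, one_smul, fr.qz₂]
    have h1 : QuadraticMap.polar (⇑Q) (f 0) (e 0) = 1 := by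
      rw [QuadraticMap.polar_comm, fr.ef 0 0 (Nat.zero_le l) (Nat.zero_le l), if_pos rfl]
    have h2 : QuadraticMap.polar (⇑Q) z₂ (e 0) = 0 := by
      rw [QuadraticMap.polar_comm, fr.ez₂ 0 (Nat.zero_le l)]
    rw [h1, h2, QuadraticMap.polar_sub_right, QuadraticMap.polar_sub_right,
      QuadraticMap.polar_add_right, QuadraticMap.polar_smul_right, QuadraticMap.polar_smul_right,
      QuadraticMap.polar_smul_right, QuadraticMap.polar_self, he0,
      fr.ez₂ 0 (Nat.zero_le l), fr.ef 0 0 (Nat.zero_le l) (Nat.zero_le l), if_pos rfl]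
    simp only [smul_eq_mul, mul_zero, mul_one, sub_zero, smul_zero, zero_add, zero_sub, ne_eq,
      neg_eq_zero]
    exact fr.hN
  have hall : ∀ u : ι → F, Q u = 0 →
      Full hQ (K.map (Cfsg.isometryGroup F ⇑Q).subtype) u := fun u hu =>
    full_all hQ hfull hfull2 he0 (by rw [iso_Q]; exact he0) hne u hu
  have hle := omegaGL_le_of_full hQ hcard hall
  intro x hx
  have hxM : (x : Matrix.GeneralLinearGroup ι F) ∈ K.map (Cfsg.isometryGroup F ⇑Q).subtype :=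
    hle ⟨x, hx, rfl⟩
  obtain ⟨x', hx', hxe⟩ := hxM
  have : x' = x := Subtype.ext hxe
  rw [← this]
  exact hx'

end Cfsg.Agent.Lib.Helper7.OmTwo
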