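import Mathlib
import Cfsg.Prelude
import Cfsg.Agent.Lib.Helper7.OmTwoD
import Cfsg.Agent.Lib.Helper7.OmTwoE
import Cfsg.Agent.Lib.Helper8.OmTwoC12
import Cfsg.Agent.Lib.Helper9.OrthMax2
import Cfsg.Agent.Lib.Helper2.LongRoot9
import Cfsg.Agent.Lib.Helper2.LongRoot6

set_option autoImplicit false
set_option maxHeartbeats 800000

/-! Two generators of `Ω⁻`: the concrete assembly. -/

namespace Cfsg.Agent.Lib.Helper7.OmTwo

open Matrix Cfsg.Agent.H9Orth Cfsg.Agent.Lib.Helper2.CDG Cfsg.Agent.Lib.Helper2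
  Cfsg.Agent.Lib.Helper2.OrthCard Cfsg.Agent.Lib.Helper2.LongRoot

/-- a product of commuting elements of coprime orders: both factors lie in every subgroup
containing the product -/
theorem ot_split_coprime {G : Type*} [Group G] (T : Subgroup G) (a b : G) (hc : Commute a b)
    (M N : ℕ) (ha : a ^ M = 1) (hb : b ^ N = 1) (hMN : Nat.Coprime M N) (hab : a * b ∈ T) :
    a ∈ T ∧ b ∈ T := by
  have key : a ∈ T := by
    have h1 : (a * b) ^ ((N : ℤ) * Nat.gcdB M N) ∈ T := T.zpow_mem hab _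
    have e : (a * b) ^ ((N : ℤ) * Nat.gcdB M N) = a := by
      rw [hc.mul_zpow, _root_.zpow_mul b, zpow_natCast, hb, _root_.one_zpow, mul_one]
      have hbez : (M : ℤ) * Nat.gcdA M N + N * Nat.gcdB M N = 1 := by
        have := Nat.gcd_eq_gcd_ab M N
        rw [hMN] at this
        simpa using this.symm
      have e2 : (N : ℤ) * Nat.gcdB M N = 1 - M * Nat.gcdA M N := by linarith
      rw [e2, _root_.zpow_sub, zpow_one, _root_.zpow_mul, zpow_natCast, ha, _root_.one_zpow,
        inv_one, mul_one]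
    rwa [e] at h1
  refine ⟨key, ?_⟩
  have : b = a⁻¹ * (a * b) := by group
  rw [this]
  exact T.mul_mem (T.inv_mem key) hab

variable {F : Type*} [Field F]

/-- powers of Eichler elements -/
theorem eich_pow_nat {ι : Type} [Fintype ι] [DecidableEq ι] {Q : QuadraticForm F (ι → F)}
    (hQ : (QuadraticMap.polarBilin Q).Nondegenerate) (u v : ι → F) (hu : Q u = 0)
    (huv : QuadraticMap.polar (⇑Q) u v = 0) (n : ℕ) :
    (eich hQ u v hu huv) ^ n = eich hQ u ((n : F) • v) hu
      (by rw [QuadraticMap.polar_smul_right, huv, smul_zero]) := by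
  induction n with
  | zero =>
    rw [pow_zero]
    have h0 := eich_zero hQ u hu
    rw [← h0]
    exact eich_congr hQ rfl (by simp) _ _ _ _
  | succ n ih =>
    rw [pow_succ, ih, eich_mul]
    exact eich_congr hQ rfl (by push_cast; module) _ _ _ _

section main

variable [Fintype F] (l : ℕ) (a b : F)
  (hab : ∀ z₁ z₂ : F, z₁ ^ 2 + a * z₁ * z₂ + b * z₂ ^ 2 = 0 → z₁ = 0 ∧ z₂ = 0)

include hab in
/-- a vector of the plane not orthogonal to `(1,0)` and not proportional to it -/
theorem exists_x0 : ∃ x : F, 2 * x + a ≠ 0 := by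
  by_cases ha : a = 0
  · refine ⟨1, ?_⟩
    rw [ha, add_zero, mul_one]
    intro h2
    have : CharP F 2 := CharTwo.of_one_ne_zero_of_two_eq_zero one_ne_zero h2
    obtain ⟨c, hc⟩ := FiniteField.isSquare_of_char_two (ringChar.eq F 2) b
    have h := hab c 1 (by
      rw [ha, hc]
      have : c * c + c * c = 0 := by rw [← two_mul, h2, zero_mul]
      linear_combination this)
    exact one_ne_zero h.2
  · exact ⟨0, by rw [mul_zero, zero_add]; exact ha⟩

theorem card_CI : Fintype.card (CI l) = 2 * l + 4 := by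
  rw [Fintype.card_sum, Fintype.card_sum, Fintype.card_fin, Fintype.card_fin]
  omega

include hab in
/-- `Ω⁻` is generated by two elements -/
theorem two_gen_QMn (hl : 2 ≤ l) :
    ∃ X Y : ↥(Cfsg.isometryGroup F ⇑(QMn (l + 1) a b)),
      X ∈ commutator ↥(Cfsg.isometryGroup F ⇑(QMn (l + 1) a b)) ∧
      Y ∈ commutator ↥(Cfsg.isometryGroup F ⇑(QMn (l + 1) a b)) ∧
      commutator ↥(Cfsg.isometryGroup F ⇑(QMn (l + 1) a b)) ≤
        Subgroup.closure ({X, Y} : Set ↥(Cfsg.isometryGroup F ⇑(QMn (l + 1) a b))) := by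
  classical
  have hQ := QMn_nondeg (l + 1) a b hab
  have hcard : 7 ≤ Fintype.card (CI l) := by rw [card_CI]; omega
  have hcard5 : 5 ≤ Fintype.card (CI l) := by omega
  obtain ⟨lam, hlam⟩ := IsCyclic.exists_generator (α := Fˣ)
  have hlam0 : (lam : F) ≠ 0 := lam.ne_zero
  obtain ⟨P, d, hd, hPc, hPe, hPf, hPel, hPfl, hPz⟩ := exists_cycle (F := F) l hl a b
  obtain ⟨h, hhc, hhe0, hhf0, hhe1, hhf1, hhfix, hhz, hhpow⟩ :=
    exists_torus (F := F) l hl a b (lam : F) hlam0
  obtain ⟨x, hx⟩ := exists_x0 a b hab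
  have hN : x ^ 2 + a * x + b ≠ 0 := by
    intro h0
    have := hab x 1 (by linear_combination h0)
    exact one_ne_zero this.2
  -- the root element
  have hu0 : QMn (l + 1) a b (ce l 0) = 0 := Q_ce l a b 0
  have hp01 : QuadraticMap.polar (⇑(QMn (l + 1) a b)) (ce l 0) (cf l 1) = 0 := by
    rw [polar_ce_cf, if_neg (fun h => absurd h.1 (by norm_num))]
  set x12 := eich hQ (ce l 0) (cf l 1) hu0 hp01 with hx12
  have hx12c : x12 ∈ commutator ↥(Cfsg.isometryGroup F ⇑(QMn (l + 1) a b)) :=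
    eich_mem_Omega hQ hcard _ _ _ _
  -- the second generator
  have hsT : sEl l a b ∈ commutator ↥(Cfsg.isometryGroup F ⇑(QMn (l + 1) a b)) := by
    have h1 : sEl l a b ∈ T (QMn (l + 1) a b) := by
      unfold sEl
      exact refl_mul_refl_mem_T hQ hcard5 _ _ _ _ (by rw [Q_w, Q_za]; ring)
    rw [T_eq_Omega hQ hcard] at h1
    exact h1
  have hEc : eEl l a b hab x ∈ commutator ↥(Cfsg.isometryGroup F ⇑(QMn (l + 1) a b)) :=
    eich_mem_Omega hQ hcard _ _ _ _
  have htau : tauEl l a b hab x ∈ commutator ↥(Cfsg.isometryGroup F ⇑(QMn (l + 1) a b)) :=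
    Subgroup.mul_mem _ hsT hEc
  refine ⟨h * x12, P * tauEl l a b hab x, Subgroup.mul_mem _ hhc hx12c,
    Subgroup.mul_mem _ hPc htau, ?_⟩
  set K := Subgroup.closure ({h * x12, P * tauEl l a b hab x} :
    Set ↥(Cfsg.isometryGroup F ⇑(QMn (l + 1) a b))) with hK
  have hXK : h * x12 ∈ K := Subgroup.subset_closure (Set.mem_insert _ _)
  have hYK : P * tauEl l a b hab x ∈ K :=
    Subgroup.subset_closure (Set.mem_insert_of_mem _ (Set.mem_singleton _))
  -- `h` commutes with the root element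
  have hconj : h * x12 * h⁻¹ = x12 := by
    rw [hx12, conj_eich]
    have e1 : eich hQ (((h : Matrix.GeneralLinearGroup (CI l) F) : Matrix (CI l) (CI l) F) *ᵥ ce l 0)
        (((h : Matrix.GeneralLinearGroup (CI l) F) : Matrix (CI l) (CI l) F) *ᵥ cf l 1)
        (by rw [iso_Q]; exact hu0) (by rw [iso_polar]; exact hp01) =
      eich hQ ((lam : F) • ce l 0) ((lam : F)⁻¹ • cf l 1)
        (by rw [QuadraticMap.map_smul, hu0, smul_zero])
        (by rw [QuadraticMap.polar_smul_left, QuadraticMap.polar_smul_right, hp01, smul_zero,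
          smul_zero]) := eich_congr hQ hhe0 hhf1 _ _ _ _
    rw [e1, eich_smul hQ (lam : F) (ce l 0) ((lam : F)⁻¹ • cf l 1) hu0
      (by rw [QuadraticMap.polar_smul_right, hp01, smul_zero])]
    exact eich_congr hQ rfl (by rw [smul_smul, mul_inv_cancel₀ hlam0, one_smul]) _ _ _ _
  have hcomm : Commute h x12 := by
    unfold Commute SemiconjBy
    calc h * x12 = (h * x12 * h⁻¹) * h := by group
      _ = x12 * h := by rw [hconj]
  -- orders
  obtain ⟨p, hp⟩ := CharP.exists F
  have := hp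
  have : Fact p.Prime := ⟨CharP.char_is_prime F p⟩
  have hxp : x12 ^ p = 1 := by
    rw [hx12, eich_pow_nat]
    have h0 := eich_zero hQ (ce l 0) hu0
    rw [← h0]
    exact eich_congr hQ rfl (by rw [CharP.cast_eq_zero, zero_smul]) _ _ _ _
  have hcop : Nat.Coprime (Fintype.card F - 1) p := by
    obtain ⟨n, hpn, hn⟩ := FiniteField.card F p
    rw [hn]
    have hpp := hpn
    have h1 : 1 ≤ p ^ (n : ℕ) := Nat.one_le_pow _ _ hpp.pos
    rw [Nat.coprime_comm, Nat.Prime.coprime_iff_not_dvd hpp]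
    intro hdvd
    have h2 : p ∣ p ^ (n : ℕ) := dvd_pow_self p n.ne_zero
    have h3 : p ∣ p ^ (n : ℕ) - (p ^ (n : ℕ) - 1) := Nat.dvd_sub h2 hdvd
    have h4 : p ^ (n : ℕ) - (p ^ (n : ℕ) - 1) = 1 := by omega
    rw [h4] at h3
    exact hpp.one_lt.ne' (Nat.dvd_one.1 h3)
  obtain ⟨hhK, hx12K⟩ := ot_split_coprime K h x12 hcomm _ _ hhpow hxp
    hcop hXK
  -- the frame
  have fr : Fr (QMn (l + 1) a b) l (ce l) (cf l) (za l (x - (2 * x + a)) 1) (za l x 1)
      (x ^ 2 + a * x + b) :=
    fr_concrete l a b _ _ _ _ _ (by ring) (by ring) hN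
  have ya := yact_concrete l a b hab x P d hd hPe hPf hPel hPfl hPz
  have hspan := hspan_concrete (F := F) l (x - (2 * x + a)) 1 x 1 (by
    intro h0
    apply hx
    linear_combination -h0)
  -- seeds
  have hx0 : EK hQ K (ce l 0) (cf l 1) := ek_intro hu0 hp01 hx12K
  have hx1a : EK hQ K (ce l 1) (cf l 2) := by
    have := ek_conj (P * tauEl l a b hab x) hYK hx0
    rw [ya.ye 0 (by omega), ya.yf 1 (by omega)] at this
    exact this
  have hx1b : ∀ n : ℕ, EK hQ K (ce l 1) (((lam : F) ^ n) • cf l 2) := by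
    intro n
    induction n with
    | zero => rw [pow_zero, one_smul]; exact hx1a
    | succ n ih =>
      have h1 := ek_conj h hhK ih
      rw [hhe1, Matrix.mulVec_smul, (hhfix 2 le_rfl).2] at h1
      have h2 := ek_smul_left hlam0 h1
      exact ek_congr h2 rfl (by rw [smul_smul, pow_succ, mul_comm])
  have hx1 : ∀ c : F, EK hQ K (ce l 1) (c • cf l 2) := by
    intro c
    by_cases hc : c = 0
    · rw [hc, zero_smul]
      exact ek_zero _ (Q_ce l a b 1)
    · have hmem : Units.mk0 c hc ∈ Submonoid.powers lam :=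
        mem_powers_iff_mem_zpowers.2 (hlam _)
      obtain ⟨n, hn⟩ := hmem
      have hc' : c = (lam : F) ^ n := by
        have := congrArg (fun u : Fˣ => (u : F)) hn
        simpa using this.symm
      rw [hc']
      exact hx1b n
  exact omega_le_of_chase hcard hl fr ya hYK hspan hx0 hx1

end main

end Cfsg.Agent.Lib.Helper7.OmTwo
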