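import Mathlib

set_option autoImplicit false

/-!
# Levi's theorem on 2-Engel groups

If every element of a group commutes with all of its conjugates, then `⁅⁅x, y⁆, z⁆ ^ 3 = 1`.
-/

namespace Cfsg.Agent.Lib.Helper7.Ord4

open scoped commutatorElement

/-- 2-Engel condition in the form: every element commutes with all of its conjugates. -/
def Engel2 (N : Type*) [Group N] : Prop := ∀ x g : N, Commute x (g * x * g⁻¹)

section Levi

variable {N : Type*} [Group N]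

theorem Engel2.inv_rule (h : Engel2 N) (b g : N) :
    (g * b * g⁻¹) * (g⁻¹ * b * g) = b ^ 2 := by
  have h1 : Commute g⁻¹ (b * g * b⁻¹) := (h g b).inv_left
  have h2 : b * (g * b * g⁻¹) = (g * b * g⁻¹) * b := (h b g).eq
  have h3 : g⁻¹ * b * g = b * g * b⁻¹ * g⁻¹ * b := by
    calc g⁻¹ * b * g = g⁻¹ * (b * g * b⁻¹) * b := by group
      _ = (b * g * b⁻¹) * g⁻¹ * b := by rw [h1.eq]
  calc (g * b * g⁻¹) * (g⁻¹ * b * g) = ((g * b * g⁻¹) * b) * (g * b⁻¹ * g⁻¹ * b) := by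
        rw [h3]; group
    _ = (b * (g * b * g⁻¹)) * (g * b⁻¹ * g⁻¹ * b) := by rw [h2]
    _ = b * b := by group
    _ = b ^ 2 := (pow_two b).symm

/-- abstract anticommutativity: operators `1 - c y` on an abelian group with `c g + c g⁻¹ = 2` -/
theorem anticomm_aux {A : Type*} [CommGroup A] {M : Type*} [Group M] (c : M →* MulAut A)
    (hI : ∀ (g : M) (b : A), c g b * c g⁻¹ b = b ^ 2) (y z : M) (b : A) :
    (b / c y b) / c z (b / c y b) * ((b / c z b) / c y (b / c z b)) = 1 := by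
  have e1 : c y b * c y⁻¹ b = b ^ 2 := hI y b
  have e2 : c z (c y⁻¹ b) * c z⁻¹ (c y⁻¹ b) = (c y⁻¹ b) ^ 2 := hI z _
  have e3 : c y (c z b) * c z⁻¹ (c y⁻¹ b) = b ^ 2 := by
    have := hI (y * z) b
    rwa [mul_inv_rev, map_mul, map_mul, MulAut.mul_apply, MulAut.mul_apply] at this
  have e4 : c z (c y b) * c z (c y⁻¹ b) = (c z b) ^ 2 := by
    rw [← map_mul, e1, map_pow]
  have key : c y (c z b) * c z (c y b) * b ^ 2 = (c y b) ^ 2 * (c z b) ^ 2 := by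
    apply mul_right_cancel (b := c z⁻¹ (c y⁻¹ b) * c z (c y⁻¹ b))
    calc c y (c z b) * c z (c y b) * b ^ 2 * (c z⁻¹ (c y⁻¹ b) * c z (c y⁻¹ b))
        = (c y (c z b) * c z⁻¹ (c y⁻¹ b)) * (c z (c y b) * c z (c y⁻¹ b)) * b ^ 2 := by ac_rfl
      _ = b ^ 2 * (c z b) ^ 2 * b ^ 2 := by rw [e3, e4]
      _ = (b ^ 2 * b ^ 2) * (c z b) ^ 2 := by ac_rfl
      _ = ((c y b * c y⁻¹ b) * (c y b * c y⁻¹ b)) * (c z b) ^ 2 := by rw [e1]
      _ = (c y b) ^ 2 * (c z b) ^ 2 * ((c y⁻¹ b) ^ 2) := by simp only [pow_two]; ac_rfl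
      _ = (c y b) ^ 2 * (c z b) ^ 2 * (c z⁻¹ (c y⁻¹ b) * c z (c y⁻¹ b)) := by
        rw [← e2, mul_comm (c z (c y⁻¹ b))]
  rw [map_div, map_div, div_div_div_eq, div_div_div_eq, div_mul_div_comm, div_eq_one]
  calc b * c z (c y b) * (b * c y (c z b)) = c y (c z b) * c z (c y b) * b ^ 2 := by
        rw [pow_two]; ac_rfl
    _ = (c y b) ^ 2 * (c z b) ^ 2 := key
    _ = c y b * c z b * (c z b * c y b) := by simp only [pow_two]; ac_rfl

theorem Engel2.normalClosure_comm (h : Engel2 N) (a : N) :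
    ∀ u ∈ Subgroup.normalClosure ({a} : Set N), ∀ v ∈ Subgroup.normalClosure ({a} : Set N),
      u * v = v * u := by
  have hS : ∀ s ∈ Group.conjugatesOfSet ({a} : Set N), ∀ t ∈ Group.conjugatesOfSet ({a} : Set N),
      s * t = t * s := by
    intro s hs t ht
    rw [Group.mem_conjugatesOfSet_iff] at hs ht
    obtain ⟨a1, ha1, hs⟩ := hs
    obtain ⟨a2, ha2, ht⟩ := ht
    rw [Set.mem_singleton_iff] at ha1 ha2
    rw [ha1] at hs; rw [ha2] at ht
    rw [isConj_iff] at hs ht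
    obtain ⟨g, rfl⟩ := hs
    obtain ⟨k, rfl⟩ := ht
    -- g a g⁻¹ commutes with k a k⁻¹ = (k g⁻¹) (g a g⁻¹) (k g⁻¹)⁻¹
    have := (h (g * a * g⁻¹) (k * g⁻¹)).eq
    have e : k * g⁻¹ * (g * a * g⁻¹) * (k * g⁻¹)⁻¹ = k * a * k⁻¹ := by group
    rwa [e] at this
  have h1 : Subgroup.normalClosure ({a} : Set N) ≤
      Subgroup.centralizer (Group.conjugatesOfSet ({a} : Set N)) := by
    unfold Subgroup.normalClosure
    rw [Subgroup.closure_le]
    intro s hs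
    rw [SetLike.mem_coe, Subgroup.mem_centralizer_iff]
    intro t ht
    exact hS t ht s hs
  have h2 : Subgroup.normalClosure ({a} : Set N) ≤
      Subgroup.centralizer (Subgroup.centralizer (Group.conjugatesOfSet ({a} : Set N)) : Set N) :=
    Subgroup.closure_le_centralizer_centralizer _
  intro u hu v hv
  have := Subgroup.mem_centralizer_iff.mp (h2 hu) v (h1 hv)
  exact this.symm

theorem Engel2.L1 (h : Engel2 N) (a y z : N) : ⁅⁅a, y⁆, z⁆ * ⁅⁅a, z⁆, y⁆ = 1 := by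
  set A := Subgroup.normalClosure ({a} : Set N) with hA
  have hcomm := h.normalClosure_comm a
  letI : CommGroup ↥A :=
    { (inferInstance : Group ↥A) with
      mul_comm := fun u v => Subtype.ext (hcomm u u.2 v v.2) }
  have hI : ∀ (g : N) (b : ↥A), (MulAut.conjNormal (H := A)) g b *
      (MulAut.conjNormal (H := A)) g⁻¹ b = b ^ 2 := by
    intro g b
    apply Subtype.ext
    have := h.inv_rule (b : N) g
    simpa [MulAut.conjNormal_apply] using this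
  have key := anticomm_aux (MulAut.conjNormal (H := A)) hI y z
    ⟨a, Subgroup.subset_normalClosure (Set.mem_singleton a)⟩
  have key' := congrArg Subtype.val key
  simp only [Subgroup.coe_mul, Subgroup.coe_div, MulAut.conjNormal_apply, Subgroup.coe_one,
    map_div] at key'
  rw [← key']
  simp only [commutatorElement_def, div_eq_mul_inv]
  group

theorem Engel2.comm_inv_left (h : Engel2 N) (b w : N) : ⁅b⁻¹, w⁆ = ⁅b, w⁆⁻¹ := by
  have h1 : Commute b⁻¹ (w * b * w⁻¹) := (h b w).inv_left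
  simp only [commutatorElement_def]
  calc b⁻¹ * w * b⁻¹⁻¹ * w⁻¹ = b⁻¹ * (w * b * w⁻¹) := by group
    _ = (w * b * w⁻¹) * b⁻¹ := h1.eq
    _ = (b * w * b⁻¹ * w⁻¹)⁻¹ := by group

theorem Engel2.comm_inv_right (h : Engel2 N) (b w : N) : ⁅b, w⁻¹⁆ = ⁅b, w⁆⁻¹ := by
  rw [← commutatorElement_inv w⁻¹ b, h.comm_inv_left w b, inv_inv, commutatorElement_inv]

theorem Engel2.L0 (h : Engel2 N) (x y z : N) : ⁅⁅y, x⁆, z⁆ = ⁅⁅x, y⁆, z⁆⁻¹ := by
  rw [← commutatorElement_inv x y, h.comm_inv_left]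

theorem Engel2.L1' (h : Engel2 N) (x y z : N) : ⁅⁅x, z⁆, y⁆ = ⁅⁅x, y⁆, z⁆⁻¹ :=
  eq_inv_of_mul_eq_one_right (h.L1 x y z)

theorem Engel2.cyc (h : Engel2 N) (x y z : N) : ⁅⁅y, z⁆, x⁆ = ⁅⁅x, y⁆, z⁆ := by
  rw [h.L1' y x z, h.L0 x y z, inv_inv]

theorem Engel2.comm_self (h : Engel2 N) (b g : N) : Commute g ⁅b, g⁆ := by
  rw [commutatorElement_def]
  exact (h g b).mul_right (Commute.refl g).inv_right

/-- **Levi's theorem**: in a 2-Engel group all triple commutators have order dividing 3. -/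
theorem Engel2.levi (h : Engel2 N) (x y z : N) : ⁅⁅x, y⁆, z⁆ ^ 3 = 1 := by
  have hw : ⁅z, ⁅x, y⁆⁆ =
      x * z * ⁅y, ⁅z⁻¹, x⁻¹⁆⁆⁻¹ * z⁻¹ * y * ⁅x⁻¹, ⁅y⁻¹, z⁆⁆⁻¹ * y⁻¹ * x⁻¹ := by
    simp only [commutatorElement_def]; group
  have hz : Commute z ⁅⁅x, y⁆, z⁆ := h.comm_self _ _
  have hy : Commute y ⁅⁅x, y⁆, z⁆ := by
    have := h.comm_self ⁅z, x⁆ y
    rwa [h.cyc y z x, h.cyc x y z] at this
  have hx : Commute x ⁅⁅x, y⁆, z⁆ := by
    have := h.comm_self ⁅y, z⁆ x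
    rwa [h.cyc x y z] at this
  have e1 : ⁅z, ⁅x, y⁆⁆ = ⁅⁅x, y⁆, z⁆⁻¹ := (commutatorElement_inv _ _).symm
  have e2 : ⁅y, ⁅z⁻¹, x⁻¹⁆⁆⁻¹ = ⁅⁅x, y⁆, z⁆ := by
    rw [commutatorElement_inv, h.comm_inv_left, h.comm_inv_right, inv_inv, h.cyc y z x,
      h.cyc x y z]
  have e3 : ⁅x⁻¹, ⁅y⁻¹, z⁆⁆⁻¹ = ⁅⁅x, y⁆, z⁆ := by
    rw [commutatorElement_inv, h.comm_inv_left y z, h.comm_inv_left, h.comm_inv_right, inv_inv,
      h.cyc x y z]
  rw [e1, e2, e3] at hw
  set c := ⁅⁅x, y⁆, z⁆ with hc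
  have hz' : z * c * z⁻¹ = c := by rw [hz.eq, mul_inv_cancel_right]
  have hy' : y * c * y⁻¹ = c := by rw [hy.eq, mul_inv_cancel_right]
  have hx' : x * (c * c) * x⁻¹ = c * c := by
    rw [(hx.mul_right hx).eq, mul_inv_cancel_right]
  have h2 : c⁻¹ = c * c := by
    calc c⁻¹ = x * z * c * z⁻¹ * y * c * y⁻¹ * x⁻¹ := hw
      _ = x * ((z * c * z⁻¹) * (y * c * y⁻¹)) * x⁻¹ := by group
      _ = c * c := by rw [hz', hy', hx']
  calc c ^ 3 = c * c * c := by rw [pow_succ, pow_two]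
    _ = c⁻¹ * c := by rw [h2]
    _ = 1 := inv_mul_cancel c

end Levi

theorem nilpotencyClass_le_two_of_triple {N : Type*} [Group N] [Group.IsNilpotent N]
    (h : ∀ x y z : N, ⁅⁅x, y⁆, z⁆ = 1) : Group.nilpotencyClass N ≤ 2 := by
  rw [← Subgroup.upperCentralSeries_eq_top_iff_nilpotencyClass_le, eq_top_iff]
  intro x _
  rw [show (2 : ℕ) = 1 + 1 from rfl, Subgroup.mem_upperCentralSeries_succ_iff]
  intro y
  rw [Subgroup.upperCentralSeries_one, Subgroup.mem_center_iff]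
  intro z
  have := h x y z
  rw [commutatorElement_eq_one_iff_mul_comm] at this
  exact this.symm

end Cfsg.Agent.Lib.Helper7.Ord4
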