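import Mathlib
import Cfsg.Agent.Lib.Helper7.Ord4a

set_option autoImplicit false

/-!
# A class-2 group with two "involutive" automorphisms whose product is fixed point free of order 3

Abstract form of: `N ⊴ G`, `G/N ≅ S₃`, all elements of `G` of order at most 4 ⇒ `N` elementary
abelian.
-/

namespace Cfsg.Agent.Lib.Helper7.Ord4

open scoped commutatorElement

section Cl2

variable {M : Type*} [Group M]

theorem comm_mul_left' (x y z : M) (h : ⁅y, z⁆ ∈ Subgroup.center M) :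
    ⁅x * y, z⁆ = ⁅x, z⁆ * ⁅y, z⁆ := by
  have hc := Subgroup.mem_center_iff.1 h
  have h1 : ⁅x * y, z⁆ = x * ⁅y, z⁆ * x⁻¹ * ⁅x, z⁆ := by
    simp only [commutatorElement_def]; group
  rw [h1, hc x]
  have h2 : ⁅y, z⁆ * x * x⁻¹ * ⁅x, z⁆ = ⁅y, z⁆ * ⁅x, z⁆ := by group
  rw [h2, hc ⁅x, z⁆]

theorem comm_mul_right' (x y z : M) (h : ⁅x, z⁆ ∈ Subgroup.center M) :
    ⁅x, y * z⁆ = ⁅x, y⁆ * ⁅x, z⁆ := by
  have hc := Subgroup.mem_center_iff.1 h
  have h1 : ⁅x, y * z⁆ = ⁅x, y⁆ * (y * ⁅x, z⁆ * y⁻¹) := by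
    simp only [commutatorElement_def]; group
  rw [h1, hc y]
  group

/-- base hypotheses: class at most two, central elements have square one -/
structure Base (M : Type*) [Group M] : Prop where
  hcl : ∀ x y : M, ⁅x, y⁆ ∈ Subgroup.center M
  hZ : ∀ a ∈ Subgroup.center M, a * a = 1

/-- an automorphism `ρ` with `ρ² = 1` and `(ρ n * n)² = 1` -/
structure InvAut (M : Type*) [Group M] (ρ : MulAut M) : Prop where
  sq : ∀ n, ρ (ρ n) = n
  four : ∀ n, (ρ n * n) * (ρ n * n) = 1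

theorem Base.comm_sq (B : Base M) (x y : M) : ⁅x, y⁆ * ⁅x, y⁆ = 1 := B.hZ _ (B.hcl x y)

theorem Base.comm_inv_self (B : Base M) (x y : M) : ⁅x, y⁆⁻¹ = ⁅x, y⁆ :=
  (eq_inv_of_mul_eq_one_left (B.comm_sq x y)).symm

theorem Base.comm_inv_right (B : Base M) (x y : M) : ⁅x, y⁻¹⁆ = ⁅x, y⁆ := by
  have h := comm_mul_right' x y y⁻¹ (B.hcl x y⁻¹)
  rw [mul_inv_cancel] at h
  have h1 : ⁅x, (1 : M)⁆ = 1 := by simp [commutatorElement_def]
  rw [h1] at h
  rw [← B.comm_inv_self x y]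
  exact (eq_inv_of_mul_eq_one_right h.symm)

theorem Base.comm_inv_left (B : Base M) (x y : M) : ⁅x⁻¹, y⁆ = ⁅x, y⁆ := by
  have h := comm_mul_left' x x⁻¹ y (B.hcl x⁻¹ y)
  rw [mul_inv_cancel] at h
  have h1 : ⁅(1 : M), y⁆ = 1 := by simp [commutatorElement_def]
  rw [h1] at h
  rw [← B.comm_inv_self x y]
  exact (eq_inv_of_mul_eq_one_right h.symm)

theorem Base.comm_central_left (B : Base M) {c : M} (hc : c ∈ Subgroup.center M) (u m : M) :
    ⁅c * u, m⁆ = ⁅u, m⁆ := by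
  rw [comm_mul_left' c u m (B.hcl u m)]
  have : ⁅c, m⁆ = 1 := by
    rw [commutatorElement_eq_one_iff_mul_comm]
    exact (Subgroup.mem_center_iff.1 hc m).symm
  rw [this, one_mul]

theorem Base.comm_central_right (B : Base M) {c : M} (hc : c ∈ Subgroup.center M) (u m : M) :
    ⁅m, c * u⁆ = ⁅m, u⁆ := by
  rw [comm_mul_right' m c u (B.hcl m u)]
  have : ⁅m, c⁆ = 1 := by
    rw [commutatorElement_eq_one_iff_mul_comm]
    exact (Subgroup.mem_center_iff.1 hc m)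
  rw [this, one_mul]

theorem commute_of_sq {u w : M} (hu : u * u = 1) (hw : w * w = 1) (huw : (u * w) * (u * w) = 1) :
    Commute u w := by
  have h1 : u * w = (u * w)⁻¹ := eq_inv_of_mul_eq_one_left huw
  have h2 : u⁻¹ = u := (eq_inv_of_mul_eq_one_left hu).symm
  have h3 : w⁻¹ = w := (eq_inv_of_mul_eq_one_left hw).symm
  show u * w = w * u
  rw [h1, mul_inv_rev, h2, h3]

theorem U_comm_same (B : Base M) {ρ : MulAut M} (hρ : InvAut M ρ) (x y : M) :
    Commute (ρ x * x) (ρ y * y) := by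
  have hc := Subgroup.mem_center_iff.1 (B.hcl x (ρ y))
  have hcc := B.comm_sq x (ρ y)
  have e0 : x * ρ y = ⁅x, ρ y⁆ * ρ y * x := by
    rw [commutatorElement_def]; group
  have e1 : (ρ x * x) * (ρ y * y) = ⁅x, ρ y⁆ * (ρ (x * y) * (x * y)) := by
    calc (ρ x * x) * (ρ y * y) = ρ x * (x * ρ y) * y := by group
      _ = ρ x * (⁅x, ρ y⁆ * ρ y * x) * y := by rw [← e0]
      _ = (ρ x * ⁅x, ρ y⁆) * (ρ y * x * y) := by group
      _ = ⁅x, ρ y⁆ * ρ x * (ρ y * x * y) := by rw [hc]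
      _ = ⁅x, ρ y⁆ * (ρ (x * y) * (x * y)) := by rw [map_mul]; group
  apply commute_of_sq (hρ.four x) (hρ.four y)
  rw [e1]
  calc ⁅x, ρ y⁆ * (ρ (x * y) * (x * y)) * (⁅x, ρ y⁆ * (ρ (x * y) * (x * y)))
      = ⁅x, ρ y⁆ * ((ρ (x * y) * (x * y)) * ⁅x, ρ y⁆) * (ρ (x * y) * (x * y)) := by group
    _ = ⁅x, ρ y⁆ * (⁅x, ρ y⁆ * (ρ (x * y) * (x * y))) * (ρ (x * y) * (x * y)) := by rw [hc]
    _ = (⁅x, ρ y⁆ * ⁅x, ρ y⁆) * ((ρ (x * y) * (x * y)) * (ρ (x * y) * (x * y))) := by group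
    _ = 1 := by rw [hcc, hρ.four, one_mul]

theorem fix_cross (B : Base M) {ρ₁ ρ₂ : MulAut M} (h₁ : InvAut M ρ₁) (x y : M) :
    ρ₁ ⁅ρ₁ x * x, ρ₂ y * y⁆ = ⁅ρ₁ x * x, ρ₂ y * y⁆ := by
  set u := ρ₁ x * x with hu
  set u' := ρ₂ y * y with hu'
  have e1 : ρ₁ u = ⁅x, ρ₁ x⁆ * u := by
    rw [hu, map_mul, h₁.sq, commutatorElement_def]; group
  have e2 : ρ₁ u' = (ρ₁ u' * u') * u'⁻¹ := by group
  rw [map_commutatorElement, e1, B.comm_central_left (B.hcl x (ρ₁ x)), e2,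
    comm_mul_right' _ _ _ (B.hcl _ _)]
  have h0 : ⁅u, ρ₁ u' * u'⁆ = 1 := by
    rw [commutatorElement_eq_one_iff_commute]
    exact U_comm_same B h₁ x u'
  rw [h0, one_mul, B.comm_inv_right]

end Cl2

/-- **Main abstract theorem**: a group `M` without 3-torsion, of class at most two, with involutive
automorphisms `σ`, `τ` satisfying `(σ n * n)² = 1 = (τ n * n)²`, and such that `ε = σ τ` satisfies
`x * ε x * ε² x = 1`, is elementary abelian. -/
theorem s3_abstract {M : Type*} [Group M] (σ τ : MulAut M)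
    (hcl : ∀ x y z : M, ⁅⁅x, y⁆, z⁆ = 1)
    (h3 : ∀ f : M, f ^ 3 = 1 → f = 1)
    (hσ : InvAut M σ) (hτ : InvAut M τ)
    (hε : ∀ x, x * σ (τ x) * σ (τ (σ (τ x))) = 1) :
    (∀ x y : M, x * y = y * x) ∧ ∀ a : M, a ^ 2 = 1 := by
  have hfix : ∀ f : M, σ (τ f) = f → f = 1 := by
    intro f hf
    apply h3
    have := hε f
    rw [hf, hf] at this
    rw [pow_succ, pow_two]; exact this
  have hclc : ∀ x y : M, ⁅x, y⁆ ∈ Subgroup.center M := by
    intro x y
    rw [Subgroup.mem_center_iff]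
    intro z
    have := hcl x y z
    rw [commutatorElement_eq_one_iff_mul_comm] at this
    exact this.symm
  -- automorphisms preserve the centre
  have hcen : ∀ (ρ : MulAut M), InvAut M ρ → ∀ a ∈ Subgroup.center M, ρ a ∈ Subgroup.center M := by
    intro ρ hρ a ha
    rw [Subgroup.mem_center_iff] at ha ⊢
    intro m
    have := ha (ρ m)
    have h2 := congrArg ρ this
    rwa [map_mul, map_mul, hρ.sq] at h2
  have hinv : ∀ (ρ : MulAut M), InvAut M ρ → ∀ a ∈ Subgroup.center M, ρ (a * a) = (a * a)⁻¹ := by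
    intro ρ hρ a ha
    have h1 := hρ.four a
    have hc := Subgroup.mem_center_iff.1 ha
    have h2 : ρ (a * a) * (a * a) = 1 := by
      rw [map_mul]
      calc ρ a * ρ a * (a * a) = ρ a * (ρ a * a) * a := by group
        _ = ρ a * (a * ρ a) * a := by rw [hc (ρ a)]
        _ = (ρ a * a) * (ρ a * a) := by group
        _ = 1 := h1
    exact eq_inv_of_mul_eq_one_left h2
  have B : Base M := by
    refine ⟨hclc, ?_⟩
    intro a ha
    apply hfix
    rw [hinv τ hτ a ha, map_inv, hinv σ hσ a ha, inv_inv]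
  -- step 1
  have step1 : ∀ x y : M, Commute (σ x * x) (τ y * y) := by
    intro x y
    rw [← commutatorElement_eq_one_iff_commute]
    apply hfix
    have h1 : σ ⁅σ x * x, τ y * y⁆ = ⁅σ x * x, τ y * y⁆ := fix_cross B hσ x y
    have h2 : τ ⁅τ y * y, σ x * x⁆ = ⁅τ y * y, σ x * x⁆ := fix_cross B hτ y x
    rw [← commutatorElement_inv (σ x * x) (τ y * y), map_inv, inv_inj] at h2
    rw [h2, h1]
  -- the vanishing lemma
  have V : ∀ y : M, (∀ x, Commute (σ x * x) y) → (∀ x, Commute (τ x * x) y) →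
      ∀ x, Commute x y := by
    intro y h1 h2 x
    have hmul : ∀ a b : M, ⁅a * b, y⁆ = ⁅a, y⁆ * ⁅b, y⁆ := fun a b =>
      comm_mul_left' a b y (B.hcl b y)
    have hρ : ∀ (ρ : MulAut M), (∀ x, Commute (ρ x * x) y) → ∀ x, ⁅ρ x, y⁆ = ⁅x, y⁆ := by
      intro ρ hρ x
      have := (commutatorElement_eq_one_iff_commute).2 (hρ x)
      rw [hmul] at this
      rw [eq_inv_of_mul_eq_one_left this, B.comm_inv_self]
    have e1 : ⁅σ (τ x), y⁆ = ⁅x, y⁆ := by rw [hρ σ h1, hρ τ h2]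
    have e2 : ⁅σ (τ (σ (τ x))), y⁆ = ⁅x, y⁆ := by rw [hρ σ h1, hρ τ h2, e1]
    have e3 := congrArg (fun m => ⁅m, y⁆) (hε x)
    simp only [hmul, e1, e2] at e3
    have h1' : ⁅(1 : M), y⁆ = 1 := by simp [commutatorElement_def]
    rw [h1', B.comm_sq, one_mul] at e3
    exact (commutatorElement_eq_one_iff_commute).1 e3
  have step2σ : ∀ y' x : M, Commute x (σ y' * y') := fun y' =>
    V _ (fun x => U_comm_same B hσ x y') (fun x => (step1 y' x).symm)
  have step2τ : ∀ y' x : M, Commute x (τ y' * y') := fun y' =>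
    V _ (fun x => step1 x y') (fun x => U_comm_same B hτ x y')
  have step3 : ∀ x' x : M, Commute x x' := fun x' =>
    V _ (fun x => (step2σ x x').symm) (fun x => (step2τ x x').symm)
  refine ⟨fun x y => (step3 y x).eq, ?_⟩
  intro a
  rw [pow_two]
  apply B.hZ
  rw [Subgroup.mem_center_iff]
  intro m
  exact (step3 a m).eq

end Cfsg.Agent.Lib.Helper7.Ord4
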