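import Mathlib
import Cfsg.Prelude.Def_Transfer
import Cfsg.Agent.Lib.Helper7.Ord4b

set_option autoImplicit false

/-!
# Group-level consequences: elements `d` with `(n d)^3 = 1` for all `n ∈ N`
-/

namespace Cfsg.Agent.Lib.Helper7.Ord4

open scoped commutatorElement

section Cube

variable {G : Type*} [Group G] (N : Subgroup G)

/-- `(n e)^3 = 1` for all `n ∈ N` -/
def CubeHyp (e : G) : Prop := ∀ n ∈ N, (n * e) ^ 3 = 1

variable {N}

theorem CubeHyp.cube_eq_one {e : G} (h : CubeHyp N e) : e ^ 3 = 1 := by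
  simpa using h 1 N.one_mem

theorem CubeHyp.F1 {e : G} (h : CubeHyp N e) {n : G} (hn : n ∈ N) :
    n * (e * n * e⁻¹) * (e * (e * n * e⁻¹) * e⁻¹) = 1 := by
  have h3 := h.cube_eq_one
  have h1 := h n hn
  have e1 : (n * e) ^ 3 = n * (e * n * e⁻¹) * (e * (e * n * e⁻¹) * e⁻¹) * e ^ 3 := by
    simp [pow_succ, mul_assoc]
  rw [e1, h3, mul_one] at h1
  exact h1

theorem CubeHyp.F1' {e : G} (h : CubeHyp N e) {n : G} (hn : n ∈ N) :
    n * (e * n * e⁻¹) * (e⁻¹ * n * e) = 1 := by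
  have h3 := h.cube_eq_one
  have h1 := h.F1 hn
  have e1 : e * (e * n * e⁻¹) * e⁻¹ = e⁻¹ * (e ^ 3 * n * (e ^ 3)⁻¹) * e := by
    simp [pow_succ, mul_assoc]
  rw [e1, h3] at h1
  simpa using h1

theorem CubeHyp.mul_left {e : G} (h : CubeHyp N e) {g : G} (hg : g ∈ N) : CubeHyp N (g * e) := by
  intro n hn
  rw [← mul_assoc]
  exact h (n * g) (N.mul_mem hn hg)

theorem CubeHyp.inv {e : G} (h : CubeHyp N e) : CubeHyp N e⁻¹ := by
  intro n hn
  have h1 := h n⁻¹ (N.inv_mem hn)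
  have e1 : n * e⁻¹ = (e * (n⁻¹ * e) * e⁻¹)⁻¹ := by group
  rw [e1, inv_pow, conj_pow, h1]
  simp

theorem CubeHyp.conj [N.Normal] {e : G} (h : CubeHyp N e) (g : G) : CubeHyp N (g * e * g⁻¹) := by
  intro n hn
  have hn' : g⁻¹ * n * g ∈ N := by
    have := ‹N.Normal›.conj_mem n hn g⁻¹
    simpa using this
  have h1 := h _ hn'
  have e1 : n * (g * e * g⁻¹) = g * (g⁻¹ * n * g * e) * g⁻¹ := by group
  rw [e1, conj_pow, h1]
  simp

theorem CubeHyp.commute_conj {e : G} (h : CubeHyp N e) {n : G} (hn : n ∈ N) :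
    Commute n (e * n * e⁻¹) := by
  have a := h.F1' hn
  have b := h.F1' (N.inv_mem hn)
  have b' : (e⁻¹ * n * e) * ((e * n * e⁻¹) * n) = 1 := by
    rw [show (e⁻¹ * n * e) * ((e * n * e⁻¹) * n) =
      (n⁻¹ * (e * n⁻¹ * e⁻¹) * (e⁻¹ * n⁻¹ * e))⁻¹ by simp [mul_assoc], b, inv_one]
  have a' : n * (e * n * e⁻¹) = (e⁻¹ * n * e)⁻¹ := eq_inv_of_mul_eq_one_left a
  have b'' : (e * n * e⁻¹) * n = (e⁻¹ * n * e)⁻¹ := eq_inv_of_mul_eq_one_right b'
  exact a'.trans b''.symm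

theorem CubeHyp.commute_conj' {e : G} (h : CubeHyp N e) {n g : G} (hn : n ∈ N) (hg : g ∈ N) :
    Commute n (g * (e * n * e⁻¹) * g⁻¹) := by
  have := (h.mul_left hg).commute_conj hn
  rwa [show g * e * n * (g * e)⁻¹ = g * (e * n * e⁻¹) * g⁻¹ by group] at this

theorem CubeHyp.engel {e : G} (h : CubeHyp N e) {n g : G} (hn : n ∈ N) (hg : g ∈ N) :
    Commute n (g * n * g⁻¹) := by
  have h1 := h.commute_conj' hn hg
  have h2 := h.inv.commute_conj' hn hg
  rw [inv_inv] at h2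
  have h3 : g * n * g⁻¹ = ((g * (e * n * e⁻¹) * g⁻¹) * (g * (e⁻¹ * n * e) * g⁻¹))⁻¹ := by
    have a := h.F1' hn
    rw [mul_assoc] at a
    have a' : n = ((e * n * e⁻¹) * (e⁻¹ * n * e))⁻¹ := eq_inv_of_mul_eq_one_left a
    calc g * n * g⁻¹ = g * ((e * n * e⁻¹) * (e⁻¹ * n * e))⁻¹ * g⁻¹ := by rw [← a']
      _ = _ := by group
  rw [h3]
  exact (h1.mul_right h2).inv_right

theorem CubeHyp.engel2 {e : G} (h : CubeHyp N e) : Engel2 ↥N := by
  intro x g
  have := h.engel x.2 g.2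
  apply Subtype.ext
  simpa using this.eq

/-- a normal subgroup without 3-torsion on which some `e` satisfies `(n e)^3 = 1` has class ≤ 2 -/
theorem CubeHyp.triple {e : G} (h : CubeHyp N e) (h3 : ∀ n ∈ N, n ^ 3 = 1 → n = 1)
    (x y z : ↥N) : ⁅⁅x, y⁆, z⁆ = 1 := by
  have := h.engel2.levi x y z
  apply Subtype.ext
  apply h3 _ (⁅⁅x, y⁆, z⁆).2
  have h' := congrArg Subtype.val this
  simpa using h'

end Cube

section S3

variable {G : Type*} [Group G] {N : Subgroup G} [hN : N.Normal]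

theorem invAut_conj {s : G} (hs : s * s = 1) (hs4 : ∀ n ∈ N, (s * n) ^ 4 = 1) :
    InvAut ↥N (MulAut.conjNormal s) := by
  have hsi : s⁻¹ = s := inv_eq_of_mul_eq_one_left hs
  constructor
  · intro n
    apply Subtype.ext
    simp only [MulAut.conjNormal_apply]
    calc s * (s * (n : G) * s⁻¹) * s⁻¹ = (s * s) * n * (s * s)⁻¹ := by group
      _ = n := by rw [hs]; simp
  · intro n
    apply Subtype.ext
    simp only [MulAut.conjNormal_apply, Subgroup.coe_mul, Subgroup.coe_one]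
    have := hs4 n n.2
    rw [hsi]
    rw [← this]
    simp [pow_succ, mul_assoc]

theorem elemAb_of_S3 {d t : G} (hd : CubeHyp N d) (ht : t * t = 1) (htd : t * d * t⁻¹ = d⁻¹)
    (ht4 : ∀ n ∈ N, (t * n) ^ 4 = 1) (h3 : ∀ n ∈ N, n ^ 3 = 1 → n = 1) :
    Cfsg.IsElementaryAbelian 2 N := by
  have hti : t⁻¹ = t := inv_eq_of_mul_eq_one_left ht
  have hd3 := hd.cube_eq_one
  -- the second involution
  have ht' : (d * t * d⁻¹) * (d * t * d⁻¹) = 1 := by
    calc (d * t * d⁻¹) * (d * t * d⁻¹) = d * (t * t) * d⁻¹ := by group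
      _ = 1 := by rw [ht]; simp
  have ht4' : ∀ n ∈ N, ((d * t * d⁻¹) * n) ^ 4 = 1 := by
    intro n hn
    have hn' : d⁻¹ * n * d ∈ N := by
      have := hN.conj_mem n hn d⁻¹
      simpa using this
    have h1 := ht4 _ hn'
    have e1 : (d * t * d⁻¹) * n = d * (t * (d⁻¹ * n * d)) * d⁻¹ := by group
    rw [e1, conj_pow, h1]; simp
  have htt' : t * (d * t * d⁻¹) = d := by
    calc t * (d * t * d⁻¹) = (t * d * t⁻¹) * (t * t) * d⁻¹ := by group
      _ = d⁻¹ * d⁻¹ := by rw [htd, ht, mul_one]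
      _ = d * (d ^ 3)⁻¹ := by group
      _ = d := by rw [hd3]; simp
  have hσ : InvAut ↥N (MulAut.conjNormal t) := invAut_conj ht ht4
  have hτ : InvAut ↥N (MulAut.conjNormal (d * t * d⁻¹)) := invAut_conj ht' ht4'
  have hε : ∀ x : ↥N, x * (MulAut.conjNormal t) ((MulAut.conjNormal (d * t * d⁻¹)) x) *
      (MulAut.conjNormal t) ((MulAut.conjNormal (d * t * d⁻¹))
        ((MulAut.conjNormal t) ((MulAut.conjNormal (d * t * d⁻¹)) x))) = 1 := by
    intro x
    apply Subtype.ext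
    simp only [MulAut.conjNormal_apply, Subgroup.coe_mul, Subgroup.coe_one]
    have h1 := hd.F1 x.2
    have e1 : ∀ m : G, t * ((d * t * d⁻¹) * m * (d * t * d⁻¹)⁻¹) * t⁻¹ =
        (t * (d * t * d⁻¹)) * m * (t * (d * t * d⁻¹))⁻¹ := by intro m; group
    rw [e1, e1, htt']
    exact h1
  have h3' : ∀ f : ↥N, f ^ 3 = 1 → f = 1 := by
    intro f hf
    apply Subtype.ext
    apply h3 _ f.2
    have := congrArg Subtype.val hf
    simpa using this
  obtain ⟨hcomm, hsq⟩ := s3_abstract (MulAut.conjNormal t) (MulAut.conjNormal (d * t * d⁻¹))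
    (hd.triple h3) h3' hσ hτ hε
  refine ⟨⟨⟨hcomm⟩⟩, ?_⟩
  intro a ha
  have := hsq ⟨a, ha⟩
  have h' := congrArg Subtype.val this
  simpa using h'

end S3

end Cfsg.Agent.Lib.Helper7.Ord4
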