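import Mathlib
import Cfsg.Agent.Lib.Helper7.Ord4c

set_option autoImplicit false

/-!
# No `C₃ × C₃` acting with all nonidentity elements fixed point free; the hypothesis bundle
-/

namespace Cfsg.Agent.Lib.Helper7.Ord4

open scoped commutatorElement

theorem c3sq_abstract {A : Type*} [CommGroup A] (a b : MulAut A) (hab : ∀ v, a (b v) = b (a v))
    (ha : ∀ v, v * a v * a (a v) = 1) (hb : ∀ v, v * b v * b (b v) = 1)
    (h1 : ∀ v, a v = b v → v = 1) (h2 : ∀ v, a (b v) = v → v = 1) (v : A) : v = 1 := by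
  have hb3 : ∀ v, b (b (b v)) = v := by
    intro v
    have e1 := hb v
    have e2 := hb (b v)
    have e1' : v = (b v * b (b v))⁻¹ := eq_inv_of_mul_eq_one_left (by rw [← mul_assoc]; exact e1)
    have e2' : b (b (b v)) = (b v * b (b v))⁻¹ := eq_inv_of_mul_eq_one_right e2
    rw [e2', ← e1']
  have k1 : a (b v) * a (b (b v)) = (a v)⁻¹ := by
    rw [← map_mul, ← map_inv]
    congr 1
    exact eq_inv_of_mul_eq_one_right (by rw [← mul_assoc]; exact hb v)
  have k2 : a (a v) * v = (a v)⁻¹ := by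
    apply eq_inv_of_mul_eq_one_right
    rw [← ha v]; ac_rfl
  have hw : a v * (b (b v))⁻¹ = 1 := by
    apply h1
    rw [map_mul, map_mul, map_inv, map_inv, hb3, ← hab v, ← div_eq_mul_inv, ← div_eq_mul_inv,
      div_eq_div_iff_mul_eq_mul, k2, k1]
  have hav : a v = b (b v) := mul_inv_eq_one.mp hw
  apply h2
  rw [hab, hav, hb3]

section Cube

variable {G : Type*} [Group G] {N : Subgroup G}

theorem CubeHyp.eq_one_of_fixed {e : G} (h : CubeHyp N e) (h3 : ∀ n ∈ N, n ^ 3 = 1 → n = 1)
    {u : G} (hu : u ∈ N) (hfix : e * u * e⁻¹ = u) : u = 1 := by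
  apply h3 u hu
  have := h.F1 hu
  rw [hfix, hfix] at this
  rw [pow_succ, pow_two]; exact this

/-- if commuting `x`, `z` and `z⁻¹ x`, `x z` all act "fixed point freely of order three" on the
normal subgroup `N`, then the centre of `N` is trivial -/
theorem center_trivial_of_c3sq [hN : N.Normal] {x z : G} (hxz : x * z = z * x)
    (hx : CubeHyp N x) (hz : CubeHyp N z) (h1 : CubeHyp N (z⁻¹ * x)) (h2 : CubeHyp N (x * z))
    (h3 : ∀ n ∈ N, n ^ 3 = 1 → n = 1) {v : G} (hv : v ∈ N) (hvc : ∀ n ∈ N, n * v = v * n) :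
    v = 1 := by
  set A : Subgroup G := N ⊓ Subgroup.centralizer (N : Set G) with hA
  have hcomm : ∀ u ∈ A, ∀ w ∈ A, u * w = w * u := by
    intro u hu w hw
    exact (Subgroup.mem_centralizer_iff.mp hu.2 w hw.1).symm
  letI : CommGroup ↥A :=
    { (inferInstance : Group ↥A) with
      mul_comm := fun u w => Subtype.ext (hcomm u u.2 w w.2) }
  have hvA : v ∈ A := ⟨hv, Subgroup.mem_centralizer_iff.mpr hvc⟩
  have key := c3sq_abstract (A := ↥A) (MulAut.conjNormal x) (MulAut.conjNormal z) ?_ ?_ ?_ ?_ ?_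
    ⟨v, hvA⟩
  · exact congrArg Subtype.val key
  · intro u
    apply Subtype.ext
    simp only [MulAut.conjNormal_apply]
    calc x * (z * (u : G) * z⁻¹) * x⁻¹ = (x * z) * u * (x * z)⁻¹ := by group
      _ = (z * x) * u * (z * x)⁻¹ := by rw [hxz]
      _ = z * (x * u * x⁻¹) * z⁻¹ := by group
  · intro u
    apply Subtype.ext
    simp only [MulAut.conjNormal_apply, Subgroup.coe_mul, Subgroup.coe_one]
    exact hx.F1 u.2.1
  · intro u
    apply Subtype.ext
    simp only [MulAut.conjNormal_apply, Subgroup.coe_mul, Subgroup.coe_one]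
    exact hz.F1 u.2.1
  · intro u hu
    apply Subtype.ext
    have hu' := congrArg Subtype.val hu
    simp only [MulAut.conjNormal_apply] at hu'
    apply h1.eq_one_of_fixed h3 u.2.1
    calc z⁻¹ * x * (u : G) * (z⁻¹ * x)⁻¹ = z⁻¹ * (x * u * x⁻¹) * z := by group
      _ = z⁻¹ * (z * u * z⁻¹) * z := by rw [hu']
      _ = u := by group
  · intro u hu
    apply Subtype.ext
    have hu' := congrArg Subtype.val hu
    simp only [MulAut.conjNormal_apply] at hu'
    apply h2.eq_one_of_fixed h3 u.2.1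
    calc x * z * (u : G) * (x * z)⁻¹ = x * (z * u * z⁻¹) * x⁻¹ := by group
      _ = u := hu'

end Cube

/-- the hypothesis of the theorem, in usable form -/
structure Hyp (G : Type*) [Group G] : Prop where
  ord : ∀ g : G, g ^ 4 = 1 ∨ g ^ 3 = 1
  no6 : ∀ a b : G, Commute a b → orderOf a = 2 → orderOf b = 3 → False
  ex2 : ∃ g : G, orderOf g = 2
  ex3 : ∃ g : G, orderOf g = 3
  ex4 : ∃ g : G, orderOf g = 4

theorem hyp_of_range {G : Type*} [Group G]
    (h : Set.range (orderOf : G → ℕ) = {k : ℕ | 1 ≤ k ∧ k ≤ 4}) : Hyp G := by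
  have hle : ∀ g : G, 1 ≤ orderOf g ∧ orderOf g ≤ 4 := by
    intro g
    have : orderOf g ∈ Set.range (orderOf : G → ℕ) := ⟨g, rfl⟩
    rw [h] at this
    exact this
  have hex : ∀ k : ℕ, 1 ≤ k → k ≤ 4 → ∃ g : G, orderOf g = k := by
    intro k h1 h4
    have : k ∈ Set.range (orderOf : G → ℕ) := by rw [h]; exact ⟨h1, h4⟩
    exact this
  refine ⟨?_, ?_, hex 2 (by norm_num) (by norm_num), hex 3 (by norm_num) (by norm_num),
    hex 4 (by norm_num) (by norm_num)⟩
  · intro g
    obtain ⟨h1, h4⟩ := hle g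
    have h5 : orderOf g = 1 ∨ orderOf g = 2 ∨ orderOf g = 3 ∨ orderOf g = 4 := by omega
    rcases h5 with h5 | h5 | h5 | h5
    · left; rw [orderOf_eq_one_iff] at h5; rw [h5, one_pow]
    · left
      have := pow_orderOf_eq_one g
      rw [h5] at this
      rw [show (4 : ℕ) = 2 * 2 from rfl, pow_mul, this, one_pow]
    · right
      have := pow_orderOf_eq_one g
      rwa [h5] at this
    · left
      have := pow_orderOf_eq_one g
      rwa [h5] at this
  · intro a b hab ha hb
    have := hab.orderOf_mul_eq_mul_orderOf_of_coprime (by rw [ha, hb]; norm_num)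
    rw [ha, hb] at this
    have := (hle (a * b)).2
    omega

namespace Hyp

variable {G : Type*} [Group G] (H : Hyp G)

include H in
theorem eq_one_of_pow {g : G} (h4 : g ^ 4 = 1) (h3 : g ^ 3 = 1) : g = 1 := by
  have : g ^ 4 = g ^ 3 * g := pow_succ g 3
  rw [h4, h3, one_mul] at this
  exact this.symm

include H in
/-- a nontrivial 2-element does not commute with a nontrivial 3-element -/
theorem no_comm {a b : G} (hab : Commute a b) (ha : a ^ 4 = 1) (ha1 : a ≠ 1) (hb : b ^ 3 = 1)
    (hb1 : b ≠ 1) : False := by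
  haveI : Fact (Nat.Prime 3) := ⟨Nat.prime_three⟩
  haveI : Fact (Nat.Prime 2) := ⟨Nat.prime_two⟩
  have hob : orderOf b = 3 := orderOf_eq_prime hb hb1
  by_cases h2 : a ^ 2 = 1
  · exact H.no6 a b hab (orderOf_eq_prime h2 ha1) hob
  · have h4 : (a ^ 2) ^ 2 = 1 := by rw [← pow_mul]; exact ha
    exact H.no6 (a ^ 2) b (hab.pow_left 2) (orderOf_eq_prime h4 h2) hob

include H in
/-- every prime divisor of `|G|` is `2` or `3` -/
theorem prime_dvd_card [Finite G] {p : ℕ} (hp : p.Prime) (hdvd : p ∣ Nat.card G) : p = 2 ∨ p = 3 := by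
  haveI : Fact p.Prime := ⟨hp⟩
  obtain ⟨g, hg⟩ := exists_prime_orderOf_dvd_card' p hdvd
  have h := H.ord g
  have : p ∣ 4 ∨ p ∣ 3 := by
    rcases h with h | h
    · left; rw [← hg]; exact orderOf_dvd_of_pow_eq_one h
    · right; rw [← hg]; exact orderOf_dvd_of_pow_eq_one h
  rcases this with h | h
  · left
    have : p ∣ 2 ^ 2 := by simpa using h
    exact (Nat.prime_dvd_prime_iff_eq hp Nat.prime_two).mp (hp.dvd_of_dvd_pow this)
  · right
    exact (Nat.prime_dvd_prime_iff_eq hp Nat.prime_three).mp h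

include H in
theorem card_eq [Finite G] : ∃ a b : ℕ, Nat.card G = 2 ^ a * 3 ^ b := by
  have hn : Nat.card G ≠ 0 := Nat.card_pos.ne'
  refine ⟨(Nat.card G).factorization 2, (ordCompl[2] (Nat.card G)).primeFactorsList.length, ?_⟩
  have h1 := Nat.ordProj_mul_ordCompl_eq_self (Nat.card G) 2
  have hm0 : ordCompl[2] (Nat.card G) ≠ 0 := (Nat.ordCompl_pos 2 hn).ne'
  have h2 : ordCompl[2] (Nat.card G) = 3 ^ (ordCompl[2] (Nat.card G)).primeFactorsList.length := by
    apply Nat.eq_prime_pow_of_unique_prime_dvd hm0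
    intro d hd hdvd
    rcases H.prime_dvd_card hd (hdvd.trans (Nat.ordCompl_dvd _ _)) with h | h
    · exfalso
      rw [h] at hdvd
      exact Nat.not_dvd_ordCompl Nat.prime_two hn hdvd
    · exact h
  rw [← h2]
  exact h1.symm

end Hyp

end Cfsg.Agent.Lib.Helper7.Ord4
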