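import Mathlib
import Cfsg.Agent.Lib.Helper7.SameOrd1

set_option autoImplicit false

/-!
# Groups whose same-order counts take the values `1` and `n` only: arithmetic consequences.
-/

namespace Cfsg.Agent.Lib.Helper7.SameOrd

variable {G : Type*} [Group G] [Finite G] {n : ℕ}

/-- the standing hypothesis: every same-order count is `0`, `1` or `n`. -/
def TwoVal (G : Type*) [Group G] (n : ℕ) : Prop := ∀ m, s G m = 0 ∨ s G m = 1 ∨ s G m = n

theorem TwoVal.of_gt_two (hv : TwoVal G n) {m : ℕ} (hm : 2 < m) (hpos : 0 < s G m) :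
    s G m = n := by
  rcases hv m with h | h | h
  · omega
  · rcases le_two_of_s_eq_one h with h1 | h1 <;> omega
  · exact h

theorem dvd_sets_prime {p : ℕ} (hp : p.Prime) : ∀ m, m ∣ p ↔ m ∈ ({1, p} : Finset ℕ) := by
  intro m
  rw [Nat.dvd_prime hp]
  simp

theorem dvd_sets_prime_sq {p : ℕ} (hp : p.Prime) :
    ∀ m, m ∣ p ^ 2 ↔ m ∈ ({1, p, p ^ 2} : Finset ℕ) := by
  intro m
  rw [Nat.dvd_prime_pow hp]
  simp only [Finset.mem_insert, Finset.mem_singleton]
  constructor
  · rintro ⟨k, hk, rfl⟩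
    interval_cases k <;> simp
  · rintro (h | h | h)
    · exact ⟨0, by omega, by rw [h, pow_zero]⟩
    · exact ⟨1, by omega, by rw [h, pow_one]⟩
    · exact ⟨2, le_refl _, h⟩

theorem dvd_sets_mul {p q : ℕ} (hp : p.Prime) (hq : q.Prime) :
    ∀ m, m ∣ p * q ↔ m ∈ ({1, p, q, p * q} : Finset ℕ) := by
  intro m
  simp only [Finset.mem_insert, Finset.mem_singleton]
  constructor
  · intro h
    obtain ⟨a, b, ha, hb, rfl⟩ := (Nat.dvd_mul).mp h
    rcases (Nat.dvd_prime hp).mp ha with rfl | rfl <;>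
    rcases (Nat.dvd_prime hq).mp hb with rfl | rfl <;> simp
  · rintro (h | h | h | h) <;> subst h
    · exact one_dvd _
    · exact dvd_mul_right _ _
    · exact dvd_mul_left _ _
    · exact dvd_refl _

theorem dvd_sets_four : ∀ m, m ∣ 4 ↔ m ∈ ({1, 2, 4} : Finset ℕ) := by
  intro m
  constructor
  · intro h
    have := Nat.le_of_dvd (by norm_num) h
    interval_cases m <;> simp_all
  · intro h
    simp only [Finset.mem_insert, Finset.mem_singleton] at h
    rcases h with rfl | rfl | rfl <;> norm_num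

theorem dvd_sets_eight : ∀ m, m ∣ 8 ↔ m ∈ ({1, 2, 4, 8} : Finset ℕ) := by
  intro m
  constructor
  · intro h
    have := Nat.le_of_dvd (by norm_num) h
    interval_cases m <;> simp_all
  · intro h
    simp only [Finset.mem_insert, Finset.mem_singleton] at h
    rcases h with rfl | rfl | rfl | rfl <;> norm_num

theorem dvd_sets_four_mul {p : ℕ} (hp : p.Prime) :
    ∀ m, m ∣ 4 * p ↔ m ∈ ({1, 2, 4, p, 2 * p, 4 * p} : Finset ℕ) := by
  intro m
  simp only [Finset.mem_insert, Finset.mem_singleton]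
  constructor
  · intro h
    obtain ⟨a, b, ha, hb, rfl⟩ := (Nat.dvd_mul).mp h
    have ha' := (dvd_sets_four a).mp ha
    simp only [Finset.mem_insert, Finset.mem_singleton] at ha'
    rcases ha' with rfl | rfl | rfl <;>
    rcases (Nat.dvd_prime hp).mp hb with rfl | rfl <;> simp
  · rintro (h | h | h | h | h | h) <;> subst h
    · exact one_dvd _
    · exact Dvd.intro (2 * p) (by ring)
    · exact dvd_mul_right _ _
    · exact dvd_mul_left _ _
    · exact Dvd.intro 2 (by ring)
    · exact dvd_refl _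

section arith

variable (hv : TwoVal G n) (hn1 : n ≠ 1)
include hv

/-- odd primes dividing the order: `s p = n` and `p ∣ 1 + n`. -/
theorem TwoVal.odd_prime {p : ℕ} (hp : p.Prime) (hp2 : p ≠ 2) (hpG : p ∣ Nat.card G) :
    s G p = n ∧ p ∣ 1 + n := by
  have hp3 : 2 < p := lt_of_le_of_ne hp.two_le (Ne.symm hp2)
  have h1 := hv.of_gt_two hp3 (s_prime_pos hp hpG)
  refine ⟨h1, ?_⟩
  have h2 := frobenius_sum (G := G) p hpG _ (dvd_sets_prime hp)
  rw [Finset.sum_insert (by simp; omega), Finset.sum_singleton, s_one, h1] at h2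
  exact h2

/-- no elements of order `p²` for odd `p`. -/
theorem TwoVal.no_prime_sq {p : ℕ} (hp : p.Prime) (hp2 : p ≠ 2) : s G (p ^ 2) = 0 := by
  by_contra hcon
  have hpos : 0 < s G (p ^ 2) := Nat.pos_of_ne_zero hcon
  have hp3 : 2 < p := lt_of_le_of_ne hp.two_le (Ne.symm hp2)
  have hp4 : 2 < p ^ 2 := by nlinarith
  have h1 := hv.of_gt_two hp4 hpos
  have hd := dvd_card_of_s_pos hpos
  have hpG : p ∣ Nat.card G := (dvd_pow_self p (by norm_num)).trans hd
  obtain ⟨h2, h3⟩ := hv.odd_prime hp hp2 hpG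
  have h4 := frobenius_sum (G := G) (p ^ 2) hd _ (dvd_sets_prime_sq hp)
  have hne1 : (1 : ℕ) ∉ ({p, p ^ 2} : Finset ℕ) := by
    simp only [Finset.mem_insert, Finset.mem_singleton, not_or]
    exact ⟨by omega, by omega⟩
  have hne2 : p ∉ ({p ^ 2} : Finset ℕ) := by
    simp only [Finset.mem_singleton]
    nlinarith
  rw [Finset.sum_insert hne1, Finset.sum_insert hne2, Finset.sum_singleton, s_one, h1, h2] at h4
  have h5 : p ∣ 1 + (n + n) := (dvd_pow_self p (by norm_num)).trans h4
  have h6 : p ∣ n := by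
    have := (Nat.dvd_sub h5 h3)
    have e : 1 + (n + n) - (1 + n) = n := by omega
    rwa [e] at this
  have h7 : p ∣ 1 := by
    have := Nat.dvd_sub h3 h6
    have e : 1 + n - n = 1 := by omega
    rwa [e] at this
  exact hp.one_lt.ne' (Nat.dvd_one.mp h7)

/-- at most one odd prime divides the order -/
theorem TwoVal.odd_prime_unique {p q : ℕ} (hp : p.Prime) (hq : q.Prime) (hp2 : p ≠ 2)
    (hq2 : q ≠ 2) (hpG : p ∣ Nat.card G) (hqG : q ∣ Nat.card G) : p = q := by
  by_contra hpq
  have hp3 : 2 < p := lt_of_le_of_ne hp.two_le (Ne.symm hp2)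
  have hq3 : 2 < q := lt_of_le_of_ne hq.two_le (Ne.symm hq2)
  obtain ⟨h1, h2⟩ := hv.odd_prime hp hp2 hpG
  obtain ⟨h3, -⟩ := hv.odd_prime hq hq2 hqG
  have hcop : Nat.Coprime p q := (Nat.coprime_primes hp hq).mpr hpq
  have hd : p * q ∣ Nat.card G := hcop.mul_dvd_of_dvd_of_dvd hpG hqG
  have h4 := frobenius_sum (G := G) (p * q) hd _ (dvd_sets_mul hp hq)
  have hpq1 : p < p * q := by nlinarith
  have hpq2 : q < p * q := by nlinarith
  have hne1 : (1 : ℕ) ∉ ({p, q, p * q} : Finset ℕ) := by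
    simp only [Finset.mem_insert, Finset.mem_singleton, not_or]
    exact ⟨by omega, by omega, by omega⟩
  have hne2 : p ∉ ({q, p * q} : Finset ℕ) := by
    simp only [Finset.mem_insert, Finset.mem_singleton, not_or]
    exact ⟨hpq, by omega⟩
  have hne3 : q ∉ ({p * q} : Finset ℕ) := by
    simp only [Finset.mem_singleton]
    omega
  rw [Finset.sum_insert hne1, Finset.sum_insert hne2, Finset.sum_insert hne3,
    Finset.sum_singleton, s_one, h1, h3] at h4
  have h5 : p ∣ 1 + (n + (n + s G (p * q))) := (dvd_mul_right p q).trans h4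
  rcases Nat.eq_zero_or_pos (s G (p * q)) with h6 | h6
  · rw [h6] at h5
    have h7 : p ∣ n := by
      have := Nat.dvd_sub h5 h2
      have e : 1 + (n + (n + 0)) - (1 + n) = n := by omega
      rwa [e] at this
    have h8 : p ∣ 1 := by
      have := Nat.dvd_sub h2 h7
      have e : 1 + n - n = 1 := by omega
      rwa [e] at this
    exact hp.one_lt.ne' (Nat.dvd_one.mp h8)
  · have h7 := hv.of_gt_two (by omega : 2 < p * q) h6
    rw [h7] at h5
    have h8 : p ∣ 3 * (1 + n) := Dvd.dvd.mul_left h2 3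
    have h9 : p ∣ 2 := by
      have := Nat.dvd_sub h8 h5
      have e : 3 * (1 + n) - (1 + (n + (n + n))) = 2 := by omega
      rwa [e] at this
    have := Nat.le_of_dvd (by norm_num) h9
    omega

end arith

end Cfsg.Agent.Lib.Helper7.SameOrd
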