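import Mathlib
import Cfsg.Agent.Lib.Helper7.SameOrd2

set_option autoImplicit false

/-!
# Same-order counts `{1, n}`: the prime `2`.
-/

namespace Cfsg.Agent.Lib.Helper7.SameOrd

variable {G : Type*} [Group G] [Finite G] {n : ℕ}

section arith

variable (hv : TwoVal G n)
include hv

/-- if `s 2 = n` then there are no elements of order `4` -/
theorem TwoVal.no_four_of_two (h2 : s G 2 = n) : s G 4 = 0 := by
  by_contra hcon
  have hpos : 0 < s G 4 := Nat.pos_of_ne_zero hcon
  have h1 := hv.of_gt_two (by norm_num : 2 < 4) hpos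
  have hd := dvd_card_of_s_pos hpos
  have h4 := frobenius_sum (G := G) 4 hd _ dvd_sets_four
  rw [Finset.sum_insert (by decide), Finset.sum_insert (by decide), Finset.sum_singleton,
    s_one, h1, h2] at h4
  omega

/-- if `s 2 = n` (with `2 ∣ |G|`) then no odd prime divides `|G|` -/
theorem TwoVal.no_odd_of_two (h2 : s G 2 = n) (h2G : 2 ∣ Nat.card G) {p : ℕ} (hp : p.Prime)
    (hp2 : p ≠ 2) (hpG : p ∣ Nat.card G) : False := by
  have hp3 : 2 < p := lt_of_le_of_ne hp.two_le (Ne.symm hp2)
  obtain ⟨h1, h3⟩ := hv.odd_prime hp hp2 hpG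
  have hcop : Nat.Coprime 2 p := (Nat.coprime_primes Nat.prime_two hp).mpr (Ne.symm hp2)
  have hd : 2 * p ∣ Nat.card G := hcop.mul_dvd_of_dvd_of_dvd h2G hpG
  have h4 := frobenius_sum (G := G) (2 * p) hd _ (dvd_sets_mul Nat.prime_two hp)
  have hne1 : (1 : ℕ) ∉ ({2, p, 2 * p} : Finset ℕ) := by
    simp only [Finset.mem_insert, Finset.mem_singleton, not_or]
    exact ⟨by omega, by omega, by omega⟩
  have hne2 : 2 ∉ ({p, 2 * p} : Finset ℕ) := by
    simp only [Finset.mem_insert, Finset.mem_singleton, not_or]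
    exact ⟨by omega, by omega⟩
  have hne3 : p ∉ ({2 * p} : Finset ℕ) := by
    simp only [Finset.mem_singleton]
    omega
  rw [Finset.sum_insert hne1, Finset.sum_insert hne2, Finset.sum_insert hne3,
    Finset.sum_singleton, s_one, h1, h2] at h4
  have h5 : p ∣ 1 + (n + (n + s G (2 * p))) := (dvd_mul_left p 2).trans h4
  rcases Nat.eq_zero_or_pos (s G (2 * p)) with h6 | h6
  · rw [h6] at h5
    have h7 : p ∣ n := by
      have := Nat.dvd_sub h5 h3
      have e : 1 + (n + (n + 0)) - (1 + n) = n := by omega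
      rwa [e] at this
    have h8 : p ∣ 1 := by
      have := Nat.dvd_sub h3 h7
      have e : 1 + n - n = 1 := by omega
      rwa [e] at this
    exact hp.one_lt.ne' (Nat.dvd_one.mp h8)
  · have h7 := hv.of_gt_two (by omega : 2 < 2 * p) h6
    rw [h7] at h5
    have h8 : p ∣ 3 * (1 + n) := Dvd.dvd.mul_left h3 3
    have h9 : p ∣ 2 := by
      have := Nat.dvd_sub h8 h5
      have e : 3 * (1 + n) - (1 + (n + (n + n))) = 2 := by omega
      rwa [e] at this
    have := Nat.le_of_dvd (by norm_num) h9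
    omega

/-- if `s 2 = 1` and there are elements of order `4` then `4 ∣ 2 + n` -/
theorem TwoVal.four_dvd (h2 : s G 2 = 1) (h4 : 0 < s G 4) : 4 ∣ 2 + n := by
  have h1 := hv.of_gt_two (by norm_num : 2 < 4) h4
  have hd := dvd_card_of_s_pos h4
  have h5 := frobenius_sum (G := G) 4 hd _ dvd_sets_four
  rw [Finset.sum_insert (by decide), Finset.sum_insert (by decide), Finset.sum_singleton,
    s_one, h1, h2] at h5
  omega

/-- if `s 2 = 1` and there are elements of order `4` then there are none of order `8` -/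
theorem TwoVal.no_eight (h2 : s G 2 = 1) (h4 : 0 < s G 4) : s G 8 = 0 := by
  by_contra hcon
  have hpos : 0 < s G 8 := Nat.pos_of_ne_zero hcon
  have h1 := hv.of_gt_two (by norm_num : 2 < 4) h4
  have h8 := hv.of_gt_two (by norm_num : 2 < 8) hpos
  have hd := dvd_card_of_s_pos hpos
  have h5 := frobenius_sum (G := G) 8 hd _ dvd_sets_eight
  rw [Finset.sum_insert (by decide), Finset.sum_insert (by decide), Finset.sum_insert (by decide),
    Finset.sum_singleton, s_one, h1, h2, h8] at h5
  have h6 := hv.four_dvd h2 h4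
  omega

/-- if `s 2 = 1` and there are elements of order `4` then no odd prime divides `|G|` -/
theorem TwoVal.no_odd_of_four (h2 : s G 2 = 1) (h4 : 0 < s G 4) {p : ℕ} (hp : p.Prime)
    (hp2 : p ≠ 2) (hpG : p ∣ Nat.card G) : False := by
  have hp3 : 2 < p := lt_of_le_of_ne hp.two_le (Ne.symm hp2)
  obtain ⟨h1, h3⟩ := hv.odd_prime hp hp2 hpG
  have h44 := hv.of_gt_two (by norm_num : 2 < 4) h4
  have hd4 := dvd_card_of_s_pos h4
  have hcop : Nat.Coprime 4 p := by
    have : Nat.Coprime (2 ^ 2) p :=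
      Nat.Coprime.pow_left 2 ((Nat.coprime_primes Nat.prime_two hp).mpr (Ne.symm hp2))
    simpa using this
  have hd : 4 * p ∣ Nat.card G := hcop.mul_dvd_of_dvd_of_dvd hd4 hpG
  have hd2 : 2 * p ∣ Nat.card G := (Dvd.intro 2 (by ring : 2 * p * 2 = 4 * p)).trans hd
  -- first: `s (2p) = n`
  have h5 := frobenius_sum (G := G) (2 * p) hd2 _ (dvd_sets_mul Nat.prime_two hp)
  have hne1 : (1 : ℕ) ∉ ({2, p, 2 * p} : Finset ℕ) := by
    simp only [Finset.mem_insert, Finset.mem_singleton, not_or]
    exact ⟨by omega, by omega, by omega⟩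
  have hne2 : 2 ∉ ({p, 2 * p} : Finset ℕ) := by
    simp only [Finset.mem_insert, Finset.mem_singleton, not_or]
    exact ⟨by omega, by omega⟩
  have hne3 : p ∉ ({2 * p} : Finset ℕ) := by
    simp only [Finset.mem_singleton]
    omega
  rw [Finset.sum_insert hne1, Finset.sum_insert hne2, Finset.sum_insert hne3,
    Finset.sum_singleton, s_one, h1, h2] at h5
  have h6 : p ∣ 1 + (1 + (n + s G (2 * p))) := (dvd_mul_left p 2).trans h5
  have h2p : s G (2 * p) = n := by
    rcases Nat.eq_zero_or_pos (s G (2 * p)) with h7 | h7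
    · exfalso
      rw [h7] at h6
      have h8 : p ∣ 1 := by
        have := Nat.dvd_sub h6 h3
        have e : 1 + (1 + (n + 0)) - (1 + n) = 1 := by omega
        rwa [e] at this
      exact hp.one_lt.ne' (Nat.dvd_one.mp h8)
    · exact hv.of_gt_two (by omega : 2 < 2 * p) h7
  -- now `4p`
  have h7 := frobenius_sum (G := G) (4 * p) hd _ (dvd_sets_four_mul hp)
  have hm1 : (1 : ℕ) ∉ ({2, 4, p, 2 * p, 4 * p} : Finset ℕ) := by
    simp only [Finset.mem_insert, Finset.mem_singleton, not_or]
    exact ⟨by omega, by omega, by omega, by omega, by omega⟩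
  have hm2 : 2 ∉ ({4, p, 2 * p, 4 * p} : Finset ℕ) := by
    simp only [Finset.mem_insert, Finset.mem_singleton, not_or]
    exact ⟨by omega, by omega, by omega, by omega⟩
  have hodd : p % 2 = 1 := by
    rcases hp.eq_two_or_odd with h | h
    · exact absurd h hp2
    · exact h
  have hm3 : 4 ∉ ({p, 2 * p, 4 * p} : Finset ℕ) := by
    simp only [Finset.mem_insert, Finset.mem_singleton, not_or]
    exact ⟨by omega, by omega, by omega⟩
  have hm4 : p ∉ ({2 * p, 4 * p} : Finset ℕ) := by
    simp only [Finset.mem_insert, Finset.mem_singleton, not_or]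
    exact ⟨by omega, by omega⟩
  have hm5 : 2 * p ∉ ({4 * p} : Finset ℕ) := by
    simp only [Finset.mem_singleton]
    omega
  rw [Finset.sum_insert hm1, Finset.sum_insert hm2, Finset.sum_insert hm3, Finset.sum_insert hm4,
    Finset.sum_insert hm5, Finset.sum_singleton, s_one, h1, h2, h44, h2p] at h7
  have h8 : p ∣ 1 + (1 + (n + (n + (n + s G (4 * p))))) := (dvd_mul_left p 4).trans h7
  rcases Nat.eq_zero_or_pos (s G (4 * p)) with h9 | h9
  · rw [h9] at h8
    have h10 : p ∣ 3 * (1 + n) := Dvd.dvd.mul_left h3 3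
    have h11 : p ∣ 1 := by
      have := Nat.dvd_sub h10 h8
      have e : 3 * (1 + n) - (1 + (1 + (n + (n + (n + 0))))) = 1 := by omega
      rwa [e] at this
    exact hp.one_lt.ne' (Nat.dvd_one.mp h11)
  · have h10 := hv.of_gt_two (by omega : 2 < 4 * p) h9
    rw [h10] at h8
    have h11 : p ∣ 4 * (1 + n) := Dvd.dvd.mul_left h3 4
    have h12 : p ∣ 2 := by
      have := Nat.dvd_sub h11 h8
      have e : 4 * (1 + n) - (1 + (1 + (n + (n + (n + n))))) = 2 := by omega
      rwa [e] at this
    have := Nat.le_of_dvd (by norm_num) h12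
    omega

end arith

end Cfsg.Agent.Lib.Helper7.SameOrd
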