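import Mathlib
import Cfsg.Agent.Lib.Helper7.SameOrd3
import Cfsg.Agent.Lib.Lead.UniqueOrderP5

set_option autoImplicit false

/-!
# Same-order counts `{1, n}`: structural consequences.
-/

namespace Cfsg.Agent.Lib.Helper7.SameOrd

open Cfsg.Agent.Lib.Lead

variable {G : Type*} [Group G] [Finite G]

/-- every divisor of an element order is an element order -/
theorem s_pos_of_dvd_orderOf {x : G} {d : ℕ} (hd : d ∣ orderOf x) : 0 < s G d := by
  obtain ⟨e, he⟩ := hd
  have hpos : 0 < orderOf x := orderOf_pos x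
  have he0 : e ≠ 0 := by
    rintro rfl
    rw [mul_zero] at he
    omega
  have h1 : orderOf (x ^ e) = orderOf x / e := orderOf_pow_of_dvd he0 (Dvd.intro_left d he.symm)
  rw [he, Nat.mul_div_cancel _ (Nat.pos_of_ne_zero he0)] at h1
  exact (s_pos_iff d).mpr ⟨x ^ e, h1⟩

/-- a group in which only the prime `p` divides the order and without elements of order `p²` -/
theorem pgroup_of_unique_prime [Nontrivial G] {p : ℕ} (hp : p.Prime)
    (hprime : ∀ q : ℕ, q.Prime → q ∣ Nat.card G → q = p) (hsq : s G (p ^ 2) = 0) :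
    IsPGroup p G ∧ Monoid.exponent G = p := by
  haveI := Fact.mk hp
  have hcard : Nat.card G = p ^ (Nat.card G).primeFactorsList.length :=
    Nat.eq_prime_pow_of_unique_prime_dvd Nat.card_pos.ne' (fun {d} hd hdG => hprime d hd hdG)
  have hpow : ∀ g : G, g ^ p = 1 := by
    intro g
    have h1 : orderOf g ∣ p ^ (Nat.card G).primeFactorsList.length := by
      rw [← hcard]; exact orderOf_dvd_natCard g
    obtain ⟨j, -, hj⟩ := (Nat.dvd_prime_pow hp).mp h1
    have hj1 : j ≤ 1 := by
      by_contra hcon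
      have h2 : p ^ 2 ∣ orderOf g := by
        rw [hj]
        exact pow_dvd_pow p (by omega)
      have := s_pos_of_dvd_orderOf h2
      omega
    rw [← orderOf_dvd_iff_pow_eq_one, hj]
    calc p ^ j ∣ p ^ 1 := pow_dvd_pow p hj1
      _ = p := pow_one p
  refine ⟨IsPGroup.of_card hcard, ?_⟩
  have h1 : Monoid.exponent G ∣ p := Monoid.exponent_dvd_of_forall_pow_eq_one hpow
  rcases (Nat.dvd_prime hp).mp h1 with h | h
  · exfalso
    rw [Monoid.exp_eq_one_iff] at h
    exact not_subsingleton G h
  · exact h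

/-- with `s 2 = 1` the involution is unique, hence there is a unique subgroup of order `2` -/
theorem uniqueOrderP_two (h2 : s G 2 = 1) : UniqueOrderP 2 G := by
  intro H K hH hK
  have hsub : Subsingleton {g : G // orderOf g = 2} := by
    have := h2
    unfold s at this
    exact (Nat.card_eq_one_iff_unique.mp this).1
  have key : ∀ L : Subgroup G, Nat.card L = 2 → ∃ x : G, orderOf x = 2 ∧ L = Subgroup.zpowers x := by
    intro L hL
    have hne : L ≠ ⊥ := by
      intro h
      rw [h, Subgroup.card_bot] at hL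
      omega
    obtain ⟨⟨x, hxL⟩, hx1⟩ := (Subgroup.ne_bot_iff_exists_ne_one.mp hne : ∃ a : ↥L, a ≠ 1)
    have hox : orderOf x ∣ 2 := by
      have := orderOf_dvd_natCard (⟨x, hxL⟩ : ↥L)
      rw [hL] at this
      rwa [← Subgroup.orderOf_mk x hxL]
    have hox2 : orderOf x = 2 := by
      rcases (Nat.dvd_prime Nat.prime_two).mp hox with h | h
      · exfalso
        apply hx1
        exact Subtype.ext (orderOf_eq_one_iff.mp h)
      · exact h
    refine ⟨x, hox2, ?_⟩
    symm
    apply Subgroup.eq_of_le_of_card_ge (Subgroup.zpowers_le.mpr hxL)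
    rw [Nat.card_zpowers, hox2, hL]
  obtain ⟨x, hx, rfl⟩ := key H hH
  obtain ⟨y, hy, rfl⟩ := key K hK
  have : (⟨x, hx⟩ : {g : G // orderOf g = 2}) = ⟨y, hy⟩ := Subsingleton.elim _ _
  rw [Subtype.mk.injEq] at this
  rw [this]

/-- a `2`-group with a unique involution, elements of order `4` and none of order `8` -/
theorem two_group_structure (hG : IsPGroup 2 G) (h2 : s G 2 = 1) (h4 : 0 < s G 4)
    (h8 : s G 8 = 0) : Nonempty (G ≃* QuaternionGroup 2) ∨ (IsCyclic G ∧ Nat.card G = 4) := by
  haveI : Fact (Nat.Prime 2) := ⟨Nat.prime_two⟩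
  have hno8 : ∀ x : G, ¬ 8 ∣ orderOf x := by
    intro x hx
    have := s_pos_of_dvd_orderOf hx
    omega
  rcases (uniqueOrderP_two h2).main hG with hc | ⟨-, k, ⟨e⟩⟩
  · right
    refine ⟨hc, ?_⟩
    obtain ⟨g, hg⟩ := hc.exists_generator
    have hog : orderOf g = Nat.card G := orderOf_eq_card_of_forall_mem_zpowers hg
    obtain ⟨a, ha⟩ := (IsPGroup.iff_card.mp hG)
    have h4G : 4 ∣ Nat.card G := dvd_card_of_s_pos h4
    have h8G : ¬ 8 ∣ Nat.card G := by rw [← hog]; exact hno8 g
    rw [ha] at h4G h8G ⊢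
    have ha2 : 2 ≤ a := by
      by_contra hcon
      have : a = 0 ∨ a = 1 := by omega
      rcases this with rfl | rfl <;> norm_num at h4G
    have ha3 : a < 3 := by
      by_contra hcon
      apply h8G
      calc (8 : ℕ) = 2 ^ 3 := by norm_num
        _ ∣ 2 ^ a := pow_dvd_pow 2 (by omega)
    have : a = 2 := by omega
    rw [this]
    norm_num
  · -- generalized quaternion of order `4 * 2 ^ k`
    have h1 : orderOf (e.symm (QuaternionGroup.a 1)) = 2 * 2 ^ k := by
      rw [MulEquiv.orderOf_eq, QuaternionGroup.orderOf_a_one]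
    have hk : k ≤ 1 := by
      by_contra hcon
      apply hno8 (e.symm (QuaternionGroup.a 1))
      rw [h1]
      calc (8 : ℕ) = 2 * 2 ^ 2 := by norm_num
        _ ∣ 2 * 2 ^ k := Nat.mul_dvd_mul_left 2 (pow_dvd_pow 2 (by omega))
    have : k = 0 ∨ k = 1 := by omega
    rcases this with rfl | rfl
    · right
      rw [pow_zero] at e
      haveI := QuaternionGroup.quaternionGroup_one_isCyclic
      refine ⟨isCyclic_of_surjective e.symm e.symm.surjective, ?_⟩
      rw [Nat.card_congr e.toEquiv, Nat.card_eq_fintype_card, QuaternionGroup.card]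
      norm_num
    · left
      rw [pow_one] at e
      exact ⟨e⟩

end Cfsg.Agent.Lib.Helper7.SameOrd
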