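import Mathlib
import Cfsg.Prelude.Def_Transfer
import Cfsg.Agent.Lib.Helper7.Ord4d
import Cfsg.Agent.Lib.Helper7.SameOrd4

set_option autoImplicit false

/-!
# Case B: a nontrivial maximal normal 3-subgroup
-/

namespace Cfsg.Agent.Lib.Helper7.Ord4

open Cfsg.Agent.Lib.Helper7.SameOrd

variable {G : Type*} [Group G] [Finite G]

theorem caseB (H : Hyp G) (M : Subgroup G) [hM : M.Normal] (hM3 : ∀ m ∈ M, m ^ 3 = 1)
    (hMne : M ≠ ⊥)
    (hmax : ∀ K : Subgroup G, K.Normal → (∀ k ∈ K, k ^ 3 = 1) → K ≤ M) :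
    Cfsg.IsElementaryAbelian 3 M ∧
      ((IsCyclic (G ⧸ M) ∧ M.index = 4) ∨ Nonempty (G ⧸ M ≃* QuaternionGroup 2)) := by
  obtain ⟨z, hz⟩ := H.ex2
  have hz2 : z * z = 1 := by
    have := pow_orderOf_eq_one z
    rwa [hz, pow_two] at this
  have hz1 : z ≠ 1 := by
    intro h; rw [h, orderOf_one] at hz; norm_num at hz
  have hzi : z⁻¹ = z := inv_eq_of_mul_eq_one_left hz2
  have hz4 : z ^ 4 = 1 := by
    rw [show (4 : ℕ) = 2 * 2 from rfl, pow_mul, pow_two z, hz2, one_pow]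
  -- elements with square and cube one are trivial
  have h23 : ∀ u : G, u ^ 2 = 1 → u ^ 3 = 1 → u = 1 := by
    intro u h2 h3
    have : u ^ 3 = u ^ 2 * u := pow_succ u 2
    rw [h3, h2, one_mul] at this
    exact this.symm
  have h23Q : ∀ u : G ⧸ M, u ^ 2 = 1 → u ^ 3 = 1 → u = 1 := by
    intro u h2 h3
    have : u ^ 3 = u ^ 2 * u := pow_succ u 2
    rw [h3, h2, one_mul] at this
    exact this.symm
  have hnotM : ∀ t : G, t * t = 1 → t ≠ 1 → t ∉ M := by
    intro t ht2 ht1 htM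
    exact ht1 (h23 t (by rw [pow_two]; exact ht2) (hM3 t htM))
  -- involutions invert M
  have hinv : ∀ t : G, t * t = 1 → t ≠ 1 → ∀ m ∈ M, t * m * t⁻¹ = m⁻¹ := by
    intro t ht2 ht1 m hm
    have hti : t⁻¹ = t := inv_eq_of_mul_eq_one_left ht2
    have htM := hnotM t ht2 ht1
    have hu : t * m * t⁻¹ * m ∈ M := M.mul_mem (hM.conj_mem m hm t) hm
    have h4 : (t * m) ^ 4 = 1 := by
      rcases H.ord (t * m) with h | h
      · exact h
      · exfalso
        have h1 : ((t * m : G) : G ⧸ M) = (t : G ⧸ M) := by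
          rw [QuotientGroup.mk_mul, (QuotientGroup.eq_one_iff m).mpr hm, mul_one]
        have h2 : (t : G ⧸ M) ^ 3 = 1 := by
          rw [← h1, ← QuotientGroup.mk_pow, h, QuotientGroup.mk_one]
        have h3 : (t : G ⧸ M) ^ 2 = 1 := by
          rw [← QuotientGroup.mk_pow, pow_two, ht2, QuotientGroup.mk_one]
        exact htM ((QuotientGroup.eq_one_iff t).mp (h23Q _ h3 h2))
    have hu2 : (t * m * t⁻¹ * m) ^ 2 = 1 := by
      rw [hti, ← h4]; simp [pow_succ, mul_assoc]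
    exact eq_inv_of_mul_eq_one_left (h23 _ hu2 (hM3 _ hu))
  -- M is abelian
  have hcomm : ∀ m ∈ M, ∀ n ∈ M, m * n = n * m := by
    intro m hm n hn
    have h1 := hinv z hz2 hz1 (m * n) (M.mul_mem hm hn)
    have h2 := hinv z hz2 hz1 m hm
    have h3 := hinv z hz2 hz1 n hn
    have h4 : z * (m * n) * z⁻¹ = (z * m * z⁻¹) * (z * n * z⁻¹) := by group
    rw [h4, h2, h3, mul_inv_rev] at h1
    have := congrArg (·⁻¹) h1
    simp only [mul_inv_rev, inv_inv] at this
    exact this.symm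
  obtain ⟨m₀, hm₀, hm₀1⟩ : ∃ m ∈ M, m ≠ 1 := by
    by_contra hcon
    apply hMne
    rw [Subgroup.eq_bot_iff_forall]
    intro x hx
    by_contra hx1
    exact hcon ⟨x, hx, hx1⟩
  -- the centralizer of M is M
  have hC : Subgroup.centralizer (M : Set G) ≤ M := by
    apply hmax _ inferInstance
    intro c hc
    rcases H.ord c with h | h
    · by_cases hc1 : c = 1
      · rw [hc1, one_pow]
      · exfalso
        have hcm : Commute c m₀ := (Subgroup.mem_centralizer_iff.mp hc m₀ hm₀).symm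
        exact H.no_comm hcm h hc1 (hM3 m₀ hm₀) hm₀1
    · exact h
  -- products of two elements inverting M lie in M
  have hprod : ∀ t t' : G, (∀ m ∈ M, t * m * t⁻¹ = m⁻¹) → (∀ m ∈ M, t' * m * t'⁻¹ = m⁻¹) →
      t * t' ∈ M := by
    intro t t' ht ht'
    apply hC
    rw [Subgroup.mem_centralizer_iff]
    intro m hm
    have h1 := ht' m hm
    have h2 := ht m⁻¹ (M.inv_mem hm)
    rw [inv_inv] at h2
    have h3 : (t * t') * m * (t * t')⁻¹ = m := by
      calc (t * t') * m * (t * t')⁻¹ = t * (t' * m * t'⁻¹) * t⁻¹ := by group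
        _ = m := by rw [h1, h2]
    exact (mul_inv_eq_iff_eq_mul.mp h3).symm
  -- decomposition G = M C_G(z)
  have hdec : ∀ g : G, ∃ c : G, Commute c z ∧ (g : G ⧸ M) = (c : G ⧸ M) := by
    intro g
    have ht2 : (g * z * g⁻¹) * (g * z * g⁻¹) = 1 := by
      calc (g * z * g⁻¹) * (g * z * g⁻¹) = g * (z * z) * g⁻¹ := by group
        _ = 1 := by rw [hz2]; simp
    have ht1 : g * z * g⁻¹ ≠ 1 := by
      intro h; apply hz1
      have : z = g⁻¹ * (g * z * g⁻¹) * g := by group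
      rw [this, h]; simp
    set w := z * (g * z * g⁻¹) with hw
    have hwM : w ∈ M := hprod _ _ (hinv z hz2 hz1) (hinv _ ht2 ht1)
    have hzw : z * w * z = w⁻¹ := by
      have := hinv z hz2 hz1 w hwM
      rwa [hzi] at this
    have hw3 : w ^ 3 = 1 := hM3 w hwM
    have hgz : g * z * g⁻¹ = z⁻¹ * w := by rw [hw]; group
    have e1 : z⁻¹ * w = w⁻¹ * z⁻¹ := by
      rw [hzi, ← hzw, mul_assoc (z * w), hz2, mul_one]
    refine ⟨w⁻¹ * g, ?_, ?_⟩
    · have h1 : (w⁻¹ * g) * z * (w⁻¹ * g)⁻¹ = z := by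
        calc (w⁻¹ * g) * z * (w⁻¹ * g)⁻¹ = w⁻¹ * (g * z * g⁻¹) * w := by group
          _ = w⁻¹ * (z⁻¹ * w) * w := by rw [hgz]
          _ = w⁻¹ * (w⁻¹ * z⁻¹) * w := by rw [e1]
          _ = w⁻¹ * w⁻¹ * (z⁻¹ * w) := by group
          _ = w⁻¹ * w⁻¹ * (w⁻¹ * z⁻¹) := by rw [e1]
          _ = (w ^ 3)⁻¹ * z⁻¹ := by simp [pow_succ, mul_assoc]
          _ = z := by rw [hw3, hzi]; simp
      exact mul_inv_eq_iff_eq_mul.mp h1
    · rw [QuotientGroup.mk_mul, QuotientGroup.mk_inv, (QuotientGroup.eq_one_iff w).mpr hwM]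
      simp
  have hC4 : ∀ c : G, Commute c z → c ^ 4 = 1 := by
    intro c hc
    rcases H.ord c with h | h
    · exact h
    · by_cases hc1 : c = 1
      · rw [hc1, one_pow]
      · exfalso
        exact H.no_comm hc.symm hz4 hz1 h hc1
  have hQ4 : ∀ q : G ⧸ M, q ^ 4 = 1 := by
    intro q
    induction q using QuotientGroup.induction_on with
    | H g =>
      obtain ⟨c, hc, hgc⟩ := hdec g
      rw [hgc, ← QuotientGroup.mk_pow, hC4 c hc, QuotientGroup.mk_one]
  have hQ : IsPGroup 2 (G ⧸ M) := fun q => ⟨2, by simpa using hQ4 q⟩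
  have h8 : s (G ⧸ M) 8 = 0 := by
    rw [s_eq_zero_iff]
    rintro ⟨q, hq⟩
    have := orderOf_dvd_of_pow_eq_one (hQ4 q)
    rw [hq] at this
    norm_num at this
  have h4 : 0 < s (G ⧸ M) 4 := by
    rw [s_pos_iff]
    obtain ⟨g₄, hg₄⟩ := H.ex4
    refine ⟨(g₄ : G ⧸ M), ?_⟩
    have hnot : ¬ (g₄ : G ⧸ M) ^ 2 ^ 1 = 1 := by
      intro h
      rw [pow_one, ← QuotientGroup.mk_pow, QuotientGroup.eq_one_iff] at h
      have h3 := hM3 _ h
      have h2 : (g₄ ^ 2) ^ 2 = 1 := by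
        rw [← pow_mul]
        have := pow_orderOf_eq_one g₄
        rwa [hg₄] at this
      have h1 := h23 _ h2 h3
      have := orderOf_dvd_of_pow_eq_one h1
      rw [hg₄] at this
      norm_num at this
    have := orderOf_eq_prime_pow (p := 2) (n := 1) hnot (by simpa using hQ4 (g₄ : G ⧸ M))
    simpa using this
  have hzQ : orderOf (z : G ⧸ M) = 2 := by
    haveI : Fact (Nat.Prime 2) := ⟨Nat.prime_two⟩
    apply orderOf_eq_prime
    · rw [← QuotientGroup.mk_pow, pow_two, hz2, QuotientGroup.mk_one]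
    · intro h
      exact hnotM z hz2 hz1 ((QuotientGroup.eq_one_iff z).mp h)
  have h2 : s (G ⧸ M) 2 = 1 := by
    unfold s
    rw [Nat.card_eq_one_iff_unique]
    refine ⟨⟨?_⟩, ⟨⟨(z : G ⧸ M), hzQ⟩⟩⟩
    have huniq : ∀ q : G ⧸ M, orderOf q = 2 → q = (z : G ⧸ M) := by
      intro q hq
      induction q using QuotientGroup.induction_on with
      | H g =>
        obtain ⟨c, hc, hgc⟩ := hdec g
        rw [hgc] at hq ⊢
        have hc4 := hC4 c hc
        have hq2 : (c : G ⧸ M) ^ 2 = 1 := by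
          have := pow_orderOf_eq_one (c : G ⧸ M)
          rwa [hq] at this
        have hc2M : c ^ 2 ∈ M := by
          rw [← QuotientGroup.eq_one_iff, QuotientGroup.mk_pow]; exact hq2
        have hc2 : c ^ 2 = 1 := by
          apply h23 _ _ (hM3 _ hc2M)
          rw [← pow_mul]; exact hc4
        have hc1 : c ≠ 1 := by
          intro h
          rw [h, QuotientGroup.mk_one, orderOf_one] at hq
          norm_num at hq
        have hcc : c * c = 1 := by rw [← pow_two]; exact hc2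
        have hczM : c * z ∈ M := hprod _ _ (hinv c hcc hc1) (hinv z hz2 hz1)
        have hcz2 : (c * z) ^ 2 = 1 := by
          rw [hc.mul_pow, hc2, pow_two, hz2, one_mul]
        have hcz : c * z = 1 := h23 _ hcz2 (hM3 _ hczM)
        have : c = z := by
          have := eq_inv_of_mul_eq_one_left hcz
          rwa [hzi] at this
        rw [this]
    intro a b
    apply Subtype.ext
    rw [huniq a.1 a.2, huniq b.1 b.2]
  refine ⟨⟨⟨⟨fun a b => Subtype.ext (hcomm a a.2 b b.2)⟩⟩, hM3⟩, ?_⟩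
  rcases two_group_structure hQ h2 h4 h8 with h | ⟨hc, hcard⟩
  · right; exact h
  · left
    refine ⟨hc, ?_⟩
    rw [Subgroup.index_eq_card]; exact hcard

end Cfsg.Agent.Lib.Helper7.Ord4
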