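import Mathlib
import Cfsg.Prelude.Def_Transfer
import Cfsg.Agent.Lib.Helper7.Ord4d

set_option autoImplicit false

/-!
# Case A: a nontrivial normal 2-subgroup
-/

namespace Cfsg.Agent.Lib.Helper7.Ord4

open Pointwise

variable {G : Type*} [Group G] [Finite G]

/-- normal `p`-subgroups lie in the normal core of any Sylow `p`-subgroup -/
theorem le_normalCore_sylow {p : ℕ} [Fact p.Prime] (P : Sylow p G) (L : Subgroup G)
    [hL : L.Normal] (hLp : IsPGroup p L) : L ≤ (P : Subgroup G).normalCore := by
  rw [Subgroup.normal_le_normalCore]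
  obtain ⟨Q, hQ⟩ := hLp.exists_le_sylow
  obtain ⟨g, hg⟩ := MulAction.exists_smul_eq G P Q
  intro x hx
  have h1 : g * x * g⁻¹ ∈ L := hL.conj_mem x hx g
  have h2 : g * x * g⁻¹ ∈ (Q : Subgroup G) := hQ h1
  rw [← hg] at h2
  have h3 : g * x * g⁻¹ ∈ MulAut.conj g • (P : Subgroup G) := by
    rw [← Sylow.pointwise_smul_def]; exact h2
  rw [Subgroup.mem_pointwise_smul_iff_inv_smul_mem] at h3
  simpa [MulAut.smul_def, mul_assoc] using h3

theorem caseA (H : Hyp G) (L : Subgroup G) [hL : L.Normal] (hL2 : IsPGroup 2 L) (hLne : L ≠ ⊥) :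
    ∃ (N : Subgroup G) (_ : N.Normal),
      (IsPGroup 2 ↥N ∧ Monoid.exponent ↥N = 4 ∧ Group.nilpotencyClass ↥N ≤ 2 ∧ N.index = 3) ∨
      (Cfsg.IsElementaryAbelian 2 N ∧ Nonempty (G ⧸ N ≃* Equiv.Perm (Fin 3))) := by
  haveI : Fact (Nat.Prime 2) := ⟨Nat.prime_two⟩
  haveI : Fact (Nat.Prime 3) := ⟨Nat.prime_three⟩
  have T : Sylow 2 G := default
  set N := (T : Subgroup G).normalCore with hNdef
  haveI hNn : N.Normal := Subgroup.normalCore_normal _
  have hLN : L ≤ N := le_normalCore_sylow T L hL2
  have hNT : N ≤ T := Subgroup.normalCore_le _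
  have hN2 : IsPGroup 2 N := T.isPGroup'.to_le hNT
  have hNne : N ≠ ⊥ := fun h => hLne (le_bot_iff.mp (h ▸ hLN))
  have h23 : ∀ u : G, u ^ 2 = 1 → u ^ 3 = 1 → u = 1 := by
    intro u h2 h3
    have : u ^ 3 = u ^ 2 * u := pow_succ u 2
    rw [h3, h2, one_mul] at this
    exact this.symm
  have h23Q : ∀ u : G ⧸ N, u ^ 2 = 1 → u ^ 3 = 1 → u = 1 := by
    intro u h2 h3
    have : u ^ 3 = u ^ 2 * u := pow_succ u 2
    rw [h3, h2, one_mul] at this
    exact this.symm
  have h34Q : ∀ u : G ⧸ N, u ^ 4 = 1 → u ^ 3 = 1 → u = 1 := by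
    intro u h4 h3
    have : u ^ 4 = u ^ 3 * u := pow_succ u 3
    rw [h4, h3, one_mul] at this
    exact this.symm
  have h3N : ∀ n ∈ N, n ^ 3 = 1 → n = 1 := by
    intro n hn h
    obtain ⟨k, hk⟩ := hN2 ⟨n, hn⟩
    have hk' : n ^ (2 ^ k) = 1 := by simpa using congrArg Subtype.val hk
    have h1 : orderOf n ∣ 3 := orderOf_dvd_of_pow_eq_one h
    have h2 : orderOf n ∣ 2 ^ k := orderOf_dvd_of_pow_eq_one hk'
    have cop : Nat.Coprime 3 (2 ^ k) := (by norm_num : Nat.Coprime 3 2).pow_right k
    exact orderOf_eq_one_iff.mp ((Nat.Coprime.coprime_dvd_left h1 cop).eq_one_of_dvd h2)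
  have hN4 : ∀ n ∈ N, n ^ 4 = 1 := by
    intro n hn
    rcases H.ord n with h | h
    · exact h
    · rw [h3N n hn h, one_pow]
  have hcube : ∀ e : G, e ^ 3 = 1 → e ≠ 1 → CubeHyp N e := by
    intro e he3 he1 n hn
    rcases H.ord (n * e) with h | h
    · exfalso
      have h1 : ((n * e : G) : G ⧸ N) = (e : G ⧸ N) := by
        rw [QuotientGroup.mk_mul, (QuotientGroup.eq_one_iff n).mpr hn, one_mul]
      have h4 : (e : G ⧸ N) ^ 4 = 1 := by
        rw [← h1, ← QuotientGroup.mk_pow, h, QuotientGroup.mk_one]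
      have h3 : (e : G ⧸ N) ^ 3 = 1 := by
        rw [← QuotientGroup.mk_pow, he3, QuotientGroup.mk_one]
      exact he1 (h3N e ((QuotientGroup.eq_one_iff e).mp (h34Q _ h4 h3)) he3)
    · exact h
  -- 9 does not divide |G|
  have h9 : ¬ 9 ∣ Nat.card G := by
    intro h9
    obtain ⟨Q, hQ⟩ := Sylow.exists_subgroup_card_pow_prime 3 (n := 2) (by simpa using h9)
    have hQcomm : ∀ a b : Q, a * b = b * a := IsPGroup.commutative_of_card_eq_prime_sq hQ
    have hQ3 : ∀ x ∈ Q, x ^ 3 = 1 := by
      intro x hx
      rcases H.ord x with h | h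
      · have h9' : x ^ 9 = 1 := by
          have := pow_card_eq_one' (G := Q) (x := ⟨x, hx⟩)
          rw [hQ] at this
          simpa using congrArg Subtype.val this
        have : orderOf x = 1 := by
          have h1 : orderOf x ∣ 4 := orderOf_dvd_of_pow_eq_one h
          have h2 : orderOf x ∣ 9 := orderOf_dvd_of_pow_eq_one h9'
          exact (Nat.Coprime.coprime_dvd_left h1 (by norm_num : Nat.Coprime 4 9)).eq_one_of_dvd h2
        rw [orderOf_eq_one_iff.mp this, one_pow]
      · exact h
    obtain ⟨z, hzQ, hz1⟩ : ∃ z ∈ Q, z ≠ 1 := by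
      by_contra hcon
      have : Q = ⊥ := by
        rw [Subgroup.eq_bot_iff_forall]
        intro x hx
        by_contra hx1
        exact hcon ⟨x, hx, hx1⟩
      rw [this, Subgroup.card_bot] at hQ
      norm_num at hQ
    have hz3 := hQ3 z hzQ
    have hoz : orderOf z = 3 := orderOf_eq_prime hz3 hz1
    obtain ⟨x, hxQ, hxz⟩ : ∃ x ∈ Q, x ∉ Subgroup.zpowers z := by
      by_contra hcon
      have hle : Q ≤ Subgroup.zpowers z := by
        intro x hx
        by_contra hx1
        exact hcon ⟨x, hx, hx1⟩
      have := Subgroup.card_le_of_le hle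
      rw [hQ, Nat.card_zpowers, hoz] at this
      norm_num at this
    have hx3 := hQ3 x hxQ
    have hxzc : x * z = z * x := by
      have := hQcomm ⟨x, hxQ⟩ ⟨z, hzQ⟩
      simpa using congrArg Subtype.val this
    have hx1 : x ≠ 1 := fun h => hxz (h ▸ Subgroup.one_mem _)
    have h1 : z⁻¹ * x ≠ 1 := by
      intro h
      apply hxz
      rw [inv_mul_eq_one] at h
      rw [← h]; exact Subgroup.mem_zpowers z
    have h2 : x * z ≠ 1 := by
      intro h
      apply hxz
      rw [mul_eq_one_iff_eq_inv] at h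
      rw [h]; exact Subgroup.inv_mem _ (Subgroup.mem_zpowers z)
    have hcz : Commute z⁻¹ x := (Commute.inv_left (show Commute z x from hxzc.symm))
    have h13 : (z⁻¹ * x) ^ 3 = 1 := by
      rw [hcz.mul_pow, inv_pow, hz3, hx3]; simp
    have h23' : (x * z) ^ 3 = 1 := by
      rw [(show Commute x z from hxzc).mul_pow, hz3, hx3]; simp
    obtain ⟨v, hvN, hvc, hv1⟩ : ∃ v ∈ N, (∀ n ∈ N, n * v = v * n) ∧ v ≠ 1 := by
      haveI : Nontrivial ↥N := (Subgroup.nontrivial_iff_ne_bot N).mpr hNne
      haveI := hN2.center_nontrivial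
      obtain ⟨c, hc⟩ := exists_ne (1 : Subgroup.center ↥N)
      refine ⟨((c : ↥N) : G), c.1.2, ?_, ?_⟩
      · intro n hn
        have := Subgroup.mem_center_iff.mp c.2 ⟨n, hn⟩
        simpa using congrArg Subtype.val this
      · intro h
        apply hc
        apply Subtype.ext
        apply Subtype.ext
        simpa using h
    exact hv1 (center_trivial_of_c3sq hxzc (hcube x hx3 hx1) (hcube z hz3 hz1)
      (hcube _ h13 h1) (hcube _ h23' h2) h3N hvN hvc)
  have h3G : 3 ∣ Nat.card G := by
    obtain ⟨d, hd⟩ := H.ex3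
    rw [← hd]; exact orderOf_dvd_natCard d
  -- the index of T is 3
  have hTidx : (T : Subgroup G).index = 3 := by
    have hm0 : (T : Subgroup G).index ≠ 0 := Subgroup.index_ne_zero_of_finite
    have hmdvd : (T : Subgroup G).index ∣ Nat.card G := Subgroup.index_dvd_card _
    have h2m : ¬ 2 ∣ (T : Subgroup G).index := T.not_dvd_index
    have hpow : (T : Subgroup G).index =
        3 ^ ((T : Subgroup G).index).primeFactorsList.length := by
      apply Nat.eq_prime_pow_of_unique_prime_dvd hm0
      intro q hq hqd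
      rcases H.prime_dvd_card hq (hqd.trans hmdvd) with h | h
      · exact absurd (h ▸ hqd) h2m
      · exact h
    generalize ((T : Subgroup G).index).primeFactorsList.length = k at hpow
    have hk1 : k ≤ 1 := by
      by_contra hk
      apply h9
      have : 3 ^ 2 ∣ 3 ^ k := pow_dvd_pow 3 (by omega)
      exact (by simpa using this : 9 ∣ 3 ^ k).trans (hpow ▸ hmdvd)
    have hk0 : k ≠ 0 := by
      intro hk
      rw [hk, pow_zero] at hpow
      have hcard : Nat.card T = Nat.card G := by
        have := Subgroup.card_mul_index (T : Subgroup G)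
        rw [hpow, mul_one] at this
        exact this
      obtain ⟨a, ha⟩ := IsPGroup.iff_card.mp T.isPGroup'
      rw [← hcard, ha] at h3G
      have := Nat.Prime.dvd_of_dvd_pow Nat.prime_three h3G
      norm_num at this
    have : k = 1 := by omega
    rw [hpow, this, pow_one]
  have hker : (MulAction.toPermHom G (G ⧸ (T : Subgroup G))).ker = N :=
    (Subgroup.normalCore_eq_ker _).symm
  have hcardQ : Nat.card (G ⧸ (T : Subgroup G)) = 3 := by
    rw [← Subgroup.index_eq_card]; exact hTidx
  have hcardP : Nat.card (Equiv.Perm (G ⧸ (T : Subgroup G))) = 6 := by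
    rw [Nat.card_perm, hcardQ]; rfl
  have hidx6 : N.index ∣ 6 := by
    rw [← hker, ← hcardP, Subgroup.index_ker]
    exact Subgroup.card_subgroup_dvd_card _
  have h3idx : 3 ∣ N.index := by
    have h1 := Subgroup.card_mul_index N
    obtain ⟨j, hj⟩ := IsPGroup.iff_card.mp hN2
    rw [← h1, hj] at h3G
    have cop : Nat.Coprime 3 (2 ^ j) := (by norm_num : Nat.Coprime 3 2).pow_right j
    exact cop.dvd_of_dvd_mul_left h3G
  have hidx : N.index = 3 ∨ N.index = 6 := by
    have hle := Nat.le_of_dvd (by norm_num) hidx6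
    generalize N.index = i at *
    interval_cases i <;> omega
  obtain ⟨d, hd⟩ := H.ex3
  have hd3 : d ^ 3 = 1 := by
    have := pow_orderOf_eq_one d
    rwa [hd] at this
  have hd1 : d ≠ 1 := by
    intro h; rw [h, orderOf_one] at hd; norm_num at hd
  have hcd : CubeHyp N d := hcube d hd3 hd1
  refine ⟨N, hNn, ?_⟩
  rcases hidx with hidx | hidx
  · left
    refine ⟨hN2, ?_, ?_, hidx⟩
    · apply Nat.dvd_antisymm
      · apply Monoid.exponent_dvd_of_forall_pow_eq_one
        intro n
        apply Subtype.ext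
        simpa using hN4 n.1 n.2
      · obtain ⟨g₄, hg₄⟩ := H.ex4
        have hg₄N : g₄ ∈ N := by
          rw [← QuotientGroup.eq_one_iff]
          have h4 : (g₄ : G ⧸ N) ^ 4 = 1 := by
            rw [← QuotientGroup.mk_pow, ← hg₄, pow_orderOf_eq_one, QuotientGroup.mk_one]
          have h3 : (g₄ : G ⧸ N) ^ 3 = 1 := by
            have := pow_card_eq_one' (G := G ⧸ N) (x := (g₄ : G ⧸ N))
            rwa [← Subgroup.index_eq_card, hidx] at this
          exact h34Q _ h4 h3
        have : orderOf (⟨g₄, hg₄N⟩ : N) = 4 := by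
          rw [← hg₄]; exact Subgroup.orderOf_mk g₄ hg₄N
        rw [← this]; exact Monoid.order_dvd_exponent _
    · haveI : Group.IsNilpotent ↥N := hN2.isNilpotent
      exact nilpotencyClass_le_two_of_triple (hcd.triple h3N)
  · right
    -- a Sylow 3-subgroup containing d
    have hzd : IsPGroup 3 (Subgroup.zpowers d) := by
      rw [IsPGroup.iff_card]; exact ⟨1, by rw [Nat.card_zpowers, hd, pow_one]⟩
    obtain ⟨P, hP⟩ := hzd.exists_le_sylow
    have hPcard : Nat.card P = 3 := by
      obtain ⟨k, hk⟩ := IsPGroup.iff_card.mp P.isPGroup'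
      have h1 : 3 ∣ Nat.card P := by
        have := Subgroup.card_dvd_of_le hP
        rwa [Nat.card_zpowers, hd] at this
      have hk0 : k ≠ 0 := by
        intro h; rw [hk, h, pow_zero] at h1; norm_num at h1
      have hk1 : k ≤ 1 := by
        by_contra hk2
        apply h9
        have : 3 ^ 2 ∣ 3 ^ k := pow_dvd_pow 3 (by omega)
        have h2 : Nat.card P ∣ Nat.card G := Subgroup.card_subgroup_dvd_card _
        rw [hk] at h2
        exact (by simpa using this : 9 ∣ 3 ^ k).trans h2
      have : k = 1 := by omega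
      rw [hk, this, pow_one]
    have hPeq : (P : Subgroup G) = Subgroup.zpowers d := by
      symm
      apply Subgroup.eq_of_le_of_card_ge hP
      rw [hPcard, Nat.card_zpowers, hd]
    have hdd : d * d = d⁻¹ := by
      apply eq_inv_of_mul_eq_one_left
      rw [← pow_two, ← pow_succ]; exact hd3
    have hex : ∃ t : G, t * t = 1 ∧ t * d * t⁻¹ = d⁻¹ := by
      by_contra hno
      have hNC : Subgroup.normalizer ((P : Subgroup G) : Set G) ≤
          Subgroup.centralizer ((P : Subgroup G) : Set G) := by
        intro h hh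
        have hdP : d ∈ (P : Subgroup G) := hP (Subgroup.mem_zpowers d)
        have h1 : h * d * h⁻¹ ∈ (P : Subgroup G) := (Subgroup.mem_normalizer_iff.mp hh d).mp hdP
        rw [hPeq, Subgroup.mem_zpowers_iff] at h1
        obtain ⟨k, hk⟩ := h1
        have hk' : d ^ (k % 3) = h * d * h⁻¹ := by
          rw [← hk]
          have := zpow_mod_orderOf d k
          rw [hd] at this
          exact_mod_cast this
        have hcases : k % 3 = 0 ∨ k % 3 = 1 ∨ k % 3 = 2 := by omega
        have hcomm_or : h * d * h⁻¹ = d ∨ h * d * h⁻¹ = d⁻¹ := by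
          rcases hcases with h0 | h0 | h0
          · exfalso
            rw [h0, zpow_zero] at hk'
            apply hd1
            have : d = h⁻¹ * (h * d * h⁻¹) * h := by group
            rw [this, ← hk']; simp
          · left; rw [h0, zpow_one] at hk'; exact hk'.symm
          · right; rw [h0] at hk'; rw [← hk', zpow_two]; exact hdd
        rcases hcomm_or with hc | hc
        · rw [hPeq, Subgroup.mem_centralizer_iff]
          intro y hy
          obtain ⟨j, rfl⟩ := Subgroup.mem_zpowers_iff.mp hy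
          have hcm : Commute h d := mul_inv_eq_iff_eq_mul.mp hc
          exact ((hcm.zpow_right j).eq).symm
        · exfalso
          have hh2 : h ^ 2 * d * (h ^ 2)⁻¹ = d := by
            calc h ^ 2 * d * (h ^ 2)⁻¹ = h * (h * d * h⁻¹) * h⁻¹ := by
                  simp [pow_succ, mul_assoc]
              _ = h * d⁻¹ * h⁻¹ := by rw [hc]
              _ = (h * d * h⁻¹)⁻¹ := by group
              _ = d := by rw [hc, inv_inv]
          rcases H.ord h with h4 | h3
          · have hcm : Commute (h ^ 2) d := mul_inv_eq_iff_eq_mul.mp hh2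
            by_cases hh1 : h ^ 2 = 1
            · exact hno ⟨h, by rw [← pow_two]; exact hh1, hc⟩
            · have : (h ^ 2) ^ 4 = 1 := by rw [← pow_mul, mul_comm, pow_mul, h4, one_pow]
              exact H.no_comm hcm this hh1 hd3 hd1
          · have hinv : h ^ 2 = h⁻¹ := by
              apply eq_inv_of_mul_eq_one_left
              rw [← pow_succ]; exact h3
            rw [hinv, inv_inv] at hh2
            have : h * d * h⁻¹ = d := by
              calc h * d * h⁻¹ = h * (h⁻¹ * d * h) * h⁻¹ := by rw [hh2]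
                _ = d := by group
            rw [this] at hc
            have hd2 : d ^ 2 = 1 := by
              rw [pow_two]; exact mul_eq_one_iff_eq_inv.mpr hc
            exact hd1 (h23 d hd2 hd3)
      have hcompl := MonoidHom.ker_transferSylow_isComplement' P hNC
      have hKn : (MonoidHom.transferSylow P hNC).ker.Normal := MonoidHom.normal_ker _
      have hKcard : Nat.card (MonoidHom.transferSylow P hNC).ker * 3 = Nat.card G := by
        have := hcompl.card_mul
        rwa [hPcard] at this
      have h1 := Subgroup.card_mul_index (T : Subgroup G)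
      rw [hTidx] at h1
      have hK2 : IsPGroup 2 (MonoidHom.transferSylow P hNC).ker := by
        have : Nat.card (MonoidHom.transferSylow P hNC).ker = Nat.card T := by omega
        obtain ⟨a, ha⟩ := IsPGroup.iff_card.mp T.isPGroup'
        exact IsPGroup.of_card (this.trans ha)
      have hKN : (MonoidHom.transferSylow P hNC).ker ≤ N := le_normalCore_sylow T _ hK2
      have h2 := Subgroup.card_mul_index N
      rw [hidx] at h2
      have := Subgroup.card_le_of_le hKN
      omega
    obtain ⟨t, ht2, htd⟩ := hex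
    have htN : t ∉ N := by
      intro htN
      have h1 : t * (d * t⁻¹ * d⁻¹) ∈ N := N.mul_mem htN (hNn.conj_mem _ (N.inv_mem htN) d)
      have h2 : t * (d * t⁻¹ * d⁻¹) = d := by
        calc t * (d * t⁻¹ * d⁻¹) = (t * d * t⁻¹) * d⁻¹ := by group
          _ = d⁻¹ * d⁻¹ := by rw [htd]
          _ = (d * d)⁻¹ := by group
          _ = d := by rw [hdd, inv_inv]
      rw [h2] at h1
      exact hd1 (h3N d h1 hd3)
    have ht4 : ∀ n ∈ N, (t * n) ^ 4 = 1 := by
      intro n hn
      rcases H.ord (t * n) with h | h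
      · exact h
      · exfalso
        have h1 : ((t * n : G) : G ⧸ N) = (t : G ⧸ N) := by
          rw [QuotientGroup.mk_mul, (QuotientGroup.eq_one_iff n).mpr hn, mul_one]
        have h3 : (t : G ⧸ N) ^ 3 = 1 := by
          rw [← h1, ← QuotientGroup.mk_pow, h, QuotientGroup.mk_one]
        have h2 : (t : G ⧸ N) ^ 2 = 1 := by
          rw [← QuotientGroup.mk_pow, pow_two, ht2, QuotientGroup.mk_one]
        exact htN ((QuotientGroup.eq_one_iff t).mp (h23Q _ h2 h3))
    have hEA := elemAb_of_S3 hcd ht2 htd ht4 h3N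
    refine ⟨hEA, ?_⟩
    have hsurj : Function.Surjective (MulAction.toPermHom G (G ⧸ (T : Subgroup G))) := by
      rw [← MonoidHom.range_eq_top]
      apply Subgroup.eq_top_of_card_eq
      rw [← Subgroup.index_ker, hker, hidx, hcardP]
    have e1 : G ⧸ N ≃* G ⧸ (MulAction.toPermHom G (G ⧸ (T : Subgroup G))).ker :=
      QuotientGroup.quotientMulEquivOfEq hker.symm
    have e2 := QuotientGroup.quotientKerEquivOfSurjective _ hsurj
    have e3 : (G ⧸ (T : Subgroup G)) ≃ Fin 3 := Finite.equivFinOfCardEq hcardQ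
    exact ⟨(e1.trans e2).trans (Equiv.permCongrHom e3)⟩

end Cfsg.Agent.Lib.Helper7.Ord4
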