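import Mathlib
import Cfsg.Agent.S4040
import Cfsg.Agent.Lib.Helper2.Herstein

set_option autoImplicit false

/-!
Groups in which the elements outside a proper normal subgroup `N` have prime power order and
maximal centralizers: `N` is solvable.
-/

namespace Cfsg.Agent.Lib.Helper7.OutPP

variable {G : Type*} [Group G] [Finite G]

/-- coset counting: if `y ∈ T` and every element of the coset `yN` is `N`-conjugate into `T`,
then every element of `yN` is `N`-conjugate into `T` through a unique coset of `T ∩ N`. -/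
theorem unique_coset (T N : Subgroup G) [N.Normal] (y : G) (hy : y ∈ T)
    (hconj : ∀ z : G, y⁻¹ * z ∈ N → ∃ n ∈ N, n⁻¹ * z * n ∈ T)
    {z : G} (hz : y⁻¹ * z ∈ N) {n m : G} (hn : n ∈ N) (hm : m ∈ N)
    (hnz : n⁻¹ * z * n ∈ T) (hmz : m⁻¹ * z * m ∈ T) : n⁻¹ * m ∈ T := by
  classical
  haveI : Fintype G := Fintype.ofFinite G
  set NF : Finset G := Finset.univ.filter (fun g => g ∈ N) with hNF
  set C : Finset G := Finset.univ.filter (fun g => y⁻¹ * g ∈ N) with hC
  set D : Finset G := Finset.univ.filter (fun g => g ∈ T ∧ g ∈ N) with hD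
  set ρ : G → G → Prop := fun a b => a⁻¹ * b * a ∈ T with hρ
  -- (1) for fixed `a ∈ N` the number of `b ∈ C` with `ρ a b` is `#D`
  have h1 : ∀ a ∈ NF, (C.filter (fun b => ρ a b)).card = D.card := by
    intro a ha
    have haN : a ∈ N := (Finset.mem_filter.mp ha).2
    refine Finset.card_nbij' (fun b => y⁻¹ * (a⁻¹ * b * a)) (fun w => a * (y * w) * a⁻¹) ?_ ?_ ?_ ?_
    · intro b hb
      have hb' := Finset.mem_filter.mp (Finset.mem_coe.mp hb)
      have hbC : y⁻¹ * b ∈ N := (Finset.mem_filter.mp hb'.1).2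
      have hbT : a⁻¹ * b * a ∈ T := hb'.2
      refine Finset.mem_coe.mpr (Finset.mem_filter.mpr ⟨Finset.mem_univ _, T.mul_mem (T.inv_mem hy) hbT, ?_⟩)
      show y⁻¹ * (a⁻¹ * b * a) ∈ N
      have e : y⁻¹ * (a⁻¹ * b * a) = (y⁻¹ * a⁻¹ * y⁻¹⁻¹) * (y⁻¹ * b) * a := by group
      rw [e]
      exact N.mul_mem (N.mul_mem (‹N.Normal›.conj_mem _ (N.inv_mem haN) _) hbC) haN
    · intro w hw
      have hw' := (Finset.mem_filter.mp (Finset.mem_coe.mp hw)).2
      refine Finset.mem_coe.mpr (Finset.mem_filter.mpr ⟨Finset.mem_filter.mpr ⟨Finset.mem_univ _, ?_⟩, ?_⟩)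
      · show y⁻¹ * (a * (y * w) * a⁻¹) ∈ N
        have e : y⁻¹ * (a * (y * w) * a⁻¹) = (y⁻¹ * a * y⁻¹⁻¹) * w * a⁻¹ := by group
        rw [e]
        exact N.mul_mem (N.mul_mem (‹N.Normal›.conj_mem _ haN _) hw'.2) (N.inv_mem haN)
      · show a⁻¹ * (a * (y * w) * a⁻¹) * a ∈ T
        have e : a⁻¹ * (a * (y * w) * a⁻¹) * a = y * w := by group
        rw [e]
        exact T.mul_mem hy hw'.1
    · intro b _
      show a * (y * (y⁻¹ * (a⁻¹ * b * a))) * a⁻¹ = b
      group
    · intro w _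
      show y⁻¹ * (a⁻¹ * (a * (y * w) * a⁻¹) * a) = w
      group
  -- (2) for fixed `b ∈ C` the number of `a ∈ N` with `ρ a b` is at least `#D`
  have himg : ∀ a : G, a ∈ N → ∀ b : G, a⁻¹ * b * a ∈ T →
      D.image (fun t => a * t) ⊆ NF.filter (fun a' => ρ a' b) := by
    intro a haN b hab w hw
    obtain ⟨t, ht, rfl⟩ := Finset.mem_image.mp hw
    have ht' := (Finset.mem_filter.mp ht).2
    refine Finset.mem_filter.mpr ⟨Finset.mem_filter.mpr ⟨Finset.mem_univ _, N.mul_mem haN ht'.2⟩, ?_⟩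
    show (a * t)⁻¹ * b * (a * t) ∈ T
    have e : (a * t)⁻¹ * b * (a * t) = t⁻¹ * (a⁻¹ * b * a) * t := by group
    rw [e]
    exact T.mul_mem (T.mul_mem (T.inv_mem ht'.1) hab) ht'.1
  have hcardimg : ∀ a : G, (D.image (fun t => a * t)).card = D.card := fun a =>
    Finset.card_image_of_injective _ (mul_right_injective a)
  have h2 : ∀ b ∈ C, D.card ≤ (NF.filter (fun a => ρ a b)).card := by
    intro b hb
    have hbC : y⁻¹ * b ∈ N := (Finset.mem_filter.mp hb).2
    obtain ⟨a, haN, hab⟩ := hconj b hbC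
    rw [← hcardimg a]
    exact Finset.card_le_card (himg a haN b hab)
  -- (3) `#C = #NF`
  have h3 : C.card = NF.card := by
    refine Finset.card_nbij' (fun b => y⁻¹ * b) (fun a => y * a) ?_ ?_ ?_ ?_
    · intro b hb
      exact Finset.mem_coe.mpr (Finset.mem_filter.mpr ⟨Finset.mem_univ _,
        (Finset.mem_filter.mp (Finset.mem_coe.mp hb)).2⟩)
    · intro a ha
      refine Finset.mem_coe.mpr (Finset.mem_filter.mpr ⟨Finset.mem_univ _, ?_⟩)
      show y⁻¹ * (y * a) ∈ N
      have e : y⁻¹ * (y * a) = a := by group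
      rw [e]
      exact (Finset.mem_filter.mp (Finset.mem_coe.mp ha)).2
    · intro b _
      show y * (y⁻¹ * b) = b
      group
    · intro a _
      show y⁻¹ * (y * a) = a
      group
  -- (4) double counting
  have h4 : ∑ a ∈ NF, (C.filter (fun b => ρ a b)).card = ∑ b ∈ C, (NF.filter (fun a => ρ a b)).card :=
    Finset.sum_card_bipartiteAbove_eq_sum_card_bipartiteBelow ρ
  have h5 : ∑ a ∈ NF, (C.filter (fun b => ρ a b)).card = ∑ _b ∈ C, D.card := by
    rw [Finset.sum_congr rfl h1, Finset.sum_const, Finset.sum_const, h3]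
  have h6 : ∀ b ∈ C, D.card = (NF.filter (fun a => ρ a b)).card := by
    refine (Finset.sum_eq_sum_iff_of_le h2).mp ?_
    rw [← h5, h4]
  -- (5) conclusion
  have hzC : z ∈ C := Finset.mem_filter.mpr ⟨Finset.mem_univ _, hz⟩
  have h7 : D.image (fun t => n * t) = NF.filter (fun a => ρ a z) := by
    refine Finset.eq_of_subset_of_card_le (himg n hn z hnz) ?_
    rw [hcardimg n, h6 z hzC]
  have hm' : m ∈ NF.filter (fun a => ρ a z) :=
    Finset.mem_filter.mpr ⟨Finset.mem_filter.mpr ⟨Finset.mem_univ _, hm⟩, hmz⟩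
  rw [← h7] at hm'
  obtain ⟨t, ht, rfl⟩ := Finset.mem_image.mp hm'
  have e : n⁻¹ * (n * t) = t := by group
  rw [e]
  exact (Finset.mem_filter.mp ht).2.1

/-- the centralizer of an outside element of `p`-power order is a `p`-group -/
theorem isPGroup_centralizer (N : Subgroup G)
    (h : ∀ x : G, x ∉ N → IsPrimePow (orderOf x))
    {x : G} (hx : x ∉ N) {p k : ℕ} (hp : p.Prime) (hk : orderOf x = p ^ k) :
    IsPGroup p ↥(Subgroup.centralizer ({x} : Set G)) := by
  have hk0 : k ≠ 0 := by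
    rintro rfl
    rw [pow_zero, orderOf_eq_one_iff] at hk
    exact hx (hk ▸ N.one_mem)
  have huniq : ∀ {q : ℕ}, q.Prime → q ∣ Nat.card ↥(Subgroup.centralizer ({x} : Set G)) → q = p := by
    intro q hq hqd
    by_contra hqp
    haveI : Fact q.Prime := ⟨hq⟩
    obtain ⟨⟨y, hyM⟩, hyq⟩ := exists_prime_orderOf_dvd_card' q hqd
    have hyq' : orderOf y = q := by
      rw [← hyq]
      exact (Subgroup.orderOf_mk y hyM).symm
    have hcomm : Commute x y := (Subgroup.mem_centralizer_singleton_iff.mp hyM).symm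
    have hcop : (orderOf x).Coprime (orderOf y) := by
      rw [hk, hyq']
      exact Nat.Coprime.pow_left k ((Nat.coprime_primes hp hq).mpr (Ne.symm hqp))
    have hord : orderOf (x * y) = p ^ k * q := by
      rw [hcomm.orderOf_mul_eq_mul_orderOf_of_coprime hcop, hk, hyq']
    have hxyN : x * y ∈ N := by
      by_contra hxy
      have hpp := h (x * y) hxy
      rw [hord] at hpp
      obtain ⟨r, -, hr⟩ := (isPrimePow_iff_unique_prime_dvd.mp hpp)
      have e1 := hr p ⟨hp, dvd_mul_of_dvd_left (dvd_pow_self p hk0) q⟩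
      have e2 := hr q ⟨hq, dvd_mul_left q (p ^ k)⟩
      exact hqp (e2.trans e1.symm)
    have hxq : x ^ q ∈ N := by
      have e : (x * y) ^ q = x ^ q := by
        rw [hcomm.mul_pow, ← hyq', pow_orderOf_eq_one, mul_one]
      rw [← e]
      exact N.pow_mem hxyN q
    have hcop2 : q.Coprime (orderOf x) := by
      rw [hk]
      exact Nat.Coprime.pow_right k ((Nat.coprime_primes hq hp).mpr hqp)
    obtain ⟨m, hm⟩ := exists_pow_eq_self_of_coprime hcop2
    exact hx (hm ▸ N.pow_mem hxq m)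
  have hcard := Nat.eq_prime_pow_of_unique_prime_dvd (Nat.card_pos (α := ↥(Subgroup.centralizer ({x} : Set G)))).ne'
    (fun {d} hd hdd => huniq hd hdd)
  exact IsPGroup.of_card hcard

/-- membership in a conjugate Sylow subgroup -/
theorem sylow_conj {p : ℕ} [Fact p.Prime] (P Q : Sylow p G) :
    ∃ g : G, ∀ z : G, z ∈ (Q : Subgroup G) ↔ g⁻¹ * z * g ∈ (P : Subgroup G) := by
  obtain ⟨g, hg⟩ := MulAction.exists_smul_eq G P Q
  refine ⟨g, fun z => ?_⟩
  rw [← hg, Sylow.coe_subgroup_smul, Subgroup.mem_pointwise_smul_iff_inv_smul_mem, MulAut.smul_def,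
    ← map_inv, MulAut.conj_apply, inv_inv]

/-- splitting a conjugating element along `⊤ = T ⊔ N` -/
theorem exists_normal_conj (T N : Subgroup G) [N.Normal] (hTN : T ⊔ N = ⊤) (g z : G)
    (hg : g⁻¹ * z * g ∈ T) : ∃ n ∈ N, ∃ t ∈ T, g = n * t ∧ n⁻¹ * z * n ∈ T := by
  have hgm : g ∈ ((N ⊔ T : Subgroup G) : Set G) := by
    rw [sup_comm, hTN]
    exact Set.mem_univ g
  rw [Subgroup.normal_mul] at hgm
  obtain ⟨n, hn, t, ht, rfl⟩ := Set.mem_mul.mp hgm
  refine ⟨n, hn, t, ht, rfl, ?_⟩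
  have e : n⁻¹ * z * n = t * ((n * t)⁻¹ * z * (n * t)) * t⁻¹ := by group
  rw [e]
  exact T.mul_mem (T.mul_mem ht hg) (T.inv_mem ht)

end Cfsg.Agent.Lib.Helper7.OutPP
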