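import Mathlib
import Cfsg.Agent.Lib.Helper7.OutPP1

set_option autoImplicit false

namespace Cfsg.Agent.Lib.Helper7.OutPP

variable {G : Type*} [Group G] [Finite G]

/-- the standing hypotheses in the `2`-case -/
structure TwoCase (N : Subgroup G) : Prop where
  two : ∀ y : G, y ∉ N → ∃ k : ℕ, orderOf y = 2 ^ k
  coatom : ∀ y : G, y ∉ N → IsCoatom (Subgroup.centralizer ({y} : Set G))
  pgroup : ∀ y : G, y ∉ N → IsPGroup 2 ↥(Subgroup.centralizer ({y} : Set G))
  notTwo : ¬ IsPGroup 2 G
  notTwoN : ¬ IsPGroup 2 ↥N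

namespace TwoCase

variable {N : Subgroup G} [N.Normal]

theorem sup_eq_top (hc : TwoCase N) {y : G} (hy : y ∉ N) :
    Subgroup.centralizer ({y} : Set G) ⊔ N = ⊤ := by
  by_contra hne
  have hco := hc.coatom y hy
  have h1 : Subgroup.centralizer ({y} : Set G) ⊔ N = Subgroup.centralizer ({y} : Set G) := by
    rcases eq_or_lt_of_le (le_sup_left : Subgroup.centralizer ({y} : Set G) ≤
      Subgroup.centralizer ({y} : Set G) ⊔ N) with h1 | h1
    · exact h1.symm
    · exact absurd (hco.2 _ h1) hne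
  have hle : N ≤ Subgroup.centralizer ({y} : Set G) := by
    rw [← h1]
    exact le_sup_right
  exact hc.notTwoN ((hc.pgroup y hy).to_le hle)

theorem exists_sylow (hc : TwoCase N) {y : G} (hy : y ∉ N) :
    ∃ P : Sylow 2 G, (P : Subgroup G) = Subgroup.centralizer ({y} : Set G) := by
  obtain ⟨P, hP⟩ := (hc.pgroup y hy).exists_le_sylow
  rcases eq_or_lt_of_le hP with h1 | h1
  · exact ⟨P, h1.symm⟩
  · exfalso
    have htop := (hc.coatom y hy).2 _ h1
    apply hc.notTwo
    have hP2 := P.isPGroup'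
    rw [htop] at hP2
    exact hP2.of_equiv Subgroup.topEquiv

/-- every element of the coset `yN` is `N`-conjugate into `C(y)` -/
theorem conj_into (hc : TwoCase N) {y : G} (hy : y ∉ N) (z : G) (hz : y⁻¹ * z ∈ N) :
    ∃ n ∈ N, n⁻¹ * z * n ∈ Subgroup.centralizer ({y} : Set G) := by
  have hzN : z ∉ N := by
    intro hzN
    apply hy
    have e : y = z * (y⁻¹ * z)⁻¹ := by group
    rw [e]
    exact N.mul_mem hzN (N.inv_mem hz)
  obtain ⟨k, hk⟩ := hc.two z hzN
  have hzp : IsPGroup 2 ↥(Subgroup.zpowers z) := by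
    refine IsPGroup.of_card (n := k) ?_
    rw [Nat.card_zpowers, hk]
  obtain ⟨R, hR⟩ := hzp.exists_le_sylow
  obtain ⟨P, hP⟩ := hc.exists_sylow hy
  obtain ⟨g, hg⟩ := sylow_conj P R
  have h1 : g⁻¹ * z * g ∈ Subgroup.centralizer ({y} : Set G) := by
    rw [← hP]
    exact (hg z).mp (hR (Subgroup.mem_zpowers z))
  obtain ⟨n, hn, t, -, -, hnz⟩ := exists_normal_conj _ N (hc.sup_eq_top hy) g z h1
  exact ⟨n, hn, hnz⟩

/-- an outside element of `C(x)` is central in `C(x)` -/
theorem comm_of_notMem (hc : TwoCase N) {x y : G} (hx : x ∉ N) (hy : y ∉ N)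
    (hyx : y ∈ Subgroup.centralizer ({x} : Set G)) :
    ∀ s ∈ Subgroup.centralizer ({x} : Set G), s * y = y * s := by
  obtain ⟨P, hP⟩ := hc.exists_sylow hy
  obtain ⟨Q, hQ⟩ := hc.exists_sylow hx
  obtain ⟨g, hg⟩ := sylow_conj P Q
  have hyT : y ∈ Subgroup.centralizer ({y} : Set G) := Subgroup.mem_centralizer_singleton_iff.mpr rfl
  have h1 : g⁻¹ * y * g ∈ Subgroup.centralizer ({y} : Set G) := by
    rw [← hP]
    refine (hg y).mp ?_
    rw [hQ]
    exact hyx
  obtain ⟨n, hn, t, ht, hgnt, hnz⟩ := exists_normal_conj _ N (hc.sup_eq_top hy) g y h1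
  have hyy : y⁻¹ * y ∈ N := by
    rw [inv_mul_cancel]
    exact N.one_mem
  have h2 : n⁻¹ * 1 ∈ Subgroup.centralizer ({y} : Set G) := by
    refine unique_coset (Subgroup.centralizer ({y} : Set G)) N y hyT (fun z hz => hc.conj_into hy z hz)
      hyy hn N.one_mem hnz ?_
    have e : (1 : G)⁻¹ * y * 1 = y := by group
    rw [e]
    exact hyT
  have hnT : n ∈ Subgroup.centralizer ({y} : Set G) := by
    have := (Subgroup.centralizer ({y} : Set G)).inv_mem h2
    simpa using this
  have hgT : g ∈ Subgroup.centralizer ({y} : Set G) := by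
    rw [hgnt]
    exact Subgroup.mul_mem _ hnT ht
  intro s hs
  have hsQ : s ∈ (Q : Subgroup G) := by
    rw [hQ]
    exact hs
  have h3 : g⁻¹ * s * g ∈ Subgroup.centralizer ({y} : Set G) := by
    rw [← hP]
    exact (hg s).mp hsQ
  have h4 : s ∈ Subgroup.centralizer ({y} : Set G) := by
    have e : s = g * (g⁻¹ * s * g) * g⁻¹ := by group
    rw [e]
    exact Subgroup.mul_mem _ (Subgroup.mul_mem _ hgT h3) (Subgroup.inv_mem _ hgT)
  exact Subgroup.mem_centralizer_singleton_iff.mp h4

/-- the centralizers of outside elements are abelian -/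
theorem comm_centralizer (hc : TwoCase N) {x : G} (hx : x ∉ N) :
    ∀ a ∈ Subgroup.centralizer ({x} : Set G), ∀ b ∈ Subgroup.centralizer ({x} : Set G),
      a * b = b * a := by
  intro a ha b hb
  by_cases haN : a ∈ N
  · by_cases hbN : b ∈ N
    · have hxa : x * a ∉ N := by
        intro hxa
        apply hx
        have e : x = (x * a) * a⁻¹ := by group
        rw [e]
        exact N.mul_mem hxa (N.inv_mem haN)
      have hxS : x ∈ Subgroup.centralizer ({x} : Set G) :=
        Subgroup.mem_centralizer_singleton_iff.mpr rfl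
      have h1 := hc.comm_of_notMem hx hxa (Subgroup.mul_mem _ hxS ha) b hb
      have h2 : b * x = x * b := Subgroup.mem_centralizer_singleton_iff.mp hb
      -- b * (x * a) = x * a * b
      have h3 : x * (b * a) = x * (a * b) := by
        calc x * (b * a) = (b * x) * a := by rw [h2, mul_assoc]
          _ = b * (x * a) := by rw [mul_assoc]
          _ = x * a * b := h1
          _ = x * (a * b) := by rw [mul_assoc]
      exact (mul_left_cancel h3).symm
    · exact hc.comm_of_notMem hx hbN hb a ha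
  · exact (hc.comm_of_notMem hx haN ha b hb).symm

end TwoCase

theorem main (N : Subgroup G) [N.Normal] (hN : N ≠ ⊤)
    (h : ∀ x : G, x ∉ N → IsPrimePow (orderOf x) ∧ IsCoatom (Subgroup.centralizer ({x} : Set G))) :
    Group.IsSolvable ↥N := by
  classical
  obtain ⟨x, hx⟩ : ∃ x : G, x ∉ N := by
    by_contra hcon
    push_neg at hcon
    exact hN (eq_top_iff.mpr fun g _ => hcon g)
  have hpp : ∀ x : G, x ∉ N → IsPrimePow (orderOf x) := fun x hx => (h x hx).1
  by_cases hodd : ∃ y : G, y ∉ N ∧ ∃ p k : ℕ, p.Prime ∧ p ≠ 2 ∧ orderOf y = p ^ k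
  · obtain ⟨y, hy, p, k, hp, hp2, hk⟩ := hodd
    have hM := isPGroup_centralizer N hpp hy hp hk
    haveI : Fact p.Prime := ⟨hp⟩
    haveI hsol : Group.IsSolvable G := by
      refine Cfsg.Agent.S4040.result (Subgroup.centralizer ({y} : Set G)) (h y hy).2 hM.isNilpotent ?_
      obtain ⟨n, hn⟩ := IsPGroup.iff_card.mp hM
      rw [hn]
      exact (hp.odd_of_ne_two hp2).pow
    infer_instance
  · have h2 : ∀ y : G, y ∉ N → ∃ k : ℕ, orderOf y = 2 ^ k := by
      intro y hy
      obtain ⟨p, k, hp, -, hk⟩ := (isPrimePow_nat_iff _).mp (hpp y hy)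
      by_cases hp2 : p = 2
      · exact ⟨k, by rw [← hk, hp2]⟩
      · exact absurd ⟨y, hy, p, k, hp, hp2, hk.symm⟩ hodd
    by_cases hG2 : IsPGroup 2 G
    · haveI := hG2.isNilpotent
      infer_instance
    by_cases hN2 : IsPGroup 2 ↥N
    · haveI := hN2.isNilpotent
      infer_instance
    have hc : TwoCase N :=
      { two := h2
        coatom := fun y hy => (h y hy).2
        pgroup := fun y hy => by
          obtain ⟨k, hk⟩ := h2 y hy
          exact isPGroup_centralizer N hpp hy Nat.prime_two hk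
        notTwo := hG2
        notTwoN := hN2 }
    have hcomm := hc.comm_centralizer hx
    haveI : IsMulCommutative ↥(Subgroup.centralizer ({x} : Set G)) :=
      ⟨⟨fun a b => Subtype.ext (hcomm a.1 a.2 b.1 b.2)⟩⟩
    have hd := Cfsg.Agent.Lib.Helper2.Herstein.derived3_of_abelian_coatom
      (Subgroup.centralizer ({x} : Set G)) (h x hx).2
    haveI : Group.IsSolvable G := (isSolvable_def G).mpr ⟨3, hd⟩
    infer_instance

end Cfsg.Agent.Lib.Helper7.OutPP
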