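import Mathlib
import Cfsg.Agent.Lib.Helper7.AbMax1

set_option autoImplicit false

/-!
# Small lemmas on `p`-groups with an abelian centraliser of index `p`
-/

namespace Cfsg.Agent.Lib.Helper7.P4

open Cfsg.Agent.Lib.Helper7.AbMax

variable {P : Type*} [Group P] [Finite P]

/-- the index of a centraliser is at most the order of the commutator subgroup -/
theorem index_centralizer_le (x : P) :
    (Subgroup.centralizer ({x} : Set P)).index ≤ Nat.card (commutator P) := by
  classical
  let f : P ⧸ Subgroup.centralizer ({x} : Set P) → commutator P :=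
    Quotient.lift (s := QuotientGroup.leftRel _)
      (fun g => (⟨g * x * g⁻¹ * x⁻¹, by
        rw [commutator_def]
        exact Subgroup.commutator_mem_commutator (Subgroup.mem_top g) (Subgroup.mem_top x)⟩ :
          commutator P))
      (by
        intro g h hgh
        have h1 : g⁻¹ * h ∈ Subgroup.centralizer ({x} : Set P) := QuotientGroup.leftRel_apply.mp hgh
        rw [Subgroup.mem_centralizer_singleton_iff] at h1
        apply Subtype.ext
        show g * x * g⁻¹ * x⁻¹ = h * x * h⁻¹ * x⁻¹
        have h2 : h * x * h⁻¹ = g * ((g⁻¹ * h) * x) * h⁻¹ := by group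
        rw [h2, h1]
        group)
  have hf : Function.Injective f := by
    intro a b
    induction a using Quotient.inductionOn with
    | h g =>
    induction b using Quotient.inductionOn with
    | h h =>
    intro hab
    have h1 : g * x * g⁻¹ * x⁻¹ = h * x * h⁻¹ * x⁻¹ := congrArg Subtype.val hab
    apply Quotient.sound
    apply QuotientGroup.leftRel_apply.mpr
    rw [Subgroup.mem_centralizer_singleton_iff]
    have h2 : g * x * g⁻¹ = h * x * h⁻¹ := mul_right_cancel h1
    calc g⁻¹ * h * x = g⁻¹ * (h * x * h⁻¹) * h := by group
      _ = g⁻¹ * (g * x * g⁻¹) * h := by rw [h2]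
      _ = x * (g⁻¹ * h) := by group
  exact Nat.card_le_card_of_injective f hf

/-- a centraliser of order `p³` of a noncentral element is abelian -/
theorem centralizer_comm {p : ℕ} [hp : Fact p.Prime] (hP : IsPGroup p P) {x : P}
    (hx : x ∉ Subgroup.center P)
    (hc : Nat.card (Subgroup.centralizer ({x} : Set P)) = p ^ 3) :
    ∀ u ∈ Subgroup.centralizer ({x} : Set P), ∀ v ∈ Subgroup.centralizer ({x} : Set P),
      u * v = v * u := by
  set A := Subgroup.centralizer ({x} : Set P) with hA
  have hxA : x ∈ A := Subgroup.mem_centralizer_singleton_iff.mpr rfl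
  have hZA : Subgroup.center P ≤ A := Subgroup.center_le_centralizer _
  haveI : Nontrivial P := by
    by_contra h
    rw [not_nontrivial_iff_subsingleton] at h
    apply hx
    rw [Subsingleton.elim x 1]
    exact Subgroup.one_mem _
  haveI : Nontrivial (Subgroup.center P) := hP.center_nontrivial
  -- the centre of `A`
  have hZsub : (Subgroup.center P).subgroupOf A ≤ Subgroup.center A := by
    intro u hu
    rw [Subgroup.mem_subgroupOf] at hu
    rw [Subgroup.mem_center_iff]
    intro v
    apply Subtype.ext
    rw [Subgroup.mem_center_iff] at hu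
    exact hu v
  have hxc : (⟨x, hxA⟩ : A) ∈ Subgroup.center A := by
    rw [Subgroup.mem_center_iff]
    intro v
    apply Subtype.ext
    have h0 : (v : P) ∈ Subgroup.centralizer ({x} : Set P) := v.2
    rw [Subgroup.mem_centralizer_singleton_iff] at h0
    exact h0
  obtain ⟨j, hj, hcard⟩ := (Nat.dvd_prime_pow hp.out).mp
    (hc ▸ Subgroup.card_subgroup_dvd_card (Subgroup.center A))
  have hj2 : 2 ≤ j := by
    by_contra hlt
    push Not at hlt
    have hj1 : j = 0 ∨ j = 1 := by omega
    -- the centre of `P` gives a nontrivial subgroup of the centre of `A`, not containing `x`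
    have hne : (Subgroup.center P).subgroupOf A ≠ ⊥ := by
      obtain ⟨z, hz⟩ := exists_ne (1 : Subgroup.center P)
      intro hb
      have : (⟨z, hZA z.2⟩ : A) ∈ (Subgroup.center P).subgroupOf A := by
        rw [Subgroup.mem_subgroupOf]; exact z.2
      rw [hb, Subgroup.mem_bot] at this
      apply hz
      apply Subtype.ext
      exact congrArg (fun a : A => (a : P)) this
    rcases hj1 with h0 | h1
    · rw [h0, pow_zero] at hcard
      have : Subgroup.center A = ⊥ := Subgroup.card_eq_one.mp hcard
      rw [this, le_bot_iff] at hZsub
      exact hne hZsub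
    · rw [h1, pow_one] at hcard
      -- a group of prime order has only trivial subgroups
      have h3 : ((Subgroup.center P).subgroupOf A).subgroupOf (Subgroup.center A) = ⊥ ∨
          ((Subgroup.center P).subgroupOf A).subgroupOf (Subgroup.center A) = ⊤ := by
        haveI : Fact (Nat.card (Subgroup.center A)).Prime := ⟨hcard ▸ hp.out⟩
        exact Subgroup.eq_bot_or_eq_top_of_prime_card _
      rcases h3 with h3 | h3
      · rw [Subgroup.subgroupOf_eq_bot, disjoint_iff, inf_of_le_left hZsub] at h3
        exact hne h3
      · rw [Subgroup.subgroupOf_eq_top] at h3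
        have := h3 hxc
        rw [Subgroup.mem_subgroupOf] at this
        exact hx this
  -- the quotient of `A` by its centre is cyclic
  have hquot : Nat.card (A ⧸ Subgroup.center A) * p ^ j = p ^ 3 := by
    rw [← hcard, ← hc]
    exact (Subgroup.card_eq_card_quotient_mul_card_subgroup _).symm
  have hj3 : j = 2 ∨ j = 3 := by omega
  haveI : IsCyclic (A ⧸ Subgroup.center A) := by
    rcases hj3 with h | h
    · rw [h] at hquot
      have h5 : Nat.card (A ⧸ Subgroup.center A) = p := by
        have : p ^ 3 = p * p ^ 2 := by ring
        rw [this] at hquot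
        exact Nat.eq_of_mul_eq_mul_right (pow_pos hp.out.pos 2) hquot
      haveI : Fact (Nat.card (A ⧸ Subgroup.center A)).Prime := ⟨h5 ▸ hp.out⟩
      exact isCyclic_of_prime_card rfl
    · rw [h] at hquot
      have h5 : Nat.card (A ⧸ Subgroup.center A) = 1 := by
        have h6 : Nat.card (A ⧸ Subgroup.center A) * p ^ 3 = 1 * p ^ 3 := by rw [hquot, one_mul]
        exact Nat.eq_of_mul_eq_mul_right (pow_pos hp.out.pos 3) h6
      haveI : Subsingleton (A ⧸ Subgroup.center A) :=
        (Nat.card_eq_one_iff_unique.mp h5).1
      exact isCyclic_of_subsingleton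
  intro u hu v hv
  have hcomm := MonoidHom.isMulCommutative_of_isCyclic_of_ker_le_center
    (QuotientGroup.mk' (Subgroup.center A)) (by rw [QuotientGroup.ker_mk'])
  have := hcomm.is_comm.comm (⟨u, hu⟩ : A) ⟨v, hv⟩
  exact congrArg Subtype.val this

/-- `|P'| · |Z(P)| = |A|` for an abelian centraliser `A` of prime index `p`, the least prime
divisor of the order -/
theorem key {p : ℕ} [hp : Fact p.Prime] {x : P}
    (hidx : (Subgroup.centralizer ({x} : Set P)).index = p)
    (hmin : (Nat.card P).minFac = p)
    (hab : ∀ u ∈ Subgroup.centralizer ({x} : Set P), ∀ v ∈ Subgroup.centralizer ({x} : Set P),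
      u * v = v * u) :
    Nat.card (commutator P) * Nat.card (Subgroup.center P)
      = Nat.card (Subgroup.centralizer ({x} : Set P)) := by
  set A := Subgroup.centralizer ({x} : Set P) with hA
  haveI : A.Normal := Subgroup.normal_of_index_eq_minFac_card (by rw [hidx, hmin])
  have hAtop : A ≠ ⊤ := by
    intro h
    rw [h, Subgroup.index_top] at hidx
    exact hp.out.one_lt.ne hidx
  obtain ⟨w, hw⟩ : ∃ w : P, w ∉ A := by
    by_contra h
    push Not at h
    exact hAtop (eq_top_iff.mpr fun g _ => h g)
  have hgen : A ⊔ Subgroup.zpowers w = ⊤ := by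
    have h1 : (A ⊔ Subgroup.zpowers w).index ∣ p := hidx ▸ Subgroup.index_dvd_of_le le_sup_left
    rcases (Nat.dvd_prime hp.out).mp h1 with h2 | h2
    · exact Subgroup.index_eq_one.mp h2
    · exfalso
      have h3 : A = A ⊔ Subgroup.zpowers w := by
        apply Subgroup.eq_of_le_of_card_ge le_sup_left
        have e1 := Subgroup.card_mul_index A
        have e2 := Subgroup.card_mul_index (A ⊔ Subgroup.zpowers w)
        rw [hidx] at e1
        rw [h2, ← e1] at e2
        exact (Nat.eq_of_mul_eq_mul_right hp.out.pos e2).le
      apply hw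
      rw [h3]
      exact Subgroup.mem_sup_right (Subgroup.mem_zpowers w)
  have h1 := card_commutator_mul A hab w hgen
  have hker : (theta A hab w).ker = (Subgroup.center P).subgroupOf A := by
    ext u
    rw [mem_ker_theta, Subgroup.mem_subgroupOf]
    constructor
    · intro h
      rw [Subgroup.mem_center_iff]
      have : (⊤ : Subgroup P) ≤ Subgroup.centralizer ({(u : P)} : Set P) := by
        rw [← hgen]
        apply sup_le
        · intro b hb
          rw [Subgroup.mem_centralizer_singleton_iff]
          exact hab b hb u u.2
        · rw [Subgroup.zpowers_le, Subgroup.mem_centralizer_singleton_iff]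
          exact h
      intro g
      have := this (Subgroup.mem_top g)
      rw [Subgroup.mem_centralizer_singleton_iff] at this
      exact this
    · intro h
      rw [Subgroup.mem_center_iff] at h
      exact h w
  rw [hker] at h1
  have hZA : Subgroup.center P ≤ A := Subgroup.center_le_centralizer _
  rw [Nat.card_congr (Subgroup.subgroupOfEquivOfLe hZA).toEquiv] at h1
  exact h1

end Cfsg.Agent.Lib.Helper7.P4
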