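import Mathlib
import Cfsg.Agent.Lib.Helper7.PByCyc2

set_option autoImplicit false

namespace Cfsg.Agent.Lib.Helper7.PByCyc

/-- conjugation by powers -/
theorem conj_pow_zpow {H : Type*} [Group H] (h s : H) (k : ℤ) (hk : h * s * h⁻¹ = s ^ k) (n : ℕ) :
    h ^ n * s * (h ^ n)⁻¹ = s ^ (k ^ n) := by
  induction n with
  | zero => simp
  | succ n ih =>
    have h1 : h ^ (n + 1) * s * (h ^ (n + 1))⁻¹ = h * (h ^ n * s * (h ^ n)⁻¹) * h⁻¹ := by
      rw [pow_succ']; group
    rw [h1, ih]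
    have h2 : h * s ^ (k ^ n) * h⁻¹ = (h * s * h⁻¹) ^ (k ^ n) := by
      rw [conj_zpow]
    rw [h2, hk, ← zpow_mul, pow_succ']

/-- A cyclic normal Sylow `p`-subgroup whose subgroup of order `p` is central is itself central. -/
theorem central_of_omega {H : Type*} [Group H] [Finite H] {p : ℕ} [hp : Fact p.Prime]
    (S : Subgroup H) [hSn : S.Normal] (s : H) (hS : S = Subgroup.zpowers s) (a : ℕ)
    (hord : orderOf s = p ^ (a + 1)) (hcop : S.index.Coprime p)
    (hz : ∀ h : H, h * s ^ (p ^ a) = s ^ (p ^ a) * h) : S ≤ Subgroup.center H := by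
  have key : ∀ h : H, h * s * h⁻¹ = s := by
    intro h
    have hmem : h * s * h⁻¹ ∈ Subgroup.zpowers s := by
      rw [← hS]
      exact hSn.conj_mem s (by rw [hS]; exact Subgroup.mem_zpowers s) h
    obtain ⟨k, hk⟩ := Subgroup.mem_zpowers_iff.mp hmem
    have hk' : h * s * h⁻¹ = s ^ k := hk.symm
    -- p ∣ k - 1
    have h1 : (p : ℤ) ∣ k - 1 := by
      have e1 : h * s ^ (p ^ a) * h⁻¹ = s ^ (k * (p ^ a : ℕ)) := by
        rw [← conj_pow, hk', zpow_mul, zpow_natCast]
      have e2 : h * s ^ (p ^ a) * h⁻¹ = s ^ (p ^ a) := by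
        rw [hz h, mul_inv_cancel_right]
      have e3 : s ^ (k * (p ^ a : ℕ) - (p ^ a : ℕ)) = 1 := by
        rw [zpow_sub, ← e1, e2, zpow_natCast, mul_inv_cancel]
      rw [← orderOf_dvd_iff_zpow_eq_one, hord] at e3
      have e4 : k * ((p ^ a : ℕ) : ℤ) - ((p ^ a : ℕ) : ℤ) = ((p : ℤ) ^ a) * (k - 1) := by
        push_cast; ring
      rw [e4] at e3
      push_cast at e3
      rw [pow_succ] at e3
      exact (mul_dvd_mul_iff_left (pow_ne_zero a (by exact_mod_cast hp.out.ne_zero))).mp e3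
    -- p^(a+1) ∣ k^m - 1
    have h2 : ((p : ℤ) ^ (a + 1)) ∣ k ^ S.index - 1 := by
      have e1 := conj_pow_zpow h s k hk' S.index
      have e2 : h ^ S.index ∈ Subgroup.zpowers s := by
        rw [← hS]; exact Subgroup.pow_index_mem S h
      obtain ⟨j, hj⟩ := Subgroup.mem_zpowers_iff.mp e2
      have e3 : h ^ S.index * s * (h ^ S.index)⁻¹ = s := by
        rw [← hj, ← zpow_neg, ← zpow_add_one, ← zpow_add]
        simp
      rw [e3] at e1
      have e4 : s ^ (k ^ S.index - 1) = 1 := by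
        rw [zpow_sub, ← e1, zpow_one, mul_inv_cancel]
      rw [← orderOf_dvd_iff_zpow_eq_one, hord] at e4
      exact_mod_cast e4
    have h3 := int_modEq_one hp.out (a + 1) S.index hcop k h1 h2
    have h4 : s ^ (k - 1) = 1 := by
      rw [← orderOf_dvd_iff_zpow_eq_one, hord]
      exact_mod_cast h3
    rw [hk']
    have : s ^ k = s ^ (k - 1) * s := by
      rw [← zpow_add_one]; simp
    rw [this, h4, one_mul]
  intro t ht
  rw [hS] at ht
  obtain ⟨j, rfl⟩ := Subgroup.mem_zpowers_iff.mp ht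
  rw [Subgroup.mem_center_iff]
  intro h
  have hc : Commute h s := by
    have := key h
    show h * s = s * h
    calc h * s = (h * s * h⁻¹) * h := by group
      _ = s * h := by rw [this]
  exact (hc.zpow_right j).eq

end Cfsg.Agent.Lib.Helper7.PByCyc
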