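import Mathlib
import Cfsg.Agent.Lib.Helper7.PByCyc3

set_option autoImplicit false

namespace Cfsg.Agent.Lib.Helper7.PByCyc

open scoped Pointwise

/-- The abstract form of the "if" direction: a finite group with a cyclic normal Sylow
`p`-subgroup `⟨s⟩ ≠ 1`, cyclic quotient, such that every element not centralizing the subgroup of
order `p` is an involution inverting its centralizer, is cyclic or dihedral. -/
theorem abstract_main {H : Type*} [Group H] [Finite H] {p : ℕ} [hp : Fact p.Prime]
    (S : Subgroup H) [hSn : S.Normal] (s : H) (hS : S = Subgroup.zpowers s) (a : ℕ)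
    (hord : orderOf s = p ^ (a + 1)) (hcop : S.index.Coprime p) (hq : IsCyclic (H ⧸ S))
    (star : ∀ x : H, x * s ^ (p ^ a) ≠ s ^ (p ^ a) * x → orderOf x = 2 ∧
      ∀ c : H, c * s ^ (p ^ a) = s ^ (p ^ a) * c → x * c * x⁻¹ = c⁻¹) :
    IsCyclic H ∨ Nonempty (H ≃* DihedralGroup (p ^ (a + 1))) := by
  subst hS
  set z := s ^ (p ^ a) with hz
  by_cases hall : ∀ x : H, x * z = z * x
  · left
    apply isCyclic_of_central (Subgroup.zpowers s) inferInstance _ hq
      (central_of_omega _ s rfl a hord hcop hall)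
    rw [Nat.card_zpowers, hord]
    exact Nat.Coprime.pow_left _ hcop.symm
  · right
    push Not at hall
    obtain ⟨x, hx⟩ := hall
    obtain ⟨hx2, hxinv⟩ := star x hx
    have hsz : s * z = z * s := ((Commute.refl s).pow_right _).eq
    have hinv_s : x * s * x⁻¹ = s⁻¹ := hxinv s hsz
    have hcommS : ∀ t ∈ Subgroup.zpowers s, t * z = z * t := by
      intro t ht
      obtain ⟨j, rfl⟩ := Subgroup.mem_zpowers_iff.mp ht
      exact (((Commute.refl s).pow_right _).zpow_left j).eq
    have hxnot : x ∉ Subgroup.zpowers s := fun hmem => hx (hcommS x hmem)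
    have hsq : ∀ y : H, orderOf y = 2 → y ^ 2 = 1 := by
      intro y hy
      rw [← hy]; exact pow_orderOf_eq_one y
    have hmemS : ∀ h : H, h * z = z * h → h ∈ Subgroup.zpowers s := by
      intro h hh
      by_contra hnot
      have hxh : x * h * z ≠ z * (x * h) := by
        intro e
        apply hx
        have h1 : Commute (x * h) z := e
        have h2 : Commute h z := hh
        have h3 := h1.mul_left h2.inv_left
        rw [mul_inv_cancel_right] at h3
        exact h3.eq
      obtain ⟨hxh2, -⟩ := star (x * h) hxh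
      classical
      letI : Fintype (H ⧸ Subgroup.zpowers s) := Fintype.ofFinite _
      have hle := IsCyclic.card_pow_eq_one_le (α := H ⧸ Subgroup.zpowers s) (n := 2) (by norm_num)
      have hsub : ({1, (QuotientGroup.mk x : H ⧸ Subgroup.zpowers s),
          (QuotientGroup.mk (x * h) : H ⧸ Subgroup.zpowers s)} : Finset _) ⊆
          Finset.univ.filter (fun q : H ⧸ Subgroup.zpowers s => q ^ 2 = 1) := by
        intro q hq'
        rw [Finset.mem_filter]
        refine ⟨Finset.mem_univ _, ?_⟩
        rw [Finset.mem_insert, Finset.mem_insert, Finset.mem_singleton] at hq'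
        rcases hq' with rfl | rfl | rfl
        · exact one_pow 2
        · rw [← QuotientGroup.mk_pow, hsq x hx2]; rfl
        · rw [← QuotientGroup.mk_pow, hsq (x * h) hxh2]; rfl
      have hcard : ({1, (QuotientGroup.mk x : H ⧸ Subgroup.zpowers s),
          (QuotientGroup.mk (x * h) : H ⧸ Subgroup.zpowers s)} : Finset _).card = 3 := by
        rw [Finset.card_insert_of_notMem, Finset.card_insert_of_notMem, Finset.card_singleton]
        · rw [Finset.mem_singleton, QuotientGroup.eq]
          intro hmem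
          apply hnot
          rwa [inv_mul_cancel_left] at hmem
        · rw [Finset.mem_insert, Finset.mem_singleton]
          rintro (h1 | h1)
          · exact hxnot ((QuotientGroup.eq_one_iff x).mp h1.symm)
          · exact hxh (hcommS _ ((QuotientGroup.eq_one_iff (x * h)).mp h1.symm))
      have := Finset.card_le_card hsub
      omega
    have hH : ∀ h ∈ (⊤ : Subgroup H), h ∈ Subgroup.zpowers s ∨ x * h ∈ Subgroup.zpowers s := by
      intro h _
      by_cases hh : h * z = z * h
      · left; exact hmemS h hh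
      · right
        apply hmemS
        obtain ⟨-, hhinv⟩ := star h hh
        have e1 : x * z * x⁻¹ = z⁻¹ := hxinv z rfl
        have e2 : h * z * h⁻¹ = z⁻¹ := hhinv z rfl
        calc x * h * z = x * (h * z * h⁻¹) * h := by group
          _ = x * z⁻¹ * h := by rw [e2]
          _ = (x * z * x⁻¹)⁻¹ * x * h := by group
          _ = z * (x * h) := by rw [e1, inv_inv, mul_assoc]
    obtain ⟨e⟩ := dihedral_of_inv (⊤ : Subgroup H) s x (Subgroup.mem_top _) (Subgroup.mem_top _)
      hx2 hxnot hinv_s (by rw [hord]; exact pow_ne_zero _ hp.out.ne_zero) hH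
    rw [hord] at e
    exact ⟨Subgroup.topEquiv.symm.trans e⟩

variable {G : Type*} [Group G]

/-- Elements normalizing but not centralizing `Q` are involutions inverting `C_G(Q)`. -/
def Star (Q : Subgroup G) : Prop :=
  ∀ x : G, x ∈ Subgroup.normalizer (Q : Set G) → x ∉ Subgroup.centralizer (Q : Set G) →
    orderOf x = 2 ∧ ∀ c : G, c ∈ Subgroup.centralizer (Q : Set G) → x * c * x⁻¹ = c⁻¹

theorem mem_conj_smul (g x : G) (H : Subgroup G) :
    x ∈ MulAut.conj g • H ↔ g⁻¹ * x * g ∈ H := by
  rw [Subgroup.mem_pointwise_smul_iff_inv_smul_mem]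
  simp [MulAut.smul_def]

theorem mem_centralizer_conj (g c : G) (Q : Subgroup G)
    (hc : c ∈ Subgroup.centralizer ((MulAut.conj g • Q : Subgroup G) : Set G)) :
    g⁻¹ * c * g ∈ Subgroup.centralizer (Q : Set G) := by
  rw [Subgroup.mem_centralizer_iff] at hc ⊢
  intro q hq
  have h1 : g * q * g⁻¹ ∈ MulAut.conj g • Q := by
    rw [mem_conj_smul]
    simpa [mul_assoc] using hq
  have h2 := hc _ h1
  calc q * (g⁻¹ * c * g) = g⁻¹ * ((g * q * g⁻¹) * c) * g := by group
    _ = g⁻¹ * (c * (g * q * g⁻¹)) * g := by rw [h2]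
    _ = g⁻¹ * c * g * q := by group

theorem mem_normalizer_conj (g x : G) (Q : Subgroup G)
    (hx : x ∈ Subgroup.normalizer ((MulAut.conj g • Q : Subgroup G) : Set G)) :
    g⁻¹ * x * g ∈ Subgroup.normalizer (Q : Set G) := by
  rw [Subgroup.mem_normalizer_iff] at hx ⊢
  intro q
  have h1 := hx (g * q * g⁻¹)
  rw [mem_conj_smul, mem_conj_smul] at h1
  have e1 : g⁻¹ * (g * q * g⁻¹) * g = q := by group
  have e2 : g⁻¹ * (x * (g * q * g⁻¹) * x⁻¹) * g = g⁻¹ * x * g * q * (g⁻¹ * x * g)⁻¹ := by group
  rw [e1, e2] at h1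
  exact h1

theorem star_conj (g : G) (Q : Subgroup G) (h : Star Q) : Star (MulAut.conj g • Q) := by
  intro x hxN hxC
  have h1 := mem_normalizer_conj g x Q hxN
  have h2 : g⁻¹ * x * g ∉ Subgroup.centralizer (Q : Set G) := by
    intro hc
    apply hxC
    have h3 : MulAut.conj g • (MulAut.conj g⁻¹ • (MulAut.conj g • Q)) = MulAut.conj g • Q := by
      rw [smul_smul, ← map_mul, mul_inv_cancel, map_one, one_smul]
    have h4 : MulAut.conj g⁻¹ • (MulAut.conj g • Q) = Q := by
      rw [smul_smul, ← map_mul, inv_mul_cancel, map_one, one_smul]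
    have h5 := mem_centralizer_conj g⁻¹ (g⁻¹ * x * g) (MulAut.conj g • Q) (by rw [h4]; exact hc)
    have e : g⁻¹⁻¹ * (g⁻¹ * x * g) * g⁻¹ = x := by group
    rwa [e] at h5
  obtain ⟨ho, hinv⟩ := h (g⁻¹ * x * g) h1 h2
  constructor
  · have : orderOf (g⁻¹ * x * g) = orderOf x := by
      have := MulEquiv.orderOf_eq (MulAut.conj g⁻¹) x
      rw [MulAut.conj_apply, inv_inv] at this
      exact this
    rw [← this]; exact ho
  · intro c hc
    have h3 := hinv (g⁻¹ * c * g) (mem_centralizer_conj g c Q hc)
    have e : x * c * x⁻¹ = g * ((g⁻¹ * x * g) * (g⁻¹ * c * g) * (g⁻¹ * x * g)⁻¹) * g⁻¹ := by group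
    rw [e, h3]
    group

end Cfsg.Agent.Lib.Helper7.PByCyc
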