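import Mathlib
import Cfsg.Agent.Lib.Helper7.PByCyc4

set_option autoImplicit false

namespace Cfsg.Agent.Lib.Helper7.PByCyc

open DihedralGroup

theorem mem_zpowers_r_one {m : ℕ} [NeZero m] (g : DihedralGroup m) :
    g ∈ Subgroup.zpowers (r 1 : DihedralGroup m) ↔ ∃ i, g = r i := by
  constructor
  · intro h
    obtain ⟨k, rfl⟩ := Subgroup.mem_zpowers_iff.mp h
    exact ⟨_, r_one_zpow k⟩
  · rintro ⟨i, rfl⟩
    have : (r i : DihedralGroup m) = r 1 ^ i.val := by
      rw [r_one_pow, ZMod.natCast_zmod_val]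
    rw [this]
    exact Subgroup.pow_mem _ (Subgroup.mem_zpowers _) _

/-- Subgroups of dihedral groups are cyclic or dihedral. -/
theorem subgroup_dihedral {m : ℕ} [NeZero m] (T : Subgroup (DihedralGroup m)) :
    IsCyclic T ∨ ∃ d : ℕ, d ∣ m ∧ Nonempty (T ≃* DihedralGroup d) := by
  set R := Subgroup.zpowers (r 1 : DihedralGroup m) with hR
  by_cases hT : T ≤ R
  · left
    have e : ↥(T.subgroupOf R) ≃* ↥T := Subgroup.subgroupOfEquivOfLe hT
    exact isCyclic_of_surjective e e.surjective
  · right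
    obtain ⟨x, hxT, hxR⟩ := SetLike.not_le_iff_exists.mp hT
    obtain ⟨i, rfl⟩ : ∃ i, x = sr i := by
      rcases x with j | j
      · exact absurd ((mem_zpowers_r_one _).mpr ⟨j, rfl⟩) hxR
      · exact ⟨j, rfl⟩
    have hcyc : IsCyclic ↥(T ⊓ R) := by
      have e : ↥((T ⊓ R).subgroupOf R) ≃* ↥(T ⊓ R) := Subgroup.subgroupOfEquivOfLe inf_le_right
      exact isCyclic_of_surjective e e.surjective
    obtain ⟨g, hg⟩ := hcyc.exists_generator
    obtain ⟨e0, he0⟩ := (mem_zpowers_r_one _).mp g.2.2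
    have hgT : (g : DihedralGroup m) ∈ T := g.2.1
    have hzle : Subgroup.zpowers (g : DihedralGroup m) ≤ R := by
      rw [Subgroup.zpowers_le]; exact g.2.2
    have hmemz : ∀ h : DihedralGroup m, h ∈ T → h ∈ R → h ∈ Subgroup.zpowers (g : DihedralGroup m) := by
      intro h h1 h2
      obtain ⟨k, hk⟩ := Subgroup.mem_zpowers_iff.mp (hg ⟨h, h1, h2⟩)
      refine Subgroup.mem_zpowers_iff.mpr ⟨k, ?_⟩
      have := congrArg Subtype.val hk
      simpa using this
    have key := dihedral_of_inv T (g : DihedralGroup m) (sr i) hgT hxT (orderOf_sr i)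
      (fun h => hxR (hzle h))
      (by rw [he0]; simp)
      (orderOf_pos _).ne'
      (by
        intro h hh
        rcases h with j | j
        · left
          exact hmemz _ hh ((mem_zpowers_r_one _).mpr ⟨j, rfl⟩)
        · right
          apply hmemz
          · exact T.mul_mem hxT hh
          · rw [sr_mul_sr]; exact (mem_zpowers_r_one _).mpr ⟨_, rfl⟩)
    refine ⟨orderOf (g : DihedralGroup m), ?_, key⟩
    apply orderOf_dvd_of_pow_eq_one
    rw [he0, r_pow, ZMod.natCast_self, mul_zero, r_zero]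

/-- The version of `central_of_omega` for `p = 2` (no hypothesis on the involution needed). -/
theorem central_two {H : Type*} [Group H] [Finite H]
    (S : Subgroup H) [hSn : S.Normal] (s : H) (hS : S = Subgroup.zpowers s) (a : ℕ)
    (hord : orderOf s = 2 ^ (a + 1)) (hcop : S.index.Coprime 2) : S ≤ Subgroup.center H := by
  haveI : Fact (Nat.Prime 2) := ⟨Nat.prime_two⟩
  apply central_of_omega (p := 2) S s hS a hord hcop
  intro h
  set z := s ^ (2 ^ a) with hz
  have hz2 : z ^ 2 = 1 := by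
    rw [hz, ← pow_mul, ← pow_succ, ← hord]; exact pow_orderOf_eq_one s
  have hz1 : z ≠ 1 := by
    intro h1
    have := orderOf_dvd_of_pow_eq_one h1
    rw [hord] at this
    have h2 := Nat.le_of_dvd (by positivity) this
    have : 2 ^ a < 2 ^ (a + 1) := Nat.pow_lt_pow_right (by norm_num) (by omega)
    omega
  have hmem : h * s * h⁻¹ ∈ Subgroup.zpowers s := by
    rw [← hS]
    exact hSn.conj_mem s (by rw [hS]; exact Subgroup.mem_zpowers s) h
  obtain ⟨k, hk⟩ := Subgroup.mem_zpowers_iff.mp hmem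
  have e1 : h * z * h⁻¹ = z ^ k := by
    rw [hz, ← conj_pow, ← hk, ← zpow_natCast, ← zpow_natCast, ← zpow_mul, ← zpow_mul, mul_comm]
  have e2 : h * z * h⁻¹ ≠ 1 := by
    intro h1
    apply hz1
    have := congrArg (fun t => h⁻¹ * t * h) h1
    simpa [mul_assoc] using this
  have e3 : z ^ k = z := by
    rcases Int.even_or_odd k with ⟨c, hc⟩ | ⟨c, hc⟩
    · exfalso
      apply e2
      rw [e1, hc, ← two_mul, zpow_mul, zpow_ofNat, hz2, one_zpow]
    · rw [hc, zpow_add, zpow_mul, zpow_ofNat, hz2, one_zpow, one_mul, zpow_one]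
  rw [e3] at e1
  calc h * z = (h * z * h⁻¹) * h := by group
    _ = z * h := by rw [e1]

end Cfsg.Agent.Lib.Helper7.PByCyc
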