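import Mathlib
import Cfsg.Agent.Lib.Helper7.PByCyc5

set_option autoImplicit false

namespace Cfsg.Agent.Lib.Helper7.PByCyc

open DihedralGroup

theorem d2_enum : ∀ u0 u1 : DihedralGroup 2, u0 ≠ 1 → u1 ≠ 1 → u1 ≠ u0 →
    ∀ u : DihedralGroup 2, u = 1 ∨ u = u0 ∨ u = u1 ∨ u = u0 * u1 := by decide

theorem d2_sq : ∀ u : DihedralGroup 2, u ^ 2 = 1 := by decide

theorem d2_comm : ∀ u v : DihedralGroup 2, u * v = v * u := by decide

theorem d2_exists : ∀ u0 : DihedralGroup 2, ∃ u1 : DihedralGroup 2, u1 ≠ 1 ∧ u1 ≠ u0 := by decide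

/-- An automorphism of odd order of a dihedral `2`-group of order at least `8` is trivial. -/
theorem aut_dihedral_odd {j : ℕ} (hj : 2 ≤ j) (α : MulAut (DihedralGroup (2 ^ j))) (m : ℕ)
    (hm : Odd m) (hα : α ^ m = 1) : α = 1 := by
  haveI : NeZero (2 ^ j) := ⟨by positivity⟩
  have hord : orderOf (α (r 1)) = 2 ^ j := by rw [MulEquiv.orderOf_eq, orderOf_r_one]
  obtain ⟨k, hk⟩ : ∃ k, α (r 1) = r k := by
    rcases h : α (r 1) with k | k
    · exact ⟨k, rfl⟩
    · exfalso
      rw [h, orderOf_sr] at hord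
      have : 2 ^ 2 ≤ 2 ^ j := Nat.pow_le_pow_right (by norm_num) hj
      omega
  have hr : ∀ i : ZMod (2 ^ j), α (r i) = r (k * i) := by
    intro i
    have : (r i : DihedralGroup (2 ^ j)) = r 1 ^ i.val := by
      rw [r_one_pow, ZMod.natCast_zmod_val]
    rw [this, map_pow, hk, r_pow, ZMod.natCast_zmod_val]
  have hpow : ∀ n : ℕ, (α ^ n) (r 1) = r (k ^ n) := by
    intro n
    induction n with
    | zero => simp
    | succ n ih => rw [pow_succ', MulAut.mul_apply, ih, hr, pow_succ']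
  have hk1 : k ^ m = 1 := by
    have := hpow m
    rw [hα, MulAut.one_apply] at this
    exact (r.inj this).symm
  have hmcop : Nat.Coprime m 2 := Nat.coprime_two_right.mpr hm
  have hkone : k = 1 := by
    have hm0 : m ≠ 0 := by
      rintro rfl
      exact absurd hm (by decide)
    let u : (ZMod (2 ^ j))ˣ := Units.ofPowEqOne k m hk1 hm0
    have hu : (u : ZMod (2 ^ j)) = k := rfl
    have hu1 : u ^ m = 1 := by
      apply Units.ext
      rw [Units.val_pow_eq_pow_val, hu, hk1, Units.val_one]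
    have hu2 : u ^ (2 ^ (j - 1)) = 1 := by
      have := ZMod.pow_totient u
      rwa [Nat.totient_prime_pow Nat.prime_two (by omega : 0 < j), show 2 - 1 = 1 from rfl,
        mul_one] at this
    have d1 : orderOf u ∣ m := orderOf_dvd_of_pow_eq_one hu1
    have d2 : orderOf u ∣ 2 ^ (j - 1) := orderOf_dvd_of_pow_eq_one hu2
    have d3 : orderOf u ∣ Nat.gcd m (2 ^ (j - 1)) := Nat.dvd_gcd d1 d2
    rw [Nat.Coprime.pow_right (j - 1) hmcop, Nat.dvd_one, orderOf_eq_one_iff] at d3
    rw [← hu, d3, Units.val_one]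
  have hk' : ∀ i, α (r i) = r i := by
    intro i
    rw [hr, hkone, one_mul]
  obtain ⟨c, hc⟩ : ∃ c, α (sr 0) = sr c := by
    rcases h : α (sr 0) with i | i
    · exfalso
      have h1 := hk' i
      have h2 : (r i : DihedralGroup (2 ^ j)) = sr 0 := α.injective (h1.trans h.symm)
      cases h2
    · exact ⟨i, rfl⟩
  have hs : ∀ i, α (sr i) = sr (c + i) := by
    intro i
    have : (sr i : DihedralGroup (2 ^ j)) = sr 0 * r i := by rw [sr_mul_r, zero_add]
    rw [this, map_mul, hc, hk', sr_mul_r]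
  have hpow2 : ∀ n : ℕ, (α ^ n) (sr 0) = sr ((n : ZMod (2 ^ j)) * c) := by
    intro n
    induction n with
    | zero => simp
    | succ n ih =>
      rw [pow_succ', MulAut.mul_apply, ih, hs]
      congr 1
      push_cast
      ring
  have hc0 : (m : ZMod (2 ^ j)) * c = 0 := by
    have := hpow2 m
    rw [hα, MulAut.one_apply] at this
    exact (sr.inj this).symm
  have hczero : c = 0 := by
    have hmu : IsUnit (m : ZMod (2 ^ j)) :=
      (ZMod.isUnit_iff_coprime m (2 ^ j)).mpr (Nat.Coprime.pow_right _ hmcop)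
    exact hmu.mul_right_eq_zero.mp hc0
  ext g
  rcases g with i | i
  · rw [hk' i]; rfl
  · rw [hs, hczero, zero_add]; rfl

/-- A dihedral `2`-group of order at least `4` contains a Klein four-group. -/
theorem exists_klein_dihedral {j : ℕ} (hj : 1 ≤ j) :
    ∃ K : Subgroup (DihedralGroup (2 ^ j)), Nat.card K = 4 ∧ ∀ k ∈ K, k ^ 2 = 1 := by
  haveI : NeZero (2 ^ j) := ⟨by positivity⟩
  set h : ZMod (2 ^ j) := ((2 ^ (j - 1) : ℕ) : ZMod (2 ^ j)) with hh
  have hprod : (sr 0 : DihedralGroup (2 ^ j)) * sr h = r h := by rw [sr_mul_sr, sub_zero]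
  have hrh2 : (r h : DihedralGroup (2 ^ j)) ^ 2 = 1 := by
    rw [r_pow, ← r_zero]
    congr 1
    rw [hh]
    have : ((2 ^ (j - 1) : ℕ) : ZMod (2 ^ j)) * ((2 : ℕ) : ZMod (2 ^ j)) = ((2 ^ j : ℕ) : ZMod (2 ^ j)) := by
      rw [← Nat.cast_mul, ← pow_succ]
      congr 2
      omega
    rw [this, ZMod.natCast_self]
  have hrh1 : (r h : DihedralGroup (2 ^ j)) ≠ 1 := by
    rw [← r_zero]
    intro e
    have h0 : h = 0 := r.inj e
    rw [hh, ZMod.natCast_eq_zero_iff] at h0
    have h1 := Nat.le_of_dvd (by positivity) h0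
    have h2 : 2 ^ (j - 1) < 2 ^ j := Nat.pow_lt_pow_right (by norm_num) (by omega)
    omega
  have ho : orderOf ((sr 0 : DihedralGroup (2 ^ j)) * sr h) = 2 := by
    rw [hprod]; exact orderOf_eq_prime hrh2 hrh1
  have key := Cfsg.Agent.Lib.Helper1.DihedralIso.closure_equiv_dihedral
    (sr 0 : DihedralGroup (2 ^ j)) (sr h) (orderOf_sr 0) (orderOf_sr h) (by rw [ho]; norm_num)
  rw [ho] at key
  obtain ⟨e⟩ := key
  refine ⟨Subgroup.closure {sr 0, sr h}, ?_, ?_⟩
  · rw [Nat.card_congr e.toEquiv, nat_card]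
  · intro k hk
    have h1 := d2_sq (e ⟨k, hk⟩)
    rw [← map_pow] at h1
    have h2 := e.injective (h1.trans (map_one e).symm)
    exact congrArg Subtype.val h2

end Cfsg.Agent.Lib.Helper7.PByCyc
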