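import Mathlib
import Cfsg.Agent.Lib.Helper7.PByCyc6
import Cfsg.Agent.S0228

set_option autoImplicit false

namespace Cfsg.Agent.Lib.Helper7.PByCyc

open DihedralGroup

section
variable {H : Type*} [Group H] [Finite H]

/-- If all elements of odd order are trivial, a subgroup of odd index is everything. -/
theorem eq_top_of_odd_index (S : Subgroup H) (hodd : Odd S.index)
    (h : ∀ y : H, Odd (orderOf y) → y = 1) : S = ⊤ := by
  rw [← Subgroup.index_eq_one]
  by_contra hne
  obtain ⟨q, hq, hqd⟩ := Nat.exists_prime_and_dvd hne
  haveI : Fact q.Prime := ⟨hq⟩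
  have hqH : q ∣ Nat.card H := dvd_trans hqd (Subgroup.index_dvd_card S)
  obtain ⟨y, hy⟩ := exists_prime_orderOf_dvd_card' q hqH
  have hqodd : Odd q := by
    obtain ⟨c, hc⟩ := hqd
    rw [hc] at hodd
    exact (Nat.odd_mul.mp hodd).1
  have := h y (by rw [hy]; exact hqodd)
  rw [this, orderOf_one] at hy
  exact hq.one_lt.ne hy

theorem abstractD (S : Subgroup H) [hSn : S.Normal] (j : ℕ) (hj : 1 ≤ j)
    (eS : S ≃* DihedralGroup (2 ^ j)) (hodd : Odd S.index)
    (hK : ∀ K : Subgroup H, K ≤ S → Nat.card K = 4 → (∀ k ∈ K, k ^ 2 = 1) →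
      ∀ c : H, (∀ k ∈ K, c * k = k * c) → c ∈ K) :
    Nonempty (H ≃* DihedralGroup (2 ^ j)) ∨ Nonempty (H ≃* alternatingGroup (Fin 4)) := by
  have hcardS : Nat.card S = 2 * 2 ^ j := by rw [Nat.card_congr eS.toEquiv, nat_card]
  have hoddS : ∀ y : H, y ∈ S → Odd (orderOf y) → y = 1 := by
    intro y hy ho
    have h1 : orderOf y ∣ 2 ^ (j + 1) := by
      have := orderOf_dvd_natCard (⟨y, hy⟩ : S)
      rw [Subgroup.orderOf_mk, hcardS, ← pow_succ'] at this
      exact this
    obtain ⟨b, -, hb⟩ := (Nat.dvd_prime_pow Nat.prime_two).mp h1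
    rw [hb] at ho
    rcases Nat.eq_zero_or_pos b with rfl | hbpos
    · rw [pow_zero] at hb; exact orderOf_eq_one_iff.mp hb
    · exfalso
      have : Even (2 ^ b) := (Nat.even_pow.mpr ⟨even_two, hbpos.ne'⟩)
      exact (Nat.not_odd_iff_even.mpr this) ho
  have hfinish : S = ⊤ → Nonempty (H ≃* DihedralGroup (2 ^ j)) := by
    intro h
    exact ⟨(Subgroup.topEquiv.symm.trans (MulEquiv.subgroupCongr h.symm)).trans eS⟩
  rcases Nat.lt_or_ge j 2 with hj2 | hj2
  · have hj1 : j = 1 := by omega
    subst hj1
    have eS2 : S ≃* DihedralGroup 2 := eS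
    have hS4 : Nat.card S = 4 := by rw [hcardS]; norm_num
    have hS2 : ∀ k ∈ S, k ^ 2 = 1 := by
      intro k hk
      have h1 := d2_sq (eS2 ⟨k, hk⟩)
      rw [← map_pow] at h1
      have h2 := eS2.injective (h1.trans (map_one eS2).symm)
      exact congrArg Subtype.val h2
    have hScomm : ∀ a ∈ S, ∀ b ∈ S, a * b = b * a := by
      intro a ha b hb
      have h1 := d2_comm (eS2 ⟨a, ha⟩) (eS2 ⟨b, hb⟩)
      rw [← map_mul, ← map_mul] at h1
      exact congrArg Subtype.val (eS2.injective h1)
    have hCS : ∀ c : H, (∀ k ∈ S, c * k = k * c) → c ∈ S := hK S le_rfl hS4 hS2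
    let ψ : H →* Equiv.Perm S := (MulAut.toPerm S).comp (MulAut.conjNormal (H := S))
    have hψ : ∀ (h : H) (t : S), ((ψ h t : S) : H) = h * t * h⁻¹ := by
      intro h t
      rfl
    have hker : ψ.ker = S := by
      ext h
      rw [MonoidHom.mem_ker]
      constructor
      · intro hh
        apply hCS
        intro k hk
        have h1 := hψ h ⟨k, hk⟩
        rw [hh] at h1
        have h2 : h * k * h⁻¹ = k := h1.symm
        calc h * k = (h * k * h⁻¹) * h := by group
          _ = k * h := by rw [h2]
      · intro hh
        ext t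
        rw [hψ]
        have := hScomm h hh t t.2
        rw [this]
        simp
    have hidx : S.index ∣ 24 := by
      rw [← hker, Subgroup.index_ker]
      have := Subgroup.card_subgroup_dvd_card ψ.range
      rwa [Nat.card_perm, hS4] at this
    have hidx13 : S.index = 1 ∨ S.index = 3 := by
      have hcop : Nat.Coprime S.index (2 ^ 3) :=
        Nat.Coprime.pow_right 3 (Nat.coprime_two_right.mpr hodd)
      have h3 : S.index ∣ 3 := hcop.dvd_of_dvd_mul_left (by simpa using hidx)
      exact (Nat.dvd_prime Nat.prime_three).mp h3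
    rcases hidx13 with h1 | h3
    · left; exact hfinish (Subgroup.index_eq_one.mp h1)
    · right
      have hH12 : Nat.card H = 12 := by rw [← S.card_mul_index, hS4, h3]
      apply Cfsg.Agent.S0228.result hH12
      intro t ht htc
      have h2t : t ^ 2 = 1 := by rw [← ht]; exact pow_orderOf_eq_one t
      have htS : t ∈ S := by
        have h1 := Subgroup.pow_index_mem S t
        rw [h3] at h1
        have : t ^ 3 = t := by rw [pow_succ, h2t, one_mul]
        rwa [this] at h1
      have ht1 : t ≠ 1 := by
        rintro rfl
        rw [orderOf_one] at ht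
        omega
      obtain ⟨y, hyS⟩ : ∃ y : H, y ∉ S := by
        by_contra hall
        push Not at hall
        have : S = ⊤ := by
          rw [eq_top_iff]
          intro x _
          exact hall x
        rw [this, Subgroup.index_top] at h3
        omega
      set tS : S := ⟨t, htS⟩ with htS'
      have htS1 : eS2 tS ≠ 1 := by
        intro h
        apply ht1
        have := eS2.injective (h.trans (map_one eS2).symm)
        exact congrArg Subtype.val this
      obtain ⟨u1, hu1, hu1t⟩ := d2_exists (eS2 tS)
      set a : S := eS2.symm u1 with ha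
      have hea : eS2 a = u1 := by rw [ha, MulEquiv.apply_symm_apply]
      have ha1 : (a : H) ≠ 1 := by
        intro h
        apply hu1
        have : a = 1 := Subtype.ext h
        rw [← hea, this, map_one]
      have hat : (a : H) ≠ t := by
        intro h
        apply hu1t
        have : a = tS := Subtype.ext h
        rw [← hea, this]
      have henum : ∀ u : S, u = 1 ∨ u = tS ∨ u = a ∨ u = tS * a := by
        intro u
        rcases d2_enum (eS2 tS) u1 htS1 hu1 hu1t (eS2 u) with h | h | h | h
        · left; exact eS2.injective (h.trans (map_one _).symm)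
        · right; left; exact eS2.injective h
        · right; right; left
          apply eS2.injective
          rw [h, hea]
        · right; right; right
          apply eS2.injective
          rw [h, map_mul, hea]
      rw [Subgroup.mem_center_iff] at htc
      have hyt : y * t * y⁻¹ = t := by rw [htc y]; group
      have hya : y * (a : H) * y⁻¹ = a ∨ y * (a : H) * y⁻¹ = t * a := by
        have hmem : y * (a : H) * y⁻¹ ∈ S := hSn.conj_mem _ a.2 y
        rcases henum ⟨_, hmem⟩ with h | h | h | h
        · exfalso
          apply ha1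
          have h1 : y * (a : H) * y⁻¹ = 1 := congrArg Subtype.val h
          have := congrArg (fun z => y⁻¹ * z * y) h1
          simpa [mul_assoc] using this
        · exfalso
          apply hat
          have h1 : y * (a : H) * y⁻¹ = t := congrArg Subtype.val h
          have h2 : (a : H) = y⁻¹ * (y * t * y⁻¹) * y := by
            rw [hyt, ← h1]; group
          rw [h2, hyt, htc y⁻¹]
          group
        · left; exact congrArg Subtype.val h
        · right; exact congrArg Subtype.val h
      have hy2a : y ^ 2 * (a : H) * (y ^ 2)⁻¹ = a := by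
        rcases hya with h | h
        · calc y ^ 2 * (a : H) * (y ^ 2)⁻¹ = y * (y * a * y⁻¹) * y⁻¹ := by rw [pow_two]; group
            _ = a := by rw [h, h]
        · calc y ^ 2 * (a : H) * (y ^ 2)⁻¹ = y * (y * a * y⁻¹) * y⁻¹ := by rw [pow_two]; group
            _ = y * (t * a) * y⁻¹ := by rw [h]
            _ = (y * t * y⁻¹) * (y * a * y⁻¹) := by group
            _ = t * (t * a) := by rw [hyt, h]
            _ = a := by rw [← mul_assoc, ← pow_two, h2t, one_mul]
      have hc_t : y ^ 2 * t = t * y ^ 2 := htc (y ^ 2)
      have hc_a : y ^ 2 * (a : H) = a * y ^ 2 := by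
        calc y ^ 2 * (a : H) = (y ^ 2 * a * (y ^ 2)⁻¹) * y ^ 2 := by group
          _ = a * y ^ 2 := by rw [hy2a]
      have hy2S : y ^ 2 ∈ S := by
        apply hCS
        intro k hk
        rcases henum ⟨k, hk⟩ with h | h | h | h
        · have : k = 1 := congrArg Subtype.val h
          rw [this]; simp
        · have : k = t := congrArg Subtype.val h
          rw [this]; exact hc_t
        · have : k = a := congrArg Subtype.val h
          rw [this]; exact hc_a
        · have : k = t * a := congrArg Subtype.val h
          rw [this, ← mul_assoc, hc_t, mul_assoc, hc_a, mul_assoc]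
      have hy3S : y ^ 3 ∈ S := by
        have := Subgroup.pow_index_mem S y
        rwa [h3] at this
      apply hyS
      have : y = y ^ 3 * (y ^ 2)⁻¹ := by group
      rw [this]
      exact S.mul_mem hy3S (S.inv_mem hy2S)
  · left
    apply hfinish
    apply eq_top_of_odd_index S hodd
    intro y hy
    have hcent : ∀ t : S, y * (t : H) * y⁻¹ = t := by
      set α : MulAut (DihedralGroup (2 ^ j)) := MulAut.congr eS (MulAut.conjNormal y) with hα
      have hαm : α ^ (orderOf y) = 1 := by
        rw [hα, ← map_pow, ← map_pow, pow_orderOf_eq_one, map_one, map_one]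
      have h1 := aut_dihedral_odd hj2 α (orderOf y) hy hαm
      have h2 : (MulAut.conjNormal y : MulAut S) = 1 :=
        (MulAut.congr eS).injective (by rw [← hα, h1, map_one])
      intro t
      have := congrArg (fun f : MulAut S => ((f t : S) : H)) h2
      simpa [MulAut.conjNormal_apply] using this
    obtain ⟨KD, hKD4, hKD2⟩ := exists_klein_dihedral hj
    let φ : DihedralGroup (2 ^ j) →* H := S.subtype.comp eS.symm.toMonoidHom
    have hφinj : Function.Injective φ := S.subtype_injective.comp eS.symm.injective
    set K : Subgroup H := KD.map φ with hKdef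
    have hKS : K ≤ S := by
      rintro _ ⟨d, -, rfl⟩
      exact (eS.symm d).2
    have hK4 : Nat.card K = 4 := by
      rw [hKdef, Subgroup.card_map_of_injective hφinj, hKD4]
    have hK2 : ∀ k ∈ K, k ^ 2 = 1 := by
      rintro _ ⟨d, hd, rfl⟩
      rw [← map_pow, hKD2 d hd, map_one]
    have hyK : y ∈ K := hK K hKS hK4 hK2 y (by
      intro k hk
      have := hcent ⟨k, hKS hk⟩
      calc y * k = (y * k * y⁻¹) * y := by group
        _ = k * y := by rw [this])
    exact hoddS y (hKS hyK) hy

end

end Cfsg.Agent.Lib.Helper7.PByCyc
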