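import Mathlib

set_option autoImplicit false

/-!
Counting conjugacy classes of `p`-elements through the orbits of `N_G(P)` on a Sylow
`p`-subgroup `P`.
-/

namespace Cfsg.Agent.Lib.Helper7.PCl

open scoped Pointwise

variable {G : Type*} [Group G] [Finite G] {p : ℕ} [Fact p.Prime]

/-- classes of `p`-elements -/
abbrev Cl (p : ℕ) (G : Type*) [Group G] :=
  {c : ConjClasses G // ∀ x ∈ c.carrier, ∃ k : ℕ, orderOf x = p ^ k}

theorem orderOf_of_mem (P : Sylow p G) (x : G) (hx : x ∈ (P : Subgroup G)) :
    ∃ k : ℕ, orderOf x = p ^ k := by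
  obtain ⟨k, hk⟩ := (IsPGroup.iff_orderOf.mp P.2) ⟨x, hx⟩
  refine ⟨k, ?_⟩
  rw [← hk]
  exact (Subgroup.orderOf_mk x hx).symm

theorem mem_carrier_iff (x y : G) : y ∈ (ConjClasses.mk x).carrier ↔ IsConj x y := by
  rw [ConjClasses.mem_carrier_iff_mk_eq, ConjClasses.mk_eq_mk_iff_isConj, isConj_comm]

/-- the class of an element of `P` -/
def clOf (P : Sylow p G) (x : (P : Subgroup G)) : Cl p G :=
  ⟨ConjClasses.mk (x : G), by
    intro y hy
    rw [mem_carrier_iff] at hy
    obtain ⟨k, hk⟩ := orderOf_of_mem P x x.2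
    refine ⟨k, ?_⟩
    rw [← hk]
    obtain ⟨c, hc⟩ := isConj_iff.mp hy
    have hsc : SemiconjBy c (x : G) y := by
      unfold SemiconjBy
      rw [← hc]
      group
    exact (hsc.orderOf_eq c).symm⟩

/-- every class of `p`-elements meets `P` -/
theorem clOf_surjective (P : Sylow p G) : Function.Surjective (clOf P) := by
  rintro ⟨c, hc⟩
  obtain ⟨g, rfl⟩ := ConjClasses.exists_rep c
  obtain ⟨k, hk⟩ := hc g (by rw [mem_carrier_iff])
  have hpg : IsPGroup p (Subgroup.zpowers g) := by
    apply IsPGroup.of_card (n := k)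
    rw [Nat.card_zpowers, hk]
  obtain ⟨Q, hQ⟩ := hpg.exists_le_sylow
  obtain ⟨h, hh⟩ := MulAction.exists_smul_eq G Q P
  have hgQ : g ∈ (Q : Subgroup G) := hQ (Subgroup.mem_zpowers g)
  have hmem : h * g * h⁻¹ ∈ (P : Subgroup G) := by
    rw [← hh, Sylow.coe_subgroup_smul]
    have := Subgroup.smul_mem_pointwise_smul g (MulAut.conj h) (Q : Subgroup G) hgQ
    simpa [MulAut.smul_def] using this
  refine ⟨⟨h * g * h⁻¹, hmem⟩, ?_⟩
  apply Subtype.ext
  show ConjClasses.mk (h * g * h⁻¹) = ConjClasses.mk g
  rw [ConjClasses.mk_eq_mk_iff_isConj, isConj_comm, isConj_iff]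
  exact ⟨h, rfl⟩

/-- the number of classes of `p`-elements is at most the number of orbits of `N_G(P)` on `P` -/
theorem card_le_orbits (P : Sylow p G) :
    Nat.card (Cl p G) ≤ Nat.card (MulAction.orbitRel.Quotient
      (Subgroup.normalizer ((P : Subgroup G) : Set G)) (P : Subgroup G)) := by
  let f : MulAction.orbitRel.Quotient
      (Subgroup.normalizer ((P : Subgroup G) : Set G)) (P : Subgroup G) → Cl p G :=
    Quotient.lift (clOf P) (by
      intro a b hab
      change a ∈ MulAction.orbit _ b at hab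
      obtain ⟨n, hn⟩ := hab
      apply Subtype.ext
      show ConjClasses.mk (a : G) = ConjClasses.mk (b : G)
      rw [ConjClasses.mk_eq_mk_iff_isConj, isConj_comm, isConj_iff]
      refine ⟨(n : G), ?_⟩
      rw [← hn]
      rfl)
  have hf : Function.Surjective f := by
    intro c
    obtain ⟨x, hx⟩ := clOf_surjective P c
    exact ⟨Quotient.mk _ x, hx⟩
  exact Nat.card_le_card_of_surjective f hf

/-- the fixed points of `n ∈ N_G(P)` on `P` -/
def fixSub (P : Sylow p G) (n : Subgroup.normalizer ((P : Subgroup G) : Set G)) :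
    Subgroup (P : Subgroup G) where
  carrier := {x | n • x = x}
  one_mem' := smul_one n
  mul_mem' := by
    intro a b ha hb
    show n • (a * b) = a * b
    rw [smul_mul', ha, hb]
  inv_mem' := by
    intro a ha
    show n • a⁻¹ = a⁻¹
    rw [smul_inv', ha]

theorem fixSub_ne_top (P : Sylow p G) (n : Subgroup.normalizer ((P : Subgroup G) : Set G))
    (hn : (n : G) ∉ Subgroup.centralizer ((P : Subgroup G) : Set G)) : fixSub P n ≠ ⊤ := by
  intro h
  apply hn
  rw [Subgroup.mem_centralizer_iff]
  intro x hx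
  have h1 : (⟨x, hx⟩ : (P : Subgroup G)) ∈ fixSub P n := by rw [h]; trivial
  have h2 : n • (⟨x, hx⟩ : (P : Subgroup G)) = ⟨x, hx⟩ := h1
  have h3 := congrArg Subtype.val h2
  have h4 : (n : G) * x * (n : G)⁻¹ = x := h3
  calc x * (n : G) = ((n : G) * x * (n : G)⁻¹) * (n : G) := by rw [h4]
    _ = (n : G) * x := by group

theorem card_fixSub_le (P : Sylow p G) (n : Subgroup.normalizer ((P : Subgroup G) : Set G))
    (hn : (n : G) ∉ Subgroup.centralizer ((P : Subgroup G) : Set G)) :
    p * Nat.card (fixSub P n) ≤ Nat.card (P : Subgroup G) := by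
  have hp : p.Prime := Fact.out
  obtain ⟨k, hk⟩ := (P.2 : IsPGroup p (P : Subgroup G)).exists_card_eq
  have hdvd : Nat.card (fixSub P n) ∣ p ^ k := by
    rw [← hk]
    exact Subgroup.card_subgroup_dvd_card _
  obtain ⟨j, hjk, hj⟩ := (Nat.dvd_prime_pow hp).mp hdvd
  have hne : j ≠ k := by
    intro e
    apply fixSub_ne_top P n hn
    apply (Subgroup.card_eq_iff_eq_top _).mp
    rw [hj, hk, e]
  have hlt : j + 1 ≤ k := by omega
  rw [hj, hk, ← pow_succ']
  exact Nat.pow_le_pow_right hp.pos hlt

/-- the key orbit bound -/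
theorem orbit_bound (P : Sylow p G)
    (hP : ¬ Subgroup.normalizer ((P : Subgroup G) : Set G) ≤
      Subgroup.centralizer ((P : Subgroup G) : Set G)) :
    2 * p * Nat.card (MulAction.orbitRel.Quotient
      (Subgroup.normalizer ((P : Subgroup G) : Set G)) (P : Subgroup G)) ≤
      (p + 1) * Nat.card (P : Subgroup G) := by
  classical
  have hp : p.Prime := Fact.out
  set N := Subgroup.normalizer ((P : Subgroup G) : Set G) with hN
  set H := (P : Subgroup G) with hH
  haveI : Fintype N := Fintype.ofFinite N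
  haveI : Fintype H := Fintype.ofFinite H
  haveI : Fintype (MulAction.orbitRel.Quotient N H) := Fintype.ofFinite _
  have hB := MulAction.sum_card_fixedBy_eq_card_orbits_mul_card_group N H
  set C : Subgroup N := (Subgroup.centralizer (H : Set G)).subgroupOf N with hC
  have hCtop : C ≠ ⊤ := by
    intro h
    apply hP
    intro n hn
    have : (⟨n, hn⟩ : N) ∈ C := by rw [h]; trivial
    exact Subgroup.mem_subgroupOf.mp this
  -- pointwise bounds
  have hfix : ∀ n : N, Fintype.card (MulAction.fixedBy H n) = Nat.card (fixSub P n) := by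
    intro n
    rw [← Nat.card_eq_fintype_card]
    rfl
  have hb1 : ∀ n : N, p * Fintype.card (MulAction.fixedBy H n) ≤ p * Nat.card H := by
    intro n
    rw [hfix]
    exact Nat.mul_le_mul_left p (Subgroup.card_le_card_group _)
  have hb2 : ∀ n : N, n ∉ C → p * Fintype.card (MulAction.fixedBy H n) ≤ Nat.card H := by
    intro n hn
    rw [hfix]
    apply card_fixSub_le P n
    intro h
    exact hn (Subgroup.mem_subgroupOf.mpr h)
  -- split the sum
  have hsplit := Finset.sum_filter_add_sum_filter_not (Finset.univ : Finset N) (fun n => n ∈ C)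
    (fun n => p * Fintype.card (MulAction.fixedBy H n))
  have hs1 : ∑ n ∈ Finset.univ.filter (fun n : N => n ∈ C),
      p * Fintype.card (MulAction.fixedBy H n)
      ≤ (Finset.univ.filter (fun n : N => n ∈ C)).card * (p * Nat.card H) := by
    rw [← smul_eq_mul]
    apply Finset.sum_le_card_nsmul
    intro n _
    exact hb1 n
  have hs2 : ∑ n ∈ Finset.univ.filter (fun n : N => ¬ n ∈ C),
      p * Fintype.card (MulAction.fixedBy H n)
      ≤ (Finset.univ.filter (fun n : N => ¬ n ∈ C)).card * Nat.card H := by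
    rw [← smul_eq_mul]
    apply Finset.sum_le_card_nsmul
    intro n hn
    exact hb2 n (Finset.mem_filter.mp hn).2
  set a := (Finset.univ.filter (fun n : N => n ∈ C)).card with ha
  set a' := (Finset.univ.filter (fun n : N => ¬ n ∈ C)).card with ha'
  have haa : a + a' = Fintype.card N := by
    rw [ha, ha']
    have := Finset.card_filter_add_card_filter_not (s := (Finset.univ : Finset N))
      (fun n => n ∈ C)
    rw [this, Finset.card_univ]
  have haC : a = Nat.card C := by
    rw [ha, Nat.card_eq_fintype_card, Fintype.card_subtype]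
  have hle : a ≤ a' := by
    have h1 : Nat.card C * C.index = Nat.card N := Subgroup.card_mul_index C
    have h2 : C.index ≠ 1 := fun h => hCtop (Subgroup.index_eq_one.mp h)
    have h3 : C.index ≠ 0 := Subgroup.index_ne_zero_of_finite
    have h4 : 2 ≤ C.index := by omega
    have h5 : 2 * Nat.card C ≤ Nat.card N := by
      rw [← h1]; nlinarith
    rw [Nat.card_eq_fintype_card (α := N), ← haa, ← haC] at h5
    omega
  have hsum : p * (Fintype.card (MulAction.orbitRel.Quotient N H) * Fintype.card N)
      ≤ a * (p * Nat.card H) + a' * Nat.card H := by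
    rw [← hB, Finset.mul_sum, ← hsplit]
    exact add_le_add hs1 hs2
  rw [Nat.card_eq_fintype_card (α := MulAction.orbitRel.Quotient N H)]
  set Ω := Fintype.card (MulAction.orbitRel.Quotient N H)
  set h := Nat.card H
  rw [← haa] at hsum
  have hpos : 0 < a + a' := by
    rw [haa]; exact Fintype.card_pos
  obtain ⟨q, rfl⟩ : ∃ q, p = q + 1 := ⟨p - 1, by have := hp.pos; omega⟩
  have key : 2 * (q + 1) * Ω * (a + a') ≤ (q + 1 + 1) * h * (a + a') := by
    have h1 : q * h * a ≤ q * h * a' := Nat.mul_le_mul_left _ hle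
    nlinarith
  exact Nat.le_of_mul_le_mul_right key hpos

end Cfsg.Agent.Lib.Helper7.PCl
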