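import Mathlib
import Cfsg.Agent.Lib.Helper3.PComp8
import Cfsg.Agent.Lib.Helper3.ExtLayer1
import Cfsg.Agent.Lib.Helper4.LBal10

set_option autoImplicit false

/-!
Transport of `p`-components: an intrinsic characterisation (`IsPCompGroup`), images under surjections
with `p'`-kernel, and `p`-components of subnormal subgroups.
-/

namespace Cfsg.Agent.Lib.Helper7.PCompTr
open Cfsg Cfsg.Agent.Lib.Helper3

local notation "π[" p "," X "]" => QuotientGroup.mk' (Cfsg.pPrimeCore p X)

/-- the abstract groups that occur as `p`-components -/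
def IsPCompGroup (p : ℕ) (L : Type*) [Group L] : Prop :=
  Cfsg.IsQuasisimple (L ⧸ Cfsg.pPrimeCore p L) ∧
    ∀ N : Subgroup L, N.Normal → N.index.Coprime p → N = ⊤

section card
variable {A B : Type*} [Group A] [Group B] [Finite A]

theorem card_comap_of_surjective (φ : A →* B) (hφ : Function.Surjective φ) (N : Subgroup B) :
    Nat.card (N.comap φ) = Nat.card φ.ker * Nat.card N := by
  have : Finite B := Finite.of_surjective φ hφ
  have h1 := Subgroup.card_mul_index (N.comap φ)
  rw [Subgroup.index_comap_of_surjective N hφ] at h1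
  have h2 := Subgroup.card_mul_index N
  have h3 := Subgroup.card_eq_card_quotient_mul_card_subgroup φ.ker
  have h4 : Nat.card (A ⧸ φ.ker) = Nat.card B :=
    Nat.card_congr (QuotientGroup.quotientKerEquivOfSurjective φ hφ).toEquiv
  have hidx : N.index ≠ 0 := Subgroup.index_ne_zero_of_finite
  have : Nat.card (N.comap φ) * N.index = (Nat.card φ.ker * Nat.card N) * N.index := by
    rw [h1, h3, h4, ← h2]; ring
  exact Nat.eq_of_mul_eq_mul_right (Nat.pos_of_ne_zero hidx) this

end card

section transport
variable {A B : Type*} [Group A] [Group B] [Finite A] {p : ℕ} [hp : Fact p.Prime]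

/-- a surjection with `p'`-kernel induces an isomorphism of the quotients by the `p'`-cores -/
noncomputable def quotientCoreEquivOfSurjective (φ : A →* B) (hφ : Function.Surjective φ)
    (hker : (Nat.card φ.ker).Coprime p) :
    A ⧸ Cfsg.pPrimeCore p A ≃* B ⧸ Cfsg.pPrimeCore p B := by
  have : Finite B := Finite.of_surjective φ hφ
  let θ : A →* B ⧸ Cfsg.pPrimeCore p B := (π[p, B]).comp φ
  have hθ : Function.Surjective θ := (QuotientGroup.mk'_surjective _).comp hφ
  have hk : (Nat.card θ.ker).Coprime p := by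
    have h1 : θ.ker = (Cfsg.pPrimeCore p B).comap φ := by
      rw [← MonoidHom.comap_ker, QuotientGroup.ker_mk']
    rw [h1, card_comap_of_surjective φ hφ]
    exact Nat.Coprime.mul_left hker (Cfsg.Agent.Lib.Helper6.pPrimeCore_coprime p)
  have hcore : Cfsg.pPrimeCore p A = θ.ker :=
    pPrimeCore_eq_ker_of_surjective θ hθ hk pPrimeCore_quotient_eq_bot
  exact (QuotientGroup.quotientMulEquivOfEq hcore).trans
    (QuotientGroup.quotientKerEquivOfSurjective θ hθ)

theorem IsPCompGroup.of_surjective (h : IsPCompGroup p A) (φ : A →* B)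
    (hφ : Function.Surjective φ) (hker : (Nat.card φ.ker).Coprime p) : IsPCompGroup p B := by
  refine ⟨isQuasisimple_of_mulEquiv (quotientCoreEquivOfSurjective φ hφ hker) h.1, ?_⟩
  intro N hN hidx
  have h1 : N.comap φ = ⊤ := by
    apply h.2 _ (hN.comap φ)
    rw [Subgroup.index_comap_of_surjective N hφ]
    exact hidx
  rw [eq_top_iff]
  intro b _
  obtain ⟨a, rfl⟩ := hφ b
  have : a ∈ N.comap φ := by rw [h1]; exact Subgroup.mem_top a
  exact this

theorem IsPCompGroup.of_mulEquiv (h : IsPCompGroup p A) (e : A ≃* B) : IsPCompGroup p B := by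
  apply IsPCompGroup.of_surjective h e.toMonoidHom e.surjective
  have : e.toMonoidHom.ker = ⊥ := (MonoidHom.ker_eq_bot_iff _).mpr e.injective
  rw [this, Subgroup.card_bot]
  exact Nat.coprime_one_left p

end transport

section char
variable {X : Type*} [Group X] [Finite X] {p : ℕ} [hp : Fact p.Prime]

theorem IsPComponent.isPCompGroup {K : Subgroup X} (hK : Cfsg.IsPComponent p K) :
    IsPCompGroup p ↥K :=
  ⟨IsPComponent.isQuasisimple_quotient hK,
    fun N hN hidx => @IsPComponent.eq_top_of_normal_of_coprime_index _ _ _ _ _ _ hK N hN hidx⟩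

theorem isPComponent_of_isPCompGroup {K : Subgroup X} (hsn : K.IsSubnormal)
    (h : IsPCompGroup p ↥K) : Cfsg.IsPComponent p K := by
  refine ⟨hsn, ⟨hsn.map (QuotientGroup.mk'_surjective _), ?_⟩, ?_⟩
  · exact isQuasisimple_of_mulEquiv (quotientPPrimeCoreEquivMap hsn) h.1
  · intro H hH hle hmap
    apply le_antisymm hle
    apply le_of_le_sup_of_isSubnormal (W := Cfsg.pPrimeCore p X)
      (Cfsg.Agent.Lib.Helper6.pPrimeCore_coprime p) h.2 hH
    intro k hk
    have h1 : π[p, X] k ∈ H.map π[p, X] := by
      rw [hmap]; exact Subgroup.mem_map_of_mem _ hk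
    obtain ⟨h0, hh0, hh1⟩ := h1
    have h2 : h0⁻¹ * k ∈ Cfsg.pPrimeCore p X := by
      rw [← QuotientGroup.eq]
      exact hh1
    have : k = h0 * (h0⁻¹ * k) := by group
    rw [this]
    exact Subgroup.mul_mem_sup hh0 h2

theorem isPComponent_iff {K : Subgroup X} :
    Cfsg.IsPComponent p K ↔ K.IsSubnormal ∧ IsPCompGroup p ↥K :=
  ⟨fun h => ⟨h.1, IsPComponent.isPCompGroup h⟩, fun h => isPComponent_of_isPCompGroup h.1 h.2⟩

/-- a `p`-component of a subnormal subgroup is a `p`-component of the group -/
theorem IsPComponent.map_subtype_of_isSubnormal {D : Subgroup X} (hD : D.IsSubnormal)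
    {J : Subgroup ↥D} (hJ : Cfsg.IsPComponent p J) : Cfsg.IsPComponent p (J.map D.subtype) := by
  apply isPComponent_of_isPCompGroup (Subgroup.IsSubnormal.trans' hJ.1 hD)
  exact IsPCompGroup.of_mulEquiv (IsPComponent.isPCompGroup hJ)
    (J.equivMapOfInjective D.subtype D.subtype_injective)

/-- the image of a `p`-component under a surjection with `p'`-kernel is a `p`-component -/
theorem IsPComponent.map_of_surjective {Y : Type*} [Group Y] (φ : X →* Y)
    (hφ : Function.Surjective φ) (hker : (Nat.card φ.ker).Coprime p)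
    {K : Subgroup X} (hK : Cfsg.IsPComponent p K) : Cfsg.IsPComponent p (K.map φ) := by
  have : Finite Y := Finite.of_surjective φ hφ
  apply isPComponent_of_isPCompGroup (hK.1.map hφ)
  apply IsPCompGroup.of_surjective (IsPComponent.isPCompGroup hK) (φ.subgroupMap K)
    (φ.subgroupMap_surjective K)
  have hmem : ∀ k : ↥(φ.subgroupMap K).ker, ((k : ↥K) : X) ∈ φ.ker := by
    intro k
    have h2 := k.2
    rw [MonoidHom.mem_ker] at h2 ⊢
    have h3 := congrArg Subtype.val h2
    simpa using h3
  let f : ↥(φ.subgroupMap K).ker →* ↥φ.ker :=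
    { toFun := fun k => ⟨((k : ↥K) : X), hmem k⟩
      map_one' := rfl
      map_mul' := fun _ _ => rfl }
  have h1 : Nat.card (φ.subgroupMap K).ker ∣ Nat.card φ.ker := by
    apply Subgroup.card_dvd_of_injective f
    intro a b hab
    have h4 : ((a : ↥K) : X) = ((b : ↥K) : X) := congrArg (fun z : ↥φ.ker => (z : X)) hab
    exact Subtype.ext (Subtype.ext h4)
  exact Nat.Coprime.coprime_dvd_left h1 hker

end char

end Cfsg.Agent.Lib.Helper7.PCompTr
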