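import Mathlib
import Cfsg.Agent.Lib.Helper7.SylowFix
import Cfsg.Agent.Lib.Lead.CoprimeSylow

set_option autoImplicit false

/-!
# Covering the `p`-elements of a group by subgroups

If at most `p` subgroups cover the `p`-elements of a finite group, one of them contains the
subgroup generated by all `p`-elements.
-/

namespace Cfsg.Agent.Lib.Helper7.PCover

open scoped Pointwise

universe u v

section defs
variable {G : Type u} [Group G] (p : ℕ)

/-- elements of `p`-power order -/
def PEl (g : G) : Prop := ∃ k : ℕ, orderOf g = p ^ k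

/-- the subgroup generated by the `p`-elements of `H` -/
def pcl (H : Subgroup G) : Subgroup G := Subgroup.closure {g : G | g ∈ H ∧ PEl p g}

theorem pcl_le (H : Subgroup G) : pcl p H ≤ H :=
  (Subgroup.closure_le H).mpr (fun _ hg => hg.1)

theorem pcl_mono {H H' : Subgroup G} (h : H ≤ H') : pcl p H ≤ pcl p H' :=
  Subgroup.closure_mono (fun _ hg => ⟨h hg.1, hg.2⟩)

theorem mem_pcl {H : Subgroup G} {g : G} (hg : g ∈ H) (hp : PEl p g) : g ∈ pcl p H :=
  Subgroup.subset_closure ⟨hg, hp⟩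

theorem pcl_pcl (H : Subgroup G) : pcl p (pcl p H) = pcl p H := by
  apply le_antisymm (pcl_le p _)
  apply Subgroup.closure_mono
  intro g hg
  exact ⟨mem_pcl p hg.1 hg.2, hg.2⟩

theorem pcl_top : pcl p (⊤ : Subgroup G) = Subgroup.closure {g : G | PEl p g} := by
  unfold pcl
  congr 1
  ext g
  simp

theorem pcl_zpowers {x : G} (hx : PEl p x) : pcl p (Subgroup.zpowers x) = Subgroup.zpowers x := by
  apply le_antisymm (pcl_le p _)
  rw [Subgroup.zpowers_le]
  exact mem_pcl p (Subgroup.mem_zpowers x) hx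

theorem pcl_sup_zpowers {M : Subgroup G} (hM : pcl p M = M) {x : G} (hx : PEl p x) :
    pcl p (M ⊔ Subgroup.zpowers x) = M ⊔ Subgroup.zpowers x := by
  apply le_antisymm (pcl_le p _)
  rw [sup_le_iff]
  constructor
  · calc M = pcl p M := hM.symm
      _ ≤ _ := pcl_mono p le_sup_left
  · rw [Subgroup.zpowers_le]
    exact mem_pcl p (Subgroup.mem_sup_right (Subgroup.mem_zpowers x)) hx

theorem PEl_conj_iff (c g : G) : PEl p (MulAut.conj c g) ↔ PEl p g := by
  unfold PEl
  rw [MulEquiv.orderOf_eq]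

theorem pcl_smul (c : G) (H : Subgroup G) :
    pcl p (MulAut.conj c • H) = MulAut.conj c • pcl p H := by
  apply le_antisymm
  · unfold pcl
    rw [Subgroup.closure_le]
    rintro g ⟨hg, hgp⟩
    rw [Subgroup.mem_smul_pointwise_iff_exists] at hg
    rw [SetLike.mem_coe, Subgroup.mem_smul_pointwise_iff_exists]
    obtain ⟨h, hh, rfl⟩ := hg
    refine ⟨h, Subgroup.subset_closure ⟨hh, ?_⟩, rfl⟩
    exact (PEl_conj_iff p c h).mp hgp
  · rw [Subgroup.pointwise_smul_subset_iff]
    unfold pcl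
    rw [Subgroup.closure_le]
    rintro g ⟨hg, hgp⟩
    rw [SetLike.mem_coe, Subgroup.mem_pointwise_smul_iff_inv_smul_mem, inv_inv]
    apply Subgroup.subset_closure
    refine ⟨Subgroup.smul_mem_pointwise_smul _ _ _ hg, ?_⟩
    exact (PEl_conj_iff p c g).mpr hgp

theorem map_ptop_subtype (H : Subgroup G) :
    (pcl p (⊤ : Subgroup ↥H)).map H.subtype = pcl p H := by
  rw [pcl_top, MonoidHom.map_closure]
  unfold pcl
  congr 1
  ext g
  constructor
  · rintro ⟨h, ⟨k, hk⟩, rfl⟩
    exact ⟨h.2, k, by rw [← hk]; exact Subgroup.orderOf_coe h⟩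
  · rintro ⟨hg, k, hk⟩
    exact ⟨⟨g, hg⟩, ⟨k, by rw [← hk]; exact Subgroup.orderOf_mk g hg⟩, rfl⟩

end defs

end Cfsg.Agent.Lib.Helper7.PCover
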