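import Mathlib
import Cfsg.Agent.Lib.Helper7.PCover1

set_option autoImplicit false

/-!
# Covering the `p`-elements of a group by subgroups: the `p`-generated case
-/

namespace Cfsg.Agent.Lib.Helper7.PCover

open scoped Pointwise

universe u v

section caseB
variable {G : Type u} [Group G]

theorem eq_top_of_smul_eq_top (c : G) {H : Subgroup G} (h : MulAut.conj c • H = ⊤) : H = ⊤ := by
  rw [eq_top_iff]
  intro g _
  have h1 : MulAut.conj c g ∈ MulAut.conj c • H := by rw [h]; trivial
  rw [Subgroup.mem_smul_pointwise_iff_exists] at h1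
  obtain ⟨s, hs, hsg⟩ := h1
  rw [MulAut.smul_def] at hsg
  have h2 := (MulAut.conj c).injective hsg
  rw [← h2]
  exact hs

variable (p : ℕ)

/-- the property "proper and generated by `p`-elements" -/
def PP (H : Subgroup G) : Prop := pcl p H = H ∧ H ≠ ⊤

theorem PP_smul (c : G) {H : Subgroup G} (h : PP p H) : PP p (MulAut.conj c • H) :=
  ⟨by rw [pcl_smul, h.1], fun htop => h.2 (eq_top_of_smul_eq_top c htop)⟩

theorem maximal_smul (c : G) {M : Subgroup G} (h : Maximal (PP p) M) :
    Maximal (PP p) (MulAut.conj c • M) := by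
  refine ⟨PP_smul p c h.1, ?_⟩
  intro H hH hle
  rw [Subgroup.pointwise_smul_subset_iff] at hle
  rw [Subgroup.subset_pointwise_smul_iff]
  have hH' : PP p ((MulAut.conj c)⁻¹ • H) := by
    rw [← map_inv]
    exact PP_smul p c⁻¹ hH
  exact h.2 hH' hle

/-- a `p`-element lying in a member of a conjugation-closed family of at most `p` subgroups
normalizes every member -/
theorem conj_fix_of_small [hp : Fact p.Prime] (T : Finset (Subgroup G)) (hT : T.card ≤ p)
    (hTconj : ∀ c : G, ∀ M ∈ T, MulAut.conj c • M ∈ T)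
    (x : G) (hx : PEl p x) (M₀ : Subgroup G) (hM₀ : M₀ ∈ T) (hxM₀ : x ∈ M₀)
    (M : Subgroup G) (hM : M ∈ T) : MulAut.conj x • M = M := by
  classical
  obtain ⟨k, hk⟩ := hx
  -- the key step for two distinct exponents
  have key : ∀ a b : ℕ, a < b → b < p → MulAut.conj (x ^ a) • M = MulAut.conj (x ^ b) • M →
      MulAut.conj x • M = M := by
    intro a b hab hbp h
    obtain ⟨d, rfl⟩ := Nat.exists_eq_add_of_lt hab
    have hd : x ^ (a + d + 1) = x ^ a * x ^ (d + 1) := by rw [add_assoc, pow_add]
    rw [hd, map_mul, mul_smul] at h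
    have h1 : MulAut.conj (x ^ (d + 1)) • M = M := (smul_left_cancel _ h).symm
    have h2 : x ^ (d + 1) ∈ Subgroup.normalizer (M : Set G) :=
      (Cfsg.Agent.Lib.Lead.mem_normalizer_iff_conj_smul _ _).mpr h1
    have hcop : Nat.Coprime (d + 1) (orderOf x) := by
      rw [hk]
      apply Nat.Coprime.pow_right
      exact (Nat.coprime_of_lt_prime (Nat.succ_ne_zero d) (by omega) hp.out).symm
    obtain ⟨m, hm⟩ := exists_pow_eq_self_of_coprime hcop
    have h3 : x ∈ Subgroup.normalizer (M : Set G) := by
      rw [← hm]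
      exact Subgroup.pow_mem _ h2 m
    exact (Cfsg.Agent.Lib.Lead.mem_normalizer_iff_conj_smul _ _).mp h3
  have key2 : ∀ a : ℕ, MulAut.conj (x ^ a) • M = M₀ → MulAut.conj x • M = M := by
    intro a h
    have h1 : MulAut.conj (x ^ a) • M₀ = M₀ :=
      Subgroup.conj_smul_eq_self_of_mem (Subgroup.pow_mem _ hxM₀ a)
    have h2 : M = M₀ := by
      rw [← h1] at h
      exact smul_left_cancel _ h
    rw [h2]
    exact Subgroup.conj_smul_eq_self_of_mem hxM₀
  let f : ℕ → Subgroup G := fun j => if j < p then MulAut.conj (x ^ j) • M else M₀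
  have hmaps : Set.MapsTo f (Finset.range (p + 1) : Set ℕ) (T : Set (Subgroup G)) := by
    intro j _
    show f j ∈ T
    by_cases hj : j < p
    · simp only [f, if_pos hj]
      exact hTconj _ _ hM
    · simp only [f, if_neg hj]
      exact hM₀
  have hcard : T.card < (Finset.range (p + 1)).card := by
    rw [Finset.card_range]
    omega
  obtain ⟨a, ha, b, hb, hab, hfab⟩ := Finset.exists_ne_map_eq_of_card_lt_of_maps_to hcard hmaps
  rw [Finset.mem_range] at ha hb
  have main : ∀ a b : ℕ, a < p + 1 → b < p + 1 → a < b → f a = f b →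
      MulAut.conj x • M = M := by
    intro a b _ hb hab hfab
    by_cases hbp : b < p
    · have hap : a < p := by omega
      simp only [f, if_pos hbp, if_pos hap] at hfab
      exact key a b hab hbp hfab
    · have hap : a < p := by omega
      simp only [f, if_neg hbp, if_pos hap] at hfab
      exact key2 a hfab
  rcases Nat.lt_or_gt_of_ne hab with h | h
  · exact main a b ha hb h hfab
  · exact main b a hb ha h hfab.symm

/-- a normal maximal proper `p`-generated subgroup of a `p`-generated group has `p`-power index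
and contains all `p'`-elements -/
theorem maximal_facts [Finite G] [hp : Fact p.Prime] (hM : pcl p (⊤ : Subgroup G) = ⊤)
    {M : Subgroup G} (hmax : Maximal (PP p) M) (hn : M.Normal) :
    p ∣ M.index ∧ ∀ y : G, (orderOf y).Coprime p → y ∈ M := by
  have hex : ∃ x : G, PEl p x ∧ x ∉ M := by
    by_contra h
    push Not at h
    apply hmax.1.2
    rw [eq_top_iff, ← hM, pcl_top, Subgroup.closure_le]
    exact fun g hg => h g hg
  obtain ⟨x, hx, hxM⟩ := hex
  have hsup : M ⊔ Subgroup.zpowers x = ⊤ := by
    by_contra hne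
    have h1 : PP p (M ⊔ Subgroup.zpowers x) := ⟨pcl_sup_zpowers p hmax.1.1 hx, hne⟩
    have h2 := hmax.2 h1 le_sup_left
    exact hxM (h2 (Subgroup.mem_sup_right (Subgroup.mem_zpowers x)))
  have hall : ∀ z : G ⧸ M, z ∈ Subgroup.zpowers (QuotientGroup.mk' M x) := by
    intro z
    obtain ⟨g, rfl⟩ := QuotientGroup.mk'_surjective M z
    have h1 : QuotientGroup.mk' M g ∈ (M ⊔ Subgroup.zpowers x).map (QuotientGroup.mk' M) :=
      Subgroup.mem_map_of_mem _ (by rw [hsup]; trivial)
    rw [Subgroup.map_sup, QuotientGroup.map_mk'_self, MonoidHom.map_zpowers, bot_sup_eq] at h1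
    exact h1
  have hord : orderOf (QuotientGroup.mk' M x) = M.index := by
    rw [orderOf_eq_card_of_forall_mem_zpowers hall, Subgroup.index_eq_card]
  obtain ⟨k, hk⟩ := hx
  have hdvd : M.index ∣ p ^ k := by
    rw [← hord, ← hk]
    exact orderOf_map_dvd _ x
  obtain ⟨j, -, hj⟩ := (Nat.dvd_prime_pow hp.out).mp hdvd
  have hj0 : j ≠ 0 := by
    intro h0
    rw [h0, pow_zero, Subgroup.index_eq_one] at hj
    exact hmax.1.2 hj
  refine ⟨by rw [hj]; exact dvd_pow_self p hj0, ?_⟩
  intro y hy
  have h1 : orderOf (QuotientGroup.mk' M y) ∣ p ^ j := by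
    rw [← hj, Subgroup.index_eq_card]
    exact orderOf_dvd_natCard _
  have h2 : orderOf (QuotientGroup.mk' M y) ∣ orderOf y := orderOf_map_dvd _ y
  have h3 : Nat.Coprime (p ^ j) (orderOf y) := Nat.Coprime.pow_left j hy.symm
  have h4 := Nat.dvd_gcd h1 h2
  rw [Nat.Coprime] at h3
  rw [h3, Nat.dvd_one, orderOf_eq_one_iff] at h4
  exact (QuotientGroup.eq_one_iff y).mp h4

/-- a finite group is not the union of at most `p` subgroups of index divisible by `p` -/
theorem count_contra [Finite G] (hp2 : 2 ≤ p) (T : Finset (Subgroup G)) (hT : T.card ≤ p)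
    (hidx : ∀ M ∈ T, p ∣ M.index) (hcov : ∀ g : G, ∃ M ∈ T, g ∈ M) : False := by
  classical
  haveI : Fintype G := Fintype.ofFinite G
  set n := Fintype.card G with hn
  have hn' : Nat.card G = n := Nat.card_eq_fintype_card
  let c : Subgroup G → ℕ := fun M => ((Finset.univ.filter (fun g : G => g ∈ M)).erase 1).card
  have hc : ∀ M ∈ T, p * c M + p ≤ n := by
    intro M hM
    have h1 : (Finset.univ.filter (fun g : G => g ∈ M)).card = Nat.card M := by
      rw [Nat.card_eq_fintype_card, Fintype.card_subtype]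
    have h2 : (1 : G) ∈ Finset.univ.filter (fun g : G => g ∈ M) := by
      rw [Finset.mem_filter]
      exact ⟨Finset.mem_univ _, M.one_mem⟩
    have h3 : c M = Nat.card M - 1 := by
      show ((Finset.univ.filter (fun g : G => g ∈ M)).erase 1).card = _
      rw [Finset.card_erase_of_mem h2, h1]
    have h4 : 0 < Nat.card M := Nat.card_pos
    obtain ⟨t, ht⟩ := hidx M hM
    have h5 := Subgroup.card_mul_index M
    rw [hn', ht] at h5
    have ht0 : 0 < t := by
      rcases Nat.eq_zero_or_pos t with h | h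
      · rw [h, mul_zero] at ht
        exact absurd ht (Subgroup.index_ne_zero_of_finite)
      · exact h
    have h6 : p * Nat.card M ≤ n := by
      rw [← h5]
      calc p * Nat.card M = Nat.card M * (p * 1) := by ring
        _ ≤ Nat.card M * (p * t) := Nat.mul_le_mul_left _ (Nat.mul_le_mul_left _ ht0)
    rw [h3]
    have : p * (Nat.card M - 1) + p = p * Nat.card M := by
      obtain ⟨m, hm⟩ := Nat.exists_eq_succ_of_ne_zero h4.ne'
      rw [hm]
      simp [Nat.mul_succ]
    rw [this]
    exact h6
  have hsub : (Finset.univ.erase (1 : G)) ⊆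
      T.biUnion (fun M => (Finset.univ.filter (fun g : G => g ∈ M)).erase 1) := by
    intro g hg
    rw [Finset.mem_erase] at hg
    obtain ⟨M, hM, hgM⟩ := hcov g
    rw [Finset.mem_biUnion]
    refine ⟨M, hM, ?_⟩
    rw [Finset.mem_erase, Finset.mem_filter]
    exact ⟨hg.1, Finset.mem_univ _, hgM⟩
  have h1 : n - 1 ≤ ∑ M ∈ T, c M := by
    calc n - 1 = (Finset.univ.erase (1 : G)).card := by
          rw [Finset.card_erase_of_mem (Finset.mem_univ _), Finset.card_univ]
      _ ≤ (T.biUnion (fun M => (Finset.univ.filter (fun g : G => g ∈ M)).erase 1)).card :=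
          Finset.card_le_card hsub
      _ ≤ ∑ M ∈ T, c M := Finset.card_biUnion_le
  have h2 : ∑ M ∈ T, (p * c M + p) ≤ T.card * n := by
    have := Finset.sum_le_card_nsmul T (fun M => p * c M + p) n hc
    rw [smul_eq_mul] at this
    exact this
  rw [Finset.sum_add_distrib, ← Finset.mul_sum, Finset.sum_const, smul_eq_mul] at h2
  -- T is nonempty
  obtain ⟨M₁, hM₁, -⟩ := hcov 1
  have hk1 : 1 ≤ T.card := Finset.card_pos.mpr ⟨M₁, hM₁⟩
  have hnp : p ≤ n := by
    have := hc M₁ hM₁
    omega
  set k := T.card with hk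
  set S := ∑ M ∈ T, c M with hS
  -- arithmetic
  have e1 : n ≤ S + 1 := by omega
  have e2 : p * n ≤ p * S + p := by nlinarith
  have e3 : k * n ≤ p * n := Nat.mul_le_mul_right _ hT
  have e4 : p * k ≤ p := by nlinarith
  have e5 : k = 1 := by
    have : k ≤ 1 := by
      by_contra hcon
      push Not at hcon
      have : p * 2 ≤ p * k := Nat.mul_le_mul_left _ hcon
      omega
    omega
  rw [e5] at h2
  have : p * n ≤ n := by nlinarith
  have : n * 2 ≤ n := by nlinarith
  omega

end caseB

end Cfsg.Agent.Lib.Helper7.PCover
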