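import Mathlib
import Cfsg.Agent.Lib.Helper7.PCover2

set_option autoImplicit false

/-!
# Covering the `p`-elements of a group by subgroups: main theorem
-/

namespace Cfsg.Agent.Lib.Helper7.PCover

open scoped Pointwise

universe u v

section main
variable (p : ℕ) [hp : Fact p.Prime] {ι : Type v} [Fintype ι]

theorem caseB {G : Type u} [Group G] [Finite G] (hι : Fintype.card ι ≤ p) (K : ι → Subgroup G)
    (hcov : ∀ g : G, PEl p g → ∃ i, g ∈ K i)
    (L1 : ∀ H : Subgroup G, H ≠ ⊤ → ∃ i, pcl p H ≤ K i)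
    (htop : ∀ i, K i ≠ ⊤) (hGen : pcl p (⊤ : Subgroup G) = ⊤) : False := by
  classical
  have hfin : {H : Subgroup G | PP p H}.Finite := Set.toFinite _
  have hmaxex : ∀ H : Subgroup G, PP p H → ∃ M, H ≤ M ∧ Maximal (PP p) M := fun H hH =>
    hfin.exists_le_maximal hH
  have hfinT : {M : Subgroup G | Maximal (PP p) M}.Finite := Set.toFinite _
  set T : Finset (Subgroup G) := hfinT.toFinset with hT
  have hTmem : ∀ M, M ∈ T ↔ Maximal (PP p) M := by
    intro M
    rw [hT, Set.Finite.mem_toFinset]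
    rfl
  -- T has at most p members
  have hidx : ∀ M ∈ T, ∃ i, M ≤ K i := by
    intro M hM
    have h := (hTmem M).mp hM
    obtain ⟨i, hi⟩ := L1 M h.1.2
    exact ⟨i, by rw [← h.1.1]; exact hi⟩
  haveI : Nonempty ι := by
    obtain ⟨i, -⟩ := hcov 1 ⟨0, by simp⟩
    exact ⟨i⟩
  choose! idx hidx' using hidx
  have hinj : Set.InjOn idx (T : Set (Subgroup G)) := by
    intro M hM M' hM' h
    have hMm := (hTmem M).mp hM
    have hMm' := (hTmem M').mp hM'
    have key : ∀ N : Subgroup G, Maximal (PP p) N → N ≤ K (idx M) → N = pcl p (K (idx M)) := by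
      intro N hN hle
      have h1 : N ≤ pcl p (K (idx M)) := by
        rw [← hN.1.1]
        exact pcl_mono p hle
      have h2 : PP p (pcl p (K (idx M))) := by
        refine ⟨pcl_pcl p _, ?_⟩
        intro h3
        apply htop (idx M)
        rw [eq_top_iff, ← h3]
        exact pcl_le p _
      exact le_antisymm h1 (hN.2 h2 h1)
    rw [key M hMm (hidx' M hM), key M' hMm' (by rw [h]; exact hidx' M' hM')]
  have hTcard : T.card ≤ p := by
    calc T.card ≤ (Finset.univ : Finset ι).card :=
          Finset.card_le_card_of_injOn idx (fun _ _ => Finset.mem_univ _) hinj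
      _ = Fintype.card ι := Finset.card_univ
      _ ≤ p := hι
  -- every p-element lies in a member of T
  have hpel : ∀ x : G, PEl p x → ∃ M ∈ T, x ∈ M := by
    intro x hx
    have h1 : PP p (Subgroup.zpowers x) := by
      refine ⟨pcl_zpowers p hx, ?_⟩
      intro h
      obtain ⟨i, hi⟩ := hcov x hx
      apply htop i
      rw [eq_top_iff, ← h, Subgroup.zpowers_le]
      exact hi
    obtain ⟨M, hle, hM⟩ := hmaxex _ h1
    exact ⟨M, (hTmem M).mpr hM, hle (Subgroup.mem_zpowers x)⟩
  -- T is closed under conjugation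
  have hTconj : ∀ c : G, ∀ M ∈ T, MulAut.conj c • M ∈ T := by
    intro c M hM
    rw [hTmem] at hM ⊢
    exact maximal_smul p c hM
  -- every member of T is normal
  have hnormal : ∀ M ∈ T, M.Normal := by
    intro M hM
    rw [← Subgroup.normalizer_eq_top_iff, eq_top_iff, ← hGen, pcl_top, Subgroup.closure_le]
    intro x hx
    obtain ⟨M₀, hM₀, hxM₀⟩ := hpel x hx
    rw [SetLike.mem_coe, Cfsg.Agent.Lib.Lead.mem_normalizer_iff_conj_smul]
    exact conj_fix_of_small p T hTcard hTconj x hx M₀ hM₀ hxM₀ M hM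
  -- cover
  have hcovT : ∀ g : G, ∃ M ∈ T, g ∈ M := by
    intro g
    obtain ⟨x, y, -, hx, hy, hg⟩ := Cfsg.Agent.Lib.Helper7.exists_p_decomp p g
    have hyp : PEl p y := by
      obtain ⟨k, hk⟩ := IsPGroup.iff_card.mp hy
      rw [Nat.card_zpowers] at hk
      exact ⟨k, hk⟩
    obtain ⟨M, hM, hyM⟩ := hpel y hyp
    refine ⟨M, hM, ?_⟩
    have hxM : x ∈ M := (maximal_facts p hGen ((hTmem M).mp hM) (hnormal M hM)).2 x hx
    have hle : Subgroup.closure ({x, y} : Set G) ≤ M := by
      rw [Subgroup.closure_le]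
      intro z hz
      rcases hz with rfl | rfl
      · exact hxM
      · exact hyM
    exact hle hg
  exact count_contra p hp.out.two_le T hTcard
    (fun M hM => (maximal_facts p hGen ((hTmem M).mp hM) (hnormal M hM)).1) hcovT

theorem main_claim (hι : Fintype.card ι ≤ p) :
    ∀ n : ℕ, ∀ (G : Type u) [Group G] [Finite G], Nat.card G = n → ∀ K : ι → Subgroup G,
      (∀ g : G, PEl p g → ∃ i, g ∈ K i) → ∃ i, pcl p (⊤ : Subgroup G) ≤ K i := by
  intro n
  induction n using Nat.strong_induction_on with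
  | _ n ih =>
  intro G _ _ hn K hcov
  have L1 : ∀ H : Subgroup G, H ≠ ⊤ → ∃ i, pcl p H ≤ K i := by
    intro H hH
    have hlt : Nat.card H < n := by
      rw [← hn]
      apply lt_of_le_of_ne (Subgroup.card_le_card_group H)
      intro h
      exact hH ((Subgroup.card_eq_iff_eq_top H).mp h)
    obtain ⟨i, hi⟩ := ih (Nat.card H) hlt ↥H rfl (fun i => (K i).subgroupOf H) (by
      intro g hg
      obtain ⟨k, hk⟩ := hg
      obtain ⟨i, hi⟩ := hcov (g : G) ⟨k, by rw [← hk]; exact Subgroup.orderOf_coe g⟩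
      exact ⟨i, Subgroup.mem_subgroupOf.mpr hi⟩)
    refine ⟨i, ?_⟩
    rw [← map_ptop_subtype]
    calc (pcl p (⊤ : Subgroup ↥H)).map H.subtype
        ≤ ((K i).subgroupOf H).map H.subtype := Subgroup.map_mono hi
      _ ≤ K i := by
        rw [Subgroup.subgroupOf_map_subtype]
        exact inf_le_left
  by_cases htop : ∃ i, K i = ⊤
  · obtain ⟨i, hi⟩ := htop
    exact ⟨i, by rw [hi]; exact le_top⟩
  push Not at htop
  by_cases hGen : pcl p (⊤ : Subgroup G) = ⊤
  · exact (caseB p hι K hcov L1 htop hGen).elim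
  · obtain ⟨i, hi⟩ := L1 _ hGen
    exact ⟨i, by rw [← pcl_pcl]; exact hi⟩

/-- a finite group generated by its `p`-elements whose `p`-elements are covered by a finite
family of proper subgroups needs at least `p + 1` subgroups -/
theorem card_cover {G : Type u} [Group G] [Finite G]
    (hgen : Subgroup.closure {g : G | ∃ k : ℕ, orderOf g = p ^ k} = ⊤)
    (K : ι → Subgroup G) (hK : ∀ i, K i ≠ ⊤)
    (hcov : ∀ g : G, (∃ k : ℕ, orderOf g = p ^ k) → ∃ i, g ∈ K i) :
    p + 1 ≤ Fintype.card ι := by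
  by_contra hcon
  have hι : Fintype.card ι ≤ p := by omega
  obtain ⟨i, hi⟩ := main_claim p hι (Nat.card G) G rfl K hcov
  apply hK i
  rw [eq_top_iff, ← hgen]
  rw [pcl_top] at hi
  exact hi

end main

end Cfsg.Agent.Lib.Helper7.PCover
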