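import Mathlib
import Cfsg.Prelude
import Cfsg.Agent.Lib.Helper6.Subn
import Cfsg.Agent.Lib.Helper6.SubnCl
import Cfsg.Agent.Lib.Helper6.PCore

/-!
# Subnormalizers of `p`-subgroups, part 1

`SnG H g` says that `H` is subnormal in `⟨H, g⟩`.  For a `p`-subgroup `H` of a finite group this
holds iff `H` lies in a `p`-subgroup normalized by `g`; in that case `⟨H, g⟩` has a normal Sylow
`p`-subgroup `Rof p H g`.
-/

set_option autoImplicit false

namespace Cfsg.Agent.Lib.Helper7.Subnz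

open Cfsg

variable {G : Type*} [Group G]

/-- `H` is subnormal in `⟨H, g⟩`. -/
def SnG (H : Subgroup G) (g : G) : Prop :=
  (H.subgroupOf (H ⊔ Subgroup.zpowers g)).IsSubnormal

/-- `O_p(⟨H, g⟩)` as a subgroup of `G`. -/
noncomputable def Rof (p : ℕ) (H : Subgroup G) (g : G) : Subgroup G :=
  pCoreOf p (H ⊔ Subgroup.zpowers g)

theorem snG_of_le [Finite G] {p : ℕ} [Fact p.Prime] {H R : Subgroup G} {g : G}
    (hR : IsPGroup p R) (hHR : H ≤ R) (hg : g ∈ Subgroup.normalizer (R : Set G)) : SnG H g := by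
  unfold SnG
  set Y := H ⊔ Subgroup.zpowers g with hY
  have hYN : Y ≤ Subgroup.normalizer (R : Set G) :=
    sup_le (hHR.trans Subgroup.le_normalizer) (by rwa [Subgroup.zpowers_le])
  have hBn : (R.subgroupOf Y).Normal := by
    rw [Subgroup.normal_subgroupOf_iff_le_normalizer_inf]
    exact (le_inf hYN Subgroup.le_normalizer).trans Subgroup.inf_normalizer_le_normalizer_inf
  have hAB : H.subgroupOf Y ≤ R.subgroupOf Y := Subgroup.comap_mono hHR
  refine Subgroup.IsSubnormal.trans hAB ?_ hBn.isSubnormal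
  have hBp : IsPGroup p (R.subgroupOf Y) := hR.comap_subtype
  exact Cfsg.Agent.Lib.Helper6.isSubnormal_of_isPGroup hBp _

theorem rof_isPGroup (p : ℕ) (H : Subgroup G) (g : G) : IsPGroup p (Rof p H g) :=
  Cfsg.Agent.Lib.Helper6.pCoreOf_isPGroup p _

theorem rof_le (p : ℕ) (H : Subgroup G) (g : G) : Rof p H g ≤ H ⊔ Subgroup.zpowers g :=
  Cfsg.Agent.Lib.Helper6.pCoreOf_le _

theorem le_normalizer_rof (p : ℕ) (H : Subgroup G) (g : G) :
    H ⊔ Subgroup.zpowers g ≤ Subgroup.normalizer (Rof p H g : Set G) := by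
  set Y := H ⊔ Subgroup.zpowers g with hY
  have h1 := Subgroup.le_normalizer_map (H := pCore p Y) Y.subtype
  have h2 : Subgroup.normalizer ((pCore p Y : Subgroup Y) : Set Y) = ⊤ := by
    haveI : (pCore p Y).Normal := Subgroup.sSup_normal _ (fun _ h => h.1)
    exact Subgroup.normalizer_eq_top (pCore p Y)
  rw [h2, ← MonoidHom.range_eq_map, Subgroup.range_subtype] at h1
  exact h1


theorem le_rof_of_snG {p : ℕ} {H : Subgroup G} {g : G} (hH : IsPGroup p H) (h : SnG H g) :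
    H ≤ Rof p H g := by
  unfold SnG at h
  set Y := H ⊔ Subgroup.zpowers g with hY
  have h1 : H.subgroupOf Y ≤ pCore p Y :=
    Cfsg.Agent.Lib.Helper6.le_pCore_of_isSubnormal_of_isPGroup h hH.comap_subtype
  intro x hx
  have hxY : x ∈ Y := (le_sup_left : H ≤ Y) hx
  exact ⟨⟨x, hxY⟩, h1 (Subgroup.mem_subgroupOf.mpr hx), rfl⟩

/-- Every `p`-subgroup of `⟨H, g⟩` lies in `O_p(⟨H, g⟩)` when `H ≤ O_p(⟨H, g⟩)`. -/
theorem le_rof_of_isPGroup {p : ℕ} {H : Subgroup G} {g : G}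
    (hHR : H ≤ Rof p H g) {Q : Subgroup G} (hQ : IsPGroup p Q)
    (hQY : Q ≤ H ⊔ Subgroup.zpowers g) : Q ≤ Rof p H g := by
  set Y := H ⊔ Subgroup.zpowers g with hY
  haveI hRn : (pCore p Y).Normal := Subgroup.sSup_normal _ (fun _ h => h.1)
  have hgY : g ∈ Y := (le_sup_right : Subgroup.zpowers g ≤ Y) (Subgroup.mem_zpowers g)
  set g' : Y := ⟨g, hgY⟩ with hg'
  set φ := QuotientGroup.mk' (pCore p Y) with hφ
  -- H maps to 1
  have hH1 : ∀ x (hx : x ∈ H), φ ⟨x, (le_sup_left : H ≤ Y) hx⟩ = 1 := by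
    intro x hx
    rw [hφ, QuotientGroup.mk'_apply, QuotientGroup.eq_one_iff]
    obtain ⟨y, hy, hyx⟩ := hHR hx
    have : y = ⟨x, (le_sup_left : H ≤ Y) hx⟩ := Subtype.ext hyx
    rw [← this]; exact hy
  -- every element of the quotient is a power of the image of g
  have hcyc : ∀ w : Y, φ w ∈ Subgroup.zpowers (φ g') := by
    have h1 : Y ≤ ((Subgroup.zpowers (φ g')).comap φ).map Y.subtype := by
      apply sup_le
      · intro x hx
        refine ⟨⟨x, (le_sup_left : H ≤ Y) hx⟩, ?_, rfl⟩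
        rw [SetLike.mem_coe, Subgroup.mem_comap, hH1 x hx]; exact one_mem _
      · rw [Subgroup.zpowers_le]
        exact ⟨g', Subgroup.mem_zpowers _, rfl⟩
    intro w
    obtain ⟨w', hw', hww⟩ := h1 w.2
    have : w' = w := Subtype.ext hww
    rw [← this]; exact hw'
  -- commutators lie in the p-core
  have hcomm : ∀ a b : Y, a * b * a⁻¹ * b⁻¹ ∈ pCore p Y := by
    intro a b
    rw [← QuotientGroup.eq_one_iff, ← QuotientGroup.mk'_apply, ← hφ]
    obtain ⟨i, hi⟩ := hcyc a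
    obtain ⟨j, hj⟩ := hcyc b
    rw [map_mul, map_mul, map_mul, map_inv, map_inv, ← hi, ← hj]
    simp only
    rw [← zpow_add, ← zpow_neg, ← zpow_add, ← zpow_neg, ← zpow_add]
    have : i + j + -i + -j = 0 := by ring
    rw [this, zpow_zero]
  -- Q' ⊔ pCore is a normal p-subgroup
  set Q' : Subgroup Y := Q.subgroupOf Y with hQ'
  have hQ'p : IsPGroup p Q' := hQ.comap_subtype
  have hRp : IsPGroup p (pCore p Y) := Cfsg.Agent.Lib.Helper6.pCore_isPGroup p
  have hJp : IsPGroup p (Q' ⊔ pCore p Y : Subgroup Y) := hQ'p.to_sup_of_normal_right hRp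
  have hJn : (Q' ⊔ pCore p Y : Subgroup Y).Normal := by
    constructor
    intro n hn a
    have h1 : a * n * a⁻¹ = (a * n * a⁻¹ * n⁻¹) * n := by group
    rw [h1]
    exact Subgroup.mul_mem _ ((le_sup_right : pCore p Y ≤ Q' ⊔ pCore p Y) (hcomm a n)) hn
  have hJle : Q' ⊔ pCore p Y ≤ pCore p Y := Cfsg.Agent.Lib.Helper6.le_pCore hJn hJp
  intro x hx
  have hxY : x ∈ Y := hQY hx
  refine ⟨⟨x, hxY⟩, hJle ((le_sup_left : Q' ≤ Q' ⊔ pCore p Y) ?_), rfl⟩
  exact Subgroup.mem_subgroupOf.mpr hx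

end Cfsg.Agent.Lib.Helper7.Subnz
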