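import Mathlib
import Cfsg.Prelude
import Cfsg.Agent.Lib.Helper7.Subnz1

/-!
# Subnormalizers of `p`-subgroups, part 2: order of `Rof`, images and preimages
-/

set_option autoImplicit false

namespace Cfsg.Agent.Lib.Helper7.Subnz

open Cfsg

variable {G : Type*} [Group G]

theorem pCore_eq_sylow [Finite G] {p : ℕ} [Fact p.Prime] {H : Subgroup G} {g : G}
    (hHR : H ≤ Rof p H g) (P : Sylow p (H ⊔ Subgroup.zpowers g : Subgroup G)) :
    pCore p (H ⊔ Subgroup.zpowers g : Subgroup G) = P := by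
  have h1 : pCore p (H ⊔ Subgroup.zpowers g : Subgroup G) ≤ P :=
    Cfsg.Agent.Lib.Helper6.pCore_le_sylow P
  have h2 : (P : Subgroup (H ⊔ Subgroup.zpowers g : Subgroup G)) ≤
      pCore p (H ⊔ Subgroup.zpowers g : Subgroup G) := by
    intro x hx
    have hQ : ((P : Subgroup (H ⊔ Subgroup.zpowers g : Subgroup G)).map
        (H ⊔ Subgroup.zpowers g : Subgroup G).subtype) ≤ Rof p H g :=
      le_rof_of_isPGroup hHR (P.isPGroup'.map _) (Subgroup.map_subtype_le _)
    obtain ⟨y, hy, hyx⟩ := hQ ⟨x, hx, rfl⟩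
    have : y = x := Subtype.ext hyx
    rw [← this]; exact hy
  exact le_antisymm h1 h2

theorem rof_card [Finite G] {p : ℕ} [Fact p.Prime] {H : Subgroup G} {g : G}
    (hHR : H ≤ Rof p H g) :
    Nat.card (Rof p H g) = p ^ (Nat.card (H ⊔ Subgroup.zpowers g : Subgroup G)).factorization p := by
  set Y := H ⊔ Subgroup.zpowers g with hY
  obtain ⟨P⟩ : Nonempty (Sylow p Y) := inferInstance
  have h3 : pCore p Y = P := pCore_eq_sylow hHR P
  have h4 : Nat.card (Rof p H g) = Nat.card (pCore p Y) := by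
    unfold Rof pCoreOf
    exact Subgroup.card_map_of_injective Y.subtype_injective
  rw [h4, h3]
  exact P.card_eq_multiplicity

theorem rof_pow_mem [Finite G] {p : ℕ} [hp : Fact p.Prime] {H : Subgroup G} {g : G}
    (hHR : H ≤ Rof p H g) :
    ∃ m : ℕ, m.Coprime p ∧ ∀ w ∈ H ⊔ Subgroup.zpowers g, w ^ m ∈ Rof p H g := by
  set Y := H ⊔ Subgroup.zpowers g with hY
  obtain ⟨P⟩ : Nonempty (Sylow p Y) := inferInstance
  have h3 : pCore p Y = P := pCore_eq_sylow hHR P
  haveI hRn : (pCore p Y).Normal := Subgroup.sSup_normal _ (fun _ h => h.1)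
  refine ⟨(pCore p Y).index, ?_, ?_⟩
  · rw [h3]
    exact ((Nat.Prime.coprime_iff_not_dvd hp.out).mpr P.not_dvd_index).symm
  · intro w hw
    have h1 := Subgroup.pow_index_mem (pCore p Y) ⟨w, hw⟩
    exact ⟨_, h1, by simp⟩

/-- Characterisation: for a `p`-subgroup `H`, `SnG H g` iff some `p`-subgroup containing `H` is
normalized by `g`. -/
theorem snG_iff [Finite G] {p : ℕ} [Fact p.Prime] {H : Subgroup G} (hH : IsPGroup p H) (g : G) :
    SnG H g ↔ ∃ R : Subgroup G, IsPGroup p R ∧ H ≤ R ∧ g ∈ Subgroup.normalizer (R : Set G) := by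
  constructor
  · intro h
    refine ⟨Rof p H g, rof_isPGroup p H g, le_rof_of_snG hH h, ?_⟩
    exact le_normalizer_rof p H g ((le_sup_right : Subgroup.zpowers g ≤ _) (Subgroup.mem_zpowers g))
  · rintro ⟨R, hR, hHR, hg⟩
    exact snG_of_le hR hHR hg

theorem snG_map [Finite G] {G' : Type*} [Group G'] [Finite G'] {p : ℕ} [Fact p.Prime]
    {H : Subgroup G} (hH : IsPGroup p H) {g : G} (f : G →* G') (h : SnG H g) :
    SnG (H.map f) (f g) := by
  obtain ⟨R, hR, hHR, hg⟩ := (snG_iff hH g).mp h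
  refine snG_of_le (p := p) (hR.map f) (Subgroup.map_mono hHR) ?_
  exact Subgroup.le_normalizer_map f ⟨g, hg, rfl⟩

theorem snG_of_map [Finite G] {p : ℕ} [Fact p.Prime] {H : Subgroup G} (hH : IsPGroup p H)
    (K : Subgroup G) [K.Normal] (hK : IsPGroup p K) {g : G}
    (h : SnG (H.map (QuotientGroup.mk' K)) (QuotientGroup.mk' K g)) : SnG H g := by
  obtain ⟨R, hR, hHR, hg⟩ := (snG_iff (hH.map _) _).mp h
  refine snG_of_le (p := p) (R := R.comap (QuotientGroup.mk' K)) ?_ ?_ ?_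
  · apply hR.comap_of_ker_isPGroup
    rwa [QuotientGroup.ker_mk']
  · exact (Subgroup.le_comap_map _ _).trans (Subgroup.comap_mono hHR)
  · exact Subgroup.le_normalizer_comap _ hg

end Cfsg.Agent.Lib.Helper7.Subnz
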