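import Mathlib
import Cfsg.Prelude
import Cfsg.Agent.Lib.Helper7.Subnz2

/-!
# Subnormalizers of `p`-subgroups, part 3: `p`-subgroups covering a `p`-subgroup of `G ⧸ N`,
`N` a normal `p'`-subgroup
-/

set_option autoImplicit false

namespace Cfsg.Agent.Lib.Helper7.Subnz

open Cfsg
open scoped Pointwise

variable {G : Type*} [Group G]

theorem mem_conj_smul (g x : G) (H : Subgroup G) :
    x ∈ MulAut.conj g • H ↔ g⁻¹ * x * g ∈ H := by
  rw [Subgroup.mem_pointwise_smul_iff_inv_smul_mem]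
  simp [MulAut.smul_def]

theorem conj_smul_isPGroup {p : ℕ} (g : G) {H : Subgroup G} (hH : IsPGroup p H) :
    IsPGroup p (MulAut.conj g • H : Subgroup G) := by
  have : (MulAut.conj g • H : Subgroup G) = H.map (MulAut.conj g).toMonoidHom := rfl
  rw [this]
  exact hH.map _

theorem mem_normalizer_iff_conj_smul_eq (g : G) (H : Subgroup G) :
    g ∈ Subgroup.normalizer (H : Set G) ↔ MulAut.conj g • H = H := by
  rw [Subgroup.mem_normalizer_iff]
  constructor
  · intro h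
    ext x
    rw [mem_conj_smul, h (g⁻¹ * x * g)]
    have : g * (g⁻¹ * x * g) * g⁻¹ = x := by group
    rw [this]
  · intro h x
    have h1 : g * x * g⁻¹ ∈ H ↔ g * x * g⁻¹ ∈ MulAut.conj g • H := by rw [h]
    rw [h1, mem_conj_smul]
    have : g⁻¹ * (g * x * g⁻¹) * g = x := by group
    rw [this]

section
variable [Finite G] {p : ℕ} [Fact p.Prime] (N : Subgroup G) [N.Normal]

theorem eq_one_of_mem_of_mem (hNp : (Nat.card N).Coprime p) {V : Subgroup G} (hV : IsPGroup p V)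
    {x : G} (hxV : x ∈ V) (hxN : x ∈ N) : x = 1 := by
  obtain ⟨n, hn⟩ := IsPGroup.iff_card.mp hV
  have h1 : V ⊓ N = ⊥ := by
    apply Subgroup.inf_eq_bot_of_coprime
    rw [hn]
    exact (Nat.Coprime.pow_right n hNp).symm
  have : x ∈ V ⊓ N := ⟨hxV, hxN⟩
  rw [h1] at this
  exact Subgroup.mem_bot.mp this

theorem eq_of_mk_eq (hNp : (Nat.card N).Coprime p) {V : Subgroup G} (hV : IsPGroup p V)
    {x y : G} (hx : x ∈ V) (hy : y ∈ V)
    (h : QuotientGroup.mk' N x = QuotientGroup.mk' N y) : x = y := by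
  have h1 : x⁻¹ * y ∈ N := by
    rw [QuotientGroup.mk'_apply, QuotientGroup.mk'_apply] at h
    exact QuotientGroup.eq.mp h
  have h2 := eq_one_of_mem_of_mem N hNp hV (V.mul_mem (V.inv_mem hx) hy) h1
  exact inv_mul_eq_one.mp h2

/-- `U` is a `p`-subgroup of `G` mapping onto the subgroup `Rb` of `G ⧸ N`. -/
def IsC (p : ℕ) (Rb : Subgroup (G ⧸ N)) (U : Subgroup G) : Prop :=
  IsPGroup p U ∧ U.map (QuotientGroup.mk' N) = Rb

variable {N}

theorem IsC.eq_of_le (hNp : (Nat.card N).Coprime p) {Rb : Subgroup (G ⧸ N)} {U V : Subgroup G}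
    (hU : IsC N p Rb U) (hUV : U ≤ V) (hV : IsPGroup p V)
    (hVR : V.map (QuotientGroup.mk' N) ≤ Rb) : V = U := by
  apply le_antisymm _ hUV
  intro v hv
  have h1 : QuotientGroup.mk' N v ∈ Rb := hVR ⟨v, hv, rfl⟩
  rw [← hU.2] at h1
  obtain ⟨u, hu, huv⟩ := h1
  have := eq_of_mk_eq N hNp hV (hUV hu) hv huv
  rw [← this]; exact hu

theorem IsC.conj {Rb : Subgroup (G ⧸ N)} {U : Subgroup G}
    (hU : IsC N p Rb U) (x : G)
    (hx : QuotientGroup.mk' N x ∈ Subgroup.normalizer (Rb : Set (G ⧸ N))) :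
    IsC N p Rb (MulAut.conj x • U) := by
  refine ⟨conj_smul_isPGroup x hU.1, ?_⟩
  ext y
  constructor
  · rintro ⟨u, hu, rfl⟩
    rw [SetLike.mem_coe, mem_conj_smul] at hu
    have h1 : QuotientGroup.mk' N (x⁻¹ * u * x) ∈ Rb := by
      rw [← hU.2]; exact ⟨_, hu, rfl⟩
    rw [Subgroup.mem_normalizer_iff] at hx
    rw [hx] at h1
    rw [← map_inv, ← map_mul, ← map_mul] at h1
    have : x * (x⁻¹ * u * x) * x⁻¹ = u := by group
    rwa [this] at h1
  · intro hy
    rw [Subgroup.mem_normalizer_iff] at hx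
    have h1 : (QuotientGroup.mk' N x)⁻¹ * y * (QuotientGroup.mk' N x) ∈ Rb := by
      rw [hx]
      have : QuotientGroup.mk' N x * ((QuotientGroup.mk' N x)⁻¹ * y * QuotientGroup.mk' N x) *
          (QuotientGroup.mk' N x)⁻¹ = y := by group
      rwa [this]
    rw [← hU.2] at h1
    obtain ⟨u, hu, huy⟩ := h1
    refine ⟨x * u * x⁻¹, ?_, ?_⟩
    · rw [SetLike.mem_coe, mem_conj_smul]
      have : x⁻¹ * (x * u * x⁻¹) * x = u := by group
      rwa [this]
    · rw [map_mul, map_mul, huy, map_inv]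
      group

theorem IsC.le_comap {Rb : Subgroup (G ⧸ N)} {U : Subgroup G} (hU : IsC N p Rb U) :
    U ≤ Rb.comap (QuotientGroup.mk' N) := by
  intro u hu
  rw [Subgroup.mem_comap, ← hU.2]
  exact ⟨u, hu, rfl⟩

/-- The Sylow subgroup of the preimage of `Rb` defined by a covering `p`-subgroup. -/
noncomputable def IsC.toSylow (hNp : (Nat.card N).Coprime p) {Rb : Subgroup (G ⧸ N)}
    {U : Subgroup G} (hU : IsC N p Rb U) : Sylow p (Rb.comap (QuotientGroup.mk' N)) where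
  toSubgroup := U.subgroupOf (Rb.comap (QuotientGroup.mk' N))
  isPGroup' := hU.1.comap_subtype
  is_maximal' := by
    intro Q hQ hUQ
    have h1 : U ≤ Q.map (Rb.comap (QuotientGroup.mk' N)).subtype := by
      intro u hu
      exact ⟨⟨u, hU.le_comap hu⟩, hUQ (Subgroup.mem_subgroupOf.mpr hu), rfl⟩
    have h2 : (Q.map (Rb.comap (QuotientGroup.mk' N)).subtype).map (QuotientGroup.mk' N) ≤ Rb := by
      rintro _ ⟨_, ⟨q, _, rfl⟩, rfl⟩
      exact q.2
    have h3 := hU.eq_of_le hNp h1 (hQ.map _) h2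
    ext q
    rw [Subgroup.mem_subgroupOf, ← h3]
    constructor
    · intro hq; exact ⟨q, hq, rfl⟩
    · rintro ⟨q', hq', hqq⟩
      have : q' = q := Subtype.ext hqq
      rw [← this]; exact hq'

theorem IsC.exists_conj (hNp : (Nat.card N).Coprime p) {Rb : Subgroup (G ⧸ N)}
    {U U' : Subgroup G} (hU : IsC N p Rb U) (hU' : IsC N p Rb U') :
    ∃ k ∈ N, U' = MulAut.conj k • U := by
  set T := Rb.comap (QuotientGroup.mk' N) with hT
  obtain ⟨t, ht⟩ := MulAction.exists_smul_eq T (hU.toSylow hNp) (hU'.toSylow hNp)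
  have ht' : ∀ x : T, x ∈ U'.subgroupOf T ↔ x ∈ MulAut.conj t • (U.subgroupOf T) := by
    intro x
    have := congrArg (fun P : Sylow p T => (P : Subgroup T)) ht
    simp only [Sylow.coe_subgroup_smul] at this
    show x ∈ ((hU'.toSylow hNp : Sylow p T) : Subgroup T) ↔ _
    rw [← this]
    rfl
  -- t = k * u
  have h1 : QuotientGroup.mk' N (t : G) ∈ Rb := t.2
  rw [← hU.2] at h1
  obtain ⟨u, hu, hut⟩ := h1
  have hk : (t : G) * u⁻¹ ∈ N := by
    rw [← QuotientGroup.eq_one_iff, ← QuotientGroup.mk'_apply, map_mul, map_inv, hut]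
    group
  refine ⟨(t : G) * u⁻¹, hk, ?_⟩
  ext x
  rw [mem_conj_smul]
  constructor
  · intro hx
    have hxT : x ∈ T := hU'.le_comap hx
    have h2 := (ht' ⟨x, hxT⟩).mp (Subgroup.mem_subgroupOf.mpr hx)
    rw [mem_conj_smul, Subgroup.mem_subgroupOf] at h2
    have h3 : ((t : G) * u⁻¹)⁻¹ * x * ((t : G) * u⁻¹) = u * ((t : G)⁻¹ * x * t) * u⁻¹ := by group
    rw [h3]
    exact U.mul_mem (U.mul_mem hu (by simpa using h2)) (U.inv_mem hu)
  · intro hx
    have h3 : (t : G)⁻¹ * x * t = u⁻¹ * (((t : G) * u⁻¹)⁻¹ * x * ((t : G) * u⁻¹)) * u := by group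
    have h4 : (t : G)⁻¹ * x * t ∈ U := by
      rw [h3]
      exact U.mul_mem (U.mul_mem (U.inv_mem hu) hx) hu
    have hxT : x ∈ T := by
      have h5 : (t : G)⁻¹ * x * t ∈ T := hU.le_comap h4
      have h6 : x = (t : G) * ((t : G)⁻¹ * x * t) * (t : G)⁻¹ := by group
      rw [h6]
      exact T.mul_mem (T.mul_mem t.2 h5) (T.inv_mem t.2)
    have h2 := (ht' ⟨x, hxT⟩).mpr (by
      rw [mem_conj_smul, Subgroup.mem_subgroupOf]
      simpa using h4)
    exact Subgroup.mem_subgroupOf.mp h2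

theorem IsC.exists_ge {Rb : Subgroup (G ⧸ N)} (hRb : IsPGroup p Rb) {H : Subgroup G}
    (hH : IsPGroup p H) (hHR : H.map (QuotientGroup.mk' N) ≤ Rb) :
    ∃ U, IsC N p Rb U ∧ H ≤ U := by
  set T := Rb.comap (QuotientGroup.mk' N) with hT
  have hHT : H ≤ T := Subgroup.map_le_iff_le_comap.mp hHR
  obtain ⟨P, hP⟩ := (hH.comap_subtype (K := T)).exists_le_sylow
  refine ⟨(P : Subgroup T).map T.subtype, ⟨P.isPGroup'.map _, ?_⟩, ?_⟩
  · apply le_antisymm
    · rintro _ ⟨_, ⟨q, _, rfl⟩, rfl⟩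
      exact q.2
    · intro y hy
      have hf := MonoidHom.subgroupComap_surjective_of_surjective (QuotientGroup.mk' N) Rb
        (QuotientGroup.mk'_surjective N)
      have h1 : ((P.mapSurjective hf : Sylow p Rb) : Subgroup Rb) = ⊤ := by
        have hRb' : IsPGroup p (⊤ : Subgroup Rb) := by
          intro x
          obtain ⟨k, hk⟩ := hRb x.1
          exact ⟨k, Subtype.ext hk⟩
        exact ((P.mapSurjective hf).is_maximal' hRb' le_top).symm
      have h2 : (⟨y, hy⟩ : Rb) ∈ ((P.mapSurjective hf : Sylow p Rb) : Subgroup Rb) := by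
        rw [h1]; trivial
      rw [Sylow.coe_mapSurjective] at h2
      obtain ⟨q, hq, hqy⟩ := h2
      refine ⟨q.1, ⟨q, hq, rfl⟩, ?_⟩
      have := congrArg Subtype.val hqy
      exact this
  · intro h hh
    exact ⟨⟨h, hHT hh⟩, hP (Subgroup.mem_subgroupOf.mpr hh), rfl⟩

theorem commute_of_mem_normalizer (hNp : (Nat.card N).Coprime p) {U : Subgroup G}
    (hU : IsPGroup p U) {k : G} (hkN : k ∈ N) (hk : k ∈ Subgroup.normalizer (U : Set G))
    {u : G} (hu : u ∈ U) : k * u = u * k := by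
  have h1 : k * u * k⁻¹ ∈ U := (Subgroup.mem_normalizer_iff.mp hk u).mp hu
  have h2 : k * u * k⁻¹ * u⁻¹ ∈ U := U.mul_mem h1 (U.inv_mem hu)
  have h3 : k * u * k⁻¹ * u⁻¹ ∈ N := by
    have : k * u * k⁻¹ * u⁻¹ = k * (u * k⁻¹ * u⁻¹) := by group
    rw [this]
    exact N.mul_mem hkN (Subgroup.Normal.conj_mem inferInstance _ (N.inv_mem hkN) u)
  have h4 := eq_one_of_mem_of_mem N hNp hU h2 h3
  have : k * u = (k * u * k⁻¹ * u⁻¹) * (u * k) := by group
  rw [this, h4, one_mul]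

end

end Cfsg.Agent.Lib.Helper7.Subnz
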