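import Mathlib
import Cfsg.Prelude
import Cfsg.Agent.Lib.Helper7.Subnz3

/-!
# Subnormalizers of `p`-subgroups, part 4: the fibres over a normal `p'`-subgroup
-/

set_option autoImplicit false

namespace Cfsg.Agent.Lib.Helper7.Subnz

open Cfsg
open scoped Pointwise

variable {G : Type*} [Group G]

section
variable [Finite G] {p : ℕ} [Fact p.Prime] {N : Subgroup G} [N.Normal]

theorem map_sup_zpowers (H : Subgroup G) (y : G) :
    (H ⊔ Subgroup.zpowers y).map (QuotientGroup.mk' N) =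
      H.map (QuotientGroup.mk' N) ⊔ Subgroup.zpowers (QuotientGroup.mk' N y) := by
  rw [Subgroup.map_sup, MonoidHom.map_zpowers]

theorem map_le_rof {H : Subgroup G} {g y : G}
    (hHb : H.map (QuotientGroup.mk' N) ≤ Rof p (H.map (QuotientGroup.mk' N)) (QuotientGroup.mk' N g))
    (hy : QuotientGroup.mk' N y = QuotientGroup.mk' N g) {Q : Subgroup G} (hQ : IsPGroup p Q)
    (hQY : Q ≤ H ⊔ Subgroup.zpowers y) :
    Q.map (QuotientGroup.mk' N) ≤ Rof p (H.map (QuotientGroup.mk' N)) (QuotientGroup.mk' N g) := by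
  apply le_rof_of_isPGroup hHb (hQ.map _)
  rw [← hy, ← map_sup_zpowers]
  exact Subgroup.map_mono hQY

theorem isC_rof {H : Subgroup G} (hH : IsPGroup p H) {g y : G}
    (hHb : H.map (QuotientGroup.mk' N) ≤ Rof p (H.map (QuotientGroup.mk' N)) (QuotientGroup.mk' N g))
    (hy : QuotientGroup.mk' N y = QuotientGroup.mk' N g) (hsn : SnG H y) :
    IsC N p (Rof p (H.map (QuotientGroup.mk' N)) (QuotientGroup.mk' N g)) (Rof p H y) := by
  have hHR : H ≤ Rof p H y := le_rof_of_snG hH hsn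
  refine ⟨rof_isPGroup p H y, le_antisymm ?_ ?_⟩
  · exact map_le_rof hHb hy (rof_isPGroup p H y) (rof_le p H y)
  · intro x hx
    have hxX : x ∈ (H ⊔ Subgroup.zpowers y).map (QuotientGroup.mk' N) := by
      rw [map_sup_zpowers, hy]
      exact rof_le p _ _ hx
    obtain ⟨w, hw, rfl⟩ := hxX
    obtain ⟨m, hm, hpow⟩ := rof_pow_mem hHR
    have h1 : (QuotientGroup.mk' N w) ^ m ∈ (Rof p H y).map (QuotientGroup.mk' N) :=
      ⟨w ^ m, hpow w hw, map_pow _ _ _⟩
    obtain ⟨k, hk⟩ := (rof_isPGroup p (H.map (QuotientGroup.mk' N)) (QuotientGroup.mk' N g))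
      ⟨QuotientGroup.mk' N w, hx⟩
    have hk' : (QuotientGroup.mk' N w) ^ p ^ k = 1 := by
      have := congrArg Subtype.val hk
      rwa [Subgroup.coe_pow, Subgroup.coe_one] at this
    have hord : orderOf (QuotientGroup.mk' N w) ∣ p ^ k := orderOf_dvd_of_pow_eq_one hk'
    have hcop : m.Coprime (orderOf (QuotientGroup.mk' N w)) :=
      Nat.Coprime.coprime_dvd_right hord (Nat.Coprime.pow_right k hm)
    obtain ⟨a, ha⟩ := exists_pow_eq_self_of_coprime hcop
    rw [← ha]
    exact Subgroup.pow_mem _ h1 a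

theorem eq_rof_of_isC (hNp : (Nat.card N).Coprime p) {H : Subgroup G} (hH : IsPGroup p H) {g y : G}
    (hHb : H.map (QuotientGroup.mk' N) ≤ Rof p (H.map (QuotientGroup.mk' N)) (QuotientGroup.mk' N g))
    (hy : QuotientGroup.mk' N y = QuotientGroup.mk' N g) {U : Subgroup G}
    (hU : IsC N p (Rof p (H.map (QuotientGroup.mk' N)) (QuotientGroup.mk' N g)) U)
    (hHU : H ≤ U) (hyU : y ∈ Subgroup.normalizer (U : Set G)) : U = Rof p H y := by
  have hsn : SnG H y := snG_of_le hU.1 hHU hyU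
  have hR := isC_rof hH hHb hy hsn
  have hYN : H ⊔ Subgroup.zpowers y ≤ Subgroup.normalizer (U : Set G) :=
    sup_le (hHU.trans Subgroup.le_normalizer) (by rwa [Subgroup.zpowers_le])
  have hRN : Rof p H y ≤ Subgroup.normalizer (U : Set G) := (rof_le p H y).trans hYN
  have hVp : IsPGroup p (Rof p H y ⊔ U : Subgroup G) :=
    IsPGroup.to_sup_of_normal_right' hR.1 hU.1 hRN
  have hVR : (Rof p H y ⊔ U).map (QuotientGroup.mk' N) ≤
      Rof p (H.map (QuotientGroup.mk' N)) (QuotientGroup.mk' N g) := by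
    rw [Subgroup.map_sup, hR.2, hU.2, sup_idem]
  have h1 := hU.eq_of_le hNp le_sup_right hVp hVR
  have hRU : Rof p H y ≤ U := by
    rw [← h1]; exact le_sup_left
  exact hR.eq_of_le hNp hRU hU.1 (le_of_eq hU.2)

end

end Cfsg.Agent.Lib.Helper7.Subnz
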