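import Mathlib
import Cfsg.Prelude
import Cfsg.Agent.Lib.Helper7.Subnz4

/-!
# Subnormalizers of `p`-subgroups, part 5: counting a fibre over a normal `p'`-subgroup
-/

set_option autoImplicit false

namespace Cfsg.Agent.Lib.Helper7.Subnz

open Cfsg
open scoped Pointwise

variable {G : Type*} [Group G]

section
variable [Finite G] {p : ℕ} [Fact p.Prime] {N : Subgroup G} [N.Normal]

theorem conj_mul_smul (a b : G) (U : Subgroup G) :
    MulAut.conj (a * b) • U = MulAut.conj a • (MulAut.conj b • U) := by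
  rw [map_mul, mul_smul]

theorem conj_inv_smul_conj_smul (a : G) (U : Subgroup G) :
    MulAut.conj a⁻¹ • (MulAut.conj a • U) = U := by
  rw [← conj_mul_smul, inv_mul_cancel, map_one, one_smul]

theorem mk_eq_of_mem {k : G} (hk : k ∈ N) (x : G) :
    QuotientGroup.mk' N (k * x) = QuotientGroup.mk' N x := by
  have h1 : QuotientGroup.mk' N k = 1 := by
    rw [QuotientGroup.mk'_apply]; exact (QuotientGroup.eq_one_iff k).mpr hk
  rw [map_mul, h1, one_mul]

theorem mk_eq_of_mem' {k : G} (hk : k ∈ N) (x : G) :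
    QuotientGroup.mk' N (x * k) = QuotientGroup.mk' N x := by
  have h1 : QuotientGroup.mk' N k = 1 := by
    rw [QuotientGroup.mk'_apply]; exact (QuotientGroup.eq_one_iff k).mpr hk
  rw [map_mul, h1, mul_one]

/-- Frattini argument. -/
theorem IsC.exists_normalizing (hNp : (Nat.card N).Coprime p) {Rb : Subgroup (G ⧸ N)}
    {U : Subgroup G} (hU : IsC N p Rb U) (g : G)
    (hg : QuotientGroup.mk' N g ∈ Subgroup.normalizer (Rb : Set (G ⧸ N))) :
    ∃ x, QuotientGroup.mk' N x = QuotientGroup.mk' N g ∧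
      x ∈ Subgroup.normalizer (U : Set G) := by
  obtain ⟨k, hk, hkU⟩ := hU.exists_conj hNp (hU.conj g hg)
  refine ⟨k⁻¹ * g, mk_eq_of_mem (N.inv_mem hk) g, ?_⟩
  rw [mem_normalizer_iff_conj_smul_eq, conj_mul_smul, hkU, conj_inv_smul_conj_smul]

/-- Transitivity of the centralizer of `H` in `N` on the covering `p`-subgroups containing `H`. -/
theorem IsC.exists_centralizing (hNp : (Nat.card N).Coprime p) {Rb : Subgroup (G ⧸ N)}
    {U₀ U : Subgroup G} (hU₀ : IsC N p Rb U₀) (hU : IsC N p Rb U) {H : Subgroup G}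
    (hH₀ : H ≤ U₀) (hHU : H ≤ U) :
    ∃ c, c ∈ N ∧ (∀ h ∈ H, c * h = h * c) ∧ U = MulAut.conj c • U₀ := by
  obtain ⟨k, hk, hkU⟩ := hU₀.exists_conj hNp hU
  refine ⟨k, hk, ?_, hkU⟩
  intro h hh
  have h1 : k⁻¹ * h * k ∈ U₀ := by
    rw [← mem_conj_smul, ← hkU]; exact hHU hh
  have h2 : QuotientGroup.mk' N (k⁻¹ * h * k) = QuotientGroup.mk' N h := by
    rw [mk_eq_of_mem' hk, mk_eq_of_mem (N.inv_mem hk)]
  have h3 := eq_of_mk_eq N hNp hU₀.1 h1 (hH₀ hh) h2
  have : k * h = k * (k⁻¹ * h * k) := by rw [h3]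
  rw [this]; group

/-- The number of elements `y` of the coset `gN` with `H` subnormal in `⟨H, y⟩` is `|C_N(H)|`,
provided `HN/N` is subnormal in `⟨HN/N, gN⟩`. -/
theorem fiber_card (hNp : (Nat.card N).Coprime p) {H : Subgroup G} (hH : IsPGroup p H) (g : G)
    (hg : SnG (H.map (QuotientGroup.mk' N)) (QuotientGroup.mk' N g)) :
    Nat.card {y : G // QuotientGroup.mk' N y = QuotientGroup.mk' N g ∧ SnG H y} =
      Nat.card {u : G // u ∈ N ∧ ∀ h ∈ H, u * h = h * u} := by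
  classical
  obtain ⟨Rb, hRbdef⟩ : ∃ Rb, Rb = Rof p (H.map (QuotientGroup.mk' N)) (QuotientGroup.mk' N g) :=
    ⟨_, rfl⟩
  have hHb : H.map (QuotientGroup.mk' N) ≤ Rb := by
    rw [hRbdef]; exact le_rof_of_snG (hH.map _) hg
  have hRbp : IsPGroup p Rb := by rw [hRbdef]; exact rof_isPGroup p _ _
  have hnorm : QuotientGroup.mk' N g ∈ Subgroup.normalizer (Rb : Set (G ⧸ N)) := by
    rw [hRbdef]
    exact le_normalizer_rof p _ _
      ((le_sup_right : Subgroup.zpowers _ ≤ _) (Subgroup.mem_zpowers _))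
  obtain ⟨U₀, hU₀, hHU₀⟩ := IsC.exists_ge (N := N) hRbp hH hHb
  -- choice functions
  have hg_ex : ∀ U : Subgroup G, ∃ x : G, IsC N p Rb U →
      (QuotientGroup.mk' N x = QuotientGroup.mk' N g ∧ x ∈ Subgroup.normalizer (U : Set G)) := by
    intro U
    by_cases hU : IsC N p Rb U
    · obtain ⟨x, hx⟩ := hU.exists_normalizing hNp g hnorm
      exact ⟨x, fun _ => hx⟩
    · exact ⟨1, fun h => absurd h hU⟩
  choose gsel hgsel using hg_ex
  have hc_ex : ∀ U : Subgroup G, ∃ c : G, IsC N p Rb U → H ≤ U →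
      (c ∈ N ∧ (∀ h ∈ H, c * h = h * c) ∧ U = MulAut.conj c • U₀) := by
    intro U
    by_cases hU : IsC N p Rb U ∧ H ≤ U
    · obtain ⟨c, hc⟩ := hU₀.exists_centralizing hNp hU.1 hHU₀ hU.2
      exact ⟨c, fun _ _ => hc⟩
    · exact ⟨1, fun h1 h2 => absurd ⟨h1, h2⟩ hU⟩
  choose csel hcsel using hc_ex
  -- facts for y in the fibre
  have hA : ∀ y, QuotientGroup.mk' N y = QuotientGroup.mk' N g → SnG H y →
      IsC N p Rb (Rof p H y) ∧ H ≤ Rof p H y ∧
        y ∈ Subgroup.normalizer (Rof p H y : Set G) := by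
    intro y hy hsn
    refine ⟨?_, le_rof_of_snG hH hsn, le_normalizer_rof p H y
      ((le_sup_right : Subgroup.zpowers y ≤ _) (Subgroup.mem_zpowers y))⟩
    rw [hRbdef]
    exact isC_rof hH (hRbdef ▸ hHb) hy hsn
  -- facts for c in the centralizer
  have hB : ∀ c, c ∈ N → (∀ h ∈ H, c * h = h * c) →
      IsC N p Rb (MulAut.conj c • U₀) ∧ H ≤ MulAut.conj c • U₀ := by
    intro c hcN hcH
    refine ⟨hU₀.conj c ?_, ?_⟩
    · have h1 : QuotientGroup.mk' N c = 1 := by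
        rw [QuotientGroup.mk'_apply]; exact (QuotientGroup.eq_one_iff c).mpr hcN
      rw [h1]; exact one_mem _
    · intro h hh
      rw [mem_conj_smul]
      have : c⁻¹ * h * c = h := by
        rw [mul_assoc, ← hcH h hh]; group
      rw [this]; exact hHU₀ hh
  -- the part of an element of the fibre lying in N
  have hA2 : ∀ y, QuotientGroup.mk' N y = QuotientGroup.mk' N g → SnG H y →
      (gsel (Rof p H y))⁻¹ * y ∈ N ∧
      (gsel (Rof p H y))⁻¹ * y ∈ Subgroup.normalizer (Rof p H y : Set G) ∧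
      ∀ u ∈ Rof p H y, (gsel (Rof p H y))⁻¹ * y * u = u * ((gsel (Rof p H y))⁻¹ * y) := by
    intro y hy hsn
    obtain ⟨hU, hHU, hyU⟩ := hA y hy hsn
    obtain ⟨hg1, hg2⟩ := hgsel _ hU
    have h1 : (gsel (Rof p H y))⁻¹ * y ∈ N := by
      have := hg1.trans hy.symm
      rw [QuotientGroup.mk'_apply, QuotientGroup.mk'_apply] at this
      exact QuotientGroup.eq.mp this
    have h2 : (gsel (Rof p H y))⁻¹ * y ∈ Subgroup.normalizer (Rof p H y : Set G) :=
      Subgroup.mul_mem _ (Subgroup.inv_mem _ hg2) hyU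
    exact ⟨h1, h2, fun u hu => commute_of_mem_normalizer hNp hU.1 h1 h2 hu⟩
  have hto : ∀ y, QuotientGroup.mk' N y = QuotientGroup.mk' N g → SnG H y →
      ((gsel (Rof p H y))⁻¹ * y * csel (Rof p H y) ∈ N ∧
        ∀ h ∈ H, (gsel (Rof p H y))⁻¹ * y * csel (Rof p H y) * h =
          h * ((gsel (Rof p H y))⁻¹ * y * csel (Rof p H y))) := by
    intro y hy hsn
    obtain ⟨hU, hHU, hyU⟩ := hA y hy hsn
    obtain ⟨h1, h2, h3⟩ := hA2 y hy hsn
    obtain ⟨hc1, hc2, hc3⟩ := hcsel _ hU hHU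
    refine ⟨N.mul_mem h1 hc1, ?_⟩
    intro h hh
    rw [mul_assoc, hc2 h hh, ← mul_assoc, h3 h (hHU hh), mul_assoc]
  have hinv : ∀ c, c ∈ N → (∀ h ∈ H, c * h = h * c) →
      (QuotientGroup.mk' N (gsel (MulAut.conj c • U₀) * c * (csel (MulAut.conj c • U₀))⁻¹) =
          QuotientGroup.mk' N g ∧
        SnG H (gsel (MulAut.conj c • U₀) * c * (csel (MulAut.conj c • U₀))⁻¹) ∧
        (gsel (MulAut.conj c • U₀) * c * (csel (MulAut.conj c • U₀))⁻¹) ∈
          Subgroup.normalizer ((MulAut.conj c • U₀ : Subgroup G) : Set G)) := by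
    intro c hcN hcH
    obtain ⟨hV, hHV⟩ := hB c hcN hcH
    obtain ⟨V, hVdef⟩ : ∃ V, V = MulAut.conj c • U₀ := ⟨_, rfl⟩
    rw [← hVdef] at hV hHV ⊢
    obtain ⟨hg1, hg2⟩ := hgsel _ hV
    obtain ⟨hc1, hc2, hc3⟩ := hcsel _ hV hHV
    have h5 : MulAut.conj (csel V)⁻¹ • V = U₀ := by
      have : MulAut.conj (csel V)⁻¹ • V = MulAut.conj (csel V)⁻¹ • (MulAut.conj (csel V) • U₀) := by
        rw [← hc3]
      rw [this, conj_inv_smul_conj_smul]
    have h6 : c * (csel V)⁻¹ ∈ Subgroup.normalizer (V : Set G) := by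
      rw [mem_normalizer_iff_conj_smul_eq, conj_mul_smul, h5, hVdef]
    have h7 : gsel V * c * (csel V)⁻¹ ∈ Subgroup.normalizer (V : Set G) := by
      rw [mul_assoc]; exact Subgroup.mul_mem _ hg2 h6
    refine ⟨?_, snG_of_le hV.1 hHV h7, h7⟩
    rw [mk_eq_of_mem' (N.inv_mem hc1), mk_eq_of_mem' hcN, hg1]
  have hleft : ∀ y, QuotientGroup.mk' N y = QuotientGroup.mk' N g → SnG H y →
      gsel (MulAut.conj ((gsel (Rof p H y))⁻¹ * y * csel (Rof p H y)) • U₀) *
        ((gsel (Rof p H y))⁻¹ * y * csel (Rof p H y)) *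
        (csel (MulAut.conj ((gsel (Rof p H y))⁻¹ * y * csel (Rof p H y)) • U₀))⁻¹ = y := by
    intro y hy hsn
    obtain ⟨hU, hHU, hyU⟩ := hA y hy hsn
    obtain ⟨h1, h2, h3⟩ := hA2 y hy hsn
    obtain ⟨hc1, hc2, hc3⟩ := hcsel _ hU hHU
    have hVU : MulAut.conj ((gsel (Rof p H y))⁻¹ * y * csel (Rof p H y)) • U₀ = Rof p H y := by
      rw [conj_mul_smul, ← hc3]
      exact (mem_normalizer_iff_conj_smul_eq _ _).mp h2
    rw [hVU]
    group
  have hright : ∀ c, c ∈ N → (∀ h ∈ H, c * h = h * c) →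
      (gsel (Rof p H (gsel (MulAut.conj c • U₀) * c * (csel (MulAut.conj c • U₀))⁻¹)))⁻¹ *
        (gsel (MulAut.conj c • U₀) * c * (csel (MulAut.conj c • U₀))⁻¹) *
        csel (Rof p H (gsel (MulAut.conj c • U₀) * c * (csel (MulAut.conj c • U₀))⁻¹)) = c := by
    intro c hcN hcH
    obtain ⟨hV, hHV⟩ := hB c hcN hcH
    obtain ⟨hy, hsn, hyV⟩ := hinv c hcN hcH
    have hVR := eq_rof_of_isC hNp hH (hRbdef ▸ hHb) hy (hRbdef ▸ hV) hHV hyV
    rw [← hVR]
    group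
  exact Nat.card_congr
    { toFun := fun y => ⟨_, hto y.1 y.2.1 y.2.2⟩
      invFun := fun c => ⟨_, (hinv c.1 c.2.1 c.2.2).1, (hinv c.1 c.2.1 c.2.2).2.1⟩
      left_inv := fun y => Subtype.ext (hleft y.1 y.2.1 y.2.2)
      right_inv := fun c => Subtype.ext (hright c.1 c.2.1 c.2.2) }

end

end Cfsg.Agent.Lib.Helper7.Subnz
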