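import Mathlib
import Cfsg.Prelude
import Cfsg.Agent.Lib.Helper7.Subnz5

/-!
# Subnormalizers of `p`-subgroups, part 6: passing to a quotient by a normal `p`- or `p'`-subgroup
-/

set_option autoImplicit false

namespace Cfsg.Agent.Lib.Helper7.Subnz

open Cfsg
open scoped Pointwise

theorem card_of_fibers {α β : Type*} [Finite α] [Finite β] (f : α → β) (S : α → Prop)
    (T : β → Prop) (c : ℕ) (h1 : ∀ a, S a → T (f a))
    (h2 : ∀ b, T b → Nat.card {a // f a = b ∧ S a} = c) :
    Nat.card {a // S a} = c * Nat.card {b // T b} := by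
  classical
  haveI : Fintype {b // T b} := Fintype.ofFinite _
  let F : {a // S a} → {b // T b} := fun a => ⟨f a.1, h1 a.1 a.2⟩
  have e1 : (Σ b : {b // T b}, {a : {a // S a} // F a = b}) ≃ {a // S a} :=
    Equiv.sigmaFiberEquiv F
  have e2 : ∀ b : {b // T b}, {a : {a // S a} // F a = b} ≃ {a // f a = b.1 ∧ S a} := fun b =>
    { toFun := fun a => ⟨a.1.1, congrArg Subtype.val a.2, a.1.2⟩
      invFun := fun a => ⟨⟨a.1, a.2.2⟩, Subtype.ext a.2.1⟩
      left_inv := fun a => rfl
      right_inv := fun a => rfl }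
  rw [← Nat.card_congr e1, Nat.card_sigma]
  rw [Finset.sum_congr rfl (fun b _ => (Nat.card_congr (e2 b)).trans (h2 b.1 b.2))]
  rw [Finset.sum_const, Finset.card_univ, smul_eq_mul, Nat.card_eq_fintype_card, mul_comm]

variable {G : Type*} [Group G]

theorem card_fiber_mk (K : Subgroup G) [K.Normal] (b : G ⧸ K) :
    Nat.card {a : G // QuotientGroup.mk' K a = b} = Nat.card K := by
  obtain ⟨a₀, rfl⟩ := QuotientGroup.mk'_surjective K b
  refine Nat.card_congr
    { toFun := fun a => ⟨a₀⁻¹ * a.1, ?_⟩
      invFun := fun k => ⟨a₀ * k.1, ?_⟩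
      left_inv := fun a => Subtype.ext (by simp)
      right_inv := fun k => Subtype.ext (by simp) }
  · have h1 : QuotientGroup.mk' K a.1 = QuotientGroup.mk' K a₀ := a.2
    have h2 : (a₀ : G ⧸ K) = (a.1 : G ⧸ K) := h1.symm
    exact QuotientGroup.eq.mp h2
  · show ((a₀ * k.1 : G) : G ⧸ K) = (a₀ : G ⧸ K)
    apply QuotientGroup.eq.mpr
    simp [k.2]

/-- The preimage of a subset of `G ⧸ K` has `|K|` times as many elements. -/
theorem card_preimage_mk [Finite G] (K : Subgroup G) [K.Normal] (P : G ⧸ K → Prop) :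
    Nat.card {u : G // P (QuotientGroup.mk' K u)} = Nat.card K * Nat.card {x : G ⧸ K // P x} := by
  apply card_of_fibers (QuotientGroup.mk' K) (fun u => P (QuotientGroup.mk' K u)) P
  · intro a ha; exact ha
  · intro b hb
    rw [← card_fiber_mk K b]
    refine Nat.card_congr
      { toFun := fun a => ⟨a.1, a.2.1⟩
        invFun := fun a => ⟨a.1, a.2, by rw [a.2]; exact hb⟩
        left_inv := fun a => rfl
        right_inv := fun a => rfl }

section
variable [Finite G] {p : ℕ} [Fact p.Prime]

/-- Quotient by a normal `p`-subgroup. -/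
theorem card_snG_of_pgroup (K : Subgroup G) [K.Normal] (hK : IsPGroup p K) {H : Subgroup G}
    (hH : IsPGroup p H) :
    Nat.card {g : G // SnG H g} =
      Nat.card K * Nat.card {x : G ⧸ K // SnG (H.map (QuotientGroup.mk' K)) x} := by
  rw [← card_preimage_mk K (fun x => SnG (H.map (QuotientGroup.mk' K)) x)]
  refine Nat.card_congr
    { toFun := fun a => ⟨a.1, snG_map hH _ a.2⟩
      invFun := fun a => ⟨a.1, snG_of_map hH K hK a.2⟩
      left_inv := fun a => rfl
      right_inv := fun a => rfl }

/-- Quotient by a normal `p'`-subgroup. -/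
theorem card_snG_of_coprime (N : Subgroup G) [N.Normal] (hNp : (Nat.card N).Coprime p)
    {H : Subgroup G} (hH : IsPGroup p H) :
    Nat.card {g : G // SnG H g} =
      Nat.card {u : G // u ∈ N ∧ ∀ h ∈ H, u * h = h * u} *
        Nat.card {x : G ⧸ N // SnG (H.map (QuotientGroup.mk' N)) x} := by
  apply card_of_fibers (QuotientGroup.mk' N) (fun g => SnG H g)
    (fun x => SnG (H.map (QuotientGroup.mk' N)) x)
  · intro a ha; exact snG_map hH _ ha
  · intro b hb
    obtain ⟨g, rfl⟩ := QuotientGroup.mk'_surjective N b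
    exact fiber_card hNp hH g hb

end

end Cfsg.Agent.Lib.Helper7.Subnz
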