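import Mathlib
import Cfsg.Prelude
import Cfsg.Agent.Lib.Helper7.Subnz6

/-!
# Sylow subgroups containing a given `p`-subgroup, modulo a normal `p'`-subgroup
-/

set_option autoImplicit false

namespace Cfsg.Agent.Lib.Helper7.PEl

open Cfsg
open Cfsg.Agent.Lib.Helper7.Subnz
open scoped Pointwise

variable {G : Type*} [Group G]

/-- The order of `C_K(H)`. -/
noncomputable def cK (K H : Subgroup G) : ℕ :=
  Nat.card {k : G // k ∈ K ∧ ∀ h ∈ H, k * h = h * k}

theorem cK_pos [Finite G] (K H : Subgroup G) : 0 < cK K H := by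
  unfold cK
  haveI : Nonempty {k : G // k ∈ K ∧ ∀ h ∈ H, k * h = h * k} :=
    ⟨⟨1, K.one_mem, fun h _ => by simp⟩⟩
  exact Nat.card_pos

theorem cK_conj [Finite G] (K : Subgroup G) [K.Normal] (H : Subgroup G) (g : G) :
    cK K (MulAut.conj g • H) = cK K H := by
  unfold cK
  refine Nat.card_congr
    { toFun := fun k => ⟨g⁻¹ * k.1 * g, ?_, ?_⟩
      invFun := fun k => ⟨g * k.1 * g⁻¹, ?_, ?_⟩
      left_inv := fun k => Subtype.ext (by simp only; group)
      right_inv := fun k => Subtype.ext (by simp only; group) }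
  · have := Subgroup.Normal.conj_mem (inferInstance : K.Normal) k.1 k.2.1 g⁻¹
    simpa using this
  · intro h hh
    have h1 : g * h * g⁻¹ ∈ MulAut.conj g • H := by
      rw [mem_conj_smul]
      have : g⁻¹ * (g * h * g⁻¹) * g = h := by group
      rwa [this]
    have h2 := k.2.2 _ h1
    have e1 : g⁻¹ * k.1 * g * h = g⁻¹ * (k.1 * (g * h * g⁻¹)) * g := by group
    have e2 : h * (g⁻¹ * k.1 * g) = g⁻¹ * ((g * h * g⁻¹) * k.1) * g := by group
    rw [e1, e2, h2]
  · exact Subgroup.Normal.conj_mem (inferInstance : K.Normal) k.1 k.2.1 g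
  · intro h hh
    rw [mem_conj_smul] at hh
    have h2 := k.2.2 _ hh
    have e1 : g * k.1 * g⁻¹ * h = g * (k.1 * (g⁻¹ * h * g)) * g⁻¹ := by group
    have e2 : h * (g * k.1 * g⁻¹) = g * ((g⁻¹ * h * g) * k.1) * g⁻¹ := by group
    rw [e1, e2, h2]

section
variable [Finite G] {p : ℕ} [Fact p.Prime] {K : Subgroup G} [K.Normal]

/-- A `p`-subgroup covering a Sylow `p`-subgroup of `G ⧸ K` is a Sylow `p`-subgroup of `G`. -/
noncomputable def sylowOfIsC (hKp : (Nat.card K).Coprime p) (Rb : Sylow p (G ⧸ K))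
    {U : Subgroup G} (hU : IsC K p (Rb : Subgroup (G ⧸ K)) U) : Sylow p G where
  toSubgroup := U
  isPGroup' := hU.1
  is_maximal' := by
    intro Q hQ hUQ
    have h1 : (Rb : Subgroup (G ⧸ K)) ≤ Q.map (QuotientGroup.mk' K) := by
      rw [← hU.2]; exact Subgroup.map_mono hUQ
    have h2 : Q.map (QuotientGroup.mk' K) = Rb := Rb.is_maximal' (hQ.map _) h1
    exact hU.eq_of_le hKp hUQ hQ (le_of_eq h2)

theorem le_conj_of_centralizes {c : G} {H U₀ : Subgroup G} (hH₀ : H ≤ U₀)
    (hc : ∀ h ∈ H, c * h = h * c) : H ≤ MulAut.conj c • U₀ := by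
  intro h hh
  rw [mem_conj_smul]
  have : c⁻¹ * h * c = h := by
    rw [mul_assoc, ← hc h hh]; group
  rw [this]; exact hH₀ hh

/-- The number of covering `p`-subgroups containing `H`. -/
theorem card_isC_mul (hKp : (Nat.card K).Coprime p) {H : Subgroup G} (hH : IsPGroup p H)
    (Rb : Sylow p (G ⧸ K)) (hHR : H.map (QuotientGroup.mk' K) ≤ Rb) (P : Sylow p G) :
    Nat.card {U : Subgroup G // IsC K p (Rb : Subgroup (G ⧸ K)) U ∧ H ≤ U} * cK K P = cK K H := by
  obtain ⟨U₀, hU₀, hHU₀⟩ := IsC.exists_ge (N := K) Rb.isPGroup' hH hHR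
  -- |C_K(U₀)| = |C_K(P)|
  have e1 : cK K U₀ = cK K P := by
    obtain ⟨g, hg⟩ := MulAction.exists_smul_eq G (sylowOfIsC hKp Rb hU₀) P
    have h1 : MulAut.conj g • U₀ = (P : Subgroup G) := by
      have := congrArg (fun Q : Sylow p G => (Q : Subgroup G)) hg
      simp only [Sylow.coe_subgroup_smul] at this
      exact this
    rw [← h1, cK_conj]
  rw [← e1, mul_comm]
  unfold cK
  symm
  apply card_of_fibers (fun c : G => MulAut.conj c • U₀) (fun c => c ∈ K ∧ ∀ h ∈ H, c * h = h * c)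
    (fun U => IsC K p (Rb : Subgroup (G ⧸ K)) U ∧ H ≤ U)
  · rintro c ⟨hcK, hcH⟩
    refine ⟨hU₀.conj c ?_, le_conj_of_centralizes hHU₀ hcH⟩
    have h1 : QuotientGroup.mk' K c = 1 := by
      rw [QuotientGroup.mk'_apply]; exact (QuotientGroup.eq_one_iff c).mpr hcK
    rw [h1]; exact one_mem _
  · rintro U ⟨hU, hHU⟩
    obtain ⟨cU, hcUK, hcUH, hcU⟩ := hU₀.exists_centralizing hKp hU hHU₀ hHU
    refine Nat.card_congr
      { toFun := fun c => ⟨cU⁻¹ * c.1, ?_, ?_⟩
        invFun := fun k => ⟨cU * k.1, ?_, ?_, ?_⟩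
        left_inv := fun c => Subtype.ext (by simp)
        right_inv := fun k => Subtype.ext (by simp) }
    · exact K.mul_mem (K.inv_mem hcUK) c.2.2.1
    · have hn : cU⁻¹ * c.1 ∈ Subgroup.normalizer (U₀ : Set G) := by
        rw [mem_normalizer_iff_conj_smul_eq, conj_mul_smul, c.2.1, hcU, conj_inv_smul_conj_smul]
      intro u hu
      exact commute_of_mem_normalizer hKp hU₀.1 (K.mul_mem (K.inv_mem hcUK) c.2.2.1) hn hu
    · have hn : MulAut.conj k.1 • U₀ = U₀ := by
        rw [← mem_normalizer_iff_conj_smul_eq, Subgroup.mem_normalizer_iff]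
        intro u
        constructor
        · intro hu
          have := k.2.2 u hu
          rw [this, mul_inv_cancel_right]; exact hu
        · intro hu
          have h2 := k.2.2 _ hu
          have e : u = k.1⁻¹ * (k.1 * u * k.1⁻¹) * k.1 := by group
          have e2 : k.1⁻¹ * (k.1 * u * k.1⁻¹) * k.1 = k.1 * u * k.1⁻¹ := by
            rw [mul_assoc, ← h2]; group
          rw [e, e2]; exact hu
      rw [conj_mul_smul, hn, hcU]
    · exact K.mul_mem hcUK k.2.1
    · intro h hh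
      rw [mul_assoc, k.2.2 h (hHU₀ hh), ← mul_assoc, hcUH h hh, mul_assoc]

/-- The number of Sylow `p`-subgroups containing the `p`-subgroup `H`, modulo a normal
`p'`-subgroup `K`. -/
theorem card_sylow_ge_mul (hKp : (Nat.card K).Coprime p) {H : Subgroup G} (hH : IsPGroup p H)
    (P : Sylow p G) :
    Nat.card {Q : Sylow p G // H ≤ Q} * cK K P =
      Nat.card {Rb : Sylow p (G ⧸ K) // H.map (QuotientGroup.mk' K) ≤ Rb} * cK K H := by
  have hsurj := QuotientGroup.mk'_surjective K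
  obtain ⟨Rb₀, hRb₀⟩ := (hH.map (QuotientGroup.mk' K)).exists_le_sylow
  have hc := card_isC_mul hKp hH Rb₀ hRb₀ P
  obtain ⟨c, hcdef⟩ : ∃ c, c = Nat.card {U : Subgroup G //
      IsC K p (Rb₀ : Subgroup (G ⧸ K)) U ∧ H ≤ U} := ⟨_, rfl⟩
  rw [← hcdef] at hc
  have key : Nat.card {Q : Sylow p G // H ≤ Q} =
      c * Nat.card {Rb : Sylow p (G ⧸ K) // H.map (QuotientGroup.mk' K) ≤ Rb} := by
    apply card_of_fibers (fun Q : Sylow p G => Q.mapSurjective hsurj) (fun Q => H ≤ Q)
      (fun Rb => H.map (QuotientGroup.mk' K) ≤ Rb)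
    · intro Q hQ
      rw [Sylow.coe_mapSurjective]
      exact Subgroup.map_mono hQ
    · intro Rb hRb
      have h1 := card_isC_mul hKp hH Rb hRb P
      have h2 : Nat.card {U : Subgroup G // IsC K p (Rb : Subgroup (G ⧸ K)) U ∧ H ≤ U} = c :=
        Nat.eq_of_mul_eq_mul_right (cK_pos K P) (h1.trans hc.symm)
      rw [← h2]
      refine Nat.card_congr
        { toFun := fun Q => ⟨(Q.1 : Subgroup G), ⟨Q.1.isPGroup', ?_⟩, Q.2.2⟩
          invFun := fun U => ⟨sylowOfIsC hKp Rb U.2.1, ?_, U.2.2⟩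
          left_inv := fun Q => Subtype.ext (Sylow.ext rfl)
          right_inv := fun U => Subtype.ext rfl }
      · have := congrArg (fun R : Sylow p (G ⧸ K) => (R : Subgroup (G ⧸ K))) Q.2.1
        simpa [Sylow.coe_mapSurjective] using this
      · apply Sylow.ext
        rw [Sylow.coe_mapSurjective]
        exact U.2.1.2
  rw [key, ← hc]
  ring

end

end Cfsg.Agent.Lib.Helper7.PEl
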