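import Mathlib
import Cfsg.Prelude
import Cfsg.Agent.Lib.Helper7.PEl1

/-!
# Sylow subgroups containing a given subgroup, modulo a normal `p`-subgroup
-/

set_option autoImplicit false

namespace Cfsg.Agent.Lib.Helper7.PEl

open Cfsg
open scoped Pointwise

variable {G : Type*} [Group G]

section
variable [Finite G] {p : ℕ} [Fact p.Prime] {K : Subgroup G} [K.Normal]

theorem normal_pgroup_le_sylow (hK : IsPGroup p K) (Q : Sylow p G) : K ≤ Q := by
  have h1 : IsPGroup p (K ⊔ (Q : Subgroup G) : Subgroup G) := hK.to_sup_of_normal_left Q.isPGroup'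
  have h2 := Q.is_maximal' h1 le_sup_right
  rw [← h2]; exact le_sup_left

theorem card_sylow_ge_of_pgroup (hK : IsPGroup p K) (H : Subgroup G) :
    Nat.card {Q : Sylow p G // H ≤ Q} =
      Nat.card {Rb : Sylow p (G ⧸ K) // H.map (QuotientGroup.mk' K) ≤ Rb} := by
  have hsurj := QuotientGroup.mk'_surjective K
  have hker : IsPGroup p (QuotientGroup.mk' K).ker := by rwa [QuotientGroup.ker_mk']
  have hrange : ∀ Rb : Sylow p (G ⧸ K), (Rb : Subgroup (G ⧸ K)) ≤ (QuotientGroup.mk' K).range := by
    intro Rb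
    rw [MonoidHom.range_eq_top.mpr hsurj]; exact le_top
  refine Nat.card_congr
    { toFun := fun Q => ⟨Q.1.mapSurjective hsurj, ?_⟩
      invFun := fun Rb => ⟨Rb.1.comapOfKerIsPGroup (QuotientGroup.mk' K) hker (hrange Rb.1), ?_⟩
      left_inv := ?_
      right_inv := ?_ }
  · rw [Sylow.coe_mapSurjective]; exact Subgroup.map_mono Q.2
  · rw [Sylow.coe_comapOfKerIsPGroup]
    exact Subgroup.map_le_iff_le_comap.mp Rb.2
  · intro Q
    apply Subtype.ext
    apply Sylow.ext
    simp only [Sylow.coe_comapOfKerIsPGroup, Sylow.coe_mapSurjective]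
    rw [Subgroup.comap_map_eq, QuotientGroup.ker_mk', sup_eq_left.mpr (normal_pgroup_le_sylow hK Q.1)]
  · intro Rb
    apply Subtype.ext
    apply Sylow.ext
    simp only [Sylow.coe_comapOfKerIsPGroup, Sylow.coe_mapSurjective]
    exact Subgroup.map_comap_eq_self_of_surjective hsurj _

end

end Cfsg.Agent.Lib.Helper7.PEl
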