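import Mathlib
import Cfsg.Prelude
import Cfsg.Agent.Lib.Helper7.PEl2

/-!
# Products over the elements of a subgroup, and the centralizer inequality `Theta`
-/

set_option autoImplicit false

namespace Cfsg.Agent.Lib.Helper7.PEl

open Cfsg
open scoped Pointwise

variable {G : Type*} [Group G]

/-- The product of `f x` over the elements `x` of the (finite) subgroup `P`. -/
noncomputable def prodP [Finite G] (P : Subgroup G) (f : G → ℕ) : ℕ :=
  @Finset.prod ↥P ℕ _ (@Finset.univ ↥P (Fintype.ofFinite ↥P)) (fun x => f x)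

section
variable [Finite G]

theorem prodP_congr (P : Subgroup G) {f g : G → ℕ} (h : ∀ x ∈ P, f x = g x) :
    prodP P f = prodP P g := by
  unfold prodP
  exact Finset.prod_congr rfl (fun x _ => h x x.2)

theorem prodP_mul (P : Subgroup G) (f g : G → ℕ) :
    prodP P (fun x => f x * g x) = prodP P f * prodP P g := by
  unfold prodP
  exact Finset.prod_mul_distrib

theorem prodP_pow (P : Subgroup G) (f : G → ℕ) (n : ℕ) :
    prodP P (fun x => f x ^ n) = prodP P f ^ n := by
  unfold prodP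
  exact Finset.prod_pow _ _ _

theorem prodP_le (P : Subgroup G) {f g : G → ℕ} (h : ∀ x ∈ P, f x ≤ g x) :
    prodP P f ≤ prodP P g := by
  unfold prodP
  exact Finset.prod_le_prod' (fun x _ => h x x.2)

theorem prodP_const (P : Subgroup G) (c : ℕ) : prodP P (fun _ => c) = c ^ Nat.card P := by
  unfold prodP
  letI := Fintype.ofFinite ↥P
  rw [Finset.prod_const, Finset.card_univ, Nat.card_eq_fintype_card]

theorem prodP_pos (P : Subgroup G) {f : G → ℕ} (h : ∀ x ∈ P, 0 < f x) : 0 < prodP P f := by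
  unfold prodP
  exact Finset.prod_pos (fun x _ => h x x.2)

theorem prodP_mul_right (P : Subgroup G) (f : G → ℕ) {z : G} (hz : z ∈ P) :
    prodP P (fun x => f (x * z)) = prodP P f := by
  unfold prodP
  letI := Fintype.ofFinite ↥P
  exact Fintype.prod_equiv (Equiv.mulRight (⟨z, hz⟩ : P)) _ _ (fun x => rfl)

/-- Transport along a homomorphism injective on `P`. -/
theorem prodP_map {G' : Type*} [Group G'] [Finite G'] (P : Subgroup G) (φ : G →* G')
    (hinj : ∀ x ∈ P, ∀ y ∈ P, φ x = φ y → x = y) (f : G' → ℕ) :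
    prodP (P.map φ) f = prodP P (fun x => f (φ x)) := by
  unfold prodP
  letI := Fintype.ofFinite ↥P
  letI := Fintype.ofFinite ↥(P.map φ)
  symm
  refine Fintype.prod_bijective (fun x : P => (⟨φ x, ⟨x, x.2, rfl⟩⟩ : P.map φ)) ⟨?_, ?_⟩ _ _
    (fun x => rfl)
  · intro x y hxy
    apply Subtype.ext
    exact hinj x x.2 y y.2 (congrArg Subtype.val hxy)
  · rintro ⟨_, ⟨x, hx, rfl⟩⟩
    exact ⟨⟨x, hx⟩, rfl⟩

/-- Products over the fibres of the quotient map, for `K ≤ P`. -/
theorem prodP_map_mk (K : Subgroup G) [K.Normal] (P : Subgroup G) (hKP : K ≤ P) (f : G ⧸ K → ℕ) :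
    prodP P (fun x => f (QuotientGroup.mk' K x)) =
      prodP (P.map (QuotientGroup.mk' K)) f ^ Nat.card K := by
  classical
  unfold prodP
  letI := Fintype.ofFinite ↥P
  letI := Fintype.ofFinite ↥(P.map (QuotientGroup.mk' K))
  let g : P → P.map (QuotientGroup.mk' K) := fun x => ⟨QuotientGroup.mk' K x, ⟨x, x.2, rfl⟩⟩
  have h1 : ∏ x : P, f (QuotientGroup.mk' K x) = ∏ x : P, (fun y : P.map (QuotientGroup.mk' K) => f y) (g x) := rfl
  rw [h1, ← Finset.prod_fiberwise_of_maps_to (s := Finset.univ) (t := Finset.univ) (g := g)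
    (fun x _ => Finset.mem_univ _)]
  rw [← Finset.prod_pow]
  apply Finset.prod_congr rfl
  intro y _
  have h2 : ∀ x ∈ Finset.univ.filter (fun x : P => g x = y), f (g x) = f y := by
    intro x hx
    rw [(Finset.mem_filter.mp hx).2]
  rw [Finset.prod_congr rfl h2, Finset.prod_const]
  congr 1
  -- the fibre has |K| elements
  obtain ⟨_, ⟨x₀, hx₀, rfl⟩⟩ := y
  rw [← Nat.card_eq_finsetCard]
  refine Nat.card_congr
    { toFun := fun x => ⟨x₀⁻¹ * x.1.1, ?_⟩
      invFun := fun k => ⟨⟨x₀ * k.1, P.mul_mem hx₀ (hKP k.2)⟩, ?_⟩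
      left_inv := fun x => Subtype.ext (Subtype.ext (by simp))
      right_inv := fun k => Subtype.ext (by simp) }
  · have h3 := (Finset.mem_filter.mp x.2).2
    have h4 : QuotientGroup.mk' K (x.1 : G) = QuotientGroup.mk' K x₀ := congrArg Subtype.val h3
    have h5 : (x₀ : G ⧸ K) = ((x.1 : G) : G ⧸ K) := h4.symm
    exact QuotientGroup.eq.mp h5
  · rw [Finset.mem_filter]
    refine ⟨Finset.mem_univ _, ?_⟩
    apply Subtype.ext
    show QuotientGroup.mk' K (x₀ * k.1) = QuotientGroup.mk' K x₀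
    rw [map_mul]
    have : QuotientGroup.mk' K (k.1) = 1 := by
      rw [QuotientGroup.mk'_apply]; exact (QuotientGroup.eq_one_iff _).mpr k.2
    rw [this, mul_one]

end

end Cfsg.Agent.Lib.Helper7.PEl
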