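import Mathlib
import Cfsg.Prelude
import Cfsg.Agent.Lib.Helper7.Subnz6

/-!
# Subnormalizers of `p`-subgroups, part 7: chains of normal subgroups and the count
-/

set_option autoImplicit false

namespace Cfsg.Agent.Lib.Helper7.Subnz

open Cfsg
open scoped Pointwise

universe u

variable {G : Type u} [Group G]

theorem comap_map_mk_of_le (K : Subgroup G) [K.Normal] {A : Subgroup G} (hKA : K ≤ A) :
    (A.map (QuotientGroup.mk' K)).comap (QuotientGroup.mk' K) = A := by
  rw [Subgroup.comap_map_eq, QuotientGroup.ker_mk', sup_eq_left.mpr hKA]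

theorem mk_mem_map_iff (K : Subgroup G) [K.Normal] {A : Subgroup G} (hKA : K ≤ A) (u : G) :
    QuotientGroup.mk' K u ∈ A.map (QuotientGroup.mk' K) ↔ u ∈ A := by
  rw [← Subgroup.mem_comap, comap_map_mk_of_le K hKA]

theorem relIndex_map_mk (K : Subgroup G) [K.Normal] {A : Subgroup G} (hKA : K ≤ A)
    (B : Subgroup G) :
    (A.map (QuotientGroup.mk' K)).relIndex (B.map (QuotientGroup.mk' K)) = A.relIndex B := by
  rw [← Subgroup.relIndex_comap, comap_map_mk_of_le K hKA]

theorem card_eq_card_mul_card_map [Finite G] (K : Subgroup G) [K.Normal] {A : Subgroup G}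
    (hKA : K ≤ A) : Nat.card A = Nat.card K * Nat.card (A.map (QuotientGroup.mk' K)) := by
  have h1 := card_preimage_mk K (fun x => x ∈ A.map (QuotientGroup.mk' K))
  rw [← h1]
  exact Nat.card_congr (Equiv.subtypeEquivRight (fun u => (mk_mem_map_iff K hKA u).symm))

theorem card_comm_set [Finite G] (K : Subgroup G) [K.Normal] {A B : Subgroup G} (hKA : K ≤ A)
    (hKB : K ≤ B) (H : Subgroup G) :
    Nat.card {u : G // u ∈ B ∧ ∀ h ∈ H, h * u * h⁻¹ * u⁻¹ ∈ A} =
      Nat.card K * Nat.card {x : G ⧸ K // x ∈ B.map (QuotientGroup.mk' K) ∧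
        ∀ h ∈ H.map (QuotientGroup.mk' K), h * x * h⁻¹ * x⁻¹ ∈ A.map (QuotientGroup.mk' K)} := by
  rw [← card_preimage_mk K (fun x => x ∈ B.map (QuotientGroup.mk' K) ∧
        ∀ h ∈ H.map (QuotientGroup.mk' K), h * x * h⁻¹ * x⁻¹ ∈ A.map (QuotientGroup.mk' K))]
  refine Nat.card_congr (Equiv.subtypeEquivRight (fun u => ?_))
  rw [mk_mem_map_iff K hKB]
  refine and_congr Iff.rfl ?_
  constructor
  · rintro h1 _ ⟨h, hh, rfl⟩
    rw [← map_inv, ← map_inv, ← map_mul, ← map_mul, ← map_mul, mk_mem_map_iff K hKA]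
    exact h1 h hh
  · intro h1 h hh
    have := h1 _ ⟨h, hh, rfl⟩
    rwa [← map_inv, ← map_inv, ← map_mul, ← map_mul, ← map_mul, mk_mem_map_iff K hKA] at this

/-- The factor attached to the step `M i ≤ M (i+1)` of a chain. -/
noncomputable def fac (p : ℕ) (H : Subgroup G) {n : ℕ} (M : Fin (n + 1) → Subgroup G)
    (i : Fin n) : ℕ :=
  if ((M i.castSucc).relIndex (M i.succ)).Coprime p then
    Nat.card {u : G // u ∈ M i.succ ∧ ∀ h ∈ H, h * u * h⁻¹ * u⁻¹ ∈ M i.castSucc} /
      Nat.card (M i.castSucc)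
  else 1

theorem fac_map_succ [Finite G] (p : ℕ) (H : Subgroup G) {n : ℕ} (M : Fin (n + 2) → Subgroup G)
    (hmono : Monotone M) [hK : (M 1).Normal] (j : Fin n) :
    fac p (H.map (QuotientGroup.mk' (M 1)))
      (fun j : Fin (n + 1) => (M j.succ).map (QuotientGroup.mk' (M 1))) j = fac p H M j.succ := by
  have h1 : M 1 ≤ M j.succ.castSucc := by
    apply hmono
    rw [← Fin.succ_castSucc, ← Fin.succ_zero_eq_one]
    exact Fin.succ_le_succ_iff.mpr (Fin.zero_le _)
  have h2 : M 1 ≤ M j.succ.succ := h1.trans (hmono (Fin.castSucc_le_succ _))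
  unfold fac
  simp only [Fin.succ_castSucc]
  rw [relIndex_map_mk (M 1) h1]
  by_cases hc : ((M j.succ.castSucc).relIndex (M j.succ.succ)).Coprime p
  · rw [if_pos hc, if_pos hc, card_comm_set (M 1) h1 h2 H, card_eq_card_mul_card_map (M 1) h1]
    rw [Nat.mul_div_mul_left _ _ Nat.card_pos]
  · rw [if_neg hc, if_neg hc]

theorem fac_zero_of_coprime [Finite G] (p : ℕ) (H : Subgroup G) {n : ℕ}
    (M : Fin (n + 2) → Subgroup G) (h0 : M 0 = ⊥) (hc : (Nat.card (M 1)).Coprime p) :
    fac p H M 0 = Nat.card {u : G // u ∈ M 1 ∧ ∀ h ∈ H, u * h = h * u} := by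
  unfold fac
  have e1 : (0 : Fin (n + 1)).castSucc = 0 := rfl
  have e2 : (0 : Fin (n + 1)).succ = 1 := rfl
  rw [e1, e2, h0, Subgroup.relIndex_bot_left, if_pos hc, Subgroup.card_bot, Nat.div_one]
  refine Nat.card_congr (Equiv.subtypeEquivRight (fun u => and_congr Iff.rfl ?_))
  refine forall_congr' (fun h => forall_congr' (fun _ => ?_))
  rw [Subgroup.mem_bot]
  constructor
  · intro h1
    have : h * u = (h * u * h⁻¹ * u⁻¹) * (u * h) := by group
    rw [this, h1, one_mul]
  · intro h1
    have : h * u * h⁻¹ * u⁻¹ = h * u * (u * h)⁻¹ := by group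
    rw [this, h1]; group

theorem fac_zero_of_not_coprime [Finite G] (p : ℕ) (H : Subgroup G) {n : ℕ}
    (M : Fin (n + 2) → Subgroup G) (h0 : M 0 = ⊥) (hc : ¬ (Nat.card (M 1)).Coprime p) :
    fac p H M 0 = 1 := by
  unfold fac
  have e1 : (0 : Fin (n + 1)).castSucc = 0 := rfl
  have e2 : (0 : Fin (n + 1)).succ = 1 := rfl
  rw [e1, e2, h0, Subgroup.relIndex_bot_left, if_neg hc]

theorem main_aux (p : ℕ) [hp : Fact p.Prime] : ∀ (n : ℕ) {G : Type u} [Group G] [Finite G]
    (H : Subgroup G) (_ : IsPGroup p H) (M : Fin (n + 1) → Subgroup G) (_ : M 0 = ⊥)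
    (_ : M (Fin.last n) = ⊤) (_ : Monotone M) (_ : ∀ i, (M i).Normal)
    (_ : ∀ i : Fin n, (∃ m : ℕ, (M i.castSucc).relIndex (M i.succ) = p ^ m) ∨
      ((M i.castSucc).relIndex (M i.succ)).Coprime p),
    Nat.card {g : G // SnG H g} =
      p ^ (Nat.card G).factorization p * ∏ i : Fin n, fac p H M i := by
  intro n
  induction n with
  | zero =>
    intro G _ _ H hH M h0 hn _ _ _
    have hbt : (⊥ : Subgroup G) = ⊤ := by rw [← h0, ← hn]; rfl
    haveI : Subsingleton G := by
      refine ⟨fun a b => ?_⟩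
      have ha : a ∈ (⊥ : Subgroup G) := by rw [hbt]; trivial
      have hb : b ∈ (⊥ : Subgroup G) := by rw [hbt]; trivial
      rw [Subgroup.mem_bot.mp ha, Subgroup.mem_bot.mp hb]
    have h1 : Nat.card G = 1 := Nat.card_unique
    have h2 : Nat.card {g : G // SnG H g} = 1 := by
      rw [Nat.card_eq_one_iff_unique]
      refine ⟨inferInstance, ⟨⟨1, ?_⟩⟩⟩
      exact snG_of_le hH le_rfl (Subgroup.one_mem _)
    rw [h2, h1]
    simp
  | succ n ih =>
    intro G _ _ H hH M h0 hn hmono hnormal hfac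
    haveI hKn : (M 1).Normal := hnormal 1
    -- the chain in the quotient
    have ih' := ih (G := G ⧸ M 1) (H.map (QuotientGroup.mk' (M 1))) (hH.map _)
      (fun j : Fin (n + 1) => (M j.succ).map (QuotientGroup.mk' (M 1)))
      (by
        show (M (0 : Fin (n + 1)).succ).map (QuotientGroup.mk' (M 1)) = ⊥
        have e2 : (0 : Fin (n + 1)).succ = 1 := rfl
        rw [e2, QuotientGroup.map_mk'_self])
      (by
        show (M (Fin.last n).succ).map (QuotientGroup.mk' (M 1)) = ⊤
        rw [Fin.succ_last, hn]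
        exact Subgroup.map_top_of_surjective _ (QuotientGroup.mk'_surjective _))
      (fun a b hab => Subgroup.map_mono (hmono (Fin.succ_le_succ_iff.mpr hab)))
      (fun j => Subgroup.Normal.map (hnormal _) _ (QuotientGroup.mk'_surjective _))
      (by
        intro j
        have h1 : M 1 ≤ M j.succ.castSucc := by
          apply hmono
          rw [← Fin.succ_castSucc, ← Fin.succ_zero_eq_one]
          exact Fin.succ_le_succ_iff.mpr (Fin.zero_le _)
        simp only [Fin.succ_castSucc]
        rw [relIndex_map_mk (M 1) h1]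
        exact hfac j.succ)
    rw [Fin.prod_univ_succ]
    rw [Finset.prod_congr rfl (fun j _ => (fac_map_succ p H M hmono j).symm)]
    have hcard : Nat.card G = Nat.card (G ⧸ M 1) * Nat.card (M 1) :=
      Subgroup.card_eq_card_quotient_mul_card_subgroup _
    have hfact : (Nat.card G).factorization p =
        (Nat.card (G ⧸ M 1)).factorization p + (Nat.card (M 1)).factorization p := by
      rw [hcard, Nat.factorization_mul Nat.card_pos.ne' Nat.card_pos.ne']
      rfl
    by_cases hc : (Nat.card (M 1)).Coprime p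
    · rw [fac_zero_of_coprime p H M h0 hc, card_snG_of_coprime (M 1) hc hH, ih']
      have hv : (Nat.card (M 1)).factorization p = 0 := by
        apply Nat.factorization_eq_zero_of_not_dvd
        intro hdvd
        have := Nat.Coprime.eq_one_of_dvd hc.symm hdvd
        exact hp.out.one_lt.ne' this
      rw [hfact, hv, add_zero]
      ring
    · rw [fac_zero_of_not_coprime p H M h0 hc]
      have h3 := hfac 0
      have e1 : (0 : Fin (n + 1)).castSucc = 0 := rfl
      have e2 : (0 : Fin (n + 1)).succ = 1 := rfl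
      rw [e1, e2, h0, Subgroup.relIndex_bot_left] at h3
      rcases h3 with ⟨m, hm⟩ | h3
      · have hKp : IsPGroup p (M 1) := IsPGroup.of_card hm
        rw [card_snG_of_pgroup (M 1) hKp hH, ih', hfact, hm]
        have hv : (p ^ m).factorization p = m := by
          rw [Nat.Prime.factorization_pow hp.out]; simp
        rw [hv, pow_add]
        ring
      · exact absurd h3 hc

end Cfsg.Agent.Lib.Helper7.Subnz
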