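import Mathlib
import Cfsg.Prelude
import Cfsg.Agent.Lib.Helper7.PEl3
import Cfsg.Agent.Lib.Helper7.Subnz7

/-!
# The inequalities `Phi` (Sylow counts) and `Theta` (centralizer orders), and the reduction of
`Phi` modulo a normal `p`- or `p'`-subgroup
-/

set_option autoImplicit false

namespace Cfsg.Agent.Lib.Helper7.PEl

open Cfsg
open Cfsg.Agent.Lib.Helper7.Subnz
open scoped Pointwise

variable {G : Type*} [Group G]

/-- The number of Sylow `p`-subgroups containing `H`. -/
noncomputable def lam (p : ℕ) (H : Subgroup G) : ℕ := Nat.card {Q : Sylow p G // H ≤ Q}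

/-- The centralizer inequality for a `p`-group `P` acting on a `p'`-group `K`. -/
def Theta (p : ℕ) [Finite G] (K P : Subgroup G) : Prop :=
  prodP P (fun x => cK K (Subgroup.zpowers x)) ^ p * cK K P ^ Nat.card P ≤
    Nat.card K ^ Nat.card P * cK K P ^ (p * Nat.card P)

/-- The Sylow-count inequality. -/
def Phi (p : ℕ) [Finite G] (P : Subgroup G) : Prop :=
  prodP P (fun x => lam p (Subgroup.zpowers x)) ^ p ≤ Nat.card (Sylow p G) ^ Nat.card P

theorem lam_bot (p : ℕ) : lam p (⊥ : Subgroup G) = Nat.card (Sylow p G) := by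
  unfold lam
  exact Nat.card_congr (Equiv.subtypeUnivEquiv (fun Q => bot_le))

theorem cK_bot (K : Subgroup G) : cK K ⊥ = Nat.card K := by
  unfold cK
  refine Nat.card_congr (Equiv.subtypeEquivRight (fun k => ?_))
  constructor
  · intro h; exact h.1
  · intro h
    refine ⟨h, ?_⟩
    intro x hx
    rw [Subgroup.mem_bot.mp hx]; simp

section
variable [Finite G] {p : ℕ} [Fact p.Prime] {K : Subgroup G} [K.Normal]

theorem card_map_of_coprime (hKp : (Nat.card K).Coprime p) {P : Subgroup G} (hP : IsPGroup p P) :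
    Nat.card (P.map (QuotientGroup.mk' K)) = Nat.card P := by
  symm
  refine Nat.card_congr (Equiv.ofBijective
    (fun x : P => (⟨QuotientGroup.mk' K x, ⟨x, x.2, rfl⟩⟩ : P.map (QuotientGroup.mk' K))) ⟨?_, ?_⟩)
  · intro x y hxy
    apply Subtype.ext
    exact eq_of_mk_eq K hKp hP x.2 y.2 (congrArg Subtype.val hxy)
  · rintro ⟨_, ⟨x, hx, rfl⟩⟩
    exact ⟨⟨x, hx⟩, rfl⟩

theorem phi_of_coprime (hKp : (Nat.card K).Coprime p) (P : Sylow p G)
    (h1 : Phi p ((P : Subgroup G).map (QuotientGroup.mk' K))) (h2 : Theta p K (P : Subgroup G)) :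
    Phi p (P : Subgroup G) := by
  unfold Phi Theta at *
  have hPp : IsPGroup p (P : Subgroup G) := P.isPGroup'
  rw [card_map_of_coprime hKp hPp,
    prodP_map (P : Subgroup G) (QuotientGroup.mk' K)
      (fun x hx y hy h => eq_of_mk_eq K hKp hPp hx hy h)] at h1
  -- the relation for each x
  have hx : ∀ x ∈ (P : Subgroup G), lam p (Subgroup.zpowers x) * cK K (P : Subgroup G) =
      lam p (Subgroup.zpowers (QuotientGroup.mk' K x)) * cK K (Subgroup.zpowers x) := by
    intro x hx
    have h3 := card_sylow_ge_mul hKp (H := Subgroup.zpowers x)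
      (hPp.to_le (Subgroup.zpowers_le.mpr hx)) P
    rw [MonoidHom.map_zpowers] at h3
    exact h3
  have hn : Nat.card (Sylow p G) * cK K (P : Subgroup G) =
      Nat.card (Sylow p (G ⧸ K)) * Nat.card K := by
    have h3 := card_sylow_ge_mul hKp (H := (⊥ : Subgroup G)) IsPGroup.of_bot P
    rw [Subgroup.map_bot] at h3
    unfold lam at *
    rw [← lam_bot, ← lam_bot, ← cK_bot K]
    exact h3
  have hprod : prodP (P : Subgroup G) (fun x => lam p (Subgroup.zpowers x)) *
      cK K (P : Subgroup G) ^ Nat.card (P : Subgroup G) =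
      prodP (P : Subgroup G) (fun x => lam p (Subgroup.zpowers (QuotientGroup.mk' K x))) *
      prodP (P : Subgroup G) (fun x => cK K (Subgroup.zpowers x)) := by
    rw [← prodP_const, ← prodP_mul, ← prodP_mul]
    exact prodP_congr _ hx
  obtain ⟨A, hA⟩ : ∃ A, A = prodP (P : Subgroup G) (fun x => lam p (Subgroup.zpowers x)) := ⟨_, rfl⟩
  obtain ⟨B, hB⟩ : ∃ B, B = prodP (P : Subgroup G)
    (fun x => lam p (Subgroup.zpowers (QuotientGroup.mk' K x))) := ⟨_, rfl⟩
  obtain ⟨C, hC⟩ : ∃ C, C = prodP (P : Subgroup G) (fun x => cK K (Subgroup.zpowers x)) := ⟨_, rfl⟩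
  obtain ⟨c, hc⟩ : ∃ c, c = cK K (P : Subgroup G) := ⟨_, rfl⟩
  obtain ⟨N, hN⟩ : ∃ N, N = Nat.card (P : Subgroup G) := ⟨_, rfl⟩
  rw [← hA, ← hB, ← hC, ← hc, ← hN] at hprod
  rw [← hB, ← hN] at h1
  rw [← hC, ← hc, ← hN] at h2
  rw [← hc] at hn
  rw [← hA, ← hN]
  have hcpos : 0 < c := by rw [hc]; exact cK_pos _ _
  have hpos : 0 < c ^ (p * N) * c ^ N := by positivity
  apply Nat.le_of_mul_le_mul_right _ hpos
  calc A ^ p * (c ^ (p * N) * c ^ N) = (A * c ^ N) ^ p * c ^ N := by ring
    _ = (B * C) ^ p * c ^ N := by rw [hprod]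
    _ = B ^ p * (C ^ p * c ^ N) := by ring
    _ ≤ Nat.card (Sylow p (G ⧸ K)) ^ N * (Nat.card K ^ N * c ^ (p * N)) :=
        Nat.mul_le_mul h1 h2
    _ = (Nat.card (Sylow p (G ⧸ K)) * Nat.card K) ^ N * c ^ (p * N) := by ring
    _ = (Nat.card (Sylow p G) * c) ^ N * c ^ (p * N) := by rw [hn]
    _ = Nat.card (Sylow p G) ^ N * (c ^ (p * N) * c ^ N) := by ring

theorem phi_of_pgroup (hK : IsPGroup p K) (P : Sylow p G)
    (h1 : Phi p ((P : Subgroup G).map (QuotientGroup.mk' K))) : Phi p (P : Subgroup G) := by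
  unfold Phi at *
  have hKP : K ≤ (P : Subgroup G) := normal_pgroup_le_sylow hK P
  have hx : ∀ x : G, lam p (Subgroup.zpowers x) =
      lam p (Subgroup.zpowers (QuotientGroup.mk' K x)) := by
    intro x
    have h3 := card_sylow_ge_of_pgroup hK (Subgroup.zpowers x)
    rw [MonoidHom.map_zpowers] at h3
    exact h3
  have hn : Nat.card (Sylow p G) = Nat.card (Sylow p (G ⧸ K)) := by
    have h3 := card_sylow_ge_of_pgroup hK (⊥ : Subgroup G)
    rw [Subgroup.map_bot] at h3
    rw [← lam_bot, ← lam_bot]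
    exact h3
  have hcard : Nat.card (P : Subgroup G) =
      Nat.card K * Nat.card ((P : Subgroup G).map (QuotientGroup.mk' K)) :=
    card_eq_card_mul_card_map K hKP
  have hprod : prodP (P : Subgroup G) (fun x => lam p (Subgroup.zpowers x)) =
      prodP ((P : Subgroup G).map (QuotientGroup.mk' K))
        (fun y => lam p (Subgroup.zpowers y)) ^ Nat.card K := by
    rw [← prodP_map_mk K (P : Subgroup G) hKP]
    exact prodP_congr _ (fun x _ => hx x)
  rw [hprod, hn, hcard, ← pow_mul, mul_comm (Nat.card K) p, pow_mul, mul_comm (Nat.card K), pow_mul]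
  exact Nat.pow_le_pow_left h1 _

end

end Cfsg.Agent.Lib.Helper7.PEl
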