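import Mathlib
import Cfsg.Prelude
import Cfsg.Agent.Lib.Helper7.PEl4
import Cfsg.Agent.Lib.Lead.CoprimeAction

/-!
# Centralizer orders `cK`: transport to subgroups and factorization over a normal subgroup
-/

set_option autoImplicit false

namespace Cfsg.Agent.Lib.Helper7.PEl

open Cfsg
open Cfsg.Agent.Lib.Helper7.Subnz
open scoped Pointwise

variable {G : Type*} [Group G]

theorem cK_eq_card_inf (K A : Subgroup G) :
    cK K A = Nat.card (K ⊓ Subgroup.centralizer (A : Set G) : Subgroup G) := by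
  unfold cK
  refine Nat.card_congr (Equiv.subtypeEquivRight (fun k => ?_))
  rw [Subgroup.mem_inf, Subgroup.mem_centralizer_iff]
  refine and_congr Iff.rfl ?_
  constructor
  · intro h a ha; exact (h a ha).symm
  · intro h a ha; exact (h a ha).symm

theorem cK_zpowers (K : Subgroup G) (x : G) :
    cK K (Subgroup.zpowers x) = Nat.card {k : G // k ∈ K ∧ k * x = x * k} := by
  unfold cK
  refine Nat.card_congr (Equiv.subtypeEquivRight (fun k => and_congr Iff.rfl ?_))
  constructor
  · intro h; exact h x (Subgroup.mem_zpowers x)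
  · intro h a ha
    have h1 : Subgroup.zpowers x ≤ Subgroup.centralizer {k} := by
      rw [Subgroup.zpowers_le, Subgroup.mem_centralizer_iff]
      intro y hy
      rw [Set.mem_singleton_iff.mp hy]; exact h
    have h2 := Subgroup.mem_centralizer_iff.mp (h1 ha) k (Set.mem_singleton k)
    exact h2

theorem cK_le_card [Finite G] (K A : Subgroup G) : cK K A ≤ Nat.card K := by
  rw [cK_eq_card_inf]
  exact Subgroup.card_le_of_le inf_le_left

theorem cK_subgroupOf (H K : Subgroup G) (hKH : K ≤ H) (A' : Subgroup H) :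
    cK (K.subgroupOf H) A' = cK K (A'.map H.subtype) := by
  unfold cK
  refine Nat.card_congr
    { toFun := fun k => ⟨(k.1 : G), ?_, ?_⟩
      invFun := fun k => ⟨⟨k.1, hKH k.2.1⟩, ?_, ?_⟩
      left_inv := fun k => rfl
      right_inv := fun k => rfl }
  · exact Subgroup.mem_subgroupOf.mp k.2.1
  · rintro _ ⟨h, hh, rfl⟩
    have := k.2.2 h hh
    exact congrArg Subtype.val this
  · exact Subgroup.mem_subgroupOf.mpr k.2.1
  · intro h hh
    apply Subtype.ext
    exact k.2.2 _ ⟨h, hh, rfl⟩

theorem card_subgroupOf_of_le' {H K : Subgroup G} (hKH : K ≤ H) :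
    Nat.card (K.subgroupOf H) = Nat.card K :=
  Nat.card_congr (Subgroup.subgroupOfEquivOfLe hKH).toEquiv

theorem theta_of_subgroupOf [Finite G] (p : ℕ) (H K P : Subgroup G) (hKH : K ≤ H) (hPH : P ≤ H)
    (h : Theta p (K.subgroupOf H) (P.subgroupOf H)) : Theta p K P := by
  unfold Theta at *
  rw [card_subgroupOf_of_le' hKH, card_subgroupOf_of_le' hPH, cK_subgroupOf H K hKH,
    Subgroup.map_subgroupOf_eq_of_le hPH] at h
  have h1 : prodP (P.subgroupOf H) (fun x => cK (K.subgroupOf H) (Subgroup.zpowers x)) =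
      prodP P (fun x => cK K (Subgroup.zpowers x)) := by
    conv_rhs => rw [← Subgroup.map_subgroupOf_eq_of_le hPH]
    rw [prodP_map (P.subgroupOf H) H.subtype
      (fun x _ y _ hxy => Subtype.ext hxy)]
    apply prodP_congr
    intro x _
    rw [cK_subgroupOf H K hKH, MonoidHom.map_zpowers]
  rw [h1] at h
  exact h

section
variable [Finite G] {p : ℕ} [Fact p.Prime]

theorem coprime_card_of_isPGroup {K A : Subgroup G} (hKp : (Nat.card K).Coprime p)
    (hA : IsPGroup p A) : (Nat.card A).Coprime (Nat.card K) := by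
  obtain ⟨m, hm⟩ := IsPGroup.iff_card.mp hA
  rw [hm]
  exact Nat.Coprime.pow_left m hKp.symm

theorem isSolvable_of_isPGroup {A : Subgroup G} (hA : IsPGroup p A) : Group.IsSolvable A := by
  haveI : Group.IsNilpotent A := hA.isNilpotent
  infer_instance

/-- Coprime action: `|C_K(A)| = |C_L(A)| * |C_{K/L}(A)|`. -/
theorem cK_factor {L K : Subgroup G} [L.Normal] [K.Normal] (hLK : L ≤ K)
    (hKp : (Nat.card K).Coprime p) {A : Subgroup G} (hA : IsPGroup p A) :
    cK K A = cK L A * cK (K.map (QuotientGroup.mk' L)) (A.map (QuotientGroup.mk' L)) := by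
  unfold cK
  apply card_of_fibers (QuotientGroup.mk' L) (fun k => k ∈ K ∧ ∀ h ∈ A, k * h = h * k)
    (fun b => b ∈ K.map (QuotientGroup.mk' L) ∧ ∀ h ∈ A.map (QuotientGroup.mk' L), b * h = h * b)
  · rintro k ⟨hk, hkA⟩
    refine ⟨⟨k, hk, rfl⟩, ?_⟩
    rintro _ ⟨h, hh, rfl⟩
    rw [← map_mul, ← map_mul, hkA h hh]
  · rintro b ⟨⟨k₀, hk₀, rfl⟩, hb⟩
    have hfix : ∀ a ∈ A, a * k₀ * a⁻¹ * k₀⁻¹ ∈ L := by
      intro a ha
      have h1 := hb _ ⟨a, ha, rfl⟩
      rw [← QuotientGroup.ker_mk' L, MonoidHom.mem_ker]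
      rw [map_mul, map_mul, map_mul, map_inv, map_inv, ← h1]
      group
    obtain ⟨c, hc, hcL⟩ := Cfsg.Agent.Lib.Lead.coprime_fixed_coset A K
      (by rw [Subgroup.normalizer_eq_top]; exact le_top)
      (coprime_card_of_isPGroup hKp hA) (Or.inl (isSolvable_of_isPGroup hA)) L hLK
      (by rw [Subgroup.normalizer_eq_top]; exact le_top)
      (by rw [Subgroup.normalizer_eq_top]; exact le_top) k₀ hk₀ hfix
    rw [Subgroup.mem_inf, Subgroup.mem_centralizer_iff] at hc
    have hck : QuotientGroup.mk' L c = QuotientGroup.mk' L k₀ := by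
      have : QuotientGroup.mk' L (k₀⁻¹ * c) = 1 := by
        rw [QuotientGroup.mk'_apply]; exact (QuotientGroup.eq_one_iff _).mpr hcL
      rw [map_mul, map_inv, inv_mul_eq_one] at this
      exact this.symm
    refine Nat.card_congr
      { toFun := fun a => ⟨c⁻¹ * a.1, ?_, ?_⟩
        invFun := fun l => ⟨c * l.1, ?_, ?_, ?_⟩
        left_inv := fun a => Subtype.ext (by simp)
        right_inv := fun l => Subtype.ext (by simp) }
    · have h1 : QuotientGroup.mk' L (c⁻¹ * a.1) = 1 := by
        rw [map_mul, map_inv, a.2.1, ← hck]; group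
      rw [QuotientGroup.mk'_apply] at h1
      exact (QuotientGroup.eq_one_iff _).mp h1
    · intro h hh
      have h1 := hc.2 h hh
      have h2 := a.2.2.2 h hh
      have h3 : c⁻¹ * h = h * c⁻¹ := by
        calc c⁻¹ * h = c⁻¹ * (h * c) * c⁻¹ := by group
          _ = c⁻¹ * (c * h) * c⁻¹ := by rw [h1]
          _ = h * c⁻¹ := by group
      rw [mul_assoc, h2, ← mul_assoc, h3, mul_assoc]
    · rw [map_mul, hck]
      have : QuotientGroup.mk' L l.1 = 1 := by
        rw [QuotientGroup.mk'_apply]; exact (QuotientGroup.eq_one_iff _).mpr l.2.1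
      rw [this, mul_one]
    · exact K.mul_mem hc.1 (hLK l.2.1)
    · intro h hh
      have h1 := hc.2 h hh
      have h2 := l.2.2 h hh
      rw [mul_assoc, h2, ← mul_assoc, ← h1, mul_assoc]

end

end Cfsg.Agent.Lib.Helper7.PEl
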