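import Mathlib
import Cfsg.Prelude
import Cfsg.Agent.Lib.Helper7.PEl5

/-!
# `Theta`: passing to a normal subgroup and its quotient; the trivial cases
-/

set_option autoImplicit false

namespace Cfsg.Agent.Lib.Helper7.PEl

open Cfsg
open Cfsg.Agent.Lib.Helper7.Subnz
open scoped Pointwise

variable {G : Type*} [Group G]

section
variable [Finite G] {p : ℕ} [Fact p.Prime]

theorem coprime_of_le {L K : Subgroup G} (hLK : L ≤ K) (hKp : (Nat.card K).Coprime p) :
    (Nat.card L).Coprime p :=
  Nat.Coprime.coprime_dvd_left (Subgroup.card_dvd_of_le hLK) hKp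

theorem theta_of_factor {L K P : Subgroup G} [L.Normal] [K.Normal] (hLK : L ≤ K)
    (hKp : (Nat.card K).Coprime p) (hP : IsPGroup p P) (h1 : Theta p L P)
    (h2 : Theta p (K.map (QuotientGroup.mk' L)) (P.map (QuotientGroup.mk' L))) :
    Theta p K P := by
  unfold Theta at *
  have hLp := coprime_of_le hLK hKp
  rw [card_map_of_coprime hLp hP, prodP_map P (QuotientGroup.mk' L)
    (fun x hx y hy h => eq_of_mk_eq L hLp hP hx hy h)] at h2
  have hx : ∀ x ∈ P, cK K (Subgroup.zpowers x) = cK L (Subgroup.zpowers x) *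
      cK (K.map (QuotientGroup.mk' L)) (Subgroup.zpowers (QuotientGroup.mk' L x)) := by
    intro x hx
    rw [← MonoidHom.map_zpowers]
    exact cK_factor hLK hKp (hP.to_le (Subgroup.zpowers_le.mpr hx))
  have hprod : prodP P (fun x => cK K (Subgroup.zpowers x)) =
      prodP P (fun x => cK L (Subgroup.zpowers x)) *
      prodP P (fun x => cK (K.map (QuotientGroup.mk' L))
        (Subgroup.zpowers (QuotientGroup.mk' L x))) := by
    rw [← prodP_mul]
    exact prodP_congr _ hx
  have hc : cK K P = cK L P * cK (K.map (QuotientGroup.mk' L)) (P.map (QuotientGroup.mk' L)) :=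
    cK_factor hLK hKp hP
  have hk : Nat.card K = Nat.card L * Nat.card (K.map (QuotientGroup.mk' L)) :=
    card_eq_card_mul_card_map L hLK
  rw [hprod, hc, hk]
  obtain ⟨X1, hX1⟩ : ∃ X, X = prodP P (fun x => cK L (Subgroup.zpowers x)) := ⟨_, rfl⟩
  obtain ⟨X2, hX2⟩ : ∃ X, X = prodP P (fun x => cK (K.map (QuotientGroup.mk' L))
        (Subgroup.zpowers (QuotientGroup.mk' L x))) := ⟨_, rfl⟩
  rw [← hX1] at h1 ⊢
  rw [← hX2] at h2 ⊢
  calc (X1 * X2) ^ p * (cK L P * cK (K.map (QuotientGroup.mk' L))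
        (P.map (QuotientGroup.mk' L))) ^ Nat.card P
      = (X1 ^ p * cK L P ^ Nat.card P) * (X2 ^ p * cK (K.map (QuotientGroup.mk' L))
        (P.map (QuotientGroup.mk' L)) ^ Nat.card P) := by ring
    _ ≤ (Nat.card L ^ Nat.card P * cK L P ^ (p * Nat.card P)) *
        (Nat.card (K.map (QuotientGroup.mk' L)) ^ Nat.card P *
          cK (K.map (QuotientGroup.mk' L)) (P.map (QuotientGroup.mk' L)) ^ (p * Nat.card P)) :=
        Nat.mul_le_mul h1 h2
    _ = _ := by ring

/-- If `P` centralizes `K`, `Theta` is an equality. -/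
theorem theta_of_centralizes {K P : Subgroup G} (h : ∀ k ∈ K, ∀ x ∈ P, k * x = x * k) :
    Theta p K P := by
  unfold Theta
  have h1 : ∀ A : Subgroup G, A ≤ P → cK K A = Nat.card K := by
    intro A hA
    unfold cK
    refine Nat.card_congr (Equiv.subtypeEquivRight (fun k => ?_))
    constructor
    · intro hk; exact hk.1
    · intro hk; exact ⟨hk, fun x hx => h k hk x (hA hx)⟩
  rw [h1 P le_rfl, prodP_congr P (fun x hx => h1 _ (Subgroup.zpowers_le.mpr hx)), prodP_const]
  apply le_of_eq
  ring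

end

end Cfsg.Agent.Lib.Helper7.PEl
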