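import Mathlib

/-!
# Independence of the fixed-point subgroups of commuting automorphisms of an abelian group
-/

set_option autoImplicit false

namespace Cfsg.Agent.Lib.Helper7.PEl

theorem indep_aux {A : Type*} [CommGroup A] (γ : ℕ → MulAut A)
    (hc : ∀ i j, γ i * γ j = γ j * γ i) (S : Finset ℕ) :
    (∀ i ∈ S, ∀ j ∈ S, i ≠ j → ∀ v, γ i v = v → γ j v = v → v = 1) →
    ∀ v : ℕ → A, (∀ j ∈ S, γ j (v j) = v j) → ∏ j ∈ S, v j = 1 → ∀ j ∈ S, v j = 1 := by
  classical
  induction S using Finset.induction_on with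
  | empty => intro _ v _ _ j hj; simp at hj
  | insert j₁ S' hj₁ ih =>
    intro hfix v hv hprod
    have ih' := ih (fun i hi j hj => hfix i (Finset.mem_insert_of_mem hi) j
      (Finset.mem_insert_of_mem hj))
    -- w j = γ j₁ (v j) * (v j)⁻¹
    have hw : ∀ j ∈ S', γ j (γ j₁ (v j) * (v j)⁻¹) = γ j₁ (v j) * (v j)⁻¹ := by
      intro j hj
      have h1 := hv j (Finset.mem_insert_of_mem hj)
      rw [map_mul, map_inv, h1]
      congr 1
      have h2 : γ j (γ j₁ (v j)) = (γ j * γ j₁) (v j) := rfl
      rw [h2, hc, MulAut.mul_apply, h1]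
    have hprod2 : ∏ j ∈ S', (γ j₁ (v j) * (v j)⁻¹) = 1 := by
      have h1 : γ j₁ (∏ j ∈ insert j₁ S', v j) = 1 := by rw [hprod, map_one]
      rw [map_prod, Finset.prod_insert hj₁, hv j₁ (Finset.mem_insert_self _ _)] at h1
      rw [Finset.prod_insert hj₁] at hprod
      rw [Finset.prod_mul_distrib, Finset.prod_inv_distrib]
      have h2 : ∏ j ∈ S', γ j₁ (v j) = (v j₁)⁻¹ := eq_inv_of_mul_eq_one_right h1
      have h3 : ∏ j ∈ S', v j = (v j₁)⁻¹ := eq_inv_of_mul_eq_one_right hprod
      rw [h2, h3]; simp
    have h3 := ih' (fun j => γ j₁ (v j) * (v j)⁻¹) hw hprod2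
    have h4 : ∀ j ∈ S', v j = 1 := by
      intro j hj
      have h5 := h3 j hj
      have h6 : γ j₁ (v j) = v j := mul_inv_eq_one.mp h5
      have hne : j₁ ≠ j := by
        rintro rfl; exact hj₁ hj
      exact hfix j₁ (Finset.mem_insert_self _ _) j (Finset.mem_insert_of_mem hj) hne (v j) h6
        (hv j (Finset.mem_insert_of_mem hj))
    intro j hj
    rcases Finset.mem_insert.mp hj with rfl | hj
    · rw [Finset.prod_insert hj₁, Finset.prod_eq_one h4, mul_one] at hprod
      exact hprod
    · exact h4 j hj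

theorem indep_card {A : Type*} [CommGroup A] [Finite A] (γ : ℕ → MulAut A)
    (hc : ∀ i j, γ i * γ j = γ j * γ i) (S : Finset ℕ)
    (hfix : ∀ i ∈ S, ∀ j ∈ S, i ≠ j → ∀ v, γ i v = v → γ j v = v → v = 1) :
    ∏ j ∈ S, Nat.card {v : A // γ j v = v} ≤ Nat.card A := by
  classical
  rw [← Finset.prod_coe_sort S (fun j => Nat.card {v : A // γ j v = v}), ← Nat.card_pi]
  apply Nat.card_le_card_of_injective
    (fun f : (∀ j : S, {v : A // γ j v = v}) => ∏ j ∈ S.attach, (f j).1)
  intro f g hfg
  simp only at hfg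
  have h1 : ∏ j ∈ S.attach, ((f j).1 * ((g j).1)⁻¹) = 1 := by
    rw [Finset.prod_mul_distrib, Finset.prod_inv_distrib, hfg, mul_inv_cancel]
  let v : ℕ → A := fun j => if h : j ∈ S then (f ⟨j, h⟩).1 * ((g ⟨j, h⟩).1)⁻¹ else 1
  have hv : ∀ j ∈ S, γ j (v j) = v j := by
    intro j hj
    simp only [v, dif_pos hj]
    rw [map_mul, map_inv, (f ⟨j, hj⟩).2, (g ⟨j, hj⟩).2]
  have hprod : ∏ j ∈ S, v j = 1 := by
    rw [← Finset.prod_attach]
    rw [← h1]
    apply Finset.prod_congr rfl
    intro j _
    simp only [v, dif_pos j.2]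
  have h2 := indep_aux γ hc S hfix v hv hprod
  funext j
  apply Subtype.ext
  have h3 := h2 j.1 j.2
  simp only [v, dif_pos j.2] at h3
  exact mul_inv_eq_one.mp h3

/-- The fixed-point subgroups of `a * b ^ j`, `j < p`, are independent if `a`, `b` commute,
`b ^ p = 1` and `b` has no non-trivial fixed point. -/
theorem indep_card_ab {A : Type*} [Group A] [Finite A] (hcomm : ∀ x y : A, x * y = y * x)
    (a b : MulAut A) (hab : a * b = b * a) (p : ℕ) (hp : p.Prime) (hbp : b ^ p = 1)
    (hb : ∀ v, b v = v → v = 1) :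
    ∏ j ∈ Finset.range p, Nat.card {v : A // (a * b ^ j) v = v} ≤ Nat.card A := by
  letI : CommGroup A := { (inferInstance : Group A) with mul_comm := hcomm }
  have hcab : Commute a b := hab
  apply indep_card (fun j => a * b ^ j)
  · intro i j
    have h1 : Commute (a * b ^ i) (a * b ^ j) := by
      apply Commute.mul_left
      · exact (Commute.refl a).mul_right (hcab.pow_right j)
      · exact ((hcab.pow_right i).symm).mul_right ((Commute.refl b).pow_pow i j)
    exact h1
  · -- common fixed points
    have key : ∀ i j, i < j → j < p → ∀ v, (a * b ^ i) v = v → (a * b ^ j) v = v → v = 1 := by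
      intro i j hij hjp v hi hj
      have h1 : (b ^ i) v = (b ^ j) v := by
        have h2 : a ((b ^ i) v) = a ((b ^ j) v) := by
          rw [← MulAut.mul_apply, ← MulAut.mul_apply, hi, hj]
        exact a.injective h2
      have h3 : (b ^ (j - i)) v = v := by
        have h4 : b ^ j = b ^ i * b ^ (j - i) := by
          rw [← pow_add]; congr 1; omega
        rw [h4, MulAut.mul_apply] at h1
        exact ((b ^ i).injective h1).symm
      -- Bezout
      have hcop : Nat.Coprime (j - i) p := by
        rw [Nat.coprime_comm, Nat.Prime.coprime_iff_not_dvd hp]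
        intro hdvd
        have := Nat.le_of_dvd (by omega) hdvd
        omega
      obtain ⟨s, -, hs⟩ := Nat.exists_mul_mod_eq_one_of_coprime hcop hp.one_lt
      have h5 : (b ^ ((j - i) * s)) v = v := by
        rw [pow_mul]
        have : ∀ n : ℕ, ((b ^ (j - i)) ^ n) v = v := by
          intro n
          induction n with
          | zero => simp
          | succ n ihn => rw [pow_succ, MulAut.mul_apply, h3, ihn]
        exact this s
      have h6 : b ^ ((j - i) * s) = b := by
        have h7 := Nat.div_add_mod ((j - i) * s) p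
        rw [hs] at h7
        rw [← h7, pow_add, pow_mul, hbp, one_pow, one_mul, pow_one]
      rw [h6] at h5
      exact hb v h5
    intro i hi j hj hne v hvi hvj
    rw [Finset.mem_range] at hi hj
    rcases Nat.lt_or_gt_of_ne hne with h | h
    · exact key i j h hj v hvi hvj
    · exact key j i h hi v hvj hvi

end Cfsg.Agent.Lib.Helper7.PEl
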