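import Mathlib
import Cfsg.Prelude
import Cfsg.Agent.Lib.Helper7.PEl6
import Cfsg.Agent.Lib.Helper7.PEl7

/-!
# `Theta` for an abelian normal subgroup on which a "central" element of `P` acts without fixed
points
-/

set_option autoImplicit false

namespace Cfsg.Agent.Lib.Helper7.PEl

open Cfsg
open Cfsg.Agent.Lib.Helper7.Subnz
open scoped Pointwise

variable {G : Type*} [Group G]

theorem prodP_finset_prod [Finite G] (P : Subgroup G) (S : Finset ℕ) (f : ℕ → G → ℕ) :
    prodP P (fun y => ∏ j ∈ S, f j y) = ∏ j ∈ S, prodP P (f j) := by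
  unfold prodP
  exact Finset.prod_comm

theorem cK_zpowers_eq_fixed (K : Subgroup G) [K.Normal] (x : G) :
    cK K (Subgroup.zpowers x) = Nat.card {v : K // MulAut.conjNormal x v = v} := by
  rw [cK_zpowers]
  refine Nat.card_congr
    { toFun := fun k => ⟨⟨k.1, k.2.1⟩, ?_⟩
      invFun := fun v => ⟨v.1.1, v.1.2, ?_⟩
      left_inv := fun k => rfl
      right_inv := fun v => rfl }
  · apply Subtype.ext
    rw [MulAut.conjNormal_apply]
    show x * k.1 * x⁻¹ = k.1
    rw [← k.2.2, mul_inv_cancel_right]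
  · have h1 := congrArg Subtype.val v.2
    rw [MulAut.conjNormal_apply] at h1
    calc (v.1 : G) * x = (x * v.1 * x⁻¹) * x := by rw [h1]
      _ = x * v.1 := by group

section
variable [Finite G] {p : ℕ} [hp : Fact p.Prime]

theorem theta_B2 {K P : Subgroup G} [K.Normal] (hKab : ∀ a ∈ K, ∀ b ∈ K, a * b = b * a)
    (z : G) (hz : z ∈ P)
    (hzy : ∀ y ∈ P, (MulAut.conjNormal y : MulAut K) * MulAut.conjNormal z =
      MulAut.conjNormal z * MulAut.conjNormal y)
    (hzp : (MulAut.conjNormal z : MulAut K) ^ p = 1)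
    (hfix : ∀ v : K, MulAut.conjNormal z v = v → v = 1) : Theta p K P := by
  unfold Theta
  have hc1 : cK K P = 1 := by
    unfold cK
    rw [Nat.card_eq_one_iff_unique]
    refine ⟨⟨fun a b => ?_⟩, ⟨⟨1, K.one_mem, fun h _ => by simp⟩⟩⟩
    have key : ∀ k : {k : G // k ∈ K ∧ ∀ h ∈ P, k * h = h * k}, k.1 = 1 := by
      intro k
      have h1 : MulAut.conjNormal z (⟨k.1, k.2.1⟩ : K) = ⟨k.1, k.2.1⟩ := by
        apply Subtype.ext
        rw [MulAut.conjNormal_apply]
        show z * k.1 * z⁻¹ = k.1
        rw [← k.2.2 z hz, mul_inv_cancel_right]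
      have h2 := hfix _ h1
      exact congrArg Subtype.val h2
    apply Subtype.ext
    rw [key a, key b]
  rw [hc1, one_pow, one_pow, mul_one, mul_one]
  -- the local inequality
  have hloc : ∀ y ∈ P, ∏ j ∈ Finset.range p, cK K (Subgroup.zpowers (y * z ^ j)) ≤ Nat.card K := by
    intro y hy
    have h1 : ∀ j ∈ Finset.range p, cK K (Subgroup.zpowers (y * z ^ j)) =
        Nat.card {v : K // (MulAut.conjNormal y * (MulAut.conjNormal z) ^ j : MulAut K) v = v} := by
      intro j _
      rw [cK_zpowers_eq_fixed, map_mul, map_pow]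
    rw [Finset.prod_congr rfl h1]
    apply indep_card_ab (A := K) _ _ _ (hzy y hy) p hp.out hzp hfix
    intro a b
    exact Subtype.ext (hKab a a.2 b b.2)
  calc prodP P (fun x => cK K (Subgroup.zpowers x)) ^ p
      = ∏ j ∈ Finset.range p, prodP P (fun x => cK K (Subgroup.zpowers x)) := by
        rw [Finset.prod_const, Finset.card_range]
    _ = ∏ j ∈ Finset.range p, prodP P (fun y => cK K (Subgroup.zpowers (y * z ^ j))) := by
        apply Finset.prod_congr rfl
        intro j _
        exact (prodP_mul_right P (fun x => cK K (Subgroup.zpowers x)) (P.pow_mem hz j)).symm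
    _ = prodP P (fun y => ∏ j ∈ Finset.range p, cK K (Subgroup.zpowers (y * z ^ j))) :=
        (prodP_finset_prod P _ _).symm
    _ ≤ prodP P (fun _ => Nat.card K) := prodP_le P hloc
    _ = Nat.card K ^ Nat.card P := prodP_const P _

end

end Cfsg.Agent.Lib.Helper7.PEl
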