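import Mathlib
import Cfsg.Prelude
import Cfsg.Agent.Lib.Helper7.PEl8

/-!
# `Theta` for normal `r`-subgroups
-/

set_option autoImplicit false

namespace Cfsg.Agent.Lib.Helper7.PEl

open Cfsg
open Cfsg.Agent.Lib.Helper7.Subnz
open scoped Pointwise

universe u

variable {G : Type u} [Group G]

theorem le_normalizer_of_conj_mem (F H : Subgroup G)
    (h : ∀ y ∈ H, ∀ f ∈ F, y * f * y⁻¹ ∈ F) : H ≤ Subgroup.normalizer (F : Set G) := by
  intro y hy
  rw [Subgroup.mem_normalizer_iff]
  intro f
  constructor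
  · exact h y hy f
  · intro hf
    have := h y⁻¹ (H.inv_mem hy) _ hf
    have e : y⁻¹ * (y * f * y⁻¹) * y⁻¹⁻¹ = f := by group
    rwa [e] at this

theorem conjNormal_eq_one_iff (K : Subgroup G) [K.Normal] (x : G) :
    (MulAut.conjNormal x : MulAut K) = 1 ↔ ∀ k ∈ K, k * x = x * k := by
  constructor
  · intro h k hk
    have h1 : (MulAut.conjNormal x : MulAut K) ⟨k, hk⟩ = ⟨k, hk⟩ := by rw [h]; rfl
    have h2 := congrArg Subtype.val h1
    rw [MulAut.conjNormal_apply] at h2
    calc k * x = (x * k * x⁻¹) * x := by rw [h2]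
      _ = x * k := by group
  · intro h
    ext v
    rw [MulAut.conjNormal_apply, MulAut.one_apply, ← h v v.2, mul_inv_cancel_right]

section
variable [Finite G] {p : ℕ} [hp : Fact p.Prime]

/-- An element of `P` acting non-trivially on `K`, with `p`-th power acting trivially, and central
modulo the kernel of the action. -/
theorem exists_z (K P : Subgroup G) [K.Normal] (hP : IsPGroup p P)
    (hnc : ¬ ∀ k ∈ K, ∀ x ∈ P, k * x = x * k) :
    ∃ z ∈ P, (∀ y ∈ P, (MulAut.conjNormal y : MulAut K) * MulAut.conjNormal z =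
      MulAut.conjNormal z * MulAut.conjNormal y) ∧
      (MulAut.conjNormal z : MulAut K) ^ p = 1 ∧ (MulAut.conjNormal z : MulAut K) ≠ 1 := by
  classical
  obtain ⟨φ, hφ⟩ : ∃ φ : G →* MulAut K, φ = MulAut.conjNormal := ⟨_, rfl⟩
  rw [← hφ]
  have hQ : IsPGroup p (P.map φ) := hP.map φ
  haveI : Nontrivial (P.map φ) := by
    push Not at hnc
    obtain ⟨k, hk, x, hx, hkx⟩ := hnc
    refine ⟨⟨⟨φ x, ⟨x, hx, rfl⟩⟩, 1, ?_⟩⟩
    intro h
    have h1 : φ x = 1 := congrArg Subtype.val h
    rw [hφ, conjNormal_eq_one_iff] at h1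
    exact hkx (h1 k hk)
  haveI := hQ.center_nontrivial
  obtain ⟨w, hw⟩ := exists_ne (1 : Subgroup.center (P.map φ))
  obtain ⟨x₀, hx₀, hx₀w⟩ := w.1.2
  have hw1 : φ x₀ ≠ 1 := by
    intro h
    apply hw
    apply Subtype.ext
    apply Subtype.ext
    rw [← hx₀w, h]; rfl
  have hwc : ∀ y ∈ P, φ y * φ x₀ = φ x₀ * φ y := by
    intro y hy
    have h1 := Subgroup.mem_center_iff.mp w.2 ⟨φ y, ⟨y, hy, rfl⟩⟩
    have h2 := congrArg Subtype.val h1
    rw [Subgroup.coe_mul, Subgroup.coe_mul, ← hx₀w] at h2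
    exact h2
  have hex : ∃ k : ℕ, (φ x₀) ^ (p ^ k) = 1 := by
    obtain ⟨k, hk⟩ := hQ ⟨φ x₀, ⟨x₀, hx₀, rfl⟩⟩
    refine ⟨k, ?_⟩
    have := congrArg Subtype.val hk
    simpa using this
  have hk0 : Nat.find hex ≠ 0 := by
    intro h0
    have := Nat.find_spec hex
    rw [h0, pow_zero, pow_one] at this
    exact hw1 this
  obtain ⟨m, hm⟩ := Nat.exists_eq_succ_of_ne_zero hk0
  refine ⟨x₀ ^ (p ^ m), P.pow_mem hx₀ _, ?_, ?_, ?_⟩
  · intro y hy
    rw [map_pow]
    exact ((Commute.pow_right (hwc y hy) _ : Commute (φ y) (φ x₀ ^ (p ^ m)))).eq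
  · rw [map_pow, ← pow_mul, ← pow_succ, ← Nat.succ_eq_add_one, ← hm]
    exact Nat.find_spec hex
  · rw [map_pow]
    have : m < Nat.find hex := by rw [hm]; exact Nat.lt_succ_self m
    exact Nat.find_min hex this

/-- Minimality forces the fixed points of `z` to be trivial. -/
theorem fix_trivial {K P : Subgroup G} [K.Normal] (htop : K ⊔ P = ⊤)
    (hKab : ∀ a ∈ K, ∀ b ∈ K, a * b = b * a)
    (hmin : ∀ L : Subgroup G, L.Normal → L ≤ K → L = ⊥ ∨ L = K)
    (z : G)
    (hzy : ∀ y ∈ P, (MulAut.conjNormal y : MulAut K) * MulAut.conjNormal z =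
      MulAut.conjNormal z * MulAut.conjNormal y)
    (hz1 : (MulAut.conjNormal z : MulAut K) ≠ 1) :
    ∀ v : K, MulAut.conjNormal z v = v → v = 1 := by
  obtain ⟨F, hF⟩ : ∃ F : Subgroup G, F = K ⊓ Subgroup.centralizer {z} := ⟨_, rfl⟩
  have hFmem : ∀ k, k ∈ F ↔ k ∈ K ∧ z * k = k * z := by
    intro k
    rw [hF, Subgroup.mem_inf, Subgroup.mem_centralizer_iff]
    refine and_congr Iff.rfl ?_
    constructor
    · intro h; exact h z (Set.mem_singleton z)
    · intro h y hy
      rw [Set.mem_singleton_iff.mp hy]; exact h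
  have hFK : F ≤ K := by rw [hF]; exact inf_le_left
  have h1 : K ≤ Subgroup.normalizer (F : Set G) := by
    apply le_normalizer_of_conj_mem
    intro y hy f hf
    have : y * f * y⁻¹ = f := by
      rw [hKab y hy f (hFK hf), mul_inv_cancel_right]
    rw [this]; exact hf
  have h2 : P ≤ Subgroup.normalizer (F : Set G) := by
    apply le_normalizer_of_conj_mem
    intro y hy f hf
    rw [hFmem] at hf ⊢
    have hyf : y * f * y⁻¹ ∈ K := Subgroup.Normal.conj_mem inferInstance f hf.1 y
    refine ⟨hyf, ?_⟩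
    have h3 := hzy y hy
    have h4 : (MulAut.conjNormal z * MulAut.conjNormal y : MulAut K) ⟨f, hf.1⟩ =
        (MulAut.conjNormal y * MulAut.conjNormal z : MulAut K) ⟨f, hf.1⟩ := by rw [h3]
    have h5 := congrArg Subtype.val h4
    rw [MulAut.mul_apply, MulAut.mul_apply, MulAut.conjNormal_apply, MulAut.conjNormal_apply,
      MulAut.conjNormal_apply, MulAut.conjNormal_apply] at h5
    have h6 : z * f * z⁻¹ = f := by rw [hf.2, mul_inv_cancel_right]
    simp only at h5
    rw [h6] at h5
    calc z * (y * f * y⁻¹) = (z * (y * f * y⁻¹) * z⁻¹) * z := by group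
      _ = (y * f * y⁻¹) * z := by rw [h5]
  haveI hFn : F.Normal := by
    rw [← Subgroup.normalizer_eq_top_iff, eq_top_iff, ← htop]
    exact sup_le h1 h2
  rcases hmin F hFn hFK with hbot | htopF
  · intro v hv
    have h3 : (v : G) ∈ F := by
      rw [hFmem]
      refine ⟨v.2, ?_⟩
      have h4 := congrArg Subtype.val hv
      rw [MulAut.conjNormal_apply] at h4
      calc z * (v : G) = (z * v * z⁻¹) * z := by group
        _ = v * z := by rw [h4]
    rw [hbot, Subgroup.mem_bot] at h3
    exact Subtype.ext h3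
  · exfalso
    apply hz1
    rw [conjNormal_eq_one_iff]
    intro k hk
    rw [← htopF, hFmem] at hk
    exact hk.2.symm

/-- A minimal normal `r`-subgroup is abelian. -/
theorem abelian_of_minimal {r : ℕ} [Fact r.Prime] {K : Subgroup G} [K.Normal]
    (hK : IsPGroup r K)
    (hmin : ∀ L : Subgroup G, L.Normal → L ≤ K → L = ⊥ ∨ L = K) :
    ∀ a ∈ K, ∀ b ∈ K, a * b = b * a := by
  by_cases hKbot : K = ⊥
  · intro a ha b hb
    rw [hKbot, Subgroup.mem_bot] at ha hb
    rw [ha, hb]
  haveI : Nontrivial K := (Subgroup.nontrivial_iff_ne_bot K).mpr hKbot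
  have hZ : (Subgroup.center K).map K.subtype = ⊥ ∨ (Subgroup.center K).map K.subtype = K :=
    hmin _ ConjAct.normal_of_characteristic_of_normal (Subgroup.map_subtype_le _)
  have hZne : (Subgroup.center K).map K.subtype ≠ ⊥ := by
    intro h
    rw [Subgroup.map_eq_bot_iff_of_injective _ K.subtype_injective] at h
    exact (ne_of_gt hK.bot_lt_center) h
  rcases hZ with h | h
  · exact absurd h hZne
  · intro a ha b hb
    have ha' : a ∈ (Subgroup.center K).map K.subtype := by rw [h]; exact ha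
    obtain ⟨a', ha'c, rfl⟩ := ha'
    have := Subgroup.mem_center_iff.mp ha'c ⟨b, hb⟩
    exact (congrArg Subtype.val this).symm

theorem card_lt_of_lt' {L K : Subgroup G} (hLK : L ≤ K) (hne : L ≠ K) :
    Nat.card L < Nat.card K := by
  have h1 : Nat.card L ≤ Nat.card K := Subgroup.card_le_of_le hLK
  rcases Nat.lt_or_ge (Nat.card L) (Nat.card K) with h | h
  · exact h
  · exact absurd (Subgroup.eq_of_le_of_card_ge hLK h) hne

end

/-- `Theta` for normal `r`-subgroups, `r ≠ p`. -/
theorem theta_rgroup (p r : ℕ) [hp : Fact p.Prime] [hr : Fact r.Prime] (hrp : r ≠ p) :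
    ∀ (n : ℕ) {G : Type u} [Group G] [Finite G] (K P : Subgroup G) [K.Normal],
      Nat.card K = n → IsPGroup r K → IsPGroup p P → Theta p K P := by
  intro n
  induction n using Nat.strong_induction_on with
  | _ n ih =>
    -- the case `K ⊔ P = ⊤`
    have htopcase : ∀ {G : Type u} [Group G] [Finite G] (K P : Subgroup G) [K.Normal],
        K ⊔ P = ⊤ → Nat.card K = n → IsPGroup r K → IsPGroup p P → Theta p K P := by
      intro G _ _ K P _ htop hn hK hP
      have hKp : (Nat.card K).Coprime p := by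
        obtain ⟨m, hm⟩ := IsPGroup.iff_card.mp hK
        rw [hm]
        apply Nat.Coprime.pow_left
        exact (Nat.coprime_primes hr.out hp.out).mpr hrp
      by_cases hA : ∃ L : Subgroup G, L.Normal ∧ L ≤ K ∧ L ≠ ⊥ ∧ L ≠ K
      · obtain ⟨L, hLn, hLK, hLbot, hLne⟩ := hA
        haveI := hLn
        have hcard : Nat.card K = Nat.card L * Nat.card (K.map (QuotientGroup.mk' L)) :=
          card_eq_card_mul_card_map L hLK
        have h1 : Nat.card L < n := by rw [← hn]; exact card_lt_of_lt' hLK hLne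
        have hL1 : 1 < Nat.card L := by
          rcases Nat.lt_or_ge 1 (Nat.card L) with h | h
          · exact h
          · exfalso
            apply hLbot
            apply Subgroup.eq_bot_of_card_le
            exact h
        have h2 : Nat.card (K.map (QuotientGroup.mk' L)) < n := by
          rw [← hn, hcard]
          have hpos : 0 < Nat.card (K.map (QuotientGroup.mk' L)) := Nat.card_pos
          nlinarith
        haveI : (K.map (QuotientGroup.mk' L)).Normal :=
          Subgroup.Normal.map inferInstance _ (QuotientGroup.mk'_surjective L)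
        have t1 := ih _ h1 (G := G) L P rfl (hK.to_le hLK) hP
        have t2 := ih _ h2 (G := G ⧸ L) (K.map (QuotientGroup.mk' L)) (P.map (QuotientGroup.mk' L))
          rfl (hK.map _) (hP.map _)
        exact theta_of_factor hLK hKp hP t1 t2
      · have hmin : ∀ L : Subgroup G, L.Normal → L ≤ K → L = ⊥ ∨ L = K := by
          intro L hLn hLK
          by_contra hcon
          push Not at hcon
          exact hA ⟨L, hLn, hLK, hcon.1, hcon.2⟩
        have hKab := abelian_of_minimal hK hmin
        by_cases hcent : ∀ k ∈ K, ∀ x ∈ P, k * x = x * k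
        · exact theta_of_centralizes hcent
        · obtain ⟨z, hz, hzy, hzp, hz1⟩ := exists_z K P hP hcent
          exact theta_B2 hKab z hz hzy hzp (fix_trivial htop hKab hmin z hzy hz1)
    intro G _ _ K P _ hn hK hP
    -- reduce to `K ⊔ P = ⊤`
    apply theta_of_subgroupOf p (K ⊔ P) K P le_sup_left le_sup_right
    apply htopcase
    · rw [← Subgroup.subgroupOf_sup le_sup_left le_sup_right, Subgroup.subgroupOf_self]
    · rw [card_subgroupOf_of_le' le_sup_left, hn]
    · exact hK.comap_subtype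
    · exact hP.comap_subtype

end Cfsg.Agent.Lib.Helper7.PEl
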