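import Mathlib
import Cfsg.Prelude
import Cfsg.Agent.Lib.Helper7.PEl9
import Cfsg.Agent.Lib.Lead.CoprimeSylow5

/-!
# `Theta` for normal `p'`-subgroups, via invariant Sylow subgroups
-/

set_option autoImplicit false

namespace Cfsg.Agent.Lib.Helper7.PEl

open Cfsg
open Cfsg.Agent.Lib.Helper7.Subnz
open scoped Pointwise

universe u

variable {G : Type u} [Group G]

theorem prod_pow_factorization_of_dvd {m n : ℕ} (hn : n ≠ 0) (h : m ∣ n) :
    ∏ r ∈ n.primeFactors, r ^ m.factorization r = m := by
  have hm : m ≠ 0 := by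
    rintro rfl
    exact hn (Nat.eq_zero_of_zero_dvd h)
  have h1 : m.primeFactors ⊆ n.primeFactors := Nat.primeFactors_mono h hn
  rw [← Finset.prod_subset h1]
  · conv_rhs => rw [← Nat.factorization_prod_pow_eq_self hm]
    rw [Nat.prod_factorization_eq_prod_primeFactors]
  · intro r _ hr
    have : m.factorization r = 0 := by
      rw [← Finsupp.notMem_support_iff, Nat.support_factorization]
      exact hr
    rw [this, pow_zero]

section
variable [Finite G] {p : ℕ} [hp : Fact p.Prime]

/-- The centralizer of `A` in an `A`-invariant Sylow `r`-subgroup of `K` is a Sylow `r`-subgroup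
of `C_K(A)`. -/
theorem sylC {K : Subgroup G} [K.Normal] (hKp : (Nat.card K).Coprime p) {A : Subgroup G}
    (hA : IsPGroup p A) (r : ℕ) [hr : Fact r.Prime] (S : Sylow r K)
    (hAT : A ≤ Subgroup.normalizer (((S : Subgroup K).map K.subtype : Subgroup G) : Set G)) :
    cK ((S : Subgroup K).map K.subtype) A = r ^ (cK K A).factorization r := by
  have hAK : A ≤ Subgroup.normalizer (K : Set G) := by
    rw [Subgroup.normalizer_eq_top]; exact le_top
  have hcop := coprime_card_of_isPGroup hKp hA
  have hsolv : Group.IsSolvable A ∨ Group.IsSolvable K := Or.inl (isSolvable_of_isPGroup hA)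
  obtain ⟨C, hC⟩ : ∃ C : Subgroup G, C = K ⊓ Subgroup.centralizer (A : Set G) := ⟨_, rfl⟩
  obtain ⟨T, hT⟩ : ∃ T : Subgroup G, T = (S : Subgroup K).map K.subtype := ⟨_, rfl⟩
  rw [← hT] at hAT ⊢
  have hTK : T ≤ K := by rw [hT]; exact Subgroup.map_subtype_le _
  have hTr : IsPGroup r T := by rw [hT]; exact S.isPGroup'.map _
  rw [cK_eq_card_inf K A, cK_eq_card_inf T A, ← hC]
  obtain ⟨R⟩ : Nonempty (Sylow r C) := inferInstance
  obtain ⟨R', hR'⟩ : ∃ R' : Subgroup G, R' = (R : Subgroup C).map C.subtype := ⟨_, rfl⟩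
  have hR'card : Nat.card R' = r ^ (Nat.card C).factorization r := by
    rw [hR', Subgroup.card_map_of_injective C.subtype_injective]
    exact R.card_eq_multiplicity
  have hR'C : R' ≤ C := by rw [hR']; exact Subgroup.map_subtype_le _
  have hR'K : R' ≤ K := hR'C.trans (by rw [hC]; exact inf_le_left)
  have hR'cent : R' ≤ Subgroup.centralizer (A : Set G) :=
    hR'C.trans (by rw [hC]; exact inf_le_right)
  have hR'r : IsPGroup r R' := by rw [hR']; exact R.isPGroup'.map _
  have hAR' : A ≤ Subgroup.normalizer (R' : Set G) := by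
    apply le_normalizer_of_conj_mem
    intro a ha f hf
    have := Subgroup.mem_centralizer_iff.mp (hR'cent hf) a ha
    rw [this, mul_inv_cancel_right]; exact hf
  obtain ⟨S', hR'S', hAS'⟩ := Cfsg.Agent.Lib.Lead.coprime_invariant_pgroup_le_sylow A K hAK hcop
    hsolv r R' hR'K hR'r hAR'
  obtain ⟨c, hcA, hcS⟩ := Cfsg.Agent.Lib.Lead.coprime_invariant_sylow_conj A K hAK hcop hsolv r
    S' S hAS' (by rw [← hT]; exact hAT)
  -- lower bound
  have hlow : Nat.card R' ≤ Nat.card (T ⊓ Subgroup.centralizer (A : Set G) : Subgroup G) := by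
    apply Nat.card_le_card_of_injective
      (fun f : R' => (⟨(c : G) * f.1 * (c : G)⁻¹, ?_⟩ :
        (T ⊓ Subgroup.centralizer (A : Set G) : Subgroup G)))
    · intro f g hfg
      have h1 : (c : G) * f.1 * (c : G)⁻¹ = (c : G) * g.1 * (c : G)⁻¹ := congrArg Subtype.val hfg
      apply Subtype.ext
      exact mul_left_cancel (mul_right_cancel h1)
    · rw [Subgroup.mem_inf]
      constructor
      · obtain ⟨f', hf', hf'eq⟩ := hR'S' f.2
        rw [hT, ← hf'eq]
        refine ⟨c * f' * c⁻¹, ?_, by simp⟩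
        have h2 : c * f' * c⁻¹ ∈ ((c • S' : Sylow r K) : Subgroup K) := by
          rw [Sylow.coe_subgroup_smul, mem_conj_smul]
          have : c⁻¹ * (c * f' * c⁻¹) * c = f' := by group
          rw [this]; exact hf'
        have h3 : (c • S' : Sylow r K) = S := hcS
        rw [h3] at h2
        exact h2
      · exact Subgroup.mul_mem _ (Subgroup.mul_mem _ hcA (hR'cent f.2)) (Subgroup.inv_mem _ hcA)
  -- upper bound
  have hle : (T ⊓ Subgroup.centralizer (A : Set G) : Subgroup G) ≤ C := by
    rw [hC]; exact inf_le_inf_right _ hTK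
  obtain ⟨m, hm⟩ := IsPGroup.iff_card.mp (hTr.to_le (inf_le_left :
    (T ⊓ Subgroup.centralizer (A : Set G) : Subgroup G) ≤ T))
  have hdvd : r ^ m ∣ Nat.card C := by rw [← hm]; exact Subgroup.card_dvd_of_le hle
  have hmle : m ≤ (Nat.card C).factorization r :=
    (hr.out.pow_dvd_iff_le_factorization Nat.card_pos.ne').mp hdvd
  rw [hm] at hlow ⊢
  rw [hR'card] at hlow
  exact le_antisymm (Nat.pow_le_pow_right hr.out.pos hmle) hlow

end

/-- `Theta` for normal `p'`-subgroups. -/
theorem theta_general (p : ℕ) [hp : Fact p.Prime] {G : Type u} [Group G] [Finite G]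
    (K P : Subgroup G) [K.Normal] (hKp : (Nat.card K).Coprime p) (hP : IsPGroup p P) :
    Theta p K P := by
  have hPK : P ≤ Subgroup.normalizer (K : Set G) := by
    rw [Subgroup.normalizer_eq_top]; exact le_top
  have hcop := coprime_card_of_isPGroup hKp hP
  have hsolv : Group.IsSolvable P ∨ Group.IsSolvable K := Or.inl (isSolvable_of_isPGroup hP)
  have hex : ∀ r ∈ (Nat.card K).primeFactors, ∃ T : Subgroup G, Theta p T P ∧
      ∀ A : Subgroup G, A ≤ P → cK T A = r ^ (cK K A).factorization r := by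
    intro r hr
    have hrprime : r.Prime := Nat.prime_of_mem_primeFactors hr
    have hrdvd : r ∣ Nat.card K := Nat.dvd_of_mem_primeFactors hr
    haveI : Fact r.Prime := ⟨hrprime⟩
    have hrp : r ≠ p := by
      rintro rfl
      have := Nat.Coprime.eq_one_of_dvd hKp.symm hrdvd
      exact hrprime.one_lt.ne' this
    obtain ⟨S, hS⟩ := Cfsg.Agent.Lib.Lead.coprime_invariant_sylow_exists P K hPK hcop hsolv r
    refine ⟨(S : Subgroup K).map K.subtype, ?_, ?_⟩
    · apply theta_of_subgroupOf p (Subgroup.normalizer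
        (((S : Subgroup K).map K.subtype : Subgroup G) : Set G)) _ P Subgroup.le_normalizer hS
      exact theta_rgroup p r hrp _ _ _ rfl ((S.isPGroup'.map _).comap_subtype) hP.comap_subtype
    · intro A hAP
      exact sylC hKp (hP.to_le hAP) r S (hAP.trans hS)
  choose! T hT using hex
  have hfac : ∀ A : Subgroup G, A ≤ P →
      cK K A = ∏ r ∈ (Nat.card K).primeFactors, cK (T r) A := by
    intro A hAP
    have h1 : cK K A ∣ Nat.card K := by
      rw [cK_eq_card_inf]; exact Subgroup.card_dvd_of_le inf_le_left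
    rw [Finset.prod_congr rfl (fun r hr => (hT r hr).2 A hAP)]
    exact (prod_pow_factorization_of_dvd Nat.card_pos.ne' h1).symm
  have hcardK : Nat.card K = ∏ r ∈ (Nat.card K).primeFactors, Nat.card (T r) := by
    have := hfac ⊥ bot_le
    rw [cK_bot] at this
    exact this.trans (Finset.prod_congr rfl (fun r _ => cK_bot _))
  unfold Theta
  have hprod : prodP P (fun x => cK K (Subgroup.zpowers x)) =
      ∏ r ∈ (Nat.card K).primeFactors, prodP P (fun x => cK (T r) (Subgroup.zpowers x)) := by
    rw [← prodP_finset_prod]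
    exact prodP_congr P (fun x hx => hfac _ (Subgroup.zpowers_le.mpr hx))
  have hmain : ∏ r ∈ (Nat.card K).primeFactors,
      (prodP P (fun x => cK (T r) (Subgroup.zpowers x)) ^ p * cK (T r) P ^ Nat.card P) ≤
      ∏ r ∈ (Nat.card K).primeFactors,
      (Nat.card (T r) ^ Nat.card P * cK (T r) P ^ (p * Nat.card P)) := by
    apply Finset.prod_le_prod'
    intro r hr
    exact (hT r hr).1
  rw [Finset.prod_mul_distrib, Finset.prod_mul_distrib, Finset.prod_pow, Finset.prod_pow,
    Finset.prod_pow, Finset.prod_pow, ← hprod, ← hfac P le_rfl, ← hcardK] at hmain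
  exact hmain

end Cfsg.Agent.Lib.Helper7.PEl
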