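import Mathlib
import Cfsg.Prelude
import Cfsg.Agent.Lib.Helper7.PEl10

/-!
# `Phi` in `p`-solvable groups
-/

set_option autoImplicit false

namespace Cfsg.Agent.Lib.Helper7.PEl

open Cfsg
open Cfsg.Agent.Lib.Helper7.Subnz
open scoped Pointwise

universe u

theorem lam_le {G : Type u} [Group G] [Finite G] (p : ℕ) (H : Subgroup G) :
    lam p H ≤ Nat.card (Sylow p G) := by
  unfold lam
  exact Nat.card_le_card_of_injective (fun Q => Q.1) Subtype.val_injective

theorem phi_main (p : ℕ) [hp : Fact p.Prime] : ∀ (n : ℕ) {G : Type u} [Group G] [Finite G]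
    (P : Sylow p G) (M : Fin (n + 1) → Subgroup G) (_ : M 0 = ⊥)
    (_ : M (Fin.last n) = ⊤) (_ : Monotone M) (_ : ∀ i, (M i).Normal)
    (_ : ∀ i : Fin n, (∃ m : ℕ, (M i.castSucc).relIndex (M i.succ) = p ^ m) ∨
      ((M i.castSucc).relIndex (M i.succ)).Coprime p),
    Phi p (P : Subgroup G) := by
  intro n
  induction n with
  | zero =>
    intro G _ _ P M h0 hn _ _ _
    have hbt : (⊥ : Subgroup G) = ⊤ := by rw [← h0, ← hn]; rfl
    haveI : Subsingleton G := by
      refine ⟨fun a b => ?_⟩
      have ha : a ∈ (⊥ : Subgroup G) := by rw [hbt]; trivial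
      have hb : b ∈ (⊥ : Subgroup G) := by rw [hbt]; trivial
      rw [Subgroup.mem_bot.mp ha, Subgroup.mem_bot.mp hb]
    have h1 : Nat.card (Sylow p G) = 1 := by
      rw [Nat.card_eq_one_iff_unique]
      refine ⟨⟨fun A B => ?_⟩, ⟨P⟩⟩
      apply Sylow.ext
      ext x
      rw [Subsingleton.elim x 1]
      exact ⟨fun _ => Subgroup.one_mem _, fun _ => Subgroup.one_mem _⟩
    unfold Phi
    rw [h1, one_pow]
    have h2 : prodP (P : Subgroup G) (fun x => lam p (Subgroup.zpowers x)) ≤ 1 := by
      calc prodP (P : Subgroup G) (fun x => lam p (Subgroup.zpowers x))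
          ≤ prodP (P : Subgroup G) (fun _ => 1) := by
            apply prodP_le
            intro x _
            have := lam_le p (Subgroup.zpowers x)
            rwa [h1] at this
        _ = 1 := by rw [prodP_const, one_pow]
    calc prodP (P : Subgroup G) (fun x => lam p (Subgroup.zpowers x)) ^ p ≤ 1 ^ p :=
          Nat.pow_le_pow_left h2 p
      _ = 1 := one_pow p
  | succ n ih =>
    intro G _ _ P M h0 hn hmono hnormal hfac
    haveI hKn : (M 1).Normal := hnormal 1
    have hsurj := QuotientGroup.mk'_surjective (M 1)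
    have ih' := ih (G := G ⧸ M 1) (P.mapSurjective hsurj)
      (fun j : Fin (n + 1) => (M j.succ).map (QuotientGroup.mk' (M 1)))
      (by
        show (M (0 : Fin (n + 1)).succ).map (QuotientGroup.mk' (M 1)) = ⊥
        have e2 : (0 : Fin (n + 1)).succ = 1 := rfl
        rw [e2, QuotientGroup.map_mk'_self])
      (by
        show (M (Fin.last n).succ).map (QuotientGroup.mk' (M 1)) = ⊤
        rw [Fin.succ_last, hn]
        exact Subgroup.map_top_of_surjective _ (QuotientGroup.mk'_surjective _))
      (fun a b hab => Subgroup.map_mono (hmono (Fin.succ_le_succ_iff.mpr hab)))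
      (fun j => Subgroup.Normal.map (hnormal _) _ (QuotientGroup.mk'_surjective _))
      (by
        intro j
        have h1 : M 1 ≤ M j.succ.castSucc := by
          apply hmono
          rw [← Fin.succ_castSucc, ← Fin.succ_zero_eq_one]
          exact Fin.succ_le_succ_iff.mpr (Fin.zero_le _)
        simp only [Fin.succ_castSucc]
        rw [relIndex_map_mk (M 1) h1]
        exact hfac j.succ)
    rw [Sylow.coe_mapSurjective] at ih'
    have h3 := hfac 0
    have e1 : (0 : Fin (n + 1)).castSucc = 0 := rfl
    have e2 : (0 : Fin (n + 1)).succ = 1 := rfl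
    rw [e1, e2, h0, Subgroup.relIndex_bot_left] at h3
    rcases h3 with ⟨m, hm⟩ | h3
    · have hKp : IsPGroup p (M 1) := IsPGroup.of_card hm
      exact phi_of_pgroup hKp P ih'
    · exact phi_of_coprime h3 P ih' (theta_general p (M 1) (P : Subgroup G) h3 P.isPGroup')

theorem phi_of_isPSolvable {G : Type u} [Group G] [Finite G] (p : ℕ) [Fact p.Prime]
    (hG : Cfsg.IsPSolvable p G) (P : Sylow p G) : Phi p (P : Subgroup G) := by
  obtain ⟨n, M, h0, hn, hmono, hnormal, hfac⟩ := hG
  exact phi_main p n P M h0 hn hmono hnormal hfac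

end Cfsg.Agent.Lib.Helper7.PEl
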