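import Mathlib
import Cfsg.Prelude
import Cfsg.Agent.Lib.Helper7.PEl11

/-!
# Counting `p`-elements through the Sylow subgroups containing them
-/

set_option autoImplicit false

namespace Cfsg.Agent.Lib.Helper7.PEl

open Cfsg
open Cfsg.Agent.Lib.Helper7.Subnz
open scoped Pointwise

universe u

/-- AM-GM in the form `N ^ N * ∏ z ≤ (∑ z) ^ N`. -/
theorem amgm {ι : Type*} [Fintype ι] (z : ι → ℝ) (hz : ∀ i, 0 ≤ z i) :
    (Fintype.card ι : ℝ) ^ Fintype.card ι * ∏ i, z i ≤ (∑ i, z i) ^ Fintype.card ι := by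
  rcases Nat.eq_zero_or_pos (Fintype.card ι) with h0 | hpos
  · haveI : IsEmpty ι := Fintype.card_eq_zero_iff.mp h0
    simp [h0]
  have hN : (Fintype.card ι : ℝ) ≠ 0 := by exact_mod_cast hpos.ne'
  have h1 := Real.geom_mean_le_arith_mean_weighted Finset.univ
    (fun _ : ι => ((Fintype.card ι : ℝ))⁻¹) z (fun i _ => by positivity)
    (by rw [Finset.sum_const, Finset.card_univ, nsmul_eq_mul, mul_inv_cancel₀ hN])
    (fun i _ => hz i)
  have h2 : 0 ≤ ∏ i, z i ^ ((Fintype.card ι : ℝ))⁻¹ :=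
    Finset.prod_nonneg (fun i _ => Real.rpow_nonneg (hz i) _)
  have h3 := pow_le_pow_left₀ h2 h1 (Fintype.card ι)
  rw [← Finset.prod_pow] at h3
  have h4 : ∀ i ∈ Finset.univ, (z i ^ ((Fintype.card ι : ℝ))⁻¹) ^ Fintype.card ι = z i :=
    fun i _ => Real.rpow_inv_natCast_pow (hz i) hpos.ne'
  rw [Finset.prod_congr rfl h4, ← Finset.mul_sum, mul_pow] at h3
  calc (Fintype.card ι : ℝ) ^ Fintype.card ι * ∏ i, z i
      ≤ (Fintype.card ι : ℝ) ^ Fintype.card ι *
        (((Fintype.card ι : ℝ))⁻¹ ^ Fintype.card ι * (∑ i, z i) ^ Fintype.card ι) :=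
        mul_le_mul_of_nonneg_left h3 (by positivity)
    _ = (∑ i, z i) ^ Fintype.card ι := by
        rw [← mul_assoc, ← mul_pow, mul_inv_cancel₀ hN, one_pow, one_mul]

variable {G : Type u} [Group G]

theorem lam_eq_card_mem (p : ℕ) (g : G) :
    lam p (Subgroup.zpowers g) = Nat.card {Q : Sylow p G // g ∈ Q} := by
  unfold lam
  exact Nat.card_congr (Equiv.subtypeEquivRight (fun Q => Subgroup.zpowers_le))

section
variable [Finite G] {p : ℕ} [hp : Fact p.Prime]

theorem lam_ne_zero_iff (g : G) :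
    lam p (Subgroup.zpowers g) ≠ 0 ↔ ∃ k : ℕ, orderOf g = p ^ k := by
  rw [lam_eq_card_mem]
  constructor
  · intro h
    have hne : Nonempty {Q : Sylow p G // g ∈ Q} := by
      by_contra hcon
      rw [not_nonempty_iff] at hcon
      exact h Nat.card_of_isEmpty
    obtain ⟨Q, hgQ⟩ := hne
    obtain ⟨k, hk⟩ := Q.isPGroup' ⟨g, hgQ⟩
    have hk' : g ^ (p ^ k) = 1 := by
      have := congrArg Subtype.val hk
      simpa using this
    have hdvd : orderOf g ∣ p ^ k := orderOf_dvd_of_pow_eq_one hk'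
    obtain ⟨j, _, hj⟩ := (Nat.dvd_prime_pow hp.out).mp hdvd
    exact ⟨j, hj⟩
  · rintro ⟨k, hk⟩
    have hpg : IsPGroup p (Subgroup.zpowers g) := by
      apply IsPGroup.of_card (n := k)
      rw [Nat.card_zpowers, hk]
    obtain ⟨Q, hQ⟩ := hpg.exists_le_sylow
    haveI : Nonempty {Q : Sylow p G // g ∈ Q} := ⟨⟨Q, hQ (Subgroup.mem_zpowers g)⟩⟩
    exact Nat.card_pos.ne'

theorem lam_conj (c g : G) :
    lam p (Subgroup.zpowers (c * g * c⁻¹)) = lam p (Subgroup.zpowers g) := by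
  rw [lam_eq_card_mem, lam_eq_card_mem]
  refine Nat.card_congr (Equiv.subtypeEquiv (MulAction.toPerm c⁻¹) (fun Q => ?_))
  show c * g * c⁻¹ ∈ Q ↔ g ∈ ((c⁻¹ • Q : Sylow p G) : Subgroup G)
  rw [Sylow.coe_subgroup_smul, mem_conj_smul, inv_inv]
  rfl

/-- The number of `p`-elements is `n_p` times the sum of `1 / λ(x)` over a Sylow subgroup. -/
theorem card_pElements (P : Sylow p G) [Fintype (P : Subgroup G)] :
    (Nat.card {g : G // ∃ k : ℕ, orderOf g = p ^ k} : ℝ) =
      Nat.card (Sylow p G) * ∑ x : (P : Subgroup G), ((lam p (Subgroup.zpowers (x : G)) : ℝ))⁻¹ := by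
  classical
  haveI : Fintype G := Fintype.ofFinite G
  haveI : Fintype (Sylow p G) := Fintype.ofFinite _
  -- the weight of a Sylow subgroup
  have ht : ∀ Q : Sylow p G,
      ∑ g : G, (if g ∈ Q then ((lam p (Subgroup.zpowers g) : ℝ))⁻¹ else 0) =
      ∑ g : G, (if g ∈ P then ((lam p (Subgroup.zpowers g) : ℝ))⁻¹ else 0) := by
    intro Q
    obtain ⟨c, hc⟩ := MulAction.exists_smul_eq G P Q
    rw [← hc]
    symm
    apply Fintype.sum_equiv (MulAut.conj c).toEquiv
    intro g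
    have h1 : (MulAut.conj c).toEquiv g = c * g * c⁻¹ := rfl
    rw [h1, lam_conj]
    have h2 : c * g * c⁻¹ ∈ (c • P : Sylow p G) ↔ g ∈ P := by
      show c * g * c⁻¹ ∈ ((c • P : Sylow p G) : Subgroup G) ↔ g ∈ P
      rw [Sylow.coe_subgroup_smul, mem_conj_smul]
      have : c⁻¹ * (c * g * c⁻¹) * c = g := by group
      rw [this]; rfl
    simp only [h2]
  have hP : ∑ g : G, (if g ∈ P then ((lam p (Subgroup.zpowers g) : ℝ))⁻¹ else 0) =
      ∑ x : (P : Subgroup G), ((lam p (Subgroup.zpowers (x : G)) : ℝ))⁻¹ := by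
    rw [← Finset.sum_filter]
    exact Finset.sum_subtype (Finset.univ.filter (fun g => g ∈ P))
      (fun g => by simp; rfl) (fun g => ((lam p (Subgroup.zpowers g) : ℝ))⁻¹)
  -- the count
  have hu : (Nat.card {g : G // ∃ k : ℕ, orderOf g = p ^ k} : ℝ) =
      ∑ g : G, (lam p (Subgroup.zpowers g) : ℝ) * ((lam p (Subgroup.zpowers g) : ℝ))⁻¹ := by
    rw [Nat.card_eq_fintype_card, Fintype.card_subtype, Finset.card_filter]
    push_cast
    apply Finset.sum_congr rfl
    intro g _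
    by_cases hg : ∃ k : ℕ, orderOf g = p ^ k
    · rw [if_pos hg]
      have := (lam_ne_zero_iff (p := p) g).mpr hg
      rw [mul_inv_cancel₀]
      exact_mod_cast this
    · rw [if_neg hg]
      have : lam p (Subgroup.zpowers g) = 0 := by
        by_contra hcon
        exact hg ((lam_ne_zero_iff (p := p) g).mp hcon)
      rw [this]; simp
  have hlam : ∀ g : G, (lam p (Subgroup.zpowers g) : ℝ) =
      ∑ Q : Sylow p G, (if g ∈ Q then (1 : ℝ) else 0) := by
    intro g
    rw [lam_eq_card_mem, Nat.card_eq_fintype_card, Fintype.card_subtype, Finset.card_filter]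
    push_cast
    rfl
  rw [hu]
  calc ∑ g : G, (lam p (Subgroup.zpowers g) : ℝ) * ((lam p (Subgroup.zpowers g) : ℝ))⁻¹
      = ∑ g : G, ∑ Q : Sylow p G,
          (if g ∈ Q then ((lam p (Subgroup.zpowers g) : ℝ))⁻¹ else 0) := by
        apply Finset.sum_congr rfl
        intro g _
        rw [hlam g, Finset.sum_mul]
        apply Finset.sum_congr rfl
        intro Q _
        rw [← hlam g]
        split_ifs <;> simp
    _ = ∑ Q : Sylow p G, ∑ g : G,
          (if g ∈ Q then ((lam p (Subgroup.zpowers g) : ℝ))⁻¹ else 0) := Finset.sum_comm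
    _ = ∑ _Q : Sylow p G, ∑ x : (P : Subgroup G), ((lam p (Subgroup.zpowers (x : G)) : ℝ))⁻¹ := by
        apply Finset.sum_congr rfl
        intro Q _
        rw [ht Q, hP]
    _ = _ := by
        rw [Finset.sum_const, Finset.card_univ, nsmul_eq_mul, Nat.card_eq_fintype_card]

end

end Cfsg.Agent.Lib.Helper7.PEl
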