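import Mathlib

set_option autoImplicit false

/-!
Elements of `p`-power order (`∃ k, orderOf g = p ^ k`): basic characterisations and the
conjugacy-class count `|{n x n⁻¹ : n ∈ N}| = |N| / |C_N(x)|`.
-/

namespace Cfsg.Agent.Lib.Helper7

open scoped Pointwise

variable {G : Type*} [Group G]

theorem isPElt_iff_pow {p : ℕ} [Fact p.Prime] (g : G) :
    (∃ k : ℕ, orderOf g = p ^ k) ↔ ∃ k : ℕ, g ^ p ^ k = 1 := by
  constructor
  · rintro ⟨k, hk⟩
    exact ⟨k, by rw [← hk]; exact pow_orderOf_eq_one g⟩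
  · rintro ⟨k, hk⟩
    obtain ⟨j, _, hj⟩ := (Nat.dvd_prime_pow Fact.out).mp (orderOf_dvd_of_pow_eq_one hk)
    exact ⟨j, hj⟩

theorem isPElt_of_mem {p : ℕ} [Fact p.Prime] {H : Subgroup G} (hH : IsPGroup p ↥H) {g : G}
    (hg : g ∈ H) : ∃ k : ℕ, orderOf g = p ^ k := by
  rw [isPElt_iff_pow]
  obtain ⟨k, hk⟩ := hH ⟨g, hg⟩
  exact ⟨k, congrArg Subtype.val hk⟩

theorem isPGroup_zpowers_of_isPElt {p : ℕ} [Fact p.Prime] {g : G}
    (hg : ∃ k : ℕ, orderOf g = p ^ k) : IsPGroup p ↥(Subgroup.zpowers g) := by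
  obtain ⟨k, hk⟩ := (isPElt_iff_pow g).mp hg
  rintro ⟨w, hw⟩
  obtain ⟨i, rfl⟩ := Subgroup.mem_zpowers_iff.mp hw
  refine ⟨k, Subtype.ext ?_⟩
  show (g ^ i) ^ p ^ k = 1
  rw [← zpow_natCast, ← zpow_mul, mul_comm, zpow_mul, zpow_natCast, hk, one_zpow]

theorem isPElt_iff_mem_sylow [Finite G] {p : ℕ} [Fact p.Prime] (g : G) :
    (∃ k : ℕ, orderOf g = p ^ k) ↔ ∃ P : Sylow p G, g ∈ (P : Subgroup G) := by
  constructor
  · intro h
    obtain ⟨P, hP⟩ := (isPGroup_zpowers_of_isPElt h).exists_le_sylow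
    exact ⟨P, hP (Subgroup.mem_zpowers g)⟩
  · rintro ⟨P, hP⟩
    exact isPElt_of_mem P.2 hP

theorem isPElt_conj {p : ℕ} (g h : G) (hg : ∃ k : ℕ, orderOf g = p ^ k) :
    ∃ k : ℕ, orderOf (h * g * h⁻¹) = p ^ k := by
  obtain ⟨k, hk⟩ := hg
  refine ⟨k, ?_⟩
  rw [← hk]
  have := (MulAut.conj h).orderOf_eq g
  rw [MulAut.conj_apply] at this
  exact this

/-- The `N`-class of `x`. -/
def nClass (N : Subgroup G) (x : G) : Set G := {w | ∃ n ∈ N, w = n * x * n⁻¹}

/-- `|{n x n⁻¹ : n ∈ N}| = |N : C_N(x)|`. -/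
theorem card_nClass [Finite G] (N : Subgroup G) (x : G) :
    Nat.card ↥(nClass N x) = ((Subgroup.centralizer ({x} : Set G)).subgroupOf N).index := by
  set C := (Subgroup.centralizer ({x} : Set G)).subgroupOf N with hC
  rw [Subgroup.index_eq_card]
  symm
  let ψ : ↥N ⧸ C → ↥(nClass N x) := fun q =>
    Quotient.liftOn' q (fun n => (⟨(n : G) * x * (n : G)⁻¹, ⟨n, n.2, rfl⟩⟩ : ↥(nClass N x)))
      (by
        intro a b hab
        rw [QuotientGroup.leftRel_apply, hC, Subgroup.mem_subgroupOf,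
          Subgroup.mem_centralizer_singleton_iff] at hab
        apply Subtype.ext
        simp only [Subgroup.coe_mul, Subgroup.coe_inv] at hab
        show (a : G) * x * (a : G)⁻¹ = (b : G) * x * (b : G)⁻¹
        have : x = (a : G)⁻¹ * b * x * ((a : G)⁻¹ * b)⁻¹ := by rw [hab]; group
        calc (a : G) * x * (a : G)⁻¹ = a * ((a : G)⁻¹ * b * x * ((a : G)⁻¹ * b)⁻¹) * (a : G)⁻¹ := by
              rw [← this]
          _ = (b : G) * x * (b : G)⁻¹ := by group)
  apply Nat.card_congr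
  refine Equiv.ofBijective ψ ⟨?_, ?_⟩
  · intro q₁ q₂
    induction q₁ using Quotient.inductionOn' with | _ a => ?_
    induction q₂ using Quotient.inductionOn' with | _ b => ?_
    intro h
    have h' : (a : G) * x * (a : G)⁻¹ = (b : G) * x * (b : G)⁻¹ := congrArg Subtype.val h
    apply Quotient.sound'
    rw [QuotientGroup.leftRel_apply, hC, Subgroup.mem_subgroupOf,
      Subgroup.mem_centralizer_singleton_iff]
    simp only [Subgroup.coe_mul, Subgroup.coe_inv]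
    calc (a : G)⁻¹ * b * x = (a : G)⁻¹ * ((b : G) * x * (b : G)⁻¹) * b := by group
      _ = (a : G)⁻¹ * ((a : G) * x * (a : G)⁻¹) * b := by rw [h']
      _ = x * ((a : G)⁻¹ * b) := by group
  · rintro ⟨w, n, hn, rfl⟩
    exact ⟨QuotientGroup.mk ⟨n, hn⟩, rfl⟩

theorem card_nClass' [Finite G] (N : Subgroup G) (x : G) :
    Nat.card ↥(nClass N x)
      = Nat.card N / Nat.card ↥(N ⊓ Subgroup.centralizer ({x} : Set G)) := by
  rw [card_nClass]
  have h1 := Subgroup.card_mul_index ((Subgroup.centralizer ({x} : Set G)).subgroupOf N)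
  have h2 : Nat.card ((Subgroup.centralizer ({x} : Set G)).subgroupOf N)
      = Nat.card ↥(N ⊓ Subgroup.centralizer ({x} : Set G)) := by
    rw [← Subgroup.inf_subgroupOf_left]
    exact Nat.card_congr (Subgroup.subgroupOfEquivOfLe inf_le_left).toEquiv
  rw [h2] at h1
  rw [← h1, Nat.mul_div_cancel_left _ Nat.card_pos]

end Cfsg.Agent.Lib.Helper7
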