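import Mathlib
import Cfsg.Agent.Lib.Helper7.PLen1
import Cfsg.Agent.Lib.Helper4.HallHigman

set_option autoImplicit false
open scoped Pointwise

/-! Case (b) of the `p`-length argument: if every maximal subgroup not containing `O_p(G)` has
index `p` (and `O_{p'}(G) = 1`, `G` `p`-solvable), then `G / O_p(G)` is a `p'`-group. -/

namespace Cfsg.Agent.Lib.Helper7.PLen

open Cfsg Cfsg.Agent.Lib.Helper7

universe u

variable {G : Type u} [Group G]

theorem cj_of_normal (g : G) (Y : Subgroup G) [hY : Y.Normal] : cj g Y = Y := by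
  ext x
  rw [mem_cj]
  constructor
  · intro h
    have h2 := hY.conj_mem _ h g
    have h3 : g * (g⁻¹ * x * g) * g⁻¹ = x := by group
    rwa [h3] at h2
  · intro h
    have h2 := hY.conj_mem _ h g⁻¹
    rwa [inv_inv] at h2

/-- if `D ⊴ G` has index `p` in `P ⊴ G`, then `(p-1)`-th powers centralize `P / D`. -/
theorem pow_pred_centralizes [Finite G] {p : ℕ} [hp : Fact p.Prime] (P D : Subgroup G)
    [hPn : P.Normal] [hDn : D.Normal] (hidx : D.relIndex P = p) (g : G) {x : G} (hx : x ∈ P) :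
    g ^ (p - 1) * x * (g ^ (p - 1))⁻¹ * x⁻¹ ∈ D := by
  have hsurj := QuotientGroup.mk'_surjective D
  obtain ⟨Pb, hPb⟩ : ∃ Pb : Subgroup (G ⧸ D), Pb = P.map (QuotientGroup.mk' D) := ⟨_, rfl⟩
  haveI hPbn : Pb.Normal := by
    rw [hPb]; exact Subgroup.Normal.map hPn _ hsurj
  have hcard : Nat.card Pb = p := by
    have h1 := Subgroup.relIndex_ker (QuotientGroup.mk' D) (K := P)
    rw [QuotientGroup.ker_mk'] at h1
    rw [hPb, ← h1, hidx]
  haveI : IsCyclic Pb := isCyclic_of_prime_card hcard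
  have hAut : Nat.card (MulAut Pb) = p - 1 := by
    rw [IsCyclic.card_mulAut, hcard, Nat.totient_prime hp.out]
  have h2le := hp.out.two_le
  haveI : Finite (MulAut Pb) := Nat.finite_of_card_ne_zero (by rw [hAut]; omega)
  have h1 : (MulAut.conjNormal ((QuotientGroup.mk' D) g) : MulAut Pb) ^ (p - 1) = 1 := by
    rw [← hAut]; exact pow_card_eq_one'
  have h2 : (MulAut.conjNormal ((QuotientGroup.mk' D) (g ^ (p - 1))) : MulAut Pb) = 1 := by
    rw [map_pow, map_pow, h1]
  have hxb : (QuotientGroup.mk' D) x ∈ Pb := by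
    rw [hPb]; exact Subgroup.mem_map_of_mem _ hx
  have h3 : ((MulAut.conjNormal ((QuotientGroup.mk' D) (g ^ (p - 1))) : MulAut Pb)
      ⟨_, hxb⟩ : G ⧸ D) = (QuotientGroup.mk' D) x := by
    rw [h2]; rfl
  rw [MulAut.conjNormal_apply] at h3
  have h4 : (QuotientGroup.mk' D) (g ^ (p - 1) * x * (g ^ (p - 1))⁻¹ * x⁻¹) = 1 := by
    rw [map_mul, map_mul, map_mul, map_inv, map_inv]
    rw [h3]
    exact mul_inv_cancel _
  exact (QuotientGroup.eq_one_iff _).mp h4

end Cfsg.Agent.Lib.Helper7.PLen
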