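import Mathlib
import Cfsg.Agent.Lib.Helper7.PLen2

set_option autoImplicit false
open scoped Pointwise

namespace Cfsg.Agent.Lib.Helper7.PLen

open Cfsg Cfsg.Agent.Lib.Helper7

universe u

variable {G : Type u} [Group G]

/-- the subgroup `P ∩ M` for a maximal subgroup `M` of index `p` not containing the normal
`p`-subgroup `P` is normal of index `p` in `P`. -/
theorem inf_coatom_normal [Finite G] {p : ℕ} [hp : Fact p.Prime] (P M : Subgroup G) [hPn : P.Normal]
    (hPp : IsPGroup p P) (hM : IsCoatom M) (hPM : ¬ P ≤ M) (hidx : M.index = p) :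
    (P ⊓ M).Normal ∧ (P ⊓ M).relIndex P = p := by
  have hsup : M ⊔ P = ⊤ := by
    by_contra hne
    have h1 : M < M ⊔ P := lt_of_le_of_ne le_sup_left (fun h => hPM (by rw [h]; exact le_sup_right))
    exact hne (hM.2 _ h1)
  have hrel : (P ⊓ M).relIndex P = p := by
    rw [Subgroup.inf_relIndex_left, relIndex_eq_relIndex_sup_of_normal M P, hsup,
      Subgroup.relIndex_top_right, hidx]
  refine ⟨?_, hrel⟩
  -- normalizer contains `M` and `P`
  have hMle : M ≤ Subgroup.normalizer ((P ⊓ M : Subgroup G) : Set G) := by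
    intro m hm
    rw [Subgroup.mem_normalizer_iff]
    intro n
    rw [Subgroup.mem_inf, Subgroup.mem_inf]
    constructor
    · rintro ⟨h1, h2⟩
      exact ⟨hPn.conj_mem _ h1 m, M.mul_mem (M.mul_mem hm h2) (M.inv_mem hm)⟩
    · rintro ⟨h1, h2⟩
      constructor
      · have := hPn.conj_mem _ h1 m⁻¹
        have e : m⁻¹ * (m * n * m⁻¹) * m⁻¹⁻¹ = n := by group
        rwa [e] at this
      · have := M.mul_mem (M.mul_mem (M.inv_mem hm) h2) hm
        have e : m⁻¹ * (m * n * m⁻¹) * m = n := by group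
        rwa [e] at this
  have hPle : P ≤ Subgroup.normalizer ((P ⊓ M : Subgroup G) : Set G) := by
    rw [← Subgroup.normal_subgroupOf_iff_le_normalizer inf_le_left]
    apply Subgroup.normal_of_index_eq_minFac_card
    have h1 : ((P ⊓ M).subgroupOf P).index = p := hrel
    rw [h1]
    obtain ⟨a, ha⟩ := IsPGroup.iff_card.mp hPp
    have ha0 : a ≠ 0 := by
      rintro rfl
      have h2 : (P ⊓ M).relIndex P ∣ Nat.card P := Subgroup.relIndex_dvd_card _ _
      rw [hrel, ha, pow_zero] at h2
      exact hp.out.one_lt.ne' (Nat.dvd_one.mp h2)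
    rw [ha, Nat.Prime.pow_minFac hp.out ha0]
  have htop : Subgroup.normalizer ((P ⊓ M : Subgroup G) : Set G) = ⊤ := by
    rw [eq_top_iff, ← hsup]
    exact sup_le hMle hPle
  exact Subgroup.normalizer_eq_top_iff.mp htop

end Cfsg.Agent.Lib.Helper7.PLen
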