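import Mathlib
import Cfsg.Agent.Lib.Helper7.PLen3

set_option autoImplicit false
open scoped Pointwise

namespace Cfsg.Agent.Lib.Helper7.PLen

open Cfsg Cfsg.Agent.Lib.Helper7 Cfsg.Agent.Lib.Helper4

universe u

variable {G : Type u} [Group G]

/-- Case (b): every maximal subgroup not containing `P = O_p(G)` has index `p`. -/
theorem caseB [Finite G] {p : ℕ} [hp : Fact p.Prime] (hG : IsPSolvable p G)
    (hred : ∀ K : Subgroup G, K.Normal → (Nat.card K).Coprime p → K = ⊥)
    (hB : ∀ M : Subgroup G, IsCoatom M → ¬ (pCore p G ≤ M) → M.index = p) :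
    ¬ p ∣ (pCore p G).index := by
  classical
  obtain ⟨P, hPdef⟩ : ∃ P : Subgroup G, P = pCore p G := ⟨_, rfl⟩
  rw [← hPdef] at hB ⊢
  haveI hPn : P.Normal := by rw [hPdef]; exact Cfsg.Agent.Lib.Lead.pCore_normal p
  have hPp : IsPGroup p P := by rw [hPdef]; exact Cfsg.Agent.Lib.Lead.pCore_isPGroup p
  -- the family of maximal subgroups not containing `P`
  have hD : ∀ M : {M : Subgroup G // IsCoatom M ∧ ¬ P ≤ M},
      (P ⊓ M.1).Normal ∧ (P ⊓ M.1).relIndex P = p := fun M =>
    inf_coatom_normal P M.1 hPp M.2.1 M.2.2 (hB M.1 M.2.1 M.2.2)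
  obtain ⟨Y, hYdef⟩ : ∃ Y : Subgroup G,
      Y = P ⊓ ⨅ M : {M : Subgroup G // IsCoatom M ∧ ¬ P ≤ M}, (P ⊓ M.1) := ⟨_, rfl⟩
  haveI hYn : Y.Normal := by
    rw [hYdef]
    haveI : (⨅ M : {M : Subgroup G // IsCoatom M ∧ ¬ P ≤ M}, (P ⊓ M.1)).Normal :=
      Subgroup.normal_iInf_normal (fun M => (hD M).1)
    exact Subgroup.normal_inf_normal _ _
  have hYP : Y ≤ P := by rw [hYdef]; exact inf_le_left
  have hYM : ∀ M : Subgroup G, IsCoatom M → Y ≤ M := by
    intro M hM
    by_cases hPM : P ≤ M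
    · exact hYP.trans hPM
    · rw [hYdef]
      exact inf_le_right.trans ((iInf_le _ (⟨M, hM, hPM⟩ : {M : Subgroup G // IsCoatom M ∧ ¬ P ≤ M})).trans
        inf_le_right)
  have hYp : IsPGroup p Y := hPp.to_le hYP
  -- the subgroup `T` centralizing `P / Y`
  obtain ⟨T, hTdef⟩ : ∃ T : Subgroup G, T = (Subgroup.centralizer
      ((P.map (QuotientGroup.mk' Y) : Subgroup (G ⧸ Y)) : Set (G ⧸ Y))).comap (QuotientGroup.mk' Y) :=
    ⟨_, rfl⟩
  haveI hPbn : (P.map (QuotientGroup.mk' Y)).Normal :=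
    Subgroup.Normal.map hPn _ (QuotientGroup.mk'_surjective Y)
  haveI hTn : T.Normal := by
    rw [hTdef]
    exact Subgroup.Normal.comap Subgroup.normal_centralizer _
  have hTmem : ∀ t : G, t ∈ T ↔ ∀ x ∈ P, t⁻¹ * x⁻¹ * t * x ∈ Y := by
    intro t
    rw [hTdef, Subgroup.mem_comap, Subgroup.mem_centralizer_iff]
    constructor
    · intro h x hx
      have h1 := h _ (Subgroup.mem_map_of_mem (QuotientGroup.mk' Y) hx)
      have h2 : (QuotientGroup.mk' Y) (x * t) = (QuotientGroup.mk' Y) (t * x) := by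
        rw [map_mul, map_mul]; exact h1
      have h3 := (QuotientGroup.eq).mp h2
      have e : (x * t)⁻¹ * (t * x) = t⁻¹ * x⁻¹ * t * x := by group
      rwa [e] at h3
    · intro h y hy
      obtain ⟨x, hx, rfl⟩ := hy
      have h3 := h x hx
      have e : (x * t)⁻¹ * (t * x) = t⁻¹ * x⁻¹ * t * x := by group
      rw [← e] at h3
      have h2 := (QuotientGroup.eq).mpr h3
      have h4 : (QuotientGroup.mk' Y) (x * t) = (QuotientGroup.mk' Y) (t * x) := h2
      rw [map_mul, map_mul] at h4
      exact h4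
  -- `(p-1)`-th powers lie in `T`
  have hpow : ∀ g : G, g ^ (p - 1) ∈ T := by
    intro g
    rw [hTmem]
    intro x hx
    have hxi : x⁻¹ ∈ P := P.inv_mem hx
    have key : ∀ (D : Subgroup G) [D.Normal], D.relIndex P = p →
        (g ^ (p - 1))⁻¹ * x⁻¹ * g ^ (p - 1) * x ∈ D := by
      intro D _ hDrel
      have h1 := pow_pred_centralizes P D hDrel g⁻¹ hxi
      rw [inv_pow, inv_inv, inv_inv] at h1
      exact h1
    rw [hYdef, Subgroup.mem_inf, Subgroup.mem_iInf]
    constructor
    · have h1 : (g ^ (p - 1))⁻¹ * x⁻¹ * g ^ (p - 1) ∈ P := by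
        have := hPn.conj_mem _ hxi (g ^ (p - 1))⁻¹
        rwa [inv_inv] at this
      exact P.mul_mem h1 hx
    · intro M
      haveI := (hD M).1
      exact key _ (hD M).2
  -- `T ≤ P`
  have hTP : T ≤ P := by
    by_contra hTP
    have hGq : IsPSolvable p (G ⧸ P) := isPSolvable_quotient hG P
    obtain ⟨Tb, hTbdef⟩ : ∃ Tb : Subgroup (G ⧸ P), Tb = T.map (QuotientGroup.mk' P) := ⟨_, rfl⟩
    haveI hTbn : Tb.Normal := by
      rw [hTbdef]; exact Subgroup.Normal.map hTn _ (QuotientGroup.mk'_surjective P)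
    have hTb : Tb ≠ ⊥ := by
      intro h
      rw [hTbdef, Subgroup.map_eq_bot_iff, QuotientGroup.ker_mk'] at h
      exact hTP h
    obtain ⟨Rb, hRbn, hRbT, hRb, hRbcard, -⟩ := exists_normal_le_of_isPSolvable hGq Tb hTb
    obtain ⟨R, hRdef⟩ : ∃ R : Subgroup G, R = Rb.comap (QuotientGroup.mk' P) := ⟨_, rfl⟩
    haveI hRn : R.Normal := by rw [hRdef]; exact Subgroup.Normal.comap hRbn _
    have hPR : P ≤ R := by
      rw [hRdef]
      intro x hx
      rw [Subgroup.mem_comap]
      have : (QuotientGroup.mk' P) x = 1 := (QuotientGroup.eq_one_iff x).mpr hx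
      rw [this]; exact Rb.one_mem
    have hRmap : R.map (QuotientGroup.mk' P) = Rb := by
      rw [hRdef]; exact Subgroup.map_comap_eq_self_of_surjective (QuotientGroup.mk'_surjective P) Rb
    have hcardRb : Nat.card Rb = P.relIndex R := by
      have h1 := Subgroup.relIndex_ker (QuotientGroup.mk' P) (K := R)
      rw [QuotientGroup.ker_mk'] at h1
      rw [h1, hRmap]
    rcases hRbcard with ⟨m, hm⟩ | hcop
    · -- `p`-group case: `R` is a normal `p`-subgroup, so `R ≤ P`
      have hRp : IsPGroup p R := by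
        rw [hRdef]
        apply IsPGroup.comap_of_ker_isPGroup (IsPGroup.of_card hm)
        rw [QuotientGroup.ker_mk']; exact hPp
      have hRP : R ≤ P := by rw [hPdef]; exact Cfsg.Agent.Lib.Lead.le_pCore hRn hRp
      apply hRb
      rw [← hRmap, Subgroup.map_eq_bot_iff, QuotientGroup.ker_mk']
      exact hRP
    · -- `p'`-case
      obtain ⟨R0, hR0def⟩ : ∃ R0 : Subgroup G, R0 = R ⊓ T := ⟨_, rfl⟩
      haveI hR0n : R0.Normal := by rw [hR0def]; exact Subgroup.normal_inf_normal _ _
      have hR0T : R0 ≤ T := by rw [hR0def]; exact inf_le_right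
      have hR0R : R0 ≤ R := by rw [hR0def]; exact inf_le_left
      obtain ⟨V, hVdef⟩ : ∃ V : Subgroup G, V = P ⊓ R0 := ⟨_, rfl⟩
      haveI hVn : V.Normal := by rw [hVdef]; exact Subgroup.normal_inf_normal _ _
      have hVR0 : V ≤ R0 := by rw [hVdef]; exact inf_le_right
      have hVP : V ≤ P := by rw [hVdef]; exact inf_le_left
      have hVp : IsPGroup p V := hPp.to_le hVP
      -- `R0 ⊄ P`
      have hR0P : ¬ R0 ≤ P := by
        intro hle
        apply hRb
        rw [eq_bot_iff]
        intro rb hrb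
        have h1 : rb ∈ Tb := hRbT hrb
        rw [hTbdef] at h1
        obtain ⟨t, ht, rfl⟩ := h1
        have h2 : t ∈ R := by rw [hRdef]; exact hrb
        have h3 : t ∈ P := hle (by rw [hR0def]; exact ⟨h2, ht⟩)
        rw [Subgroup.mem_bot]
        exact (QuotientGroup.eq_one_iff t).mpr h3
      have hrelV : V.relIndex R0 = P.relIndex R0 := by
        rw [hVdef]; exact Subgroup.inf_relIndex_right P R0
      have hrelV_cop : (V.relIndex R0).Coprime p := by
        rw [hrelV]
        have h1 := Subgroup.relIndex_ker (QuotientGroup.mk' P) (K := R0)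
        rw [QuotientGroup.ker_mk'] at h1
        rw [h1]
        have h2 : R0.map (QuotientGroup.mk' P) ≤ Rb := by
          rw [← hRmap]; exact Subgroup.map_mono hR0R
        exact Nat.Coprime.coprime_dvd_left (Subgroup.card_dvd_of_le h2) hcop
      obtain ⟨K, hKR0, hKc, hVK, hKrel, hKcard⟩ := exists_pcompl R0 V hVR0 hVp hrelV_cop
      have hKT : K ≤ T := hKR0.trans hR0T
      have hKne : K ≠ ⊥ := by
        intro h
        rw [h, Subgroup.card_bot, hrelV] at hKcard
        exact hR0P (Subgroup.relIndex_eq_one.mp hKcard.symm)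
      obtain ⟨a, ha⟩ := IsPGroup.iff_card.mp hVp
      have hfr1 := frattini_pcompl hG R0 K hKR0 hKc ⟨a, by rw [hKrel, ha]⟩
      -- `W = Y ⊔ K` is normal
      obtain ⟨W, hWdef⟩ : ∃ W : Subgroup G, W = Y ⊔ K := ⟨_, rfl⟩
      have hYW : Y ≤ W := by rw [hWdef]; exact le_sup_left
      have hKW : K ≤ W := by rw [hWdef]; exact le_sup_right
      have hPW : ∀ x ∈ P, cj x W = W := by
        intro x hx
        apply cj_eq_of_le
        rw [hWdef, cj_sup, cj_of_normal]
        apply sup_le le_sup_left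
        intro y hy
        rw [mem_cj] at hy
        -- `y = x k x⁻¹` with `k = x⁻¹ y x ∈ K`
        have hk : x⁻¹ * y * x ∈ T := hKT hy
        have h1 := (hTmem _).mp (T.inv_mem hk) x⁻¹ (P.inv_mem hx)
        have h2 := Y.inv_mem h1
        have e : y = ((x⁻¹ * y * x)⁻¹⁻¹ * x⁻¹⁻¹ * (x⁻¹ * y * x)⁻¹ * x⁻¹)⁻¹ * (x⁻¹ * y * x) := by group
        rw [e]
        have h3 := W.mul_mem (hYW h2) (hKW hy)
        rw [hWdef] at h3
        exact h3
      have hNK : ∀ g : G, cj g K = K → cj g W = W := by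
        intro g hg
        rw [hWdef, cj_sup, cj_of_normal, hg]
      have hPN : P ≤ Subgroup.normalizer (W : Set G) := fun x hx =>
        mem_normalizer_iff_cj.mpr (hPW x hx)
      have hKN : K ≤ Subgroup.normalizer (W : Set G) := hKW.trans Subgroup.le_normalizer
      have hR0N : R0 ≤ Subgroup.normalizer (W : Set G) := by
        rw [← hVK]
        exact sup_le (hVP.trans hPN) hKN
      haveI hWn : W.Normal := by
        apply Subgroup.normalizer_eq_top_iff.mp
        rw [eq_top_iff]
        intro g _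
        obtain ⟨w, hw, hwg⟩ := hfr1 g
        have h1 : w * g ∈ Subgroup.normalizer (W : Set G) := mem_normalizer_iff_cj.mpr (hNK _ hwg)
        have h2 := (Subgroup.normalizer (W : Set G)).mul_mem
          ((Subgroup.normalizer (W : Set G)).inv_mem (hR0N hw)) h1
        rwa [inv_mul_cancel_left] at h2
      obtain ⟨b, hb⟩ := IsPGroup.iff_card.mp hYp
      have hKY : K ⊓ Y = ⊥ := by
        apply disjoint_iff.mp
        apply Subgroup.disjoint_of_coprime_natCard
        rw [hb]
        exact Nat.Coprime.pow_right b hKc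
      have hrelW : K.relIndex W = p ^ b := by
        rw [hWdef, relIndex_sup_of_disjoint Y K hKY, hb]
      have hfr2 := frattini_pcompl hG W K hKW hKc ⟨b, hrelW⟩
      have hNtop : Subgroup.normalizer (K : Set G) = ⊤ := by
        by_contra hne
        obtain ⟨M, hM, hle⟩ := (eq_top_or_exists_le_coatom (Subgroup.normalizer (K : Set G))).resolve_left hne
        have hWM : W ≤ M := by
          rw [hWdef]
          exact sup_le (hYM M hM) (Subgroup.le_normalizer.trans hle)
        apply hM.1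
        rw [eq_top_iff]
        intro g _
        obtain ⟨w, hw, hwg⟩ := hfr2 g
        have h1 : w * g ∈ M := hle (mem_normalizer_iff_cj.mpr hwg)
        have h2 := M.mul_mem (M.inv_mem (hWM hw)) h1
        rwa [inv_mul_cancel_left] at h2
      have hKn : K.Normal := Subgroup.normalizer_eq_top_iff.mp hNtop
      exact hKne (hred K hKn hKc)
  -- conclusion
  intro hdvd
  rw [Subgroup.index_eq_card] at hdvd
  obtain ⟨gb, hgb⟩ := exists_prime_orderOf_dvd_card' p hdvd
  obtain ⟨g, rfl⟩ := QuotientGroup.mk'_surjective P gb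
  have h1 : (QuotientGroup.mk' P g) ^ (p - 1) = 1 := by
    rw [← map_pow]
    exact (QuotientGroup.eq_one_iff _).mpr (hTP (hpow g))
  have h2 := orderOf_dvd_of_pow_eq_one h1
  rw [hgb] at h2
  have h3 := Nat.le_of_dvd (by have := hp.out.two_le; omega) h2
  have := hp.out.two_le
  omega

end Cfsg.Agent.Lib.Helper7.PLen
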