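import Mathlib
import Cfsg.Agent.Lib.Helper7.PLen4

set_option autoImplicit false
open scoped Pointwise

namespace Cfsg.Agent.Lib.Helper7.PLen

open Cfsg Cfsg.Agent.Lib.Helper7 Cfsg.Agent.Lib.Helper4

universe u

/-- pushing a normal `p`-complement along a surjection -/
theorem npc_map {M H : Type*} [Group M] [Group H] (ψ : M →* H) (hψ : Function.Surjective ψ)
    {p : ℕ} [hp : Fact p.Prime] (K : Subgroup M) (hKn : K.Normal) (hKc : ¬ p ∣ Nat.card K)
    (hidx : ∃ k : ℕ, K.index = p ^ k) :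
    (K.map ψ).Normal ∧ ¬ p ∣ Nat.card (K.map ψ) ∧ ∃ k : ℕ, (K.map ψ).index = p ^ k := by
  refine ⟨Subgroup.Normal.map hKn ψ hψ, ?_, ?_⟩
  · intro h
    exact hKc (h.trans (Subgroup.card_map_dvd K ψ))
  · obtain ⟨k, hk⟩ := hidx
    have h1 := Subgroup.index_map_dvd K hψ
    rw [hk] at h1
    obtain ⟨j, -, hj⟩ := (Nat.dvd_prime_pow hp.out).mp h1
    exact ⟨j, hj⟩

variable {G : Type u} [Group G]

/-- Core lemma: with `O_{p'}(G) = 1`, `G / O_p(G)` has a normal `p`-complement. -/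
theorem core [Finite G] {p : ℕ} [hp : Fact p.Prime] (hG : IsPSolvable p G)
    (hred : ∀ K : Subgroup G, K.Normal → (Nat.card K).Coprime p → K = ⊥)
    (hmax : ∀ M : Subgroup G, IsCoatom M →
      (∃ K : Subgroup ↥M, K.Normal ∧ ¬ p ∣ Nat.card K ∧ ∃ k : ℕ, K.index = p ^ k) ∨ (M.index).Prime) :
    ∃ B C : Subgroup G, B.Normal ∧ C.Normal ∧ B ≤ C ∧ (∃ k : ℕ, Nat.card B = p ^ k) ∧
      ¬ p ∣ B.relIndex C ∧ ∃ k : ℕ, C.index = p ^ k := by
  classical
  obtain ⟨P, hPdef⟩ : ∃ P : Subgroup G, P = pCore p G := ⟨_, rfl⟩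
  haveI hPn : P.Normal := by rw [hPdef]; exact Cfsg.Agent.Lib.Lead.pCore_normal p
  have hPp : IsPGroup p P := by rw [hPdef]; exact Cfsg.Agent.Lib.Lead.pCore_isPGroup p
  obtain ⟨a, ha⟩ := IsPGroup.iff_card.mp hPp
  by_cases hA : ∃ M : Subgroup G, IsCoatom M ∧ ¬ P ≤ M ∧
      ∃ K : Subgroup ↥M, K.Normal ∧ ¬ p ∣ Nat.card K ∧ ∃ k : ℕ, K.index = p ^ k
  · obtain ⟨M, hM, hPM, K, hKn, hKc, hKidx⟩ := hA
    have hsup : M ⊔ P = ⊤ := by
      by_contra hne
      have h1 : M < M ⊔ P :=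
        lt_of_le_of_ne le_sup_left (fun h => hPM (by rw [h]; exact le_sup_right))
      exact hne (hM.2 _ h1)
    have hsurjπ := QuotientGroup.mk'_surjective P
    have hMmap : M.map (QuotientGroup.mk' P) = ⊤ := by
      apply Subgroup.comap_injective hsurjπ
      rw [Subgroup.comap_map_eq, QuotientGroup.ker_mk', hsup, Subgroup.comap_top]
    have hψ : Function.Surjective ((QuotientGroup.mk' P).comp M.subtype) := by
      intro q
      have hq : q ∈ M.map (QuotientGroup.mk' P) := by rw [hMmap]; exact Subgroup.mem_top q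
      obtain ⟨m, hm, rfl⟩ := hq
      exact ⟨⟨m, hm⟩, rfl⟩
    obtain ⟨hKbn, hKbc, hKbidx⟩ := npc_map _ hψ K hKn hKc hKidx
    obtain ⟨Kb, hKbdef⟩ : ∃ Kb : Subgroup (G ⧸ P),
        Kb = K.map ((QuotientGroup.mk' P).comp M.subtype) := ⟨_, rfl⟩
    rw [← hKbdef] at hKbn hKbc hKbidx
    refine ⟨P, Kb.comap (QuotientGroup.mk' P), hPn, Subgroup.Normal.comap hKbn _, ?_, ⟨a, ha⟩, ?_, ?_⟩
    · intro x hx
      rw [Subgroup.mem_comap]
      have : (QuotientGroup.mk' P) x = 1 := (QuotientGroup.eq_one_iff x).mpr hx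
      rw [this]; exact Kb.one_mem
    · have h1 := Subgroup.relIndex_ker (QuotientGroup.mk' P) (K := Kb.comap (QuotientGroup.mk' P))
      rw [QuotientGroup.ker_mk', Subgroup.map_comap_eq_self_of_surjective hsurjπ] at h1
      rw [h1]; exact hKbc
    · rw [Subgroup.index_comap_of_surjective _ hsurjπ]; exact hKbidx
  · -- case (b)
    have hB : ∀ M : Subgroup G, IsCoatom M → ¬ (pCore p G ≤ M) → M.index = p := by
      intro M hM hPM
      rw [← hPdef] at hPM
      rcases hmax M hM with hK | hprime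
      · exact absurd ⟨M, hM, hPM, hK⟩ hA
      · have hsup : M ⊔ P = ⊤ := by
          by_contra hne
          have h1 : M < M ⊔ P :=
            lt_of_le_of_ne le_sup_left (fun h => hPM (by rw [h]; exact le_sup_right))
          exact hne (hM.2 _ h1)
        have h1 : M.index = M.relIndex P := by
          rw [relIndex_eq_relIndex_sup_of_normal M P, hsup, Subgroup.relIndex_top_right]
        have h2 : M.index ∣ p ^ a := by
          rw [h1, ← ha]; exact Subgroup.relIndex_dvd_card _ _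
        exact (Nat.prime_dvd_prime_iff_eq hprime hp.out).mp (hprime.dvd_of_dvd_pow h2)
    have hnd := caseB hG hred hB
    rw [← hPdef] at hnd
    refine ⟨P, ⊤, hPn, inferInstance, le_top, ⟨a, ha⟩, ?_, ⟨0, ?_⟩⟩
    · rw [Subgroup.relIndex_top_right]; exact hnd
    · rw [Subgroup.index_top, pow_zero]

end Cfsg.Agent.Lib.Helper7.PLen
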