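import Mathlib
import Cfsg.Agent.Lib.Helper7.PLen5

set_option autoImplicit false
open scoped Pointwise

namespace Cfsg.Agent.Lib.Helper7.PLen

open Cfsg Cfsg.Agent.Lib.Helper7 Cfsg.Agent.Lib.Helper4

universe u

variable {G : Type u} [Group G]

/-- Main theorem: a finite `p`-solvable group all of whose maximal subgroups are `p`-nilpotent or of
prime index has `p`-length at most `2`, with `G / O_{p',p,p'}(G)` a `p`-group. -/
theorem main [Finite G] {p : ℕ} [hp : Fact p.Prime] (hG : IsPSolvable p G)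
    (hmax : ∀ M : Subgroup G, IsCoatom M →
      (∃ K : Subgroup ↥M, K.Normal ∧ ¬ p ∣ Nat.card K ∧ ∃ k : ℕ, K.index = p ^ k) ∨ (M.index).Prime) :
    ∃ A B C : Subgroup G, A.Normal ∧ B.Normal ∧ C.Normal ∧ A ≤ B ∧ B ≤ C ∧ ¬ p ∣ Nat.card A ∧
      (∃ k : ℕ, A.relIndex B = p ^ k) ∧ ¬ p ∣ B.relIndex C ∧ ∃ k : ℕ, C.index = p ^ k := by
  classical
  obtain ⟨N, hNdef⟩ : ∃ N : Subgroup G, N = pPrimeCore p G := ⟨_, rfl⟩
  haveI hNn : N.Normal := by rw [hNdef]; exact (Cfsg.Agent.Lib.Helper6.pPrimeCore_mem_set p).1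
  have hNc : (Nat.card N).Coprime p := by rw [hNdef]; exact Cfsg.Agent.Lib.Helper6.pPrimeCore_coprime p
  have hsurj := QuotientGroup.mk'_surjective N
  have hQ : IsPSolvable p (G ⧸ N) := isPSolvable_quotient hG N
  have hkerle : ∀ L : Subgroup (G ⧸ N), N ≤ L.comap (QuotientGroup.mk' N) := by
    intro L x hx
    rw [Subgroup.mem_comap]
    have : (QuotientGroup.mk' N) x = 1 := (QuotientGroup.eq_one_iff x).mpr hx
    rw [this]; exact L.one_mem
  have hrelN : ∀ L : Subgroup (G ⧸ N), N.relIndex (L.comap (QuotientGroup.mk' N)) = Nat.card L := by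
    intro L
    have h1 := Subgroup.relIndex_ker (QuotientGroup.mk' N) (K := L.comap (QuotientGroup.mk' N))
    rw [QuotientGroup.ker_mk', Subgroup.map_comap_eq_self_of_surjective hsurj] at h1
    exact h1
  have hredQ : ∀ Kb : Subgroup (G ⧸ N), Kb.Normal → (Nat.card Kb).Coprime p → Kb = ⊥ := by
    intro Kb hKbn hKbc
    have hLn : (Kb.comap (QuotientGroup.mk' N)).Normal := Subgroup.Normal.comap hKbn _
    have hcard : Nat.card (Kb.comap (QuotientGroup.mk' N)) = Nat.card N * Nat.card Kb := by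
      have h1 := Subgroup.relIndex_mul_relIndex ⊥ N (Kb.comap (QuotientGroup.mk' N)) bot_le (hkerle Kb)
      rw [Subgroup.relIndex_bot_left, Subgroup.relIndex_bot_left, hrelN] at h1
      exact h1.symm
    have hLc : (Nat.card (Kb.comap (QuotientGroup.mk' N))).Coprime p := by
      rw [hcard]; exact Nat.Coprime.mul_left hNc hKbc
    have hLN : Kb.comap (QuotientGroup.mk' N) ≤ N :=
      (Cfsg.Agent.Lib.Helper6.le_pPrimeCore hLn hLc).trans hNdef.ge
    rw [Subgroup.eq_bot_iff_forall]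
    intro y hy
    obtain ⟨g, rfl⟩ := hsurj y
    exact (QuotientGroup.eq_one_iff g).mpr (hLN (Subgroup.mem_comap.mpr hy))
  have hmaxQ : ∀ Mb : Subgroup (G ⧸ N), IsCoatom Mb →
      (∃ K : Subgroup ↥Mb, K.Normal ∧ ¬ p ∣ Nat.card K ∧ ∃ k : ℕ, K.index = p ^ k) ∨
        (Mb.index).Prime := by
    intro Mb hMb
    have hM := Subgroup.isCoatom_comap_of_surjective hsurj hMb
    rcases hmax _ hM with ⟨K, hKn, hKc, hKidx⟩ | hprime
    · left
      have hψ := MonoidHom.subgroupComap_surjective_of_surjective (QuotientGroup.mk' N) Mb hsurj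
      obtain ⟨h1, h2, h3⟩ := npc_map _ hψ K hKn hKc hKidx
      exact ⟨_, h1, h2, h3⟩
    · right
      rwa [Subgroup.index_comap_of_surjective _ hsurj] at hprime
  obtain ⟨Bb, Cb, hBbn, hCbn, hBC, ⟨k1, hk1⟩, hrel, ⟨k2, hk2⟩⟩ := core hQ hredQ hmaxQ
  refine ⟨N, Bb.comap (QuotientGroup.mk' N), Cb.comap (QuotientGroup.mk' N), hNn,
    Subgroup.Normal.comap hBbn _, Subgroup.Normal.comap hCbn _, hkerle Bb,
    Subgroup.comap_mono hBC, ?_, ⟨k1, ?_⟩, ?_, ⟨k2, ?_⟩⟩
  · exact fun h => (Nat.Prime.coprime_iff_not_dvd hp.out).mp hNc.symm h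
  · rw [hrelN, hk1]
  · rw [Subgroup.relIndex_comap, Subgroup.map_comap_eq_self_of_surjective hsurj]
    exact hrel
  · rw [Subgroup.index_comap_of_surjective _ hsurj, hk2]

end Cfsg.Agent.Lib.Helper7.PLen
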