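import Mathlib
import Cfsg.Agent.Lib.Helper7.PQSp1

set_option autoImplicit false
set_option linter.unusedSectionVars false
set_option linter.unusedVariables false

/-! S4306 swarm, package T-Sp1, second file: the assembly of §4 (`Z = C_Q(S) ≠ 1`) from the four
stabilizer cases. -/

namespace Cfsg.Agent.Lib.Helper7.PQSp1

open Cfsg.Agent.Lib.Helper8.SBS Cfsg.Agent.Lib.Helper8.Ward Cfsg.Agent.Lib.Helper2.PQA
  Cfsg.Agent.Lib.Helper4.PQ

universe u w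

variable {V : Type u} [AddCommGroup V] [Finite V] {T : Type w} [Group T] [Finite T]
  [DistribMulAction T V] {r t s p q : ℕ} {Q S A F H₀ : Subgroup T}

/-- a hyperplane is a proper subgroup: `Z ≠ ⊥`. -/
theorem ne_bot_of_isHyp (ht : t.Prime) {Z Z₀ : Subgroup T} (hZ₀ : IsHyp (V := V) t Z Z₀) : Z ≠ ⊥ := by
  intro hZ
  have h1 := hZ₀.2.1
  have h2 : Z₀ = ⊥ := by
    rw [eq_bot_iff, ← hZ]; exact hZ₀.1
  rw [hZ, h2, Subgroup.card_bot, one_mul] at h1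
  exact ht.ne_one h1

/-- §4 assembled: the case `Z = C_Q(S) ≠ 1` is impossible, given (T3), (T6) and the case
`A₀ = x H₀ x⁻¹` (package T-Sp2). -/
theorem false_of_Zc_ne_bot_of (h : Tower V r t s p q Q S A F H₀)
    (hcen : ∀ z ∈ Zc Q S, ∀ u ∈ Q, z * u = u * z) (hpow : ∀ z ∈ Zc Q S, z ^ t = 1)
    (hT6 : ∃ u ∈ Q, ∃ f ∈ F, u * f ≠ f * u)
    (hH : ∀ x ∈ F, ∀ Z₀ : Subgroup T, IsHyp (V := V) t (Zc Q S) Z₀ →
      (∀ a ∈ A, (∀ z ∈ Z₀, a * z * a⁻¹ ∈ Z₀) ↔ a ∈ conjSub x H₀) → False)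
    (hZ : Zc Q S ≠ ⊥) : False := by
  obtain ⟨Z₀, hZ₀⟩ := exists_isHyp_of h hcen hpow hZ
  obtain ⟨hpq, hAeq⟩ := isPQ_of_frob h.frob
  have hle : stabIn A Z₀ ≤ F ⊔ H₀ := by rw [hAeq]; exact stabIn_le A Z₀
  have hmem : ∀ a ∈ A, (∀ z ∈ Z₀, a * z * a⁻¹ ∈ Z₀) ↔ a ∈ stabIn A Z₀ := by
    intro a ha
    rw [mem_stabIn, conjSub_eq_iff]
    exact ⟨fun h' => ⟨ha, h'⟩, fun h' => h'.2⟩
  rcases hpq.subgroup_cases hle with h0 | h0 | h0 | ⟨x, hx, h0⟩
  · refine false_of_stab_bot_of h hcen hpow hZ Z₀ hZ₀ ?_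
    intro a ha haN
    have := (hmem a ha).1 haN
    rw [h0, Subgroup.mem_bot] at this
    exact this
  · refine false_of_stab_F_of h hcen hpow hT6 hZ Z₀ hZ₀ ?_
    intro a ha
    rw [hmem a ha, h0]
  · refine false_of_stab_top_of h hcen hpow hT6 hZ Z₀ hZ₀ ?_
    intro a ha
    have : a ∈ stabIn A Z₀ := by rw [h0, hAeq]; exact ha
    exact (hmem a ha).2 this
  · refine hH x hx Z₀ hZ₀ ?_
    intro a ha
    rw [hmem a ha, h0]
    rfl

/-- the complement `H₀` of a Frobenius group of order `pq` can be replaced by a conjugate under the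
kernel. -/
theorem frob_conj (h : FrobPQ A F H₀ p q) {x : T} (hx : x ∈ F) :
    FrobPQ A F (conjSub x H₀) p q := by
  have hxA : x ∈ A := h.hFA hx
  refine ⟨h.hp, h.hq, h.hpq, h.hFA, ?_, h.hF, ?_, h.hA, h.hFn, ?_⟩
  · intro y hy
    rw [mem_conjSub] at hy
    have h1 : x * (x⁻¹ * y * x) * x⁻¹ ∈ A :=
      A.mul_mem (A.mul_mem hxA (h.hHA hy)) (A.inv_mem hxA)
    have h2 : x * (x⁻¹ * y * x) * x⁻¹ = y := by group
    rwa [h2] at h1
  · rw [card_conjSub]; exact h.hH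
  · intro y hy hy1 f hf hyf
    rw [mem_conjSub] at hy
    have hne : x⁻¹ * y * x ≠ 1 := by
      intro h0
      apply hy1
      have : y = x * (x⁻¹ * y * x) * x⁻¹ := by group
      rw [this, h0]; group
    have hf' : x⁻¹ * f * x ∈ F := F.mul_mem (F.mul_mem (F.inv_mem hx) hf) hx
    have hc : (x⁻¹ * y * x) * (x⁻¹ * f * x) = (x⁻¹ * f * x) * (x⁻¹ * y * x) := by
      have e1 : (x⁻¹ * y * x) * (x⁻¹ * f * x) = x⁻¹ * (y * f) * x := by group
      have e2 : (x⁻¹ * f * x) * (x⁻¹ * y * x) = x⁻¹ * (f * y) * x := by group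
      rw [e1, e2, hyf]
    have h1 := h.hfpf _ hy hne _ hf' hc
    have : f = x * (x⁻¹ * f * x) * x⁻¹ := by group
    rw [this, h1]; group

/-- `Tower.conj` of the skeleton: `H₀` can be replaced by a conjugate under `F`. -/
theorem tower_conj (h : Tower V r t s p q Q S A F H₀) {x : T} (hx : x ∈ F) :
    Tower V r t s p q Q S A F (conjSub x H₀) :=
  ⟨frob_conj h.frob hx, h.hr, h.ht, h.hs, h.htr, h.hts, h.hrA, h.htA, h.hsA, h.hVr, h.hV, h.hQ,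
    h.hS, h.hQn, h.hAS, h.hgen, h.hfaith, h.hfpfQ, h.hfpfS, h.hfpfV, h.hirr, h.hQS, h.hmin1,
    h.hmin2⟩

end Cfsg.Agent.Lib.Helper7.PQSp1
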