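import Mathlib
import Cfsg.Agent.Lib.Helper7.PQSp1b
import Cfsg.Agent.Lib.Lead.PQT
import Cfsg.Agent.Lib.Helper9.PQT2
import Cfsg.Agent.Lib.Helper2.PQSp2b

set_option autoImplicit false
set_option linter.unusedSectionVars false
set_option linter.unusedVariables false

/-! S4306 swarm, package T-Sp1, third file: the exact skeleton statements `Tower.exists_isHyp`,
`Tower.false_of_stab_bot`, `Tower.false_of_stab_F`, `Tower.false_of_stab_top`, `Tower.exists_not_comm_F`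
and the assembly of §4 modulo the last case (`A₀ = H₀`, type (α)). -/

namespace Cfsg.Agent.Lib.Helper7.PQSp1

open Cfsg.Agent.Lib.Helper8.SBS Cfsg.Agent.Lib.Helper8.Ward Cfsg.Agent.Lib.Helper2.PQA
  Cfsg.Agent.Lib.Helper4.PQ

universe u w

variable {V : Type u} [AddCommGroup V] [Finite V] {T : Type w} [Group T] [Finite T]
  [DistribMulAction T V] {r t s p q : ℕ} {Q S A F H₀ : Subgroup T}

/-- (T6), exact skeleton statement (from helper9's `_of` form and the lead's (T1)–(T3)). -/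
theorem Tower.exists_not_comm_F (h : Tower V r t s p q Q S A F H₀) :
    ∃ u ∈ Q, ∃ f ∈ F, u * f ≠ f * u :=
  Cfsg.Agent.Lib.Helper9.PQT.Tower.exists_not_comm_F_of h
    (Cfsg.Agent.Lib.Lead.PQT.Tower.comm_mem_Zc h)
    (fun _ hu hc => Cfsg.Agent.Lib.Lead.PQT.Tower.mem_Zc_of_comm h hu hc)
    (fun _ hu hc => Cfsg.Agent.Lib.Lead.PQT.Tower.mem_Zc_of_comm_A h hu hc)

theorem Tower.exists_isHyp (h : Tower V r t s p q Q S A F H₀) (hZ : Zc Q S ≠ ⊥) :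
    ∃ Z₀ : Subgroup T, IsHyp (V := V) t (Zc Q S) Z₀ :=
  exists_isHyp_of h (Cfsg.Agent.Lib.Lead.PQT.Tower.Zc_central h)
    (Cfsg.Agent.Lib.Lead.PQT.Tower.Zc_pow h) hZ

/-- `A₀ = 1` -/
theorem Tower.false_of_stab_bot (h : Tower V r t s p q Q S A F H₀) (Z₀ : Subgroup T)
    (hZ₀ : IsHyp (V := V) t (Zc Q S) Z₀)
    (hst : ∀ a ∈ A, (∀ z ∈ Z₀, a * z * a⁻¹ ∈ Z₀) → a = 1) : False :=
  false_of_stab_bot_of h (Cfsg.Agent.Lib.Lead.PQT.Tower.Zc_central h)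
    (Cfsg.Agent.Lib.Lead.PQT.Tower.Zc_pow h) (ne_bot_of_isHyp h.ht hZ₀) Z₀ hZ₀ hst

/-- `A₀ = F` -/
theorem Tower.false_of_stab_F (h : Tower V r t s p q Q S A F H₀) (Z₀ : Subgroup T)
    (hZ₀ : IsHyp (V := V) t (Zc Q S) Z₀)
    (hst : ∀ a ∈ A, (∀ z ∈ Z₀, a * z * a⁻¹ ∈ Z₀) ↔ a ∈ F) : False :=
  false_of_stab_F_of h (Cfsg.Agent.Lib.Lead.PQT.Tower.Zc_central h)
    (Cfsg.Agent.Lib.Lead.PQT.Tower.Zc_pow h) (Tower.exists_not_comm_F h)
    (ne_bot_of_isHyp h.ht hZ₀) Z₀ hZ₀ hst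

/-- `A₀ = A` -/
theorem Tower.false_of_stab_top (h : Tower V r t s p q Q S A F H₀) (Z₀ : Subgroup T)
    (hZ₀ : IsHyp (V := V) t (Zc Q S) Z₀)
    (hst : ∀ a ∈ A, ∀ z ∈ Z₀, a * z * a⁻¹ ∈ Z₀) : False :=
  false_of_stab_top_of h (Cfsg.Agent.Lib.Lead.PQT.Tower.Zc_central h)
    (Cfsg.Agent.Lib.Lead.PQT.Tower.Zc_pow h) (Tower.exists_not_comm_F h)
    (ne_bot_of_isHyp h.ht hZ₀) Z₀ hZ₀ hst

/-- §4 assembled, modulo the case `A₀ = H₀`, type (α) (package T-Sp2 (c), Theorem X), which is the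
hypothesis `hX` (the exact skeleton statement `Tower.false_of_stab_H_alpha`, for all towers with the
same data except the complement). -/
theorem Tower.false_of_Zc_ne_bot_of_alpha (h : Tower V r t s p q Q S A F H₀)
    (hX : ∀ H₁ : Subgroup T, Tower V r t s p q Q S A F H₁ → ∀ Z₀ : Subgroup T,
      IsHyp (V := V) t (Zc Q S) Z₀ → (∀ a ∈ A, (∀ z ∈ Z₀, a * z * a⁻¹ ∈ Z₀) ↔ a ∈ H₁) →
      (∀ f ∈ F, ∀ c ∈ S, f * c * f⁻¹ * c⁻¹ ∈ CS Q S) → False)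
    (hZ : Zc Q S ≠ ⊥) : False :=
  false_of_Zc_ne_bot_of h (Cfsg.Agent.Lib.Lead.PQT.Tower.Zc_central h)
    (Cfsg.Agent.Lib.Lead.PQT.Tower.Zc_pow h) (Tower.exists_not_comm_F h)
    (fun x hx Z₀ hZ₀ hst =>
      (Cfsg.Agent.Lib.Helper9.PQT.Tower.alpha_or_beta (tower_conj h hx)).elim
        (fun hα => hX _ (tower_conj h hx) Z₀ hZ₀ hst hα)
        (fun hβ => Cfsg.Agent.Lib.Helper2.PQSp2.Tower.false_of_stab_H_beta (tower_conj h hx)
          Z₀ hZ₀ hst hβ)) hZ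

end Cfsg.Agent.Lib.Helper7.PQSp1
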