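import Cfsg.Agent.Lib.Lead.PSingDefs
import Cfsg.Agent.Lib.Helper9.PSingAux

/-!
# S4321, package Q3: under the dichotomy, a `p`-element with class size divisible by `p`
forces the Sylow `p`-subgroups to be normal

`notes/S4321_paper_lead.md`, Q3.
-/

set_option autoImplicit false

namespace Cfsg.Agent.Lib.Helper7.PSing

open Cfsg.Agent.Lib.Lead.PSing Cfsg.Agent.Lib.Helper9.PSing

universe u

variable {G : Type u} [Group G] [Finite G] {p : ℕ} [Fact p.Prime]

/-- (a) an element of the Sylow `p`-subgroup `P` with `p`-power class size lies in the core of `P` -/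
theorem mem_normalCore_of_cs_pow (P : Sylow p G) {w : G} (hw : w ∈ (P : Subgroup G)) {k : ℕ}
    (hk : cs w = p ^ k) : w ∈ Subgroup.normalCore (P : Subgroup G) := by
  have hp : p.Prime := Fact.out
  have hcop : (P : Subgroup G).index.Coprime (cs w) := by
    rw [hk]
    apply Nat.Coprime.pow_right
    rw [Nat.coprime_comm, hp.coprime_iff_not_dvd]
    exact P.not_dvd_index
  intro g
  obtain ⟨x, hx, hgx⟩ := exists_mem_conj_eq_of_coprime_index (P : Subgroup G) w hcop g
  rw [hgx]
  exact Subgroup.mul_mem _ (Subgroup.mul_mem _ hx hw) (Subgroup.inv_mem _ hx)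

/-- (b) an element with class size prime to `p` centralizes every normal `p`-subgroup -/
theorem normalCore_le_centralizer (P : Sylow p G) {w : G} (hw : ¬ p ∣ cs w) :
    Subgroup.normalCore (P : Subgroup G) ≤ Subgroup.centralizer ({w} : Set G) := by
  haveI : (Subgroup.normalCore (P : Subgroup G)).Normal := Subgroup.normalCore_normal _
  have hR : IsPGroup p (Subgroup.normalCore (P : Subgroup G)) :=
    P.isPGroup'.to_le (Subgroup.normalCore_le _)
  exact le_of_normal_pgroup_of_not_dvd_index _ hR _ hw

/-- **Q3** -/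
theorem sylow_normal_of_dich (hD : Dich G p) (u : G) (hu : IsPEl p u) (hup : p ∣ cs u)
    (P : Sylow p G) : (P : Subgroup G).Normal := by
  have hp : p.Prime := Fact.out
  set R : Subgroup G := Subgroup.normalCore (P : Subgroup G) with hR
  have hRP : R ≤ (P : Subgroup G) := Subgroup.normalCore_le _
  -- every element of `P` lies in `R` or centralizes `R`
  have hcase : ∀ w ∈ (P : Subgroup G), w ∈ R ∨ ∀ r ∈ R, r * w = w * r := by
    intro w hw
    have hwp : IsPEl p w := by
      obtain ⟨k, hk⟩ := P.isPGroup' ⟨w, hw⟩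
      have h1 : w ^ p ^ k = 1 := by
        have := congrArg Subtype.val hk
        simpa using this
      obtain ⟨j, _, hj⟩ := (Nat.dvd_prime_pow hp).mp (orderOf_dvd_of_pow_eq_one h1)
      exact ⟨j, hj⟩
    by_cases hpw : p ∣ cs w
    · left
      obtain ⟨k, hk⟩ := hD w hwp hpw
      exact mem_normalCore_of_cs_pow P hw hk
    · right
      intro r hr
      have := normalCore_le_centralizer P hpw hr
      rw [Subgroup.mem_centralizer_singleton_iff] at this
      exact this
  -- `P ≤ R` or `P` centralizes `R`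
  have hor : (P : Subgroup G) ≤ R ∨ ∀ w ∈ (P : Subgroup G), ∀ r ∈ R, r * w = w * r := by
    by_contra hcon
    push_neg at hcon
    obtain ⟨h1, w₂, hw₂, r₂, hr₂, hne⟩ := hcon
    obtain ⟨w₁, hw₁, hw₁R⟩ := SetLike.not_le_iff_exists.mp h1
    have hc1 : ∀ r ∈ R, r * w₁ = w₁ * r := (hcase w₁ hw₁).resolve_left hw₁R
    have hw₂R : w₂ ∈ R := by
      rcases hcase w₂ hw₂ with h | h
      · exact h
      · exact absurd (h r₂ hr₂) hne
    rcases hcase (w₁ * w₂) (Subgroup.mul_mem _ hw₁ hw₂) with h | h
    · apply hw₁R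
      have : w₁ = (w₁ * w₂) * w₂⁻¹ := by group
      rw [this]
      exact R.mul_mem h (R.inv_mem hw₂R)
    · apply hne
      have h2 := h r₂ hr₂
      have h3 := hc1 r₂ hr₂
      have : w₁ * (r₂ * w₂) = w₁ * (w₂ * r₂) := by
        calc w₁ * (r₂ * w₂) = (w₁ * r₂) * w₂ := by group
          _ = (r₂ * w₁) * w₂ := by rw [h3]
          _ = r₂ * (w₁ * w₂) := by group
          _ = (w₁ * w₂) * r₂ := h2
          _ = w₁ * (w₂ * r₂) := by group
      exact mul_left_cancel this
  rcases hor with hPR | hcent
  · have hEq : (P : Subgroup G) = R := le_antisymm hPR hRP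
    rw [hEq]
    exact Subgroup.normalCore_normal _
  · exfalso
    -- conjugate `u` into `P`
    obtain ⟨g, hg⟩ := exists_conj_mem_of_not_dvd_index (P : Subgroup G) P.not_dvd_index u hu
    set u' := g * u * g⁻¹ with hu'
    have hcs : cs u' = cs u := cs_conj g u
    have hu'p : IsPEl p u' := isPEl_conj g u hu
    have hup' : p ∣ cs u' := by rw [hcs]; exact hup
    obtain ⟨k, hk⟩ := hD u' hu'p hup'
    have hu'R : u' ∈ R := mem_normalCore_of_cs_pow P hg hk
    have hle : (P : Subgroup G) ≤ Subgroup.centralizer ({u'} : Set G) := by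
      intro w hw
      rw [Subgroup.mem_centralizer_singleton_iff]
      exact (hcent w hw u' hu'R).symm
    have hdvd : cs u' ∣ (P : Subgroup G).index := Subgroup.index_dvd_of_le hle
    exact P.not_dvd_index (hup'.trans hdvd)

end Cfsg.Agent.Lib.Helper7.PSing
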