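import Mathlib
import Cfsg.Agent.Lib.Helper7.PUD2

set_option autoImplicit false

/-!
# Unique derangement class: a non-regular minimal normal subgroup is impossible
-/

namespace Cfsg.Agent.Lib.Helper7.PUD

open Cfsg.Agent.Lib.Helper7 MulAction

variable {G : Type*} [Group G] {Ω : Type*} [MulAction G Ω]

/-- an element all of whose `N`-conjugates fix `α` fixes everything, when `N` is transitive -/
theorem eq_one_of_conj_fix [FaithfulSMul G Ω] (N : Subgroup G) (α : Ω)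
    (hNtr : ∀ β : Ω, ∃ n ∈ N, n • α = β) (x : G)
    (hx : ∀ n ∈ N, (n⁻¹ * x * n) • α = α) : x = 1 := by
  apply FaithfulSMul.eq_of_smul_eq_smul (α := Ω)
  intro β
  obtain ⟨n, hn, rfl⟩ := hNtr β
  rw [one_smul]
  have := hx n hn
  calc x • n • α = n • ((n⁻¹ * x * n) • α) := by
        rw [← mul_smul, ← mul_smul]; congr 1; group
    _ = n • α := by rw [this]

theorem nonregular_false [Finite G] [FaithfulSMul G Ω]
    (hquasi : ∀ K : Subgroup G, K.Normal → K ≠ ⊥ → ∀ a b : Ω, ∃ k ∈ K, k • a = b)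
    (hnas : ¬ ∃ T : Subgroup G, T.Normal ∧ IsSimpleGroup T ∧ ¬ IsMulCommutative T ∧
      Subgroup.centralizer (T : Set G) = ⊥)
    (N : Subgroup G) [hN : N.Normal] (hNne : N ≠ ⊥)
    (hNmin : ∀ K : Subgroup G, K.Normal → K ≠ ⊥ → K ≤ N → K = N)
    (hconj : ∀ d d' : G, (∀ ω : Ω, d • ω ≠ ω) → (∀ ω : Ω, d' • ω ≠ ω) → ∃ g : G, g * d * g⁻¹ = d')
    (α : Ω) (hα : N ⊓ stabilizer G α ≠ ⊥) : False := by
  have hNtr : ∀ β : Ω, ∃ n ∈ N, n • α = β := fun β => hquasi N hN hNne α β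
  -- a nontrivial element of `N_α`
  obtain ⟨x₀, hx₀, hx₀1⟩ : ∃ x ∈ N ⊓ stabilizer G α, x ≠ 1 := by
    by_contra hcon
    push Not at hcon
    apply hα
    rw [eq_bot_iff]
    intro x hx
    rw [Subgroup.mem_bot]
    exact hcon x hx
  have hx₀N : x₀ ∈ N := hx₀.1
  have hx₀α : x₀ • α = α := hx₀.2
  -- `N` is nonabelian
  have hnonab : ∃ a ∈ N, ∃ b ∈ N, a * b ≠ b * a := by
    by_contra hcon
    push Not at hcon
    apply hx₀1
    apply eq_one_of_conj_fix N α hNtr
    intro n hn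
    have : n⁻¹ * x₀ * n = x₀ := by
      rw [mul_assoc, hcon x₀ hx₀N n hn]; group
    rw [this]; exact hx₀α
  obtain ⟨T, hT⟩ := exists_isMinIn N hNne
  set C := N ⊓ Subgroup.centralizer (T : Set G) with hC
  have hTC := hT.inf_centralizer_eq_bot hNmin hnonab
  have hmul := hT.exists_mul hNmin
  have hcomm : ∀ t ∈ T, ∀ c ∈ C, t * c = c * t := by
    intro t ht c hc
    exact (Subgroup.mem_centralizer_iff.mp hc.2) t ht
  set R := T ⊓ stabilizer G α with hR
  -- `R ≠ ⊥`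
  have hRne : R ≠ ⊥ := by
    intro hRb
    have hder : ∀ t ∈ T, t ≠ 1 → ∀ ω : Ω, t • ω ≠ ω := by
      intro t ht ht1 ω hω
      obtain ⟨n, hn, rfl⟩ := hNtr ω
      have h1 : n⁻¹ * t * n ∈ R := by
        refine Subgroup.mem_inf.mpr ⟨conj_mem_of_norm' hT.norm hn ht, ?_⟩
        rw [mem_stabilizer_iff, mul_smul, mul_smul, hω, inv_smul_smul]
      rw [hRb, Subgroup.mem_bot] at h1
      apply ht1
      calc t = n * (n⁻¹ * t * n) * n⁻¹ := by group
        _ = 1 := by rw [h1]; group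
    obtain ⟨z, hz, hz1, hzc⟩ := exists_central_of_conj T hT.ne_bot
      (fun a ha b hb ha1 hb1 => hconj a b (hder a ha ha1) (hder b hb hb1))
    have : z ∈ T ⊓ Subgroup.centralizer (T : Set G) := by
      refine Subgroup.mem_inf.mpr ⟨hz, ?_⟩
      rw [Subgroup.mem_centralizer_iff]
      exact hzc
    rw [hTC, Subgroup.mem_bot] at this
    exact hz1 this
  -- `T` does not normalize `R`
  have hTR : ¬ T ≤ T ⊓ Subgroup.normalizer (R : Set G) := by
    intro hle
    apply hRne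
    rw [eq_bot_iff]
    intro r hr
    rw [Subgroup.mem_bot]
    apply eq_one_of_conj_fix N α hNtr
    intro n hn
    obtain ⟨t, ht, c, hc, rfl⟩ := hmul n hn
    have hrT : r ∈ T := hr.1
    have h1 : t⁻¹ * r * t ∈ R := by
      have htn : t⁻¹ ∈ Subgroup.normalizer (R : Set G) := (hle (T.inv_mem ht)).2
      have := (Subgroup.mem_normalizer_iff.mp htn r).mp hr
      simpa using this
    have h2 : (t * c)⁻¹ * r * (t * c) = t⁻¹ * r * t := by
      have e := hcomm _ h1.1 c hc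
      calc (t * c)⁻¹ * r * (t * c) = c⁻¹ * ((t⁻¹ * r * t) * c) := by group
        _ = c⁻¹ * (c * (t⁻¹ * r * t)) := by rw [e]
        _ = t⁻¹ * r * t := by group
    rw [h2]
    exact h1.2
  obtain ⟨t₀, ht₀, hcov⟩ := exists_no_conj_mem T (T ⊓ Subgroup.normalizer (R : Set G)) hTR
  -- `C` is normalized by `N`
  have hCnorm : ∀ n ∈ N, ∀ c ∈ C, n⁻¹ * c * n ∈ C := by
    intro n hn c hc
    refine ⟨?_, ?_⟩
    · have := hN.conj_mem c hc.1 n⁻¹
      simpa using this
    · exact conj_mem_of_norm' (normalizer_centralizer hT.norm) hn hc.2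
  -- `t₀ * c₀` is a derangement for every `c₀ ∈ C`
  have hder : ∀ c₀ ∈ C, ∀ ω : Ω, (t₀ * c₀) • ω ≠ ω := by
    intro c₀ hc₀ ω hω
    obtain ⟨n, hn, rfl⟩ := hNtr ω
    obtain ⟨t₁, ht₁, c₁, hc₁, rfl⟩ := hmul n hn
    set n := t₁ * c₁ with hn_def
    set t' := t₁⁻¹ * t₀ * t₁ with ht'
    set c' := n⁻¹ * c₀ * n with hc'
    have ht'T : t' ∈ T := T.mul_mem (T.mul_mem (T.inv_mem ht₁) ht₀) ht₁
    have hc'C : c' ∈ C := hCnorm n hn c₀ hc₀
    have e1 : n⁻¹ * t₀ * n = t' := by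
      have e := hcomm _ ht'T c₁ hc₁
      calc n⁻¹ * t₀ * n = c₁⁻¹ * ((t₁⁻¹ * t₀ * t₁) * c₁) := by rw [hn_def]; group
        _ = c₁⁻¹ * (c₁ * (t₁⁻¹ * t₀ * t₁)) := by rw [e]
        _ = t' := by rw [ht']; group
    have hy : n⁻¹ * (t₀ * c₀) * n = t' * c' := by
      rw [← e1, hc']; group
    have hyα : (t' * c') • α = α := by
      rw [← hy, mul_smul, mul_smul, hω, inv_smul_smul]
    have hyN : t' * c' ∈ N := N.mul_mem (hT.le ht'T) hc'C.1
    -- `t'` normalizes `R`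
    have ht'n : t' ∈ Subgroup.normalizer (R : Set G) := by
      apply Subgroup.mem_normalizer_fintype
      intro r hr
      have hrT : r ∈ T := hr.1
      have hrα : r • α = α := hr.2
      have e2 : t' * r * t'⁻¹ = (t' * c') * r * (t' * c')⁻¹ := by
        have e := hcomm r hrT c' hc'C
        calc t' * r * t'⁻¹ = t' * (r * c') * c'⁻¹ * t'⁻¹ := by group
          _ = t' * (c' * r) * c'⁻¹ * t'⁻¹ := by rw [e]
          _ = (t' * c') * r * (t' * c')⁻¹ := by group
      rw [e2]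
      refine Subgroup.mem_inf.mpr ⟨conj_mem_of_norm hT.norm hyN hrT, ?_⟩
      rw [mem_stabilizer_iff, mul_smul, mul_smul]
      have h3 : (t' * c')⁻¹ • α = α := by
        rw [inv_smul_eq_iff, hyα]
      rw [h3, hrα, hyα]
    exact hcov t₁ ht₁ ⟨ht'T, ht'n⟩
  -- `C ≠ ⊥`
  have hCne : C ≠ ⊥ := by
    intro hCb
    have hNT : N = T := by
      apply le_antisymm _ hT.le
      intro n hn
      obtain ⟨t, ht, c, hc, rfl⟩ := hmul n hn
      have hc' : c ∈ C := hc
      rw [hCb, Subgroup.mem_bot] at hc'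
      rw [hc', mul_one]; exact ht
    have hT' : IsMinIn N N := by
      have := hT
      rwa [← hNT] at this
    apply hnas
    refine ⟨N, hN, hT'.isSimpleGroup_of_self, ?_, ?_⟩
    · intro hc
      obtain ⟨a, ha, b, hb, hab⟩ := hnonab
      apply hab
      have := hc.is_comm.comm (⟨a, ha⟩ : N) ⟨b, hb⟩
      exact congrArg (fun t : N => (t : G)) this
    · by_contra hZ
      have hZtr := hquasi _ (inferInstance : (Subgroup.centralizer (N : Set G)).Normal) hZ α
      apply hx₀1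
      apply FaithfulSMul.eq_of_smul_eq_smul (α := Ω)
      intro β
      obtain ⟨z, hz, rfl⟩ := hZtr β
      rw [one_smul]
      have e : x₀ * z = z * x₀ := (Subgroup.mem_centralizer_iff.mp hz) x₀ hx₀N
      rw [← mul_smul, e, mul_smul, hx₀α]
  obtain ⟨c₀, hc₀, hc₀1⟩ : ∃ c ∈ C, c ≠ 1 := by
    by_contra hcon
    push Not at hcon
    apply hCne
    rw [eq_bot_iff]
    intro x hx
    rw [Subgroup.mem_bot]
    exact hcon x hx
  have hd1 : ∀ ω : Ω, t₀ • ω ≠ ω := by
    have := hder 1 C.one_mem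
    rwa [mul_one] at this
  obtain ⟨g, hg⟩ := hconj t₀ (t₀ * c₀) hd1 (hder c₀ hc₀)
  have hmem : t₀ * c₀ ∈ Helper7.cj g T := by
    rw [← hg, mem_cj]
    have h2 : g⁻¹ * (g * t₀ * g⁻¹) * g = t₀ := by group
    rw [h2]; exact ht₀
  rcases hT.cj_eq_or_le g with heq | hle
  · rw [heq] at hmem
    have h1 : c₀ ∈ T := by
      have := T.mul_mem (T.inv_mem ht₀) hmem
      rwa [inv_mul_cancel_left] at this
    have : c₀ ∈ T ⊓ Subgroup.centralizer (T : Set G) := ⟨h1, hc₀.2⟩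
    rw [hTC, Subgroup.mem_bot] at this
    exact hc₀1 this
  · have h1 : t₀ * c₀ ∈ C := hle hmem
    have h2 : t₀ ∈ C := by
      have := C.mul_mem h1 (C.inv_mem hc₀)
      rwa [mul_inv_cancel_right] at this
    have : t₀ ∈ T ⊓ Subgroup.centralizer (T : Set G) := ⟨ht₀, h2.2⟩
    rw [hTC, Subgroup.mem_bot] at this
    apply hcov 1 T.one_mem
    rw [this]
    simp only [inv_one, mul_one]
    exact Subgroup.one_mem _

end Cfsg.Agent.Lib.Helper7.PUD
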