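import Mathlib
import Cfsg.Agent.Lib.Helper7.PUD3

set_option autoImplicit false

/-!
# Non-regular minimal normal subgroups: structure (for counting derangement classes)
-/

namespace Cfsg.Agent.Lib.Helper7.PUD

open Cfsg.Agent.Lib.Helper7 MulAction

variable {G : Type*} [Group G] {Ω : Type*} [MulAction G Ω]

/-- a solvable minimal `N`-invariant subgroup is abelian -/
theorem IsMinIn.le_centralizer_of_isSolvable {N T : Subgroup G} (h : IsMinIn N T)
    (hs : Group.IsSolvable T) : T ≤ Subgroup.centralizer (T : Set G) := by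
  rw [← Subgroup.commutator_eq_bot_iff_le_centralizer]
  by_contra hne
  have hnorm : N ≤ Subgroup.normalizer ((⁅T, T⁆ : Subgroup G) : Set G) := by
    intro n hn
    rw [mem_normalizer_iff_cj]
    have h1 : Helper7.cj n T = T := mem_normalizer_iff_cj.mp (h.norm hn)
    unfold Helper7.cj at h1 ⊢
    rw [Subgroup.map_commutator, h1]
  have h1 := h.min _ (Subgroup.commutator_le_self T) hne hnorm
  haveI : Nontrivial T := (Subgroup.nontrivial_iff_ne_bot T).mpr h.ne_bot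
  have h2 := Group.IsSolvable.commutator_lt_top_of_nontrivial T
  have h3 : (_root_.commutator T).map T.subtype = T := by
    rw [Subgroup.map_subtype_commutator]; exact h1
  apply h2.ne
  apply Subgroup.map_injective T.subtype_injective
  rw [h3]
  ext x
  constructor
  · intro hx
    exact ⟨⟨x, hx⟩, Subgroup.mem_top _, rfl⟩
  · rintro ⟨y, _, rfl⟩
    exact y.2

/-- the fusion obstruction: `t₀ ∈ T` is never conjugate to `t₀ * c₀` with `1 ≠ c₀ ∈ C_N(T)` -/
theorem IsMinIn.not_conj_mul {N T : Subgroup G} [N.Normal] (hT : IsMinIn N T)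
    (hTC : T ⊓ Subgroup.centralizer (T : Set G) = ⊥) {t₀ c₀ : G} (ht₀ : t₀ ∈ T) (ht₀1 : t₀ ≠ 1)
    (hc₀ : c₀ ∈ N ⊓ Subgroup.centralizer (T : Set G)) (hc₀1 : c₀ ≠ 1) (g : G) :
    g * t₀ * g⁻¹ ≠ t₀ * c₀ := by
  intro hg
  set C := N ⊓ Subgroup.centralizer (T : Set G) with hC
  have hmem : t₀ * c₀ ∈ Helper7.cj g T := by
    rw [← hg, mem_cj]
    have h2 : g⁻¹ * (g * t₀ * g⁻¹) * g = t₀ := by group
    rw [h2]; exact ht₀
  rcases hT.cj_eq_or_le g with heq | hle
  · rw [heq] at hmem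
    have h1 : c₀ ∈ T := by
      have := T.mul_mem (T.inv_mem ht₀) hmem
      rwa [inv_mul_cancel_left] at this
    have : c₀ ∈ T ⊓ Subgroup.centralizer (T : Set G) := ⟨h1, hc₀.2⟩
    rw [hTC, Subgroup.mem_bot] at this
    exact hc₀1 this
  · have h1 : t₀ * c₀ ∈ C := hle hmem
    have h2 : t₀ ∈ C := by
      have := C.mul_mem h1 (C.inv_mem hc₀)
      rwa [mul_inv_cancel_right] at this
    have : t₀ ∈ T ⊓ Subgroup.centralizer (T : Set G) := ⟨ht₀, h2.2⟩
    rw [hTC, Subgroup.mem_bot] at this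
    exact ht₀1 this

theorem nonregular_structure [Finite G] [FaithfulSMul G Ω]
    (hquasi : ∀ K : Subgroup G, K.Normal → K ≠ ⊥ → ∀ a b : Ω, ∃ k ∈ K, k • a = b)
    (hnas : ¬ ∃ T : Subgroup G, T.Normal ∧ IsSimpleGroup T ∧ ¬ IsMulCommutative T ∧
      Subgroup.centralizer (T : Set G) = ⊥)
    (N : Subgroup G) [hN : N.Normal] (hNne : N ≠ ⊥)
    (hNmin : ∀ K : Subgroup G, K.Normal → K ≠ ⊥ → K ≤ N → K = N)
    (hsolv : ∀ T : Subgroup G, (∀ t ∈ T, t ≠ 1 → ∀ ω : Ω, t • ω ≠ ω) → Group.IsSolvable T)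
    (α : Ω) (hα : N ⊓ stabilizer G α ≠ ⊥) :
    ∃ T : Subgroup G, IsMinIn N T ∧ T ⊓ Subgroup.centralizer (T : Set G) = ⊥ ∧
      N ⊓ Subgroup.centralizer (T : Set G) ≠ ⊥ ∧
      ∃ t₀ ∈ T, t₀ ≠ 1 ∧ ∀ c ∈ N ⊓ Subgroup.centralizer (T : Set G), ∀ ω : Ω, (t₀ * c) • ω ≠ ω := by
  have hNtr : ∀ β : Ω, ∃ n ∈ N, n • α = β := fun β => hquasi N hN hNne α β
  -- a nontrivial element of `N_α`
  obtain ⟨x₀, hx₀, hx₀1⟩ : ∃ x ∈ N ⊓ stabilizer G α, x ≠ 1 := by
    by_contra hcon
    push Not at hcon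
    apply hα
    rw [eq_bot_iff]
    intro x hx
    rw [Subgroup.mem_bot]
    exact hcon x hx
  have hx₀N : x₀ ∈ N := hx₀.1
  have hx₀α : x₀ • α = α := hx₀.2
  -- `N` is nonabelian
  have hnonab : ∃ a ∈ N, ∃ b ∈ N, a * b ≠ b * a := by
    by_contra hcon
    push Not at hcon
    apply hx₀1
    apply eq_one_of_conj_fix N α hNtr
    intro n hn
    have : n⁻¹ * x₀ * n = x₀ := by
      rw [mul_assoc, hcon x₀ hx₀N n hn]; group
    rw [this]; exact hx₀α
  obtain ⟨T, hT⟩ := exists_isMinIn N hNne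
  set C := N ⊓ Subgroup.centralizer (T : Set G) with hC
  have hTC := hT.inf_centralizer_eq_bot hNmin hnonab
  have hmul := hT.exists_mul hNmin
  have hcomm : ∀ t ∈ T, ∀ c ∈ C, t * c = c * t := by
    intro t ht c hc
    exact (Subgroup.mem_centralizer_iff.mp hc.2) t ht
  set R := T ⊓ stabilizer G α with hR
  -- `R ≠ ⊥`
  have hRne : R ≠ ⊥ := by
    intro hRb
    have hder : ∀ t ∈ T, t ≠ 1 → ∀ ω : Ω, t • ω ≠ ω := by
      intro t ht ht1 ω hω
      obtain ⟨n, hn, rfl⟩ := hNtr ω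
      have h1 : n⁻¹ * t * n ∈ R := by
        refine Subgroup.mem_inf.mpr ⟨conj_mem_of_norm' hT.norm hn ht, ?_⟩
        rw [mem_stabilizer_iff, mul_smul, mul_smul, hω, inv_smul_smul]
      rw [hRb, Subgroup.mem_bot] at h1
      apply ht1
      calc t = n * (n⁻¹ * t * n) * n⁻¹ := by group
        _ = 1 := by rw [h1]; group
    have hTab := hT.le_centralizer_of_isSolvable (hsolv T hder)
    apply hT.ne_bot
    rw [eq_bot_iff, ← hTC]
    exact le_inf le_rfl hTab
  -- `T` does not normalize `R`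
  have hTR : ¬ T ≤ T ⊓ Subgroup.normalizer (R : Set G) := by
    intro hle
    apply hRne
    rw [eq_bot_iff]
    intro r hr
    rw [Subgroup.mem_bot]
    apply eq_one_of_conj_fix N α hNtr
    intro n hn
    obtain ⟨t, ht, c, hc, rfl⟩ := hmul n hn
    have hrT : r ∈ T := hr.1
    have h1 : t⁻¹ * r * t ∈ R := by
      have htn : t⁻¹ ∈ Subgroup.normalizer (R : Set G) := (hle (T.inv_mem ht)).2
      have := (Subgroup.mem_normalizer_iff.mp htn r).mp hr
      simpa using this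
    have h2 : (t * c)⁻¹ * r * (t * c) = t⁻¹ * r * t := by
      have e := hcomm _ h1.1 c hc
      calc (t * c)⁻¹ * r * (t * c) = c⁻¹ * ((t⁻¹ * r * t) * c) := by group
        _ = c⁻¹ * (c * (t⁻¹ * r * t)) := by rw [e]
        _ = t⁻¹ * r * t := by group
    rw [h2]
    exact h1.2
  obtain ⟨t₀, ht₀, hcov⟩ := exists_no_conj_mem T (T ⊓ Subgroup.normalizer (R : Set G)) hTR
  -- `C` is normalized by `N`
  have hCnorm : ∀ n ∈ N, ∀ c ∈ C, n⁻¹ * c * n ∈ C := by
    intro n hn c hc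
    refine ⟨?_, ?_⟩
    · have := hN.conj_mem c hc.1 n⁻¹
      simpa using this
    · exact conj_mem_of_norm' (normalizer_centralizer hT.norm) hn hc.2
  -- `t₀ * c₀` is a derangement for every `c₀ ∈ C`
  have hder : ∀ c₀ ∈ C, ∀ ω : Ω, (t₀ * c₀) • ω ≠ ω := by
    intro c₀ hc₀ ω hω
    obtain ⟨n, hn, rfl⟩ := hNtr ω
    obtain ⟨t₁, ht₁, c₁, hc₁, rfl⟩ := hmul n hn
    set n := t₁ * c₁ with hn_def
    set t' := t₁⁻¹ * t₀ * t₁ with ht'
    set c' := n⁻¹ * c₀ * n with hc'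
    have ht'T : t' ∈ T := T.mul_mem (T.mul_mem (T.inv_mem ht₁) ht₀) ht₁
    have hc'C : c' ∈ C := hCnorm n hn c₀ hc₀
    have e1 : n⁻¹ * t₀ * n = t' := by
      have e := hcomm _ ht'T c₁ hc₁
      calc n⁻¹ * t₀ * n = c₁⁻¹ * ((t₁⁻¹ * t₀ * t₁) * c₁) := by rw [hn_def]; group
        _ = c₁⁻¹ * (c₁ * (t₁⁻¹ * t₀ * t₁)) := by rw [e]
        _ = t' := by rw [ht']; group
    have hy : n⁻¹ * (t₀ * c₀) * n = t' * c' := by
      rw [← e1, hc']; group
    have hyα : (t' * c') • α = α := by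
      rw [← hy, mul_smul, mul_smul, hω, inv_smul_smul]
    have hyN : t' * c' ∈ N := N.mul_mem (hT.le ht'T) hc'C.1
    -- `t'` normalizes `R`
    have ht'n : t' ∈ Subgroup.normalizer (R : Set G) := by
      apply Subgroup.mem_normalizer_fintype
      intro r hr
      have hrT : r ∈ T := hr.1
      have hrα : r • α = α := hr.2
      have e2 : t' * r * t'⁻¹ = (t' * c') * r * (t' * c')⁻¹ := by
        have e := hcomm r hrT c' hc'C
        calc t' * r * t'⁻¹ = t' * (r * c') * c'⁻¹ * t'⁻¹ := by group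
          _ = t' * (c' * r) * c'⁻¹ * t'⁻¹ := by rw [e]
          _ = (t' * c') * r * (t' * c')⁻¹ := by group
      rw [e2]
      refine Subgroup.mem_inf.mpr ⟨conj_mem_of_norm hT.norm hyN hrT, ?_⟩
      rw [mem_stabilizer_iff, mul_smul, mul_smul]
      have h3 : (t' * c')⁻¹ • α = α := by
        rw [inv_smul_eq_iff, hyα]
      rw [h3, hrα, hyα]
    exact hcov t₁ ht₁ ⟨ht'T, ht'n⟩
  -- `C ≠ ⊥`
  have hCne : C ≠ ⊥ := by
    intro hCb
    have hNT : N = T := by
      apply le_antisymm _ hT.le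
      intro n hn
      obtain ⟨t, ht, c, hc, rfl⟩ := hmul n hn
      have hc' : c ∈ C := hc
      rw [hCb, Subgroup.mem_bot] at hc'
      rw [hc', mul_one]; exact ht
    have hT' : IsMinIn N N := by
      have := hT
      rwa [← hNT] at this
    apply hnas
    refine ⟨N, hN, hT'.isSimpleGroup_of_self, ?_, ?_⟩
    · intro hc
      obtain ⟨a, ha, b, hb, hab⟩ := hnonab
      apply hab
      have := hc.is_comm.comm (⟨a, ha⟩ : N) ⟨b, hb⟩
      exact congrArg (fun t : N => (t : G)) this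
    · by_contra hZ
      have hZtr := hquasi _ (inferInstance : (Subgroup.centralizer (N : Set G)).Normal) hZ α
      apply hx₀1
      apply FaithfulSMul.eq_of_smul_eq_smul (α := Ω)
      intro β
      obtain ⟨z, hz, rfl⟩ := hZtr β
      rw [one_smul]
      have e : x₀ * z = z * x₀ := (Subgroup.mem_centralizer_iff.mp hz) x₀ hx₀N
      rw [← mul_smul, e, mul_smul, hx₀α]
  refine ⟨T, hT, hTC, hCne, t₀, ht₀, ?_, hder⟩
  intro h1
  apply hcov 1 T.one_mem
  rw [h1]
  simp only [inv_one, mul_one]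
  exact Subgroup.one_mem _

end Cfsg.Agent.Lib.Helper7.PUD
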