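import Mathlib
import Cfsg.Agent.Lib.Helper7.PUD5
import Cfsg.Agent.Lib.Helper7.PUD7
import Cfsg.Prelude.Def_Transfer

set_option autoImplicit false

/-!
# Primitive groups whose derangements are all `p`-elements: affine or almost simple
-/

namespace Cfsg.Agent.Lib.Helper7.PUD

open Cfsg.Agent.Lib.Helper7 MulAction

/-- a subgroup all of whose elements are `p`-elements is solvable -/
theorem isSolvable_of_ppow_orders {G : Type*} [Group G] [Finite G] (p : ℕ) (hp : p.Prime)
    (T : Subgroup G) (h : ∀ t ∈ T, ∃ k : ℕ, orderOf t = p ^ k) : Group.IsSolvable T := by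
  haveI : Fact p.Prime := ⟨hp⟩
  have hPG : IsPGroup p T := by
    intro y
    obtain ⟨k, hk⟩ := h y y.2
    refine ⟨k, ?_⟩
    rw [Subgroup.orderOf_coe] at hk
    rw [← hk]
    exact pow_orderOf_eq_one y
  haveI := hPG.isNilpotent
  exact IsNilpotent.to_isSolvable

theorem main_pder {G Ω : Type*} [Group G] [Finite G] [MulAction G Ω] [FaithfulSMul G Ω] [Finite Ω]
    (hprim : IsPreprimitive G Ω) (hΩ : 2 ≤ Nat.card Ω) (p : ℕ) (hp : p.Prime)
    (hder : ∀ g : G, (∀ ω : Ω, g • ω ≠ ω) → ∃ k : ℕ, orderOf g = p ^ k) :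
    (∃ (N : Subgroup G) (r : ℕ), r.Prime ∧ N.Normal ∧ Cfsg.IsElementaryAbelian r N ∧
      IsPretransitive N Ω ∧ ∀ a : Ω, stabilizer N a = ⊥) ∨
    (∃ T : Subgroup G, T.Normal ∧ IsSimpleGroup ↥T ∧ ¬ IsMulCommutative ↥T ∧
      Subgroup.centralizer (T : Set G) = ⊥) := by
  by_cases hnas : ∃ T : Subgroup G, T.Normal ∧ IsSimpleGroup ↥T ∧ ¬ IsMulCommutative ↥T ∧
      Subgroup.centralizer (T : Set G) = ⊥
  · exact Or.inr hnas
  left
  haveI : Fact p.Prime := ⟨hp⟩
  haveI : Nontrivial Ω := Finite.one_lt_card_iff_nontrivial.mp (by omega)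
  obtain ⟨α, β₀, hαβ⟩ := exists_pair_ne Ω
  haveI : IsPretransitive G Ω := hprim.toIsPretransitive
  -- quasi-primitivity
  have hquasi : ∀ K : Subgroup G, K.Normal → K ≠ ⊥ → ∀ a b : Ω, ∃ k ∈ K, k • a = b := by
    intro K hK hKne a b
    haveI := hK
    have hfp : fixedPoints K Ω ≠ Set.univ := by
      intro h
      apply hKne
      rw [eq_bot_iff]
      intro k hk
      rw [Subgroup.mem_bot]
      apply FaithfulSMul.eq_of_smul_eq_smul (α := Ω)
      intro ω
      rw [one_smul]
      have : ω ∈ fixedPoints K Ω := by rw [h]; exact Set.mem_univ _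
      exact this ⟨k, hk⟩
    haveI := IsQuasiPreprimitive.isPretransitive_of_normal (G := G) (X := Ω) hfp
    obtain ⟨k, hk⟩ := exists_smul_eq K a b
    exact ⟨k, k.2, hk⟩
  -- minimal normal subgroup
  have htop : (⊤ : Subgroup G) ≠ ⊥ := by
    intro h
    obtain ⟨g, hg⟩ := exists_smul_eq G α β₀
    have : g ∈ (⊥ : Subgroup G) := h ▸ Subgroup.mem_top g
    rw [Subgroup.mem_bot] at this
    rw [this, one_smul] at hg
    exact hαβ hg
  obtain ⟨N, ⟨hNn, hNne⟩, -, hNmin'⟩ := exists_minimal_subgroup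
    (fun K : Subgroup G => K.Normal ∧ K ≠ ⊥) ⊤ ⟨inferInstance, htop⟩
  haveI := hNn
  have hNmin : ∀ K : Subgroup G, K.Normal → K ≠ ⊥ → K ≤ N → K = N :=
    fun K hK hKne hle => hNmin' K ⟨hK, hKne⟩ hle
  have hNtr := hquasi N hNn hNne
  have hsolv : ∀ T : Subgroup G, (∀ t ∈ T, t ≠ 1 → ∀ ω : Ω, t • ω ≠ ω) → Group.IsSolvable T := by
    intro T hT
    apply isSolvable_of_ppow_orders p hp T
    intro t ht
    by_cases ht1 : t = 1
    · exact ⟨0, by rw [ht1, orderOf_one, pow_zero]⟩
    · exact hder t (hT t ht ht1)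
  by_cases hreg : N ⊓ stabilizer G α = ⊥
  · have hreg' := semiregular_of_inf_eq_bot N hNtr α hreg
    have hNder : ∀ n ∈ N, n ≠ 1 → ∀ ω : Ω, n • ω ≠ ω :=
      fun n hn hn1 ω hω => hn1 (hreg' ω n hn hω)
    have hab := abelian_of_minNormal_solvable hNne hNmin (hsolv N hNder)
    -- the elements of order dividing `p` form a normal subgroup
    let K : Subgroup G :=
      { carrier := {x | x ∈ N ∧ x ^ p = 1}
        one_mem' := ⟨N.one_mem, one_pow _⟩
        mul_mem' := by
          rintro x y ⟨hx, hxp⟩ ⟨hy, hyp⟩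
          refine ⟨N.mul_mem hx hy, ?_⟩
          have hc : Commute x y := hab x hx y hy
          rw [hc.mul_pow, hxp, hyp, one_mul]
        inv_mem' := by
          rintro x ⟨hx, hxp⟩
          exact ⟨N.inv_mem hx, by rw [inv_pow, hxp, inv_one]⟩ }
    have hKn : K.Normal := by
      refine ⟨fun x hx g => ?_⟩
      obtain ⟨hx, hxp⟩ := hx
      refine ⟨hNn.conj_mem x hx g, ?_⟩
      rw [conj_pow, hxp]; group
    have hKne : K ≠ ⊥ := by
      haveI : Nontrivial N := (Subgroup.nontrivial_iff_ne_bot N).mpr hNne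
      have hNcard : p ∣ Nat.card N := by
        obtain ⟨y, hy⟩ := exists_ne (1 : N)
        have hy1 : (y : G) ≠ 1 := fun h => hy (Subtype.ext h)
        obtain ⟨k, hk⟩ := hder y (hNder y y.2 hy1)
        have hk0 : k ≠ 0 := by
          intro h0
          rw [h0, pow_zero, orderOf_eq_one_iff] at hk
          exact hy1 hk
        have h1 : orderOf y ∣ Nat.card N := orderOf_dvd_natCard y
        rw [← Subgroup.orderOf_coe, hk] at h1
        exact (dvd_pow_self p hk0).trans h1
      obtain ⟨x, hx⟩ := exists_prime_orderOf_dvd_card' (G := N) p hNcard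
      intro hb
      have hxK : (x : G) ∈ K := by
        refine ⟨x.2, ?_⟩
        have := pow_orderOf_eq_one x
        rw [hx] at this
        exact congrArg Subtype.val this
      rw [hb, Subgroup.mem_bot] at hxK
      have : x = 1 := Subtype.ext hxK
      rw [this, orderOf_one] at hx
      exact hp.one_lt.ne hx
    have hKN : K = N := hNmin K hKn hKne (fun x hx => hx.1)
    refine ⟨N, p, hp, hNn, ⟨⟨⟨fun x y => Subtype.ext (hab x x.2 y y.2)⟩⟩, ?_⟩, ?_, ?_⟩
    · intro a ha
      have : a ∈ K := by rw [hKN]; exact ha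
      exact this.2
    · refine ⟨fun a b => ?_⟩
      obtain ⟨n, hn, hnab⟩ := hNtr a b
      exact ⟨⟨n, hn⟩, hnab⟩
    · intro ω
      rw [eq_bot_iff]
      intro x hx
      rw [Subgroup.mem_bot]
      apply Subtype.ext
      exact hreg' ω x x.2 (mem_stabilizer_iff.mp hx)
  · exfalso
    obtain ⟨T, hT, hTC, hCne, t₀, ht₀, ht₀1, hder'⟩ :=
      nonregular_structure hquasi hnas N hNne hNmin hsolv α hreg
    set C := N ⊓ Subgroup.centralizer (T : Set G) with hC
    have hmul := hT.exists_mul hNmin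
    -- `C` consists of `p`-elements
    have hCp : ∀ c ∈ C, ∃ k : ℕ, orderOf c = p ^ k := by
      intro c hc
      obtain ⟨j, hj⟩ : ∃ j : ℕ, orderOf t₀ = p ^ j := by
        have := hder' 1 C.one_mem
        rw [mul_one] at this
        exact hder t₀ this
      obtain ⟨k, hk⟩ := hder (t₀ * c) (hder' c hc)
      have hcomm : Commute t₀ c := (Subgroup.mem_centralizer_iff.mp hc.2) t₀ ht₀
      have h1 : (t₀ * c) ^ (p ^ (j + k)) = 1 := by
        rw [pow_add, mul_comm, pow_mul, ← hk, pow_orderOf_eq_one, one_pow]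
      have h2 : t₀ ^ (p ^ (j + k)) = 1 := by
        rw [pow_add, pow_mul, ← hj, pow_orderOf_eq_one, one_pow]
      have h3 : c ^ (p ^ (j + k)) = 1 := by
        rw [hcomm.mul_pow, h2, one_mul] at h1
        exact h1
      have h4 : orderOf c ∣ p ^ (j + k) := orderOf_dvd_of_pow_eq_one h3
      obtain ⟨i, -, hi⟩ := (Nat.dvd_prime_pow hp).mp h4
      exact ⟨i, hi⟩
    have hCPG : IsPGroup p C := by
      intro y
      obtain ⟨k, hk⟩ := hCp y y.2
      refine ⟨k, ?_⟩
      rw [Subgroup.orderOf_coe] at hk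
      rw [← hk]
      exact pow_orderOf_eq_one y
    haveI : Nontrivial C := (Subgroup.nontrivial_iff_ne_bot C).mpr hCne
    haveI := hCPG.center_nontrivial
    obtain ⟨z, hz⟩ := exists_ne (1 : Subgroup.center C)
    have hzC : ((z : C) : G) ∈ C := (z : C).2
    have hz1 : ((z : C) : G) ≠ 1 := by
      intro h1
      apply hz
      apply Subtype.ext
      apply Subtype.ext
      exact h1
    have hzc : ∀ c ∈ C, c * ((z : C) : G) = ((z : C) : G) * c := by
      intro c hc
      have := Subgroup.mem_center_iff.mp z.2 ⟨c, hc⟩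
      exact congrArg Subtype.val this
    -- `z` is central in `N`
    have hzZ : ((z : C) : G) ∈ N ⊓ Subgroup.centralizer (N : Set G) := by
      refine Subgroup.mem_inf.mpr ⟨hzC.1, ?_⟩
      rw [Subgroup.mem_centralizer_iff]
      intro n hn
      obtain ⟨t, ht, c, hc, rfl⟩ := hmul n hn
      have e1 : t * ((z : C) : G) = ((z : C) : G) * t :=
        (Subgroup.mem_centralizer_iff.mp hzC.2) t ht
      have e2 := hzc c hc
      calc t * c * ((z : C) : G) = t * (c * ((z : C) : G)) := by group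
        _ = t * (((z : C) : G) * c) := by rw [e2]
        _ = (t * ((z : C) : G)) * c := by group
        _ = (((z : C) : G) * t) * c := by rw [e1]
        _ = ((z : C) : G) * (t * c) := by group
    have hZ : N ⊓ Subgroup.centralizer (N : Set G) = N := by
      apply hNmin _ inferInstance _ inf_le_left
      intro hbot
      rw [hbot, Subgroup.mem_bot] at hzZ
      exact hz1 hzZ
    -- then `T` is abelian: contradiction
    have : t₀ ∈ T ⊓ Subgroup.centralizer (T : Set G) := by
      refine Subgroup.mem_inf.mpr ⟨ht₀, ?_⟩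
      have h1 : t₀ ∈ N ⊓ Subgroup.centralizer (N : Set G) := by rw [hZ]; exact hT.le ht₀
      rw [Subgroup.mem_centralizer_iff]
      intro t ht
      exact (Subgroup.mem_centralizer_iff.mp h1.2) t (hT.le ht)
    rw [hTC, Subgroup.mem_bot] at this
    exact ht₀1 this

end Cfsg.Agent.Lib.Helper7.PUD
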