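import Mathlib
import Cfsg.Agent.Lib.Helper7.PUD1
import Cfsg.Agent.Lib.Helper7.PUD3

set_option autoImplicit false

/-!
# Unique derangement class: the regular case and the assembly
-/

namespace Cfsg.Agent.Lib.Helper7.PUD

open Cfsg.Agent.Lib.Helper7 MulAction

variable {G : Type*} [Group G] {Ω : Type*} [MulAction G Ω]

theorem regular_case [Finite G] [FaithfulSMul G Ω]
    (N : Subgroup G) [hN : N.Normal]
    (hNtr : ∀ a b : Ω, ∃ n ∈ N, n • a = b)
    (α β₀ : Ω) (hαβ : α ≠ β₀) (hreg : N ⊓ stabilizer G α = ⊥)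
    (hDerN : ∀ d : G, (∀ ω : Ω, d • ω ≠ ω) → d ∈ N)
    (hconj : ∀ d d' : G, (∀ ω : Ω, d • ω ≠ ω) → (∀ ω : Ω, d' • ω ≠ ω) →
      ∃ g : G, g * d * g⁻¹ = d') :
    IsMultiplyPretransitive G Ω 2 ∧
      ∀ g : G, g ≠ 1 → ∀ a b : Ω, a ≠ b → g • a = a → g • b ≠ b := by
  -- semiregularity
  have hreg' : ∀ β : Ω, ∀ n ∈ N, n • β = β → n = 1 := by
    intro β n hn hfix
    obtain ⟨m, hm, rfl⟩ := hNtr α β
    have h1 : m⁻¹ * n * m ∈ N ⊓ stabilizer G α := by
      refine Subgroup.mem_inf.mpr ⟨?_, ?_⟩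
      · exact N.mul_mem (N.mul_mem (N.inv_mem hm) hn) hm
      · rw [mem_stabilizer_iff, mul_smul, mul_smul, hfix, inv_smul_smul]
    rw [hreg, Subgroup.mem_bot] at h1
    calc n = m * (m⁻¹ * n * m) * m⁻¹ := by group
      _ = 1 := by rw [h1]; group
  have hNder : ∀ n ∈ N, n ≠ 1 → ∀ ω : Ω, n • ω ≠ ω :=
    fun n hn hn1 ω hω => hn1 (hreg' ω n hn hω)
  have hNconj : ∀ a ∈ N, ∀ b ∈ N, a ≠ 1 → b ≠ 1 → ∃ g : G, g * a * g⁻¹ = b :=
    fun a ha b hb ha1 hb1 => hconj a b (hNder a ha ha1) (hNder b hb hb1)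
  have hNne : N ≠ ⊥ := by
    intro hb
    obtain ⟨n, hn, hnα⟩ := hNtr α β₀
    rw [hb, Subgroup.mem_bot] at hn
    rw [hn, one_smul] at hnα
    exact hαβ hnα
  -- `N` is abelian
  obtain ⟨z, hz, hz1, hzc⟩ := exists_central_of_conj N hNne hNconj
  have hab : ∀ a ∈ N, ∀ b ∈ N, a * b = b * a := by
    intro a ha b hb
    by_cases ha1 : a = 1
    · rw [ha1, one_mul, mul_one]
    · obtain ⟨g, rfl⟩ := hNconj z hz a ha hz1 ha1
      have hb' : g⁻¹ * b * g ∈ N := by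
        have := hN.conj_mem b hb g⁻¹
        simpa using this
      have e := hzc _ hb'
      calc g * z * g⁻¹ * b = g * (z * (g⁻¹ * b * g)) * g⁻¹ := by group
        _ = g * ((g⁻¹ * b * g) * z) * g⁻¹ := by rw [e]
        _ = b * (g * z * g⁻¹) := by group
  refine ⟨?_, ?_⟩
  · -- 2-transitivity
    rw [is_two_pretransitive_iff]
    intro a b c d hab' hcd
    obtain ⟨g₁, _, hg₁⟩ := hNtr a c
    set b' := g₁ • b with hb'
    have hb'c : b' ≠ c := by
      intro h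
      apply hab'
      rw [← hg₁] at h
      exact (smul_left_cancel g₁ h).symm
    obtain ⟨n₁, hn₁, hn₁c⟩ := hNtr c b'
    obtain ⟨n₂, hn₂, hn₂c⟩ := hNtr c d
    have hn₁1 : n₁ ≠ 1 := by
      intro h; rw [h, one_smul] at hn₁c; exact hb'c hn₁c.symm
    have hn₂1 : n₂ ≠ 1 := by
      intro h; rw [h, one_smul] at hn₂c; exact hcd hn₂c
    obtain ⟨h, hh⟩ := hNconj n₁ hn₁ n₂ hn₂ hn₁1 hn₂1
    obtain ⟨m, hm, hmc⟩ := hNtr c (h • c)
    set h' := m⁻¹ * h with hh'
    have hh'c : h' • c = c := by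
      rw [hh', mul_smul, ← hmc, inv_smul_smul]
    have hconj' : h' * n₁ * h'⁻¹ = n₂ := by
      have e := hab m⁻¹ (N.inv_mem hm) n₂ hn₂
      calc h' * n₁ * h'⁻¹ = m⁻¹ * (h * n₁ * h⁻¹) * m := by rw [hh']; group
        _ = m⁻¹ * n₂ * m := by rw [hh]
        _ = n₂ * m⁻¹ * m := by rw [e]
        _ = n₂ := by group
    refine ⟨h' * g₁, ?_, ?_⟩
    · rw [mul_smul, hg₁, hh'c]
    · calc (h' * g₁) • b = h' • b' := by rw [mul_smul]
        _ = h' • n₁ • c := by rw [hn₁c]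
        _ = (h' * n₁ * h'⁻¹) • (h' • c) := by
            rw [← mul_smul, ← mul_smul]; congr 1; group
        _ = n₂ • c := by rw [hconj', hh'c]
        _ = d := hn₂c
  · -- sharpness
    intro g hg1 a b hab' hga hgb
    obtain ⟨n, hn, hnb⟩ := hNtr a b
    have hn1 : n ≠ 1 := by
      intro h; rw [h, one_smul] at hnb; exact hab' hnb
    have hgn : g * n * g⁻¹ ∈ N := hN.conj_mem n hn g
    have hga' : g⁻¹ • a = a := by rw [inv_smul_eq_iff, hga]
    -- `g` commutes with `n`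
    have hcomm : n⁻¹ * (g * n * g⁻¹) = 1 := by
      apply hreg' a _ (N.mul_mem (N.inv_mem hn) hgn)
      rw [mul_smul, mul_smul, mul_smul, hga', hnb, hgb, ← hnb, inv_smul_smul]
    let ψ : N → N := fun k => ⟨(k : G) * (g * (k : G)⁻¹ * g⁻¹),
      N.mul_mem k.2 (hN.conj_mem _ (N.inv_mem k.2) g)⟩
    have hψ1 : ψ 1 = 1 := by
      apply Subtype.ext
      show (1 : G) * (g * (1 : G)⁻¹ * g⁻¹) = 1
      group
    have hψn : ψ ⟨n, hn⟩ = 1 := by
      apply Subtype.ext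
      show n * (g * n⁻¹ * g⁻¹) = 1
      have : g * n * g⁻¹ = n := by
        calc g * n * g⁻¹ = n * (n⁻¹ * (g * n * g⁻¹)) := by group
          _ = n := by rw [hcomm, mul_one]
      calc n * (g * n⁻¹ * g⁻¹) = n * (g * n * g⁻¹)⁻¹ := by group
        _ = 1 := by rw [this, mul_inv_cancel]
    have hninj : ¬ Function.Injective ψ := by
      intro hinj
      have := hinj (hψn.trans hψ1.symm)
      exact hn1 (congrArg Subtype.val this)
    have hnsurj : ¬ Function.Surjective ψ := fun hs => hninj (Finite.injective_iff_surjective.mpr hs)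
    rw [Function.Surjective] at hnsurj
    push Not at hnsurj
    obtain ⟨m₀, hm₀⟩ := hnsurj
    -- `m₀ * g` is a derangement
    have hder : ∀ ω : Ω, ((m₀ : G) * g) • ω ≠ ω := by
      intro ω hω
      obtain ⟨k, hk, rfl⟩ := hNtr a ω
      apply hm₀ ⟨k, hk⟩
      apply Subtype.ext
      show k * (g * k⁻¹ * g⁻¹) = (m₀ : G)
      have hmem : k⁻¹ * (m₀ : G) * (g * k * g⁻¹) ∈ N :=
        N.mul_mem (N.mul_mem (N.inv_mem hk) m₀.2) (hN.conj_mem k hk g)
      have hfix : (k⁻¹ * (m₀ : G) * (g * k * g⁻¹)) • a = a := by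
        have e : k⁻¹ * (m₀ : G) * (g * k * g⁻¹) = k⁻¹ * ((m₀ : G) * g) * k * g⁻¹ := by group
        rw [e, mul_smul, hga', mul_smul, mul_smul, hω, inv_smul_smul]
      have h1 := hreg' a _ hmem hfix
      calc k * (g * k⁻¹ * g⁻¹) = k * (k⁻¹ * (m₀ : G) * (g * k * g⁻¹)) * (g * k⁻¹ * g⁻¹) := by
            rw [h1, mul_one]
        _ = (m₀ : G) := by group
    have hmg : (m₀ : G) * g ∈ N := hDerN _ hder
    have hgN : g ∈ N := by
      have := N.mul_mem (N.inv_mem m₀.2) hmg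
      rwa [inv_mul_cancel_left] at this
    exact hg1 (hreg' a g hgN hga)

theorem main {G : Type*} [Group G] [Finite G] {Ω : Type*} [Fintype Ω] [MulAction G Ω]
    [FaithfulSMul G Ω] (hΩ : 2 ≤ Fintype.card Ω) (hprim : IsPreprimitive G Ω)
    (hnas : ¬ ∃ T : Subgroup G, T.Normal ∧ IsSimpleGroup T ∧ ¬ IsMulCommutative T ∧
      Subgroup.centralizer (T : Set G) = ⊥) :
    Nat.card {c : ConjClasses G // ∃ g : G, ConjClasses.mk g = c ∧ ∀ ω : Ω, g • ω ≠ ω} = 1 ↔
      (IsMultiplyPretransitive G Ω 2 ∧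
        ∀ g : G, g ≠ 1 → ∀ a b : Ω, a ≠ b → g • a = a → g • b ≠ b) := by
  constructor
  · intro hcard
    rw [Nat.card_eq_one_iff_unique] at hcard
    obtain ⟨hsub, ⟨⟨c₀, d₀, hc₀, hd₀⟩⟩⟩ := hcard
    have hconj : ∀ d d' : G, (∀ ω : Ω, d • ω ≠ ω) → (∀ ω : Ω, d' • ω ≠ ω) →
        ∃ g : G, g * d * g⁻¹ = d' := by
      intro d d' hd hd'
      have := hsub.elim ⟨ConjClasses.mk d, d, rfl, hd⟩ ⟨ConjClasses.mk d', d', rfl, hd'⟩
      have h1 : ConjClasses.mk d = ConjClasses.mk d' := congrArg Subtype.val this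
      rw [ConjClasses.mk_eq_mk_iff_isConj, isConj_iff] at h1
      exact h1
    obtain ⟨α, β₀, hαβ⟩ : ∃ a b : Ω, a ≠ b := by
      have : 1 < Fintype.card Ω := hΩ
      exact Fintype.exists_pair_of_one_lt_card this
    haveI : IsPretransitive G Ω := hprim.toIsPretransitive
    -- quasi-primitivity
    have hquasi : ∀ K : Subgroup G, K.Normal → K ≠ ⊥ → ∀ a b : Ω, ∃ k ∈ K, k • a = b := by
      intro K hK hKne a b
      haveI := hK
      have hfp : fixedPoints K Ω ≠ Set.univ := by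
        intro h
        apply hKne
        rw [eq_bot_iff]
        intro k hk
        rw [Subgroup.mem_bot]
        apply FaithfulSMul.eq_of_smul_eq_smul (α := Ω)
        intro ω
        rw [one_smul]
        have : ω ∈ fixedPoints K Ω := by rw [h]; exact Set.mem_univ _
        exact this ⟨k, hk⟩
      haveI := IsQuasiPreprimitive.isPretransitive_of_normal (G := G) (X := Ω) hfp
      obtain ⟨k, hk⟩ := exists_smul_eq K a b
      exact ⟨k, k.2, hk⟩
    -- minimal normal subgroup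
    have htop : (⊤ : Subgroup G) ≠ ⊥ := by
      intro h
      obtain ⟨g, hg⟩ := exists_smul_eq G α β₀
      have : g ∈ (⊥ : Subgroup G) := h ▸ Subgroup.mem_top g
      rw [Subgroup.mem_bot] at this
      rw [this, one_smul] at hg
      exact hαβ hg
    obtain ⟨N, ⟨hNn, hNne⟩, -, hNmin'⟩ := exists_minimal_subgroup
      (fun K : Subgroup G => K.Normal ∧ K ≠ ⊥) ⊤ ⟨inferInstance, htop⟩
    haveI := hNn
    have hNmin : ∀ K : Subgroup G, K.Normal → K ≠ ⊥ → K ≤ N → K = N :=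
      fun K hK hKne hle => hNmin' K ⟨hK, hKne⟩ hle
    have hNtr := hquasi N hNn hNne
    -- a derangement in `N`
    have hNα : ¬ N ≤ N ⊓ stabilizer G α := by
      intro hle
      obtain ⟨n, hn, hnα⟩ := hNtr α β₀
      have : n ∈ stabilizer G α := (Subgroup.mem_inf.mp (hle hn)).2
      rw [mem_stabilizer_iff] at this
      exact hαβ (this.symm.trans hnα)
    obtain ⟨d₁, hd₁N, hd₁⟩ := exists_no_conj_mem N (N ⊓ stabilizer G α) hNα
    have hd₁der : ∀ ω : Ω, d₁ • ω ≠ ω := by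
      intro ω hω
      obtain ⟨m, hm, rfl⟩ := hNtr α ω
      apply hd₁ m hm
      refine Subgroup.mem_inf.mpr ⟨N.mul_mem (N.mul_mem (N.inv_mem hm) hd₁N) hm, ?_⟩
      rw [mem_stabilizer_iff, mul_smul, mul_smul, hω, inv_smul_smul]
    have hDerN : ∀ d : G, (∀ ω : Ω, d • ω ≠ ω) → d ∈ N := by
      intro d hd
      obtain ⟨g, rfl⟩ := hconj d₁ d hd₁der hd
      exact hNn.conj_mem d₁ hd₁N g
    by_cases hreg : N ⊓ stabilizer G α = ⊥
    · exact regular_case N hNtr α β₀ hαβ hreg hDerN hconj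
    · exact (nonregular_false hquasi hnas N hNne hNmin hconj α hreg).elim
  · rintro ⟨h2, hsharp⟩
    exact sharp_imp h2 hsharp hΩ

end Cfsg.Agent.Lib.Helper7.PUD
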