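import Mathlib
import Cfsg.Agent.Lib.Helper7.PUD5

set_option autoImplicit false

/-!
# Non-regular minimal normal subgroups: three classes of derangements
-/

namespace Cfsg.Agent.Lib.Helper7.PUD

open Cfsg.Agent.Lib.Helper7 MulAction

variable {G : Type*} [Group G] {Ω : Type*} [MulAction G Ω]

/-- all nonidentity elements of `T` of the same order ⟹ nontrivial central element -/
theorem exists_central_of_same_order [Finite G] (T : Subgroup G) (hT : T ≠ ⊥) (m : ℕ)
    (h : ∀ a ∈ T, a ≠ 1 → orderOf a = m) :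
    ∃ z ∈ T, z ≠ 1 ∧ ∀ t ∈ T, t * z = z * t := by
  haveI : Nontrivial T := (Subgroup.nontrivial_iff_ne_bot T).mpr hT
  have hcard : Nat.card T ≠ 1 := by
    intro h1
    have := (Nat.card_eq_one_iff_unique.mp h1).1
    exact not_subsingleton T this
  set p := (Nat.card T).minFac with hp
  have hpp : p.Prime := Nat.minFac_prime hcard
  haveI : Fact p.Prime := ⟨hpp⟩
  obtain ⟨x, hx⟩ := exists_prime_orderOf_dvd_card' (G := T) p (Nat.minFac_dvd _)
  have hx1 : (x : G) ≠ 1 := by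
    intro h1
    have : x = 1 := Subtype.ext h1
    rw [this, orderOf_one] at hx
    exact hpp.one_lt.ne hx
  have hmp : m = p := by
    rw [← h x x.2 hx1, Subgroup.orderOf_coe, hx]
  have hPG : IsPGroup p T := by
    intro y
    by_cases hy : y = 1
    · exact ⟨0, by rw [hy, one_pow]⟩
    · refine ⟨1, ?_⟩
      have hy1 : (y : G) ≠ 1 := fun h1 => hy (Subtype.ext h1)
      have h1 := h y y.2 hy1
      rw [Subgroup.orderOf_coe, hmp] at h1
      rw [pow_one, ← h1]
      exact pow_orderOf_eq_one y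
  haveI := hPG.center_nontrivial
  obtain ⟨z, hz⟩ := exists_ne (1 : Subgroup.center T)
  refine ⟨((z : T) : G), (z : T).2, ?_, ?_⟩
  · intro h1
    apply hz
    apply Subtype.ext
    apply Subtype.ext
    exact h1
  · intro t ht
    have := Subgroup.mem_center_iff.mp z.2 ⟨t, ht⟩
    exact congrArg Subtype.val this

/-- support lemma -/
theorem supp_lemma {N Ta Tb T T₂ : Subgroup G} (hTa : IsMinIn N Ta) (hTb : IsMinIn N Tb)
    (hT : IsMinIn N T) (hT₂ : IsMinIn N T₂)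
    (hTaC : Ta ⊓ Subgroup.centralizer (Ta : Set G) = ⊥) (hab : Ta ≠ Tb)
    {a b t c : G} (ha : a ∈ Ta) (ha1 : a ≠ 1) (hb : b ∈ Tb) (ht : t ∈ T) (hc : c ∈ T₂)
    (h : a * b = t * c) : Ta = T ∨ Ta = T₂ := by
  by_contra hcon
  push Not at hcon
  obtain ⟨h1, h2⟩ := hcon
  have hna : a ∉ Subgroup.centralizer (Ta : Set G) := by
    intro hmem
    have : a ∈ Ta ⊓ Subgroup.centralizer (Ta : Set G) := ⟨ha, hmem⟩
    rw [hTaC, Subgroup.mem_bot] at this
    exact ha1 this
  rw [Subgroup.mem_centralizer_iff] at hna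
  push Not at hna
  obtain ⟨u, hu, hua⟩ := hna
  have hub : u * b = b * u :=
    (Subgroup.mem_centralizer_iff.mp (hTa.le_centralizer hTb hab hb)) u hu
  have hut : u * t = t * u :=
    (Subgroup.mem_centralizer_iff.mp (hTa.le_centralizer hT h1 ht)) u hu
  have huc : u * c = c * u :=
    (Subgroup.mem_centralizer_iff.mp (hTa.le_centralizer hT₂ h2 hc)) u hu
  apply hua
  have e1 : u * (a * b) = (a * b) * u := by
    rw [h]
    calc u * (t * c) = (u * t) * c := by group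
      _ = (t * u) * c := by rw [hut]
      _ = t * (u * c) := by group
      _ = t * (c * u) := by rw [huc]
      _ = t * c * u := by group
  have e2 : u * a * b = a * u * b := by
    calc u * a * b = u * (a * b) := by group
      _ = (a * b) * u := e1
      _ = a * (b * u) := by group
      _ = a * (u * b) := by rw [hub]
      _ = a * u * b := by group
  exact mul_right_cancel e2

theorem nonregular_three [Finite G] [FaithfulSMul G Ω]
    (hquasi : ∀ K : Subgroup G, K.Normal → K ≠ ⊥ → ∀ a b : Ω, ∃ k ∈ K, k • a = b)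
    (hnas : ¬ ∃ T : Subgroup G, T.Normal ∧ IsSimpleGroup T ∧ ¬ IsMulCommutative T ∧
      Subgroup.centralizer (T : Set G) = ⊥)
    (N : Subgroup G) [hN : N.Normal] (hNne : N ≠ ⊥)
    (hNmin : ∀ K : Subgroup G, K.Normal → K ≠ ⊥ → K ≤ N → K = N)
    (hsolv : ∀ T : Subgroup G, (∀ t ∈ T, t ≠ 1 → ∀ ω : Ω, t • ω ≠ ω) → Group.IsSolvable T)
    (α : Ω) (hα : N ⊓ stabilizer G α ≠ ⊥) :
    ∃ d₁ d₂ d₃ : G, (∀ ω : Ω, d₁ • ω ≠ ω) ∧ (∀ ω : Ω, d₂ • ω ≠ ω) ∧ (∀ ω : Ω, d₃ • ω ≠ ω) ∧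
      (∀ g : G, g * d₁ * g⁻¹ ≠ d₂) ∧ (∀ g : G, g * d₁ * g⁻¹ ≠ d₃) ∧
      (∀ g : G, g * d₂ * g⁻¹ ≠ d₃) := by
  obtain ⟨T, hT, hTC, hCne, t₀, ht₀, ht₀1, hder⟩ :=
    nonregular_structure hquasi hnas N hNne hNmin hsolv α hα
  set C := N ⊓ Subgroup.centralizer (T : Set G) with hC
  -- `N` is nonabelian
  have hnonab : ∃ a ∈ N, ∃ b ∈ N, a * b ≠ b * a := by
    have hna : t₀ ∉ Subgroup.centralizer (T : Set G) := by
      intro hmem
      have : t₀ ∈ T ⊓ Subgroup.centralizer (T : Set G) := ⟨ht₀, hmem⟩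
      rw [hTC, Subgroup.mem_bot] at this
      exact ht₀1 this
    rw [Subgroup.mem_centralizer_iff] at hna
    push Not at hna
    obtain ⟨u, hu, hua⟩ := hna
    exact ⟨u, hT.le hu, t₀, hT.le ht₀, hua⟩
  -- a conjugate of `T` different from `T`
  obtain ⟨g₀, hg₀⟩ : ∃ g₀ : G, Helper7.cj g₀ T ≠ T := by
    by_contra hcon
    push Not at hcon
    have hTn : T.Normal := by
      refine ⟨fun n hn g => ?_⟩
      rw [← hcon g, mem_cj]
      have h2 : g⁻¹ * (g * n * g⁻¹) * g = n := by group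
      rw [h2]; exact hn
    have hTN := hNmin T hTn hT.ne_bot hT.le
    apply hCne
    rw [hC, ← hTN]
    exact hTC
  set T₂ := Helper7.cj g₀ T with hT₂def
  have hT₂ : IsMinIn N T₂ := hT.cj g₀
  have hT₂C : T₂ ⊓ Subgroup.centralizer (T₂ : Set G) = ⊥ :=
    hT₂.inf_centralizer_eq_bot hNmin hnonab
  have hT₂le : T₂ ≤ C := (hT.cj_eq_or_le g₀).resolve_left hg₀
  have hne : T ≠ T₂ := Ne.symm hg₀
  have hconj_mem : ∀ (g : G) (S : Subgroup G) (x : G), x ∈ S → g * x * g⁻¹ ∈ Helper7.cj g S := by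
    intro g S x hx
    rw [mem_cj]
    have h2 : g⁻¹ * (g * x * g⁻¹) * g = x := by group
    rw [h2]; exact hx
  have hord : ∀ g x : G, orderOf (g * x * g⁻¹) = orderOf x := by
    intro g x
    have := (MulAut.conj g).orderOf_eq x
    rwa [MulAut.conj_apply] at this
  have hconj1 : ∀ g x : G, x ≠ 1 → g * x * g⁻¹ ≠ 1 := by
    intro g x hx h1
    apply hx
    calc x = g⁻¹ * (g * x * g⁻¹) * g := by group
      _ = 1 := by rw [h1]; group
  set c₂ := g₀ * t₀ * g₀⁻¹ with hc₂def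
  have hc₂ : c₂ ∈ T₂ := hconj_mem g₀ T t₀ ht₀
  have hc₂1 : c₂ ≠ 1 := hconj1 g₀ t₀ ht₀1
  have hc₂ord : orderOf c₂ = orderOf t₀ := hord g₀ t₀
  -- an element of `T₂` of a different order
  obtain ⟨c₃, hc₃, hc₃1, hc₃ord⟩ : ∃ c₃ ∈ T₂, c₃ ≠ 1 ∧ orderOf c₃ ≠ orderOf t₀ := by
    by_contra hcon
    push Not at hcon
    obtain ⟨z, hz, hz1, hzc⟩ := exists_central_of_same_order T₂ hT₂.ne_bot (orderOf t₀) hcon
    have : z ∈ T₂ ⊓ Subgroup.centralizer (T₂ : Set G) := by
      refine Subgroup.mem_inf.mpr ⟨hz, ?_⟩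
      rw [Subgroup.mem_centralizer_iff]
      exact hzc
    rw [hT₂C, Subgroup.mem_bot] at this
    exact hz1 this
  have hd1 : ∀ ω : Ω, t₀ • ω ≠ ω := by
    have := hder 1 C.one_mem
    rwa [mul_one] at this
  refine ⟨t₀, t₀ * c₂, t₀ * c₃, hd1, hder c₂ (hT₂le hc₂), hder c₃ (hT₂le hc₃), ?_, ?_, ?_⟩
  · exact fun g => hT.not_conj_mul hTC ht₀ ht₀1 (hT₂le hc₂) hc₂1 g
  · exact fun g => hT.not_conj_mul hTC ht₀ ht₀1 (hT₂le hc₃) hc₃1 g
  · intro g hg
    set Ta := Helper7.cj g T with hTa_def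
    set Tb := Helper7.cj g T₂ with hTb_def
    have hTa : IsMinIn N Ta := hT.cj g
    have hTb : IsMinIn N Tb := hT₂.cj g
    have hTaC : Ta ⊓ Subgroup.centralizer (Ta : Set G) = ⊥ :=
      hTa.inf_centralizer_eq_bot hNmin hnonab
    have hTbC : Tb ⊓ Subgroup.centralizer (Tb : Set G) = ⊥ :=
      hTb.inf_centralizer_eq_bot hNmin hnonab
    have hab : Ta ≠ Tb := by
      intro h
      apply hne
      have := congrArg (Helper7.cj g⁻¹) h
      rwa [hTa_def, hTb_def, cj_inv_cj, cj_inv_cj] at this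
    set a := g * t₀ * g⁻¹ with ha_def
    set b := g * c₂ * g⁻¹ with hb_def
    have ha : a ∈ Ta := hconj_mem g T t₀ ht₀
    have hb : b ∈ Tb := hconj_mem g T₂ c₂ hc₂
    have ha1 : a ≠ 1 := hconj1 g t₀ ht₀1
    have hb1 : b ≠ 1 := hconj1 g c₂ hc₂1
    have haord : orderOf a = orderOf t₀ := hord g t₀
    have hbord : orderOf b = orderOf t₀ := (hord g c₂).trans hc₂ord
    have heq : a * b = t₀ * c₃ := by
      rw [← hg, ha_def, hb_def]; group
    have hcomm_ab : a * b = b * a :=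
      ((Subgroup.mem_centralizer_iff.mp (hTb.le_centralizer hTa (Ne.symm hab) ha)) b hb).symm
    have heq' : b * a = t₀ * c₃ := hcomm_ab ▸ heq
    have hcomm_tc : ∀ t ∈ T, ∀ c ∈ T₂, t * c = c * t := by
      intro t ht c hc
      exact (Subgroup.mem_centralizer_iff.mp (hT.le_centralizer hT₂ hne hc)) t ht
    have hbot : T ⊓ T₂ = ⊥ := hT.inf_eq_bot hT₂ hne
    rcases supp_lemma hTa hTb hT hT₂ hTaC hab ha ha1 hb ht₀ hc₃ heq with hTaT | hTaT₂
    · rcases supp_lemma hTb hTa hT hT₂ hTbC (Ne.symm hab) hb hb1 ha ht₀ hc₃ heq' with hTbT | hTbT₂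
      · exact hab (hTaT.trans hTbT.symm)
      · -- `a ∈ T`, `b ∈ T₂`
        rw [hTaT] at ha
        rw [hTbT₂] at hb
        have hmem : t₀⁻¹ * a ∈ T ⊓ T₂ := by
          refine ⟨T.mul_mem (T.inv_mem ht₀) ha, ?_⟩
          have : t₀⁻¹ * a = c₃ * b⁻¹ := by
            calc t₀⁻¹ * a = t₀⁻¹ * (a * b) * b⁻¹ := by group
              _ = t₀⁻¹ * (t₀ * c₃) * b⁻¹ := by rw [heq]
              _ = c₃ * b⁻¹ := by group
          rw [this]
          exact T₂.mul_mem hc₃ (T₂.inv_mem hb)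
        rw [hbot, Subgroup.mem_bot] at hmem
        have hat : a = t₀ := by
          calc a = t₀ * (t₀⁻¹ * a) := by group
            _ = t₀ := by rw [hmem, mul_one]
        have hbc : b = c₃ := by
          rw [hat] at heq
          exact mul_left_cancel heq
        apply hc₃ord
        rw [← hbc, hbord]
    · rcases supp_lemma hTb hTa hT hT₂ hTbC (Ne.symm hab) hb hb1 ha ht₀ hc₃ heq' with hTbT | hTbT₂
      · -- `a ∈ T₂`, `b ∈ T`
        rw [hTaT₂] at ha
        rw [hTbT] at hb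
        have hmem : t₀⁻¹ * b ∈ T ⊓ T₂ := by
          refine ⟨T.mul_mem (T.inv_mem ht₀) hb, ?_⟩
          have : t₀⁻¹ * b = c₃ * a⁻¹ := by
            calc t₀⁻¹ * b = t₀⁻¹ * (b * a) * a⁻¹ := by group
              _ = t₀⁻¹ * (t₀ * c₃) * a⁻¹ := by rw [heq']
              _ = c₃ * a⁻¹ := by group
          rw [this]
          exact T₂.mul_mem hc₃ (T₂.inv_mem ha)
        rw [hbot, Subgroup.mem_bot] at hmem
        have hbt : b = t₀ := by
          calc b = t₀ * (t₀⁻¹ * b) := by group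
            _ = t₀ := by rw [hmem, mul_one]
        have hac : a = c₃ := by
          rw [hbt] at heq'
          exact mul_left_cancel heq'
        apply hc₃ord
        rw [← hac, haord]
      · exact hab (hTaT₂.trans hTbT₂.symm)

end Cfsg.Agent.Lib.Helper7.PUD
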