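import Mathlib
import Cfsg.Agent.Lib.Helper7.PUD4
import Cfsg.Agent.Lib.Helper7.PUD6
import Cfsg.Agent.Lib.Helper7.PUD8

set_option autoImplicit false

/-!
# Two derangement classes in a primitive, not almost simple group: assembly
-/

namespace Cfsg.Agent.Lib.Helper7.PUD

open Cfsg.Agent.Lib.Helper7 MulAction

theorem conj_of_common {G : Type*} [Group G] {d x y : G} (hx : ∃ g : G, g * d * g⁻¹ = x)
    (hy : ∃ g : G, g * d * g⁻¹ = y) : ∃ g : G, g * x * g⁻¹ = y := by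
  obtain ⟨g₁, rfl⟩ := hx
  obtain ⟨g₂, rfl⟩ := hy
  exact ⟨g₂ * g₁⁻¹, by group⟩

theorem main_two {G : Type*} [Group G] [Finite G] {Ω : Type*} [Fintype Ω] [MulAction G Ω]
    [FaithfulSMul G Ω] (hΩ : 2 ≤ Fintype.card Ω) (hprim : IsPreprimitive G Ω)
    (hnas : ¬ ∃ T : Subgroup G, T.Normal ∧ IsSimpleGroup T ∧ ¬ IsMulCommutative T ∧
      Subgroup.centralizer (T : Set G) = ⊥)
    (hκ : Nat.card {c : ConjClasses G // ∃ g : G, ConjClasses.mk g = c ∧
      ∀ ω : Ω, g • ω ≠ ω} = 2) (α : Ω) :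
    (Fintype.card Ω = 3 ∧ Nat.card G = 3) ∨
    ((∃ N : Subgroup G, N.Normal ∧ N ≠ ⊥ ∧ IsMulCommutative N ∧
        ∀ ω : Ω, stabilizer N ω = ⊥) ∧
      (∀ g : G, g ≠ 1 → Nat.card (fixedBy Ω g) ≤ 1) ∧ ¬ 2 ∣ Fintype.card Ω ∧
        2 * Nat.card (stabilizer G α) = Fintype.card Ω - 1) ∨
    ((∃ N : Subgroup G, N.Normal ∧ N ≠ ⊥ ∧ IsMulCommutative N ∧
        ∀ ω : Ω, stabilizer N ω = ⊥) ∧
      IsMultiplyPretransitive G Ω 2 ∧ ∃ g : G, g ≠ 1 ∧ 2 ≤ Nat.card (fixedBy Ω g)) := by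
  have hnot1 : Nat.card {c : ConjClasses G // ∃ g : G, ConjClasses.mk g = c ∧
      ∀ ω : Ω, g • ω ≠ ω} ≠ 1 := by rw [hκ]; norm_num
  obtain ⟨X, Y, hXY, huniv⟩ := Nat.card_eq_two_iff.mp hκ
  obtain ⟨cX, d, hcX, hd⟩ := X
  obtain ⟨cY, d', hcY, hd'⟩ := Y
  subst hcX
  subst hcY
  have hdd' : ∀ g : G, g * d * g⁻¹ ≠ d' := by
    intro g hg
    apply hXY
    apply Subtype.ext
    show ConjClasses.mk d = ConjClasses.mk d'
    rw [ConjClasses.mk_eq_mk_iff_isConj, isConj_iff]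
    exact ⟨g, hg⟩
  have hcls : ∀ x : G, (∀ ω : Ω, x • ω ≠ ω) →
      (∃ g : G, g * d * g⁻¹ = x) ∨ (∃ g : G, g * d' * g⁻¹ = x) := by
    intro x hx
    have hmem : (⟨ConjClasses.mk x, x, rfl, hx⟩ : {c : ConjClasses G // ∃ g : G,
        ConjClasses.mk g = c ∧ ∀ ω : Ω, g • ω ≠ ω}) ∈ (Set.univ : Set _) := Set.mem_univ _
    rw [← huniv] at hmem
    rcases hmem with h | h
    · left
      have h1 : ConjClasses.mk x = ConjClasses.mk d := congrArg Subtype.val h
      rw [ConjClasses.mk_eq_mk_iff_isConj, isConj_comm, isConj_iff] at h1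
      exact h1
    · right
      have h1 : ConjClasses.mk x = ConjClasses.mk d' := congrArg Subtype.val h
      rw [ConjClasses.mk_eq_mk_iff_isConj, isConj_comm, isConj_iff] at h1
      exact h1
  have hord : ∀ g x : G, orderOf (g * x * g⁻¹) = orderOf x := by
    intro g x
    have := (MulAut.conj g).orderOf_eq x
    rwa [MulAut.conj_apply] at this
  have hsolv : ∀ T : Subgroup G, (∀ t ∈ T, t ≠ 1 → ∀ ω : Ω, t • ω ≠ ω) → Group.IsSolvable T := by
    intro T hT
    apply isSolvable_of_two_orders T (orderOf d) (orderOf d')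
    intro t ht ht1
    rcases hcls t (hT t ht ht1) with ⟨g, hg⟩ | ⟨g, hg⟩
    · left; rw [← hg, hord]
    · right; rw [← hg, hord]
  obtain ⟨α', β₀, hαβ⟩ : ∃ a b : Ω, a ≠ b := by
    have : 1 < Fintype.card Ω := hΩ
    exact Fintype.exists_pair_of_one_lt_card this
  haveI : IsPretransitive G Ω := hprim.toIsPretransitive
  -- quasi-primitivity
  have hquasi : ∀ K : Subgroup G, K.Normal → K ≠ ⊥ → ∀ a b : Ω, ∃ k ∈ K, k • a = b := by
    intro K hK hKne a b
    haveI := hK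
    have hfp : fixedPoints K Ω ≠ Set.univ := by
      intro h
      apply hKne
      rw [eq_bot_iff]
      intro k hk
      rw [Subgroup.mem_bot]
      apply FaithfulSMul.eq_of_smul_eq_smul (α := Ω)
      intro ω
      rw [one_smul]
      have : ω ∈ fixedPoints K Ω := by rw [h]; exact Set.mem_univ _
      exact this ⟨k, hk⟩
    haveI := IsQuasiPreprimitive.isPretransitive_of_normal (G := G) (X := Ω) hfp
    obtain ⟨k, hk⟩ := exists_smul_eq K a b
    exact ⟨k, k.2, hk⟩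
  -- minimal normal subgroup
  have htop : (⊤ : Subgroup G) ≠ ⊥ := by
    intro h
    obtain ⟨g, hg⟩ := exists_smul_eq G α' β₀
    have : g ∈ (⊥ : Subgroup G) := h ▸ Subgroup.mem_top g
    rw [Subgroup.mem_bot] at this
    rw [this, one_smul] at hg
    exact hαβ hg
  obtain ⟨N, ⟨hNn, hNne⟩, -, hNmin'⟩ := exists_minimal_subgroup
    (fun K : Subgroup G => K.Normal ∧ K ≠ ⊥) ⊤ ⟨inferInstance, htop⟩
  haveI := hNn
  have hNmin : ∀ K : Subgroup G, K.Normal → K ≠ ⊥ → K ≤ N → K = N :=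
    fun K hK hKne hle => hNmin' K ⟨hK, hKne⟩ hle
  have hNtr := hquasi N hNn hNne
  by_cases hreg : N ⊓ stabilizer G α = ⊥
  · have hreg' := semiregular_of_inf_eq_bot N hNtr α hreg
    by_cases hDerN : ∀ x : G, (∀ ω : Ω, x • ω ≠ ω) → x ∈ N
    · exact Or.inr (Or.inl (regular_two_inside N hNne hNmin hNtr hreg' α d d' hd hd' hdd' hcls
        hDerN))
    · push Not at hDerN
      obtain ⟨x, hx, hxN⟩ := hDerN
      right; right
      by_cases hd'N : d' ∈ N
      · -- then `d ∉ N`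
        have hdN : d ∉ N := by
          intro hdN
          apply hxN
          rcases hcls x hx with ⟨g, hg⟩ | ⟨g, hg⟩
          · rw [← hg]; exact hNn.conj_mem d hdN g
          · rw [← hg]; exact hNn.conj_mem d' hd'N g
        exact regular_two_mixed N hNne hNtr hreg' d' d hdN (fun y hy => (hcls y hy).symm) hnot1 hΩ
      · exact regular_two_mixed N hNne hNtr hreg' d d' hd'N hcls hnot1 hΩ
  · exfalso
    obtain ⟨d₁, d₂, d₃, h1, h2, h3, h12, h13, h23⟩ :=
      nonregular_three hquasi hnas N hNne hNmin hsolv α hreg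
    rcases hcls d₁ h1 with c1 | c1 <;> rcases hcls d₂ h2 with c2 | c2 <;>
      rcases hcls d₃ h3 with c3 | c3
    · obtain ⟨g, hg⟩ := conj_of_common c1 c2; exact h12 g hg
    · obtain ⟨g, hg⟩ := conj_of_common c1 c2; exact h12 g hg
    · obtain ⟨g, hg⟩ := conj_of_common c1 c3; exact h13 g hg
    · obtain ⟨g, hg⟩ := conj_of_common c2 c3; exact h23 g hg
    · obtain ⟨g, hg⟩ := conj_of_common c2 c3; exact h23 g hg
    · obtain ⟨g, hg⟩ := conj_of_common c1 c3; exact h13 g hg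
    · obtain ⟨g, hg⟩ := conj_of_common c1 c2; exact h12 g hg
    · obtain ⟨g, hg⟩ := conj_of_common c1 c2; exact h12 g hg

end Cfsg.Agent.Lib.Helper7.PUD
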