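import Mathlib

set_option autoImplicit false

/-!
# Counting with fixed points of permutation actions

Double counting for class functions weighted by fixed points, Burnside's lemma for subgroups
in filtered form.
-/

namespace Cfsg.Agent.Lib.Helper7.PermCount

open MulAction
open scoped Classical

section

variable {G : Type*} [Group G] [Fintype G] {Y : Type*} [Fintype Y] [MulAction G Y]

/-- number of fixed points -/
noncomputable def fx (Y : Type*) [Fintype Y] [MulAction G Y] (g : G) : ℕ :=
  ∑ y : Y, if g • y = y then 1 else 0

theorem fx_eq_card (g : G) : fx Y g = Nat.card (fixedBy Y g) := by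
  unfold fx
  rw [Nat.card_eq_fintype_card, ← Finset.card_filter]
  rw [← Fintype.card_subtype]
  rfl

theorem fx_conj (a g : G) : fx Y (a * g * a⁻¹) = fx Y g := by
  unfold fx
  apply Fintype.sum_equiv (MulAction.toPerm a⁻¹ : Equiv.Perm Y)
  intro y
  have : (a * g * a⁻¹) • y = y ↔ g • (a⁻¹ • y) = a⁻¹ • y := by
    rw [mul_smul, mul_smul]
    constructor
    · intro h
      rw [eq_inv_smul_iff]
      exact h
    · intro h
      rw [h, smul_inv_smul]
  simp only [MulAction.toPerm_apply]
  simp only [this]

/-- double counting of a class function against the number of fixed points of a transitive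
action -/
theorem sum_mul_fx [IsPretransitive G Y] (f : G → ℕ) (hf : ∀ a g, f (a * g * a⁻¹) = f g)
    (y₀ : Y) :
    ∑ g : G, f g * fx Y g = Fintype.card Y * ∑ g : G, if g • y₀ = y₀ then f g else 0 := by
  have hT : ∀ y : Y, (∑ g : G, if g • y = y then f g else 0) =
      ∑ g : G, if g • y₀ = y₀ then f g else 0 := by
    intro y
    obtain ⟨a, rfl⟩ := exists_smul_eq G y₀ y
    symm
    apply Fintype.sum_equiv (MulAut.conj a).toEquiv
    intro g
    have h1 : (MulAut.conj a).toEquiv g = a * g * a⁻¹ := rfl
    rw [h1, hf]
    have h2 : (a * g * a⁻¹) • a • y₀ = a • y₀ ↔ g • y₀ = y₀ := by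
      rw [mul_smul, mul_smul, inv_smul_smul]
      exact smul_left_cancel_iff a
    simp only [h2]
  calc ∑ g : G, f g * fx Y g = ∑ g : G, ∑ y : Y, if g • y = y then f g else 0 := by
        apply Finset.sum_congr rfl
        intro g _
        unfold fx
        rw [Finset.mul_sum]
        apply Finset.sum_congr rfl
        intro y _
        split_ifs <;> simp
    _ = ∑ y : Y, ∑ g : G, if g • y = y then f g else 0 := Finset.sum_comm
    _ = ∑ _y : Y, ∑ g : G, if g • y₀ = y₀ then f g else 0 :=
        Finset.sum_congr rfl (fun y _ => hT y)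
    _ = Fintype.card Y * ∑ g : G, if g • y₀ = y₀ then f g else 0 := by
        rw [Finset.sum_const, Finset.card_univ, smul_eq_mul]

/-- Burnside's lemma for a subgroup, as a filtered sum over the whole group -/
theorem burnside_subgroup (K : Subgroup G) :
    (∑ g : G, if g ∈ K then fx Y g else 0) =
      Nat.card (orbitRel.Quotient K Y) * Nat.card K := by
  haveI : Fintype (orbitRel.Quotient K Y) := Fintype.ofFinite _
  have h1 := MulAction.sum_card_fixedBy_eq_card_orbits_mul_card_group K Y
  rw [Nat.card_eq_fintype_card, Nat.card_eq_fintype_card, ← h1]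
  rw [← Finset.sum_filter]
  have h2 : ∑ k : K, Fintype.card (fixedBy Y k) = ∑ k : K, fx Y (k : G) := by
    apply Finset.sum_congr rfl
    intro k _
    rw [fx_eq_card, Nat.card_eq_fintype_card]
    rfl
  rw [h2]
  rw [← Finset.sum_subtype (Finset.univ.filter (fun g => g ∈ K)) (by simp) (fun g => fx Y g)]

end

end Cfsg.Agent.Lib.Helper7.PermCount
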