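import Mathlib
import Cfsg.Agent.Lib.Helper7.PClasses

set_option autoImplicit false

/-!
Assembling normal `q`-complements (`q ∈ τ`) into a normal `τ`-complement and an abelian
Hall `τ`-subgroup.
-/

namespace Cfsg.Agent.Lib.Helper7.PiAsm

variable {G : Type*} [Group G] [Finite G]

/-- facts about a normal `q`-complement -/
theorem npc_facts' (q : ℕ) [Fact q.Prime] (P0 : Sylow q G)
    (K : Subgroup G) (hc : K.IsComplement' (P0 : Subgroup G)) :
    ¬ q ∣ Nat.card K ∧ (∃ n : ℕ, K.index = q ^ n) := by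
  refine ⟨?_, ?_⟩
  · have h1 : (P0 : Subgroup G).index = Nat.card K := hc.index_eq_card
    rw [← h1]
    exact P0.not_dvd_index
  · have h1 : K.index = Nat.card (P0 : Subgroup G) := hc.symm.index_eq_card
    rw [h1]
    exact ⟨_, Sylow.card_eq_multiplicity P0⟩

/-- the intersection of normal `q`-complements, `q ∈ τ`, is a normal `τ`-complement -/
theorem exists_normal_compl (τ : Finset ℕ) (hτ : ∀ r ∈ τ, r.Prime)
    (K : ℕ → Subgroup G)
    (hK : ∀ q ∈ τ, (K q).Normal ∧ ¬ q ∣ Nat.card (K q) ∧ (∃ n : ℕ, (K q).index = q ^ n)) :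
    (⨅ q ∈ τ, K q).Normal ∧ (∀ r : ℕ, r.Prime → r ∣ Nat.card ↥(⨅ q ∈ τ, K q) → r ∉ τ) ∧
      ∀ r : ℕ, r.Prime → r ∣ (⨅ q ∈ τ, K q).index → r ∈ τ := by
  classical
  set N : Subgroup G := ⨅ q ∈ τ, K q with hN
  have hNn : N.Normal := by
    rw [hN]
    apply Subgroup.normal_iInf_normal
    intro q
    apply Subgroup.normal_iInf_normal
    intro hqτ
    exact (hK q hqτ).1
  have hNle : ∀ q ∈ τ, N ≤ K q := fun q hqτ => iInf₂_le q hqτ
  have hNmem : ∀ x : G, (∀ q ∈ τ, x ∈ K q) → x ∈ N := by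
    intro x hx
    rw [hN]
    simp only [Subgroup.mem_iInf]
    exact hx
  refine ⟨hNn, ?_, ?_⟩
  · intro r hr hrd hrτ
    exact (hK r hrτ).2.1 (hrd.trans (Subgroup.card_dvd_of_le (hNle r hrτ)))
  · intro r hr hrd
    by_contra hrτ
    haveI : Fact r.Prime := ⟨hr⟩
    obtain R : Sylow r G := default
    have hRN : (R : Subgroup G) ≤ N := by
      intro x hx
      apply hNmem
      intro q hqτ
      haveI := (hK q hqτ).1
      obtain ⟨n, hn⟩ := (hK q hqτ).2.2
      have h1 : x ^ (K q).index ∈ K q := Subgroup.pow_index_mem (K q) x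
      obtain ⟨j, hj⟩ := PCl.orderOf_of_mem R x hx
      have hrq : r ≠ q := fun h => hrτ (h ▸ hqτ)
      have hcop : Nat.Coprime ((K q).index) (orderOf x) := by
        rw [hn, hj]
        apply Nat.Coprime.pow
        exact (Nat.coprime_primes (hτ q hqτ) hr).mpr (Ne.symm hrq)
      obtain ⟨m, hm⟩ := exists_pow_eq_self_of_coprime hcop
      rw [← hm]
      exact Subgroup.pow_mem _ h1 m
    have := hrd.trans (Subgroup.index_dvd_of_le hRN)
    exact R.not_dvd_index this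

/-- if moreover all commutators lie in each `K q`, there is an abelian Hall `τ`-subgroup -/
theorem exists_abelian_hall (τ : Finset ℕ) (hτ : ∀ r ∈ τ, r.Prime)
    (K : ℕ → Subgroup G)
    (hK : ∀ q ∈ τ, (K q).Normal ∧ ¬ q ∣ Nat.card (K q) ∧ (∃ n : ℕ, (K q).index = q ^ n))
    (hcomm : ∀ q ∈ τ, ∀ a b : G, a * b * a⁻¹ * b⁻¹ ∈ K q) :
    ∃ H : Subgroup G, (∀ r : ℕ, r.Prime → r ∣ Nat.card H → r ∈ τ) ∧
      (∀ r : ℕ, r.Prime → r ∈ τ → ¬ r ∣ H.index) ∧ IsMulCommutative ↥H := by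
  classical
  obtain ⟨hNn, ha, hb⟩ := exists_normal_compl τ hτ K hK
  set N : Subgroup G := ⨅ q ∈ τ, K q with hN
  have hNmem : ∀ x : G, (∀ q ∈ τ, x ∈ K q) → x ∈ N := by
    intro x hx
    rw [hN]
    simp only [Subgroup.mem_iInf]
    exact hx
  have hcop : Nat.Coprime (Nat.card N) N.index := by
    apply Nat.coprime_of_dvd
    intro r hr h1 h2'
    exact ha r hr h1 (hb r hr h2')
  haveI := hNn
  obtain ⟨H, hH⟩ := Subgroup.exists_right_complement'_of_coprime hcop
  refine ⟨H, ?_, ?_, ?_⟩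
  · intro r hr hrd
    have h1 : N.index = Nat.card H := hH.symm.index_eq_card
    rw [← h1] at hrd
    exact hb r hr hrd
  · intro r hr hrτ hrd
    have h1 : H.index = Nat.card N := hH.index_eq_card
    rw [h1] at hrd
    exact ha r hr hrd hrτ
  · refine ⟨⟨fun a b => ?_⟩⟩
    apply Subtype.ext
    have h1 : (a : G) * b * (a : G)⁻¹ * (b : G)⁻¹ ∈ N := by
      apply hNmem
      intro q hqτ
      exact hcomm q hqτ a b
    have h2' : (a : G) * b * (a : G)⁻¹ * (b : G)⁻¹ ∈ H :=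
      Subgroup.mul_mem _ (Subgroup.mul_mem _ (Subgroup.mul_mem _ a.2 b.2)
        (Subgroup.inv_mem _ a.2)) (Subgroup.inv_mem _ b.2)
    have h3 : (a : G) * b * (a : G)⁻¹ * (b : G)⁻¹ ∈ N ⊓ H := Subgroup.mem_inf.mpr ⟨h1, h2'⟩
    rw [disjoint_iff.mp hH.disjoint, Subgroup.mem_bot] at h3
    show (a : G) * b = b * a
    calc (a : G) * b = ((a : G) * b * (a : G)⁻¹ * (b : G)⁻¹) * (b * a) := by group
      _ = b * a := by rw [h3, one_mul]

end Cfsg.Agent.Lib.Helper7.PiAsm
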