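import Mathlib
import Cfsg.Agent.Lib.Helper7.PiClass2

/-!
# `k_π(G) ≤ k_π(N) k_π(G/N)`
-/

set_option autoImplicit false

namespace Cfsg.Agent.Lib.Helper7.PiClass

variable {G : Type*} [Group G]

theorem mem_of_mk_eq (N : Subgroup G) [N.Normal] {a b : G}
    (h : QuotientGroup.mk' N a = QuotientGroup.mk' N b) : a⁻¹ * b ∈ N := by
  have h2 : (a : G ⧸ N) = (b : G ⧸ N) := h
  exact QuotientGroup.eq.mp h2

theorem mk_mul_of_mem (N : Subgroup G) [N.Normal] (a : G) {k : G} (hk : k ∈ N) :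
    QuotientGroup.mk' N (a * k) = QuotientGroup.mk' N a := by
  have h1 : QuotientGroup.mk' N k = 1 := by
    rw [QuotientGroup.mk'_apply]; exact (QuotientGroup.eq_one_iff k).mpr hk
  rw [map_mul, h1, mul_one]

/-- The commuting pairs over a given pair of cosets inject into the commuting pairs of `N`. -/
theorem fiber_le [Finite G] (π : Set ℕ) (N : Subgroup G) [N.Normal] (ab bb : G ⧸ N) :
    Nat.card {p : G × G // (QuotientGroup.mk' N p.1 = ab ∧ QuotientGroup.mk' N p.2 = bb) ∧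
        IsPi π p.1 ∧ p.1 * p.2 = p.2 * p.1} ≤
      Nat.card {p : N × N // IsPi π p.1 ∧ p.1 * p.2 = p.2 * p.1} := by
  classical
  -- choice functions
  have hy₀ : ∀ x : G, ∃ y₀ : G, (∃ y, QuotientGroup.mk' N y = bb ∧ x * y = y * x) →
      (QuotientGroup.mk' N y₀ = bb ∧ x * y₀ = y₀ * x) := by
    intro x
    by_cases h : ∃ y, QuotientGroup.mk' N y = bb ∧ x * y = y * x
    · obtain ⟨y, hy⟩ := h; exact ⟨y, fun _ => hy⟩
    · exact ⟨1, fun h' => absurd h' h⟩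
  choose y₀ hy₀ using hy₀
  have hx₀ : ∀ n : G, ∃ x₀ : G, (∃ x, QuotientGroup.mk' N x = ab ∧ x * n = n * x) →
      (QuotientGroup.mk' N x₀ = ab ∧ x₀ * n = n * x₀) := by
    intro n
    by_cases h : ∃ x, QuotientGroup.mk' N x = ab ∧ x * n = n * x
    · obtain ⟨x, hx⟩ := h; exact ⟨x, fun _ => hx⟩
    · exact ⟨1, fun h' => absurd h' h⟩
  choose x₀ hx₀ using hx₀
  -- the data attached to a pair in the fibre
  have key : ∀ x y : G, QuotientGroup.mk' N x = ab → QuotientGroup.mk' N y = bb → IsPi π x →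
      x * y = y * x →
      ((y₀ x)⁻¹ * y ∈ N ∧ Commute x ((y₀ x)⁻¹ * y) ∧
        (x₀ (piPart π ((y₀ x)⁻¹ * y)))⁻¹ * (x * piPart' π ((y₀ x)⁻¹ * y)) ∈ N ∧
        Commute (piPart π ((y₀ x)⁻¹ * y))
          ((x₀ (piPart π ((y₀ x)⁻¹ * y)))⁻¹ * (x * piPart' π ((y₀ x)⁻¹ * y)))) := by
    intro x y hx hy hxπ hxy
    obtain ⟨h1, h2⟩ := hy₀ x ⟨y, hy, hxy⟩
    have hnN : (y₀ x)⁻¹ * y ∈ N := mem_of_mk_eq N (h1.trans hy.symm)
    have hnx : Commute x ((y₀ x)⁻¹ * y) :=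
      Commute.mul_right (Commute.inv_right h2) hxy
    obtain ⟨n, hn⟩ : ∃ n, n = (y₀ x)⁻¹ * y := ⟨_, rfl⟩
    rw [← hn] at hnN hnx ⊢
    have hx' : QuotientGroup.mk' N (x * piPart' π n) = ab := by
      rw [mk_mul_of_mem N x (piPart'_mem π hnN), hx]
    have hc1 : Commute (x * piPart' π n) (piPart π n) :=
      Commute.mul_left (commute_piPart π hnx) (commute_piPart_piPart' π n).symm
    obtain ⟨h3, h4⟩ := hx₀ (piPart π n) ⟨x * piPart' π n, hx', hc1⟩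
    refine ⟨hnN, hnx, mem_of_mk_eq N (h3.trans hx'.symm), ?_⟩
    exact Commute.mul_right (Commute.inv_right (Commute.symm h4)) hc1.symm
  -- the map
  let J : {p : G × G // (QuotientGroup.mk' N p.1 = ab ∧ QuotientGroup.mk' N p.2 = bb) ∧
        IsPi π p.1 ∧ p.1 * p.2 = p.2 * p.1} →
      {p : N × N // IsPi π p.1 ∧ p.1 * p.2 = p.2 * p.1} := fun p =>
    ⟨(⟨piPart π ((y₀ p.1.1)⁻¹ * p.1.2),
        piPart_mem π (key p.1.1 p.1.2 p.2.1.1 p.2.1.2 p.2.2.1 p.2.2.2).1⟩,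
      ⟨(x₀ (piPart π ((y₀ p.1.1)⁻¹ * p.1.2)))⁻¹ * (p.1.1 * piPart' π ((y₀ p.1.1)⁻¹ * p.1.2)),
        (key p.1.1 p.1.2 p.2.1.1 p.2.1.2 p.2.2.1 p.2.2.2).2.2.1⟩), by
      constructor
      · unfold IsPi
        rw [Subgroup.orderOf_mk]
        exact isPi_piPart π _
      · apply Subtype.ext
        exact (key p.1.1 p.1.2 p.2.1.1 p.2.1.2 p.2.2.1 p.2.2.2).2.2.2⟩
  apply Nat.card_le_card_of_injective J
  rintro ⟨⟨x₁, y₁⟩, ⟨hx₁, hy₁⟩, hπ₁, hc₁⟩ ⟨⟨x₂, y₂⟩, ⟨hx₂, hy₂⟩, hπ₂, hc₂⟩ hJ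
  simp only at hx₁ hy₁ hπ₁ hc₁ hx₂ hy₂ hπ₂ hc₂
  have hJ1 : piPart π ((y₀ x₁)⁻¹ * y₁) = piPart π ((y₀ x₂)⁻¹ * y₂) := by
    have := congrArg (fun q => ((q.1.1 : N) : G)) hJ
    exact this
  have hJ2 : (x₀ (piPart π ((y₀ x₁)⁻¹ * y₁)))⁻¹ * (x₁ * piPart' π ((y₀ x₁)⁻¹ * y₁)) =
      (x₀ (piPart π ((y₀ x₂)⁻¹ * y₂)))⁻¹ * (x₂ * piPart' π ((y₀ x₂)⁻¹ * y₂)) := by
    have := congrArg (fun q => ((q.1.2 : N) : G)) hJ
    exact this
  obtain ⟨_, hnx₁, _, _⟩ := key x₁ y₁ hx₁ hy₁ hπ₁ hc₁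
  obtain ⟨_, hnx₂, _, _⟩ := key x₂ y₂ hx₂ hy₂ hπ₂ hc₂
  rw [hJ1] at hJ2
  have hx' : x₁ * piPart' π ((y₀ x₁)⁻¹ * y₁) = x₂ * piPart' π ((y₀ x₂)⁻¹ * y₂) :=
    mul_left_cancel hJ2
  have e1 : piPart π (x₁ * piPart' π ((y₀ x₁)⁻¹ * y₁)) = x₁ :=
    piPart_mul (commute_piPart' π hnx₁) hπ₁ (isPi'_piPart' π _)
  have e2 : piPart π (x₂ * piPart' π ((y₀ x₂)⁻¹ * y₂)) = x₂ :=
    piPart_mul (commute_piPart' π hnx₂) hπ₂ (isPi'_piPart' π _)
  have e3 : piPart' π (x₁ * piPart' π ((y₀ x₁)⁻¹ * y₁)) = piPart' π ((y₀ x₁)⁻¹ * y₁) :=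
    piPart'_mul (commute_piPart' π hnx₁) hπ₁ (isPi'_piPart' π _)
  have e4 : piPart' π (x₂ * piPart' π ((y₀ x₂)⁻¹ * y₂)) = piPart' π ((y₀ x₂)⁻¹ * y₂) :=
    piPart'_mul (commute_piPart' π hnx₂) hπ₂ (isPi'_piPart' π _)
  have hx : x₁ = x₂ := by rw [← e1, ← e2, hx']
  have hw : piPart' π ((y₀ x₁)⁻¹ * y₁) = piPart' π ((y₀ x₂)⁻¹ * y₂) := by
    rw [← e3, ← e4, hx']
  have hn : (y₀ x₁)⁻¹ * y₁ = (y₀ x₂)⁻¹ * y₂ := by
    rw [← piPart_mul_piPart' π ((y₀ x₁)⁻¹ * y₁), ← piPart_mul_piPart' π ((y₀ x₂)⁻¹ * y₂), hJ1, hw]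
  have hy : y₁ = y₂ := by
    rw [hx] at hn
    exact mul_left_cancel hn
  apply Subtype.ext
  simp only [hx, hy]

theorem isPi_map {H : Type*} [Group H] (π : Set ℕ) (f : G →* H) {x : G} (hx : IsPi π x) :
    IsPi π (f x) := fun q hq hqd => hx q hq (hqd.trans (orderOf_map_dvd f x))

theorem pairs_le [Finite G] (π : Set ℕ) (N : Subgroup G) [N.Normal] :
    Nat.card {p : G × G // IsPi π p.1 ∧ p.1 * p.2 = p.2 * p.1} ≤
      Nat.card {p : N × N // IsPi π p.1 ∧ p.1 * p.2 = p.2 * p.1} *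
        Nat.card {p : (G ⧸ N) × (G ⧸ N) // IsPi π p.1 ∧ p.1 * p.2 = p.2 * p.1} := by
  let F : {p : G × G // IsPi π p.1 ∧ p.1 * p.2 = p.2 * p.1} →
      {p : (G ⧸ N) × (G ⧸ N) // IsPi π p.1 ∧ p.1 * p.2 = p.2 * p.1} := fun p =>
    ⟨(QuotientGroup.mk' N p.1.1, QuotientGroup.mk' N p.1.2), isPi_map π _ p.2.1, by
      simp only
      rw [← map_mul, ← map_mul, p.2.2]⟩
  apply card_le_of_fibers F
  intro b
  refine le_trans ?_ (fiber_le π N b.1.1 b.1.2)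
  let I : {a : {p : G × G // IsPi π p.1 ∧ p.1 * p.2 = p.2 * p.1} // F a = b} →
      {p : G × G // (QuotientGroup.mk' N p.1 = b.1.1 ∧ QuotientGroup.mk' N p.2 = b.1.2) ∧
        IsPi π p.1 ∧ p.1 * p.2 = p.2 * p.1} := fun a =>
    ⟨a.1.1, ⟨congrArg (fun q => q.1.1) a.2, congrArg (fun q => q.1.2) a.2⟩, a.1.2⟩
  apply Nat.card_le_card_of_injective I
  intro a₁ a₂ h
  apply Subtype.ext
  apply Subtype.ext
  exact congrArg (fun q => q.1) h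

theorem classes_le [Finite G] (π : Set ℕ) (N : Subgroup G) [N.Normal] :
    Nat.card {C : ConjClasses G // ∀ g, ConjClasses.mk g = C → IsPi π g} ≤
      Nat.card {C : ConjClasses N // ∀ g, ConjClasses.mk g = C → IsPi π g} *
        Nat.card {C : ConjClasses (G ⧸ N) // ∀ g, ConjClasses.mk g = C → IsPi π g} := by
  have hG := card_pairs_eq (G := G) (IsPi π) (isPi_conj π)
  have hN := card_pairs_eq (G := N) (IsPi π) (isPi_conj π)
  have hQ := card_pairs_eq (G := G ⧸ N) (IsPi π) (isPi_conj π)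
  have hle := pairs_le π N
  rw [hG, hN, hQ] at hle
  have hcard : Nat.card G = Nat.card (G ⧸ N) * Nat.card N :=
    Subgroup.card_eq_card_quotient_mul_card_subgroup N
  have hpos : 0 < Nat.card G := Nat.card_pos
  apply Nat.le_of_mul_le_mul_left _ hpos
  calc Nat.card G * Nat.card {C : ConjClasses G // ∀ g, ConjClasses.mk g = C → IsPi π g}
      ≤ Nat.card N * Nat.card {C : ConjClasses N // ∀ g, ConjClasses.mk g = C → IsPi π g} *
        (Nat.card (G ⧸ N) *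
          Nat.card {C : ConjClasses (G ⧸ N) // ∀ g, ConjClasses.mk g = C → IsPi π g}) := hle
    _ = Nat.card G * (Nat.card {C : ConjClasses N // ∀ g, ConjClasses.mk g = C → IsPi π g} *
        Nat.card {C : ConjClasses (G ⧸ N) // ∀ g, ConjClasses.mk g = C → IsPi π g}) := by
      rw [hcard]; ring

end Cfsg.Agent.Lib.Helper7.PiClass
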