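import Mathlib
import Cfsg.Agent.Lib.Helper7.PClasses

set_option autoImplicit false

/-!
Counting conjugacy classes of `π`-elements: `k_π(X) ≤ k_q(X) · |X|_{π - q}`.
-/

namespace Cfsg.Agent.Lib.Helper7.PiCl

universe u

open Cfsg.Agent.Lib.Helper7

/-- classes of `σ`-elements -/
abbrev Cl (σ : Finset ℕ) (X : Type*) [Group X] :=
  {c : ConjClasses X // ∀ x ∈ c.carrier, ∀ r : ℕ, r.Prime → r ∣ orderOf x → r ∈ σ}

/-- the `σ`-part of a number -/
def part (σ : Finset ℕ) (n : ℕ) : ℕ := ∏ r ∈ σ, r ^ n.factorization r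

theorem part_le_of_dvd (σ : Finset ℕ) {a b : ℕ} (hab : a ∣ b) (hb : b ≠ 0) :
    part σ a ≤ part σ b := by
  have ha : a ≠ 0 := fun h => hb (by rw [h] at hab; exact Nat.eq_zero_of_zero_dvd hab)
  unfold part
  apply Finset.prod_le_prod'
  intro r _
  have := (Nat.factorization_le_iff_dvd ha hb).mpr hab r
  by_cases hr : r = 0
  · subst hr; simp
  · exact Nat.pow_le_pow_right (Nat.pos_of_ne_zero hr) this

theorem orderOf_conj_eq {X : Type*} [Group X] (h x : X) : orderOf (h * x * h⁻¹) = orderOf x := by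
  have hsc : SemiconjBy h x (h * x * h⁻¹) := by
    unfold SemiconjBy
    group
  exact (hsc.orderOf_eq h).symm

/-- decomposition into `q`-part and `q'`-part -/
theorem exists_decomp {X : Type*} [Group X] [Finite X] (q : ℕ) (hq : q.Prime) (g : X) :
    ∃ u v : X, g = u * v ∧ u ∈ Subgroup.zpowers g ∧ v ∈ Subgroup.zpowers g ∧
      (∃ k : ℕ, orderOf u = q ^ k) ∧ Nat.Coprime (orderOf v) q := by
  have hn : orderOf g ≠ 0 := (orderOf_pos g).ne'
  obtain ⟨k, m, hm, hkm⟩ := Nat.exists_eq_pow_mul_and_not_dvd hn q hq.one_lt.ne'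
  have hcop : Nat.Coprime (q ^ k) m :=
    Nat.Coprime.pow_left k ((Nat.Prime.coprime_iff_not_dvd hq).mpr hm)
  obtain ⟨a, b, hab⟩ := Nat.Coprime.isCoprime hcop
  refine ⟨g ^ (b * (m : ℤ)), g ^ (a * ((q ^ k : ℕ) : ℤ)), ?_, Subgroup.zpow_mem_zpowers g _,
    Subgroup.zpow_mem_zpowers g _, ?_, ?_⟩
  · rw [← zpow_add, add_comm, hab, zpow_one]
  · have h1 : (g ^ (b * (m : ℤ))) ^ (q ^ k) = 1 := by
      rw [← zpow_natCast, ← zpow_mul]
      have : b * (m : ℤ) * ((q ^ k : ℕ) : ℤ) = b * ((orderOf g : ℕ) : ℤ) := by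
        rw [hkm]; push_cast; ring
      rw [this, zpow_mul', zpow_natCast, pow_orderOf_eq_one, one_zpow]
    have h2 : orderOf (g ^ (b * (m : ℤ))) ∣ q ^ k := orderOf_dvd_of_pow_eq_one h1
    obtain ⟨j, _, hj⟩ := (Nat.dvd_prime_pow hq).mp h2
    exact ⟨j, hj⟩
  · have h1 : (g ^ (a * (q ^ k : ℕ) : ℤ)) ^ m = 1 := by
      rw [← zpow_natCast, ← zpow_mul]
      have : a * ((q ^ k : ℕ) : ℤ) * (m : ℤ) = a * ((orderOf g : ℕ) : ℤ) := by
        rw [hkm]; push_cast; ring
      rw [this, zpow_mul', zpow_natCast, pow_orderOf_eq_one, one_zpow]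
    have h2 : orderOf (g ^ (a * (q ^ k : ℕ) : ℤ)) ∣ m := orderOf_dvd_of_pow_eq_one h1
    exact Nat.Coprime.coprime_dvd_left h2 ((Nat.Prime.coprime_iff_not_dvd hq).mpr hm).symm

section step

variable {X : Type u} [Group X] [Finite X] (q : ℕ) [hq : Fact q.Prime] (σ : Finset ℕ)

/-- a representative of a class of `q`-elements -/
noncomputable def rep (c : PCl.Cl q X) : X := Quotient.out c.1

theorem mk_rep (c : PCl.Cl q X) : ConjClasses.mk (rep q c) = c.1 := Quotient.out_eq c.1

theorem orderOf_rep (c : PCl.Cl q X) : ∃ k : ℕ, orderOf (rep q c) = q ^ k := by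
  apply c.2
  rw [ConjClasses.mem_carrier_iff_mk_eq, mk_rep]

/-- the map used in the counting -/
noncomputable def Φ (x : Σ c : PCl.Cl q X, Cl σ (Subgroup.centralizer ({rep q c} : Set X))) :
    Cl (insert q σ) X :=
  ⟨ConjClasses.mk (rep q x.1 * ((Quotient.out x.2.1 : Subgroup.centralizer
      ({rep q x.1} : Set X)) : X)), by
    intro y hy r hr hry
    rw [PCl.mem_carrier_iff] at hy
    obtain ⟨h, hh⟩ := isConj_iff.mp hy
    rw [← hh, orderOf_conj_eq] at hry
    set v : Subgroup.centralizer ({rep q x.1} : Set X) := Quotient.out x.2.1 with hv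
    have hcomm : Commute (rep q x.1) (v : X) := by
      have := v.2
      rw [Subgroup.mem_centralizer_singleton_iff] at this
      exact this.symm
    have h1 := hry.trans hcomm.orderOf_mul_dvd_mul_orderOf
    rcases (Nat.Prime.dvd_mul hr).mp h1 with h2 | h2
    · obtain ⟨k, hk⟩ := orderOf_rep q x.1
      rw [hk] at h2
      have := (Nat.prime_dvd_prime_iff_eq hr hq.out).mp (hr.dvd_of_dvd_pow h2)
      rw [this]
      exact Finset.mem_insert_self _ _
    · apply Finset.mem_insert_of_mem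
      have hmem : v ∈ x.2.1.carrier := by
        rw [ConjClasses.mem_carrier_iff_mk_eq]
        exact Quotient.out_eq x.2.1
      apply x.2.2 v hmem r hr
      rw [Subgroup.orderOf_coe] at h2
      exact h2⟩

theorem Φ_surjective (hqσ : q ∉ σ) : Function.Surjective (Φ (X := X) q σ) := by
  rintro ⟨e, he⟩
  obtain ⟨g, rfl⟩ := ConjClasses.exists_rep e
  have hg := he g (by rw [PCl.mem_carrier_iff])
  obtain ⟨u, v, huv, hu, hv, ⟨k, hk⟩, hcop⟩ := exists_decomp q hq.out g
  -- the class of u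
  let c : PCl.Cl q X := ⟨ConjClasses.mk u, by
    intro y hy
    rw [PCl.mem_carrier_iff] at hy
    obtain ⟨h, hh⟩ := isConj_iff.mp hy
    refine ⟨k, ?_⟩
    rw [← hh, orderOf_conj_eq, hk]⟩
  have hc : ConjClasses.mk (rep q c) = ConjClasses.mk u := mk_rep q c
  rw [ConjClasses.mk_eq_mk_iff_isConj, isConj_comm, isConj_iff] at hc
  obtain ⟨h, hh⟩ := hc
  -- u and v commute
  have huvc : Commute u v := by
    obtain ⟨i, rfl⟩ := Subgroup.mem_zpowers_iff.mp hu
    obtain ⟨j, rfl⟩ := Subgroup.mem_zpowers_iff.mp hv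
    exact (Commute.refl g).zpow_zpow i j
  have hvmem : h * v * h⁻¹ ∈ Subgroup.centralizer ({rep q c} : Set X) := by
    rw [Subgroup.mem_centralizer_singleton_iff, ← hh]
    have := huvc.eq
    calc h * v * h⁻¹ * (h * u * h⁻¹) = h * (v * u) * h⁻¹ := by group
      _ = h * (u * v) * h⁻¹ := by rw [this]
      _ = h * u * h⁻¹ * (h * v * h⁻¹) := by group
  let v' : Subgroup.centralizer ({rep q c} : Set X) := ⟨h * v * h⁻¹, hvmem⟩
  let d : Cl σ (Subgroup.centralizer ({rep q c} : Set X)) := ⟨ConjClasses.mk v', by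
    intro y hy r hr hry
    rw [PCl.mem_carrier_iff] at hy
    obtain ⟨w, hw⟩ := isConj_iff.mp hy
    rw [← hw, orderOf_conj_eq, ← Subgroup.orderOf_coe] at hry
    have hry' : r ∣ orderOf v := by
      have : ((v' : Subgroup.centralizer ({rep q c} : Set X)) : X) = h * v * h⁻¹ := rfl
      rw [this, orderOf_conj_eq] at hry
      exact hry
    have h1 : r ∣ orderOf g := hry'.trans (orderOf_dvd_of_mem_zpowers hv)
    have h2 := hg r hr h1
    rcases Finset.mem_insert.mp h2 with h3 | h3
    · exfalso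
      rw [h3] at hry'
      have := Nat.dvd_gcd hry' (dvd_refl q)
      rw [hcop] at this
      exact hq.out.one_lt.ne' (Nat.dvd_one.mp this)
    · exact h3⟩
  refine ⟨⟨c, d⟩, ?_⟩
  apply Subtype.ext
  show ConjClasses.mk (rep q c * ((Quotient.out d.1 : Subgroup.centralizer
      ({rep q c} : Set X)) : X)) = ConjClasses.mk g
  have hd : ConjClasses.mk (Quotient.out d.1 : Subgroup.centralizer ({rep q c} : Set X))
      = ConjClasses.mk v' := Quotient.out_eq d.1
  rw [ConjClasses.mk_eq_mk_iff_isConj, isConj_comm, isConj_iff] at hd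
  obtain ⟨w, hw⟩ := hd
  have hw' : (w : X) * (h * v * h⁻¹) * (w : X)⁻¹ = ((Quotient.out d.1 :
      Subgroup.centralizer ({rep q c} : Set X)) : X) := congrArg Subtype.val hw
  have hwc : (w : X) * rep q c * (w : X)⁻¹ = rep q c := by
    have := w.2
    rw [Subgroup.mem_centralizer_singleton_iff] at this
    rw [this]; group
  rw [ConjClasses.mk_eq_mk_iff_isConj, isConj_comm, isConj_iff]
  refine ⟨(w : X) * h, ?_⟩
  rw [← hw', huv]
  calc (w : X) * h * (u * v) * ((w : X) * h)⁻¹
      = ((w : X) * (h * u * h⁻¹) * (w : X)⁻¹) * ((w : X) * (h * v * h⁻¹) * (w : X)⁻¹) := by group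
    _ = rep q c * ((w : X) * (h * v * h⁻¹) * (w : X)⁻¹) := by rw [hh, hwc]

/-- the inductive step -/
theorem card_insert_le (hqσ : q ∉ σ)
    (hA : ∀ (Y : Type u) [Group Y] [Finite Y], Nat.card (Cl σ Y) ≤ part σ (Nat.card Y)) :
    Nat.card (Cl (insert q σ) X) ≤ Nat.card (PCl.Cl q X) * part σ (Nat.card X) := by
  classical
  have h1 := Nat.card_le_card_of_surjective _ (Φ_surjective (X := X) q σ hqσ)
  haveI : Fintype (PCl.Cl q X) := Fintype.ofFinite _
  rw [Nat.card_sigma] at h1
  refine h1.trans ?_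
  have h2 : ∀ c : PCl.Cl q X, Nat.card (Cl σ (Subgroup.centralizer ({rep q c} : Set X)))
      ≤ part σ (Nat.card X) := by
    intro c
    refine (hA _).trans ?_
    exact part_le_of_dvd σ (Subgroup.card_subgroup_dvd_card _) Nat.card_pos.ne'
  calc ∑ c : PCl.Cl q X, Nat.card (Cl σ (Subgroup.centralizer ({rep q c} : Set X)))
      ≤ ∑ _c : PCl.Cl q X, part σ (Nat.card X) := Finset.sum_le_sum fun c _ => h2 c
    _ = Nat.card (PCl.Cl q X) * part σ (Nat.card X) := by
        rw [Finset.sum_const, Finset.card_univ, smul_eq_mul,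
          Nat.card_eq_fintype_card (α := PCl.Cl q X)]

end step

/-- `k_σ(X) ≤ |X|_σ` -/
theorem card_le_part (σ : Finset ℕ) (hσ : ∀ r ∈ σ, r.Prime) :
    ∀ (X : Type u) [Group X] [Finite X], Nat.card (Cl σ X) ≤ part σ (Nat.card X) := by
  induction σ using Finset.induction_on with
  | empty =>
    intro X _ _
    have : Subsingleton (Cl ∅ X) := by
      constructor
      rintro ⟨c, hc⟩ ⟨c', hc'⟩
      apply Subtype.ext
      show c = c'
      obtain ⟨g, rfl⟩ := ConjClasses.exists_rep c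
      obtain ⟨g', rfl⟩ := ConjClasses.exists_rep c'
      have h1 : orderOf g = 1 := by
        by_contra hne
        obtain ⟨r, hr, hrd⟩ := Nat.exists_prime_and_dvd hne
        exact absurd (hc g (by rw [PCl.mem_carrier_iff]) r hr hrd) (Finset.notMem_empty r)
      have h2 : orderOf g' = 1 := by
        by_contra hne
        obtain ⟨r, hr, hrd⟩ := Nat.exists_prime_and_dvd hne
        exact absurd (hc' g' (by rw [PCl.mem_carrier_iff]) r hr hrd) (Finset.notMem_empty r)
      rw [orderOf_eq_one_iff.mp h1, orderOf_eq_one_iff.mp h2]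
    have h1 : Nat.card (Cl ∅ X) ≤ 1 := Finite.card_le_one_iff_subsingleton.mpr this
    simpa [part] using h1
  | insert q σ hqσ ih =>
    intro X _ _
    have hq : q.Prime := hσ q (Finset.mem_insert_self q σ)
    haveI : Fact q.Prime := ⟨hq⟩
    have hσ' : ∀ r ∈ σ, r.Prime := fun r hr => hσ r (Finset.mem_insert_of_mem hr)
    have h1 := card_insert_le (X := X) q σ hqσ (ih hσ')
    refine h1.trans ?_
    have h2 : Nat.card (PCl.Cl q X) ≤ q ^ (Nat.card X).factorization q := by
      obtain P : Sylow q X := default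
      have := Nat.card_le_card_of_surjective _ (PCl.clOf_surjective P)
      rw [Sylow.card_eq_multiplicity] at this
      exact this
    unfold part
    rw [Finset.prod_insert hqσ]
    exact Nat.mul_le_mul_right _ h2

/-- the reduction to a single prime -/
theorem card_le_mul (π : Finset ℕ) (hπ : ∀ r ∈ π, r.Prime) (q : ℕ) (hq : q ∈ π)
    (X : Type u) [Group X] [Finite X] [Fact q.Prime] :
    Nat.card (Cl π X) ≤ Nat.card (PCl.Cl q X) * part (π.erase q) (Nat.card X) := by
  have h1 := card_insert_le (X := X) q (π.erase q) (Finset.notMem_erase q π)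
    (card_le_part (π.erase q) (fun r hr => hπ r (Finset.mem_of_mem_erase hr)))
  rw [Finset.insert_erase hq] at h1
  exact h1

end Cfsg.Agent.Lib.Helper7.PiCl
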