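import Mathlib
import Cfsg.Agent.Lib.Helper7.PiClosed1

set_option autoImplicit false

/-! # π-closed groups: π-elements centralize a normal π'-subgroup -/

namespace Cfsg.Agent.Lib.Helper7.PiClosed

universe u

variable {G : Type u} [Group G]

open scoped Pointwise

/-- A `q`-element fixes a Sylow `r`-subgroup of a normal `q'`-subgroup. -/
theorem exists_fixed_sylow [Finite G] (K : Subgroup G) [K.Normal] (r q : ℕ) [Fact r.Prime]
    [Fact q.Prime] (hq : ¬ q ∣ Nat.card K) (x : G) (hx : ∃ k : ℕ, orderOf x = q ^ k) :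
    ∃ R : Sylow r K,
      x ∈ Subgroup.normalizer ((((R : Subgroup K).map K.subtype : Subgroup G)) : Set G) := by
  set Z : Subgroup (ConjAct G) := Subgroup.zpowers (ConjAct.toConjAct x) with hZ
  have hZp : IsPGroup q Z := by
    obtain ⟨k, hk⟩ := hx
    apply IsPGroup.of_card (n := k)
    rw [hZ, Nat.card_zpowers]
    have : orderOf (ConjAct.toConjAct x) = orderOf x := MulEquiv.orderOf_eq ConjAct.toConjAct x
    rw [this, hk]
  have hcard : ¬ q ∣ Nat.card (Sylow r K) := by
    intro h
    apply hq
    have P : Sylow r K := default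
    exact h.trans ((Sylow.card_dvd_index P).trans (Subgroup.index_dvd_card _))
  obtain ⟨R, hR⟩ := hZp.nonempty_fixed_point_of_prime_not_dvd_card (Sylow r K) hcard
  refine ⟨R, ?_⟩
  have hfix : ConjAct.toConjAct x • R = R :=
    hR ⟨ConjAct.toConjAct x, Subgroup.mem_zpowers _⟩
  apply Subgroup.mem_normalizer_fintype
  rintro n ⟨y, hy, rfl⟩
  have h1 : ConjAct.toConjAct x • y ∈ ConjAct.toConjAct x • (R : Subgroup K) :=
    Subgroup.smul_mem_pointwise_smul _ _ _ hy
  have h2 : (ConjAct.toConjAct x • R : Sylow r K) = ConjAct.toConjAct x • (R : Subgroup K) := rfl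
  rw [← h2, hfix] at h1
  refine ⟨ConjAct.toConjAct x • y, h1, ?_⟩
  show ((ConjAct.toConjAct x • y : K) : G) = x * (y : G) * x⁻¹
  rw [ConjAct.Subgroup.val_conj_smul, ConjAct.smul_def]
  simp

/-- Under `Hom'`, every `q`-element (`q ∈ π`) centralizes a normal π'-subgroup. -/
theorem prime_elt_mem_centralizer [Finite G] (π : Set ℕ) (hhom : Hom' π G)
    (K : Subgroup G) [K.Normal] (hK : ∀ p : ℕ, p.Prime → p ∣ Nat.card K → p ∉ π)
    (q : ℕ) (hq : q.Prime) (hqπ : q ∈ π) (x : G) (hx : ∃ k : ℕ, orderOf x = q ^ k) :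
    x ∈ Subgroup.centralizer (K : Set G) := by
  haveI : Fact q.Prime := ⟨hq⟩
  have hqK : ¬ q ∣ Nat.card K := fun h => hK q hq h hqπ
  have hle : K ≤ Subgroup.centralizer ({x} : Set G) := by
    apply le_of_forall_sylow
    intro r hr
    haveI : Fact r.Prime := ⟨hr⟩
    by_cases hrπ : r ∈ π
    · refine ⟨⊥, bot_le, bot_le, ?_⟩
      rw [Subgroup.relIndex_bot_left]
      exact fun h => hK r hr h hrπ
    · obtain ⟨R, hR⟩ := exists_fixed_sylow K r q hqK x hx
      refine ⟨(R : Subgroup K).map K.subtype, Subgroup.map_subtype_le _, ?_,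
        sylow_map_relIndex K r R⟩
      have hc := hhom r hr hrπ _ (R.isPGroup'.map K.subtype) q hq hqπ x hR hx
      intro y hy
      rw [Subgroup.mem_centralizer_iff]
      intro z hz
      rw [Set.mem_singleton_iff] at hz
      subst hz
      rw [Subgroup.mem_centralizer_iff] at hc
      exact (hc y hy).symm
  rw [Subgroup.mem_centralizer_iff]
  intro y hy
  have := hle hy
  rw [Subgroup.mem_centralizer_iff] at this
  exact (this x rfl).symm

/-- Under `Hom'`, every π-element centralizes a normal π'-subgroup. -/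
theorem piElt_mem_centralizer [Finite G] (π : Set ℕ) (hhom : Hom' π G)
    (K : Subgroup G) [K.Normal] (hK : ∀ p : ℕ, p.Prime → p ∣ Nat.card K → p ∉ π)
    (x : G) (hx : IsPiElt π x) : x ∈ Subgroup.centralizer (K : Set G) := by
  have hle : Subgroup.zpowers x ≤ Subgroup.centralizer (K : Set G) := by
    apply le_of_forall_sylow
    intro r hr
    haveI : Fact r.Prime := ⟨hr⟩
    have P : Sylow r (Subgroup.zpowers x) := default
    refine ⟨(P : Subgroup (Subgroup.zpowers x)).map (Subgroup.zpowers x).subtype,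
      Subgroup.map_subtype_le _, ?_, sylow_map_relIndex _ r P⟩
    rintro y ⟨z, hz, rfl⟩
    obtain ⟨k, hk⟩ := (IsPGroup.iff_orderOf.1 P.isPGroup') ⟨z, hz⟩
    have hk' : orderOf ((Subgroup.zpowers x).subtype z) = r ^ k := by
      have h1 : orderOf (⟨z, hz⟩ : (P : Subgroup (Subgroup.zpowers x))) = orderOf z :=
        (Subgroup.orderOf_coe (H := (P : Subgroup (Subgroup.zpowers x))) ⟨z, hz⟩).symm
      rw [h1] at hk
      have h2 : orderOf ((Subgroup.zpowers x).subtype z) = orderOf z :=
        Subgroup.orderOf_coe z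
      rw [h2, hk]
    rcases Nat.eq_zero_or_pos k with hk0 | hk0
    · subst hk0
      rw [pow_zero, orderOf_eq_one_iff] at hk'
      rw [hk']; exact Subgroup.one_mem _
    · have hrx : r ∣ orderOf x := by
        have h3 : orderOf ((Subgroup.zpowers x).subtype z) ∣ orderOf x := by
          have h4 : orderOf z ∣ Nat.card (Subgroup.zpowers x) := orderOf_dvd_natCard z
          rw [Nat.card_zpowers] at h4
          have h2 : orderOf ((Subgroup.zpowers x).subtype z) = orderOf z :=
            Subgroup.orderOf_coe z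
          rw [h2]; exact h4
        rw [hk'] at h3
        exact (dvd_pow_self r hk0.ne').trans h3
      exact prime_elt_mem_centralizer π hhom K hK r hr (hx r hr hrx) _ ⟨k, hk'⟩
  exact hle (Subgroup.mem_zpowers x)

end Cfsg.Agent.Lib.Helper7.PiClosed
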