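import Mathlib
import Cfsg.Agent.Lib.Helper7.PiClosed2

set_option autoImplicit false

/-! # π-closed groups: Lemma B -/

namespace Cfsg.Agent.Lib.Helper7.PiClosed

universe u

variable {G : Type u} [Group G]

/-- Lemma B: a normal π'-subgroup with π-closed quotient, under `Hom'`. -/
theorem piClosed_of_normal_pi' [Finite G] (π : Set ℕ) (hhom : Hom' π G)
    (K : Subgroup G) [K.Normal] (hK : ∀ p : ℕ, p.Prime → p ∣ Nat.card K → p ∉ π)
    (hQ : PiClosed π (G ⧸ K)) : PiClosed π G := by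
  obtain ⟨T, hT⟩ := hQ
  set φ := QuotientGroup.mk' K with hφ
  set C := Subgroup.centralizer (K : Set G) with hC
  set M := T.comap φ with hM
  set C₁ := C ⊓ M with hC₁
  set Z : Subgroup C₁ := K.subgroupOf C₁ with hZ
  haveI : Z.Normal := Subgroup.normal_subgroupOf
  -- Z is central
  have hZc : ∀ z ∈ Z, ∀ c : C₁, c * z = z * c := by
    intro z hz c
    apply Subtype.ext
    have h1 : (c : G) ∈ C := c.2.1
    rw [hC, Subgroup.mem_centralizer_iff] at h1
    have h2 : (z : G) ∈ K := hz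
    simpa using (h1 _ h2).symm
  -- primes of |Z| are outside π
  have hZπ : ∀ p : ℕ, p.Prime → p ∣ Nat.card Z → p ∉ π := by
    intro p hp hpZ
    haveI : Fact p.Prime := ⟨hp⟩
    obtain ⟨z, hz⟩ := exists_prime_orderOf_dvd_card' p hpZ
    have h2 : ((z : C₁) : G) ∈ K := z.2
    have h3 : orderOf (⟨((z : C₁) : G), h2⟩ : K) = p := by
      rw [← hz]
      rw [← Subgroup.orderOf_coe (⟨((z : C₁) : G), h2⟩ : K)]
      rw [← Subgroup.orderOf_coe z, ← Subgroup.orderOf_coe (z : C₁)]
    apply hK p hp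
    rw [← h3]
    exact orderOf_dvd_natCard _
  -- primes of the index of Z are in π
  have hIπ : ∀ p : ℕ, p.Prime → p ∣ Z.index → p ∈ π := by
    intro p hp hpZ
    haveI : Fact p.Prime := ⟨hp⟩
    rw [Subgroup.index_eq_card] at hpZ
    obtain ⟨cb, hcb⟩ := exists_prime_orderOf_dvd_card' p hpZ
    obtain ⟨c, rfl⟩ := QuotientGroup.mk_surjective cb
    have hcM : (c : G) ∈ M := c.2.2
    rw [hM, Subgroup.mem_comap] at hcM
    have h1 := (hT _).1 hcM
    have h2 : orderOf (QuotientGroup.mk c : C₁ ⧸ Z) = orderOf (φ (c : G)) := by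
      rw [orderOf_eq_orderOf_iff]
      intro n
      rw [← QuotientGroup.mk_pow, QuotientGroup.eq_one_iff, ← map_pow, hφ,
        QuotientGroup.mk'_apply, QuotientGroup.eq_one_iff]
      rw [hZ, Subgroup.mem_subgroupOf]
      simp
    rw [h2] at hcb
    exact h1 p hp (hcb ▸ dvd_rfl)
  have hcop : (Nat.card Z).Coprime Z.index := by
    apply Nat.coprime_of_dvd
    intro k hk hk1 hk2
    exact hZπ k hk hk1 (hIπ k hk hk2)
  obtain ⟨T', hT'⟩ := Subgroup.exists_right_complement'_of_coprime hcop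
  have hcT : Z.index = Nat.card T' := hT'.symm.index_eq_card
  refine ⟨T'.map C₁.subtype, fun x => ⟨?_, ?_⟩⟩
  · rintro ⟨t, ht, rfl⟩ p hp hpx
    apply hIπ p hp
    rw [hcT]
    have h1 : orderOf (⟨t, ht⟩ : T') ∣ Nat.card T' := orderOf_dvd_natCard _
    have h2 : orderOf (⟨t, ht⟩ : T') = orderOf (C₁.subtype t) := by
      rw [← Subgroup.orderOf_coe (⟨t, ht⟩ : T')]
      exact (Subgroup.orderOf_coe t).symm
    rw [h2] at h1
    exact hpx.trans h1
  · intro hx
    have hxC : x ∈ C := piElt_mem_centralizer π hhom K hK x hx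
    have hxM : x ∈ M := by
      rw [hM, Subgroup.mem_comap, hT]
      intro p hp hpx
      exact hx p hp (hpx.trans (orderOf_map_dvd _ x))
    set c : C₁ := ⟨x, hxC, hxM⟩ with hc
    obtain ⟨⟨z, t⟩, hzt, -⟩ := (Subgroup.isComplement'_def.1 hT').existsUnique c
    simp only at hzt
    have hcomm : Commute (z : C₁) (t : C₁) := (hZc z z.2 t).symm
    set m := orderOf x with hm
    have hcm : c ^ m = 1 := by
      apply Subtype.ext
      simp [hc, hm, pow_orderOf_eq_one]
    have h1 : (z : C₁) ^ m * (t : C₁) ^ m = 1 := by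
      rw [← hcomm.mul_pow, hzt, hcm]
    have h2 : (z : C₁) ^ m ∈ Z ⊓ T' := by
      refine ⟨Z.pow_mem z.2 m, ?_⟩
      have : (z : C₁) ^ m = ((t : C₁) ^ m)⁻¹ := eq_inv_of_mul_eq_one_left h1
      rw [this]
      exact T'.inv_mem (T'.pow_mem t.2 m)
    rw [hT'.disjoint.eq_bot, Subgroup.mem_bot] at h2
    have h3 : orderOf (z : C₁) ∣ m := orderOf_dvd_of_pow_eq_one h2
    have h4 : orderOf (z : C₁) ∣ Nat.card Z := by
      rw [Subgroup.orderOf_coe]; exact orderOf_dvd_natCard z
    have h5 : orderOf (z : C₁) = 1 := by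
      rw [Nat.eq_one_iff_not_exists_prime_dvd]
      intro p hp hpz
      exact hZπ p hp (hpz.trans h4) (hx p hp (hpz.trans h3))
    rw [orderOf_eq_one_iff] at h5
    rw [h5, one_mul] at hzt
    refine ⟨c, ?_, rfl⟩
    rw [← hzt]; exact t.2

end Cfsg.Agent.Lib.Helper7.PiClosed
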