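import Mathlib
import Cfsg.Agent.Lib.Helper7.PiClosed3

set_option autoImplicit false

/-! # π-closed groups: Lemma C (`Hom'` passes to quotients by normal π-subgroups) -/

namespace Cfsg.Agent.Lib.Helper7.PiClosed

universe u

variable {G : Type u} [Group G]

open scoped Pointwise

/-- Sylow conjugacy inside a subgroup `H`, at the level of subgroups of `G`. -/
theorem exists_conj_le_of_sylow [Finite G] (r : ℕ) [Fact r.Prime] (H R P : Subgroup G)
    (hR : R ≤ H) (hP : P ≤ H) (hRr : IsPGroup r R) (hRi : ¬ r ∣ R.relIndex H)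
    (hPr : IsPGroup r P) : ∃ u ∈ H, ∀ z ∈ P, u * z * u⁻¹ ∈ R := by
  have hR' : IsPGroup r (R.subgroupOf H) := hRr.comap_subtype
  have hP' : IsPGroup r (P.subgroupOf H) := hPr.comap_subtype
  set S : Sylow r H := hR'.toSylow hRi with hS
  obtain ⟨Q, hQ⟩ := hP'.exists_le_sylow
  obtain ⟨u, hu⟩ := MulAction.exists_smul_eq H Q S
  refine ⟨u, u.2, fun z hz => ?_⟩
  have h1 : (⟨z, hP hz⟩ : H) ∈ (Q : Subgroup H) := hQ (by
    rw [Subgroup.mem_subgroupOf]; exact hz)
  have h2 : MulAut.conj u • (⟨z, hP hz⟩ : H) ∈ MulAut.conj u • (Q : Subgroup H) :=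
    Subgroup.smul_mem_pointwise_smul _ _ _ h1
  have h3 : ((u • Q : Sylow r H) : Subgroup H) = MulAut.conj u • (Q : Subgroup H) := rfl
  rw [← h3, hu] at h2
  have h4 : MulAut.conj u • (⟨z, hP hz⟩ : H) ∈ R.subgroupOf H := h2
  rw [Subgroup.mem_subgroupOf] at h4
  simpa [MulAut.smul_def] using h4

/-- Lemma C. -/
theorem Hom'.quotient [Finite G] (π : Set ℕ) (hhom : Hom' π G) (L : Subgroup G) [L.Normal]
    (hL : ∀ p : ℕ, p.Prime → p ∣ Nat.card L → p ∈ π) : Hom' π (G ⧸ L) := by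
  intro r hr hrπ Rb hRb q hq hqπ xb hxb hxbq
  haveI : Fact r.Prime := ⟨hr⟩
  set φ := QuotientGroup.mk' L with hφ
  have hφs : Function.Surjective φ := QuotientGroup.mk'_surjective L
  have hφL : ∀ l ∈ L, φ l = 1 := fun l hl => (QuotientGroup.eq_one_iff l).2 hl
  set R₁ := Rb.comap φ with hR₁
  have P₀ : Sylow r R₁ := default
  set R := (P₀ : Subgroup R₁).map R₁.subtype with hR
  have hRR₁ : R ≤ R₁ := Subgroup.map_subtype_le _
  have hRp : IsPGroup r R := P₀.isPGroup'.map _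
  have hRi : ¬ r ∣ R.relIndex R₁ := sylow_map_relIndex R₁ r P₀
  -- R₁ ≤ R ⊔ L
  have hsup : R₁ ≤ R ⊔ L := by
    rw [← Subgroup.relIndex_eq_one]
    have h1 : (R ⊔ L).relIndex R₁ ∣ L.relIndex R₁ :=
      Subgroup.relIndex_dvd_of_le_left R₁ le_sup_right
    have h2 : L.relIndex R₁ = Nat.card Rb := by
      have : L = (⊥ : Subgroup (G ⧸ L)).comap φ := by
        rw [MonoidHom.comap_bot, hφ, QuotientGroup.ker_mk']
      conv_lhs => rw [this]
      rw [Subgroup.relIndex_comap, Subgroup.relIndex_bot_left, hR₁,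
        Subgroup.map_comap_eq_self_of_surjective hφs]
    obtain ⟨b, hb⟩ := IsPGroup.iff_card.1 hRb
    rw [h2, hb] at h1
    obtain ⟨j, -, hj'⟩ := (Nat.dvd_prime_pow hr).1 h1
    have h3 : (R ⊔ L).relIndex R₁ ∣ R.relIndex R₁ :=
      Subgroup.relIndex_dvd_of_le_left R₁ le_sup_left
    rcases Nat.eq_zero_or_pos j with hj0 | hj0
    · rw [hj', hj0, pow_zero]
    · exfalso
      apply hRi
      rw [hj'] at h3
      exact (dvd_pow_self r hj0.ne').trans h3
  have hdec : ∀ u ∈ R₁, ∃ s ∈ R, ∃ l ∈ L, u = s * l := by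
    intro u hu
    have := hsup hu
    rw [← SetLike.mem_coe, Subgroup.mul_normal] at this
    obtain ⟨s, hs, l, hl, rfl⟩ := Set.mem_mul.1 this
    exact ⟨s, hs, l, hl, rfl⟩
  have himg : ∀ yb ∈ Rb, ∃ y ∈ R, φ y = yb := by
    intro yb hyb
    obtain ⟨y, rfl⟩ := hφs yb
    obtain ⟨s, hs, l, hl, rfl⟩ := hdec y hyb
    refine ⟨s, hs, ?_⟩
    rw [map_mul, hφL l hl, mul_one]
  obtain ⟨x, rfl⟩ := hφs xb
  have hxN : x ∈ Subgroup.normalizer (R₁ : Set G) := by
    have := Subgroup.comap_normalizer_eq_of_surjective Rb hφs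
    rw [hR₁, ← this, Subgroup.mem_comap]
    exact hxb
  set P := R.map (MulAut.conj x).toMonoidHom with hP
  have hPp : IsPGroup r P := hRp.map _
  have hPR₁ : P ≤ R₁ := by
    rintro _ ⟨z, hz, rfl⟩
    simp only [MulEquiv.coe_toMonoidHom, MulAut.conj_apply]
    exact (Subgroup.mem_normalizer_iff.1 hxN z).1 (hRR₁ hz)
  obtain ⟨u, hu, huP⟩ := exists_conj_le_of_sylow r R₁ R P hRR₁ hPR₁ hRp hRi hPp
  have hux : u * x ∈ Subgroup.normalizer (R : Set G) := by
    apply Subgroup.mem_normalizer_fintype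
    intro z hz
    have := huP (x * z * x⁻¹) ⟨z, hz, by simp⟩
    have h2 : u * x * z * (u * x)⁻¹ = u * (x * z * x⁻¹) * u⁻¹ := by group
    rw [h2]; exact this
  obtain ⟨s, hs, l, hl, rfl⟩ := hdec u hu
  have hy : l * x ∈ Subgroup.normalizer (R : Set G) := by
    have : l * x = s⁻¹ * (s * l * x) := by group
    rw [this]
    exact Subgroup.mul_mem _ (Subgroup.inv_mem _ (Subgroup.le_normalizer hs)) hux
  have hφy : φ (l * x) = φ x := by rw [map_mul, hφL l hl, one_mul]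
  set y := l * x with hy_def
  obtain ⟨k, hk⟩ := hxbq
  have hpos : orderOf y ≠ 0 := (orderOf_pos y).ne'
  obtain ⟨a, m, hm, hym⟩ := Nat.exists_eq_pow_mul_and_not_dvd hpos q hq.ne_one
  have hy' : y ^ m ∈ Subgroup.normalizer (R : Set G) := Subgroup.pow_mem _ hy m
  have hy'q : ∃ j : ℕ, orderOf (y ^ m) = q ^ j := by
    have h1 : (y ^ m) ^ (q ^ a) = 1 := by
      rw [← pow_mul, mul_comm, ← hym, pow_orderOf_eq_one]
    have h2 := orderOf_dvd_of_pow_eq_one h1
    obtain ⟨j, -, hj⟩ := (Nat.dvd_prime_pow hq).1 h2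
    exact ⟨j, hj⟩
  have hc := hhom r hr hrπ R hRp q hq hqπ (y ^ m) hy' hy'q
  have hc' : (φ x) ^ m ∈ Subgroup.centralizer (Rb : Set (G ⧸ L)) := by
    rw [← hφy, ← map_pow, Subgroup.mem_centralizer_iff]
    intro zb hzb
    obtain ⟨z, hz, rfl⟩ := himg zb hzb
    rw [Subgroup.mem_centralizer_iff] at hc
    rw [← map_mul, ← map_mul, hc z hz]
  have hcop : Nat.Coprime m (orderOf (φ x)) := by
    rw [hk]
    apply Nat.Coprime.pow_right
    rw [Nat.coprime_comm]
    exact (Nat.Prime.coprime_iff_not_dvd hq).2 hm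
  obtain ⟨j, hj⟩ := exists_pow_eq_self_of_coprime hcop
  rw [← hj]
  exact Subgroup.pow_mem _ hc' j

end Cfsg.Agent.Lib.Helper7.PiClosed
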