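import Mathlib
import Cfsg.Agent.Lib.Helper7.PiClosed4

set_option autoImplicit false

/-! # π-closed groups: the extension theorem -/

namespace Cfsg.Agent.Lib.Helper7.PiClosed

universe u

variable {G : Type u} [Group G]

/-- Extension theorem: `K` normal, `K` and `G ⧸ K` π-closed, `Hom'` ⟹ `G` π-closed. -/
theorem piClosed_extension [Finite G] (π : Set ℕ) (hhom : Hom' π G) (K : Subgroup G) [hKn : K.Normal]
    (hK : PiClosed π K) (hQ : PiClosed π (G ⧸ K)) : PiClosed π G := by
  obtain ⟨L₀, hL₀⟩ := hK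
  set L := L₀.map K.subtype with hL
  have hLK : L ≤ K := Subgroup.map_subtype_le _
  haveI hLn : L.Normal := by
    refine ⟨fun n hn g => ?_⟩
    obtain ⟨y, hy, rfl⟩ := hn
    have hmem : g * (y : G) * g⁻¹ ∈ K := hKn.conj_mem _ y.2 g
    refine ⟨⟨_, hmem⟩, ?_, rfl⟩
    rw [SetLike.mem_coe, hL₀] at hy ⊢
    have : orderOf (⟨g * y * g⁻¹, hmem⟩ : K) = orderOf y := by
      rw [← Subgroup.orderOf_coe, ← Subgroup.orderOf_coe y]
      exact MulEquiv.orderOf_eq (MulAut.conj g) (y : G)
    rw [this]; exact hy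
  have hLπ : ∀ p : ℕ, p.Prime → p ∣ Nat.card L → p ∈ π := by
    intro p hp hpL
    haveI : Fact p.Prime := ⟨hp⟩
    obtain ⟨l, hl⟩ := exists_prime_orderOf_dvd_card' p hpL
    obtain ⟨y, hy, hyl⟩ := l.2
    have h1 : orderOf y = p := by
      rw [← hl, ← Subgroup.orderOf_coe l, ← hyl]
      exact (Subgroup.orderOf_coe y).symm
    exact (hL₀ y).1 hy p hp (h1 ▸ dvd_rfl)
  set φ := QuotientGroup.mk' L with hφ
  have hφs : Function.Surjective φ := QuotientGroup.mk'_surjective L
  haveI hKbn : (K.map φ).Normal := Subgroup.Normal.map hKn φ hφs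
  have hKb : ∀ p : ℕ, p.Prime → p ∣ Nat.card (K.map φ) → p ∉ π := by
    intro p hp hpK hpπ
    haveI : Fact p.Prime := ⟨hp⟩
    have h1 : Nat.card (K.map φ) = L₀.index := by
      have h2 : L = (⊥ : Subgroup (G ⧸ L)).comap φ := by
        rw [MonoidHom.comap_bot, hφ, QuotientGroup.ker_mk']
      have h3 : L.relIndex K = Nat.card (K.map φ) := by
        conv_lhs => rw [h2]
        rw [Subgroup.relIndex_comap, Subgroup.relIndex_bot_left]
      rw [← h3]
      unfold Subgroup.relIndex
      congr 1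
      unfold Subgroup.subgroupOf
      exact Subgroup.comap_map_eq_self_of_injective K.subtype_injective _
    rw [h1] at hpK
    have Q : Sylow p K := default
    have hQL : (Q : Subgroup K) ≤ L₀ := by
      intro y hy
      rw [hL₀]
      intro p' hp' hp'y
      obtain ⟨k, hk⟩ := (IsPGroup.iff_orderOf.1 Q.isPGroup') ⟨y, hy⟩
      have h4 : orderOf (⟨y, hy⟩ : (Q : Subgroup K)) = orderOf y :=
        (Subgroup.orderOf_coe (H := (Q : Subgroup K)) ⟨y, hy⟩).symm
      rw [h4] at hk
      rw [hk] at hp'y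
      have := (Nat.prime_dvd_prime_iff_eq hp' hp).1 (hp'.dvd_of_dvd_pow hp'y)
      rw [this]; exact hpπ
    exact Q.not_dvd_index (hpK.trans (Subgroup.index_dvd_of_le hQL))
  have hQb : PiClosed π ((G ⧸ L) ⧸ K.map φ) :=
    PiClosed.of_mulEquiv π (QuotientGroup.quotientQuotientEquivQuotient L K hLK) hQ
  have hhomb := Hom'.quotient π hhom L hLπ
  have h5 := piClosed_of_normal_pi' π hhomb (K.map φ) hKb hQb
  exact PiClosed.of_quotient π L hLπ h5

end Cfsg.Agent.Lib.Helper7.PiClosed
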