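import Mathlib
import Cfsg.Agent.Lib.Helper7.PClasses

set_option autoImplicit false

/-!
Orbit bound for `N_G(Q)` on a Sylow `q`-subgroup `Q` in terms of the index of `C_G(Q)`.
-/

namespace Cfsg.Agent.Lib.Helper7.PiTwo

open scoped Pointwise

variable {G : Type*} [Group G] [Finite G] {q : ℕ} [Fact q.Prime]

/-- Burnside count: with `m = |N_G(Q) : C_G(Q)|`, the number of orbits `Ω` of `N_G(Q)` on `Q`
satisfies `q m Ω ≤ (q + m - 1) |Q|`. -/
theorem orbit_bound_index (Q : Sylow q G) :
    q * ((Subgroup.centralizer ((Q : Subgroup G) : Set G)).subgroupOf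
        (Subgroup.normalizer ((Q : Subgroup G) : Set G))).index *
      Nat.card (MulAction.orbitRel.Quotient
        (Subgroup.normalizer ((Q : Subgroup G) : Set G)) (Q : Subgroup G)) + Nat.card (Q : Subgroup G) ≤
      (q + ((Subgroup.centralizer ((Q : Subgroup G) : Set G)).subgroupOf
        (Subgroup.normalizer ((Q : Subgroup G) : Set G))).index) * Nat.card (Q : Subgroup G) := by
  classical
  have hp : q.Prime := Fact.out
  set N := Subgroup.normalizer ((Q : Subgroup G) : Set G) with hN
  set H := (Q : Subgroup G) with hH
  haveI : Fintype N := Fintype.ofFinite N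
  haveI : Fintype H := Fintype.ofFinite H
  haveI : Fintype (MulAction.orbitRel.Quotient N H) := Fintype.ofFinite _
  have hB := MulAction.sum_card_fixedBy_eq_card_orbits_mul_card_group N H
  set C : Subgroup N := (Subgroup.centralizer (H : Set G)).subgroupOf N with hC
  -- pointwise bounds
  have hfix : ∀ n : N, Fintype.card (MulAction.fixedBy H n) = Nat.card (PCl.fixSub Q n) := by
    intro n
    rw [← Nat.card_eq_fintype_card]
    rfl
  have hb1 : ∀ n : N, q * Fintype.card (MulAction.fixedBy H n) ≤ q * Nat.card H := by
    intro n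
    rw [hfix]
    exact Nat.mul_le_mul_left q (Subgroup.card_le_card_group _)
  have hb2 : ∀ n : N, n ∉ C → q * Fintype.card (MulAction.fixedBy H n) ≤ Nat.card H := by
    intro n hn
    rw [hfix]
    apply PCl.card_fixSub_le Q n
    intro h
    exact hn (Subgroup.mem_subgroupOf.mpr h)
  -- split the sum
  have hsplit := Finset.sum_filter_add_sum_filter_not (Finset.univ : Finset N) (fun n => n ∈ C)
    (fun n => q * Fintype.card (MulAction.fixedBy H n))
  have hs1 : ∑ n ∈ Finset.univ.filter (fun n : N => n ∈ C),
      q * Fintype.card (MulAction.fixedBy H n)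
      ≤ (Finset.univ.filter (fun n : N => n ∈ C)).card * (q * Nat.card H) := by
    rw [← smul_eq_mul]
    apply Finset.sum_le_card_nsmul
    intro n _
    exact hb1 n
  have hs2 : ∑ n ∈ Finset.univ.filter (fun n : N => ¬ n ∈ C),
      q * Fintype.card (MulAction.fixedBy H n)
      ≤ (Finset.univ.filter (fun n : N => ¬ n ∈ C)).card * Nat.card H := by
    rw [← smul_eq_mul]
    apply Finset.sum_le_card_nsmul
    intro n hn
    exact hb2 n (Finset.mem_filter.mp hn).2
  set a := (Finset.univ.filter (fun n : N => n ∈ C)).card with ha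
  set a' := (Finset.univ.filter (fun n : N => ¬ n ∈ C)).card with ha'
  have haa : a + a' = Fintype.card N := by
    rw [ha, ha']
    have := Finset.card_filter_add_card_filter_not (s := (Finset.univ : Finset N))
      (fun n => n ∈ C)
    rw [this, Finset.card_univ]
  have haC : a = Nat.card C := by
    rw [ha, Nat.card_eq_fintype_card, Fintype.card_subtype]
  have hidx : a * C.index = a + a' := by
    rw [haa, haC, ← Nat.card_eq_fintype_card (α := N)]
    exact Subgroup.card_mul_index C
  have hsum : q * (Fintype.card (MulAction.orbitRel.Quotient N H) * Fintype.card N)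
      ≤ a * (q * Nat.card H) + a' * Nat.card H := by
    rw [← hB, Finset.mul_sum, ← hsplit]
    exact add_le_add hs1 hs2
  rw [Nat.card_eq_fintype_card (α := MulAction.orbitRel.Quotient N H)]
  set Ω := Fintype.card (MulAction.orbitRel.Quotient N H)
  set h := Nat.card H
  set m := C.index
  rw [← haa] at hsum
  have hapos : 0 < a := by
    rw [haC]; exact Nat.card_pos
  have key : (q * m * Ω + h) * a ≤ ((q + m) * h) * a := by
    have e1 : q * m * Ω * a = q * (Ω * (a + a')) := by
      rw [← hidx]; ring
    have e2 : (q + m) * h * a = a * (q * h) + (a * m) * h := by ring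
    rw [add_mul, e1, e2, hidx]
    calc q * (Ω * (a + a')) + h * a ≤ a * (q * h) + a' * h + h * a := Nat.add_le_add_right hsum _
      _ = a * (q * h) + (a + a') * h := by ring
  exact Nat.le_of_mul_le_mul_right key hapos

/-- if the automizer of `Q` has odd order (a Sylow 2-subgroup centralizes `Q`) and is not
trivial, then `N_G(Q)` has at most `|Q|/2` orbits on `Q` (`q` odd). -/
theorem two_mul_orbits_le (hq2 : q ≠ 2) (Q : Sylow q G) (P : Sylow 2 G)
    (hPC : (P : Subgroup G) ≤ Subgroup.centralizer ((Q : Subgroup G) : Set G))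
    (hNC : ¬ Subgroup.normalizer ((Q : Subgroup G) : Set G) ≤
      Subgroup.centralizer ((Q : Subgroup G) : Set G)) :
    2 * Nat.card (MulAction.orbitRel.Quotient
        (Subgroup.normalizer ((Q : Subgroup G) : Set G)) (Q : Subgroup G)) ≤
      Nat.card (Q : Subgroup G) := by
  classical
  have hp : q.Prime := Fact.out
  have hmain := orbit_bound_index Q
  set N := Subgroup.normalizer ((Q : Subgroup G) : Set G) with hN
  set H := (Q : Subgroup G) with hH
  set Cg := Subgroup.centralizer (H : Set G) with hCg
  set C : Subgroup N := Cg.subgroupOf N with hC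
  have hCN : Cg ≤ N := Subgroup.centralizer_le_normalizer _
  haveI hCnorm : C.Normal := by
    rw [hC, hCg, hN]
    infer_instance
  set m := C.index with hm
  have hm0 : m ≠ 0 := Subgroup.index_ne_zero_of_finite
  have hm1 : m ≠ 1 := by
    intro h
    apply hNC
    intro n hn
    have h1 : C = ⊤ := Subgroup.index_eq_one.mp h
    have : (⟨n, hn⟩ : N) ∈ C := by rw [h1]; trivial
    exact Subgroup.mem_subgroupOf.mp this
  -- m divides the index of the centralizer
  have hmdvd : m ∣ Cg.index := by
    have := Subgroup.relIndex_mul_index hCN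
    exact Dvd.intro _ this
  -- m is odd
  have hmodd : ¬ 2 ∣ m := by
    intro h2
    have h3 : 2 ∣ (P : Subgroup G).index := (h2.trans hmdvd).trans (Subgroup.index_dvd_of_le hPC)
    exact P.not_dvd_index h3
  -- m is not q
  have hmq : m ≠ q := by
    intro hmq
    -- the quotient N/C is cyclic
    haveI : Fact (Nat.card (N ⧸ C)).Prime := ⟨by rw [← Subgroup.index_eq_card, ← hm, hmq]; exact hp⟩
    haveI : IsCyclic (N ⧸ C) := isCyclic_of_prime_card rfl
    have hHN : H ≤ N := Subgroup.le_normalizer
    let f : H →* N ⧸ C := (QuotientGroup.mk' C).comp (Subgroup.inclusion hHN)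
    have hker : f.ker ≤ Subgroup.center H := by
      intro x hx
      rw [MonoidHom.mem_ker] at hx
      have h1 : (Subgroup.inclusion hHN x : N) ∈ C := by
        rw [← QuotientGroup.eq_one_iff]
        exact hx
      have h2 : (x : G) ∈ Cg := Subgroup.mem_subgroupOf.mp h1
      rw [Subgroup.mem_center_iff]
      intro y
      apply Subtype.ext
      have := (Subgroup.mem_centralizer_iff.mp h2) (y : G) y.2
      exact this
    have hcomm : ∀ a b : H, a * b = b * a := commutative_of_cyclic_center_quotient f hker
    have hHC : H ≤ Cg := by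
      intro x hx
      rw [Subgroup.mem_centralizer_iff]
      intro y hy
      have := hcomm ⟨y, hy⟩ ⟨x, hx⟩
      exact congrArg Subtype.val this
    have h3 : q ∣ H.index := by
      rw [← hmq]
      exact hmdvd.trans (Subgroup.index_dvd_of_le hHC)
    exact Q.not_dvd_index h3
  have hq3 : 3 ≤ q := by
    have := hp.two_le
    omega
  have hm3 : 3 ≤ m := by
    by_contra hlt
    have : m = 2 := by omega
    exact hmodd (by rw [this])
  have harith : 2 * (q + m) ≤ q * m + 2 := by
    rcases Nat.lt_or_ge q 4 with h | h
    · have hq : q = 3 := by omega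
      have hm4 : 5 ≤ m := by
        by_contra hlt
        have : m = 3 ∨ m = 4 := by omega
        rcases this with h' | h'
        · exact hmq (by rw [h', hq])
        · exact hmodd (by rw [h']; decide)
      subst hq
      omega
    · nlinarith
  set Ω := Nat.card (MulAction.orbitRel.Quotient N H)
  set h := Nat.card H
  have hqm : 0 < q * m := Nat.mul_pos hp.pos (Nat.pos_of_ne_zero hm0)
  have key : 2 * Ω * (q * m) ≤ h * (q * m) := by
    have h1 : 2 * (q * m * Ω + h) ≤ 2 * ((q + m) * h) := Nat.mul_le_mul_left 2 hmain
    have h2 : 2 * ((q + m) * h) ≤ (q * m + 2) * h := by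
      calc 2 * ((q + m) * h) = (2 * (q + m)) * h := by ring
        _ ≤ (q * m + 2) * h := Nat.mul_le_mul_right h harith
    nlinarith
  exact Nat.le_of_mul_le_mul_right key hqm

end Cfsg.Agent.Lib.Helper7.PiTwo
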