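import Mathlib
import Cfsg.Agent.Lib.Helper7.PClasses
import Cfsg.Agent.Lib.Helper7.PiClasses
import Cfsg.Agent.Lib.Helper7.PiTwo1

set_option autoImplicit false

/-!
Weighted count of classes of `q`-elements: the weight of a class is the `2`-part of the order
of the centralizer of a representative.
-/

namespace Cfsg.Agent.Lib.Helper7.PiTwo

open scoped Pointwise

variable {G : Type*} [Group G] [Finite G] {q : ℕ} [Fact q.Prime]

/-- the `2`-part of the centralizer of the representative of a class of `q`-elements -/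
noncomputable def w (c : PCl.Cl q G) : ℕ :=
  2 ^ (Nat.card (Subgroup.centralizer ({PiCl.rep q c} : Set G))).factorization 2

theorem w_le (c : PCl.Cl q G) : w c ≤ 2 ^ (Nat.card G).factorization 2 := by
  unfold w
  apply Nat.pow_le_pow_right (by norm_num)
  exact (Nat.factorization_le_iff_dvd Nat.card_pos.ne' Nat.card_pos.ne').mpr
    (Subgroup.card_subgroup_dvd_card _) 2

theorem two_mul_w_le (c : PCl.Cl q G) (h : w c ≠ 2 ^ (Nat.card G).factorization 2) :
    2 * w c ≤ 2 ^ (Nat.card G).factorization 2 := by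
  unfold w at h ⊢
  have h1 : (Nat.card (Subgroup.centralizer ({PiCl.rep q c} : Set G))).factorization 2 ≤
      (Nat.card G).factorization 2 :=
    (Nat.factorization_le_iff_dvd Nat.card_pos.ne' Nat.card_pos.ne').mpr
      (Subgroup.card_subgroup_dvd_card _) 2
  have h2 : (Nat.card (Subgroup.centralizer ({PiCl.rep q c} : Set G))).factorization 2 ≠
      (Nat.card G).factorization 2 := by
    intro e
    apply h
    rw [e]
  have h3 : (Nat.card (Subgroup.centralizer ({PiCl.rep q c} : Set G))).factorization 2 + 1 ≤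
      (Nat.card G).factorization 2 := by omega
  rw [← pow_succ']
  exact Nat.pow_le_pow_right (by norm_num) h3

/-- a class of full weight meets the centralizer of any Sylow `2`-subgroup -/
theorem exists_conj_of_w_eq (P : Sylow 2 G) (c : PCl.Cl q G)
    (h : w c = 2 ^ (Nat.card G).factorization 2) :
    ∃ g : G, g * PiCl.rep q c * g⁻¹ ∈ Subgroup.centralizer ((P : Subgroup G) : Set G) := by
  set x := PiCl.rep q c with hx
  set Cc := Subgroup.centralizer ({x} : Set G) with hCc
  obtain S : Sylow 2 Cc := default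
  have hS : Nat.card (S : Subgroup Cc) = 2 ^ (Nat.card G).factorization 2 := by
    rw [Sylow.card_eq_multiplicity, ← h]
    rfl
  have hcard : Nat.card ((S : Subgroup Cc).map Cc.subtype) = 2 ^ (Nat.card G).factorization 2 := by
    rw [Subgroup.card_map_of_injective Cc.subtype_injective, hS]
  let S' : Sylow 2 G := Sylow.ofCard ((S : Subgroup Cc).map Cc.subtype) hcard
  obtain ⟨g, hg⟩ := MulAction.exists_smul_eq G S' P
  refine ⟨g, ?_⟩
  rw [Subgroup.mem_centralizer_iff]
  intro y hy
  rw [← hg, Sylow.coe_subgroup_smul] at hy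
  obtain ⟨s, hs, hsy⟩ := hy
  have hs' : s ∈ (S : Subgroup Cc).map Cc.subtype := hs
  obtain ⟨s0, _, hs0⟩ := Subgroup.mem_map.mp hs'
  have hsC : s ∈ Cc := by
    rw [← hs0]
    exact s0.2
  have hcomm : s * x = x * s := by
    rw [hCc, Subgroup.mem_centralizer_singleton_iff] at hsC
    exact hsC
  have hy' : y = g * s * g⁻¹ := by
    rw [← hsy]
    simp [MulAut.smul_def]
  rw [hy']
  calc g * s * g⁻¹ * (g * x * g⁻¹) = g * (s * x) * g⁻¹ := by group
    _ = g * (x * s) * g⁻¹ := by rw [hcomm]
    _ = g * x * g⁻¹ * (g * s * g⁻¹) := by group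

/-- the number of classes of full weight is at most the `q`-part of `|C_G(P)|` -/
theorem card_full_le (P : Sylow 2 G) :
    Nat.card {c : PCl.Cl q G // w c = 2 ^ (Nat.card G).factorization 2} ≤
      q ^ (Nat.card (Subgroup.centralizer ((P : Subgroup G) : Set G))).factorization q := by
  classical
  set D := Subgroup.centralizer ((P : Subgroup G) : Set G) with hD
  obtain R : Sylow q D := default
  have hR : Nat.card (R : Subgroup D) = q ^ (Nat.card D).factorization q :=
    Sylow.card_eq_multiplicity R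
  rw [← hR]
  have hex : ∀ c : {c : PCl.Cl q G // w c = 2 ^ (Nat.card G).factorization 2},
      ∃ r : (R : Subgroup D), ConjClasses.mk (((r : D) : G)) = c.1.1 := by
    rintro ⟨c, hc⟩
    obtain ⟨g, hg⟩ := exists_conj_of_w_eq P c hc
    obtain ⟨k, hk⟩ := PiCl.orderOf_rep q c
    -- the class of y in D
    let y : D := ⟨g * PiCl.rep q c * g⁻¹, hg⟩
    have hyord : orderOf y = q ^ k := by
      rw [← Subgroup.orderOf_coe]
      show orderOf (g * PiCl.rep q c * g⁻¹) = q ^ k
      rw [PiCl.orderOf_conj_eq, hk]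
    let cy : PCl.Cl q D := ⟨ConjClasses.mk y, by
      intro z hz
      rw [PCl.mem_carrier_iff] at hz
      obtain ⟨d, hd⟩ := isConj_iff.mp hz
      refine ⟨k, ?_⟩
      rw [← hd, PiCl.orderOf_conj_eq, hyord]⟩
    obtain ⟨r, hr⟩ := PCl.clOf_surjective R cy
    refine ⟨r, ?_⟩
    have h1 : ConjClasses.mk (r : D) = ConjClasses.mk y := congrArg Subtype.val hr
    rw [ConjClasses.mk_eq_mk_iff_isConj, isConj_iff] at h1
    obtain ⟨d, hd⟩ := h1
    show ConjClasses.mk (((r : D) : G)) = c.1
    rw [← PiCl.mk_rep q c, ConjClasses.mk_eq_mk_iff_isConj, isConj_iff]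
    refine ⟨g⁻¹ * (d : G), ?_⟩
    have hd' : (d : G) * ((r : D) : G) * (d : G)⁻¹ = g * PiCl.rep q c * g⁻¹ :=
      congrArg Subtype.val hd
    calc g⁻¹ * (d : G) * ((r : D) : G) * (g⁻¹ * (d : G))⁻¹
        = g⁻¹ * ((d : G) * ((r : D) : G) * (d : G)⁻¹) * g := by group
      _ = PiCl.rep q c := by rw [hd']; group
  choose f hf using hex
  apply Nat.card_le_card_of_injective f
  intro a b hab
  apply Subtype.ext
  apply Subtype.ext
  rw [← hf a, ← hf b, hab]

/-- the weighted sum bound -/
theorem two_mul_sum_w_le [Fintype (PCl.Cl q G)] :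
    2 * ∑ c : PCl.Cl q G, w c ≤ 2 ^ (Nat.card G).factorization 2 *
      (Nat.card (PCl.Cl q G) +
        Nat.card {c : PCl.Cl q G // w c = 2 ^ (Nat.card G).factorization 2}) := by
  classical
  set n := 2 ^ (Nat.card G).factorization 2 with hn
  have hsplit := Finset.sum_filter_add_sum_filter_not (Finset.univ : Finset (PCl.Cl q G))
    (fun c => w c = n) (fun c => 2 * w c)
  have hs1 : ∑ c ∈ Finset.univ.filter (fun c : PCl.Cl q G => w c = n), 2 * w c
      ≤ (Finset.univ.filter (fun c : PCl.Cl q G => w c = n)).card * (2 * n) := by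
    rw [← smul_eq_mul]
    apply Finset.sum_le_card_nsmul
    intro c _
    exact Nat.mul_le_mul_left 2 (w_le c)
  have hs2 : ∑ c ∈ Finset.univ.filter (fun c : PCl.Cl q G => ¬ w c = n), 2 * w c
      ≤ (Finset.univ.filter (fun c : PCl.Cl q G => ¬ w c = n)).card * n := by
    rw [← smul_eq_mul]
    apply Finset.sum_le_card_nsmul
    intro c hc
    exact two_mul_w_le c (Finset.mem_filter.mp hc).2
  set a := (Finset.univ.filter (fun c : PCl.Cl q G => w c = n)).card with ha
  set a' := (Finset.univ.filter (fun c : PCl.Cl q G => ¬ w c = n)).card with ha'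
  have haa : a + a' = Nat.card (PCl.Cl q G) := by
    rw [ha, ha', Nat.card_eq_fintype_card]
    have := Finset.card_filter_add_card_filter_not (s := (Finset.univ : Finset (PCl.Cl q G)))
      (fun c => w c = n)
    rw [this, Finset.card_univ]
  have haF : a = Nat.card {c : PCl.Cl q G // w c = n} := by
    rw [ha, Nat.card_eq_fintype_card, Fintype.card_subtype]
  rw [Finset.mul_sum, ← hsplit, ← haF, ← haa]
  calc ∑ c ∈ Finset.univ.filter (fun c : PCl.Cl q G => w c = n), 2 * w c +
        ∑ c ∈ Finset.univ.filter (fun c : PCl.Cl q G => ¬ w c = n), 2 * w c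
      ≤ a * (2 * n) + a' * n := add_le_add hs1 hs2
    _ = n * (a + a' + a) := by ring

end Cfsg.Agent.Lib.Helper7.PiTwo
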