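import Mathlib
import Cfsg.Agent.Lib.Helper7.PClasses
import Cfsg.Agent.Lib.Helper7.PiClasses
import Cfsg.Agent.Lib.Helper7.PiTwo1
import Cfsg.Agent.Lib.Helper7.PiTwo2

set_option autoImplicit false

/-!
The key inequality: if no Sylow `q`-subgroup (`q` odd) is centralized by its normalizer, then
the weighted sum of the classes of `q`-elements is at most `|G|_2 |G|_q / 2`.
-/

namespace Cfsg.Agent.Lib.Helper7.PiTwo

open scoped Pointwise

universe u

variable {G : Type u} [Group G] [Finite G] {q : ℕ} [Fact q.Prime]

theorem key_bound [Fintype (PCl.Cl q G)] (hq2 : q ≠ 2)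
    (hall : ∀ Q : Sylow q G, ¬ Subgroup.normalizer ((Q : Subgroup G) : Set G) ≤
      Subgroup.centralizer ((Q : Subgroup G) : Set G)) :
    2 * ∑ c : PCl.Cl q G, w c ≤
      2 ^ (Nat.card G).factorization 2 * q ^ (Nat.card G).factorization q := by
  classical
  have hp : q.Prime := Fact.out
  have hq3 : 3 ≤ q := by
    have := hp.two_le
    omega
  refine (two_mul_sum_w_le (q := q) (G := G)).trans ?_
  apply Nat.mul_le_mul_left
  obtain P : Sylow 2 G := default
  have hF := card_full_le (q := q) P
  set D := Subgroup.centralizer ((P : Subgroup G) : Set G) with hD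
  set F := Nat.card {c : PCl.Cl q G // w c = 2 ^ (Nat.card G).factorization 2} with hFdef
  set k := Nat.card (PCl.Cl q G) with hk
  have hFk : F ≤ k := by
    rw [hFdef, hk]
    exact Nat.card_le_card_of_injective _ Subtype.val_injective
  have hexp : (Nat.card D).factorization q ≤ (Nat.card G).factorization q :=
    (Nat.factorization_le_iff_dvd Nat.card_pos.ne' Nat.card_pos.ne').mpr
      (Subgroup.card_subgroup_dvd_card _) q
  rcases Nat.eq_or_lt_of_le hexp with he | hlt
  · -- a Sylow q-subgroup centralized by P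
    obtain R : Sylow q D := default
    have hR : Nat.card (R : Subgroup D) = q ^ (Nat.card G).factorization q := by
      rw [Sylow.card_eq_multiplicity, he]
    have hcard : Nat.card ((R : Subgroup D).map D.subtype) = q ^ (Nat.card G).factorization q := by
      rw [Subgroup.card_map_of_injective D.subtype_injective, hR]
    let Q : Sylow q G := Sylow.ofCard ((R : Subgroup D).map D.subtype) hcard
    have hQD : (Q : Subgroup G) ≤ D := by
      intro x hx
      have hx' : x ∈ (R : Subgroup D).map D.subtype := hx
      obtain ⟨r, _, hr⟩ := Subgroup.mem_map.mp hx'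
      rw [← hr]
      exact r.2
    have hPC : (P : Subgroup G) ≤ Subgroup.centralizer ((Q : Subgroup G) : Set G) := by
      intro x hx
      rw [Subgroup.mem_centralizer_iff]
      intro y hy
      have := Subgroup.mem_centralizer_iff.mp (hQD hy) x hx
      exact this.symm
    have h1 := two_mul_orbits_le hq2 Q P hPC (hall Q)
    have h2 := PCl.card_le_orbits Q
    have h3 : Nat.card (Q : Subgroup G) = q ^ (Nat.card G).factorization q := hcard
    rw [h3] at h1
    omega
  · -- no Sylow q-subgroup is centralized by P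
    obtain Q : Sylow q G := default
    have h1 := PCl.orbit_bound Q (hall Q)
    have h2 := PCl.card_le_orbits Q
    have h3 : Nat.card (Q : Subgroup G) = q ^ (Nat.card G).factorization q :=
      Sylow.card_eq_multiplicity Q
    rw [h3] at h1
    have h4 : q * q ^ (Nat.card D).factorization q ≤ q ^ (Nat.card G).factorization q := by
      rw [← pow_succ']
      exact Nat.pow_le_pow_right hp.pos hlt
    set v := q ^ (Nat.card G).factorization q
    set Ω := Nat.card (MulAction.orbitRel.Quotient
      (Subgroup.normalizer ((Q : Subgroup G) : Set G)) (Q : Subgroup G))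
    set d := q ^ (Nat.card D).factorization q
    have h5 : 2 * q * (k + F) ≤ 2 * q * v := by
      have e1 : 2 * q * k ≤ 2 * q * Ω := Nat.mul_le_mul_left _ h2
      have e2 : 2 * q * F ≤ 2 * (q * d) := by
        calc 2 * q * F ≤ 2 * q * d := Nat.mul_le_mul_left _ hF
          _ = 2 * (q * d) := by ring
      have e3 : 2 * (q * d) ≤ 2 * v := Nat.mul_le_mul_left 2 h4
      have e4 : (q + 1) * v + 2 * v ≤ 2 * q * v := by
        have : (q + 3) * v ≤ (2 * q) * v := Nat.mul_le_mul_right v (by omega)
        calc (q + 1) * v + 2 * v = (q + 3) * v := by ring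
          _ ≤ 2 * q * v := this
      calc 2 * q * (k + F) = 2 * q * k + 2 * q * F := by ring
        _ ≤ (q + 1) * v + 2 * v := add_le_add (e1.trans h1) (e2.trans e3)
        _ ≤ 2 * q * v := e4
    exact Nat.le_of_mul_le_mul_left h5 (by have := hp.pos; omega)

/-- the count of classes of `π`-elements through the weights -/
theorem card_cl_le_sum [Fintype (PCl.Cl q G)] (π : Finset ℕ) (hπ : ∀ r ∈ π, r.Prime)
    (h2 : 2 ∈ π) (hq : q ∈ π) (hq2 : q ≠ 2) :
    Nat.card (PiCl.Cl π G) ≤
      (∑ c : PCl.Cl q G, w c) * PiCl.part ((π.erase q).erase 2) (Nat.card G) := by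
  classical
  haveI : Fact (Nat.Prime 2) := ⟨Nat.prime_two⟩
  have h1 := Nat.card_le_card_of_surjective _
    (PiCl.Φ_surjective (X := G) q (π.erase q) (Finset.notMem_erase q π))
  rw [Nat.card_sigma] at h1
  rw [Finset.insert_erase hq] at h1
  refine h1.trans ?_
  rw [Finset.sum_mul]
  apply Finset.sum_le_sum
  intro c _
  have h2' : 2 ∈ π.erase q := Finset.mem_erase.mpr ⟨fun h => hq2 h.symm, h2⟩
  set Cc := Subgroup.centralizer ({PiCl.rep q c} : Set G) with hCc
  have h3 := PiCl.card_le_mul (π.erase q) (fun r hr => hπ r (Finset.mem_of_mem_erase hr)) 2 h2' Cc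
  refine h3.trans ?_
  apply Nat.mul_le_mul
  · obtain S : Sylow 2 Cc := default
    have := Nat.card_le_card_of_surjective _ (PCl.clOf_surjective S)
    rw [Sylow.card_eq_multiplicity] at this
    exact this
  · exact PiCl.part_le_of_dvd _ (Subgroup.card_subgroup_dvd_card _) Nat.card_pos.ne'

/-- the conclusion for an odd prime of `π` -/
theorem exists_sylow_normalizer_le (π : Finset ℕ) (hπ : ∀ r ∈ π, r.Prime) (h2 : 2 ∈ π)
    (hk : π.prod (fun r => r ^ (Nat.card G).factorization r) < 2 * Nat.card (PiCl.Cl π G))
    (hq : q ∈ π) (hq2 : q ≠ 2) :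
    ∃ Q : Sylow q G, Subgroup.normalizer ((Q : Subgroup G) : Set G) ≤
      Subgroup.centralizer ((Q : Subgroup G) : Set G) := by
  classical
  by_contra hcon
  push Not at hcon
  haveI : Fintype (PCl.Cl q G) := Fintype.ofFinite _
  have h1 := key_bound hq2 hcon
  have h3 := card_cl_le_sum (q := q) (G := G) π hπ h2 hq hq2
  have h2' : 2 ∈ π.erase q := Finset.mem_erase.mpr ⟨fun h => hq2 h.symm, h2⟩
  have h4 : π.prod (fun r => r ^ (Nat.card G).factorization r)
      = q ^ (Nat.card G).factorization q * (2 ^ (Nat.card G).factorization 2 *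
        PiCl.part ((π.erase q).erase 2) (Nat.card G)) := by
    rw [← Finset.mul_prod_erase π _ hq, ← Finset.mul_prod_erase (π.erase q) _ h2']
    rfl
  set E := PiCl.part ((π.erase q).erase 2) (Nat.card G)
  set S := ∑ c : PCl.Cl q G, w c
  set n := 2 ^ (Nat.card G).factorization 2
  set v := q ^ (Nat.card G).factorization q
  rw [h4] at hk
  have h5 : 2 * Nat.card (PiCl.Cl π G) ≤ 2 * (S * E) := Nat.mul_le_mul_left 2 h3
  have h6 : 2 * (S * E) ≤ n * v * E := by
    calc 2 * (S * E) = (2 * S) * E := by ring
      _ ≤ (n * v) * E := Nat.mul_le_mul_right E h1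
  have h7 : v * (n * E) = n * v * E := by ring
  omega

end Cfsg.Agent.Lib.Helper7.PiTwo
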