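import Mathlib

set_option autoImplicit false

namespace Cfsg.Agent.Lib.Helper7

section
variable {G : Type*} [Group G]

theorem exists_orderOf_eq_of_dvd [Finite G] (x : G) (n : ℕ) (h : n ∣ orderOf x) :
    ∃ z : G, orderOf z = n :=
  ⟨x ^ (orderOf x / n), orderOf_pow_orderOf_div (orderOf_pos x).ne' h⟩

/-- if there is no element of order `r * q`, an element of order `q` commutes with no
nontrivial `r`-element. -/
theorem eq_one_of_commute_of_no_mul [Finite G] {r q : ℕ} (hr : r.Prime) (hq : q.Prime)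
    (hrq : r ≠ q) (hno : ∀ x : G, orderOf x ≠ r * q) (g a : G) (hg : orderOf g = q)
    (ha : ∃ k, orderOf a = r ^ k) (hc : Commute g a) : a = 1 := by
  by_contra ha1
  obtain ⟨k, hk⟩ := ha
  have hk0 : k ≠ 0 := by
    rintro rfl
    rw [pow_zero, orderOf_eq_one_iff] at hk
    exact ha1 hk
  have hdvd : r ∣ orderOf a := by rw [hk]; exact dvd_pow_self r hk0
  have hcop : Nat.Coprime (orderOf a) (orderOf g) := by
    rw [hk, hg]; exact Nat.Coprime.pow_left _ ((Nat.coprime_primes hr hq).mpr hrq)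
  have h1 : orderOf (a * g) = orderOf a * orderOf g :=
    hc.symm.orderOf_mul_eq_mul_orderOf_of_coprime hcop
  have h2 : r * q ∣ orderOf (a * g) := by rw [h1, hg]; exact Nat.mul_dvd_mul hdvd dvd_rfl
  obtain ⟨z, hz⟩ := exists_orderOf_eq_of_dvd (a * g) (r * q) h2
  exact hno z hz

/-- The Frobenius-sum lemma: an abelian normal `r`-subgroup `A ≠ 1`, an `s`-subgroup `V ≠ 1` and an
element `y` of order `t` normalizing `V` force an element of order `rs`, `rt` or `st`. -/
theorem frobenius_sum_lemma [Finite G] {r s t : ℕ} (hr : r.Prime) (hs : s.Prime) (ht : t.Prime)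
    (hrs : r ≠ s) (hrt : r ≠ t) (hst : s ≠ t)
    (A : Subgroup G) [hAn : A.Normal] (hAc : ∀ a ∈ A, ∀ b ∈ A, a * b = b * a)
    (hAr : IsPGroup r A) (hA : A ≠ ⊥)
    (V : Subgroup G) (hVs : IsPGroup s V) (hV : V ≠ ⊥)
    (y : G) (hy : orderOf y = t) (hyV : y ∈ Subgroup.normalizer (V : Set G)) :
    ∃ x : G, orderOf x = r * s ∨ orderOf x = r * t ∨ orderOf x = s * t := by
  classical
  by_contra hno
  push Not at hno
  have hno_rs : ∀ x : G, orderOf x ≠ r * s := fun x => (hno x).1
  have hno_rt : ∀ x : G, orderOf x ≠ r * t := fun x => (hno x).2.1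
  have hno_st : ∀ x : G, orderOf x ≠ s * t := fun x => (hno x).2.2
  haveI : Fact r.Prime := ⟨hr⟩
  haveI : Fact s.Prime := ⟨hs⟩
  haveI := Fintype.ofFinite V
  have hAord : ∀ a ∈ A, ∃ k, orderOf a = r ^ k := fun a ha => by
    obtain ⟨k, hk⟩ := IsPGroup.iff_orderOf.mp hAr ⟨a, ha⟩
    rw [Subgroup.orderOf_mk] at hk
    exact ⟨k, hk⟩
  have hVord : ∀ v ∈ V, ∃ k, orderOf v = s ^ k := fun v hv => by
    obtain ⟨k, hk⟩ := IsPGroup.iff_orderOf.mp hVs ⟨v, hv⟩
    rw [Subgroup.orderOf_mk] at hk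
    exact ⟨k, hk⟩
  have hyi : ∀ i : ℕ, ∀ v ∈ V, y ^ i * v * (y ^ i)⁻¹ ∈ V := by
    intro i v hv
    have : y ^ i ∈ Subgroup.normalizer (V : Set G) := Subgroup.pow_mem _ hyV i
    exact (Subgroup.mem_normalizer_iff.mp this v).mp hv
  have hτ : ∀ v ∈ V, ∀ i : ℕ, (v * y) ^ i * (y ^ i)⁻¹ ∈ V := by
    intro v hv i
    induction i with
    | zero => simp
    | succ i ih =>
      have : (v * y) ^ (i + 1) * (y ^ (i + 1))⁻¹ =
          ((v * y) ^ i * (y ^ i)⁻¹) * (y ^ i * v * (y ^ i)⁻¹) := by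
        rw [pow_succ, pow_succ]; group
      rw [this]
      exact V.mul_mem ih (hyi i v hv)
  have hyV' : y ∉ V := by
    intro h
    obtain ⟨k, hk⟩ := hVord y h
    rw [hy] at hk
    have hk0 : k ≠ 0 := by
      rintro rfl
      rw [pow_zero] at hk
      exact ht.one_lt.ne' hk
    have : s ∣ t := by rw [hk]; exact dvd_pow_self s hk0
    exact hst ((Nat.prime_dvd_prime_iff_eq hs ht).mp this)
  have hft : ∀ v ∈ V, (v * y) ^ t = 1 := by
    intro v hv
    have hw : (v * y) ^ t ∈ V := by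
      have := hτ v hv t
      rwa [← hy, pow_orderOf_eq_one, inv_one, mul_one, hy] at this
    by_contra hw1
    obtain ⟨j, hj⟩ := hVord _ hw
    have hj0 : j ≠ 0 := by
      rintro rfl
      rw [pow_zero, orderOf_eq_one_iff] at hj
      exact hw1 hj
    have hs_dvd : s ∣ orderOf (v * y) :=
      (dvd_pow_self s hj0).trans (hj ▸ orderOf_pow_dvd t)
    have ht_dvd : t ∣ orderOf (v * y) := by
      by_contra hnd
      have hcop : Nat.Coprime (orderOf (v * y)) t :=
        (Nat.Coprime.symm ((Nat.Prime.coprime_iff_not_dvd ht).mpr hnd))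
      have hmem : v * y ∈ Subgroup.zpowers ((v * y) ^ t) := by
        have h1 : orderOf ((v * y) ^ t) = orderOf (v * y) := hcop.orderOf_pow
        have h2 : Subgroup.zpowers ((v * y) ^ t) = Subgroup.zpowers (v * y) := by
          apply Subgroup.eq_of_le_of_card_ge
          · rw [Subgroup.zpowers_le]; exact Subgroup.pow_mem _ (Subgroup.mem_zpowers _) t
          · rw [Nat.card_zpowers, Nat.card_zpowers, h1]
        rw [h2]; exact Subgroup.mem_zpowers _
      have hfV : v * y ∈ V := (Subgroup.zpowers_le.mpr hw) hmem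
      apply hyV'
      have : y = v⁻¹ * (v * y) := by group
      rw [this]; exact V.mul_mem (V.inv_mem hv) hfV
    have : s * t ∣ orderOf (v * y) :=
      Nat.Coprime.mul_dvd_of_dvd_of_dvd ((Nat.coprime_primes hs ht).mpr hst) hs_dvd ht_dvd
    obtain ⟨z, hz⟩ := exists_orderOf_eq_of_dvd (v * y) (s * t) this
    exact hno_st z hz
  letI : CommGroup A :=
    { (inferInstance : Group A) with mul_comm := fun a b => Subtype.ext (hAc a a.2 b b.2) }
  let φ : G →* MulAut A := MulAut.conjNormal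
  have hφ : ∀ (g : G) (a : A), ((φ g a : A) : G) = g * a * g⁻¹ :=
    fun g a => MulAut.conjNormal_apply g a
  have hfix : ∀ q : ℕ, q.Prime → r ≠ q → (∀ x : G, orderOf x ≠ r * q) →
      ∀ f : G, orderOf f = q → ∀ a : A, φ f a = a → a = 1 := by
    intro q hq hrq hnoq f hf a ha
    have h1 : f * (a : G) * f⁻¹ = a := by rw [← hφ, ha]
    have hc : Commute f (a : G) := by
      have : f * (a : G) = (a : G) * f := by
        rw [← mul_inv_eq_iff_eq_mul]; exact h1
      exact this
    have := eq_one_of_commute_of_no_mul hr hq hrq hnoq f a hf (hAord a a.2) hc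
    exact Subtype.ext this
  -- an element of order s in V
  obtain ⟨v0, hv0V, hv0⟩ : ∃ v0 ∈ V, orderOf v0 = s := by
    have hnt : Nontrivial V := (Subgroup.nontrivial_iff_ne_bot V).mpr hV
    obtain ⟨m, hm0, hm⟩ := (IsPGroup.nontrivial_iff_card hVs).mp hnt
    have hdvd : s ∣ Nat.card V := by rw [hm]; exact dvd_pow_self s hm0.ne'
    obtain ⟨w, hw⟩ := exists_prime_orderOf_dvd_card' s hdvd
    exact ⟨w, w.2, by rw [← Subgroup.orderOf_coe] at hw; exact hw⟩
  have hN : ∀ v ∈ V, ∀ a : A, ∏ i ∈ Finset.range t, φ ((v * y) ^ i) a = 1 := by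
    intro v hv a
    have hford : orderOf (v * y) = t := by
      have h1 : orderOf (v * y) ∣ t := orderOf_dvd_of_pow_eq_one (hft v hv)
      rcases (Nat.dvd_prime ht).mp h1 with h | h
      · exfalso
        rw [orderOf_eq_one_iff] at h
        apply hyV'
        have : y = v⁻¹ := eq_inv_of_mul_eq_one_right h
        rw [this]; exact V.inv_mem hv
      · exact h
    apply hfix t ht hrt hno_rt (v * y) hford
    rw [map_prod]
    have hstep : ∀ i, φ (v * y) (φ ((v * y) ^ i) a) = φ ((v * y) ^ (i + 1)) a := by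
      intro i; rw [pow_succ', map_mul φ (v * y) ((v * y) ^ i)]; rfl
    simp only [hstep]
    have h1 := Finset.prod_range_succ' (fun i => φ ((v * y) ^ i) a) t
    have h2 := Finset.prod_range_succ (fun i => φ ((v * y) ^ i) a) t
    rw [h1] at h2
    simp only [pow_zero, hft v hv] at h2
    exact mul_right_cancel h2
  have hVinv : ∀ b : A, ∏ u : V, φ (u : G) b = 1 := by
    intro b
    apply hfix s hs hrs hno_rs v0 hv0
    rw [map_prod]
    have hstep : ∀ u : V, φ v0 (φ (u : G) b) = φ (((⟨v0, hv0V⟩ : V) * u : V) : G) b := by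
      intro u; rw [Subgroup.coe_mul, map_mul]; rfl
    simp only [hstep]
    exact Fintype.prod_equiv (Equiv.mulLeft (⟨v0, hv0V⟩ : V)) _ _ (fun u => rfl)
  have hσ : ∀ i : ℕ, ¬ t ∣ i → ∀ a : A, ∏ v : V, φ (((v : G) * y) ^ i) a = 1 := by
    intro i hi a
    let σ : V → V := fun v => ⟨((v : G) * y) ^ i * (y ^ i)⁻¹, hτ v v.2 i⟩
    have hσinj : Function.Injective σ := by
      intro v v' h
      have h1 : ((v : G) * y) ^ i = ((v' : G) * y) ^ i := by
        have := congrArg Subtype.val h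
        exact mul_right_cancel this
      have hcop : Nat.Coprime i t := ((Nat.Prime.coprime_iff_not_dvd ht).mpr hi).symm
      obtain ⟨j, -, hj⟩ := Nat.exists_mul_mod_eq_one_of_coprime hcop ht.one_lt
      have key : ∀ w ∈ V, ((w * y) ^ i) ^ j = w * y := by
        intro w hw
        rw [← pow_mul]
        have : (w * y) ^ (i * j) = (w * y) ^ (i * j % t) := by
          conv_lhs => rw [← Nat.div_add_mod (i * j) t, pow_add, pow_mul, hft w hw, one_pow, one_mul]
        rw [this, hj, pow_one]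
      have h2 : (v : G) * y = (v' : G) * y := by rw [← key v v.2, ← key v' v'.2, h1]
      exact Subtype.ext (mul_right_cancel h2)
    have hσbij : Function.Bijective σ := Finite.injective_iff_bijective.mp hσinj
    have h3 : ∀ v : V, φ (((v : G) * y) ^ i) a = φ ((σ v : V) : G) (φ (y ^ i) a) := by
      intro v
      rw [← MulAut.mul_apply, ← map_mul]
      congr 2
      simp [σ]
    simp only [h3]
    rw [Fintype.prod_bijective σ hσbij (fun v => φ ((σ v : V) : G) (φ (y ^ i) a))
      (fun u => φ (u : G) (φ (y ^ i) a)) (fun v => rfl)]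
    exact hVinv _
  have hfinal : ∀ a : A, a ^ Nat.card V = 1 := by
    intro a
    have h1 : ∏ v : V, ∏ i ∈ Finset.range t, φ (((v : G) * y) ^ i) a = 1 :=
      Finset.prod_eq_one (fun v _ => hN v v.2 a)
    rw [Finset.prod_comm] at h1
    rw [Finset.prod_eq_single 0 (fun i hi hi0 => hσ i (fun hd => by
        have := Nat.le_of_dvd (Nat.pos_of_ne_zero hi0) hd
        have := Finset.mem_range.mp hi
        omega) a)
      (fun h => absurd (Finset.mem_range.mpr ht.pos) h)] at h1
    simpa [Nat.card_eq_fintype_card] using h1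
  apply hA
  rw [eq_bot_iff]
  intro a ha
  have h1 := hfinal ⟨a, ha⟩
  have h2 : orderOf (⟨a, ha⟩ : A) ∣ Nat.card V := orderOf_dvd_of_pow_eq_one h1
  obtain ⟨k, hk⟩ := hAord a ha
  obtain ⟨m, hm⟩ := IsPGroup.iff_card.mp hVs
  rw [Subgroup.orderOf_mk, hk, hm] at h2
  have hcop : Nat.Coprime (r ^ k) (s ^ m) :=
    Nat.Coprime.pow _ _ ((Nat.coprime_primes hr hs).mpr hrs)
  have : r ^ k = 1 := Nat.Coprime.eq_one_of_dvd hcop h2
  rw [this, orderOf_eq_one_iff] at hk
  exact Subgroup.mem_bot.mpr hk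

end

end Cfsg.Agent.Lib.Helper7
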