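import Mathlib
import Cfsg.Agent.Lib.Helper7.PrimeGraph1
import Cfsg.Agent.Lib.Lead.SylowSystem

set_option autoImplicit false

namespace Cfsg.Agent.Lib.Helper7

universe u

open Cfsg.Agent.Lib.Lead

/-- A finite solvable group whose order has at least three prime divisors has an element
whose order is the product of two distinct primes. -/
theorem solvable_three_primes_aux (n : ℕ) : ∀ (H : Type u) [Group H] [Finite H]
    [Group.IsSolvable H], Nat.card H = n → 3 ≤ (Nat.card H).primeFactors.card →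
    ∃ x : H, ∃ a b : ℕ, a.Prime ∧ b.Prime ∧ a ≠ b ∧ orderOf x = a * b := by
  induction n using Nat.strong_induction_on with
  | _ n ih =>
    intro H _ _ _ hn h3
    classical
    have hNpos : 0 < Nat.card H := Nat.card_pos
    haveI : Nontrivial H := by
      rw [← Finite.one_lt_card_iff_nontrivial]
      by_contra hle
      have : Nat.card H = 1 := by omega
      rw [this] at h3
      simp at h3
    obtain ⟨p, A, hp, hAn, hAc, hAp, hAne, -⟩ := exists_normal_abelian_pgroup (G := H)
    haveI := hAn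
    haveI : Fact p.Prime := ⟨hp⟩
    obtain ⟨k, hk⟩ := IsPGroup.iff_card.mp hAp
    have hk0 : k ≠ 0 := by
      rintro rfl
      rw [pow_zero] at hk
      exact hAne ((Subgroup.card_eq_one).mp hk)
    have hAcard : 1 < Nat.card A := by
      rw [hk]; exact Nat.one_lt_pow hk0 hp.one_lt
    have hmul : Nat.card A * A.index = Nat.card H := A.card_mul_index
    -- a prime different from p dividing |H| divides the index
    have hother : ∀ ℓ : ℕ, ℓ.Prime → ℓ ≠ p → ℓ ∣ Nat.card H → ℓ ∣ A.index := by
      intro ℓ hℓ hℓp hd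
      rw [← hmul, hk] at hd
      rcases (Nat.Prime.dvd_mul hℓ).mp hd with h | h
      · exact absurd ((Nat.prime_dvd_prime_iff_eq hℓ hp).mp (hℓ.dvd_of_dvd_pow h)) hℓp
      · exact h
    by_cases hpidx : p ∣ A.index
    · -- pass to the quotient
      have hcardQ : Nat.card (H ⧸ A) = A.index := rfl
      have hlt : Nat.card (H ⧸ A) < n := by
        rw [hcardQ, ← hn, ← hmul]
        have : 0 < A.index := Nat.pos_of_ne_zero Subgroup.index_ne_zero_of_finite
        nlinarith
      have hsub : (Nat.card H).primeFactors ⊆ (Nat.card (H ⧸ A)).primeFactors := by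
        intro ℓ hℓ
        rw [Nat.mem_primeFactors] at hℓ ⊢
        refine ⟨hℓ.1, ?_, Nat.card_pos.ne'⟩
        rw [hcardQ]
        by_cases hℓp : ℓ = p
        · rw [hℓp]; exact hpidx
        · exact hother ℓ hℓ.1 hℓp hℓ.2.1
      have h3' : 3 ≤ (Nat.card (H ⧸ A)).primeFactors.card := h3.trans (Finset.card_le_card hsub)
      obtain ⟨xq, a, b, ha, hb, hab, hx⟩ := ih _ hlt (H ⧸ A) rfl h3'
      obtain ⟨x, rfl⟩ := QuotientGroup.mk_surjective xq
      have hdvd : a * b ∣ orderOf x := by
        rw [← hx]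
        exact orderOf_map_dvd (QuotientGroup.mk' A) x
      obtain ⟨z, hz⟩ := exists_orderOf_eq_of_dvd x (a * b) hdvd
      exact ⟨z, a, b, ha, hb, hab, hz⟩
    · -- complement
      have hcop : Nat.Coprime (Nat.card A) A.index := by
        rw [hk]; exact Nat.Coprime.pow_left _ ((Nat.Prime.coprime_iff_not_dvd hp).mpr hpidx)
      obtain ⟨L, hL⟩ := Subgroup.exists_right_complement'_of_coprime hcop
      have hLcard : Nat.card L = A.index := hL.symm.index_eq_card.symm
      -- primes
      have h2 : 2 ≤ ((Nat.card H).primeFactors.erase p).card := by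
        have := Finset.pred_card_le_card_erase (s := (Nat.card H).primeFactors) (a := p)
        omega
      haveI : Nontrivial L := by
        rw [← Finite.one_lt_card_iff_nontrivial, hLcard]
        obtain ⟨ℓ, hℓ⟩ := Finset.card_pos.mp (by omega : 0 < ((Nat.card H).primeFactors.erase p).card)
        rw [Finset.mem_erase, Nat.mem_primeFactors] at hℓ
        have hd := hother ℓ hℓ.2.1 hℓ.1 hℓ.2.2.1
        have : 0 < A.index := Nat.pos_of_ne_zero Subgroup.index_ne_zero_of_finite
        exact lt_of_lt_of_le hℓ.2.1.one_lt (Nat.le_of_dvd this hd)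
      obtain ⟨q, V, hq, hVn, hVc, hVq, hVne, -⟩ := exists_normal_abelian_pgroup (G := L)
      haveI : Fact q.Prime := ⟨hq⟩
      have hqL : q ∣ Nat.card L := by
        obtain ⟨j, hj⟩ := IsPGroup.iff_card.mp hVq
        have hj0 : j ≠ 0 := by
          rintro rfl
          rw [pow_zero] at hj
          exact hVne ((Subgroup.card_eq_one).mp hj)
        have : q ∣ Nat.card V := by rw [hj]; exact dvd_pow_self q hj0
        exact this.trans V.card_subgroup_dvd_card
      have hqp : q ≠ p := by
        rintro rfl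
        rw [hLcard] at hqL
        exact hpidx hqL
      have h1 : 1 ≤ (((Nat.card H).primeFactors.erase p).erase q).card := by
        have := Finset.pred_card_le_card_erase (s := (Nat.card H).primeFactors.erase p) (a := q)
        omega
      obtain ⟨ℓ, hℓ⟩ := Finset.card_pos.mp h1
      rw [Finset.mem_erase, Finset.mem_erase, Nat.mem_primeFactors] at hℓ
      obtain ⟨hℓq, hℓp, hℓprime, hℓdvd, -⟩ := hℓ
      have hℓL : ℓ ∣ Nat.card L := by rw [hLcard]; exact hother ℓ hℓprime hℓp hℓdvd
      haveI : Fact ℓ.Prime := ⟨hℓprime⟩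
      obtain ⟨y, hy⟩ := exists_prime_orderOf_dvd_card' ℓ hℓL
      -- apply the Frobenius-sum lemma
      have hAc' : ∀ a ∈ A, ∀ b ∈ A, a * b = b * a := by
        intro a ha b hb
        have := mul_comm' (⟨a, ha⟩ : A) ⟨b, hb⟩
        exact congrArg Subtype.val this
      have hV' : IsPGroup q (V.map L.subtype) := hVq.map _
      have hVne' : V.map L.subtype ≠ ⊥ := by
        intro h
        apply hVne
        rw [eq_bot_iff]
        intro v hv
        have : (v : H) ∈ V.map L.subtype := ⟨v, hv, rfl⟩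
        rw [h, Subgroup.mem_bot] at this
        exact Subgroup.mem_bot.mpr (Subtype.ext this)
      have hyN : (y : H) ∈ Subgroup.normalizer ((V.map L.subtype : Subgroup H) : Set H) := by
        have h1 := Subgroup.le_normalizer_map (H := V) L.subtype
        apply h1
        refine ⟨y, ?_, rfl⟩
        rw [Subgroup.normalizer_eq_top_iff.mpr hVn]
        exact Subgroup.mem_top y
      have hyord : orderOf (y : H) = ℓ := by rw [Subgroup.orderOf_coe]; exact hy
      obtain ⟨x, hx⟩ := frobenius_sum_lemma hp hq hℓprime hqp.symm (Ne.symm hℓp) (Ne.symm hℓq)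
        A hAc' hAp hAne (V.map L.subtype) hV' hVne' (y : H) hyord hyN
      rcases hx with hx | hx | hx
      · exact ⟨x, p, q, hp, hq, hqp.symm, hx⟩
      · exact ⟨x, p, ℓ, hp, hℓprime, Ne.symm hℓp, hx⟩
      · exact ⟨x, q, ℓ, hq, hℓprime, Ne.symm hℓq, hx⟩

theorem solvable_three_primes (H : Type u) [Group H] [Finite H] [Group.IsSolvable H]
    (h3 : 3 ≤ (Nat.card H).primeFactors.card) :
    ∃ x : H, ∃ a b : ℕ, a.Prime ∧ b.Prime ∧ a ≠ b ∧ orderOf x = a * b :=
  solvable_three_primes_aux _ H rfl h3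

end Cfsg.Agent.Lib.Helper7

namespace Cfsg.Agent.Lib.Helper7

universe u

open Cfsg.Agent.Lib.Lead

/-- The prime graph of a solvable group has no 3-coclique. -/
theorem solvable_no_three_coclique (H : Type u) [Group H] [Finite H] [Group.IsSolvable H]
    {r s t : ℕ} (hr : r.Prime) (hs : s.Prime) (ht : t.Prime) (hrs : r ≠ s) (hrt : r ≠ t)
    (hst : s ≠ t) (hrH : r ∣ Nat.card H) (hsH : s ∣ Nat.card H) (htH : t ∣ Nat.card H) :
    ∃ x : H, orderOf x = r * s ∨ orderOf x = r * t ∨ orderOf x = s * t := by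
  classical
  have hN0 : Nat.card H ≠ 0 := Nat.card_pos.ne'
  let T := (Nat.card H).primeFactors.filter (fun q => q ≠ r ∧ q ≠ s ∧ q ≠ t)
  have hTprime : ∀ q ∈ T, q.Prime := fun q hq =>
    Nat.prime_of_mem_primeFactors (Finset.mem_filter.mp hq).1
  let H₁ : Subgroup H := T.inf (hallCompl H)
  have hidx : H₁.index = ∏ q ∈ T, q ^ (Nat.card H).factorization q :=
    index_finset_inf_hallCompl T hTprime
  have hmul : Nat.card H₁ * H₁.index = Nat.card H := H₁.card_mul_index
  have hi : ∀ ℓ : ℕ, ℓ.Prime → (ℓ = r ∨ ℓ = s ∨ ℓ = t) → ℓ ∣ Nat.card H₁ := by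
    intro ℓ hℓ hmem
    have hℓN : ℓ ∣ Nat.card H := by rcases hmem with rfl | rfl | rfl <;> assumption
    have hnd : ¬ ℓ ∣ H₁.index := by
      rw [hidx]
      intro hd
      obtain ⟨q, hqT, hq⟩ := (Prime.dvd_finset_prod_iff (Nat.Prime.prime hℓ) _).mp hd
      have := (Nat.prime_dvd_prime_iff_eq hℓ (hTprime q hqT)).mp (hℓ.dvd_of_dvd_pow hq)
      subst this
      have := (Finset.mem_filter.mp hqT).2
      rcases hmem with h | h | h
      · exact this.1 h
      · exact this.2.1 h
      · exact this.2.2 h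
    rw [← hmul] at hℓN
    exact ((Nat.Prime.dvd_mul hℓ).mp hℓN).resolve_right hnd
  have hii : ∀ ℓ : ℕ, ℓ.Prime → ℓ ∣ Nat.card H₁ → (ℓ = r ∨ ℓ = s ∨ ℓ = t) := by
    intro ℓ hℓ hd
    by_contra hne
    push Not at hne
    have hℓN : ℓ ∣ Nat.card H := hd.trans (Subgroup.card_subgroup_dvd_card _)
    have hℓT : ℓ ∈ T := by
      rw [Finset.mem_filter, Nat.mem_primeFactors]
      exact ⟨⟨hℓ, hℓN, hN0⟩, hne⟩
    have h1 : ℓ ^ (Nat.card H).factorization ℓ ∣ H₁.index := by
      rw [hidx]; exact Finset.dvd_prod_of_mem _ hℓT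
    have h2 : ℓ ^ ((Nat.card H).factorization ℓ + 1) ∣ Nat.card H := by
      rw [pow_succ']
      have h3 : ℓ * ℓ ^ (Nat.card H).factorization ℓ ∣ Nat.card H₁ * H₁.index :=
        Nat.mul_dvd_mul hd h1
      exact h3.trans (dvd_of_eq hmul)
    exact Nat.pow_succ_factorization_not_dvd hN0 hℓ h2
  have h3 : 3 ≤ (Nat.card H₁).primeFactors.card := by
    have hsub : ({r, s, t} : Finset ℕ) ⊆ (Nat.card H₁).primeFactors := by
      intro ℓ hℓ
      simp only [Finset.mem_insert, Finset.mem_singleton] at hℓ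
      have hprime : ℓ.Prime := by rcases hℓ with rfl | rfl | rfl <;> assumption
      exact Nat.mem_primeFactors.mpr ⟨hprime, hi ℓ hprime hℓ, Nat.card_pos.ne'⟩
    have hc : ({r, s, t} : Finset ℕ).card = 3 := by
      rw [Finset.card_insert_of_notMem, Finset.card_insert_of_notMem, Finset.card_singleton]
      · simpa using hst
      · simp [hrs, hrt]
    rw [← hc]; exact Finset.card_le_card hsub
  obtain ⟨x, a, b, ha, hb, hab, hx⟩ := solvable_three_primes H₁ h3
  have hadvd : a ∣ Nat.card H₁ :=
    (Dvd.intro _ hx.symm : a ∣ orderOf x).trans (orderOf_dvd_natCard x)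
  have hbdvd : b ∣ Nat.card H₁ :=
    (Dvd.intro_left _ hx.symm : b ∣ orderOf x).trans (orderOf_dvd_natCard x)
  have ha' := hii a ha hadvd
  have hb' := hii b hb hbdvd
  refine ⟨(x : H), ?_⟩
  rw [Subgroup.orderOf_coe, hx]
  rcases ha' with h1 | h1 | h1 <;> rcases hb' with h2 | h2 | h2 <;> subst h1 <;> subst h2
  · exact absurd rfl hab
  · exact Or.inl rfl
  · exact Or.inr (Or.inl rfl)
  · exact Or.inl (mul_comm _ _)
  · exact absurd rfl hab
  · exact Or.inr (Or.inr rfl)
  · exact Or.inr (Or.inl (mul_comm _ _))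
  · exact Or.inr (Or.inr (mul_comm _ _))
  · exact absurd rfl hab

end Cfsg.Agent.Lib.Helper7
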