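import Mathlib

/-!
# Automorphisms of doubly transitive groups: the matrix argument (helper7)

Arithmetic and linear algebra behind S4276.
-/

set_option autoImplicit false
set_option linter.unusedSectionVars false

namespace Cfsg.Agent.Lib.Helper7.TTA


/-- If `a^2 = c^(2s+1)` with `c > 0` then `c = m^2` and `|a| = m^(2s+1)`. -/
theorem sq_of_sq_eq_odd_pow {a c : ℤ} {s : ℕ} (hc : 0 < c) (h : a ^ 2 = c ^ (2 * s + 1)) :
    ∃ m : ℕ, 0 < m ∧ c = (m : ℤ) ^ 2 ∧ (a = (m : ℤ) ^ (2 * s + 1) ∨ a = -(m : ℤ) ^ (2 * s + 1)) := by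
  obtain ⟨c', rfl⟩ : ∃ c' : ℕ, c = (c' : ℤ) := ⟨c.toNat, (Int.toNat_of_nonneg hc.le).symm⟩
  have hc' : 0 < c' := by exact_mod_cast hc
  have h1 : a.natAbs ^ 2 = c' ^ (2 * s + 1) := by
    have : ((a.natAbs ^ 2 : ℕ) : ℤ) = ((c' ^ (2 * s + 1) : ℕ) : ℤ) := by
      push_cast
      rw [sq_abs]
      exact h
    exact_mod_cast this
  have h2 : c' ^ (2 * s + 1) = c' * (c' ^ s) ^ 2 := by ring
  have h3 : (c' ^ s) ^ 2 ∣ a.natAbs ^ 2 := by
    rw [h1, h2]; exact Dvd.intro_left _ rfl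
  have h4 : c' ^ s ∣ a.natAbs := (Nat.pow_dvd_pow_iff two_ne_zero).1 h3
  obtain ⟨m, hm⟩ := h4
  have hpos : 0 < c' ^ s := pow_pos hc' s
  have h5 : m ^ 2 = c' := by
    have : (c' ^ s) ^ 2 * m ^ 2 = (c' ^ s) ^ 2 * c' := by
      calc (c' ^ s) ^ 2 * m ^ 2 = (c' ^ s * m) ^ 2 := by ring
        _ = a.natAbs ^ 2 := by rw [hm]
        _ = c' ^ (2 * s + 1) := h1
        _ = (c' ^ s) ^ 2 * c' := by ring
    exact Nat.eq_of_mul_eq_mul_left (pow_pos hpos 2) this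
  have hm0 : 0 < m := by
    rcases Nat.eq_zero_or_pos m with h0 | h0
    · subst h0; simp at h5; omega
    · exact h0
  refine ⟨m, hm0, by rw [← h5]; push_cast; ring, ?_⟩
  have h6 : a.natAbs = m ^ (2 * s + 1) := by
    rw [hm, ← h5]; ring
  rcases Int.natAbs_eq a with h7 | h7
  · left; rw [h7, h6]; push_cast; ring
  · right; rw [h7, h6]; push_cast; ring

/-- The arithmetic heart of the argument. -/
theorem arith {n k : ℕ} (hn : 2 ≤ n) (hk1 : 1 ≤ k) (hkn : k < n) (hcop : Nat.Coprime k n)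
    {a b c l : ℤ} {s : ℕ} (hl : 0 ≤ l)
    (h1 : a ^ 2 = c ^ (2 * s + 1)) (h2 : a + b * n = (k : ℤ) ^ (2 * s + 1))
    (h3 : c + l = k) (h4 : c + l * n = (k : ℤ) ^ 2) :
    k = 1 ∨ k + 1 = n := by
  have hk1' : (1 : ℤ) ≤ k := by exact_mod_cast hk1
  have hkn' : (k : ℤ) < n := by exact_mod_cast hkn
  -- c > 0
  have hc0 : 0 < c := by
    rcases lt_trichotomy c 0 with hc | hc | hc
    · exfalso
      have : c ^ (2 * s + 1) < 0 := Odd.pow_neg ⟨s, rfl⟩ hc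
      nlinarith [sq_nonneg a]
    · exfalso
      subst hc
      have hlk : l = k := by linarith
      rw [hlk] at h4
      have : (k : ℤ) * n = k * k := by nlinarith
      have : (n : ℤ) = k := by
        have hk0 : (k : ℤ) ≠ 0 := by omega
        exact mul_left_cancel₀ hk0 this
      omega
    · exact hc
  obtain ⟨m, hm0, hcm, ham⟩ := sq_of_sq_eq_odd_pow hc0 h1
  have hm0' : (1 : ℤ) ≤ m := by exact_mod_cast hm0
  -- m ≤ k
  have hmk : (m : ℤ) ≤ k := by nlinarith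
  -- n ∣ k^2 - m^2
  have hd1 : (n : ℤ) ∣ (k : ℤ) ^ 2 - (m : ℤ) ^ 2 := ⟨l, by rw [← hcm]; linarith⟩
  have hd2 : (n : ℤ) ∣ ((k : ℤ) ^ 2) ^ s - ((m : ℤ) ^ 2) ^ s :=
    hd1.trans (sub_dvd_pow_sub_pow _ _ s)
  -- coprimality of m and n
  have hcop2 : IsCoprime ((m : ℤ) ^ (2 * s)) (n : ℤ) := by
    have hk2 : IsCoprime ((k : ℤ) ^ 2) (n : ℤ) :=
      IsCoprime.pow_left (Nat.isCoprime_iff_coprime.2 hcop)
    have hm2 : IsCoprime ((m : ℤ) ^ 2) (n : ℤ) := by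
      have : (m : ℤ) ^ 2 = (k : ℤ) ^ 2 + (-l) * n := by rw [← hcm]; linarith
      rw [this]
      exact (IsCoprime.add_mul_right_left_iff).2 hk2
    rw [pow_mul]
    exact IsCoprime.pow_left hm2
  rcases ham with ha | ha
  · -- a = m^t : n ∣ k - m
    left
    have hd3 : (n : ℤ) ∣ (m : ℤ) ^ (2 * s) * ((k : ℤ) - m) := by
      have e : (m : ℤ) ^ (2 * s) * ((k : ℤ) - m) =
          ((k : ℤ) ^ (2 * s + 1) - a) - k * (((k : ℤ) ^ 2) ^ s - ((m : ℤ) ^ 2) ^ s) := by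
        rw [ha]; ring
      rw [e]
      exact dvd_sub ⟨b, by linarith⟩ (Dvd.dvd.mul_left hd2 _)
    have hd4 : (n : ℤ) ∣ (k : ℤ) - m := hcop2.symm.dvd_of_dvd_mul_left hd3
    have hkm : (k : ℤ) - m = 0 := by
      apply Int.eq_zero_of_abs_lt_dvd hd4
      rw [abs_lt]; constructor <;> linarith
    have : (k : ℤ) = m := by linarith
    have hck : c = (k : ℤ) ^ 2 := by rw [hcm, this]
    have : (k : ℤ) ^ 2 ≤ k := by linarith
    have : (k : ℤ) ≤ 1 := by nlinarith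
    omega
  · -- a = -m^t : n ∣ k + m
    right
    have hd3 : (n : ℤ) ∣ (m : ℤ) ^ (2 * s) * ((k : ℤ) + m) := by
      have e : (m : ℤ) ^ (2 * s) * ((k : ℤ) + m) =
          ((k : ℤ) ^ (2 * s + 1) - a) - k * (((k : ℤ) ^ 2) ^ s - ((m : ℤ) ^ 2) ^ s) := by
        rw [ha]; ring
      rw [e]
      exact dvd_sub ⟨b, by linarith⟩ (Dvd.dvd.mul_left hd2 _)
    have hd4 : (n : ℤ) ∣ (k : ℤ) + m := hcop2.symm.dvd_of_dvd_mul_left hd3
    obtain ⟨q, hq⟩ := hd4
    have hn' : (2 : ℤ) ≤ n := by exact_mod_cast hn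
    have hq1 : q = 1 := by
      have hpos : 0 < (n : ℤ) * q := by rw [← hq]; linarith
      have hq0 : 0 < q := by
        by_contra hq0
        push Not at hq0
        nlinarith
      have hlt : (n : ℤ) * q < n * 2 := by rw [← hq]; linarith
      have : q < 2 := by
        by_contra h2q
        push Not at h2q
        nlinarith
      omega
    rw [hq1, mul_one] at hq
    -- k + m = n, c = m^2, l = k - c, c + l n = k^2
    have hl' : l = k - (m : ℤ) ^ 2 := by rw [← hcm]; linarith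
    have hkm : (k : ℤ) = n - m := by linarith
    rw [hcm, hl', hkm] at h4
    -- m^2 + (n - m - m^2) n = (n-m)^2
    have h5 : (m : ℤ) * n * (m - 1) = 0 := by nlinarith
    have hm1 : (m : ℤ) = 1 := by
      rcases mul_eq_zero.1 h5 with h6 | h6
      · rcases mul_eq_zero.1 h6 with h7 | h7
        · omega
        · omega
      · linarith
    omega



open Matrix

variable {Ω : Type*} [Fintype Ω] [DecidableEq Ω]

/-- matrices of the form `d` on the diagonal and `b` off it act on vectors in the obvious way -/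
theorem mulVec_of_form {P : Matrix Ω Ω ℤ} {d b : ℤ}
    (hP : ∀ x y, P x y = if x = y then d else b) (v : Ω → ℤ) (x : Ω) :
    (P *ᵥ v) x = b * (∑ y, v y) + (d - b) * v x := by
  rw [Matrix.mulVec, dotProduct]
  have : ∀ y, P x y * v y = b * v y + (if x = y then (d - b) * v y else 0) := by
    intro y
    rw [hP]
    split_ifs <;> ring
  rw [Finset.sum_congr rfl (fun y _ => this y), Finset.sum_add_distrib, ← Finset.mul_sum,
    Finset.sum_ite_eq]
  simp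

section action

variable {G : Type*} [Group G] [MulAction G Ω]

theorem pow_equivariant (φ : G → G) (A : Matrix Ω Ω ℤ)
    (hEq : ∀ (g : G) (x y : Ω), A (g • x) (φ g • y) = A x y) (j : ℕ) :
    ∀ (g : G) (x y : Ω), (A ^ j) (g • x) (φ^[j] g • y) = (A ^ j) x y := by
  induction j with
  | zero =>
    intro g x y
    simp only [pow_zero, Function.iterate_zero, id_eq, Matrix.one_apply]
    simp [(MulAction.injective g).eq_iff]
  | succ j ih =>
    intro g x z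
    rw [pow_succ, Matrix.mul_apply, Matrix.mul_apply, Function.iterate_succ_apply']
    symm
    apply Fintype.sum_equiv (MulAction.toPerm (φ^[j] g))
    intro y
    simp only [MulAction.toPerm_apply]
    rw [ih, hEq]

theorem form_of_invariant
    (h2 : ∀ {a b c d : Ω}, a ≠ b → c ≠ d → ∃ g : G, g • a = c ∧ g • b = d)
    (htr : ∀ a b : Ω, ∃ g : G, g • a = b)
    (M : Matrix Ω Ω ℤ) (hM : ∀ (g : G) (x y : Ω), M (g • x) (g • y) = M x y)
    {x0 y0 : Ω} (hne : x0 ≠ y0) :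
    ∀ x y, M x y = if x = y then M x0 x0 else M x0 y0 := by
  intro x y
  split_ifs with h
  · subst h
    obtain ⟨g, rfl⟩ := htr x0 x
    rw [hM]
  · obtain ⟨g, rfl, rfl⟩ := h2 hne h
    rw [hM]

end action

/-- one step of the norm computation -/
theorem step_norm {A : Matrix Ω Ω ℤ} {k l : ℤ}
    (hP : ∀ x y, (A * Aᵀ) x y = if x = y then k else l) (v : Ω → ℤ) :
    (Aᵀ *ᵥ v) ⬝ᵥ (Aᵀ *ᵥ v) = (k - l) * (v ⬝ᵥ v) + l * (∑ y, v y) ^ 2 := by
  have e1 : (Aᵀ *ᵥ v) ⬝ᵥ (Aᵀ *ᵥ v) = v ⬝ᵥ ((A * Aᵀ) *ᵥ v) := by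
    calc (Aᵀ *ᵥ v) ⬝ᵥ (Aᵀ *ᵥ v) = (v ᵥ* A) ⬝ᵥ (Aᵀ *ᵥ v) := by
          congr 1; exact Matrix.mulVec_transpose A v
      _ = v ⬝ᵥ (A *ᵥ (Aᵀ *ᵥ v)) := (Matrix.dotProduct_mulVec v A _).symm
      _ = v ⬝ᵥ ((A * Aᵀ) *ᵥ v) := by rw [Matrix.mulVec_mulVec]
  rw [e1]
  have e2 : (A * Aᵀ) *ᵥ v = fun x => l * (∑ y, v y) + (k - l) * v x := by
    funext x
    exact mulVec_of_form hP v x
  rw [e2, dotProduct, dotProduct]
  have : ∀ x, v x * (l * (∑ y, v y) + (k - l) * v x) =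
      (k - l) * (v x * v x) + (l * (∑ y, v y)) * v x := by intro x; ring
  rw [Finset.sum_congr rfl (fun x _ => this x), Finset.sum_add_distrib, ← Finset.mul_sum,
    ← Finset.mul_sum]
  ring

theorem step_sum {A : Matrix Ω Ω ℤ} {k : ℤ} (hrow : ∀ x, ∑ y, A x y = k) (v : Ω → ℤ) :
    ∑ x, (Aᵀ *ᵥ v) x = k * ∑ y, v y := by
  simp only [Matrix.mulVec, dotProduct, Matrix.transpose_apply]
  rw [Finset.sum_comm, Finset.mul_sum]
  refine Finset.sum_congr rfl fun y _ => ?_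
  rw [← Finset.sum_mul, hrow]

theorem iter_norm {A : Matrix Ω Ω ℤ} {k l : ℤ}
    (hP : ∀ x y, (A * Aᵀ) x y = if x = y then k else l) (hrow : ∀ x, ∑ y, A x y = k)
    (v : Ω → ℤ) (hv : ∑ y, v y = 0) (j : ℕ) :
    ∑ x, ((Aᵀ) ^ j *ᵥ v) x = 0 ∧
      ((Aᵀ) ^ j *ᵥ v) ⬝ᵥ ((Aᵀ) ^ j *ᵥ v) = (k - l) ^ j * (v ⬝ᵥ v) := by
  induction j with
  | zero => simp [hv]
  | succ j ih =>
    have e : (Aᵀ) ^ (j + 1) *ᵥ v = Aᵀ *ᵥ ((Aᵀ) ^ j *ᵥ v) := by
      rw [pow_succ', Matrix.mulVec_mulVec]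
    rw [e]
    constructor
    · rw [step_sum hrow, ih.1, mul_zero]
    · rw [step_norm hP, ih.1, ih.2]
      ring

theorem pow_row_sum {A : Matrix Ω Ω ℤ} {k : ℤ} (hrow : ∀ x, ∑ y, A x y = k) (j : ℕ) :
    ∀ x, ∑ y, (A ^ j) x y = k ^ j := by
  induction j with
  | zero =>
    intro x
    simp [Matrix.one_apply]
  | succ j ih =>
    intro x
    simp only [pow_succ, Matrix.mul_apply]
    rw [Finset.sum_comm]
    have : ∀ z, ∑ y, (A ^ j) x z * A z y = (A ^ j) x z * k := by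
      intro z
      rw [← Finset.mul_sum, hrow]
    rw [Finset.sum_congr rfl (fun z _ => this z), ← Finset.sum_mul, ih]


end Cfsg.Agent.Lib.Helper7.TTA
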