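import Mathlib
import Cfsg.Agent.Lib.Helper7.TwoTransAut1

/-!
# Automorphisms of doubly transitive groups: the key counting statement (helper7)
-/

set_option autoImplicit false
set_option linter.unusedSectionVars false

namespace Cfsg.Agent.Lib.Helper7.TTA

open Matrix

variable {Ω : Type*} [Fintype Ω] [DecidableEq Ω] {G : Type*} [Group G] [MulAction G Ω]

theorem row_sums (φ : G → G) (A : Matrix Ω Ω ℤ)
    (htr : ∀ a b : Ω, ∃ g : G, g • a = b)
    (hEq : ∀ (g : G) (x y : Ω), A (g • x) (φ g • y) = A x y) (x0 : Ω) :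
    ∀ x, ∑ y, A x y = ∑ y, A x0 y := by
  intro x
  obtain ⟨g, rfl⟩ := htr x0 x
  symm
  apply Fintype.sum_equiv (MulAction.toPerm (φ g))
  intro y
  simp only [MulAction.toPerm_apply]
  rw [hEq]

theorem col_sums (φ : G → G) (A : Matrix Ω Ω ℤ)
    (hφtr : ∀ a b : Ω, ∃ g : G, φ g • a = b)
    (hEq : ∀ (g : G) (x y : Ω), A (g • x) (φ g • y) = A x y) (y0 : Ω) :
    ∀ y, ∑ x, A x y = ∑ x, A x y0 := by
  intro y
  obtain ⟨g, rfl⟩ := hφtr y0 y
  symm
  apply Fintype.sum_equiv (MulAction.toPerm g)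
  intro x
  simp only [MulAction.toPerm_apply]
  rw [hEq]

theorem col_sums_eq (φ : G → G) (A : Matrix Ω Ω ℤ)
    (htr : ∀ a b : Ω, ∃ g : G, g • a = b)
    (hφtr : ∀ a b : Ω, ∃ g : G, φ g • a = b)
    (hEq : ∀ (g : G) (x y : Ω), A (g • x) (φ g • y) = A x y) (x0 : Ω) :
    ∀ y, ∑ x, A x y = ∑ y, A x0 y := by
  intro y
  have h1 := row_sums φ A htr hEq x0
  have h2 := col_sums φ A hφtr hEq y
  have h3 : ∑ x, ∑ y', A x y' = (Fintype.card Ω : ℤ) * ∑ y', A x0 y' := by
    rw [Finset.sum_congr rfl (fun x _ => h1 x)]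
    simp [Finset.sum_const, Finset.card_univ]
  have h4 : ∑ x, ∑ y', A x y' = (Fintype.card Ω : ℤ) * ∑ x, A x y := by
    have hc : ∑ x, ∑ y', A x y' = ∑ y', ∑ x, A x y' :=
      Finset.sum_comm (s := Finset.univ) (t := Finset.univ) (f := fun (x y' : Ω) => A x y')
    rw [hc, Finset.sum_congr rfl (fun y' _ => h2 y')]
    simp [Finset.sum_const, Finset.card_univ]
  have hn : (Fintype.card Ω : ℤ) ≠ 0 := by
    have : 0 < Fintype.card Ω := Fintype.card_pos_iff.2 ⟨x0⟩
    exact_mod_cast this.ne'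
  exact mul_left_cancel₀ hn (h4.symm.trans h3)

theorem gram_invariant (φ : G → G) (A : Matrix Ω Ω ℤ)
    (hEq : ∀ (g : G) (x y : Ω), A (g • x) (φ g • y) = A x y) :
    ∀ (g : G) (x y : Ω), (A * Aᵀ) (g • x) (g • y) = (A * Aᵀ) x y := by
  intro g x y
  simp only [Matrix.mul_apply, Matrix.transpose_apply]
  symm
  apply Fintype.sum_equiv (MulAction.toPerm (φ g))
  intro z
  simp only [MulAction.toPerm_apply]
  rw [hEq, hEq]

theorem key
    (h2 : ∀ {a b c d : Ω}, a ≠ b → c ≠ d → ∃ g : G, g • a = c ∧ g • b = d)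
    (htr : ∀ a b : Ω, ∃ g : G, g • a = b)
    (φ : G → G) (hφtr : ∀ a b : Ω, ∃ g : G, φ g • a = b)
    {s : ℕ} (hφ : ∀ g, φ^[2 * s + 1] g = g)
    (A : Matrix Ω Ω ℤ) (hA01 : ∀ x y, A x y = 0 ∨ A x y = 1)
    (hEq : ∀ (g : G) (x y : Ω), A (g • x) (φ g • y) = A x y)
    {x0 y0 : Ω} (hne : x0 ≠ y0) (k : ℕ) (hk : ∑ y, A x0 y = (k : ℤ))
    (hk1 : 1 ≤ k) (hkn : k < Fintype.card Ω) (hcop : Nat.Coprime k (Fintype.card Ω)) :
    k = 1 ∨ k + 1 = Fintype.card Ω := by
  classical
  have hn2 : 2 ≤ Fintype.card Ω := by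
    have : 1 < Fintype.card Ω := Fintype.one_lt_card_iff.2 ⟨x0, y0, hne⟩
    omega
  -- row and column sums
  have hrow : ∀ x, ∑ y, A x y = (k : ℤ) := fun x => (row_sums φ A htr hEq x0 x).trans hk
  have hcol : ∀ y, ∑ x, A x y = (k : ℤ) := fun y => (col_sums_eq φ A htr hφtr hEq x0 y).trans hk
  have hsq : ∀ x y, A x y * A x y = A x y := by
    intro x y
    rcases hA01 x y with h | h <;> rw [h] <;> norm_num
  -- the Gram matrix
  set l : ℤ := (A * Aᵀ) x0 y0 with hl
  have hdiag : (A * Aᵀ) x0 x0 = (k : ℤ) := by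
    simp only [Matrix.mul_apply, Matrix.transpose_apply]
    rw [Finset.sum_congr rfl (fun z _ => hsq x0 z), hk]
  have hP : ∀ x y, (A * Aᵀ) x y = if x = y then (k : ℤ) else l := by
    intro x y
    rw [form_of_invariant h2 htr (A * Aᵀ) (gram_invariant φ A hEq) hne x y, hdiag]
  have hl0 : 0 ≤ l := by
    rw [hl]
    simp only [Matrix.mul_apply, Matrix.transpose_apply]
    apply Finset.sum_nonneg
    intro z _
    rcases hA01 x0 z with h | h <;> rcases hA01 y0 z with h' | h' <;> rw [h, h'] <;> norm_num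
  -- c + l n = k^2
  have h4 : ((k : ℤ) - l) + l * (Fintype.card Ω : ℤ) = (k : ℤ) ^ 2 := by
    have e1 : ∑ y, (A * Aᵀ) x0 y = (k : ℤ) ^ 2 := by
      simp only [Matrix.mul_apply, Matrix.transpose_apply]
      rw [Finset.sum_comm]
      have : ∀ z, ∑ y, A x0 z * A y z = A x0 z * (k : ℤ) := by
        intro z
        rw [← Finset.mul_sum, hcol]
      rw [Finset.sum_congr rfl (fun z _ => this z), ← Finset.sum_mul, hk]
      ring
    have e2 : ∑ y, (A * Aᵀ) x0 y = l * (Fintype.card Ω : ℤ) + ((k : ℤ) - l) := by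
      have := mulVec_of_form hP (fun _ => (1 : ℤ)) x0
      simp only [Matrix.mulVec, dotProduct, mul_one, Finset.sum_const, Finset.card_univ,
        nsmul_eq_mul] at this
      rw [this]
    linarith
  -- the power
  set N : Matrix Ω Ω ℤ := A ^ (2 * s + 1) with hN
  have hNinv : ∀ (g : G) (x y : Ω), N (g • x) (g • y) = N x y := by
    intro g x y
    have := pow_equivariant φ A hEq (2 * s + 1) g x y
    rwa [hφ] at this
  set b : ℤ := N x0 y0 with hb
  set d : ℤ := N x0 x0 with hd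
  have hNform : ∀ x y, N x y = if x = y then d else b :=
    form_of_invariant h2 htr N hNinv hne
  -- a + b n = k^t
  have h2' : (d - b) + b * (Fintype.card Ω : ℤ) = (k : ℤ) ^ (2 * s + 1) := by
    have e1 := pow_row_sum hrow (2 * s + 1) x0
    have e2 : ∑ y, N x0 y = b * (Fintype.card Ω : ℤ) + (d - b) := by
      have := mulVec_of_form hNform (fun _ => (1 : ℤ)) x0
      simp only [Matrix.mulVec, dotProduct, mul_one, Finset.sum_const, Finset.card_univ,
        nsmul_eq_mul] at this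
      rw [this]
    rw [← hN] at e1
    linarith
  -- a^2 = c^t
  have h1 : (d - b) ^ 2 = ((k : ℤ) - l) ^ (2 * s + 1) := by
    set w : Ω → ℤ := fun x => (if x = x0 then 1 else 0) - (if x = y0 then 1 else 0) with hw
    have hwsum : ∑ y, w y = 0 := by
      simp [hw, Finset.sum_sub_distrib]
    have hww : w ⬝ᵥ w = 2 := by
      have : ∀ x, w x * w x = (if x = x0 then 1 else 0) + (if x = y0 then 1 else 0) := by
        intro x
        simp only [hw]
        by_cases h1 : x = x0
        · have : x ≠ y0 := by rw [h1]; exact hne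
          simp [h1, hne]
        · by_cases h2 : x = y0
          · simp [h2, hne.symm]
          · simp [h1, h2]
      rw [dotProduct, Finset.sum_congr rfl (fun x _ => this x), Finset.sum_add_distrib]
      simp
    have hit := iter_norm hP hrow w hwsum (2 * s + 1)
    have hT : (Aᵀ) ^ (2 * s + 1) = N := by
      rw [← Matrix.transpose_pow, ← hN]
      ext x y
      rw [Matrix.transpose_apply, hNform, hNform]
      by_cases h : x = y
      · simp [h]
      · simp [h, Ne.symm h]
    rw [hT] at hit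
    have hNw : N *ᵥ w = fun x => (d - b) * w x := by
      funext x
      rw [mulVec_of_form hNform w x, hwsum]
      ring
    rw [hNw] at hit
    have e : (fun x => (d - b) * w x) ⬝ᵥ (fun x => (d - b) * w x) = (d - b) ^ 2 * (w ⬝ᵥ w) := by
      simp only [dotProduct]
      rw [Finset.mul_sum]
      refine Finset.sum_congr rfl fun x _ => ?_
      ring
    rw [e, hww] at hit
    have := hit.2
    linarith
  exact arith hn2 hk1 hkn hcop hl0 h1 h2' (by ring) h4

end Cfsg.Agent.Lib.Helper7.TTA
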