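import Mathlib
import Cfsg.Agent.Lib.Helper7.TwoTransAut2

/-!
# Automorphisms of doubly transitive groups: from the counting statement to the permutation (helper7)
-/

set_option autoImplicit false
set_option linter.unusedSectionVars false

namespace Cfsg.Agent.Lib.Helper7.TTA

open Matrix

variable {Ω : Type*} [Fintype Ω]

theorem mulAut_iterate {G : Type*} [Group G] (α : MulAut G) (j : ℕ) (g : G) :
    (⇑α)^[j] g = (α ^ j) g := by
  induction j with
  | zero => simp
  | succ j ih =>
    rw [Function.iterate_succ_apply', ih, pow_succ', MulAut.mul_apply]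

/-- An automorphism mapping a point stabilizer into a point stabilizer of a transitive group is
induced by a permutation. -/
theorem exists_perm_of_fixed (G : Subgroup (Equiv.Perm Ω))
    (htr : ∀ a b : Ω, ∃ g : G, g • a = b) (o o' : Ω) (α : MulAut G)
    (hfix : ∀ h : G, h • o = o → (α h) • o' = o') :
    ∃ σ : Equiv.Perm Ω, σ ∈ Subgroup.normalizer (G : Set (Equiv.Perm Ω)) ∧
      ∀ g : G, ((α g : G) : Equiv.Perm Ω) = σ * (g : Equiv.Perm Ω) * σ⁻¹ := by
  classical
  choose gx hgx using fun x => htr o x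
  set f : Ω → Ω := fun x => α (gx x) • o' with hf
  have hfo : ∀ g : G, f (g • o) = α g • o' := by
    intro g
    have h1 : (g⁻¹ * gx (g • o)) • o = o := by
      rw [mul_smul, hgx, inv_smul_smul]
    have h2 := hfix _ h1
    rw [map_mul, mul_smul, map_inv, inv_smul_eq_iff] at h2
    exact h2
  have hequiv : ∀ (g : G) (x : Ω), f (g • x) = α g • f x := by
    intro g x
    obtain ⟨h, rfl⟩ := htr o x
    rw [← mul_smul, hfo, hfo, map_mul, mul_smul]
  have hsurj : Function.Surjective f := by
    intro y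
    obtain ⟨h, rfl⟩ := htr o' y
    refine ⟨(α.symm h) • o, ?_⟩
    rw [hfo]
    simp
  have hbij : Function.Bijective f := ⟨Finite.injective_iff_surjective.2 hsurj, hsurj⟩
  set σ : Equiv.Perm Ω := Equiv.ofBijective f hbij with hσ
  have hσf : ∀ x, σ x = f x := fun x => rfl
  have hconj : ∀ g : G, ((α g : G) : Equiv.Perm Ω) = σ * (g : Equiv.Perm Ω) * σ⁻¹ := by
    intro g
    ext x
    simp only [Equiv.Perm.coe_mul, Function.comp_apply]
    have h1 : ((g : Equiv.Perm Ω)) (σ⁻¹ x) = g • (σ⁻¹ x) := rfl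
    have h3 : σ (σ⁻¹ x) = x := σ.apply_symm_apply x
    rw [h1, hσf, hequiv, ← hσf, h3]
    rfl
  refine ⟨σ, ?_, hconj⟩
  rw [Subgroup.mem_normalizer_iff]
  intro h
  constructor
  · intro hh
    have := hconj ⟨h, hh⟩
    simp only at this
    rw [← this]
    exact (α ⟨h, hh⟩).2
  · intro hh
    have h1 := hconj (α.symm ⟨σ * h * σ⁻¹, hh⟩)
    rw [MulEquiv.apply_symm_apply] at h1
    simp only at h1
    have h2 : h = ((α.symm ⟨σ * h * σ⁻¹, hh⟩ : G) : Equiv.Perm Ω) := by
      have := congrArg (fun τ => σ⁻¹ * τ * σ) h1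
      simp only [mul_assoc, inv_mul_cancel_left, inv_mul_cancel, mul_one] at this
      exact this
    rw [h2]
    exact (α.symm ⟨σ * h * σ⁻¹, hh⟩).2

end Cfsg.Agent.Lib.Helper7.TTA
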