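import Mathlib
import Cfsg.Agent.Lib.Helper7.TwoTransAut3

/-!
# Automorphisms of doubly transitive groups: main theorem (helper7)
-/

set_option autoImplicit false
set_option linter.unusedSectionVars false

namespace Cfsg.Agent.Lib.Helper7.TTA

open Matrix

variable {Ω : Type*} [Fintype Ω]

/-- the orbit of a subgroup is invariant under the subgroup -/
theorem smul_mem_orbit_sub {G : Type*} [Group G] [MulAction G Ω] (K : Subgroup G) (ω : Ω)
    {κ : G} (hκ : κ ∈ K) {y : Ω} (hy : y ∈ MulAction.orbit K ω) : κ • y ∈ MulAction.orbit K ω := by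
  obtain ⟨κ', rfl⟩ := hy
  have : κ • (κ' • ω) = ((⟨κ, hκ⟩ : K) * κ') • ω := by
    rw [mul_smul]; rfl
  rw [this]
  exact MulAction.mem_orbit ω _

theorem fixed_point_exists (G : Subgroup (Equiv.Perm Ω))
    (h2 : MulAction.IsMultiplyPretransitive G Ω 2) (o : Ω) (α : MulAut G)
    (hα : Odd (orderOf α)) (ω : Ω)
    (hk : (Nat.card (MulAction.orbit ((MulAction.stabilizer G o).map α.toMonoidHom) ω)).Coprime
      (Fintype.card Ω)) :
    ∃ o' : Ω, (∀ h : G, h • o = o → (α h) • o' = o') ∧
      (Nat.card (MulAction.orbit ((MulAction.stabilizer G o).map α.toMonoidHom) ω) = 1 ∨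
        Nat.card (MulAction.orbit ((MulAction.stabilizer G o).map α.toMonoidHom) ω) =
          Fintype.card Ω - 1) := by
  classical
  set K : Subgroup G := (MulAction.stabilizer G o).map α.toMonoidHom with hK
  set Δ : Set Ω := MulAction.orbit K ω with hΔ
  have hαK : ∀ h : G, h • o = o → α h ∈ K := fun h hh =>
    Subgroup.mem_map.2 ⟨h, MulAction.mem_stabilizer_iff.2 hh, rfl⟩
  have hωΔ : ω ∈ Δ := MulAction.mem_orbit_self ω
  haveI : Nonempty ↥Δ := ⟨⟨ω, hωΔ⟩⟩
  by_cases hcard : Fintype.card Ω = 1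
  · haveI : Subsingleton Ω := Fintype.card_le_one_iff_subsingleton.1 hcard.le
    refine ⟨o, fun h _ => Subsingleton.elim _ _, Or.inl ?_⟩
    rw [Nat.card_eq_one_iff_unique]
    exact ⟨inferInstance, inferInstance⟩
  have hn2 : 2 ≤ Fintype.card Ω := by
    have : 0 < Fintype.card Ω := Fintype.card_pos_iff.2 ⟨o⟩
    omega
  obtain ⟨y0, hy0⟩ := Fintype.exists_ne_of_one_lt_card (by omega : 1 < Fintype.card Ω) o
  haveI : MulAction.IsPretransitive G Ω := MulAction.isPretransitive_of_is_two_pretransitive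
  have htr : ∀ a b : Ω, ∃ g : G, g • a = b := fun a b => MulAction.exists_smul_eq G a b
  have h2' : ∀ {a b c d : Ω}, a ≠ b → c ≠ d → ∃ g : G, g • a = c ∧ g • b = d :=
    fun hab hcd => MulAction.is_two_pretransitive_iff.1 h2 hab hcd
  have hφtr : ∀ a b : Ω, ∃ g : G, (α g) • a = b := by
    intro a b
    obtain ⟨g, hg⟩ := htr a b
    exact ⟨α.symm g, by simpa using hg⟩
  obtain ⟨s, hs⟩ := hα
  have hφ : ∀ g : G, (⇑α)^[2 * s + 1] g = g := by
    intro g
    rw [mulAut_iterate, ← hs, pow_orderOf_eq_one]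
    rfl
  -- the incidence matrix
  set A : Matrix Ω Ω ℤ :=
    Matrix.of fun x y => if ∃ g : G, g • o = x ∧ (α g)⁻¹ • y ∈ Δ then (1 : ℤ) else 0 with hA
  have hA01 : ∀ x y, A x y = 0 ∨ A x y = 1 := by
    intro x y
    simp only [hA, Matrix.of_apply]
    split_ifs
    · right; rfl
    · left; rfl
  have hEq : ∀ (g : G) (x y : Ω), A (g • x) ((α g) • y) = A x y := by
    intro g x y
    simp only [hA, Matrix.of_apply]
    have : (∃ g' : G, g' • o = g • x ∧ (α g')⁻¹ • (α g) • y ∈ Δ) ↔
        (∃ g' : G, g' • o = x ∧ (α g')⁻¹ • y ∈ Δ) := by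
      constructor
      · rintro ⟨g', h1, h2⟩
        refine ⟨g⁻¹ * g', ?_, ?_⟩
        · rw [mul_smul, h1, inv_smul_smul]
        · rw [map_mul, map_inv, _root_.mul_inv_rev, inv_inv, mul_smul]
          exact h2
      · rintro ⟨g', h1, h2⟩
        refine ⟨g * g', ?_, ?_⟩
        · rw [mul_smul, h1]
        · rw [map_mul, _root_.mul_inv_rev, mul_smul, inv_smul_smul]
          exact h2
    rw [if_congr this rfl rfl]
  -- the row sum at `o`
  have hrow_o : ∀ y, A o y = if y ∈ Δ then (1 : ℤ) else 0 := by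
    intro y
    simp only [hA, Matrix.of_apply]
    have : (∃ g : G, g • o = o ∧ (α g)⁻¹ • y ∈ Δ) ↔ y ∈ Δ := by
      constructor
      · rintro ⟨g, h1, h2⟩
        have := smul_mem_orbit_sub K ω (hαK g h1) h2
        rwa [smul_inv_smul] at this
      · intro hy
        exact ⟨1, one_smul _ _, by simpa using hy⟩
    rw [if_congr this rfl rfl]
  set k : ℕ := Nat.card ↥Δ with hkdef
  have hksum : ∑ y, A o y = (k : ℤ) := by
    rw [Finset.sum_congr rfl (fun y _ => hrow_o y), Finset.sum_boole, hkdef,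
      Nat.card_eq_fintype_card, Fintype.card_subtype]
  have hk1 : 1 ≤ k := Nat.card_pos
  have hkle : k ≤ Fintype.card Ω := by
    rw [hkdef, ← Nat.card_eq_fintype_card]
    exact Finite.card_subtype_le _
  have hkn : k < Fintype.card Ω := by
    rcases lt_or_eq_of_le hkle with h | h
    · exact h
    · exfalso
      have hk' : k.Coprime (Fintype.card Ω) := hk
      rw [h, Nat.Coprime, Nat.gcd_self] at hk'
      omega
  have hkey := key (G := G) h2' htr (fun g => α g) hφtr hφ A hA01 hEq hy0.symm k hksum hk1 hkn hk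
  rcases hkey with h1 | h1
  · -- the orbit is a single point
    refine ⟨ω, ?_, Or.inl h1⟩
    intro h hh
    have hmem : (α h) • ω ∈ Δ := smul_mem_orbit_sub K ω (hαK h hh) hωΔ
    have hsub : Subsingleton ↥Δ := (Nat.card_eq_one_iff_unique.1 h1).1
    have := Subsingleton.elim (⟨(α h) • ω, hmem⟩ : ↥Δ) ⟨ω, hωΔ⟩
    exact congrArg Subtype.val this
  · -- the complement of the orbit is a single point
    have hc : Δᶜ.ncard = 1 := by
      have := Set.ncard_add_ncard_compl Δ
      rw [Set.ncard_eq_toFinset_card' Δ, Set.toFinset_card] at this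
      rw [Nat.card_eq_fintype_card] at this hkdef
      omega
    obtain ⟨o', ho'⟩ := Set.ncard_eq_one.1 hc
    refine ⟨o', ?_, Or.inr (by omega)⟩
    intro h hh
    have hno : o' ∉ Δ := by
      have : o' ∈ Δᶜ := by rw [ho']; exact Set.mem_singleton _
      exact this
    have hmem : (α h) • o' ∈ Δᶜ := by
      intro hcon
      apply hno
      have := smul_mem_orbit_sub K ω (K.inv_mem (hαK h hh)) hcon
      rwa [inv_smul_smul] at this
    rw [ho'] at hmem
    exact hmem

theorem main (G : Subgroup (Equiv.Perm Ω))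
    (h2 : MulAction.IsMultiplyPretransitive G Ω 2) (o : Ω) (α : MulAut G)
    (hα : Odd (orderOf α)) (ω : Ω)
    (hk : (Nat.card (MulAction.orbit ((MulAction.stabilizer G o).map α.toMonoidHom) ω)).Coprime
      (Fintype.card Ω)) :
    (∃ σ : Equiv.Perm Ω, σ ∈ Subgroup.normalizer (G : Set (Equiv.Perm Ω)) ∧
      ∀ g : G, ((α g : G) : Equiv.Perm Ω) = σ * (g : Equiv.Perm Ω) * σ⁻¹) ∧
    (Nat.card (MulAction.orbit ((MulAction.stabilizer G o).map α.toMonoidHom) ω) = 1 ∨
      Nat.card (MulAction.orbit ((MulAction.stabilizer G o).map α.toMonoidHom) ω) =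
        Fintype.card Ω - 1) := by
  obtain ⟨o', ho', hcard⟩ := fixed_point_exists G h2 o α hα ω hk
  haveI : MulAction.IsPretransitive G Ω := MulAction.isPretransitive_of_is_two_pretransitive
  exact ⟨exists_perm_of_fixed G (fun a b => MulAction.exists_smul_eq G a b) o o' α ho', hcard⟩

end Cfsg.Agent.Lib.Helper7.TTA
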