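import Mathlib
import Cfsg.Agent.Lib.Helper7.TwoTransAut4

/-!
# Simple groups with a subgroup of prime index: odd automorphisms fixing a Sylow `p` (helper7)
-/

set_option autoImplicit false
set_option linter.unusedSectionVars false

namespace Cfsg.Agent.Lib.Helper7.PIO

section perm

variable {Ω G : Type*} [Group G] [MulAction G Ω]

/-- A map commuting with a transitive commutative subgroup is given by an element of it. -/
theorem exists_smul_of_commute (P : Subgroup G) (hPc : ∀ x ∈ P, ∀ y ∈ P, x * y = y * x)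
    (hPtr : ∀ a b : Ω, ∃ x ∈ P, x • a = b) (σ : Ω → Ω)
    (hσ : ∀ x ∈ P, ∀ a, σ (x • a) = x • σ a) (o : Ω) : ∃ x ∈ P, ∀ a, σ a = x • a := by
  obtain ⟨x, hx, hxo⟩ := hPtr o (σ o)
  refine ⟨x, hx, fun a => ?_⟩
  obtain ⟨y, hy, rfl⟩ := hPtr o a
  rw [hσ y hy, ← hxo, ← mul_smul, ← mul_smul, hPc y hy x hx]

end perm

theorem not_sq_dvd_factorial {p : ℕ} (hp : p.Prime) : ¬ p ^ 2 ∣ p.factorial := by
  obtain ⟨q, rfl⟩ : ∃ q, p = q + 1 := ⟨p - 1, by have := hp.pos; omega⟩
  intro h
  rw [Nat.factorial_succ, pow_two] at h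
  have h1 : (q + 1) ∣ q.factorial := Nat.dvd_of_mul_dvd_mul_left (Nat.succ_pos q) h
  have := (hp.dvd_factorial).1 h1
  omega

section main

variable {G : Type*} [Group G] [Finite G]

/-- In a transitive action of prime degree `p` with `p^2 ∤ |G|`, a subgroup of order `p` is
transitive. -/
theorem transitive_of_card_eq {Ω : Type*} [MulAction G Ω] [MulAction.IsPretransitive G Ω]
    [Finite Ω] {p : ℕ} (hp : p.Prime) (hΩ : Nat.card Ω = p) (hp2 : ¬ p ^ 2 ∣ Nat.card G)
    (P : Subgroup G) (hPcard : Nat.card P = p) :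
    ∀ a b : Ω, ∃ x ∈ P, x • a = b := by
  intro a b
  have hinj : Function.Injective (fun x : P => (x : G) • a) := by
    intro x y hxy
    simp only at hxy
    have hz : ((y : G)⁻¹ * x) ∈ MulAction.stabilizer G a := by
      rw [MulAction.mem_stabilizer_iff, mul_smul, hxy, inv_smul_smul]
    have hidx : (MulAction.stabilizer G a).index = p := by
      rw [MulAction.index_stabilizer_of_transitive, hΩ]
    have hcard := Subgroup.card_mul_index (MulAction.stabilizer G a)
    rw [hidx] at hcard
    have hnd : ¬ p ∣ Nat.card (MulAction.stabilizer G a) := by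
      intro hd
      apply hp2
      rw [← hcard, pow_two]
      exact Nat.mul_dvd_mul_right hd p
    have ho1 : orderOf ((y : G)⁻¹ * x) ∣ Nat.card (MulAction.stabilizer G a) := by
      have := orderOf_dvd_natCard (⟨(y : G)⁻¹ * x, hz⟩ : MulAction.stabilizer G a)
      rwa [Subgroup.orderOf_mk] at this
    have ho2 : orderOf ((y : G)⁻¹ * x) ∣ p := by
      have := orderOf_dvd_natCard (y⁻¹ * x : P)
      rw [hPcard] at this
      have e : orderOf ((y⁻¹ * x : P) : G) = orderOf (y⁻¹ * x : P) := Subgroup.orderOf_coe _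
      rw [← e] at this
      simpa using this
    have ho3 : orderOf ((y : G)⁻¹ * x) = 1 := by
      rcases (Nat.dvd_prime hp).1 ho2 with h | h
      · exact h
      · exact absurd (h ▸ ho1) hnd
    have : (y : G)⁻¹ * x = 1 := orderOf_eq_one_iff.1 ho3
    have : (x : G) = y := by
      rw [inv_mul_eq_one] at this
      exact this.symm
    exact Subtype.ext this
  haveI : Finite P := inferInstance
  have hbij : Function.Bijective (fun x : P => (x : G) • a) :=
    (Function.Injective.bijective_of_nat_card_le hinj (by rw [hΩ, hPcard]))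
  obtain ⟨x, hx⟩ := hbij.2 b
  exact ⟨x, x.2, hx⟩

end main

end Cfsg.Agent.Lib.Helper7.PIO
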