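import Mathlib
import Cfsg.Agent.Lib.Helper7.PrimeIdxOut1

/-!
# Simple groups with a subgroup of prime index: odd automorphisms fixing a Sylow `p` are inner
(helper7)
-/

set_option autoImplicit false
set_option linter.unusedSectionVars false

namespace Cfsg.Agent.Lib.Helper7.PIO

variable {G : Type*} [Group G] [Finite G]

theorem inner_of_odd_fix (H : Subgroup G) {p : ℕ} (hp : p.Prime) (hH : H.index = p)
    (hinj : Function.Injective (MulAction.toPermHom G (G ⧸ H)))
    (h2 : MulAction.IsMultiplyPretransitive G (G ⧸ H) 2)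
    (P : Subgroup G) (hPcard : Nat.card P = p)
    (α : MulAut G) (hodd : Odd (orderOf α)) (hfix : ∀ x ∈ P, α x = x) :
    ∃ x ∈ P, α = MulAut.conj x := by
  classical
  haveI : Finite (G ⧸ H) := inferInstance
  letI : Fintype (G ⧸ H) := Fintype.ofFinite _
  set ρ : G →* Equiv.Perm (G ⧸ H) := MulAction.toPermHom G (G ⧸ H) with hρ
  have hρa : ∀ (g : G) (a : G ⧸ H), ρ g a = g • a := fun g a => rfl
  have hΩ : Nat.card (G ⧸ H) = p := by rw [← hH]; exact (Subgroup.index_eq_card H).symm
  have hΩ' : Fintype.card (G ⧸ H) = p := by rw [← Nat.card_eq_fintype_card, hΩ]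
  set Gh : Subgroup (Equiv.Perm (G ⧸ H)) := ρ.range with hGh
  set e : G ≃* Gh := MonoidHom.ofInjective hinj with he
  have hecoe : ∀ g : G, ((e g : Gh) : Equiv.Perm (G ⧸ H)) = ρ g := fun g => rfl
  have hsmul : ∀ (g : G) (a : G ⧸ H), (e g) • a = g • a := fun g a => rfl
  -- p^2 does not divide |G|
  have hp2 : ¬ p ^ 2 ∣ Nat.card G := by
    intro h
    apply not_sq_dvd_factorial hp
    have h1 : Nat.card G = Nat.card Gh := Nat.card_congr e.toEquiv
    have h2 : Nat.card Gh ∣ Nat.card (Equiv.Perm (G ⧸ H)) := Subgroup.card_subgroup_dvd_card Gh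
    rw [Nat.card_eq_fintype_card (α := Equiv.Perm (G ⧸ H)), Fintype.card_perm, hΩ'] at h2
    exact (h1 ▸ h).trans h2
  -- two-transitivity of the image
  have h2' : MulAction.IsMultiplyPretransitive Gh (G ⧸ H) 2 := by
    rw [MulAction.is_two_pretransitive_iff]
    intro a b c d hab hcd
    obtain ⟨g, h1, h2⟩ := MulAction.is_two_pretransitive_iff.1 h2 hab hcd
    exact ⟨e g, h1, h2⟩
  haveI : MulAction.IsPretransitive Gh (G ⧸ H) :=
    MulAction.isPretransitive_of_is_two_pretransitive
  haveI : MulAction.IsPretransitive G (G ⧸ H) := inferInstance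
  -- the transported automorphism
  set αh : MulAut Gh := MulAut.congr e α with hαh
  have hαh_apply : ∀ g : G, αh (e g) = e (α g) := by
    intro g
    simp [hαh, MulAut.congr]
  have hoddh : Odd (orderOf αh) := by
    rw [hαh, MulEquiv.orderOf_eq]
    exact hodd
  set o : G ⧸ H := ((1 : G) : G ⧸ H) with ho
  -- the coprimality hypothesis
  have hk : (Nat.card (MulAction.orbit ((MulAction.stabilizer Gh o).map αh.toMonoidHom) o)).Coprime
      (Fintype.card (G ⧸ H)) := by
    rw [hΩ']
    apply Nat.Coprime.symm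
    rw [Nat.Prime.coprime_iff_not_dvd hp]
    intro hdvd
    have hcard : Nat.card ↥((MulAction.stabilizer Gh o).map αh.toMonoidHom) =
        Nat.card ↥(MulAction.stabilizer Gh o) :=
      Nat.card_congr (Subgroup.equivMapOfInjective _ _ αh.injective).toEquiv.symm
    have hd : Nat.card (MulAction.orbit ((MulAction.stabilizer Gh o).map αh.toMonoidHom) o) ∣
        Nat.card ↥((MulAction.stabilizer Gh o).map αh.toMonoidHom) := by
      have := MulAction.card_orbit_mul_card_stabilizer_eq_card_group
        (↥((MulAction.stabilizer Gh o).map αh.toMonoidHom)) o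
      rw [← Nat.card_eq_fintype_card, ← Nat.card_eq_fintype_card,
        ← Nat.card_eq_fintype_card] at this
      exact Dvd.intro _ this
    have hidx : (MulAction.stabilizer Gh o).index = p := by
      rw [MulAction.index_stabilizer_of_transitive, hΩ]
    have hci := Subgroup.card_mul_index (MulAction.stabilizer Gh o)
    rw [hidx] at hci
    apply hp2
    have h1 : Nat.card G = Nat.card Gh := Nat.card_congr e.toEquiv
    rw [h1, ← hci, pow_two]
    exact Nat.mul_dvd_mul_right (hdvd.trans (hcard ▸ hd)) p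
  obtain ⟨⟨σ, -, hσ⟩, -⟩ := TTA.main Gh h2' o αh hoddh o hk
  -- σ conjugates ρ g to ρ (α g)
  have hσ' : ∀ g : G, ρ (α g) = σ * ρ g * σ⁻¹ := by
    intro g
    have := hσ (e g)
    rw [hαh_apply, hecoe, hecoe] at this
    exact this
  -- P is commutative and transitive
  haveI : Fact p.Prime := ⟨hp⟩
  haveI : IsCyclic P := isCyclic_of_prime_card hPcard
  have hPc : ∀ x ∈ P, ∀ y ∈ P, x * y = y * x := by
    intro x hx y hy
    have := isMulCommutative_iff.1 (IsCyclic.commutative (α := P)) ⟨x, hx⟩ ⟨y, hy⟩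
    exact congrArg Subtype.val this
  have hPtr := transitive_of_card_eq (Ω := G ⧸ H) hp hΩ hp2 P hPcard
  have hcomm : ∀ x ∈ P, ∀ a, σ (x • a) = x • σ a := by
    intro x hx a
    have h1 := hσ' x
    rw [hfix x hx] at h1
    have h3 : ρ x * σ = σ * ρ x := by
      calc ρ x * σ = (σ * ρ x * σ⁻¹) * σ := by rw [← h1]
        _ = σ * ρ x := by group
    have := congrArg (fun τ : Equiv.Perm (G ⧸ H) => τ a) h3
    simp only [Equiv.Perm.coe_mul, Function.comp_apply] at this
    rw [hρa, hρa] at this
    exact this.symm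
  obtain ⟨x, hx, hxσ⟩ := exists_smul_of_commute P hPc hPtr σ hcomm o
  have hσρ : σ = ρ x := by
    ext a
    rw [hxσ a, hρa]
  refine ⟨x, hx, ?_⟩
  ext g
  apply hinj
  show ρ (α g) = ρ (MulAut.conj x g)
  rw [hσ' g, hσρ, MulAut.conj_apply, map_mul, map_mul, map_inv]

end Cfsg.Agent.Lib.Helper7.PIO
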