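import Mathlib
import Cfsg.Agent.Lib.Helper7.PrimeIdxOut2

/-!
# Simple groups with a subgroup of prime index: solvability of `Out` (helper7)
-/

set_option autoImplicit false
set_option linter.unusedSectionVars false

namespace Cfsg.Agent.Lib.Helper7.PIO

open scoped Pointwise

variable {G : Type*} [Group G] [Finite G]

theorem not_sq_dvd_card (H : Subgroup G) {p : ℕ} (hp : p.Prime) (hH : H.index = p)
    (hinj : Function.Injective (MulAction.toPermHom G (G ⧸ H))) : ¬ p ^ 2 ∣ Nat.card G := by
  classical
  haveI : Finite (G ⧸ H) := inferInstance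
  letI : Fintype (G ⧸ H) := Fintype.ofFinite _
  have hΩ : Nat.card (G ⧸ H) = p := by rw [← hH]; exact (Subgroup.index_eq_card H).symm
  have hΩ' : Fintype.card (G ⧸ H) = p := by rw [← Nat.card_eq_fintype_card, hΩ]
  intro h
  apply not_sq_dvd_factorial hp
  have h1 : Nat.card G = Nat.card (MulAction.toPermHom G (G ⧸ H)).range :=
    Nat.card_congr (MonoidHom.ofInjective hinj).toEquiv
  have h2 : Nat.card (MulAction.toPermHom G (G ⧸ H)).range ∣ Nat.card (Equiv.Perm (G ⧸ H)) :=
    Subgroup.card_subgroup_dvd_card _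
  rw [Nat.card_eq_fintype_card (α := Equiv.Perm (G ⧸ H)), Fintype.card_perm, hΩ'] at h2
  exact (h1 ▸ h).trans h2

theorem conj_conj (α : MulAut G) (x : G) : α * MulAut.conj x * α⁻¹ = MulAut.conj (α x) := by
  ext g
  simp [MulAut.conj_apply]

/-- Abstract criterion: `Out G` is solvable if odd-order automorphisms centralizing a cyclic Sylow
subgroup are inner, induced by elements of that Sylow subgroup. -/
theorem out_solvable_of {p : ℕ} [Fact p.Prime] (P : Sylow p G) (hPcyc : IsCyclic (P : Subgroup G))
    [hN : (MulAut.conj : G →* MulAut G).range.Normal]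
    (hkey : ∀ α : MulAut G, Odd (orderOf α) → (∀ x ∈ (P : Subgroup G), α x = x) →
      ∃ x ∈ (P : Subgroup G), α = MulAut.conj x) :
    Group.IsSolvable (MulAut G ⧸ (MulAut.conj : G →* MulAut G).range) := by
  classical
  set Inn : Subgroup (MulAut G) := (MulAut.conj : G →* MulAut G).range with hInn
  -- P is commutative
  have hPc : ∀ x ∈ (P : Subgroup G), ∀ y ∈ (P : Subgroup G), x * y = y * x := by
    intro x hx y hy
    have := isMulCommutative_iff.1 (IsCyclic.commutative (α := (P : Subgroup G))) ⟨x, hx⟩ ⟨y, hy⟩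
    exact congrArg Subtype.val this
  -- the stabilizer of P
  set X : Subgroup (MulAut G) := MulAction.stabilizer (MulAut G) P with hX
  have hXmem : ∀ β ∈ X, ∀ x ∈ (P : Subgroup G), β x ∈ (P : Subgroup G) := by
    intro β hβ x hx
    have h1 : β • P = P := MulAction.mem_stabilizer_iff.1 hβ
    have h2 : β • (P : Subgroup G) = (P : Subgroup G) := by
      conv_rhs => rw [← h1]
      rfl
    have h3 : β • x ∈ β • (P : Subgroup G) := Subgroup.smul_mem_pointwise_smul x β _ hx
    rw [h2] at h3
    exact h3
  -- the pointwise stabilizer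
  set C : Subgroup (MulAut G) :=
    { carrier := {α | ∀ x ∈ (P : Subgroup G), α x = x}
      one_mem' := fun x _ => rfl
      mul_mem' := by
        intro a b ha hb x hx
        rw [MulAut.mul_apply, hb x hx, ha x hx]
      inv_mem' := by
        intro a ha x hx
        have := ha x hx
        rw [MulAut.inv_apply, MulEquiv.symm_apply_eq]
        exact this.symm } with hC
  have hCmem : ∀ α, α ∈ C ↔ ∀ x ∈ (P : Subgroup G), α x = x := fun α => Iff.rfl
  -- Z = inner automorphisms by elements of P
  set Z : Subgroup (MulAut G) := (P : Subgroup G).map MulAut.conj with hZ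
  have hZC : Z ≤ C := by
    rintro _ ⟨x, hx, rfl⟩ y hy
    rw [MulAut.conj_apply, hPc x hx y hy, mul_inv_cancel_right]
  -- C is solvable
  have hCsolv : Group.IsSolvable C := by
    haveI hZn : (Z.subgroupOf C).Normal := by
      constructor
      rintro ⟨z, hzC⟩ hz ⟨α, hα⟩
      rw [Subgroup.mem_subgroupOf] at hz ⊢
      obtain ⟨x, hx, rfl⟩ := hz
      simp only [Subgroup.coe_mul, InvMemClass.coe_inv]
      rw [conj_conj, hα x hx]
      exact ⟨x, hx, rfl⟩
    rw [Group.isSolvable_iff_subgroup_quotient (Z.subgroupOf C)]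
    constructor
    · apply Group.isSolvable_of_comm
      rintro ⟨⟨a, haC⟩, ha⟩ ⟨⟨b, hbC⟩, hb⟩
      rw [Subgroup.mem_subgroupOf] at ha hb
      obtain ⟨x, hx, rfl⟩ := ha
      obtain ⟨y, hy, rfl⟩ := hb
      apply Subtype.ext
      apply Subtype.ext
      simp only [Subgroup.coe_mul]
      rw [← map_mul, ← map_mul, hPc x hx y hy]
    · haveI : Fact (Nat.Prime 2) := ⟨Nat.prime_two⟩
      have hp2 : IsPGroup 2 (↥C ⧸ Z.subgroupOf C) := by
        intro q
        induction q using QuotientGroup.induction_on with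
        | H α =>
          obtain ⟨k, m, hm, hkm⟩ := Nat.exists_eq_two_pow_mul_odd
            (orderOf_pos (α : MulAut G)).ne'
          refine ⟨k, ?_⟩
          rw [← QuotientGroup.mk_pow, QuotientGroup.eq_one_iff, Subgroup.mem_subgroupOf]
          have hβ : orderOf ((α : MulAut G) ^ (2 ^ k)) = m := by
            rw [orderOf_pow' _ (pow_ne_zero k two_ne_zero), hkm, Nat.gcd_mul_right_left,
              Nat.mul_div_cancel_left _ (pow_pos two_pos k)]
          have hβC : (α : MulAut G) ^ (2 ^ k) ∈ C := C.pow_mem α.2 _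
          obtain ⟨x, hx, hxe⟩ := hkey _ (hβ ▸ hm) hβC
          simp only [Subgroup.coe_pow]
          rw [hxe]
          exact ⟨x, hx, rfl⟩
      haveI := hp2.isNilpotent
      infer_instance
  -- X is solvable
  have hCX : C ≤ X := by
    intro α hα
    rw [hX, MulAction.mem_stabilizer_iff]
    apply Sylow.ext
    rw [Sylow.pointwise_smul_def]
    apply le_antisymm
    · intro y hy
      obtain ⟨x, hx, rfl⟩ := Subgroup.mem_smul_pointwise_iff_exists y α _ |>.1 hy
      rw [MulAut.smul_def, hα x hx]
      exact hx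
    · intro x hx
      have := Subgroup.smul_mem_pointwise_smul x α _ hx
      rwa [MulAut.smul_def, hα x hx] at this
  have hXsolv : Group.IsSolvable X := by
    -- βγ and γβ agree on P
    obtain ⟨⟨x0, hx0P⟩, hx0⟩ := hPcyc.exists_generator
    have hgen : ∀ x ∈ (P : Subgroup G), ∃ i : ℤ, x = x0 ^ i := by
      intro x hx
      obtain ⟨i, hi⟩ := Subgroup.mem_zpowers_iff.1 (hx0 ⟨x, hx⟩)
      exact ⟨i, by have := congrArg Subtype.val hi; simpa using this.symm⟩
    have hagree : ∀ β ∈ X, ∀ γ ∈ X, ∀ x ∈ (P : Subgroup G), β (γ x) = γ (β x) := by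
      intro β hβ γ hγ x hx
      obtain ⟨i, hi⟩ := hgen (β x0) (hXmem β hβ x0 hx0P)
      obtain ⟨j, hj⟩ := hgen (γ x0) (hXmem γ hγ x0 hx0P)
      obtain ⟨l, rfl⟩ := hgen x hx
      simp only [map_zpow, hi, hj]
      rw [← zpow_mul, ← zpow_mul, ← zpow_mul, ← zpow_mul]
      congr 1
      ring
    haveI hCn : (C.subgroupOf X).Normal := by
      constructor
      rintro ⟨α, hαX⟩ hα ⟨β, hβ⟩
      rw [Subgroup.mem_subgroupOf] at hα ⊢
      simp only [Subgroup.coe_mul, InvMemClass.coe_inv]
      intro x hx
      have hβinv : β⁻¹ x ∈ (P : Subgroup G) := hXmem β⁻¹ (X.inv_mem hβ) x hx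
      rw [MulAut.mul_apply, MulAut.mul_apply, hα _ hβinv, MulAut.apply_inv_self]
    rw [Group.isSolvable_iff_subgroup_quotient (C.subgroupOf X)]
    constructor
    · haveI := hCsolv
      exact Group.isSolvable_of_isSolvable_injective
        (f := (Subgroup.subgroupOfEquivOfLe hCX).toMonoidHom)
        (Subgroup.subgroupOfEquivOfLe hCX).injective
    · apply Group.isSolvable_of_comm
      intro a b
      induction a using QuotientGroup.induction_on with
      | H β =>
        induction b using QuotientGroup.induction_on with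
        | H γ =>
          rw [← QuotientGroup.mk_mul, ← QuotientGroup.mk_mul, QuotientGroup.eq,
            Subgroup.mem_subgroupOf]
          simp only [Subgroup.coe_mul, InvMemClass.coe_inv]
          intro x hx
          rw [MulAut.mul_apply, MulAut.mul_apply, ← hagree β.1 β.2 γ.1 γ.2 x hx,
            show (β : MulAut G) ((γ : MulAut G) x) = ((β : MulAut G) * (γ : MulAut G)) x from rfl,
            MulAut.inv_apply_self]
  -- the surjection X → Out
  haveI := hXsolv
  let f : X →* MulAut G ⧸ Inn := (QuotientGroup.mk' Inn).comp X.subtype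
  apply Group.isSolvable_of_surjective (f := f)
  intro q
  induction q using QuotientGroup.induction_on with
  | H α =>
    obtain ⟨g, hg⟩ := MulAction.exists_smul_eq G P (α • P)
    have hβX : (MulAut.conj g)⁻¹ * α ∈ X := by
      rw [hX, MulAction.mem_stabilizer_iff, mul_smul, ← hg, Sylow.smul_def, inv_smul_smul]
    refine ⟨⟨_, hβX⟩, ?_⟩
    show QuotientGroup.mk ((MulAut.conj g)⁻¹ * α) = QuotientGroup.mk α
    rw [QuotientGroup.mk_mul]
    have : (QuotientGroup.mk ((MulAut.conj g)⁻¹) : MulAut G ⧸ Inn) = 1 :=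
      (QuotientGroup.eq_one_iff _).2 (Inn.inv_mem ⟨g, rfl⟩)
    rw [this, one_mul]

end Cfsg.Agent.Lib.Helper7.PIO
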