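import Mathlib
import Cfsg.Agent.Lib.Lead.HallTools

set_option autoImplicit false

namespace Cfsg.Agent.Lib.Helper7

open Cfsg.Agent.Lib.Lead

section
variable {X : Type*} [Group X] [Finite X]

/-- if `|A : A ∩ B| = |R : R ∩ B|` with `A ≤ R`, then `R ⊆ A B`. -/
theorem exists_mul_of_relIndex_eq (A B R : Subgroup X) (hAR : A ≤ R)
    (h : B.relIndex A = B.relIndex R) : ∀ r ∈ R, ∃ a ∈ A, ∃ b ∈ B, r = a * b := by
  let e := Subgroup.quotientSubgroupOfEmbeddingOfLE B hAR
  have hbij : Function.Bijective e := by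
    apply Function.Injective.bijective_of_nat_card_le e.injective
    rw [← Subgroup.index_eq_card, ← Subgroup.index_eq_card]
    exact h.symm.le
  intro r hr
  obtain ⟨k, hk⟩ := hbij.2 (QuotientGroup.mk ⟨r, hr⟩)
  induction k using QuotientGroup.induction_on with
  | H a =>
    change e (QuotientGroup.mk a) = _ at hk
    rw [Subgroup.quotientSubgroupOfEmbeddingOfLE_apply_mk] at hk
    have h1 := QuotientGroup.eq.mp hk
    rw [Subgroup.mem_subgroupOf] at h1
    refine ⟨a, a.2, _, h1, ?_⟩
    simp

/-- `|K : L ∩ K| * |L ∩ K| = |K|`. -/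
theorem relIndex_mul_card_inf (L K : Subgroup X) :
    L.relIndex K * Nat.card (L ⊓ K : Subgroup X) = Nat.card K := by
  have := ((L ⊓ K).subgroupOf K).card_mul_index
  rw [card_subgroupOf_of_le inf_le_right] at this
  have e : ((L ⊓ K).subgroupOf K).index = L.relIndex K := by
    change (L ⊓ K).relIndex K = _
    exact Subgroup.inf_relIndex_right L K
  rw [e, mul_comm] at this
  exact this

theorem relIndex_pos (L K : Subgroup X) : 0 < L.relIndex K := by
  have h := relIndex_mul_card_inf L K
  have hK : 0 < Nat.card K := Nat.card_pos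
  rcases Nat.eq_zero_or_pos (L.relIndex K) with h0 | h0
  · rw [h0, zero_mul] at h; omega
  · exact h0

end

end Cfsg.Agent.Lib.Helper7
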