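import Mathlib
import Cfsg.Prelude.Def_HallClasses
import Cfsg.Agent.Lib.Helper7.Conj

set_option autoImplicit false

namespace Cfsg.Agent.Lib.Helper7.Pron

open Cfsg.Agent.Lib.Helper7

variable {G : Type*} [Group G]

/-- `K` and `g K g⁻¹` are conjugate inside their join. -/
def Good (K : Subgroup G) (g : G) : Prop := ∃ x ∈ K ⊔ cj g K, cj g K = cj x K

theorem isPronormal_iff (K : Subgroup G) : Cfsg.IsPronormal K ↔ ∀ g, Good K g := Iff.rfl

theorem good_of_cj_eq {K : Subgroup G} {g : G} (h : cj g K = K) : Good K g := by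
  refine ⟨1, Subgroup.one_mem _, ?_⟩
  rw [h, cj_one]

theorem good_of_left {K : Subgroup G} {g y : G} (hy : y ∈ K ⊔ cj g K) (h : Good K (y⁻¹ * g)) :
    Good K g := by
  obtain ⟨x, hx, hxe⟩ := h
  refine ⟨y * x, ?_, ?_⟩
  · apply Subgroup.mul_mem _ hy
    have h1 : cj (y⁻¹ * g) K ≤ K ⊔ cj g K := by
      rw [cj_mul]
      exact cj_le_of_mem (Subgroup.inv_mem _ hy) le_sup_right
    exact (sup_le le_sup_left h1) hx
  · rw [cj_mul y x, ← hxe, ← cj_mul]
    congr 1
    group

theorem good_mul_right {K : Subgroup G} {g n : G} (hn : cj n K = K) : Good K (g * n) ↔ Good K g := by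
  unfold Good
  rw [cj_mul, hn]

theorem map_cj {G' : Type*} [Group G'] (f : G →* G') (g : G) (K : Subgroup G) :
    (cj g K).map f = cj (f g) (K.map f) := by
  unfold cj
  rw [Subgroup.map_map, Subgroup.map_map]
  congr 1
  ext x
  simp

theorem comap_cj {G' : Type*} [Group G'] (f : G →* G') (g : G) (K' : Subgroup G') :
    (cj (f g) K').comap f = cj g (K'.comap f) := by
  ext x
  rw [Subgroup.mem_comap, mem_cj, mem_cj, Subgroup.mem_comap]
  simp

theorem isPronormal_map {G' : Type*} [Group G'] (f : G →* G') {K : Subgroup G}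
    (h : Cfsg.IsPronormal K) (hf : Function.Surjective f) : Cfsg.IsPronormal (K.map f) := by
  intro g'
  obtain ⟨g, rfl⟩ := hf g'
  obtain ⟨x, hx, hxe⟩ := h g
  change x ∈ K ⊔ cj g K at hx
  change cj g K = cj x K at hxe
  change ∃ y ∈ K.map f ⊔ cj (f g) (K.map f), cj (f g) (K.map f) = cj y (K.map f)
  refine ⟨f x, ?_, ?_⟩
  · rw [← map_cj, ← Subgroup.map_sup]
    exact Subgroup.mem_map_of_mem f hx
  · rw [← map_cj, ← map_cj, hxe]

theorem isPronormal_comap {G' : Type*} [Group G'] (f : G →* G') {K' : Subgroup G'}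
    (h : Cfsg.IsPronormal K') (hf : Function.Surjective f) : Cfsg.IsPronormal (K'.comap f) := by
  intro g
  obtain ⟨x', hx', hxe⟩ := h (f g)
  change x' ∈ K' ⊔ cj (f g) K' at hx'
  change cj (f g) K' = cj x' K' at hxe
  change ∃ y ∈ K'.comap f ⊔ cj g (K'.comap f), cj g (K'.comap f) = cj y (K'.comap f)
  have h1 : K' ⊔ cj (f g) K' = (K'.comap f ⊔ cj g (K'.comap f)).map f := by
    rw [Subgroup.map_sup, map_cj, Subgroup.map_comap_eq_self_of_surjective hf]
  rw [h1] at hx'
  obtain ⟨x, hx, rfl⟩ := hx'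
  refine ⟨x, hx, ?_⟩
  rw [← comap_cj, ← comap_cj, hxe]

theorem isPronormal_of_cj (c : G) {K : Subgroup G} (h : Cfsg.IsPronormal (cj c K)) :
    Cfsg.IsPronormal K := by
  have h1 := isPronormal_map (MulAut.conj c⁻¹).toMonoidHom h (MulAut.conj c⁻¹).surjective
  have h2 : (cj c K).map (MulAut.conj c⁻¹).toMonoidHom = K := cj_inv_cj c K
  rw [h2] at h1
  exact h1

/-- internal form of pronormality of `H.subgroupOf N` -/
theorem isPronormal_subgroupOf_iff (N H : Subgroup G) (hHN : H ≤ N) :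
    Cfsg.IsPronormal (H.subgroupOf N) ↔ ∀ a ∈ N, Good H a :=
  pronormal_subgroupOf_iff N H hHN

/-- Sylow conjugacy inside a subgroup `B`, stated in `G`. -/
theorem exists_conj_in [Finite G] {p : ℕ} [Fact p.Prime] (B T T' : Subgroup G) (hT : T ≤ B)
    (hT' : T' ≤ B) (hTp : IsPGroup p T) (hTi : ¬ p ∣ T.relIndex B)
    (hTp' : IsPGroup p T') (hTi' : ¬ p ∣ T'.relIndex B) : ∃ b ∈ B, T' = cj b T := by
  have hinjB : Function.Injective B.subtype := B.subtype_injective
  have hp1 : IsPGroup p (T.subgroupOf B) := hTp.comap_of_injective B.subtype hinjB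
  have hp2 : IsPGroup p (T'.subgroupOf B) := hTp'.comap_of_injective B.subtype hinjB
  let P : Sylow p B := hp1.toSylow hTi
  let P' : Sylow p B := hp2.toSylow hTi'
  obtain ⟨b, hb⟩ := MulAction.exists_smul_eq B P P'
  refine ⟨(b : G), b.2, ?_⟩
  have h1 : ((b • P : Sylow p B) : Subgroup B) = cj b (T.subgroupOf B) := by
    rw [Sylow.coe_subgroup_smul]
    rfl
  have h2 : ((b • P : Sylow p B) : Subgroup B) = T'.subgroupOf B := by rw [hb]; rfl
  have h3 := congrArg (Subgroup.map B.subtype) (h1.symm.trans h2)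
  rw [map_subtype_cj, Subgroup.map_subgroupOf_eq_of_le hT, Subgroup.map_subgroupOf_eq_of_le hT'] at h3
  exact h3.symm

/-- For `S` of `p'`-index in `G` and `A` normal, `S ⊓ A` has `p'`-index in `A`. -/
theorem relIndex_normal_dvd_index [Finite G] (S A : Subgroup G) [A.Normal] :
    S.relIndex A ∣ S.index := by
  have h1 : S.relIndex (S ⊔ A) ∣ S.index := Subgroup.relIndex_dvd_index_of_le le_sup_left
  have h2 : A.relIndex (S ⊔ A) = A.relIndex S := Subgroup.relIndex_sup_right S A
  have h3 : (S ⊓ A).relIndex S * S.relIndex (S ⊔ A) = (S ⊓ A).relIndex (S ⊔ A) :=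
    Subgroup.relIndex_mul_relIndex _ _ _ inf_le_left le_sup_left
  have h4 : (S ⊓ A).relIndex A * A.relIndex (S ⊔ A) = (S ⊓ A).relIndex (S ⊔ A) :=
    Subgroup.relIndex_mul_relIndex _ _ _ inf_le_right le_sup_right
  rw [Subgroup.inf_relIndex_left] at h3
  rw [Subgroup.inf_relIndex_right, h2] at h4
  have h5 : A.relIndex S ≠ 0 := by
    unfold Subgroup.relIndex
    exact Subgroup.index_ne_zero_of_finite
  have h6 : S.relIndex (S ⊔ A) = S.relIndex A := by
    have : A.relIndex S * S.relIndex (S ⊔ A) = A.relIndex S * S.relIndex A := by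
      rw [h3, ← h4, mul_comm]
    exact Nat.eq_of_mul_eq_mul_left (Nat.pos_of_ne_zero h5) this
  rw [← h6]
  exact h1

end Cfsg.Agent.Lib.Helper7.Pron
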