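import Mathlib
import Cfsg.Prelude.Def_HallClasses
import Cfsg.Agent.Lib.Helper7.Conj
import Cfsg.Agent.Lib.Helper7.Pron1

set_option autoImplicit false

namespace Cfsg.Agent.Lib.Helper7.Pron

open Cfsg.Agent.Lib.Helper7

variable {G : Type*} [Group G]

theorem cj_inf_normal (g : G) (K A : Subgroup G) [hA : A.Normal] : cj g (K ⊓ A) = cj g K ⊓ A := by
  ext x
  rw [mem_cj, Subgroup.mem_inf, Subgroup.mem_inf, mem_cj]
  constructor
  · rintro ⟨h1, h2⟩
    refine ⟨h1, ?_⟩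
    have := hA.conj_mem _ h2 g
    have e : g * (g⁻¹ * x * g) * g⁻¹ = x := by group
    rwa [e] at this
  · rintro ⟨h1, h2⟩
    refine ⟨h1, ?_⟩
    have := hA.conj_mem _ h2 g⁻¹
    rwa [inv_inv] at this

theorem le_normalizer_inf_normal (K A : Subgroup G) [A.Normal] :
    K ≤ Subgroup.normalizer ((K ⊓ A : Subgroup G) : Set G) := by
  intro k hk
  rw [mem_normalizer_iff_cj, cj_inf_normal, cj_eq_self_of_mem hk]

theorem relIndex_cj (g : G) (T B : Subgroup G) : (cj g T).relIndex (cj g B) = T.relIndex B :=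
  Subgroup.relIndex_map_map_of_injective T B (MulAut.conj g).injective

theorem isPGroup_cj {p : ℕ} (g : G) {T : Subgroup G} (h : IsPGroup p T) : IsPGroup p (cj g T) :=
  h.map _

/-- The key reduction (internal form). -/
theorem good_main [Finite G] {p : ℕ} [Fact p.Prime] (A : Subgroup G) [A.Normal] (T S K : Subgroup G)
    (hSK : S ≤ K) (hSp : IsPGroup p S) (hSi : ¬ p ∣ S.index) (hST : S ⊓ A = T)
    (hA : ∀ a ∈ A, Good (K ⊓ A) a)
    (hQ : Cfsg.IsPronormal (K.map (QuotientGroup.mk' A)))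
    (hN : (Subgroup.normalizer (K : Set G)).map (QuotientGroup.mk' A) =
      Subgroup.normalizer ((K.map (QuotientGroup.mk' A) : Subgroup (G ⧸ A)) : Set (G ⧸ A)))
    (hNT : ∀ a ∈ Subgroup.normalizer (T : Set G), Good (K ⊓ Subgroup.normalizer (T : Set G)) a) :
    ∀ g, Good K g := by
  intro g
  have hTK : T ≤ K := by rw [← hST]; exact inf_le_left.trans hSK
  have hTA : T ≤ A := by rw [← hST]; exact inf_le_right
  have hTB : T ≤ K ⊓ A := le_inf hTK hTA
  have hTp : IsPGroup p T := by rw [← hST]; exact hSp.to_le inf_le_left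
  have hTiA : ¬ p ∣ T.relIndex A := by
    rw [← hST, Subgroup.inf_relIndex_right]
    exact fun h => hSi (h.trans (relIndex_normal_dvd_index S A))
  have hTiB : ¬ p ∣ T.relIndex (K ⊓ A) := fun h =>
    hTiA (h.trans (Dvd.intro _ (Subgroup.relIndex_mul_relIndex T (K ⊓ A) A hTB inf_le_right)))
  -- Step 1
  obtain ⟨x', hx', hxe'⟩ := hQ ((QuotientGroup.mk' A) g)
  change x' ∈ K.map (QuotientGroup.mk' A) ⊔ cj ((QuotientGroup.mk' A) g) (K.map (QuotientGroup.mk' A)) at hx'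
  change cj ((QuotientGroup.mk' A) g) (K.map (QuotientGroup.mk' A)) = cj x' (K.map (QuotientGroup.mk' A)) at hxe'
  rw [← map_cj, ← Subgroup.map_sup] at hx'
  obtain ⟨y, hy, rfl⟩ := hx'
  apply good_of_left hy
  have h1 : cj ((QuotientGroup.mk' A) (y⁻¹ * g)) (K.map (QuotientGroup.mk' A)) = K.map (QuotientGroup.mk' A) := by
    rw [map_mul, cj_mul, hxe', map_inv, cj_inv_cj]
  have h2 : (QuotientGroup.mk' A) (y⁻¹ * g) ∈
      Subgroup.normalizer ((K.map (QuotientGroup.mk' A) : Subgroup (G ⧸ A)) : Set (G ⧸ A)) :=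
    mem_normalizer_iff_cj.mpr h1
  rw [← hN] at h2
  obtain ⟨n, hn, hne⟩ := h2
  have ha : y⁻¹ * g * n⁻¹ ∈ A := by
    rw [← QuotientGroup.eq_one_iff, ← QuotientGroup.mk'_apply, map_mul, map_inv, hne]
    simp
  have hg1 : y⁻¹ * g = (y⁻¹ * g * n⁻¹) * n := by group
  rw [hg1, good_mul_right (mem_normalizer_iff_cj.mp hn)]
  generalize y⁻¹ * g * n⁻¹ = a at ha
  clear hg1 hne hn n h1 hy hxe' y g
  -- Step 2
  obtain ⟨z, hz, hze⟩ := hA a ha
  have hzA : z ∈ A := (sup_le inf_le_right (cj_le_of_mem ha inf_le_right)) hz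
  apply good_of_left ((sup_le_sup inf_le_left (cj_mono a inf_le_left)) hz)
  have ha1 : z⁻¹ * a ∈ A := A.mul_mem (A.inv_mem hzA) ha
  have hB1 : cj (z⁻¹ * a) (K ⊓ A) = K ⊓ A := by rw [cj_mul, hze, cj_inv_cj]
  generalize z⁻¹ * a = a1 at ha1 hB1
  clear hze hz hzA z ha a
  -- Step 3
  have hT1 : cj a1 T ≤ K ⊓ A := by rw [← hB1]; exact cj_mono a1 hTB
  have hTi1 : ¬ p ∣ (cj a1 T).relIndex (K ⊓ A) := by
    rw [← hB1, relIndex_cj]; exact hTiB
  obtain ⟨b, hb, hbe⟩ := exists_conj_in (K ⊓ A) T (cj a1 T) hTB hT1 hTp hTiB (isPGroup_cj a1 hTp) hTi1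
  have hbK : b ∈ K := hb.1
  apply good_of_left (Subgroup.mem_sup_left hbK)
  have hT2 : cj (b⁻¹ * a1) T = T := by rw [cj_mul, hbe, cj_inv_cj]
  have hB2 : cj (b⁻¹ * a1) (K ⊓ A) = K ⊓ A := by
    rw [cj_mul, hB1, cj_eq_self_of_mem (Subgroup.inv_mem _ hb)]
  generalize b⁻¹ * a1 = a2 at hT2 hB2
  clear hbe hbK hb b hTi1 hT1 hB1 ha1 a1
  -- Step 4
  have ha2N : a2 ∈ Subgroup.normalizer (T : Set G) := mem_normalizer_iff_cj.mpr hT2
  obtain ⟨u, hu, hue⟩ := hNT a2 ha2N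
  have huK : u ∈ K ⊔ cj a2 K := (sup_le_sup inf_le_left (cj_mono a2 inf_le_left)) hu
  apply good_of_left huK
  have hKN3 : cj (u⁻¹ * a2) (K ⊓ Subgroup.normalizer (T : Set G)) = K ⊓ Subgroup.normalizer (T : Set G) := by
    rw [cj_mul, hue, cj_inv_cj]
  have hnB : K ⊔ cj a2 K ≤ Subgroup.normalizer ((K ⊓ A : Subgroup G) : Set G) := by
    apply sup_le (le_normalizer_inf_normal K A)
    have := le_normalizer_inf_normal (cj a2 K) A
    rwa [← cj_inf_normal, hB2] at this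
  have huB : cj u (K ⊓ A) = K ⊓ A := mem_normalizer_iff_cj.mp (hnB huK)
  have hB3 : cj (u⁻¹ * a2) (K ⊓ A) = K ⊓ A := by
    rw [cj_mul, hB2]
    have := congrArg (cj u⁻¹) huB
    rw [cj_inv_cj] at this
    exact this.symm
  -- Frattini
  have hfr : K = (K ⊓ A) ⊔ (K ⊓ Subgroup.normalizer (T : Set G)) := by
    apply le_antisymm _ (sup_le inf_le_left inf_le_left)
    intro k hk
    have hkB : cj k (K ⊓ A) = K ⊓ A := mem_normalizer_iff_cj.mp (le_normalizer_inf_normal K A hk)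
    have hT1 : cj k T ≤ K ⊓ A := by rw [← hkB]; exact cj_mono k hTB
    have hTi1 : ¬ p ∣ (cj k T).relIndex (K ⊓ A) := by
      rw [← hkB, relIndex_cj]; exact hTiB
    obtain ⟨b, hb, hbe⟩ := exists_conj_in (K ⊓ A) T (cj k T) hTB hT1 hTp hTiB (isPGroup_cj k hTp) hTi1
    have h1 : b⁻¹ * k ∈ K ⊓ Subgroup.normalizer (T : Set G) := by
      refine ⟨K.mul_mem (K.inv_mem hb.1) hk, ?_⟩
      show b⁻¹ * k ∈ Subgroup.normalizer (T : Set G)
      rw [mem_normalizer_iff_cj, cj_mul, hbe, cj_inv_cj]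
    have : k = b * (b⁻¹ * k) := by group
    rw [this]
    exact Subgroup.mul_mem _ (Subgroup.mem_sup_left hb) (Subgroup.mem_sup_right h1)
  apply good_of_cj_eq
  conv_lhs => rw [hfr]
  rw [cj_sup, hB3, hKN3, ← hfr]

end Cfsg.Agent.Lib.Helper7.Pron
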