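import Mathlib
import Cfsg.Prelude.Def_HallClasses
import Cfsg.Agent.Lib.Helper7.Conj
import Cfsg.Agent.Lib.Helper7.Pron1
import Cfsg.Agent.Lib.Helper7.Pron2

set_option autoImplicit false

namespace Cfsg.Agent.Lib.Helper7.Pron

open Cfsg.Agent.Lib.Helper7

variable {G : Type*} [Group G]

/-- `Star p X`: every subgroup of `X` containing a Sylow `p`-subgroup is pronormal. -/
def Star (p : ℕ) (X : Type*) [Group X] : Prop :=
  ∀ K : Subgroup X, (∃ P : Sylow p X, (P : Subgroup X) ≤ K) → Cfsg.IsPronormal K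

theorem exists_sylow_inf_eq [Finite G] {p : ℕ} [Fact p.Prime] (A : Subgroup G) (T : Subgroup G)
    (hT : ∃ P : Sylow p ↥A, (P : Subgroup ↥A).map A.subtype = T) :
    ∃ S : Sylow p G, (S : Subgroup G) ⊓ A = T := by
  obtain ⟨P, rfl⟩ := hT
  have hTp : IsPGroup p ((P : Subgroup ↥A).map A.subtype) := P.2.map _
  obtain ⟨S, hS⟩ := hTp.exists_le_sylow
  refine ⟨S, ?_⟩
  have hQp : IsPGroup p (((S : Subgroup G) ⊓ A).subgroupOf A) :=
    (S.2.to_le inf_le_left).comap_of_injective A.subtype A.subtype_injective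
  have hPQ : (P : Subgroup ↥A) ≤ ((S : Subgroup G) ⊓ A).subgroupOf A := by
    intro x hx
    rw [Subgroup.mem_subgroupOf]
    exact ⟨hS (Subgroup.mem_map_of_mem A.subtype hx), x.2⟩
  have h1 := P.is_maximal' hQp hPQ
  rw [← h1, Subgroup.map_subgroupOf_eq_of_le inf_le_right]

theorem star_sub_internal [Finite G] {p : ℕ} [Fact p.Prime] (A : Subgroup G)
    (hA : Star p ↥A) (T : Subgroup G)
    (hT : ∃ P : Sylow p ↥A, (P : Subgroup ↥A).map A.subtype = T) (B : Subgroup G) (hBA : B ≤ A)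
    (hTB : T ≤ B) : ∀ a ∈ A, Good B a := by
  obtain ⟨P, rfl⟩ := hT
  have h1 : Cfsg.IsPronormal (B.subgroupOf A) := by
    apply hA _ ⟨P, ?_⟩
    intro x hx
    rw [Subgroup.mem_subgroupOf]
    exact hTB (Subgroup.mem_map_of_mem A.subtype hx)
  exact (isPronormal_subgroupOf_iff A B hBA).mp h1

theorem star_quot_internal [Finite G] {p : ℕ} [Fact p.Prime] (T : Subgroup G)
    [(T.subgroupOf (Subgroup.normalizer (T : Set G))).Normal]
    (hNT : Star p (↥(Subgroup.normalizer (T : Set G)) ⧸ T.subgroupOf (Subgroup.normalizer (T : Set G))))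
    (S L : Subgroup G) (hSp : IsPGroup p S) (hSi : ¬ p ∣ S.index)
    (hSL : S ≤ L) (hLN : L ≤ Subgroup.normalizer (T : Set G)) (hTL : T ≤ L) :
    ∀ a ∈ Subgroup.normalizer (T : Set G), Good L a := by
  set N := Subgroup.normalizer (T : Set G) with hNdef
  have hSN : S ≤ N := hSL.trans hLN
  have hp1 : IsPGroup p (S.subgroupOf N) := hSp.comap_of_injective N.subtype N.subtype_injective
  have hi1 : ¬ p ∣ (S.subgroupOf N).index := fun h =>
    hSi (h.trans (Subgroup.relIndex_dvd_index_of_le hSN))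
  let P : Sylow p N := hp1.toSylow hi1
  have hsurj : Function.Surjective (QuotientGroup.mk' (T.subgroupOf N)) := QuotientGroup.mk'_surjective _
  have h1 : Cfsg.IsPronormal ((L.subgroupOf N).map (QuotientGroup.mk' (T.subgroupOf N))) := by
    apply hNT _ ⟨P.mapSurjective hsurj, ?_⟩
    rw [Sylow.coe_mapSurjective]
    apply Subgroup.map_mono
    intro x hx
    exact hSL hx
  have h2 := isPronormal_comap (QuotientGroup.mk' (T.subgroupOf N)) h1 hsurj
  rw [Subgroup.comap_map_eq, QuotientGroup.ker_mk'] at h2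
  have h3 : L.subgroupOf N ⊔ T.subgroupOf N = L.subgroupOf N := by
    apply sup_eq_left.mpr
    intro x hx
    exact hTL hx
  rw [h3] at h2
  exact (isPronormal_subgroupOf_iff N L hLN).mp h2

theorem normalizer_map_of_pronormal (A : Subgroup G) [A.Normal] (K : Subgroup G)
    (hK : Cfsg.IsPronormal K) :
    (Subgroup.normalizer (K : Set G)).map (QuotientGroup.mk' A) =
      Subgroup.normalizer ((K.map (QuotientGroup.mk' A) : Subgroup (G ⧸ A)) : Set (G ⧸ A)) := by
  apply le_antisymm (Subgroup.le_normalizer_map _)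
  intro g' hg'
  obtain ⟨g, rfl⟩ := QuotientGroup.mk'_surjective A g'
  rw [mem_normalizer_iff_cj, ← map_cj] at hg'
  obtain ⟨x, hx, hxe⟩ := hK g
  change x ∈ K ⊔ cj g K at hx
  change cj g K = cj x K at hxe
  -- x ∈ K ⊔ cj g K ≤ K ⊔ A
  have h1 : cj g K ≤ K ⊔ A := by
    have : cj g K ≤ ((cj g K).map (QuotientGroup.mk' A)).comap (QuotientGroup.mk' A) :=
      Subgroup.le_comap_map _ _
    rw [hg', Subgroup.comap_map_eq, QuotientGroup.ker_mk'] at this
    exact this
  have hx2 : x ∈ K ⊔ A := (sup_le le_sup_left h1) hx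
  rw [← SetLike.mem_coe, Subgroup.mul_normal] at hx2
  obtain ⟨k, hk, a, ha, rfl⟩ := hx2
  -- cj g K = cj (k * a) K; so (k*a)⁻¹ * g normalizes K
  have hn : (k * a)⁻¹ * g ∈ Subgroup.normalizer (K : Set G) := by
    rw [mem_normalizer_iff_cj, cj_mul, hxe, cj_inv_cj]
  -- g = k * a * n; image of g = image of k * n  (a ∈ A)
  have hkn : k ∈ Subgroup.normalizer (K : Set G) := Subgroup.le_normalizer hk
  refine ⟨k * ((k * a)⁻¹ * g), Subgroup.mul_mem _ hkn hn, ?_⟩
  have ha' : (QuotientGroup.mk' A) a = 1 := by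
    rw [QuotientGroup.mk'_apply, QuotientGroup.eq_one_iff]; exact ha
  rw [map_mul, map_mul, map_inv, map_mul, ha']
  simp

end Cfsg.Agent.Lib.Helper7.Pron
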