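import Mathlib
import Cfsg.Prelude.Def_HallClasses
import Cfsg.Agent.Lib.Helper7.Conj
import Cfsg.Agent.Lib.Helper7.Pron1
import Cfsg.Agent.Lib.Helper7.Pron2
import Cfsg.Agent.Lib.Helper7.Pron3

set_option autoImplicit false

namespace Cfsg.Agent.Lib.Helper7.Pron

open Cfsg.Agent.Lib.Helper7

variable {G : Type*} [Group G]

theorem star_normalizer_quot [Finite G] {p : ℕ} [Fact p.Prime] (A : Subgroup G) [A.Normal]
    (T : Subgroup G) (hT : ∃ P : Sylow p ↥A, (P : Subgroup ↥A).map A.subtype = T)
    [(T.subgroupOf (Subgroup.normalizer (T : Set G))).Normal] (hG : Star p G) :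
    Star p (↥(Subgroup.normalizer (T : Set G)) ⧸ T.subgroupOf (Subgroup.normalizer (T : Set G))) := by
  obtain ⟨S, hS⟩ := exists_sylow_inf_eq A T hT
  set N := Subgroup.normalizer (T : Set G) with hNdef
  have hSN : (S : Subgroup G) ≤ N := by
    have := le_normalizer_inf_normal (S : Subgroup G) A
    rwa [hS] at this
  have hNi : ¬ p ∣ N.index := fun h => S.not_dvd_index (h.trans (Subgroup.index_dvd_of_le hSN))
  have hsurj : Function.Surjective (QuotientGroup.mk' (T.subgroupOf N)) := QuotientGroup.mk'_surjective _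
  intro Kb hKb
  obtain ⟨Pb, hPb⟩ := hKb
  obtain ⟨PN, rfl⟩ := Sylow.mapSurjective_surjective hsurj p Pb
  rw [Sylow.coe_mapSurjective] at hPb
  have hPK : (PN : Subgroup N) ≤ Kb.comap (QuotientGroup.mk' (T.subgroupOf N)) :=
    (Subgroup.le_comap_map _ _).trans (Subgroup.comap_mono hPb)
  have hp1 : IsPGroup p ((PN : Subgroup N).map N.subtype) := PN.2.map _
  have hi1 : ¬ p ∣ ((PN : Subgroup N).map N.subtype).index := by
    rw [Subgroup.index_map_subtype]
    intro h
    rcases (Nat.Prime.dvd_mul Fact.out).mp h with h | h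
    · exact PN.not_dvd_index h
    · exact hNi h
  have hK : Cfsg.IsPronormal ((Kb.comap (QuotientGroup.mk' (T.subgroupOf N))).map N.subtype) := by
    apply hG _ ⟨hp1.toSylow hi1, ?_⟩
    rw [IsPGroup.toSylow_coe]
    exact Subgroup.map_mono hPK
  have hKN : (Kb.comap (QuotientGroup.mk' (T.subgroupOf N))).map N.subtype ≤ N := by
    rintro _ ⟨x, _, rfl⟩
    exact x.2
  have h2 : Cfsg.IsPronormal
      (((Kb.comap (QuotientGroup.mk' (T.subgroupOf N))).map N.subtype).subgroupOf N) :=
    (isPronormal_subgroupOf_iff N _ hKN).mpr (fun a _ => (isPronormal_iff _).mp hK a)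
  have h3 : ((Kb.comap (QuotientGroup.mk' (T.subgroupOf N))).map N.subtype).subgroupOf N =
      Kb.comap (QuotientGroup.mk' (T.subgroupOf N)) :=
    Subgroup.comap_map_eq_self_of_injective N.subtype_injective _
  rw [h3] at h2
  have h4 := isPronormal_map (QuotientGroup.mk' (T.subgroupOf N)) h2 hsurj
  rw [Subgroup.map_comap_eq_self_of_surjective hsurj] at h4
  exact h4

theorem main [Finite G] {p : ℕ} [Fact p.Prime]
    (A : Subgroup G) [A.Normal] (hA : Star p ↥A) (hQ : Star p (G ⧸ A))
    (T : Subgroup G) (hT : ∃ P : Sylow p ↥A, (P : Subgroup ↥A).map A.subtype = T)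
    [(T.subgroupOf (Subgroup.normalizer (T : Set G))).Normal] :
    Star p G ↔
      (Star p (↥(Subgroup.normalizer (T : Set G)) ⧸ T.subgroupOf (Subgroup.normalizer (T : Set G))) ∧
        ∀ K : Subgroup G, (∃ P : Sylow p G, (P : Subgroup G) ≤ K) →
          (Subgroup.normalizer (K : Set G)).map (QuotientGroup.mk' A) =
            Subgroup.normalizer ((K.map (QuotientGroup.mk' A) : Subgroup (G ⧸ A)) : Set (G ⧸ A))) := by
  constructor
  · intro hG
    exact ⟨star_normalizer_quot A T hT hG, fun K hK => normalizer_map_of_pronormal A K (hG K hK)⟩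
  · rintro ⟨hNT, hNK⟩ K ⟨P, hPK⟩
    obtain ⟨S, hS⟩ := exists_sylow_inf_eq A T hT
    obtain ⟨c, hc⟩ := MulAction.exists_smul_eq G P S
    have hSc : (S : Subgroup G) = cj c (P : Subgroup G) := by
      rw [← hc, Sylow.coe_subgroup_smul]
      rfl
    have hSK' : (S : Subgroup G) ≤ cj c K := by rw [hSc]; exact cj_mono c hPK
    have hSN : (S : Subgroup G) ≤ Subgroup.normalizer (T : Set G) := by
      have := le_normalizer_inf_normal (S : Subgroup G) A
      rwa [hS] at this
    have hTS : T ≤ (S : Subgroup G) := by rw [← hS]; exact inf_le_left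
    have hTA : T ≤ A := by rw [← hS]; exact inf_le_right
    apply isPronormal_of_cj c
    rw [isPronormal_iff]
    have hsurj : Function.Surjective (QuotientGroup.mk' A) := QuotientGroup.mk'_surjective _
    refine good_main A T S (cj c K) hSK' S.2 S.not_dvd_index hS
      (star_sub_internal A hA T hT (cj c K ⊓ A) inf_le_right (le_inf (hTS.trans hSK') hTA))
      (hQ _ ⟨S.mapSurjective hsurj, ?_⟩) (hNK _ ⟨S, hSK'⟩)
      (star_quot_internal T hNT S (cj c K ⊓ Subgroup.normalizer (T : Set G)) S.2 S.not_dvd_index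
        (le_inf hSK' hSN) inf_le_right (le_inf (hTS.trans hSK') Subgroup.le_normalizer))
    rw [Sylow.coe_mapSurjective]
    exact Subgroup.map_mono hSK'

/-- Self-normalizing Sylow subgroups in the quotient force `Star` there, and the normalizer
condition is then automatic. -/
theorem star_of_self_normalizing [Finite G] {p : ℕ} [Fact p.Prime]
    (hQ : ∀ P : Sylow p G, Subgroup.normalizer ((P : Subgroup G) : Set G) = P) : Star p G := by
  rintro K ⟨P, hPK⟩
  rw [isPronormal_iff]
  intro g
  -- P and cj g P are Sylow in J = K ⊔ cj g K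
  have hPJ : (P : Subgroup G) ≤ K ⊔ cj g K := hPK.trans le_sup_left
  have hPJ' : cj g (P : Subgroup G) ≤ K ⊔ cj g K := (cj_mono g hPK).trans le_sup_right
  have hi : ¬ p ∣ (P : Subgroup G).relIndex (K ⊔ cj g K) := fun h =>
    P.not_dvd_index (h.trans (Subgroup.relIndex_dvd_index_of_le hPJ))
  have hi' : ¬ p ∣ (cj g (P : Subgroup G)).relIndex (K ⊔ cj g K) := by
    have h1 : ¬ p ∣ (cj g (P : Subgroup G)).index := by
      have : (cj g (P : Subgroup G)).index = (P : Subgroup G).index :=
        Subgroup.index_map_of_bijective (MulAut.conj g).bijective _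
      rw [this]; exact P.not_dvd_index
    exact fun h => h1 (h.trans (Subgroup.relIndex_dvd_index_of_le hPJ'))
  obtain ⟨x, hx, hxe⟩ := exists_conj_in (K ⊔ cj g K) P (cj g P) hPJ hPJ' P.2 hi (isPGroup_cj g P.2) hi'
  refine ⟨x, hx, ?_⟩
  have hn : x⁻¹ * g ∈ Subgroup.normalizer ((P : Subgroup G) : Set G) := by
    rw [mem_normalizer_iff_cj, cj_mul, hxe, cj_inv_cj]
  rw [hQ P] at hn
  have hnK : cj (x⁻¹ * g) K = K := cj_eq_self_of_mem (hPK hn)
  have : g = x * (x⁻¹ * g) := by group
  conv_lhs => rw [this, cj_mul, hnK]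

theorem normalizer_eq_of_self_normalizing [Finite G] {p : ℕ} [Fact p.Prime]
    (hQ : ∀ P : Sylow p G, Subgroup.normalizer ((P : Subgroup G) : Set G) = P)
    (K : Subgroup G) (hK : ∃ P : Sylow p G, (P : Subgroup G) ≤ K) :
    Subgroup.normalizer (K : Set G) = K := by
  obtain ⟨P, hPK⟩ := hK
  apply le_antisymm _ Subgroup.le_normalizer
  intro g hg
  rw [mem_normalizer_iff_cj] at hg
  have hP' : cj g (P : Subgroup G) ≤ K := by rw [← hg]; exact cj_mono g hPK
  have hi : ¬ p ∣ (P : Subgroup G).relIndex K := fun h =>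
    P.not_dvd_index (h.trans (Subgroup.relIndex_dvd_index_of_le hPK))
  have hi' : ¬ p ∣ (cj g (P : Subgroup G)).relIndex K := by
    rw [← hg, relIndex_cj]; exact hi
  obtain ⟨x, hx, hxe⟩ := exists_conj_in K P (cj g P) hPK hP' P.2 hi (isPGroup_cj g P.2) hi'
  have hn : x⁻¹ * g ∈ Subgroup.normalizer ((P : Subgroup G) : Set G) := by
    rw [mem_normalizer_iff_cj, cj_mul, hxe, cj_inv_cj]
  rw [hQ P] at hn
  have : g = x * (x⁻¹ * g) := by group
  rw [this]
  exact K.mul_mem hx (hPK hn)

theorem main' [Finite G] {p : ℕ} [Fact p.Prime]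
    (A : Subgroup G) [A.Normal] (hA : Star p ↥A)
    (hQ : ∀ P : Sylow p (G ⧸ A), Subgroup.normalizer ((P : Subgroup (G ⧸ A)) : Set (G ⧸ A)) = P)
    (T : Subgroup G) (hT : ∃ P : Sylow p ↥A, (P : Subgroup ↥A).map A.subtype = T)
    [(T.subgroupOf (Subgroup.normalizer (T : Set G))).Normal] :
    Star p G ↔
      Star p (↥(Subgroup.normalizer (T : Set G)) ⧸ T.subgroupOf (Subgroup.normalizer (T : Set G))) := by
  rw [main A hA (star_of_self_normalizing hQ) T hT]
  constructor
  · exact fun h => h.1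
  · intro h
    refine ⟨h, ?_⟩
    rintro K ⟨P, hPK⟩
    have hsurj : Function.Surjective (QuotientGroup.mk' A) := QuotientGroup.mk'_surjective _
    have h1 : Subgroup.normalizer ((K.map (QuotientGroup.mk' A) : Subgroup (G ⧸ A)) : Set (G ⧸ A)) =
        K.map (QuotientGroup.mk' A) := by
      apply normalizer_eq_of_self_normalizing hQ _ ⟨P.mapSurjective hsurj, ?_⟩
      rw [Sylow.coe_mapSurjective]
      exact Subgroup.map_mono hPK
    rw [h1]
    apply le_antisymm
    · rw [← h1]
      exact Subgroup.le_normalizer_map _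
    · exact Subgroup.map_mono Subgroup.le_normalizer

end Cfsg.Agent.Lib.Helper7.Pron
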