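import Mathlib
import Cfsg.Agent.Lib.Helper4.Gallagher
import Cfsg.Agent.S3772

set_option autoImplicit false

namespace Cfsg.Agent.Lib.Helper7.QuadCount

open scoped commutatorElement

/-- Gauss sum computation for the quadratic map `x ↦ x ^ 2` of a group of class two, twisted by a
sign character of a central subgroup containing all squares and commutators. -/
theorem gauss_sq {U : Type*} [Group U] [Fintype U] (Φ₀ : Subgroup U)
    (hΦZ : Φ₀ ≤ Subgroup.center U) (hsq : ∀ x : U, x ^ 2 ∈ Φ₀) (hcomm : ∀ x y : U, ⁅x, y⁆ ∈ Φ₀)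
    (lam : U → ℤ) (h1 : ∀ t, lam t = 1 ∨ lam t = -1)
    (h2 : ∀ s ∈ Φ₀, ∀ t ∈ Φ₀, lam (s * t) = lam s * lam t) :
    (∑ x, lam (x ^ 2)) = 0 ∨ ∃ R : Subgroup U, Subgroup.center U ≤ R ∧
      (∑ x, lam (x ^ 2)) * (∑ x, lam (x ^ 2)) = (Nat.card U : ℤ) * (Nat.card R : ℤ) := by
  classical
  have hcen : ∀ t ∈ Φ₀, ∀ g : U, g * t = t * g := fun t ht g =>
    Subgroup.mem_center_iff.mp (hΦZ ht) g
  have hlam1 : lam 1 = 1 := by
    have h3 := h2 1 Φ₀.one_mem 1 Φ₀.one_mem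
    rw [mul_one] at h3
    rcases h1 1 with h | h
    · exact h
    · rw [h] at h3; norm_num at h3
  let χ : U → ℤ := fun x => lam (x ^ 2)
  let β : U → U → ℤ := fun y x => lam ⁅y, x⁆
  have hkey : ∀ x y : U, (x * y) ^ 2 = ⁅y, x⁆ * (x ^ 2 * y ^ 2) := by
    intro x y
    have h3 := hcen ⁅y, x⁆ (hcomm y x) x
    calc (x * y) ^ 2 = x * ⁅y, x⁆ * (x * y ^ 2) := by
          simp only [commutatorElement_def, pow_two]; group
      _ = ⁅y, x⁆ * x * (x * y ^ 2) := by rw [h3]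
      _ = ⁅y, x⁆ * (x ^ 2 * y ^ 2) := by group
  have hχmul : ∀ x y, χ (x * y) = β y x * (χ x * χ y) := by
    intro x y
    show lam ((x * y) ^ 2) = lam ⁅y, x⁆ * (lam (x ^ 2) * lam (y ^ 2))
    rw [hkey, h2 _ (hcomm y x) _ (mul_mem (hsq x) (hsq y)), h2 _ (hsq x) _ (hsq y)]
  have hχsq : ∀ x, χ x * χ x = 1 := by
    intro x
    show lam (x ^ 2) * lam (x ^ 2) = 1
    rcases h1 (x ^ 2) with h | h <;> rw [h] <;> norm_num
  have hprod : ∀ x y, χ x * χ (x * y) = χ y * β y x := by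
    intro x y
    rw [hχmul]
    calc χ x * (β y x * (χ x * χ y)) = (χ x * χ x) * (χ y * β y x) := by ring
      _ = χ y * β y x := by rw [hχsq, one_mul]
  have hβmul : ∀ y x₁ x₂, β y (x₁ * x₂) = β y x₁ * β y x₂ := by
    intro y x₁ x₂
    show lam ⁅y, x₁ * x₂⁆ = lam ⁅y, x₁⁆ * lam ⁅y, x₂⁆
    have h3 := hcen ⁅y, x₂⁆ (hcomm y x₂) x₁
    have h4 : ⁅y, x₁ * x₂⁆ = ⁅y, x₁⁆ * ⁅y, x₂⁆ := by
      calc ⁅y, x₁ * x₂⁆ = ⁅y, x₁⁆ * (x₁ * ⁅y, x₂⁆) * x₁⁻¹ := by
            simp only [commutatorElement_def]; group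
        _ = ⁅y, x₁⁆ * (⁅y, x₂⁆ * x₁) * x₁⁻¹ := by rw [h3]
        _ = ⁅y, x₁⁆ * ⁅y, x₂⁆ := by group
    rw [h4, h2 _ (hcomm y x₁) _ (hcomm y x₂)]
  have hβmul' : ∀ y₁ y₂ x, β (y₁ * y₂) x = β y₁ x * β y₂ x := by
    intro y₁ y₂ x
    show lam ⁅y₁ * y₂, x⁆ = lam ⁅y₁, x⁆ * lam ⁅y₂, x⁆
    have h3 := hcen ⁅y₂, x⁆ (hcomm y₂ x) y₁
    have h4 : ⁅y₁ * y₂, x⁆ = ⁅y₂, x⁆ * ⁅y₁, x⁆ := by
      calc ⁅y₁ * y₂, x⁆ = (y₁ * ⁅y₂, x⁆) * y₁⁻¹ * ⁅y₁, x⁆ := by
            simp only [commutatorElement_def]; group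
        _ = (⁅y₂, x⁆ * y₁) * y₁⁻¹ * ⁅y₁, x⁆ := by rw [h3]
        _ = ⁅y₂, x⁆ * ⁅y₁, x⁆ := by group
    rw [h4, h2 _ (hcomm y₂ x) _ (hcomm y₁ x), mul_comm]
  have hβ1 : ∀ x, β 1 x = 1 := by
    intro x
    show lam ⁅(1 : U), x⁆ = 1
    rw [commutatorElement_one_left, hlam1]
  -- the radical
  let R : Subgroup U :=
    { carrier := {y | ∀ x, β y x = 1}
      one_mem' := hβ1
      mul_mem' := by
        intro a b ha hb x
        rw [hβmul', ha x, hb x, one_mul]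
      inv_mem' := by
        intro a ha x
        have h3 := hβmul' a a⁻¹ x
        rw [mul_inv_cancel, hβ1, ha x, one_mul] at h3
        exact h3.symm }
  have hRmem : ∀ y, y ∈ R ↔ ∀ x, β y x = 1 := fun y => Iff.rfl
  have hZR : Subgroup.center U ≤ R := by
    intro y hy
    rw [hRmem]
    intro x
    have h3 : ⁅y, x⁆ = 1 :=
      commutatorElement_eq_one_iff_mul_comm.mpr ((Subgroup.mem_center_iff.mp hy x).symm)
    show lam ⁅y, x⁆ = 1
    rw [h3, hlam1]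
  have hinner : ∀ y : U, ∑ x, β y x = if y ∈ R then (Nat.card U : ℤ) else 0 := by
    intro y
    rcases Cfsg.Agent.S3772.sum_sign_hom (β y) (hβmul y) (fun x => h1 _) with
      ⟨h3, h4⟩ | ⟨⟨x₀, h3⟩, h4⟩
    · rw [if_pos ((hRmem y).mpr h3), h4, Nat.card_eq_fintype_card]
    · have : y ∉ R := by
        intro hy
        have h5 := (hRmem y).mp hy x₀
        rw [h3] at h5
        norm_num at h5
      rw [if_neg this, h4]
  set S : ℤ := ∑ x, χ x with hS
  set T : ℤ := ∑ y : {y : U // y ∈ R}, χ y with hT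
  have hS2 : S * S = (Nat.card U : ℤ) * T := by
    calc S * S = ∑ x, ∑ y, χ x * χ y := by rw [hS, Finset.sum_mul_sum]
      _ = ∑ x, ∑ y, χ x * χ (x * y) := by
          refine Finset.sum_congr rfl fun x _ => ?_
          exact (Equiv.sum_comp (Equiv.mulLeft x) (fun y => χ x * χ y)).symm
      _ = ∑ x, ∑ y, χ y * β y x := by simp only [hprod]
      _ = ∑ y, ∑ x, χ y * β y x := Finset.sum_comm
      _ = ∑ y, χ y * (if y ∈ R then (Nat.card U : ℤ) else 0) := by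
          refine Finset.sum_congr rfl fun y _ => ?_
          rw [← Finset.mul_sum, hinner]
      _ = (Nat.card U : ℤ) * T := by
          have h3 : ∀ y : U, χ y * (if y ∈ R then (Nat.card U : ℤ) else 0) =
              if y ∈ R then (Nat.card U : ℤ) * χ y else 0 := by
            intro y; split_ifs <;> ring
          simp only [h3]
          rw [← Finset.sum_filter, hT, Finset.mul_sum]
          exact Finset.sum_subtype (Finset.univ.filter (· ∈ R))
            (p := (· ∈ R)) (by simp) (fun y => (Nat.card U : ℤ) * χ y)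
  -- `χ` is multiplicative on `R`
  have hχR : ∀ a b : R, χ ((a * b : R) : U) = χ a * χ b := by
    intro a b
    show χ ((a : U) * (b : U)) = _
    rw [hχmul, (hRmem _).mp b.2 a, one_mul]
  rcases Cfsg.Agent.S3772.sum_sign_hom (fun y : R => χ y) hχR (fun y => h1 _) with
    ⟨-, h4⟩ | ⟨-, h4⟩
  · right
    refine ⟨R, hZR, ?_⟩
    show S * S = _
    rw [hS2, hT]
    congr 1
    rw [h4, Nat.card_eq_fintype_card]
  · left
    show S = 0
    have h5 : S * S = 0 := by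
      rw [hS2, hT, h4, mul_zero]
    exact mul_self_eq_zero.mp h5

end Cfsg.Agent.Lib.Helper7.QuadCount
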