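import Mathlib
import Cfsg.Agent.Lib.Helper7.QuadCount1

set_option autoImplicit false

namespace Cfsg.Agent.Lib.Helper7.QuadCount

open scoped commutatorElement
open Cfsg.Agent.Lib.Helper4

/-- An element of `ℂˣ` of square one is `1` or `-1`. -/
theorem units_eq_one_or_neg_one {x : ℂˣ} (h : x ^ 2 = 1) : x = 1 ∨ x = -1 := by
  have h2 : ((x : ℂˣ) : ℂ) ^ 2 = 1 := by
    rw [← Units.val_pow_eq_pow_val, h, Units.val_one]
  have h6 : (((x : ℂˣ) : ℂ) - 1) * (((x : ℂˣ) : ℂ) + 1) = 0 := by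
    linear_combination h2
  rcases mul_eq_zero.mp h6 with h7 | h7
  · left
    apply Units.ext
    rw [Units.val_one]
    linear_combination h7
  · right
    apply Units.ext
    rw [Units.val_neg, Units.val_one]
    linear_combination h7

/-- The Fourier bound: in a finite group of class two with a central subgroup `Φ₀` of exponent two
containing all squares and commutators, `|U| |Z₀| ≤ |Φ₀|² j²` where `j` is the number of solutions of
`x ^ 2 = 1` and `Φ₀ ≤ Z₀ ≤ Z(U)`. -/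
theorem fourier_bound {U : Type*} [Group U] [Finite U] (Φ₀ Z₀ : Subgroup U)
    (hΦZ : Φ₀ ≤ Z₀) (hZ : Z₀ ≤ Subgroup.center U)
    (hexp : ∀ t ∈ Φ₀, t ^ 2 = 1) (hsq : ∀ x : U, x ^ 2 ∈ Φ₀) (hcomm : ∀ x y : U, ⁅x, y⁆ ∈ Φ₀) :
    Nat.card U * Nat.card Z₀ ≤ Nat.card Φ₀ ^ 2 * Nat.card {x : U // x ^ 2 = 1} ^ 2 := by
  classical
  have hfinU : Fintype U := Fintype.ofFinite U
  haveI : Fact (Nat.Prime 2) := ⟨Nat.prime_two⟩
  have hU : IsPGroup 2 U := by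
    intro x
    refine ⟨2, ?_⟩
    have := hexp (x ^ 2) (hsq x)
    rw [← pow_mul] at this
    exact this
  obtain ⟨u, hu⟩ := hU.exists_card_eq
  obtain ⟨ζ, hζ⟩ := (hU.to_subgroup Z₀).exists_card_eq
  obtain ⟨f, hf⟩ := (hU.to_subgroup Φ₀).exists_card_eq
  have hΦcen : Φ₀ ≤ Subgroup.center U := hΦZ.trans hZ
  -- the dual group of `Φ₀`
  letI : CommGroup Φ₀ :=
    { (inferInstance : Group Φ₀) with
      mul_comm := fun a b => Subtype.ext (Subgroup.mem_center_iff.mp (hΦcen b.2) a) }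
  have hfinι : Fintype (Φ₀ →* ℂˣ) := Fintype.ofFinite _
  have hval : ∀ (φ : Φ₀ →* ℂˣ) (t : Φ₀), φ t = 1 ∨ φ t = -1 := by
    intro φ t
    apply units_eq_one_or_neg_one
    rw [← map_pow]
    have : t ^ 2 = 1 := Subtype.ext (by simpa using hexp t t.2)
    rw [this, map_one]
  let sg : (Φ₀ →* ℂˣ) → U → ℤ := fun φ t =>
    if h : t ∈ Φ₀ then (if φ ⟨t, h⟩ = 1 then 1 else -1) else 1
  have hsg1 : ∀ φ t, sg φ t = 1 ∨ sg φ t = -1 := by
    intro φ t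
    show (if h : t ∈ Φ₀ then (if φ ⟨t, h⟩ = 1 then (1 : ℤ) else -1) else 1) = 1 ∨
      (if h : t ∈ Φ₀ then (if φ ⟨t, h⟩ = 1 then (1 : ℤ) else -1) else 1) = -1
    split_ifs <;> simp
  have hneg : (-1 : ℂˣ) ≠ 1 := by
    intro h
    have := congrArg Units.val h
    rw [Units.val_neg, Units.val_one] at this
    norm_num at this
  have hcast : ∀ (φ : Φ₀ →* ℂˣ) (t : U) (ht : t ∈ Φ₀),
      ((sg φ t : ℤ) : ℂ) = ((φ ⟨t, ht⟩ : ℂˣ) : ℂ) := by
    intro φ t ht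
    show (((if h : t ∈ Φ₀ then (if φ ⟨t, h⟩ = 1 then (1 : ℤ) else -1) else 1) : ℤ) : ℂ) = _
    rw [dif_pos ht]
    rcases hval φ ⟨t, ht⟩ with h | h
    · rw [if_pos h, h]
      simp
    · rw [if_neg (by rw [h]; exact hneg), h]
      simp
  have hsg2 : ∀ φ, ∀ s ∈ Φ₀, ∀ t ∈ Φ₀, sg φ (s * t) = sg φ s * sg φ t := by
    intro φ s hs t ht
    have h3 : ((sg φ (s * t) : ℤ) : ℂ) = ((sg φ s * sg φ t : ℤ) : ℂ) := by
      rw [Int.cast_mul, hcast φ s hs, hcast φ t ht, hcast φ (s * t) (mul_mem hs ht),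
        ← Units.val_mul, ← map_mul]
      rfl
    exact_mod_cast h3
  have hsum : ∀ t ∈ Φ₀, ∑ φ : Φ₀ →* ℂˣ, sg φ t = if t = 1 then (Nat.card Φ₀ : ℤ) else 0 := by
    intro t ht
    have h3 : ((∑ φ : Φ₀ →* ℂˣ, sg φ t : ℤ) : ℂ)
        = ((if t = 1 then (Nat.card Φ₀ : ℤ) else 0 : ℤ) : ℂ) := by
      rw [Int.cast_sum, Finset.sum_congr rfl (fun φ _ => hcast φ t ht)]
      by_cases h1 : t = 1
      · rw [if_pos h1]
        subst h1
        rw [Int.cast_natCast]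
        exact sum_hom_apply_one Φ₀
      · rw [if_neg h1]
        have h5 : (⟨t, ht⟩ : Φ₀) ≠ 1 := by
          intro h
          apply h1
          simpa using congrArg Subtype.val h
        rw [Int.cast_zero]
        exact sum_hom_apply_ne Φ₀ h5
    exact_mod_cast h3
  -- the Gauss sums
  let S : (Φ₀ →* ℂˣ) → ℤ := fun φ => ∑ x : U, sg φ (x ^ 2)
  have htotal : ∑ φ : Φ₀ →* ℂˣ, S φ
      = (Nat.card Φ₀ : ℤ) * (Nat.card {x : U // x ^ 2 = 1} : ℤ) := by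
    show ∑ φ : Φ₀ →* ℂˣ, ∑ x : U, sg φ (x ^ 2) = _
    rw [Finset.sum_comm]
    rw [Finset.sum_congr rfl (fun x _ => hsum (x ^ 2) (hsq x))]
    rw [Finset.sum_ite, Finset.sum_const_zero, add_zero, Finset.sum_const, nsmul_eq_mul,
      mul_comm, Nat.card_eq_fintype_card (α := {x : U // x ^ 2 = 1}), Fintype.card_subtype]
  set k : ℕ := (u + ζ + 1) / 2 with hk
  have hdiv : ∀ φ : Φ₀ →* ℂˣ, ((2 ^ k : ℕ) : ℤ) ∣ S φ := by
    intro φ
    rcases gauss_sq Φ₀ hΦcen hsq hcomm (sg φ) (hsg1 φ) (hsg2 φ) with h0 | ⟨R, hZR, hR⟩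
    · show ((2 ^ k : ℕ) : ℤ) ∣ ∑ x : U, sg φ (x ^ 2)
      rw [h0]
      exact dvd_zero _
    · obtain ⟨ρ, hρ⟩ := (hU.to_subgroup R).exists_card_eq
      have hζρ : ζ ≤ ρ := by
        have h3 : Nat.card Z₀ ∣ Nat.card R := Subgroup.card_dvd_of_le (hZ.trans hZR)
        rw [hζ, hρ] at h3
        exact (Nat.pow_dvd_pow_iff_le_right (by norm_num)).mp h3
      have h4 : (S φ).natAbs * (S φ).natAbs = 2 ^ (u + ρ) := by
        have h5 : ((S φ).natAbs : ℤ) * ((S φ).natAbs : ℤ) = ((2 ^ (u + ρ) : ℕ) : ℤ) := by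
          rw [Int.natAbs_mul_self' (S φ)]
          show (∑ x : U, sg φ (x ^ 2)) * (∑ x : U, sg φ (x ^ 2)) = _
          rw [hR, hu, hρ]
          push_cast
          rw [pow_add]
        exact_mod_cast h5
      have h6 : (S φ).natAbs ∣ 2 ^ (u + ρ) := Dvd.intro _ h4
      obtain ⟨j', -, hj'⟩ := (Nat.dvd_prime_pow Nat.prime_two).mp h6
      rw [hj', ← pow_add] at h4
      have h7 : j' + j' = u + ρ := Nat.pow_right_injective (le_refl 2) h4
      have h8 : k ≤ j' := by rw [hk]; omega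
      have h9 : 2 ^ k ∣ (S φ).natAbs := by
        rw [hj']
        exact pow_dvd_pow 2 h8
      exact Int.natCast_dvd.mpr h9
  have hdvd : ((2 ^ k : ℕ) : ℤ) ∣ (Nat.card Φ₀ : ℤ) * (Nat.card {x : U // x ^ 2 = 1} : ℤ) := by
    rw [← htotal]
    exact Finset.dvd_sum fun φ _ => hdiv φ
  have hdvd' : 2 ^ k ∣ Nat.card Φ₀ * Nat.card {x : U // x ^ 2 = 1} := by
    rw [← Nat.cast_mul] at hdvd
    exact Int.natCast_dvd_natCast.mp hdvd
  have hjpos : 0 < Nat.card {x : U // x ^ 2 = 1} := by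
    haveI : Nonempty {x : U // x ^ 2 = 1} := ⟨⟨1, one_pow 2⟩⟩
    exact Nat.card_pos
  have hle : 2 ^ k ≤ Nat.card Φ₀ * Nat.card {x : U // x ^ 2 = 1} :=
    Nat.le_of_dvd (Nat.mul_pos Nat.card_pos hjpos) hdvd'
  calc Nat.card U * Nat.card Z₀ = 2 ^ (u + ζ) := by rw [hu, hζ, pow_add]
    _ ≤ 2 ^ (k + k) := Nat.pow_le_pow_right (by norm_num) (by rw [hk]; omega)
    _ = 2 ^ k * 2 ^ k := pow_add 2 k k
    _ ≤ (Nat.card Φ₀ * Nat.card {x : U // x ^ 2 = 1})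
        * (Nat.card Φ₀ * Nat.card {x : U // x ^ 2 = 1}) := Nat.mul_le_mul hle hle
    _ = Nat.card Φ₀ ^ 2 * Nat.card {x : U // x ^ 2 = 1} ^ 2 := by ring

end Cfsg.Agent.Lib.Helper7.QuadCount
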