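import Mathlib

set_option autoImplicit false

/-! Abelian groups of odd order with a quaternion action (`I² = J² = -1`, `JI = -IJ`) have square
order: the case of prime exponent. -/

namespace Cfsg.Agent.Lib.Helper7.QuatSq

universe u

variable {A : Type u} [AddCommGroup A]

/-- quaternion action on an abelian group -/
structure QAct (I J : A →+ A) : Prop where
  II : ∀ v, I (I v) = -v
  JJ : ∀ v, J (J v) = -v
  JI : ∀ v, J (I v) = -(I (J v))

/-- `s = a I + b J` -/
def sMap (I J : A →+ A) (a b : ℕ) : A →+ A where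
  toFun v := a • I v + b • J v
  map_zero' := by simp
  map_add' := by intro x y; simp only [map_add, smul_add]; abel

theorem sMap_apply (I J : A →+ A) (a b : ℕ) (v : A) : sMap I J a b v = a • I v + b • J v := rfl

namespace QAct

variable {I J : A →+ A}

theorem I_injective (h : QAct I J) : Function.Injective I := by
  intro x y hxy
  have := congrArg I hxy
  rw [h.II, h.II] at this
  exact neg_injective this

theorem J_injective (h : QAct I J) : Function.Injective J := by
  intro x y hxy
  have := congrArg J hxy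
  rw [h.JJ, h.JJ] at this
  exact neg_injective this

theorem s_s (h : QAct I J) {a b : ℕ} {v : A} (hv : (a * a + b * b + 1) • v = 0) :
    sMap I J a b (sMap I J a b v) = v := by
  have h1 : sMap I J a b (sMap I J a b v) = -((a * a + b * b) • v) := by
    simp only [sMap_apply, map_add, map_nsmul, h.II, h.JJ, h.JI]
    module
  rw [h1]
  have : (a * a + b * b) • v + v = 0 := by
    rw [add_smul, one_smul] at hv; exact hv
  rw [neg_eq_iff_add_eq_zero]; exact this

/-- `K = IJ` anticommutes with `s` -/
theorem s_K (h : QAct I J) (a b : ℕ) (v : A) :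
    sMap I J a b (I (J v)) = -(I (J (sMap I J a b v))) := by
  simp only [sMap_apply, map_add, map_nsmul, h.II, h.JJ, h.JI, map_neg]
  module

end QAct

/-- the `+1` and `-1` eigenspaces of `s` -/
def eigP (s : A →+ A) : AddSubgroup A where
  carrier := {v | s v = v}
  zero_mem' := map_zero s
  add_mem' := by
    intro x y hx hy
    simp only [Set.mem_setOf_eq] at hx hy ⊢
    rw [map_add, hx, hy]
  neg_mem' := by
    intro x hx
    simp only [Set.mem_setOf_eq] at hx ⊢
    rw [map_neg, hx]

def eigM (s : A →+ A) : AddSubgroup A where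
  carrier := {v | s v = -v}
  zero_mem' := by simp
  add_mem' := by
    intro x y hx hy
    simp only [Set.mem_setOf_eq] at hx hy ⊢
    rw [map_add, hx, hy, neg_add]
  neg_mem' := by
    intro x hx
    simp only [Set.mem_setOf_eq] at hx ⊢
    rw [map_neg, hx]

theorem mem_eigP {s : A →+ A} {v : A} : v ∈ eigP s ↔ s v = v := Iff.rfl
theorem mem_eigM {s : A →+ A} {v : A} : v ∈ eigM s ↔ s v = -v := Iff.rfl

theorem sq_prime [Finite A] {r : ℕ} [hr : Fact r.Prime] (hr2 : r ≠ 2)
    (hexp : ∀ v : A, r • v = 0) {I J : A →+ A} (h : QAct I J) : IsSquare (Nat.card A) := by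
  obtain ⟨a₀, b₀, hab⟩ := ZMod.sq_add_sq r (-1 : ZMod r)
  obtain ⟨a, ha⟩ : ∃ a : ℕ, a = a₀.val := ⟨_, rfl⟩
  obtain ⟨b, hb⟩ : ∃ b : ℕ, b = b₀.val := ⟨_, rfl⟩
  have hdvd : r ∣ a * a + b * b + 1 := by
    rw [← ZMod.natCast_eq_zero_iff]
    push_cast
    rw [ha, hb, ZMod.natCast_zmod_val, ZMod.natCast_zmod_val, ← pow_two, ← pow_two, hab]
    ring
  have hv0 : ∀ v : A, (a * a + b * b + 1) • v = 0 := by
    intro v
    obtain ⟨m, hm⟩ := hdvd
    rw [hm, mul_comm, mul_smul, hexp, smul_zero]
  obtain ⟨s, hs⟩ : ∃ s : A →+ A, s = sMap I J a b := ⟨_, rfl⟩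
  have hss : ∀ v, s (s v) = v := fun v => by rw [hs]; exact h.s_s (hv0 v)
  have hsK : ∀ v, s (I (J v)) = -(I (J (s v))) := fun v => by rw [hs]; exact h.s_K a b v
  -- `r` is odd
  have hrodd : Odd r := hr.out.odd_of_ne_two hr2
  obtain ⟨m, hm⟩ := hrodd
  -- halving
  have hhalf : ∀ v : A, (m + 1) • (v + v) = v := by
    intro v
    have h1 : (m + 1) • (v + v) = r • v + v := by
      rw [hm]; module
    rw [h1, hexp, zero_add]
  -- decomposition
  have hinj : Function.Injective (fun x : eigP s × eigM s => (x.1 : A) + (x.2 : A)) := by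
    rintro ⟨⟨x, hx⟩, ⟨y, hy⟩⟩ ⟨⟨x', hx'⟩, ⟨y', hy'⟩⟩ hxy
    simp only at hxy
    rw [mem_eigP] at hx hx'
    rw [mem_eigM] at hy hy'
    -- apply s: x - y = x' - y'
    have h2 : x - y = x' - y' := by
      have := congrArg s hxy
      rw [map_add, map_add, hx, hy, hx', hy'] at this
      rw [sub_eq_add_neg, sub_eq_add_neg]; exact this
    have hx2 : x + x = x' + x' := by
      have : (x + y) + (x - y) = (x' + y') + (x' - y') := by rw [hxy, h2]
      calc x + x = (x + y) + (x - y) := by abel
        _ = (x' + y') + (x' - y') := this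
        _ = x' + x' := by abel
    have hy2 : y + y = y' + y' := by
      have : (x + y) - (x - y) = (x' + y') - (x' - y') := by rw [hxy, h2]
      calc y + y = (x + y) - (x - y) := by abel
        _ = (x' + y') - (x' - y') := this
        _ = y' + y' := by abel
    have hxx : x = x' := by rw [← hhalf x, ← hhalf x', hx2]
    have hyy : y = y' := by rw [← hhalf y, ← hhalf y', hy2]
    subst hxx; subst hyy; rfl
  have hsurj : Function.Surjective (fun x : eigP s × eigM s => (x.1 : A) + (x.2 : A)) := by
    intro v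
    have h1 : (m + 1) • (v + s v) ∈ eigP s := by
      rw [mem_eigP, map_nsmul, map_add, hss, add_comm (s v) v]
    have h2 : (m + 1) • (v - s v) ∈ eigM s := by
      rw [mem_eigM, map_nsmul, map_sub, hss, ← smul_neg, neg_sub]
    refine ⟨(⟨_, h1⟩, ⟨_, h2⟩), ?_⟩
    simp only
    rw [← smul_add]
    have : v + s v + (v - s v) = v + v := by abel
    rw [this, hhalf]
  have hcard : Nat.card A = Nat.card (eigP s) * Nat.card (eigM s) := by
    rw [← Nat.card_prod]
    exact (Nat.card_congr (Equiv.ofBijective _ ⟨hinj, hsurj⟩)).symm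
  -- `IJ` swaps the eigenspaces
  have hKinj : Function.Injective (fun v => I (J v)) := h.I_injective.comp h.J_injective
  have hle1 : Nat.card (eigP s) ≤ Nat.card (eigM s) := by
    apply Nat.card_le_card_of_injective (fun x : eigP s => (⟨I (J x.1), by
      rw [mem_eigM, hsK, x.2]⟩ : eigM s))
    intro x y hxy
    exact Subtype.ext (hKinj (congrArg Subtype.val hxy))
  have hle2 : Nat.card (eigM s) ≤ Nat.card (eigP s) := by
    apply Nat.card_le_card_of_injective (fun x : eigM s => (⟨I (J x.1), by
      rw [mem_eigP, hsK, x.2, map_neg, map_neg, neg_neg]⟩ : eigP s))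
    intro x y hxy
    exact Subtype.ext (hKinj (congrArg Subtype.val hxy))
  rw [hcard, le_antisymm hle1 hle2]
  exact ⟨_, rfl⟩

end Cfsg.Agent.Lib.Helper7.QuatSq
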