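import Mathlib
import Cfsg.Agent.Lib.Helper7.QuatSq1

set_option autoImplicit false

/-! Abelian groups of odd order with a quaternion action have square order. -/

namespace Cfsg.Agent.Lib.Helper7.QuatSq

universe u

theorem sq_aux (n : ℕ) : ∀ (A : Type u) [AddCommGroup A] [Finite A], Nat.card A = n → Odd n →
    ∀ I J : A →+ A, QAct I J → IsSquare n := by
  induction n using Nat.strong_induction_on with
  | _ n ih =>
  intro A _ _ hn hodd I J h
  by_cases h1 : n = 1
  · rw [h1]; exact ⟨1, rfl⟩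
  obtain ⟨r, hr, hrn⟩ := Nat.exists_prime_and_dvd h1
  haveI : Fact r.Prime := ⟨hr⟩
  have hr2 : r ≠ 2 := by
    rintro rfl
    exact (Nat.not_even_iff_odd.mpr hodd) (even_iff_two_dvd.mpr hrn)
  obtain ⟨φ, hφ⟩ : ∃ φ : A →+ A, φ = nsmulAddMonoidHom r := ⟨_, rfl⟩
  have hφa : ∀ v : A, φ v = r • v := fun v => by rw [hφ]; rfl
  have hcard : Nat.card A = Nat.card φ.range * Nat.card φ.ker := by
    rw [AddSubgroup.card_eq_card_quotient_mul_card_addSubgroup φ.ker,
      Nat.card_congr (QuotientAddGroup.quotientKerEquivRange φ).toEquiv]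
  have hmemk : ∀ v : A, v ∈ φ.ker ↔ r • v = 0 := fun v => by rw [AddMonoidHom.mem_ker, hφa]
  -- restriction to the kernel
  have hIker : ∀ v : φ.ker, (I.comp φ.ker.subtype) v ∈ φ.ker := by
    intro v
    rw [hmemk]
    show r • I (v : A) = 0
    rw [← map_nsmul, (hmemk _).mp v.2, map_zero]
  have hJker : ∀ v : φ.ker, (J.comp φ.ker.subtype) v ∈ φ.ker := by
    intro v
    rw [hmemk]
    show r • J (v : A) = 0
    rw [← map_nsmul, (hmemk _).mp v.2, map_zero]
  have hQk : QAct ((I.comp φ.ker.subtype).codRestrict φ.ker hIker)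
      ((J.comp φ.ker.subtype).codRestrict φ.ker hJker) :=
    ⟨fun v => Subtype.ext (h.II v), fun v => Subtype.ext (h.JJ v), fun v => Subtype.ext (h.JI v)⟩
  have hsqk : IsSquare (Nat.card φ.ker) :=
    sq_prime hr2 (fun v => Subtype.ext ((hmemk _).mp v.2)) hQk
  -- restriction to the range
  have hmemr : ∀ v : A, v ∈ φ.range ↔ ∃ w, r • w = v := fun v => by
    rw [AddMonoidHom.mem_range]
    simp only [hφa]
  have hIr : ∀ v : φ.range, (I.comp φ.range.subtype) v ∈ φ.range := by
    intro v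
    obtain ⟨w, hw⟩ := (hmemr _).mp v.2
    rw [hmemr]
    refine ⟨I w, ?_⟩
    show r • I w = I (v : A)
    rw [← map_nsmul, hw]
  have hJr : ∀ v : φ.range, (J.comp φ.range.subtype) v ∈ φ.range := by
    intro v
    obtain ⟨w, hw⟩ := (hmemr _).mp v.2
    rw [hmemr]
    refine ⟨J w, ?_⟩
    show r • J w = J (v : A)
    rw [← map_nsmul, hw]
  have hQr : QAct ((I.comp φ.range.subtype).codRestrict φ.range hIr)
      ((J.comp φ.range.subtype).codRestrict φ.range hJr) :=
    ⟨fun v => Subtype.ext (h.II v), fun v => Subtype.ext (h.JJ v), fun v => Subtype.ext (h.JI v)⟩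
  have hker_ne : 1 < Nat.card φ.ker := by
    obtain ⟨x, hx⟩ := exists_prime_addOrderOf_dvd_card' r (hn ▸ hrn)
    have hxk : x ∈ φ.ker := by
      rw [hmemk, ← hx]; exact addOrderOf_nsmul_eq_zero x
    have hx0 : x ≠ 0 := by
      rintro rfl
      rw [addOrderOf_zero] at hx
      exact hr.one_lt.ne hx
    exact Finite.one_lt_card_iff_nontrivial.mpr
      ⟨⟨⟨x, hxk⟩, 0, fun h0 => hx0 (congrArg Subtype.val h0)⟩⟩
  have hposr : 0 < Nat.card φ.range := Nat.card_pos
  have hlt : Nat.card φ.range < n := by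
    rw [← hn, hcard]; nlinarith
  have hoddr : Odd (Nat.card φ.range) := by
    apply Odd.of_dvd_nat hodd
    rw [← hn, hcard]; exact Dvd.intro _ rfl
  have hsqr := ih _ hlt φ.range rfl hoddr _ _ hQr
  rw [← hn, hcard]
  exact hsqr.mul hsqk

/-- an abelian group of odd order with a quaternion action has square order -/
theorem sq_of_odd {A : Type u} [AddCommGroup A] [Finite A] (hodd : Odd (Nat.card A))
    {I J : A →+ A} (h : QAct I J) : IsSquare (Nat.card A) :=
  sq_aux _ A rfl hodd I J h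

end Cfsg.Agent.Lib.Helper7.QuatSq
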