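import Mathlib
import Cfsg.Agent.Lib.Helper7.QuatSq2
import Cfsg.Agent.Lib.Helper7.FpfInvolution

set_option autoImplicit false

/-! Multiplicative versions of the square-order lemma and quaternion pairs in `QuaternionGroup`. -/

namespace Cfsg.Agent.Lib.Helper7.QuatSq

universe u

theorem sq_of_mul {K : Type u} [CommGroup K] [Finite K] (hodd : Odd (Nat.card K))
    (I J : K →* K) (hII : ∀ v, I (I v) = v⁻¹) (hJJ : ∀ v, J (J v) = v⁻¹)
    (hJI : ∀ v, J (I v) = (I (J v))⁻¹) : IsSquare (Nat.card K) := by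
  have h : QAct (MonoidHom.toAdditive I) (MonoidHom.toAdditive J) :=
    ⟨fun v => congrArg Additive.ofMul (hII v.toMul),
     fun v => congrArg Additive.ofMul (hJJ v.toMul),
     fun v => congrArg Additive.ofMul (hJI v.toMul)⟩
  have h1 : Nat.card (Additive K) = Nat.card K := Nat.card_congr Additive.toMul
  have h2 := sq_of_odd (A := Additive K) (by rw [h1]; exact hodd) h
  rwa [h1] at h2

theorem sq_of_group {K : Type u} [hG : Group K] [Finite K] (hcomm : ∀ a b : K, a * b = b * a)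
    (hodd : Odd (Nat.card K))
    (I J : K →* K) (hII : ∀ v, I (I v) = v⁻¹) (hJJ : ∀ v, J (J v) = v⁻¹)
    (hJI : ∀ v, J (I v) = (I (J v))⁻¹) : IsSquare (Nat.card K) := by
  letI : CommGroup K := { hG with mul_comm := hcomm }
  exact sq_of_mul hodd I J hII hJJ hJI

open QuaternionGroup in
/-- a quaternion pair in the generalized quaternion group -/
theorem exists_pair_quaternion (n : ℕ) : ∃ i j : QuaternionGroup (2 ^ (n + 1)),
    i * i = j * j ∧ i * j * i = j ∧ i * i ≠ 1 ∧ (i * i) * (i * i) = 1 := by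
  refine ⟨a ((2 ^ n : ℕ) : ZMod (2 * 2 ^ (n + 1))), xa 0, ?_, ?_, ?_, ?_⟩
  · rw [a_mul_a, xa_mul_xa]
    congr 1
    push_cast
    ring
  · rw [a_mul_xa, xa_mul_a]
    congr 1
    ring
  · rw [a_mul_a, one_def]
    intro h0
    have h1 := QuaternionGroup.a.inj h0
    have h2 : ((2 ^ (n + 1) : ℕ) : ZMod (2 * 2 ^ (n + 1))) = 0 := by
      rw [← h1]; push_cast; ring
    rw [ZMod.natCast_eq_zero_iff] at h2
    have h3 := Nat.le_of_dvd (by positivity) h2
    have h4 : 0 < 2 ^ (n + 1) := by positivity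
    omega
  · rw [a_mul_a, a_mul_a, one_def]
    congr 1
    have h2 : ((2 * 2 ^ (n + 1) : ℕ) : ZMod (2 * 2 ^ (n + 1))) = 0 := ZMod.natCast_self _
    rw [← h2]
    push_cast
    ring

end Cfsg.Agent.Lib.Helper7.QuatSq
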