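import Mathlib
import Cfsg.Agent.Lib.Helper7.QuatSq3
import Cfsg.Agent.Lib.Helper4.CNSolv1
import Cfsg.Agent.Lib.Lead.FrobConj1

set_option autoImplicit false

/-! Frobenius groups whose complement contains a quaternion pair have kernels of odd square order. -/

namespace Cfsg.Agent.Lib.Helper7.QuatSq

open Cfsg.Agent.Lib.Lead Cfsg.Agent.Lib.Helper7

universe u

variable {L : Type u} [Group L]

theorem frob_square [Finite L] {H K : Subgroup L} (hK : FrobData H K) {i j : L} (hi : i ∈ H)
    (hij : i * i = j * j) (hiji : i * j * i = j) (hz : i * i ≠ 1)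
    (hz2 : (i * i) * (i * i) = 1) : Odd (Nat.card K) ∧ IsSquare (Nat.card K) := by
  haveI := hK.normal
  have hzH : i * i ∈ H := H.mul_mem hi hi
  have hzinv : (i * i)⁻¹ = i * i := inv_eq_of_mul_eq_one_right hz2
  have hσσ : ∀ k : K, (MulAut.conjNormal (i * i) : MulAut K).toMonoidHom
      ((MulAut.conjNormal (i * i) : MulAut K).toMonoidHom k) = k := by
    intro k
    apply Subtype.ext
    simp only [MulEquiv.coe_toMonoidHom, MulAut.conjNormal_apply]
    rw [hzinv]
    calc i * i * (i * i * ↑k * (i * i)) * (i * i) = ((i * i) * (i * i)) * ↑k * ((i * i) * (i * i)) := by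
          group
      _ = ↑k := by rw [hz2, one_mul, mul_one]
  have hfpf : ∀ k : K, (MulAut.conjNormal (i * i) : MulAut K).toMonoidHom k = k → k = 1 := by
    intro k hk
    have h1 : i * i * ↑k * (i * i)⁻¹ = (k : L) := by
      have := congrArg Subtype.val hk
      simpa only [MulEquiv.coe_toMonoidHom, MulAut.conjNormal_apply] using this
    have h2 : i * i * ↑k = ↑k * (i * i) := by
      calc i * i * ↑k = (i * i * ↑k * (i * i)⁻¹) * (i * i) := by group
        _ = ↑k * (i * i) := by rw [h1]
    exact Subtype.ext (hK.fpf hzH hz k.2 h2)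
  have hinv := fpf_involution_inverts _ hσσ hfpf
  have hcomm := fpf_involution_comm _ hσσ hfpf
  have hodd2 := fpf_involution_odd _ hσσ hfpf
  have hodd : Odd (Nat.card K) := by
    rw [← Nat.not_even_iff_odd, even_iff_two_dvd]; exact hodd2
  refine ⟨hodd, ?_⟩
  -- the inversion in coordinates
  have hinv' : ∀ k : K, i * i * ↑k * (i * i)⁻¹ = ((k⁻¹ : K) : L) := by
    intro k
    have := congrArg Subtype.val (hinv k)
    simpa only [MulEquiv.coe_toMonoidHom, MulAut.conjNormal_apply] using this
  -- `z` commutes with `j`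
  have hji : j * i = i * i * (i * j) := by
    have h1 : j * i = i * j * (i * i) := by
      calc j * i = (i * j * i) * i := by rw [hiji]
        _ = i * j * (i * i) := by group
    have h2 : j * (i * i) = (i * i) * j := by rw [hij]; group
    calc j * i = i * j * (i * i) := h1
      _ = i * (j * (i * i)) := by group
      _ = i * ((i * i) * j) := by rw [h2]
      _ = i * i * (i * j) := by group
  apply sq_of_group hcomm hodd (MulAut.conjNormal i : MulAut K).toMonoidHom
    (MulAut.conjNormal j : MulAut K).toMonoidHom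
  · intro v
    apply Subtype.ext
    simp only [MulEquiv.coe_toMonoidHom, MulAut.conjNormal_apply]
    rw [← hinv' v]
    group
  · intro v
    apply Subtype.ext
    simp only [MulEquiv.coe_toMonoidHom, MulAut.conjNormal_apply]
    rw [← hinv' v, hij]
    group
  · intro v
    apply Subtype.ext
    rw [← hinv]
    simp only [MulEquiv.coe_toMonoidHom, MulAut.conjNormal_apply]
    calc j * (i * ↑v * i⁻¹) * j⁻¹ = (j * i) * ↑v * (j * i)⁻¹ := by group
      _ = (i * i * (i * j)) * ↑v * (i * i * (i * j))⁻¹ := by rw [hji]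
      _ = i * i * (i * (j * ↑v * j⁻¹) * i⁻¹) * (i * i)⁻¹ := by group

end Cfsg.Agent.Lib.Helper7.QuatSq
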