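import Mathlib
import Cfsg.Agent.Lib.Helper7.CM2
import Cfsg.Agent.Lib.Lead.FrobNPC3

set_option autoImplicit false

/-! Relative CM-groups: a normal subgroup `N` of `G` such that `C_G(x)` is a maximal subgroup of
`G` for every `x ∈ N` not central in `N`.  Basic lemmas. -/

namespace Cfsg.Agent.Lib.Helper7.RCM

open Cfsg.Agent.Lib.Helper7.CM
open scoped commutatorElement

variable {G : Type*} [Group G]

/-- the centre of `N`, as a subgroup of `G` -/
def ZN (N : Subgroup G) : Subgroup G := N ⊓ Subgroup.centralizer (N : Set G)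

/-- relative CM hypothesis -/
def IsRCM (N : Subgroup G) : Prop :=
  ∀ x : G, x ∈ N → x ∉ Subgroup.centralizer (N : Set G) → IsCoatom (Cen x)

theorem mem_ZN {N : Subgroup G} {x : G} : x ∈ ZN N ↔ x ∈ N ∧ ∀ n ∈ N, n * x = x * n := by
  unfold ZN
  rw [Subgroup.mem_inf, Subgroup.mem_centralizer_iff]
  rfl

theorem ZN_le (N : Subgroup G) : ZN N ≤ N := inf_le_left

instance ZN_normal (N : Subgroup G) [N.Normal] : (ZN N).Normal := by
  unfold ZN
  infer_instance

theorem not_mem_centralizer {N : Subgroup G} {x : G} (hxN : x ∈ N) (hx : x ∉ ZN N) :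
    x ∉ Subgroup.centralizer (N : Set G) := fun h => hx ⟨hxN, h⟩

theorem comm_of_mem_ZN {N : Subgroup G} {z n : G} (hz : z ∈ ZN N) (hn : n ∈ N) : n * z = z * n :=
  (mem_ZN.mp hz).2 n hn

theorem ZN_le_Cen {N : Subgroup G} {x : G} (hx : x ∈ N) : ZN N ≤ Cen x := by
  intro z hz
  rw [mem_Cen]
  exact (comm_of_mem_ZN hz hx).symm

theorem exists_not_commute {N : Subgroup G} {x : G} (hxN : x ∈ N) (hx : x ∉ ZN N) :
    ∃ n ∈ N, n * x ≠ x * n := by
  by_contra h
  push Not at h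
  exact hx (mem_ZN.mpr ⟨hxN, h⟩)

theorem N_not_le_Cen {N : Subgroup G} {x : G} (hxN : x ∈ N) (hx : x ∉ ZN N) : ¬ N ≤ Cen x := by
  intro h
  obtain ⟨n, hn, hne⟩ := exists_not_commute hxN hx
  exact hne (mem_Cen.mp (h hn))

theorem Cen_ne_top' {N : Subgroup G} {x : G} (hxN : x ∈ N) (hx : x ∉ ZN N) : Cen x ≠ ⊤ := by
  intro h
  apply N_not_le_Cen hxN hx
  rw [h]
  exact le_top

theorem isCoatom_Cen {N : Subgroup G} (h : IsRCM N) {x : G} (hxN : x ∈ N) (hx : x ∉ ZN N) :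
    IsCoatom (Cen x) := h x hxN (not_mem_centralizer hxN hx)

theorem Cen_eq_of_le' {N : Subgroup G} (h : IsRCM N) {x y : G} (hxN : x ∈ N) (hx : x ∉ ZN N)
    (hyN : y ∈ N) (hy : y ∉ ZN N) (hle : Cen x ≤ Cen y) : Cen x = Cen y := by
  rcases eq_or_lt_of_le hle with h1 | h1
  · exact h1
  · exact absurd ((isCoatom_Cen h hxN hx).2 _ h1) (Cen_ne_top' hyN hy)

theorem not_mem_ZN_of_pow {N : Subgroup G} {x : G} {k : ℕ} (hxk : x ^ k ∉ ZN N) : x ∉ ZN N :=
  fun h => hxk ((ZN N).pow_mem h k)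

theorem Cen_pow' {N : Subgroup G} (h : IsRCM N) {x : G} {k : ℕ} (hxN : x ∈ N)
    (hxk : x ^ k ∉ ZN N) : Cen (x ^ k) = Cen x :=
  (Cen_eq_of_le' h hxN (not_mem_ZN_of_pow hxk) (N.pow_mem hxN k) hxk (Cen_le_Cen_pow x k)).symm

/-- commuting non-central elements of coprime orders have the same centralizer -/
theorem Cen_eq_of_commute_coprime [Finite G] {N : Subgroup G} (h : IsRCM N) {u v : G}
    (huN : u ∈ N) (hu : u ∉ ZN N) (hvN : v ∈ N) (hv : v ∉ ZN N) (hc : u * v = v * u)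
    (hcop : Nat.Coprime (orderOf u) (orderOf v)) : Cen u = Cen v := by
  have hcomm : Commute u v := hc
  have key : ∀ (a b : G), a ∈ N → a ∉ ZN N → b ∈ N → Commute a b →
      Nat.Coprime (orderOf a) (orderOf b) → Cen (a * b) = Cen a ∧ a * b ∉ ZN N := by
    intro a b haN ha hbN hab hco
    obtain ⟨m, hm⟩ := exists_pow_eq_self_of_coprime (x := a) hco.symm
    have h1 : (a * b) ^ (orderOf b * m) = a := by
      rw [pow_mul, hab.mul_pow, pow_orderOf_eq_one, mul_one, hm]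
    have h2 : (a * b) ^ (orderOf b * m) ∉ ZN N := by rw [h1]; exact ha
    have h3 := Cen_pow' h (N.mul_mem haN hbN) h2
    rw [h1] at h3
    exact ⟨h3.symm, not_mem_ZN_of_pow h2⟩
  have h1 := (key u v huN hu hvN hcomm hcop).1
  have h2 := (key v u hvN hv huN hcomm.symm hcop.symm).1
  rw [← hc] at h2
  rw [← h1, h2]

/-- the basic splitting lemma: an `C_G(x)`-invariant subgroup `L` of `N` either centralizes `x`
or `N = L · C_N(x)` -/
theorem split {N : Subgroup G} (h : IsRCM N) {x : G} (hxN : x ∈ N) (hx : x ∉ ZN N)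
    (L : Subgroup G) (hLN : L ≤ N) (hnorm : Cen x ≤ Subgroup.normalizer (L : Set G)) :
    L ≤ Cen x ∨ ∀ n ∈ N, ∃ l ∈ L, ∃ c ∈ N ⊓ Cen x, n = l * c := by
  by_cases hL : L ≤ Cen x
  · exact Or.inl hL
  · right
    have h1 : Cen x < Cen x ⊔ L := by
      apply lt_of_le_of_ne le_sup_left
      intro h0
      apply hL
      rw [h0]
      exact le_sup_right
    have h2 : Cen x ⊔ L = ⊤ := (isCoatom_Cen h hxN hx).2 _ h1
    intro n hn
    have h3 : n⁻¹ ∈ Cen x ⊔ L := by rw [h2]; exact Subgroup.mem_top _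
    rw [← SetLike.mem_coe, Subgroup.coe_mul_of_left_le_normalizer_right (Cen x) L hnorm] at h3
    obtain ⟨c, hc, l, hl, hcl⟩ := Set.mem_mul.mp h3
    refine ⟨l⁻¹, L.inv_mem hl, c⁻¹, ⟨?_, (Cen x).inv_mem hc⟩, ?_⟩
    · have : c⁻¹ = l * n := by
        have : c * l = n⁻¹ := hcl
        have e : c = n⁻¹ * l⁻¹ := by rw [← this]; group
        rw [e]; group
      rw [this]
      exact N.mul_mem (hLN hl) hn
    · have : c * l = n⁻¹ := hcl
      have e : n = (c * l)⁻¹ := by rw [this, inv_inv]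
      rw [e]; group

/-- version for normal subgroups of `G` -/
theorem split_normal {N : Subgroup G} (h : IsRCM N) {x : G} (hxN : x ∈ N) (hx : x ∉ ZN N)
    (L : Subgroup G) [hL : L.Normal] (hLN : L ≤ N) :
    L ≤ Cen x ∨ ∀ n ∈ N, ∃ l ∈ L, ∃ c ∈ N ⊓ Cen x, n = l * c := by
  apply split h hxN hx L hLN
  rw [Subgroup.normalizer_eq_top_iff.mpr hL]
  exact le_top

/-- elements of `ZN N` are central in `N`: commutator form -/
theorem commutator_mem_ZN_symm {N : Subgroup G} {a b : G} (h : ⁅a, b⁆ ∈ ZN N) : ⁅b, a⁆ ∈ ZN N := by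
  rw [← commutatorElement_inv]
  exact (ZN N).inv_mem h

/-- a power of `x` which is a noncentral element of prime power order -/
theorem exists_primary_pow [Finite G] {N : Subgroup G} :
    ∀ (n : ℕ) (x : G), orderOf x = n → x ∈ N → x ∉ ZN N →
      ∃ (p : ℕ) (k : ℕ), p.Prime ∧ x ^ k ∉ ZN N ∧ ∃ j : ℕ, (x ^ k) ^ (p ^ j) = 1 := by
  intro n
  induction n using Nat.strong_induction_on with
  | _ n ih =>
    intro x hxn hxN hx
    have hx1 : x ≠ 1 := by
      rintro rfl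
      exact hx (ZN N).one_mem
    have hn1 : orderOf x ≠ 1 := fun h => hx1 (orderOf_eq_one_iff.mp h)
    obtain ⟨p, hp, hpd⟩ := Nat.exists_prime_and_dvd hn1
    haveI : Fact p.Prime := ⟨hp⟩
    obtain ⟨u, v, huv, hu, hv, ⟨j, hj⟩, hcop⟩ := Cfsg.Agent.Lib.Lead.exists_ppart_decomp' p x
    rw [← mem_powers_iff_mem_zpowers] at hu hv
    obtain ⟨a, rfl⟩ := hu
    obtain ⟨b, rfl⟩ := hv
    by_cases hua : x ^ a ∈ ZN N
    · have hvb : x ^ b ∉ ZN N := by
        intro h0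
        apply hx
        rw [huv]
        exact (ZN N).mul_mem hua h0
      have hlt : orderOf (x ^ b) < n := by
        rw [← hxn]
        apply lt_of_le_of_ne (Nat.le_of_dvd (orderOf_pos x) (orderOf_pow_dvd b))
        intro h0
        rw [h0] at hcop
        exact hp.one_lt.ne' (Nat.eq_one_of_dvd_coprimes hcop hpd dvd_rfl |>.symm ▸ rfl)
      obtain ⟨q, k, hq, hk, j', hj'⟩ := ih _ hlt (x ^ b) rfl (N.pow_mem hxN b) hvb
      refine ⟨q, b * k, hq, ?_, j', ?_⟩
      · rw [pow_mul]; exact hk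
      · rw [pow_mul]; exact hj'
    · exact ⟨p, a, hp, hua, j, hj⟩

theorem exists_primary_pow' [Finite G] {N : Subgroup G} {x : G} (hxN : x ∈ N) (hx : x ∉ ZN N) :
    ∃ (p : ℕ) (k : ℕ), p.Prime ∧ x ^ k ∉ ZN N ∧ ∃ j : ℕ, (x ^ k) ^ (p ^ j) = 1 :=
  exists_primary_pow _ x rfl hxN hx

end Cfsg.Agent.Lib.Helper7.RCM
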