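import Mathlib
import Cfsg.Agent.Lib.Lead.Frobenius
import Cfsg.Agent.Lib.Lead.Frobenius3
import Cfsg.Agent.Lib.Lead.FpfCyclic

set_option autoImplicit false

/-! Recognition of a Frobenius group with elementary abelian kernel and complement of prime order. -/

namespace Cfsg.Agent.Lib.Helper7.RCM

open Cfsg.Agent.Lib.Lead
open scoped commutatorElement Pointwise

theorem frob_end {Q : Type*} [Group Q] [Finite Q] (K : Subgroup Q) [hKn : K.Normal] {r q : ℕ}
    (hr : r.Prime) (hq : q.Prime) (hqr : q ≠ r)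
    (hKr : ∀ k ∈ K, k ^ r = 1) (hK1 : K ≠ ⊥) (hKtop : K ≠ ⊤)
    (hQq : ∀ g : Q, g ^ q ∈ K) (hQc : ∀ a b : Q, ⁅a, b⁆ ∈ K)
    (hfpf : ∀ g : Q, g ∉ K → ∀ k ∈ K, g * k = k * g → k = 1) :
    ∃ H : Subgroup Q, Cfsg.IsFrobeniusComplement H ∧ (Nat.card H).Prime ∧
      (K : Set Q) = Cfsg.frobeniusKernel H := by
  classical
  haveI : Fact r.Prime := ⟨hr⟩
  haveI : Fact q.Prime := ⟨hq⟩
  have hKp : IsPGroup r K := by
    rintro ⟨k, hk⟩
    exact ⟨1, Subtype.ext (by rw [pow_one]; exact hKr k hk)⟩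
  obtain ⟨a, ha⟩ := IsPGroup.iff_card.mp hKp
  have hQp : IsPGroup q (Q ⧸ K) := by
    intro x
    induction x using QuotientGroup.induction_on with
    | H g =>
      refine ⟨1, ?_⟩
      rw [pow_one, ← QuotientGroup.mk_pow, QuotientGroup.eq_one_iff]
      exact hQq g
  obtain ⟨b, hb⟩ := IsPGroup.iff_card.mp hQp
  have hidx : K.index = q ^ b := by rw [Subgroup.index_eq_card]; exact hb
  have hcop : Nat.Coprime (Nat.card K) K.index := by
    rw [ha, hidx]
    exact Nat.Coprime.pow _ _ ((Nat.coprime_primes hr hq).mpr hqr.symm)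
  obtain ⟨H, hH⟩ := Subgroup.exists_right_complement'_of_coprime hcop
  have hdisj : K ⊓ H = ⊥ := disjoint_iff.mp hH.disjoint
  have hH1 : H ≠ ⊥ := by
    intro h0
    rw [h0, Subgroup.isComplement'_bot_right] at hH
    exact hKtop hH
  have hHK : ∀ h ∈ H, h ≠ 1 → h ∉ K := by
    intro h hh hh1 hhK
    have : h ∈ K ⊓ H := ⟨hhK, hh⟩
    rw [hdisj, Subgroup.mem_bot] at this
    exact hh1 this
  have hfpf' : ∀ h ∈ H, h ≠ 1 → K ⊓ Subgroup.centralizer {h} = ⊥ := by
    intro h hh hh1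
    rw [eq_bot_iff]
    intro k hk
    obtain ⟨hkK, hkC⟩ := Subgroup.mem_inf.mp hk
    rw [Subgroup.mem_centralizer_singleton_iff] at hkC
    rw [Subgroup.mem_bot]
    exact hfpf h (hHK h hh hh1) k hkK hkC.symm
  have hF : Cfsg.IsFrobeniusComplement H :=
    (isFrobeniusComplement_iff_fpf K H hH hK1 hH1).mpr hfpf'
  have hHab : IsMulCommutative H := by
    refine ⟨⟨fun x y => ?_⟩⟩
    apply Subtype.ext
    have h1 : ⁅(x : Q), (y : Q)⁆ ∈ K ⊓ H :=
      ⟨hQc _ _, Subgroup.commutator_mem_commutator x.2 y.2 |> fun h0 =>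
        (Subgroup.commutator_le_self H) h0⟩
    rw [hdisj, Subgroup.mem_bot, commutatorElement_eq_one_iff_commute] at h1
    exact h1.eq
  have hHn : H ≤ Subgroup.normalizer (K : Set Q) := by
    rw [Subgroup.normalizer_eq_top_iff.mpr hKn]
    exact le_top
  haveI hcyc : IsCyclic H := isCyclic_of_fpf_abelian H K hK1 hHn hfpf' hHab
  have hHq : ∀ h : H, h ^ q = 1 := by
    intro h
    apply Subtype.ext
    have : ((h : Q)) ^ q ∈ K ⊓ H := ⟨hQq _, H.pow_mem h.2 q⟩
    rw [hdisj, Subgroup.mem_bot] at this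
    exact this
  have hcard : Nat.card H = q := by
    obtain ⟨g, hg⟩ := IsCyclic.exists_generator (α := H)
    have h1 : orderOf g = Nat.card H := orderOf_eq_card_of_forall_mem_zpowers hg
    have h2 : orderOf g ∣ q := orderOf_dvd_of_pow_eq_one (hHq g)
    rw [h1] at h2
    rcases (Nat.dvd_prime hq).mp h2 with h3 | h3
    · exact absurd (Subgroup.card_eq_one.mp h3) hH1
    · exact h3
  refine ⟨H, hF, by rw [hcard]; exact hq, ?_⟩
  have hsub : (K : Set Q) ⊆ Cfsg.frobeniusKernel H := by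
    intro k hk
    by_cases hk1 : k = 1
    · exact Or.inl hk1
    · right
      intro g hg
      rw [mem_conj_smul_iff] at hg
      have h1 : g⁻¹ * k * g ∈ K := by
        have := hKn.conj_mem k hk g⁻¹
        rwa [inv_inv] at this
      have h2 : g⁻¹ * k * g ∈ K ⊓ H := ⟨h1, hg⟩
      rw [hdisj, Subgroup.mem_bot] at h2
      apply hk1
      have : k = g * (g⁻¹ * k * g) * g⁻¹ := by group
      rw [this, h2]
      group
  have hc1 : Nat.card (Cfsg.frobeniusKernel H) = H.index := card_frobeniusKernel hF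
  have hc2 : H.index = Nat.card K := hH.index_eq_card
  apply Set.eq_of_subset_of_ncard_le hsub _ (Set.toFinite _)
  rw [← Nat.card_coe_set_eq, ← Nat.card_coe_set_eq, hc1, hc2]
  exact le_of_eq rfl

end Cfsg.Agent.Lib.Helper7.RCM
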