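import Mathlib
import Cfsg.Agent.Lib.Helper7.CM1
import Cfsg.Agent.Lib.Helper7.CM2
import Cfsg.Agent.Lib.Helper7.RCM1

set_option autoImplicit false

/-! Relative CM-groups, case A: `N / Z(N)` is a `p`-group. -/

namespace Cfsg.Agent.Lib.Helper7.RCM

open Cfsg.Agent.Lib.Helper7.CM
open scoped commutatorElement

variable {G : Type*} [Group G]

/-- normal closure of a conjugation invariant set is its closure -/
theorem normalClosure_eq_closure {S : Set G} (hS : ∀ g : G, ∀ s ∈ S, g * s * g⁻¹ ∈ S) :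
    Subgroup.normalClosure S = Subgroup.closure S := by
  unfold Subgroup.normalClosure
  congr 1
  apply Set.Subset.antisymm
  · intro x hx
    rw [Group.mem_conjugatesOfSet_iff] at hx
    obtain ⟨a, ha, hax⟩ := hx
    obtain ⟨c, hc⟩ := isConj_iff.mp hax
    rw [← hc]
    exact hS c a ha
  · exact Group.subset_conjugatesOfSet

theorem caseA [Finite G] {N : Subgroup G} [hN : N.Normal] (h : IsRCM N) {p : ℕ} [hp : Fact p.Prime]
    (hpN : ∀ x ∈ N, ∃ k : ℕ, x ^ (p ^ k) ∈ ZN N) :
    ∀ x ∈ N, x ^ p ∈ ZN N ∧ ∀ y ∈ N, ⁅x, y⁆ ∈ ZN N := by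
  classical
  set Z := ZN N with hZdef
  set S : Set G := {g | (∃ x ∈ N, g = x ^ p) ∨ (∃ x ∈ N, ∃ y ∈ N, g = ⁅x, y⁆)} with hSdef
  have hSN : S ⊆ N := by
    rintro g (⟨x, hx, rfl⟩ | ⟨x, hx, y, hy, rfl⟩)
    · exact N.pow_mem hx p
    · rw [commutatorElement_def]
      exact N.mul_mem (N.mul_mem (N.mul_mem hx hy) (N.inv_mem hx)) (N.inv_mem hy)
  have hSconj : ∀ g : G, ∀ s ∈ S, g * s * g⁻¹ ∈ S := by
    rintro g s (⟨x, hx, rfl⟩ | ⟨x, hx, y, hy, rfl⟩)
    · left
      exact ⟨g * x * g⁻¹, hN.conj_mem x hx g, by rw [conj_pow]⟩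
    · right
      refine ⟨g * x * g⁻¹, hN.conj_mem x hx g, g * y * g⁻¹, hN.conj_mem y hy g, ?_⟩
      rw [commutatorElement_def, commutatorElement_def]; group
  set Φ := Subgroup.normalClosure S with hΦdef
  have hΦcl : Φ = Subgroup.closure S := normalClosure_eq_closure hSconj
  have hΦN : Φ ≤ N := Subgroup.normalClosure_le_normal hSN
  have key : ∀ u ∈ N, Φ ≤ Cen u := by
    intro u huN
    by_cases hu : u ∈ Z
    · exact hΦN.trans (fun n hn => mem_Cen.mpr (comm_of_mem_ZN hu hn))
    · rcases split_normal h huN hu Φ hΦN with h1 | h1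
      · exact h1
      · exfalso
        set π := QuotientGroup.mk' (Z.subgroupOf N) with hπ
        have hπsurj : Function.Surjective π := QuotientGroup.mk'_surjective _
        have hπ1 : ∀ n : N, π n = 1 ↔ (n : G) ∈ Z := by
          intro n
          rw [hπ, QuotientGroup.mk'_apply, QuotientGroup.eq_one_iff, Subgroup.mem_subgroupOf]
        have hQ : IsPGroup p (↥N ⧸ Z.subgroupOf N) := by
          intro q
          obtain ⟨n, rfl⟩ := hπsurj q
          obtain ⟨k, hk⟩ := hpN n n.2
          refine ⟨k, ?_⟩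
          rw [← map_pow, hπ1]
          exact hk
        set Cb := ((Cen u).subgroupOf N).map π with hCb
        have hCbne : Cb ≠ ⊤ := by
          intro h0
          apply N_not_le_Cen huN hu
          intro n hn
          have h2 : π ⟨n, hn⟩ ∈ Cb := by rw [h0]; exact Subgroup.mem_top _
          obtain ⟨c, hc, hcn⟩ := h2
          have h3 : π (c⁻¹ * ⟨n, hn⟩) = 1 := by rw [map_mul, map_inv, hcn, inv_mul_cancel]
          rw [hπ1] at h3
          have h4 : (c : G)⁻¹ * n ∈ Cen u := ZN_le_Cen huN h3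
          have h5 : (c : G) ∈ Cen u := hc
          have : n = (c : G) * ((c : G)⁻¹ * n) := by group
          rw [this]
          exact (Cen u).mul_mem h5 h4
        obtain ⟨Mb, hMb, hCM⟩ := (eq_top_or_exists_le_coatom Cb).resolve_left hCbne
        haveI hQnil : Group.IsNilpotent (↥N ⧸ Z.subgroupOf N) := hQ.isNilpotent
        haveI hMn : Mb.Normal :=
          Subgroup.NormalizerCondition.normal_of_coatom Mb normalizerCondition_of_isNilpotent hMb
        have hidx : Mb.index.Prime := index_prime_of_normal_coatom hMb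
        have hQM : IsPGroup p ((↥N ⧸ Z.subgroupOf N) ⧸ Mb) := hQ.to_quotient Mb
        have hidxp : Mb.index = p := by
          obtain ⟨k, hk⟩ := (IsPGroup.iff_card.mp hQM)
          have h2 : Mb.index = p ^ k := hk
          rw [h2] at hidx
          have hk0 : k ≠ 0 := by
            rintro rfl
            rw [pow_zero] at hidx
            exact Nat.not_prime_one hidx
          have hdvd : p ∣ p ^ k := dvd_pow_self p hk0
          rw [h2]
          exact ((Nat.prime_dvd_prime_iff_eq hp.out hidx).mp hdvd).symm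
        have hpow : ∀ a : ↥N ⧸ Z.subgroupOf N, a ^ p ∈ Mb := by
          intro a
          rw [← QuotientGroup.eq_one_iff, QuotientGroup.mk_pow]
          have : Nat.card ((↥N ⧸ Z.subgroupOf N) ⧸ Mb) = p := hidxp
          rw [← this]
          exact pow_card_eq_one'
        have hcomm : ∀ a b : ↥N ⧸ Z.subgroupOf N, ⁅a, b⁆ ∈ Mb :=
          fun a b => commutator_mem_of_normal_coatom hMb a b
        -- everything in N maps into Mb
        have hΦM : ∀ g (hg : g ∈ Φ), π ⟨g, hΦN hg⟩ ∈ Mb := by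
          have : Φ ≤ (Mb.comap π).map N.subtype := by
            rw [hΦcl, Subgroup.closure_le]
            rintro g (⟨x, hx, rfl⟩ | ⟨x, hx, y, hy, rfl⟩)
            · refine ⟨(⟨x, hx⟩ : ↥N) ^ p, ?_, rfl⟩
              rw [SetLike.mem_coe, Subgroup.mem_comap, map_pow]
              exact hpow _
            · refine ⟨⁅(⟨x, hx⟩ : ↥N), (⟨y, hy⟩ : ↥N)⁆, ?_, rfl⟩
              rw [SetLike.mem_coe, Subgroup.mem_comap, map_commutatorElement]
              exact hcomm _ _
          intro g hg
          obtain ⟨g', hg', hgg⟩ := this hg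
          have : g' = ⟨g, hΦN hg⟩ := Subtype.ext hgg
          rw [← this]
          exact hg'
        apply hMb.1
        rw [eq_top_iff]
        intro q _
        obtain ⟨n, rfl⟩ := hπsurj q
        obtain ⟨l, hl, c, hc, hn⟩ := h1 n n.2
        have h2 : n = ⟨l, hΦN hl⟩ * ⟨c, hc.1⟩ := Subtype.ext hn
        rw [h2, map_mul]
        apply Mb.mul_mem (hΦM l hl)
        apply hCM
        exact ⟨⟨c, hc.1⟩, hc.2, rfl⟩
  have hΦZ : Φ ≤ Z := by
    intro g hg
    rw [hZdef, mem_ZN]
    refine ⟨hΦN hg, fun n hn => ?_⟩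
    exact (mem_Cen.mp (key n hn hg)).symm
  have hSΦ : S ⊆ Φ := fun s hs => Subgroup.subset_normalClosure hs
  intro x hx
  refine ⟨hΦZ (hSΦ (Or.inl ⟨x, hx, rfl⟩)), fun y hy => hΦZ (hSΦ (Or.inr ⟨x, hx, y, hy, rfl⟩))⟩

end Cfsg.Agent.Lib.Helper7.RCM
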