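import Mathlib
import Cfsg.Agent.Lib.Helper7.CM1
import Cfsg.Agent.Lib.Helper7.CM2
import Cfsg.Agent.Lib.Helper7.RCM1
import Cfsg.Agent.Lib.Helper7.RCM2

set_option autoImplicit false

/-! Relative CM-groups: utilities and the second centre in case B. -/

namespace Cfsg.Agent.Lib.Helper7.RCM

open Cfsg.Agent.Lib.Helper7.CM
open scoped commutatorElement

variable {G : Type*} [Group G]

/-- case B: `N / Z(N)` is not a group of prime power order -/
def CaseB (N : Subgroup G) : Prop :=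
  ∀ p : ℕ, p.Prime → ∃ x ∈ N, ∀ k : ℕ, x ^ (p ^ k) ∉ ZN N

theorem commutator_pow_left {a b : G} (h : ⁅a, b⁆ * a = a * ⁅a, b⁆) (k : ℕ) :
    ⁅a ^ k, b⁆ = ⁅a, b⁆ ^ k := by
  set c := ⁅a, b⁆ with hc
  have hca : Commute c a := h
  induction k with
  | zero => simp
  | succ k ih =>
    have hk : Commute c (a ^ k) := hca.pow_right k
    have e : ⁅a ^ k * a, b⁆ = a ^ k * c * (a ^ k)⁻¹ * ⁅a ^ k, b⁆ := by
      rw [hc]
      simp only [commutatorElement_def]
      group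
    rw [pow_succ, e, ← hk.eq, mul_inv_cancel_right, ih, ← pow_succ']

theorem commutator_pow_right {a b : G} (h : ⁅a, b⁆ * b = b * ⁅a, b⁆) (k : ℕ) :
    ⁅a, b ^ k⁆ = ⁅a, b⁆ ^ k := by
  have h1 : ⁅b, a⁆ * b = b * ⁅b, a⁆ := by
    rw [← commutatorElement_inv a b]
    have : Commute (⁅a, b⁆) b := h
    exact this.inv_left.eq
  have h2 := commutator_pow_left h1 k
  rw [← commutatorElement_inv (b ^ k) a, h2, ← commutatorElement_inv a b, inv_pow, inv_inv]

theorem mem_of_pow_mem_of_coprime [Finite G] (K : Subgroup G) {w : G} {m : ℕ}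
    (hco : (orderOf w).Coprime m) (h : w ^ m ∈ K) : w ∈ K := by
  obtain ⟨t, ht⟩ := exists_pow_eq_self_of_coprime (x := w) hco.symm
  rw [← ht]
  exact K.pow_mem h t

/-- a power of `x` outside a subgroup `K` of prime power order -/
theorem exists_primary_pow_gen [Finite G] (K : Subgroup G) :
    ∀ (n : ℕ) (x : G), orderOf x = n → x ∉ K →
      ∃ (p : ℕ) (k : ℕ), p.Prime ∧ x ^ k ∉ K ∧ ∃ j : ℕ, (x ^ k) ^ (p ^ j) = 1 := by
  intro n
  induction n using Nat.strong_induction_on with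
  | _ n ih =>
    intro x hxn hx
    have hx1 : x ≠ 1 := by
      rintro rfl
      exact hx K.one_mem
    have hn1 : orderOf x ≠ 1 := fun h => hx1 (orderOf_eq_one_iff.mp h)
    obtain ⟨p, hp, hpd⟩ := Nat.exists_prime_and_dvd hn1
    haveI : Fact p.Prime := ⟨hp⟩
    obtain ⟨u, v, huv, hu, hv, ⟨j, hj⟩, hcop⟩ := Cfsg.Agent.Lib.Lead.exists_ppart_decomp' p x
    rw [← mem_powers_iff_mem_zpowers] at hu hv
    obtain ⟨a, rfl⟩ := hu
    obtain ⟨b, rfl⟩ := hv
    by_cases hua : x ^ a ∈ K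
    · have hvb : x ^ b ∉ K := by
        intro h0
        apply hx
        rw [huv]
        exact K.mul_mem hua h0
      have hlt : orderOf (x ^ b) < n := by
        rw [← hxn]
        apply lt_of_le_of_ne (Nat.le_of_dvd (orderOf_pos x) (orderOf_pow_dvd b))
        intro h0
        rw [h0] at hcop
        exact hp.one_lt.ne' (Nat.eq_one_of_dvd_coprimes hcop hpd dvd_rfl |>.symm ▸ rfl)
      obtain ⟨q, k, hq, hk, j', hj'⟩ := ih _ hlt (x ^ b) rfl hvb
      refine ⟨q, b * k, hq, ?_, j', ?_⟩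
      · rw [pow_mul]; exact hk
      · rw [pow_mul]; exact hj'
    · exact ⟨p, a, hp, hua, j, hj⟩

theorem exists_primary_pow_of_not_mem [Finite G] (K : Subgroup G) {x : G} (hx : x ∉ K) :
    ∃ (p : ℕ) (k : ℕ), p.Prime ∧ x ^ k ∉ K ∧ ∃ j : ℕ, (x ^ k) ^ (p ^ j) = 1 :=
  exists_primary_pow_gen K _ x rfl hx

/-- if no `p`-power power of `x` lies in `K` then the `p'`-part of `x` is outside `K` -/
theorem exists_pprime_pow [Finite G] (K : Subgroup G) (p : ℕ) [hp : Fact p.Prime] {x : G}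
    (hx : ∀ k : ℕ, x ^ (p ^ k) ∉ K) :
    ∃ b : ℕ, (orderOf (x ^ b)).Coprime p ∧ x ^ b ∉ K := by
  obtain ⟨u, v, huv, hu, hv, ⟨j, hj⟩, hcop⟩ := Cfsg.Agent.Lib.Lead.exists_ppart_decomp' p x
  rw [← mem_powers_iff_mem_zpowers] at hu hv
  obtain ⟨a, rfl⟩ := hu
  obtain ⟨b, rfl⟩ := hv
  refine ⟨b, hcop, fun hb => hx j ?_⟩
  have hc : Commute (x ^ a) (x ^ b) := (Commute.refl x).pow_pow a b
  have : x ^ (p ^ j) = (x ^ b) ^ (p ^ j) := by
    conv_lhs => rw [huv]
    rw [hc.mul_pow, hj, one_mul]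
  rw [this]
  exact K.pow_mem hb _

/-- if the `p'`-part of `x` lies in `K` but `x` does not, the `p`-part of `x` is outside `K` -/
theorem exists_ppart_not_mem [Finite G] (K : Subgroup G) (p : ℕ) [hp : Fact p.Prime] {x : G}
    (hx : x ∉ K) (hv : ∀ b : ℕ, (orderOf (x ^ b)).Coprime p → x ^ b ∈ K) :
    ∃ a : ℕ, x ^ a ∉ K ∧ ∃ k : ℕ, (x ^ a) ^ (p ^ k) = 1 := by
  obtain ⟨u, v, huv, hu, hv', ⟨j, hj⟩, hcop⟩ := Cfsg.Agent.Lib.Lead.exists_ppart_decomp' p x
  rw [← mem_powers_iff_mem_zpowers] at hu hv'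
  obtain ⟨a, rfl⟩ := hu
  obtain ⟨b, rfl⟩ := hv'
  refine ⟨a, fun ha => hx ?_, j, hj⟩
  rw [huv]
  exact K.mul_mem ha (hv b hcop)

/-- order of an element killed by `p ^ j` is coprime to any number coprime to `p` -/
theorem coprime_of_pow_eq_one {p j m : ℕ} {y : G} (hy : y ^ (p ^ j) = 1) (hm : m.Coprime p) :
    (orderOf y).Coprime m := by
  have h1 : orderOf y ∣ p ^ j := orderOf_dvd_of_pow_eq_one hy
  exact Nat.Coprime.coprime_dvd_left h1 (Nat.Coprime.pow_left j hm.symm)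

end Cfsg.Agent.Lib.Helper7.RCM
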