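import Mathlib
import Cfsg.Agent.Lib.Helper7.CM1
import Cfsg.Agent.Lib.Helper7.CM2
import Cfsg.Agent.Lib.Helper7.RCM1
import Cfsg.Agent.Lib.Helper7.RCM2
import Cfsg.Agent.Lib.Helper7.RCM3

set_option autoImplicit false

/-! Relative CM-groups, case B: the second centre of `N` is `Z(N)`. -/

namespace Cfsg.Agent.Lib.Helper7.RCM

open Cfsg.Agent.Lib.Helper7.CM
open scoped commutatorElement

variable {G : Type*} [Group G]

theorem orderOf_conj' (g s : G) : orderOf (g * s * g⁻¹) = orderOf s := by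
  have := orderOf_injective (MulAut.conj g).toMonoidHom (MulAut.conj g).injective s
  simpa using this

theorem Z2_aux [Finite G] {N : Subgroup G} [hN : N.Normal] (h : IsRCM N) (hB : CaseB N)
    {r : ℕ} [hr : Fact r.Prime] {y : G} (hyN : y ∈ N) (hyZ : y ∉ ZN N) {j : ℕ}
    (hj : y ^ (r ^ j) = 1) (hy : ∀ n ∈ N, ⁅y, n⁆ ∈ ZN N) : False := by
  classical
  have hpow : ∀ n ∈ N, n ^ (r ^ j) ∈ Cen y := by
    intro n hn
    rw [mem_Cen]
    have hc := hy n hn
    have h1 : ⁅y, n⁆ * n = n * ⁅y, n⁆ := (comm_of_mem_ZN hc hn).symm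
    have h2 : ⁅y, n⁆ * y = y * ⁅y, n⁆ := (comm_of_mem_ZN hc hyN).symm
    have h3 := commutator_pow_right h1 (r ^ j)
    have h4 := commutator_pow_left h2 (r ^ j)
    rw [hj, commutatorElement_one_left] at h4
    rw [← h4] at h3
    exact (commutatorElement_eq_one_iff_commute.mp h3).eq.symm
  have hrp : ∀ n ∈ N, (orderOf n).Coprime r → n ∈ Cen y := fun n hn hco =>
    mem_of_pow_mem_of_coprime (Cen y) (hco.pow_right j) (hpow n hn)
  have hCen : ∀ s ∈ N, s ∉ ZN N → (orderOf s).Coprime r → Cen s = Cen y := by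
    intro s hs hsZ hco
    apply Cen_eq_of_commute_coprime h hs hsZ hyN hyZ
    · exact mem_Cen.mp (hrp s hs hco)
    · exact (coprime_of_pow_eq_one hj hco).symm
  set S : Set G := {n | n ∈ N ∧ (orderOf n).Coprime r} with hS
  have hScomm : ∀ a ∈ S, ∀ b ∈ S, a * b = b * a := by
    rintro a ⟨haN, hao⟩ b ⟨hbN, hbo⟩
    by_cases hbZ : b ∈ ZN N
    · exact comm_of_mem_ZN hbZ haN
    · have h1 := hCen b hbN hbZ hbo
      have ha : a ∈ Cen b := by rw [h1]; exact hrp a haN hao
      exact mem_Cen.mp ha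
  set H := Subgroup.closure S with hH
  have hHab : IsMulCommutative H := Subgroup.isMulCommutative_closure hScomm
  have hSconj : ∀ g : G, ∀ s ∈ S, g * s * g⁻¹ ∈ S := by
    rintro g s ⟨hsN, hso⟩
    exact ⟨hN.conj_mem s hsN g, by rw [orderOf_conj']; exact hso⟩
  haveI hHn : H.Normal := by
    rw [hH, ← normalClosure_eq_closure hSconj]
    exact Subgroup.normalClosure_normal
  have hHN : H ≤ N := (Subgroup.closure_le N).mpr (fun s hs => hs.1)
  have hHy : H ≤ Cen y := (Subgroup.closure_le (Cen y)).mpr (fun s hs => hrp s hs.1 hs.2)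
  have hHo : ∀ x ∈ H, (orderOf x).Coprime r := by
    intro x hx
    induction hx using Subgroup.closure_induction with
    | mem s hs => exact hs.2
    | one => simp
    | mul a b ha hb iha ihb =>
      have hab : Commute a b := by
        have := hHab.is_comm.comm ⟨a, ha⟩ ⟨b, hb⟩
        exact congrArg Subtype.val this
      exact Nat.Coprime.coprime_dvd_left hab.orderOf_mul_dvd_mul_orderOf
        (Nat.Coprime.mul_left iha ihb)
    | inv a ha iha => rw [orderOf_inv]; exact iha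
  obtain ⟨x₀, hx₀N, hx₀⟩ := hB r hr.out
  obtain ⟨b, hbo, hbZ⟩ := exists_pprime_pow (ZN N) r hx₀
  set v := x₀ ^ b with hv
  have hvN : v ∈ N := N.pow_mem hx₀N b
  have hvS : v ∈ S := ⟨hvN, hbo⟩
  have hCv : Cen v = Cen y := hCen v hvN hbZ hbo
  obtain ⟨g, hgN, hgy⟩ := exists_not_commute hyN hyZ
  have hgC : g ∉ Cen y := fun h0 => hgy (mem_Cen.mp h0)
  obtain ⟨a, hua, k', huk⟩ := exists_ppart_not_mem (Cen y) r hgC
    (fun b hb => hrp (g ^ b) (N.pow_mem hgN b) hb)
  set u := g ^ a with hu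
  have huN : u ∈ N := N.pow_mem hgN a
  have huZ : u ∉ ZN N := fun h0 => hua (ZN_le_Cen hyN h0)
  rcases split_normal h huN huZ H hHN with h1 | h1
  · have h2 : v ∈ Cen u := h1 (Subgroup.subset_closure hvS)
    apply hua
    rw [← hCv, mem_Cen]
    exact (mem_Cen.mp h2).symm
  · obtain ⟨hh, hhH, c, hc, hyc⟩ := h1 y hyN
    have hhy : hh * y = y * hh := mem_Cen.mp (hHy hhH)
    have hho := hHo hh hhH
    have hc_eq : c = hh⁻¹ * y := by rw [hyc]; group
    have hcomm : Commute hh⁻¹ y := Commute.inv_left hhy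
    have hct : c ^ (orderOf hh) = y ^ (orderOf hh) := by
      rw [hc_eq, hcomm.mul_pow, inv_pow, pow_orderOf_eq_one, inv_one, one_mul]
    have hyt : (orderOf y).Coprime (orderOf hh) := coprime_of_pow_eq_one hj hho
    obtain ⟨e, he⟩ := exists_pow_eq_self_of_coprime (x := y) hyt.symm
    have huc : Commute u c := (mem_Cen.mp hc.2).symm
    apply hua
    rw [mem_Cen, ← he, ← hct]
    exact ((huc.pow_right _).pow_right _).eq

/-- in case B the second centre of `N` is the centre -/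
theorem Z2_eq [Finite G] {N : Subgroup G} [hN : N.Normal] (h : IsRCM N) (hB : CaseB N)
    {y : G} (hyN : y ∈ N) (hy : ∀ n ∈ N, ⁅y, n⁆ ∈ ZN N) : y ∈ ZN N := by
  by_contra hyZ
  obtain ⟨r, k, hr, hyk, j, hj⟩ := exists_primary_pow' hyN hyZ
  haveI : Fact r.Prime := ⟨hr⟩
  refine Z2_aux h hB (N.pow_mem hyN k) hyk hj ?_
  intro n hn
  have hc : ⁅y, n⁆ * y = y * ⁅y, n⁆ := (comm_of_mem_ZN (hy n hn) hyN).symm
  rw [commutator_pow_left hc k]
  exact (ZN N).pow_mem (hy n hn) k

end Cfsg.Agent.Lib.Helper7.RCM
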