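import Mathlib
import Cfsg.Agent.Lib.Helper7.CM1
import Cfsg.Agent.Lib.Helper7.CM2
import Cfsg.Agent.Lib.Helper7.RCM1
import Cfsg.Agent.Lib.Helper7.RCM2
import Cfsg.Agent.Lib.Helper7.RCM3
import Cfsg.Agent.Lib.Helper7.RCM4

set_option autoImplicit false

/-! Relative CM-groups, case B: a chief factor `L / Z(N)`; the abelian case, first part. -/

namespace Cfsg.Agent.Lib.Helper7.RCM

open Cfsg.Agent.Lib.Helper7.CM
open scoped commutatorElement

variable {G : Type*} [Group G]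

/-- `L` is a minimal `G`-normal subgroup of `N` strictly above `Z(N)` -/
structure IsChief (N L : Subgroup G) : Prop where
  normal : L.Normal
  lt : ZN N < L
  le : L ≤ N
  min : ∀ W : Subgroup G, W.Normal → ZN N ≤ W → W ≤ L → W = ZN N ∨ W = L

theorem exists_isChief [Finite G] {N : Subgroup G} [hN : N.Normal] (hB : CaseB N) :
    ∃ L : Subgroup G, IsChief N L := by
  classical
  set 𝒮 : Set (Subgroup G) := {W | W.Normal ∧ ZN N < W ∧ W ≤ N} with h𝒮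
  have hne : 𝒮.Nonempty := by
    refine ⟨N, hN, lt_of_le_of_ne (ZN_le N) ?_, le_rfl⟩
    intro h0
    obtain ⟨x, hxN, hx⟩ := hB 2 Nat.prime_two
    have := hx 0
    rw [pow_zero, pow_one, h0] at this
    exact this hxN
  obtain ⟨L, hL, hmin⟩ := wellFounded_lt.has_min 𝒮 hne
  refine ⟨L, hL.1, hL.2.1, hL.2.2, ?_⟩
  intro W hWn hZW hWL
  by_cases hWZ : W = ZN N
  · exact Or.inl hWZ
  · right
    have hlt : ZN N < W := lt_of_le_of_ne hZW (Ne.symm hWZ)
    have hW : W ∈ 𝒮 := ⟨hWn, hlt, hWL.trans hL.2.2⟩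
    have := hmin W hW
    rcases eq_or_lt_of_le hWL with h1 | h1
    · exact h1
    · exact absurd h1 this

theorem commutator_mul_right_of_commute {a l c : G} (hc : c * a = a * c) : ⁅a, l * c⁆ = ⁅a, l⁆ := by
  have h1 : c * a⁻¹ = a⁻¹ * c := by
    have : Commute c a := hc
    exact this.inv_right.eq
  rw [commutatorElement_def, commutatorElement_def]
  calc a * (l * c) * a⁻¹ * (l * c)⁻¹ = a * l * (c * a⁻¹) * c⁻¹ * l⁻¹ := by group
    _ = a * l * (a⁻¹ * c) * c⁻¹ * l⁻¹ := by rw [h1]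
    _ = a * l * a⁻¹ * l⁻¹ := by group

/-- (a1) if `L' ≤ Z(N)` then `L` is abelian -/
theorem L_comm [Finite G] {N L : Subgroup G} [hN : N.Normal] (h : IsRCM N) (hB : CaseB N)
    (hL : IsChief N L) (hcomm : ∀ a ∈ L, ∀ b ∈ L, ⁅a, b⁆ ∈ ZN N) :
    ∀ a ∈ L, ∀ b ∈ L, a * b = b * a := by
  intro a ha b hb
  by_contra hne
  haveI := hL.normal
  have haN := hL.le ha
  have haZ : a ∉ ZN N := fun h0 => hne (comm_of_mem_ZN h0 (hL.le hb)).symm
  rcases split_normal h haN haZ L hL.le with h1 | h1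
  · exact hne (mem_Cen.mp (h1 hb)).symm
  · apply haZ
    apply Z2_eq h hB haN
    intro n hn
    obtain ⟨l, hl, c, hc, rfl⟩ := h1 n hn
    rw [commutator_mul_right_of_commute (mem_Cen.mp hc.2)]
    exact hcomm a ha l hl

/-- (a2) `L / Z(N)` has prime exponent -/
theorem exists_exp [Finite G] {N L : Subgroup G} [hN : N.Normal]
    (hL : IsChief N L) (hab : ∀ a ∈ L, ∀ b ∈ L, a * b = b * a) :
    ∃ r : ℕ, r.Prime ∧ ∀ x ∈ L, x ^ r ∈ ZN N := by
  classical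
  haveI := hL.normal
  obtain ⟨x₁, hx₁L, hx₁Z⟩ := SetLike.exists_of_lt hL.lt
  obtain ⟨r, k, hr, hx₂Z, j, hj⟩ := exists_primary_pow' (hL.le hx₁L) hx₁Z
  set x₂ := x₁ ^ k with hx₂
  have hx₂L : x₂ ∈ L := L.pow_mem hx₁L k
  have hex : ∃ i : ℕ, x₂ ^ (r ^ i) ∈ ZN N := ⟨j, by rw [hj]; exact one_mem _⟩
  have hi0 : Nat.find hex ≠ 0 := by
    intro h0
    have := Nat.find_spec hex
    rw [h0, pow_zero, pow_one] at this
    exact hx₂Z this
  obtain ⟨i', hi'⟩ : ∃ i', Nat.find hex = i' + 1 := ⟨Nat.find hex - 1, by omega⟩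
  have hx₃Z : x₂ ^ (r ^ i') ∉ ZN N := Nat.find_min hex (by omega)
  have hx₃r : (x₂ ^ (r ^ i')) ^ r ∈ ZN N := by
    have := Nat.find_spec hex
    rw [hi', pow_succ, pow_mul] at this
    exact this
  let Lr : Subgroup G :=
    { carrier := {x | x ∈ L ∧ x ^ r ∈ ZN N}
      mul_mem' := by
        rintro a b ⟨ha, har⟩ ⟨hb, hbr⟩
        refine ⟨L.mul_mem ha hb, ?_⟩
        have hc : Commute a b := hab a ha b hb
        rw [hc.mul_pow]
        exact (ZN N).mul_mem har hbr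
      one_mem' := ⟨L.one_mem, by rw [one_pow]; exact one_mem _⟩
      inv_mem' := by
        rintro a ⟨ha, har⟩
        refine ⟨L.inv_mem ha, ?_⟩
        rw [inv_pow]
        exact (ZN N).inv_mem har }
  have hLrn : Lr.Normal := by
    refine ⟨fun x hx g => ?_⟩
    obtain ⟨hxL, hxr⟩ := hx
    refine ⟨hL.normal.conj_mem x hxL g, ?_⟩
    rw [conj_pow]
    exact (ZN_normal N).conj_mem _ hxr g
  have hZLr : ZN N ≤ Lr := fun z hz => ⟨hL.lt.le hz, (ZN N).pow_mem hz r⟩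
  have hLrL : Lr ≤ L := fun x hx => hx.1
  refine ⟨r, hr, ?_⟩
  rcases hL.min Lr hLrn hZLr hLrL with h1 | h1
  · exfalso
    apply hx₃Z
    rw [← h1]
    exact ⟨L.pow_mem hx₂L _, hx₃r⟩
  · intro x hx
    have : x ∈ Lr := by rw [h1]; exact hx
    exact this.2

/-- the abelian case data -/
structure IsAb (N L : Subgroup G) (r : ℕ) : Prop where
  chief : IsChief N L
  comm : ∀ a ∈ L, ∀ b ∈ L, a * b = b * a
  exp : ∀ x ∈ L, x ^ r ∈ ZN N

/-- `C_N(L)` -/
def CL (N L : Subgroup G) : Subgroup G := N ⊓ Subgroup.centralizer (L : Set G)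

theorem mem_CL {N L : Subgroup G} {g : G} : g ∈ CL N L ↔ g ∈ N ∧ ∀ l ∈ L, l * g = g * l := by
  unfold CL
  rw [Subgroup.mem_inf, Subgroup.mem_centralizer_iff]
  rfl

theorem ZN_le_CL {N L : Subgroup G} (hLN : L ≤ N) : ZN N ≤ CL N L := by
  intro z hz
  rw [mem_CL]
  exact ⟨ZN_le N hz, fun l hl => comm_of_mem_ZN hz (hLN hl)⟩

theorem L_le_CL {N L : Subgroup G} {r : ℕ} (hA : IsAb N L r) : L ≤ CL N L := by
  intro x hx
  rw [mem_CL]
  exact ⟨hA.chief.le hx, fun l hl => hA.comm l hl x hx⟩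

theorem mem_CL_of_le_Cen {N L : Subgroup G} {y : G} (hyN : y ∈ N) (h : L ≤ Cen y) :
    y ∈ CL N L := by
  rw [mem_CL]
  exact ⟨hyN, fun l hl => mem_Cen.mp (h hl)⟩

theorem exists_r_elem [Finite G] {N L : Subgroup G} {r : ℕ} [hr : Fact r.Prime] (hA : IsAb N L r) :
    ∃ u ∈ L, u ∉ ZN N ∧ ∃ k : ℕ, u ^ (r ^ k) = 1 := by
  obtain ⟨x₁, hx₁L, hx₁Z⟩ := SetLike.exists_of_lt hA.chief.lt
  obtain ⟨a, hua, k, huk⟩ := exists_ppart_not_mem (ZN N) r hx₁Z (fun b hb => by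
    apply mem_of_pow_mem_of_coprime (ZN N) hb
    rw [← pow_mul, mul_comm, pow_mul]
    exact (ZN N).pow_mem (hA.exp x₁ hx₁L) b)
  exact ⟨x₁ ^ a, L.pow_mem hx₁L a, hua, k, huk⟩

theorem coprime_orderOf_of_pow {p q i j : ℕ} (hp : p.Prime) (hq : q.Prime) (hpq : p ≠ q) {u y : G}
    (hu : u ^ (p ^ i) = 1) (hy : y ^ (q ^ j) = 1) : (orderOf u).Coprime (orderOf y) := by
  have h1 : orderOf u ∣ p ^ i := orderOf_dvd_of_pow_eq_one hu
  have h2 : orderOf y ∣ q ^ j := orderOf_dvd_of_pow_eq_one hy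
  have h3 : (p ^ i).Coprime (q ^ j) := Nat.Coprime.pow i j ((Nat.coprime_primes hp hq).mpr hpq)
  exact Nat.Coprime.coprime_dvd_left h1 (Nat.Coprime.coprime_dvd_right h2 h3)

/-- (a4) a `q`-element of `N` outside `C_N(L)`, `q ≠ r`, acts fixed point freely on `L / Z(N)` -/
theorem fpf_of_q [Finite G] {N L : Subgroup G} {r : ℕ} [hr : Fact r.Prime] (h : IsRCM N)
    (hA : IsAb N L r) {q : ℕ} (hq : q.Prime) (hqr : q ≠ r) {y : G} (hyN : y ∈ N)
    (hyC : y ∉ CL N L) {j : ℕ} (hj : y ^ (q ^ j) = 1) {x : G} (hxL : x ∈ L)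
    (hx : ⁅x, y⁆ ∈ ZN N) : x ∈ ZN N := by
  by_contra hxZ
  have hxN := hA.chief.le hxL
  have hcx : ⁅x, y⁆ * x = x * ⁅x, y⁆ := (comm_of_mem_ZN hx hxN).symm
  have hcy : ⁅x, y⁆ * y = y * ⁅x, y⁆ := (comm_of_mem_ZN hx hyN).symm
  have h1 := commutator_pow_left hcx r
  have h2 : ⁅x ^ r, y⁆ = 1 := by
    rw [commutatorElement_eq_one_iff_commute]
    exact (comm_of_mem_ZN (hA.exp x hxL) hyN).symm
  have h3 : ⁅x, y⁆ ^ r = 1 := by rw [← h1, h2]
  have h4 := commutator_pow_right hcy (q ^ j)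
  rw [hj, commutatorElement_one_right] at h4
  have hc1 : ⁅x, y⁆ = 1 := by
    rw [← orderOf_eq_one_iff]
    have hd1 : orderOf ⁅x, y⁆ ∣ r := orderOf_dvd_of_pow_eq_one h3
    have hd2 : orderOf ⁅x, y⁆ ∣ q ^ j := orderOf_dvd_of_pow_eq_one h4.symm
    have hco : Nat.Coprime r (q ^ j) :=
      Nat.Coprime.pow_right j ((Nat.coprime_primes hr.out hq).mpr hqr.symm)
    exact Nat.eq_one_of_dvd_coprimes hco hd1 hd2
  have hxy : Commute x y := commutatorElement_eq_one_iff_commute.mp hc1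
  obtain ⟨a, hua, k, huk⟩ := exists_ppart_not_mem (ZN N) r hxZ (fun b hb => by
    apply mem_of_pow_mem_of_coprime (ZN N) hb
    rw [← pow_mul, mul_comm, pow_mul]
    exact (ZN N).pow_mem (hA.exp x hxL) b)
  set u := x ^ a with hu
  have huL : u ∈ L := L.pow_mem hxL a
  have huN := hA.chief.le huL
  have huy : u * y = y * u := (hxy.pow_left a).eq
  have hyZ : y ∉ ZN N := fun h0 => hyC (ZN_le_CL hA.chief.le h0)
  have hCen := Cen_eq_of_commute_coprime h huN hua hyN hyZ huy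
    (coprime_orderOf_of_pow hr.out hq hqr.symm huk hj)
  apply hyC
  apply mem_CL_of_le_Cen hyN
  rw [← hCen]
  intro l hl
  rw [mem_Cen]
  exact hA.comm l hl u huL

end Cfsg.Agent.Lib.Helper7.RCM
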