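import Mathlib
import Cfsg.Agent.Lib.Helper7.CM1
import Cfsg.Agent.Lib.Helper7.CM2
import Cfsg.Agent.Lib.Helper7.RCM1
import Cfsg.Agent.Lib.Helper7.RCM2
import Cfsg.Agent.Lib.Helper7.RCM3
import Cfsg.Agent.Lib.Helper7.RCM4
import Cfsg.Agent.Lib.Helper7.RCM5
import Cfsg.Agent.Lib.Lead.FpfCyclic

set_option autoImplicit false

/-! Relative CM-groups, case B, abelian case: the `r`-elements of `N` centralize `L`. -/

namespace Cfsg.Agent.Lib.Helper7.RCM

open Cfsg.Agent.Lib.Helper7.CM Cfsg.Agent.Lib.Lead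
open scoped commutatorElement

variable {G : Type*} [Group G]

theorem mul_pow_normal (L : Subgroup G) [hL : L.Normal] {l : G} (hl : l ∈ L) (c : G) (m : ℕ) :
    ∃ l' ∈ L, (l * c) ^ m = l' * c ^ m := by
  induction m with
  | zero => exact ⟨1, L.one_mem, by simp⟩
  | succ m ih =>
    obtain ⟨l', hl', e⟩ := ih
    refine ⟨l' * (c ^ m * l * (c ^ m)⁻¹), L.mul_mem hl' (hL.conj_mem l hl _), ?_⟩
    rw [pow_succ, e, pow_succ]
    group

theorem commutator_mem_left {L : Subgroup G} [hL : L.Normal] {x : G} (hx : x ∈ L) (v : G) :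
    ⁅x, v⁆ ∈ L := by
  have : ⁅x, v⁆ = x * (v * x⁻¹ * v⁻¹) := by rw [commutatorElement_def]; group
  rw [this]
  exact L.mul_mem hx (hL.conj_mem _ (L.inv_mem hx) v)

theorem commutator_mul_left_of_abelian {L : Subgroup G} [hL : L.Normal]
    (hab : ∀ a ∈ L, ∀ b ∈ L, a * b = b * a) {x₁ x₂ : G} (h1 : x₁ ∈ L) (h2 : x₂ ∈ L) (v : G) :
    ⁅x₁ * x₂, v⁆ = ⁅x₁, v⁆ * ⁅x₂, v⁆ := by
  have hc2 : ⁅x₂, v⁆ ∈ L := commutator_mem_left h2 v
  have hv1 : v * x₁⁻¹ * v⁻¹ ∈ L := hL.conj_mem _ (L.inv_mem h1) v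
  have hcomm := hab _ hc2 _ hv1
  calc ⁅x₁ * x₂, v⁆ = x₁ * (⁅x₂, v⁆ * (v * x₁⁻¹ * v⁻¹)) := by
        simp only [commutatorElement_def]; group
    _ = x₁ * ((v * x₁⁻¹ * v⁻¹) * ⁅x₂, v⁆) := by rw [hcomm]
    _ = ⁅x₁, v⁆ * ⁅x₂, v⁆ := by simp only [commutatorElement_def]; group

/-- the subgroup `[L, v]` of commutators for an abelian normal subgroup `L` -/
def commSub (L : Subgroup G) [hL : L.Normal] (hab : ∀ a ∈ L, ∀ b ∈ L, a * b = b * a) (v : G) :
    Subgroup G where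
  carrier := {w | ∃ x ∈ L, w = ⁅x, v⁆}
  one_mem' := ⟨1, L.one_mem, by simp⟩
  mul_mem' := by
    rintro _ _ ⟨x₁, h1, rfl⟩ ⟨x₂, h2, rfl⟩
    exact ⟨x₁ * x₂, L.mul_mem h1 h2, (commutator_mul_left_of_abelian hab h1 h2 v).symm⟩
  inv_mem' := by
    rintro _ ⟨x, hx, rfl⟩
    refine ⟨x⁻¹, L.inv_mem hx, ?_⟩
    have h1 := commutator_mul_left_of_abelian hab hx (L.inv_mem hx) v
    rw [mul_inv_cancel, commutatorElement_one_left] at h1
    exact (eq_inv_of_mul_eq_one_right h1.symm).symm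

theorem mem_commSub {L : Subgroup G} [hL : L.Normal] {hab : ∀ a ∈ L, ∀ b ∈ L, a * b = b * a}
    {v w : G} : w ∈ commSub L hab v ↔ ∃ x ∈ L, w = ⁅x, v⁆ := Iff.rfl

theorem isPGroup_zpowers_of_pow {r j : ℕ} {y : G} (hj : y ^ (r ^ j) = 1) :
    IsPGroup r (Subgroup.zpowers y) := by
  rintro ⟨g, hg⟩
  obtain ⟨k, rfl⟩ := Subgroup.mem_zpowers_iff.mp hg
  refine ⟨j, Subtype.ext ?_⟩
  show (y ^ k) ^ (r ^ j) = 1
  rw [← zpow_natCast, ← zpow_mul, mul_comm, zpow_mul, zpow_natCast, hj, one_zpow]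

/-- (a5) every `r`-element of `N` centralizes `L` -/
theorem r_elem_mem_CL [Finite G] {N L : Subgroup G} [hN : N.Normal] {r : ℕ} [hr : Fact r.Prime]
    (h : IsRCM N) (hB : CaseB N) (hA : IsAb N L r) {y : G} (hyN : y ∈ N) {j : ℕ}
    (hj : y ^ (r ^ j) = 1) : y ∈ CL N L := by
  classical
  by_contra hyC
  haveI hLn := hA.chief.normal
  have hyZ : y ∉ ZN N := fun h0 => hyC (ZN_le_CL hA.chief.le h0)
  rcases split_normal h hyN hyZ L hA.chief.le with h1 | h1
  · exact hyC (mem_CL_of_le_Cen hyN h1)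
  · -- an `r'`-element of `C_N(y)` outside `Z(N)`
    have hv : ∃ v ∈ N ⊓ Cen y, (orderOf v).Coprime r ∧ v ∉ ZN N := by
      by_contra hno
      push Not at hno
      obtain ⟨x₀, hx₀N, hx₀⟩ := hB r hr.out
      obtain ⟨l, hl, c, hc, hx₀c⟩ := h1 x₀ hx₀N
      obtain ⟨k, hk⟩ : ∃ k : ℕ, c ^ (r ^ k) ∈ ZN N := by
        by_contra hnk
        push Not at hnk
        obtain ⟨b, hbo, hbZ⟩ := exists_pprime_pow (ZN N) r hnk
        exact hbZ (hno (c ^ b) ((N ⊓ Cen y).pow_mem hc b) hbo)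
      have hxL : x₀ ^ (r ^ k) ∈ L := by
        rw [hx₀c]
        obtain ⟨l', hl', e⟩ := mul_pow_normal L hl c (r ^ k)
        rw [e]
        exact L.mul_mem hl' (hA.chief.lt.le hk)
      apply hx₀ (k + 1)
      rw [pow_succ, pow_mul]
      exact hA.exp _ hxL
    obtain ⟨v₀, hv₀C, hv₀o, hv₀Z⟩ := hv
    obtain ⟨q, k, hq, hvZ, j', hj'⟩ := exists_primary_pow' hv₀C.1 hv₀Z
    set v := v₀ ^ k with hvdef
    have hvC : v ∈ N ⊓ Cen y := (N ⊓ Cen y).pow_mem hv₀C k
    have hvN : v ∈ N := hvC.1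
    have hqr : q ≠ r := by
      rintro rfl
      have hd : orderOf v ∣ q ^ j' := orderOf_dvd_of_pow_eq_one hj'
      have hd2 : orderOf v ∣ orderOf v₀ := orderOf_pow_dvd k
      have h1' : orderOf v = 1 := Nat.eq_one_of_dvd_coprimes (hv₀o.pow_right j') hd2 hd
      rw [orderOf_eq_one_iff] at h1'
      rw [h1'] at hvZ
      exact hvZ (one_mem _)
    have hvy : v * y = y * v := mem_Cen.mp hvC.2
    have hCen : Cen v = Cen y := Cen_eq_of_commute_coprime h hvN hvZ hyN hyZ hvy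
      (coprime_orderOf_of_pow hq hr.out hqr hj' hj)
    have hvCL : v ∉ CL N L := by
      intro h0
      apply hyC
      apply mem_CL_of_le_Cen hyN
      rw [← hCen]
      intro l hl
      rw [mem_Cen]
      exact (mem_CL.mp h0).2 l hl
    -- the subgroup `[L, v]`
    set W := commSub L hA.comm v with hW
    have hWL : W ≤ L := by
      rintro _ ⟨x, hx, rfl⟩
      exact commutator_mem_left hx v
    have hWr : ∀ w ∈ W, w ^ r = 1 := by
      rintro _ ⟨x, hx, rfl⟩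
      have hc : ⁅x, v⁆ * x = x * ⁅x, v⁆ := hA.comm _ (commutator_mem_left hx v) _ hx
      rw [← commutator_pow_left hc r, commutatorElement_eq_one_iff_commute]
      exact (comm_of_mem_ZN (hA.exp x hx) hvN).symm
    have hW1 : W ≠ ⊥ := by
      intro h0
      apply hvCL
      rw [mem_CL]
      refine ⟨hvN, fun l hl => ?_⟩
      have h2 : ⁅l, v⁆ ∈ W := ⟨l, hl, rfl⟩
      rw [h0, Subgroup.mem_bot, commutatorElement_eq_one_iff_commute] at h2
      exact h2.eq
    have hWp : IsPGroup r W := by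
      rintro ⟨w, hw⟩
      exact ⟨1, Subtype.ext (by rw [pow_one]; exact hWr w hw)⟩
    have hQp : IsPGroup r (Subgroup.zpowers y) := isPGroup_zpowers_of_pow hj
    have hQn : Subgroup.zpowers y ≤ Subgroup.normalizer (W : Set G) := by
      rw [Subgroup.zpowers_le]
      apply Subgroup.mem_normalizer_fintype
      rintro _ ⟨x, hx, rfl⟩
      refine ⟨y * x * y⁻¹, hLn.conj_mem x hx y, ?_⟩
      have hyv : y * v * y⁻¹ = v := by rw [← hvy]; group
      conv_rhs => rw [← hyv]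
      simp only [commutatorElement_def]
      group
    have hmod := card_modEq_card_inf_centralizer W (Subgroup.zpowers y) r hQp hQn
    have hrW : r ∣ Nat.card W := by
      obtain ⟨k, hk⟩ := IsPGroup.iff_card.mp hWp
      have hk0 : k ≠ 0 := by
        rintro rfl
        rw [pow_zero] at hk
        exact hW1 (Subgroup.card_eq_one.mp hk)
      rw [hk]
      exact dvd_pow_self r hk0
    have hrF : r ∣ Nat.card (W ⊓ Subgroup.centralizer (Subgroup.zpowers y : Set G) : Subgroup G) :=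
      (Nat.modEq_zero_iff_dvd.mp ((hmod.symm.trans (Nat.modEq_zero_iff_dvd.mpr hrW))))
    have hF1 : (W ⊓ Subgroup.centralizer (Subgroup.zpowers y : Set G) : Subgroup G) ≠ ⊥ := by
      intro h0
      rw [h0, Subgroup.card_bot] at hrF
      exact hr.out.one_lt.ne' (Nat.dvd_one.mp hrF)
    obtain ⟨⟨w, hwF⟩, hw1⟩ := (Subgroup.ne_bot_iff_exists_ne_one).mp hF1
    have hw1' : w ≠ 1 := fun h0 => hw1 (Subtype.ext h0)
    obtain ⟨hwW, hwc⟩ := Subgroup.mem_inf.mp hwF
    have hwy : y * w = w * y :=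
      (Subgroup.mem_centralizer_iff.mp hwc) y (Subgroup.mem_zpowers y)
    have hwL : w ∈ L := hWL hwW
    have hwv : w * v = v * w := by
      have : w ∈ Cen v := by rw [hCen, mem_Cen]; exact hwy.symm
      exact mem_Cen.mp this
    have hwZ : w ∈ ZN N := by
      apply fpf_of_q h hA hq hqr hvN hvCL hj' hwL
      rw [commutatorElement_eq_one_iff_commute.mpr hwv]
      exact one_mem _
    obtain ⟨x, hx, hxw⟩ := hwW
    have hxZ : x ∈ ZN N := by
      apply fpf_of_q h hA hq hqr hvN hvCL hj' hx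
      rw [← hxw]
      exact hwZ
    apply hw1'
    rw [hxw, commutatorElement_eq_one_iff_commute]
    exact (comm_of_mem_ZN hxZ hvN).symm

end Cfsg.Agent.Lib.Helper7.RCM
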