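import Mathlib
import Cfsg.Agent.Lib.Helper7.CM1
import Cfsg.Agent.Lib.Helper7.CM2
import Cfsg.Agent.Lib.Helper7.RCM1
import Cfsg.Agent.Lib.Helper7.RCM2
import Cfsg.Agent.Lib.Helper7.RCM3
import Cfsg.Agent.Lib.Helper7.RCM4
import Cfsg.Agent.Lib.Helper7.RCM5
import Cfsg.Agent.Lib.Helper7.RCM6

set_option autoImplicit false

/-! Relative CM-groups, case B, abelian case: the structure of `N / L`. -/

namespace Cfsg.Agent.Lib.Helper7.RCM

open Cfsg.Agent.Lib.Helper7.CM Cfsg.Agent.Lib.Lead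
open scoped commutatorElement

variable {G : Type*} [Group G]

theorem exists_not_mem_CL {N L : Subgroup G} {r : ℕ} (hA : IsAb N L r) :
    ∃ y ∈ N, y ∉ CL N L := by
  by_contra hno
  push Not at hno
  obtain ⟨x, hxL, hxZ⟩ := SetLike.exists_of_lt hA.chief.lt
  apply hxZ
  rw [mem_ZN]
  refine ⟨hA.chief.le hxL, fun n hn => ?_⟩
  exact ((mem_CL.mp (hno n hn)).2 x hxL).symm

/-- (a6) `C_N(L) = L` -/
theorem CL_eq [Finite G] {N L : Subgroup G} [hN : N.Normal] {r : ℕ} [hr : Fact r.Prime]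
    (h : IsRCM N) (hB : CaseB N) (hA : IsAb N L r) : CL N L = L := by
  apply le_antisymm _ (L_le_CL hA)
  intro c hc
  haveI hLn := hA.chief.normal
  obtain ⟨y₀, hy₀N, hy₀C⟩ := exists_not_mem_CL hA
  obtain ⟨q, k, hq, hyC, j, hj⟩ := exists_primary_pow_of_not_mem (CL N L) hy₀C
  set y := y₀ ^ k with hy
  have hyN : y ∈ N := N.pow_mem hy₀N k
  have hqr : q ≠ r := by
    rintro rfl
    exact hyC (r_elem_mem_CL h hB hA hyN hj)
  have hyZ : y ∉ ZN N := fun h0 => hyC (ZN_le_CL hA.chief.le h0)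
  rcases split_normal h hyN hyZ L hA.chief.le with h1 | h1
  · exact absurd (mem_CL_of_le_Cen hyN h1) hyC
  · obtain ⟨l, hl, c', hc', hcc'⟩ := h1 c (mem_CL.mp hc).1
    have hc'C : c' ∈ CL N L := by
      have : c' = l⁻¹ * c := by rw [hcc']; group
      rw [this]
      exact (CL N L).mul_mem ((CL N L).inv_mem (L_le_CL hA hl)) hc
    have hc'Z : c' ∈ ZN N := by
      by_contra hc'Z
      obtain ⟨s, k', hs, hck, j', hj'⟩ := exists_primary_pow' hc'.1 hc'Z
      set c'' := c' ^ k' with hc''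
      have hc''N : c'' ∈ N := N.pow_mem hc'.1 k'
      have hc''C : c'' ∈ CL N L := (CL N L).pow_mem hc'C k'
      have hc''y : c'' * y = y * c'' := mem_Cen.mp ((Cen y).pow_mem hc'.2 k')
      by_cases hsq : s = q
      · subst hsq
        obtain ⟨u, huL, huZ, ku, huk⟩ := exists_r_elem hA
        have hcu : c'' * u = u * c'' := ((mem_CL.mp hc''C).2 u huL).symm
        have hCen : Cen c'' = Cen u := Cen_eq_of_commute_coprime h hc''N hck (hA.chief.le huL) huZ
          hcu (coprime_orderOf_of_pow hs hr.out hqr hj' huk)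
        have hyu : y ∈ Cen u := by rw [← hCen, mem_Cen]; exact hc''y.symm
        apply huZ
        apply fpf_of_q h hA hs hqr hyN hyC hj huL
        rw [commutatorElement_eq_one_iff_commute.mpr (mem_Cen.mp hyu).symm]
        exact one_mem _
      · have hCen : Cen c'' = Cen y := Cen_eq_of_commute_coprime h hc''N hck hyN hyZ hc''y
          (coprime_orderOf_of_pow hs hq hsq hj' hj)
        apply hyC
        apply mem_CL_of_le_Cen hyN
        rw [← hCen]
        intro l' hl'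
        rw [mem_Cen]
        exact (mem_CL.mp hc''C).2 l' hl'
    rw [hcc']
    exact L.mul_mem hl (hA.chief.lt.le hc'Z)

/-- (F3) elements of `N` outside `L` act fixed point freely on `L / Z(N)` -/
theorem fpf_of_not_mem [Finite G] {N L : Subgroup G} [hN : N.Normal] {r : ℕ} [hr : Fact r.Prime]
    (h : IsRCM N) (hB : CaseB N) (hA : IsAb N L r) {n : G} (hnN : n ∈ N) (hnL : n ∉ L)
    {x : G} (hxL : x ∈ L) (hx : ⁅x, n⁆ ∈ ZN N) : x ∈ ZN N := by
  have hnC : n ∉ CL N L := by rw [CL_eq h hB hA]; exact hnL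
  obtain ⟨q, k, hq, hyC, j, hj⟩ := exists_primary_pow_of_not_mem (CL N L) hnC
  have hyN : n ^ k ∈ N := N.pow_mem hnN k
  have hqr : q ≠ r := by
    rintro rfl
    exact hyC (r_elem_mem_CL h hB hA hyN hj)
  apply fpf_of_q h hA hq hqr hyN hyC hj hxL
  have hc : ⁅x, n⁆ * n = n * ⁅x, n⁆ := (comm_of_mem_ZN hx hnN).symm
  rw [commutator_pow_right hc k]
  exact (ZN N).pow_mem hx k

/-- (a8) `N / L` is abelian -/
theorem comm_mem_L [Finite G] {N L : Subgroup G} [hN : N.Normal] {r : ℕ} [hr : Fact r.Prime]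
    (h : IsRCM N) (hB : CaseB N) (hA : IsAb N L r) {a b : G} (ha : a ∈ N) (hb : b ∈ N) :
    ⁅a, b⁆ ∈ L := by
  haveI hLn := hA.chief.normal
  by_cases haL : a ∈ L
  · exact commutator_mem_left haL b
  · have haZ : a ∉ ZN N := fun h0 => haL (hA.chief.lt.le h0)
    rcases split_normal h ha haZ L hA.chief.le with h1 | h1
    · exfalso
      apply haL
      rw [← CL_eq h hB hA]
      exact mem_CL_of_le_Cen ha h1
    · obtain ⟨l, hl, c, hc, rfl⟩ := h1 b hb
      rw [commutator_mul_right_of_commute (mem_Cen.mp hc.2)]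
      have : ⁅a, l⁆ = (a * l * a⁻¹) * l⁻¹ := by rw [commutatorElement_def]
      rw [this]
      exact L.mul_mem (hLn.conj_mem l hl a) (L.inv_mem hl)

/-- (a9) `N / L` has prime exponent `q ≠ r` -/
theorem exists_q [Finite G] {N L : Subgroup G} [hN : N.Normal] {r : ℕ} [hr : Fact r.Prime]
    (h : IsRCM N) (hB : CaseB N) (hA : IsAb N L r) :
    ∃ q : ℕ, q.Prime ∧ q ≠ r ∧ L ≠ N ∧ ∀ n ∈ N, n ^ q ∈ L := by
  classical
  haveI hLn := hA.chief.normal
  obtain ⟨y₀, hy₀N, hy₀C⟩ := exists_not_mem_CL hA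
  have hCL := CL_eq h hB hA
  have hy₀L : y₀ ∉ L := by rw [← hCL]; exact hy₀C
  obtain ⟨q, k, hq, hyL, j, hj⟩ := exists_primary_pow_of_not_mem L hy₀L
  set y := y₀ ^ k with hy
  have hyN : y ∈ N := N.pow_mem hy₀N k
  have hqr : q ≠ r := by
    rintro rfl
    apply hyL
    rw [← hCL]
    exact r_elem_mem_CL h hB hA hyN hj
  have hex : ∃ i : ℕ, y ^ (q ^ i) ∈ L := ⟨j, by rw [hj]; exact one_mem _⟩
  have hi0 : Nat.find hex ≠ 0 := by
    intro h0
    have := Nat.find_spec hex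
    rw [h0, pow_zero, pow_one] at this
    exact hyL this
  obtain ⟨i', hi'⟩ : ∃ i', Nat.find hex = i' + 1 := ⟨Nat.find hex - 1, by omega⟩
  have hy₁L : y ^ (q ^ i') ∉ L := Nat.find_min hex (by omega)
  have hy₁q : (y ^ (q ^ i')) ^ q ∈ L := by
    have := Nat.find_spec hex
    rw [hi', pow_succ, pow_mul] at this
    exact this
  set y₁ := y ^ (q ^ i') with hy₁
  have hy₁N : y₁ ∈ N := N.pow_mem hyN _
  have hmk : ∀ g : G, g ∈ L ↔ (QuotientGroup.mk' L g) = 1 := fun g =>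
    (QuotientGroup.eq_one_iff g).symm
  let T : Subgroup G :=
    { carrier := {n | n ∈ N ∧ n ^ q ∈ L}
      mul_mem' := by
        rintro a b ⟨ha, haq⟩ ⟨hb, hbq⟩
        refine ⟨N.mul_mem ha hb, ?_⟩
        have hab : ⁅a, b⁆ ∈ L := comm_mem_L h hB hA ha hb
        rw [hmk] at haq hbq hab ⊢
        rw [map_commutatorElement, commutatorElement_eq_one_iff_commute] at hab
        rw [map_pow] at haq hbq
        rw [map_pow, map_mul, hab.mul_pow, haq, hbq, one_mul]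
      one_mem' := ⟨N.one_mem, by rw [one_pow]; exact one_mem _⟩
      inv_mem' := by
        rintro a ⟨ha, haq⟩
        refine ⟨N.inv_mem ha, ?_⟩
        rw [inv_pow]
        exact L.inv_mem haq }
  haveI hTn : T.Normal := by
    refine ⟨fun x hx g => ?_⟩
    obtain ⟨hxN, hxq⟩ := hx
    refine ⟨hN.conj_mem x hxN g, ?_⟩
    rw [conj_pow]
    exact hLn.conj_mem _ hxq g
  have hTN : T ≤ N := fun x hx => hx.1
  have hy₁T : y₁ ∈ T := ⟨hy₁N, hy₁q⟩
  obtain ⟨x, hxL, hxZ⟩ := SetLike.exists_of_lt hA.chief.lt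
  have hxN := hA.chief.le hxL
  refine ⟨q, hq, hqr, ?_, ?_⟩
  · intro h0
    apply hy₁L
    rw [h0]
    exact hy₁N
  · intro n hn
    rcases split_normal h hxN hxZ T hTN with h1 | h1
    · exfalso
      apply hxZ
      apply fpf_of_not_mem h hB hA hy₁N hy₁L hxL
      rw [commutatorElement_eq_one_iff_commute.mpr (mem_Cen.mp (h1 hy₁T)).symm]
      exact one_mem _
    · obtain ⟨t, ht, c, hc, rfl⟩ := h1 n hn
      have hcL : c ∈ L := by
        by_contra hcL
        apply hxZ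
        apply fpf_of_not_mem h hB hA hc.1 hcL hxL
        rw [commutatorElement_eq_one_iff_commute.mpr (mem_Cen.mp hc.2).symm]
        exact one_mem _
      have hcT : c ∈ T := ⟨hc.1, L.pow_mem hcL q⟩
      exact (T.mul_mem ht hcT).2

/-- the conclusion of the abelian case -/
theorem B2a_main [Finite G] {N L : Subgroup G} [hN : N.Normal]
    (h : IsRCM N) (hB : CaseB N) (hL : IsChief N L)
    (hcomm : ∀ a ∈ L, ∀ b ∈ L, ⁅a, b⁆ ∈ ZN N) :
    ∃ r q : ℕ, r.Prime ∧ q.Prime ∧ q ≠ r ∧ (∀ a ∈ L, ∀ b ∈ L, a * b = b * a) ∧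
      (∀ x ∈ L, x ^ r ∈ ZN N) ∧ L ≠ N ∧ (∀ n ∈ N, n ^ q ∈ L) ∧
      (∀ a ∈ N, ∀ b ∈ N, ⁅a, b⁆ ∈ L) ∧
      (∀ n ∈ N, n ∉ L → ∀ x ∈ L, ⁅x, n⁆ ∈ ZN N → x ∈ ZN N) := by
  have hab := L_comm h hB hL hcomm
  obtain ⟨r, hr, hexp⟩ := exists_exp hL hab
  haveI : Fact r.Prime := ⟨hr⟩
  have hA : IsAb N L r := ⟨hL, hab, hexp⟩
  obtain ⟨q, hq, hqr, hLN, hqexp⟩ := exists_q h hB hA
  exact ⟨r, q, hr, hq, hqr, hab, hexp, hLN, hqexp,
    fun a ha b hb => comm_mem_L h hB hA ha hb,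
    fun n hn hnL x hx hxn => fpf_of_not_mem h hB hA hn hnL hx hxn⟩

end Cfsg.Agent.Lib.Helper7.RCM
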