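import Mathlib
import Cfsg.Agent.Lib.Helper7.CM1
import Cfsg.Agent.Lib.Helper7.CM2
import Cfsg.Agent.Lib.Helper7.RCM1
import Cfsg.Agent.Lib.Helper7.RCM2
import Cfsg.Agent.Lib.Helper7.RCM3
import Cfsg.Agent.Lib.Helper7.RCM4
import Cfsg.Agent.Lib.Helper7.RCM5

set_option autoImplicit false

/-! Relative CM-groups, case B, nonabelian chief factor: preparations. -/

namespace Cfsg.Agent.Lib.Helper7.RCM

open Cfsg.Agent.Lib.Helper7.CM
open scoped commutatorElement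

variable {G : Type*} [Group G]

theorem sup_eq_of_not_comm {N L : Subgroup G} [hN : N.Normal] (hL : IsChief N L)
    (hnc : ¬ ∀ a ∈ L, ∀ b ∈ L, ⁅a, b⁆ ∈ ZN N) : ⁅L, L⁆ ⊔ ZN N = L := by
  haveI := hL.normal
  have hW : (⁅L, L⁆ ⊔ ZN N).Normal := inferInstance
  have hWL : ⁅L, L⁆ ⊔ ZN N ≤ L := sup_le (Subgroup.commutator_le_right L L) hL.lt.le
  rcases hL.min _ hW le_sup_right hWL with h1 | h1
  · exfalso
    apply hnc
    intro a ha b hb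
    have : ⁅a, b⁆ ∈ ⁅L, L⁆ ⊔ ZN N := Subgroup.mem_sup_left (Subgroup.commutator_mem_commutator ha hb)
    rwa [h1] at this
  · exact h1

theorem not_pgroup [Finite G] {N L : Subgroup G} [hN : N.Normal] (hL : IsChief N L)
    (hsup : ⁅L, L⁆ ⊔ ZN N = L) (s : ℕ) (hs : s.Prime) :
    ¬ ∀ x ∈ L, ∃ k : ℕ, x ^ (s ^ k) ∈ ZN N := by
  intro hall
  haveI : Fact s.Prime := ⟨hs⟩
  set Zl := (ZN N).subgroupOf L with hZl
  set π := QuotientGroup.mk' Zl with hπ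
  have hπsurj : Function.Surjective π := QuotientGroup.mk'_surjective _
  have hπ1 : ∀ l : L, π l = 1 ↔ (l : G) ∈ ZN N := by
    intro l
    rw [hπ, QuotientGroup.mk'_apply, QuotientGroup.eq_one_iff, Subgroup.mem_subgroupOf]
  have hQ : IsPGroup s (↥L ⧸ Zl) := by
    intro q
    obtain ⟨l, rfl⟩ := hπsurj q
    obtain ⟨k, hk⟩ := hall l l.2
    refine ⟨k, ?_⟩
    rw [← map_pow, hπ1]
    exact hk
  haveI hnil : Group.IsNilpotent (↥L ⧸ Zl) := hQ.isNilpotent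
  obtain ⟨x, hxL, hxZ⟩ := SetLike.exists_of_lt hL.lt
  haveI : Nontrivial (↥L ⧸ Zl) := by
    refine nontrivial_of_ne (π ⟨x, hxL⟩) 1 ?_
    intro h0
    rw [hπ1] at h0
    exact hxZ h0
  have hlt := IsSolvable.commutator_lt_top_of_nontrivial (↥L ⧸ Zl)
  apply hlt.ne
  rw [eq_top_iff]
  intro q _
  obtain ⟨l, rfl⟩ := hπsurj q
  have hl : (l : G) ∈ ⁅L, L⁆ ⊔ ZN N := by rw [hsup]; exact l.2
  rw [← SetLike.mem_coe, Subgroup.mul_normal] at hl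
  obtain ⟨a, ha, b, hb, hab⟩ := Set.mem_mul.mp hl
  rw [SetLike.mem_coe] at ha hb
  rw [← Subgroup.map_subtype_commutator] at ha
  obtain ⟨a', ha', rfl⟩ := ha
  have hbL : b ∈ L := hL.lt.le hb
  have hl' : l = a' * ⟨b, hbL⟩ := Subtype.ext hab.symm
  rw [hl', map_mul, (hπ1 ⟨b, hbL⟩).mpr hb, mul_one]
  have hle : (commutator ↥L).map π ≤ commutator (↥L ⧸ Zl) := by
    rw [commutator_def, commutator_def, Subgroup.map_commutator]
    exact Subgroup.commutator_mono le_top le_top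
  exact hle ⟨a', ha', rfl⟩

/-- a normal `p`-subgroup of `G` inside `L` is central in `N` unless `L / Z(N)` is a `p`-group -/
theorem pnormal_le [Finite G] {N L : Subgroup G} [hN : N.Normal] (hL : IsChief N L) {p : ℕ}
    (hnp : ¬ ∀ x ∈ L, ∃ k : ℕ, x ^ (p ^ k) ∈ ZN N) (W : Subgroup G) (hWn : W.Normal)
    (hWL : W ≤ L) (hWp : IsPGroup p W) : W ≤ ZN N := by
  have hn : (W ⊔ ZN N).Normal := inferInstance
  rcases hL.min _ hn le_sup_right (sup_le hWL hL.lt.le) with h1 | h1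
  · rw [← h1]
    exact le_sup_left
  · exfalso
    apply hnp
    intro x hx
    rw [← h1] at hx
    rw [← SetLike.mem_coe, Subgroup.mul_normal] at hx
    obtain ⟨w, hw, z, hz, rfl⟩ := Set.mem_mul.mp hx
    rw [SetLike.mem_coe] at hw hz
    obtain ⟨k, hk⟩ := hWp ⟨w, hw⟩
    have hk' : w ^ (p ^ k) = 1 := congrArg Subtype.val hk
    refine ⟨k, ?_⟩
    have hc : Commute w z := comm_of_mem_ZN hz (hL.le (hWL hw))
    rw [hc.mul_pow, hk', one_mul]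
    exact (ZN N).pow_mem hz _

theorem exists_odd_elem [Finite G] {N L : Subgroup G} [hN : N.Normal] (hL : IsChief N L)
    (hsup : ⁅L, L⁆ ⊔ ZN N = L) :
    ∃ (p : ℕ) (x : G), p.Prime ∧ p ≠ 2 ∧ x ∈ L ∧ x ∉ ZN N ∧ ∃ j : ℕ, x ^ (p ^ j) = 1 := by
  have h2 := not_pgroup hL hsup 2 Nat.prime_two
  push Not at h2
  obtain ⟨x₁, hx₁L, hx₁⟩ := h2
  haveI : Fact (Nat.Prime 2) := ⟨Nat.prime_two⟩
  obtain ⟨b, hbo, hbZ⟩ := exists_pprime_pow (ZN N) 2 hx₁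
  have hbL : x₁ ^ b ∈ L := L.pow_mem hx₁L b
  obtain ⟨p, k, hp, hxZ, j, hj⟩ := exists_primary_pow' (hL.le hbL) hbZ
  refine ⟨p, (x₁ ^ b) ^ k, hp, ?_, L.pow_mem hbL k, hxZ, j, hj⟩
  rintro rfl
  have hd : orderOf ((x₁ ^ b) ^ k) ∣ 2 ^ j := orderOf_dvd_of_pow_eq_one hj
  have hd2 : orderOf ((x₁ ^ b) ^ k) ∣ orderOf (x₁ ^ b) := orderOf_pow_dvd k
  have h1' : orderOf ((x₁ ^ b) ^ k) = 1 := Nat.eq_one_of_dvd_coprimes (hbo.pow_right j) hd2 hd
  rw [orderOf_eq_one_iff] at h1'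
  rw [h1'] at hxZ
  exact hxZ (one_mem _)

/-- `p'`-elements of `C_N(x)` are central in `C_N(x)`, for a `p`-element `x` -/
theorem central_of_coprime [Finite G] {N : Subgroup G} (h : IsRCM N) {x : G} (hxN : x ∈ N)
    (hxZ : x ∉ ZN N) {p j : ℕ} (hj : x ^ (p ^ j) = 1) {d : G} (hd : d ∈ N ⊓ Cen x)
    (hdo : (orderOf d).Coprime p) {e : G} (he : e ∈ N ⊓ Cen x) : e * d = d * e := by
  by_cases hdZ : d ∈ ZN N
  · exact comm_of_mem_ZN hdZ he.1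
  · have hCen : Cen d = Cen x := Cen_eq_of_commute_coprime h hd.1 hdZ hxN hxZ (mem_Cen.mp hd.2)
      (coprime_of_pow_eq_one hj hdo).symm
    have : e ∈ Cen d := by rw [hCen]; exact he.2
    exact mem_Cen.mp this

theorem isNilpotent_inf_Cen [Finite G] {N L : Subgroup G} (h : IsRCM N) (hLN : L ≤ N) {x : G}
    (hxN : x ∈ N) (hxZ : x ∉ ZN N) {p j : ℕ} [hp : Fact p.Prime] (hj : x ^ (p ^ j) = 1) :
    Group.IsNilpotent ↥(L ⊓ Cen x) := by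
  apply Group.of_quotient_center_nilpotent
  apply IsPGroup.isNilpotent (p := p)
  intro q
  obtain ⟨d, rfl⟩ := QuotientGroup.mk_surjective q
  obtain ⟨u, v, huv, hu, hv, ⟨k, hk⟩, hcop⟩ := Cfsg.Agent.Lib.Lead.exists_ppart_decomp' p (d : G)
  have hzp : Subgroup.zpowers (d : G) ≤ L ⊓ Cen x := by
    rw [Subgroup.zpowers_le]; exact d.2
  have hvD : v ∈ L ⊓ Cen x := hzp hv
  have huD : u ∈ L ⊓ Cen x := hzp hu
  have hDN : L ⊓ Cen x ≤ N ⊓ Cen x := inf_le_inf_right _ hLN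
  have hvc : (⟨v, hvD⟩ : ↥(L ⊓ Cen x)) ∈ Subgroup.center ↥(L ⊓ Cen x) := by
    rw [Subgroup.mem_center_iff]
    intro e
    apply Subtype.ext
    exact central_of_coprime h hxN hxZ hj (hDN hvD) hcop (hDN e.2)
  refine ⟨k, ?_⟩
  rw [← QuotientGroup.mk_pow, QuotientGroup.eq_one_iff]
  have hd : d = ⟨u, huD⟩ * ⟨v, hvD⟩ := Subtype.ext huv
  have hc : Commute (⟨u, huD⟩ : ↥(L ⊓ Cen x)) ⟨v, hvD⟩ :=
    (Subgroup.mem_center_iff.mp hvc) ⟨u, huD⟩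
  have hu1 : (⟨u, huD⟩ : ↥(L ⊓ Cen x)) ^ (p ^ k) = 1 := Subtype.ext hk
  rw [hd, hc.mul_pow, hu1, one_mul]
  exact Subgroup.pow_mem _ hvc _

end Cfsg.Agent.Lib.Helper7.RCM
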