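import Mathlib
import Cfsg.Agent.Lib.Helper7.CM1
import Cfsg.Agent.Lib.Helper7.CM2
import Cfsg.Agent.Lib.Helper7.RCM1
import Cfsg.Agent.Lib.Helper7.RCM2
import Cfsg.Agent.Lib.Helper7.RCM3
import Cfsg.Agent.Lib.Helper7.RCM4
import Cfsg.Agent.Lib.Helper7.RCM5
import Cfsg.Agent.Lib.Helper7.RCM6
import Cfsg.Agent.Lib.Helper7.RCM8
import Cfsg.Agent.Lib.Lead.GT13
import Cfsg.Agent.Lib.Lead.Fpf3
import Cfsg.Agent.Lib.Lead.ZJ9
import Cfsg.Agent.Lib.Lead.CoprimeSylow4
import Cfsg.Agent.Lib.Helper4.NilpSub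
import Cfsg.Agent.Lib.Helper4.AlperinTame

set_option autoImplicit false

/-! Relative CM-groups, case B: a nonabelian chief factor is impossible
(via the Glauberman--Thompson normal `p`-complement theorem). -/

namespace Cfsg.Agent.Lib.Helper7.RCM

open Cfsg.Agent.Lib.Helper7.CM Cfsg.Agent.Lib
open scoped commutatorElement

universe u

variable {G : Type u} [Group G]

theorem B2b_false [Finite G] {N L : Subgroup G} [hN : N.Normal] (h : IsRCM N) (hL : IsChief N L)
    (hnc : ¬ ∀ a ∈ L, ∀ b ∈ L, ⁅a, b⁆ ∈ ZN N) : False := by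
  classical
  haveI hLn := hL.normal
  have hsup := sup_eq_of_not_comm hL hnc
  obtain ⟨p, x, hp, hp2, hxL, hxZ, j, hj⟩ := exists_odd_elem hL hsup
  haveI : Fact p.Prime := ⟨hp⟩
  have hnp := not_pgroup hL hsup p hp
  have hxN := hL.le hxL
  set M := Cen x with hM
  have hMco : IsCoatom M := isCoatom_Cen h hxN hxZ
  set D := L ⊓ M with hD
  have hDnil : Group.IsNilpotent ↥D := isNilpotent_inf_Cen h hL.le hxN hxZ hj
  have hxD : x ∈ D := ⟨hxL, self_mem_Cen x⟩
  have hzx : Subgroup.zpowers x ≤ D := by rw [Subgroup.zpowers_le]; exact hxD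
  obtain ⟨P, hxP, hP⟩ := Helper4.exists_sylIn_ge (p := p) hzx (isPGroup_zpowers_of_pow hj)
  have hxP' : x ∈ P := hxP (Subgroup.mem_zpowers x)
  have hDP : D ≤ Subgroup.normalizer (P : Set G) := Helper4.sylIn_normal_of_isNilpotent hDnil hP
  have hPD : P ≤ D := hP.1
  have hPL : P ≤ L := hPD.trans inf_le_left
  have hPM : P ≤ M := hPD.trans inf_le_right
  -- `M` normalizes `P`
  have hMP : M ≤ Subgroup.normalizer (P : Set G) := by
    intro m hm
    apply Subgroup.mem_normalizer_fintype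
    intro n hn
    have hn' : n ∈ P := hn
    set T := P.map (MulAut.conj m).toMonoidHom with hT
    have hTD : T ≤ D := by
      rintro _ ⟨d, hd, rfl⟩
      have hd' : d ∈ P := hd
      refine ⟨?_, ?_⟩
      · show m * d * m⁻¹ ∈ L
        exact hLn.conj_mem d (hPL hd') m
      · show m * d * m⁻¹ ∈ M
        exact M.mul_mem (M.mul_mem hm (hPM hd')) (M.inv_mem hm)
    have hTp : IsPGroup p T := hP.2.1.map _
    have hTP : T ≤ P := Helper4.SylIn.le_of_normal hP hDP hTD hTp
    exact hTP ⟨n, hn', rfl⟩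
  -- normalizer of an `M`-invariant `p`-subgroup of `L` containing `x`
  have hnorm : ∀ W : Subgroup G, W ≤ L → IsPGroup p W → x ∈ W →
      M ≤ Subgroup.normalizer (W : Set G) → Subgroup.normalizer (W : Set G) = M := by
    intro W hWL hWp hxW hMW
    rcases hMco.le_iff.mp hMW with h1 | h1
    · exfalso
      have hWn : W.Normal := Subgroup.normalizer_eq_top_iff.mp h1
      exact hxZ (pnormal_le hL hnp W hWn hWL hWp hxW)
    · exact h1
  have hNP := hnorm P hPL hP.2.1 hxP' hMP
  -- `P` is a Sylow subgroup of `L`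
  have hPS : Helper4.SylIn p L P := by
    obtain ⟨S, hPS, hS⟩ := Helper4.exists_sylIn_ge (p := p) hPL hP.2.1
    have hPeq : P = S := by
      by_contra hne
      have hlt : P < S := lt_of_le_of_ne hPS hne
      have h1 := Lead.pgroup_normalizer_grows p S P hS.2.1 hlt
      rw [hNP] at h1
      have h2 : S ⊓ M ≤ P := Helper4.SylIn.le_of_normal hP hDP (inf_le_inf_right _ hS.1)
        (hS.2.1.to_le inf_le_left)
      exact absurd (lt_of_lt_of_le h1 h2) (lt_irrefl _)
    rw [hPeq]; exact hS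
  -- the Glauberman--Thompson subgroup
  set n := Nat.card P with hn
  have hP1 : P ≠ ⊥ := by
    intro h0
    rw [h0, Subgroup.mem_bot] at hxP'
    rw [hxP'] at hxZ
    exact hxZ (one_mem _)
  have hpn : p ∣ n := by
    obtain ⟨k, hk⟩ := IsPGroup.iff_card.mp hP.2.1
    have hk0 : k ≠ 0 := by
      rintro rfl
      rw [pow_zero] at hk
      exact hP1 (Subgroup.card_eq_one.mp hk)
    rw [hn, hk]
    exact dvd_pow_self p hk0
  set W := Lead.ZJ.wsub n P with hW
  have hWP : W ≤ P := Lead.ZJ.wsub_le n P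
  have hxW : x ∈ W := by
    rw [hW, Lead.ZJ.mem_wsub]
    intro A hA
    have hzP : Subgroup.zpowers x ≤ P := by rw [Subgroup.zpowers_le]; exact hxP'
    have hAE : Lead.ZJ.AbelExp n (Subgroup.zpowers x) := by
      constructor
      · intro a ha b hb
        obtain ⟨i, rfl⟩ := Subgroup.mem_zpowers_iff.mp ha
        obtain ⟨i', rfl⟩ := Subgroup.mem_zpowers_iff.mp hb
        exact ((Commute.refl x).zpow_zpow i i').eq
      · intro a ha
        have haP := hzP ha
        have := pow_card_eq_one' (G := ↥P) (x := ⟨a, haP⟩)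
        exact congrArg Subtype.val this
    have hc : ∀ g ∈ Subgroup.zpowers x, ∀ a ∈ A, g * a = a * g := by
      intro g hg a ha
      obtain ⟨i, rfl⟩ := Subgroup.mem_zpowers_iff.mp hg
      have haM : a ∈ M := hPM (hA.1 ha)
      have : Commute a x := mem_Cen.mp haM
      exact (this.zpow_right i).eq.symm
    exact Lead.ZJ.le_of_centralizes hA hzP hAE hc (Subgroup.mem_zpowers x)
  have hMW : M ≤ Subgroup.normalizer (W : Set G) :=
    hMP.trans (Lead.ZJ.normalizer_le_normalizer_wsub n P)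
  have hNW := hnorm W (hWP.trans hPL) (hP.2.1.to_le hWP) hxW hMW
  -- transport to the group `L`
  set PL := P.subgroupOf L with hPLdef
  have hPLp : IsPGroup p PL := hP.2.1.comap_subtype
  have hidx : ¬ p ∣ PL.index := hPS.2.2
  set T : Sylow p ↥L := hPLp.toSylow hidx with hT
  have hTcoe : (T : Subgroup ↥L) = PL := IsPGroup.toSylow_coe hPLp hidx
  have hmapP : PL.map L.subtype = P := Subgroup.map_subgroupOf_eq_of_le hPL
  set WL := Lead.ZJ.wsub n PL with hWL
  have hmapW : WL.map L.subtype = W := by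
    rw [hWL, Lead.ZJ.wsub_map_of_injective n PL L.subtype (Subgroup.subtype_injective L), hmapP]
  have hNL : ∀ g : ↥L, g ∈ Subgroup.normalizer (WL : Set ↥L) → (g : G) ∈ D := by
    intro g hg
    refine ⟨g.2, ?_⟩
    rw [← hNW]
    apply Subgroup.mem_normalizer_fintype
    intro w hw
    have hw' : w ∈ WL.map L.subtype := by rw [hmapW]; exact hw
    obtain ⟨w', hw'L, rfl⟩ := hw'
    have h1 : g * w' * g⁻¹ ∈ WL := (Subgroup.mem_normalizer_iff.mp hg w').mp hw'L
    have h2 : ((g * w' * g⁻¹ : ↥L) : G) ∈ WL.map L.subtype := ⟨_, h1, rfl⟩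
    rw [hmapW] at h2
    exact h2
  have hnilN : Group.IsNilpotent ↥(Subgroup.normalizer (WL : Set ↥L)) := by
    let f : ↥(Subgroup.normalizer (WL : Set ↥L)) →* ↥D :=
      (L.subtype.comp (Subgroup.normalizer (WL : Set ↥L)).subtype).codRestrict D
        (fun g => hNL g.1 g.2)
    have hf : Function.Injective f := by
      intro a b hab
      have h0 : ((f a : ↥D) : G) = ((f b : ↥D) : G) := congrArg Subtype.val hab
      exact Subtype.ext (Subtype.ext h0)
    haveI := hDnil
    exact Subgroup.isNilpotent_of_ker_le_center f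
      (by rw [(MonoidHom.ker_eq_bot_iff f).mpr hf]; exact bot_le)
  have hGT : Lead.GT.PNilp p ↥L := by
    apply Lead.GT.glauberman_thompson hp2 n hpn T PL
    · rw [← hTcoe]; exact Lead.ZJ.sClosed_self _
    · exact Lead.Fpf.pnilp_of_isNilpotent hnilN
  obtain ⟨K, hKn, hKco, k, hKidx⟩ := hGT
  have hpowK : ∀ l : ↥L, l ^ (p ^ k) ∈ K := by
    intro l
    rw [← QuotientGroup.eq_one_iff, QuotientGroup.mk_pow]
    have hc : Nat.card (↥L ⧸ K) = p ^ k := hKidx
    rw [← hc]
    exact pow_card_eq_one'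
  have hKiff : ∀ l : ↥L, l ∈ K ↔ (orderOf l).Coprime p := by
    intro l
    constructor
    · intro hl
      have h1 : orderOf l ∣ Nat.card K := by
        have := orderOf_dvd_natCard (⟨l, hl⟩ : ↥K)
        rwa [Subgroup.orderOf_mk] at this
      exact Nat.Coprime.coprime_dvd_left h1 hKco
    · intro hl
      exact mem_of_pow_mem_of_coprime K (hl.pow_right k) (hpowK l)
  set T' := K.map L.subtype with hT'
  have hT'L : T' ≤ L := Subgroup.map_subtype_le K
  have hT'o : ∀ t ∈ T', (orderOf t).Coprime p := by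
    rintro _ ⟨t', ht', rfl⟩
    rw [Subgroup.coe_subtype, Subgroup.orderOf_coe]
    exact (hKiff t').mp ht'
  have hT'n : T'.Normal := by
    refine ⟨fun t ht g => ?_⟩
    have htL := hT'L ht
    have hgL : g * t * g⁻¹ ∈ L := hLn.conj_mem t htL g
    refine ⟨⟨g * t * g⁻¹, hgL⟩, ?_, rfl⟩
    rw [SetLike.mem_coe, hKiff, Subgroup.orderOf_mk, orderOf_conj']
    exact hT'o t ht
  have hn' : (T' ⊔ ZN N).Normal := inferInstance
  rcases hL.min _ hn' le_sup_right (sup_le hT'L hL.lt.le) with h1 | h1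
  · apply hnp
    intro l hl
    refine ⟨k, ?_⟩
    have h2 : l ^ (p ^ k) ∈ T' := ⟨_, hpowK ⟨l, hl⟩, rfl⟩
    rw [← h1]
    exact Subgroup.mem_sup_left h2
  · have hx' : x ∈ T' ⊔ ZN N := by rw [h1]; exact hxL
    rw [← SetLike.mem_coe, Subgroup.mul_normal] at hx'
    obtain ⟨t, ht, z, hz, htz⟩ := Set.mem_mul.mp hx'
    rw [SetLike.mem_coe] at ht hz
    have hto := hT'o t ht
    have hc : Commute t z := comm_of_mem_ZN hz (hL.le (hT'L ht))
    apply hxZ
    apply mem_of_pow_mem_of_coprime (ZN N) (m := orderOf t)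
    · exact coprime_of_pow_eq_one hj hto
    · rw [← htz, hc.mul_pow, pow_orderOf_eq_one, one_mul]
      exact (ZN N).pow_mem hz _

end Cfsg.Agent.Lib.Helper7.RCM
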