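import Mathlib
import Cfsg.Agent.Lib.Helper7.CM1
import Cfsg.Agent.Lib.Helper7.CM2
import Cfsg.Agent.Lib.Helper7.RCM1
import Cfsg.Agent.Lib.Helper7.RCM2
import Cfsg.Agent.Lib.Helper7.RCM3
import Cfsg.Agent.Lib.Helper7.RCM4
import Cfsg.Agent.Lib.Helper7.RCM5
import Cfsg.Agent.Lib.Helper7.RCM7
import Cfsg.Agent.Lib.Helper7.RCM9
import Cfsg.Agent.Lib.Helper7.RCM10

set_option autoImplicit false

/-! Relative CM-groups: the main theorem. -/

namespace Cfsg.Agent.Lib.Helper7.RCM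

open Cfsg.Agent.Lib.Helper7.CM
open scoped commutatorElement

variable {G : Type*} [Group G]

theorem mk_eq_one_iff {N : Subgroup G} (n : ↥N) :
    (QuotientGroup.mk' (Subgroup.center ↥N) n = 1) ↔ (n : G) ∈ ZN N := by
  rw [QuotientGroup.mk'_apply, QuotientGroup.eq_one_iff, Subgroup.mem_center_iff, mem_ZN]
  constructor
  · intro h0
    refine ⟨n.2, fun m hm => ?_⟩
    exact congrArg Subtype.val (h0 ⟨m, hm⟩)
  · intro h0 m
    exact Subtype.ext (h0.2 m m.2)

theorem main [Finite G] (N : Subgroup G) [hN : N.Normal] (h : IsRCM N) :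
    (∃ p : ℕ, p.Prime ∧
      Cfsg.IsElementaryAbelian p (⊤ : Subgroup (↥N ⧸ Subgroup.center ↥N))) ∨
    (∃ (Q K : Subgroup (↥N ⧸ Subgroup.center ↥N)) (p : ℕ), p.Prime ∧
      Cfsg.IsFrobeniusComplement Q ∧ (Nat.card ↥Q).Prime ∧ K.Normal ∧
      (K : Set (↥N ⧸ Subgroup.center ↥N)) = Cfsg.frobeniusKernel Q ∧
      Cfsg.IsElementaryAbelian p K) := by
  classical
  set π := QuotientGroup.mk' (Subgroup.center ↥N) with hπ
  have hπsurj : Function.Surjective π := QuotientGroup.mk'_surjective _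
  have hπ1 : ∀ n : ↥N, π n = 1 ↔ (n : G) ∈ ZN N := fun n => mk_eq_one_iff n
  by_cases hB : CaseB N
  · right
    obtain ⟨L, hL⟩ := exists_isChief hB
    haveI hLn := hL.normal
    by_cases hcomm : ∀ a ∈ L, ∀ b ∈ L, ⁅a, b⁆ ∈ ZN N
    · obtain ⟨r, q, hr, hq, hqr, hab, hexp, hLN, hqexp, hNc, hfpf⟩ := B2a_main h hB hL hcomm
      set K := (L.subgroupOf N).map π with hK
      haveI hKn : K.Normal := Subgroup.Normal.map inferInstance π hπsurj
      have hKmem : ∀ n : ↥N, π n ∈ K ↔ (n : G) ∈ L := by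
        intro n
        constructor
        · rintro ⟨m, hm, hmn⟩
          have hm' : (m : G) ∈ L := Subgroup.mem_subgroupOf.mp hm
          have h1 : π (m⁻¹ * n) = 1 := by rw [map_mul, map_inv, hmn, inv_mul_cancel]
          rw [hπ1] at h1
          have h2 : (m : G)⁻¹ * n ∈ L := hL.lt.le h1
          have : (n : G) = m * ((m : G)⁻¹ * n) := by group
          rw [this]
          exact L.mul_mem hm' h2
        · intro hn
          exact ⟨n, Subgroup.mem_subgroupOf.mpr hn, rfl⟩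
      have hKr : ∀ k ∈ K, k ^ r = 1 := by
        rintro _ ⟨l, hl, rfl⟩
        rw [← map_pow, hπ1]
        exact hexp _ (Subgroup.mem_subgroupOf.mp hl)
      have hK1 : K ≠ ⊥ := by
        intro h0
        obtain ⟨x, hxL, hxZ⟩ := SetLike.exists_of_lt hL.lt
        have h1 : π ⟨x, hL.le hxL⟩ ∈ K := (hKmem _).mpr hxL
        rw [h0, Subgroup.mem_bot, hπ1] at h1
        exact hxZ h1
      have hKtop : K ≠ ⊤ := by
        intro h0
        obtain ⟨y, hyN, hyL⟩ := SetLike.exists_of_lt (lt_of_le_of_ne hL.le hLN)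
        have h1 : π ⟨y, hyN⟩ ∈ K := by rw [h0]; exact Subgroup.mem_top _
        exact hyL ((hKmem _).mp h1)
      have hQq : ∀ g : ↥N ⧸ Subgroup.center ↥N, g ^ q ∈ K := by
        intro g
        obtain ⟨n, rfl⟩ := hπsurj g
        rw [← map_pow, hKmem]
        exact hqexp _ n.2
      have hQc : ∀ a b : ↥N ⧸ Subgroup.center ↥N, ⁅a, b⁆ ∈ K := by
        intro a b
        obtain ⟨n, rfl⟩ := hπsurj a
        obtain ⟨m, rfl⟩ := hπsurj b
        rw [← map_commutatorElement, hKmem]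
        exact hNc _ n.2 _ m.2
      have hfpf' : ∀ g : ↥N ⧸ Subgroup.center ↥N, g ∉ K → ∀ k ∈ K, g * k = k * g → k = 1 := by
        intro g hg k hk hgk
        obtain ⟨n, rfl⟩ := hπsurj g
        obtain ⟨l, hl, rfl⟩ := hk
        have hlL : (l : G) ∈ L := Subgroup.mem_subgroupOf.mp hl
        have hnL : (n : G) ∉ L := fun h0 => hg ((hKmem n).mpr h0)
        have h1 : π ⁅l, n⁆ = 1 := by
          rw [map_commutatorElement, commutatorElement_eq_one_iff_commute]
          exact hgk.symm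
        rw [hπ1] at h1
        rw [hπ1]
        exact hfpf _ n.2 hnL _ hlL h1
      obtain ⟨H, hHF, hHcard, hKker⟩ :=
        frob_end K hr hq hqr hKr hK1 hKtop hQq hQc hfpf'
      refine ⟨H, K, r, hr, hHF, hHcard, hKn, hKker, ⟨⟨fun a b => ?_⟩⟩, hKr⟩
      obtain ⟨a, l₁, hl₁, rfl⟩ := a
      obtain ⟨b, l₂, hl₂, rfl⟩ := b
      apply Subtype.ext
      show π l₁ * π l₂ = π l₂ * π l₁
      rw [← map_mul, ← map_mul]
      congr 1
      apply Subtype.ext
      exact hab _ (Subgroup.mem_subgroupOf.mp hl₁) _ (Subgroup.mem_subgroupOf.mp hl₂)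
    · exact (B2b_false h hL hcomm).elim
  · left
    unfold CaseB at hB
    push Not at hB
    obtain ⟨p, hp, hpN⟩ := hB
    haveI : Fact p.Prime := ⟨hp⟩
    have hA := caseA h hpN
    refine ⟨p, hp, ⟨⟨fun a b => ?_⟩⟩, ?_⟩
    · obtain ⟨a, -⟩ := a
      obtain ⟨b, -⟩ := b
      apply Subtype.ext
      show a * b = b * a
      obtain ⟨n, rfl⟩ := hπsurj a
      obtain ⟨m, rfl⟩ := hπsurj b
      have h1 : π ⁅n, m⁆ = 1 := by
        rw [hπ1]
        exact (hA _ n.2).2 _ m.2
      rw [map_commutatorElement, commutatorElement_eq_one_iff_commute] at h1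
      exact h1.eq
    · intro a _
      obtain ⟨n, rfl⟩ := hπsurj a
      rw [← map_pow, hπ1]
      exact (hA _ n.2).1

end Cfsg.Agent.Lib.Helper7.RCM
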