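import Mathlib
import Cfsg.Agent.Lib.Helper7.Wielandt6
import Cfsg.Agent.Lib.Lead.CoprimeTools2
import Cfsg.Agent.Lib.Lead.CoprimeSylow4

set_option autoImplicit false
set_option linter.style.haveILetI false

/-!
# Groups without nontrivial real elements of odd order have a normal Sylow 2-subgroup
-/

namespace Cfsg.Agent.Lib.Helper7

open scoped Pointwise

universe u

/-- `G` has no non-identity element of odd order conjugate to its inverse. -/
def NoRealOdd (G : Type*) [Group G] : Prop :=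
  ∀ x : G, x ≠ 1 → Odd (orderOf x) → ¬ IsConj x x⁻¹

section

variable {G : Type*} [Group G]

theorem zpowers_conj_eq_of_inv {t y : G} (h : t * y * t⁻¹ = y⁻¹) :
    t ∈ Subgroup.normalizer ((Subgroup.zpowers y : Subgroup G) : Set G) := by
  rw [mem_normalizer_iff_cj]
  unfold cj
  rw [MonoidHom.map_zpowers]
  show Subgroup.zpowers (t * y * t⁻¹) = _
  rw [h, Subgroup.zpowers_inv]

theorem isPGroup_two_of_involutions [Finite G] (hyp : NoRealOdd G) (s t : G) (hs : orderOf s = 2)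
    (ht : orderOf t = 2) : IsPGroup 2 ↥(Subgroup.zpowers t ⊔ Subgroup.zpowers s) := by
  haveI : Fact (Nat.Prime 2) := ⟨Nat.prime_two⟩
  have hs2 : s * s = 1 := by rw [← pow_two, ← hs, pow_orderOf_eq_one]
  have ht2 : t * t = 1 := by rw [← pow_two, ← ht, pow_orderOf_eq_one]
  have hsinv : s⁻¹ = s := inv_eq_of_mul_eq_one_left hs2
  have htinv : t⁻¹ = t := inv_eq_of_mul_eq_one_left ht2
  set y := s * t with hy
  have hty : t * y * t⁻¹ = y⁻¹ := by
    rw [hy, mul_inv_rev, hsinv, htinv]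
    calc t * (s * t) * t = t * s * (t * t) := by group
      _ = t * s := by rw [ht2, mul_one]
  -- `y` is a 2-element
  obtain ⟨a, m, hm, hord⟩ := Nat.exists_eq_two_pow_mul_odd (orderOf_pos y).ne'
  have hz : y ^ (2 ^ a) = 1 := by
    by_contra hne
    apply hyp (y ^ (2 ^ a)) hne
    · rw [orderOf_pow_of_dvd (pow_ne_zero _ (by norm_num)) (hord ▸ dvd_mul_right _ _), hord,
        Nat.mul_div_cancel_left _ (pow_pos (by norm_num) _)]
      exact hm
    · rw [isConj_iff]
      refine ⟨t, ?_⟩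
      rw [← conj_pow, hty, inv_pow]
  have hy2 : IsPGroup 2 ↥(Subgroup.zpowers y) := by
    rw [IsPGroup.iff_card]
    have h1 : orderOf y ∣ 2 ^ a := orderOf_dvd_of_pow_eq_one hz
    obtain ⟨k, -, hk⟩ := (Nat.dvd_prime_pow Nat.prime_two).mp h1
    exact ⟨k, by rw [Nat.card_zpowers, hk]⟩
  have ht2' : IsPGroup 2 ↥(Subgroup.zpowers t) := by
    rw [IsPGroup.iff_card]
    exact ⟨1, by rw [Nat.card_zpowers, ht, pow_one]⟩
  have hnorm : Subgroup.zpowers t ≤ Subgroup.normalizer ((Subgroup.zpowers y : Subgroup G) : Set G) := by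
    rw [Subgroup.zpowers_le]
    exact zpowers_conj_eq_of_inv hty
  have hsup : IsPGroup 2 ↥(Subgroup.zpowers t ⊔ Subgroup.zpowers y) :=
    IsPGroup.to_sup_of_normal_right' ht2' hy2 hnorm
  apply hsup.to_le
  apply sup_le le_sup_left
  rw [Subgroup.zpowers_le]
  have : s = y * t := by
    rw [hy, mul_assoc, ht2, mul_one]
  rw [this]
  exact Subgroup.mul_mem _ (Subgroup.mem_sup_right (Subgroup.mem_zpowers y))
    (Subgroup.mem_sup_left (Subgroup.mem_zpowers t))

/-- under `NoRealOdd`, every involution lies in `O_2(G)`. -/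
theorem involution_mem_piCore [Finite G] (hyp : NoRealOdd G) (t : G) (ht : orderOf t = 2) :
    t ∈ Cfsg.piCore {2} G := by
  haveI : Fact (Nat.Prime 2) := ⟨Nat.prime_two⟩
  have h : ∀ g : G, IsPGroup 2 ↥(Subgroup.zpowers t ⊔ cj g (Subgroup.zpowers t)) := by
    intro g
    have h1 : cj g (Subgroup.zpowers t) = Subgroup.zpowers (g * t * g⁻¹) := by
      unfold cj
      rw [MonoidHom.map_zpowers]
      rfl
    rw [h1]
    apply isPGroup_two_of_involutions hyp _ _ _ ht
    have : g * t * g⁻¹ = MulAut.conj g t := rfl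
    rw [this, MulEquiv.orderOf_eq, ht]
  exact (baer_suzuki (Subgroup.zpowers t) h).2 (Subgroup.mem_zpowers t)

/-- lifting a real element modulo a normal subgroup `N` of coprime order (solvable `N`). -/
theorem exists_conj_inv_of_mod [Finite G] (N : Subgroup G) [N.Normal] (hN : Group.IsSolvable N)
    (y g : G) (hcop : (orderOf y).Coprime (Nat.card N)) (hg : g * y * g⁻¹ * y ∈ N) :
    ∃ g' : G, g' * y * g'⁻¹ = y⁻¹ := by
  set Y := Subgroup.zpowers y with hY
  have hcardY : Nat.card Y = orderOf y := Nat.card_zpowers y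
  have hYN : Y ⊓ N = ⊥ := Subgroup.inf_eq_bot_of_coprime (by rw [hcardY]; exact hcop)
  have hNtop : Subgroup.normalizer (N : Set G) = ⊤ := Subgroup.normalizer_eq_top_iff.mpr inferInstance
  have hYnorm : Y ≤ Subgroup.normalizer (N : Set G) := hNtop ▸ le_top
  set L := Y ⊔ N with hL
  have hcardL : Nat.card Y * Nat.card N = Nat.card L :=
    (Cfsg.Agent.Lib.Lead.card_sup_of_disjoint Y N hYnorm hYN).symm
  have hB : cj g Y ≤ L := by
    have h1 : cj g Y = Subgroup.zpowers (g * y * g⁻¹) := by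
      unfold cj
      rw [MonoidHom.map_zpowers]
      rfl
    rw [h1, Subgroup.zpowers_le]
    have : g * y * g⁻¹ = (g * y * g⁻¹ * y) * y⁻¹ := by group
    rw [this]
    exact Subgroup.mul_mem _ (Subgroup.mem_sup_right hg)
      (Subgroup.mem_sup_left (Subgroup.inv_mem _ (Subgroup.mem_zpowers y)))
  obtain ⟨x, hxN, hx⟩ := Cfsg.Agent.Lib.Lead.sz_conj_internal N L Y (cj g Y) le_sup_right
    (hNtop ▸ le_top) le_sup_left hB hcardL (card_cj g Y) (by rw [hcardY]; exact hcop) (Or.inl hN)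
  have hx' : cj x Y = cj g Y := hx
  have hg' : cj (x⁻¹ * g) Y = Y := by
    rw [cj_mul, ← hx', cj_inv_cj]
  refine ⟨x⁻¹ * g, ?_⟩
  have h1 : (x⁻¹ * g) * y * (x⁻¹ * g)⁻¹ ∈ Y := by
    have : (x⁻¹ * g) * y * (x⁻¹ * g)⁻¹ ∈ cj (x⁻¹ * g) Y :=
      ⟨y, Subgroup.mem_zpowers y, rfl⟩
    rwa [hg'] at this
  have h2 : (x⁻¹ * g) * y * (x⁻¹ * g)⁻¹ * y ∈ N := by
    have e : (x⁻¹ * g) * y * (x⁻¹ * g)⁻¹ * y = x⁻¹ * (g * y * g⁻¹ * y) * (y⁻¹ * x * y⁻¹⁻¹) := by group
    rw [e]
    exact N.mul_mem (N.mul_mem (N.inv_mem hxN) hg)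
      (Subgroup.Normal.conj_mem inferInstance x hxN y⁻¹)
  have h3 : (x⁻¹ * g) * y * (x⁻¹ * g)⁻¹ * y ∈ Y ⊓ N :=
    ⟨Subgroup.mul_mem _ h1 (Subgroup.mem_zpowers y), h2⟩
  rw [hYN, Subgroup.mem_bot] at h3
  exact eq_inv_of_mul_eq_one_left h3

theorem noRealOdd_quotient [Finite G] (hyp : NoRealOdd G) (N : Subgroup G) [N.Normal]
    (hN : IsPGroup 2 N) : NoRealOdd (G ⧸ N) := by
  haveI : Fact (Nat.Prime 2) := ⟨Nat.prime_two⟩
  intro ybar hy1 hodd hreal
  obtain ⟨gbar, hgbar⟩ := isConj_iff.mp hreal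
  obtain ⟨y₀, rfl⟩ := QuotientGroup.mk_surjective ybar
  obtain ⟨g, rfl⟩ := QuotientGroup.mk_surjective gbar
  obtain ⟨a, m, hm, hord⟩ := Nat.exists_eq_two_pow_mul_odd (orderOf_pos y₀).ne'
  set y := y₀ ^ (2 ^ a) with hy
  have hordy : orderOf y = m := by
    rw [hy, orderOf_pow_of_dvd (pow_ne_zero _ (by norm_num)) (hord ▸ dvd_mul_right _ _), hord,
      Nat.mul_div_cancel_left _ (pow_pos (by norm_num) _)]
  have hyimg : (QuotientGroup.mk y : G ⧸ N) = (QuotientGroup.mk y₀ : G ⧸ N) ^ (2 ^ a) := by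
    rw [hy]; rfl
  have hyimg1 : (QuotientGroup.mk y : G ⧸ N) ≠ 1 := by
    rw [hyimg]
    intro h
    have h1 : orderOf (QuotientGroup.mk y₀ : G ⧸ N) ∣ 2 ^ a := orderOf_dvd_of_pow_eq_one h
    have h2 : (orderOf (QuotientGroup.mk y₀ : G ⧸ N)).Coprime (2 ^ a) :=
      Nat.Coprime.pow_right _ (Nat.coprime_two_right.mpr hodd)
    have h3 := Nat.Coprime.eq_one_of_dvd h2 h1
    exact hy1 (orderOf_eq_one_iff.mp h3)
  have hy1' : y ≠ 1 := by
    intro h
    apply hyimg1
    rw [h]; rfl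
  have hgy : g * y * g⁻¹ * y ∈ N := by
    rw [← QuotientGroup.eq_one_iff]
    have e : ((g * y * g⁻¹ * y : G) : G ⧸ N) =
        ((g : G ⧸ N) * (y₀ : G ⧸ N) * (g : G ⧸ N)⁻¹) ^ (2 ^ a) * (y₀ : G ⧸ N) ^ (2 ^ a) := by
      rw [conj_pow]
      simp only [QuotientGroup.mk_mul, QuotientGroup.mk_inv, hyimg]
    rw [e, hgbar, inv_pow, inv_mul_cancel]
  have hcop : (orderOf y).Coprime (Nat.card N) := by
    obtain ⟨k, hk⟩ := IsPGroup.iff_card.mp hN
    rw [hk, hordy]
    exact Nat.Coprime.pow_right _ (Nat.coprime_two_right.mpr hm)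
  have hNsolv : Group.IsSolvable N := by
    haveI := hN.isNilpotent
    exact IsNilpotent.to_isSolvable
  obtain ⟨g', hg'⟩ := exists_conj_inv_of_mod N hNsolv y g hcop hgy
  exact hyp y hy1' (hordy ▸ hm) (isConj_iff.mpr ⟨g', hg'⟩)

end

theorem sylow_two_normal_aux (n : ℕ) :
    ∀ (G : Type u) [Group G] [Finite G], Nat.card G = n → NoRealOdd G →
      ∀ P : Sylow 2 G, (P : Subgroup G).Normal := by
  haveI : Fact (Nat.Prime 2) := ⟨Nat.prime_two⟩
  induction n using Nat.strong_induction_on with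
  | _ n ih =>
  intro G _ _ hcard hyp P
  set N := Cfsg.piCore {2} G with hNdef
  have hN2 : IsPGroup 2 N := isPGroup_piCore_singleton 2
  by_cases hNb : N = ⊥
  · have h2 : ¬ 2 ∣ Nat.card G := by
      intro h
      obtain ⟨t, ht⟩ := exists_prime_orderOf_dvd_card' 2 h
      have hmem := involution_mem_piCore hyp t ht
      rw [← hNdef, hNb, Subgroup.mem_bot] at hmem
      rw [hmem, orderOf_one] at ht
      omega
    have h3 : Nat.card (P : Subgroup G) = 1 := by
      rw [P.card_eq_multiplicity, Nat.factorization_eq_zero_of_not_dvd h2, pow_zero]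
    have h4 : (P : Subgroup G) = ⊥ := Subgroup.eq_bot_of_card_eq _ h3
    rw [h4]; infer_instance
  · have hcardQ : Nat.card (G ⧸ N) < n := by
      have h1 := Subgroup.card_eq_card_quotient_mul_card_subgroup N
      have h2 : 1 < Nat.card N := (Subgroup.one_lt_card_iff_ne_bot N).mpr hNb
      have h3 : 0 < Nat.card (G ⧸ N) := Nat.card_pos
      rw [← hcard, h1]
      nlinarith
    have hQ := ih _ hcardQ (G ⧸ N) rfl (noRealOdd_quotient hyp N hN2)
      (P.mapSurjective (QuotientGroup.mk'_surjective N))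
    rw [Sylow.coe_mapSurjective] at hQ
    have hNP : N ≤ P := Cfsg.Agent.Lib.Lead.normal_pgroup_le_sylow 2 N hN2 P
    have h5 : ((P : Subgroup G).map (QuotientGroup.mk' N)).comap (QuotientGroup.mk' N) = P := by
      rw [Subgroup.comap_map_eq, QuotientGroup.ker_mk', sup_eq_left.mpr hNP]
    rw [← h5]
    exact hQ.comap _

/-- A finite group with no non-identity real element of odd order has a normal Sylow 2-subgroup. -/
theorem sylow_two_normal_of_noRealOdd {G : Type u} [Group G] [Finite G] (hyp : NoRealOdd G)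
    (P : Sylow 2 G) : (P : Subgroup G).Normal :=
  sylow_two_normal_aux _ G rfl hyp P


end Cfsg.Agent.Lib.Helper7
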