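import Mathlib
import Cfsg.Prelude.Def_RootSubgroups

set_option autoImplicit false

/-!
# Root involutions: basic facts on the odd-order-product graph
-/

namespace Cfsg.Agent.Lib.Helper7.RootInv

open Cfsg Relation

variable {G : Type*} [Group G] {D : Set G}

theorem orderOf_mul_swap (a b : G) : orderOf (a * b) = orderOf (b * a) := by
  have h : b * a = MulAut.conj a⁻¹ (a * b) := by
    simp [MulAut.conj_apply]
  rw [h, MulEquiv.orderOf_eq]

theorem sq_one (hD : IsRootInvolutionSet D) {d : G} (hd : d ∈ D) : d * d = 1 := by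
  have h := hD.orderOf_eq d hd
  have := pow_orderOf_eq_one d
  rw [h, pow_two] at this
  exact this

theorem inv_self (hD : IsRootInvolutionSet D) {d : G} (hd : d ∈ D) : d⁻¹ = d :=
  inv_eq_of_mul_eq_one_right (sq_one hD hd)

theorem ne_one_of_mem (hD : IsRootInvolutionSet D) {d : G} (hd : d ∈ D) : d ≠ 1 := by
  intro h
  have := hD.orderOf_eq d hd
  rw [h, orderOf_one] at this
  norm_num at this

theorem oddAdj_symm {a b : G} (h : OddAdj D a b) : OddAdj D b a :=
  ⟨h.2.1, h.1, fun e => h.2.2.1 e.symm, by rw [orderOf_mul_swap]; exact h.2.2.2⟩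

theorem reach_symm {a b : G} (h : ReflTransGen (OddAdj D) a b) : ReflTransGen (OddAdj D) b a := by
  induction h with
  | refl => exact ReflTransGen.refl
  | tail _ hbc ih => exact ReflTransGen.head (oddAdj_symm hbc) ih

theorem oddAdj_conj (hD : IsRootInvolutionSet D) {a b : G} (h : OddAdj D a b) (g : G) :
    OddAdj D (g * a * g⁻¹) (g * b * g⁻¹) := by
  refine ⟨hD.conj_mem a h.1 g, hD.conj_mem b h.2.1 g, ?_, ?_⟩
  · intro e
    apply h.2.2.1
    have := congrArg (fun x => g⁻¹ * x * g) e
    simpa [mul_assoc] using this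
  · have e : g * a * g⁻¹ * (g * b * g⁻¹) = MulAut.conj g (a * b) := by
      simp [MulAut.conj_apply, mul_assoc]
    rw [e, MulEquiv.orderOf_eq]
    exact h.2.2.2

/-- the component of `a` in the odd-order-product graph -/
theorem mem_comp_iff {a b : G} :
    b ∈ elemComponentOf (OddAdj D) D a ↔ b ∈ D ∧ ReflTransGen (OddAdj D) a b := Iff.rfl

theorem comp_eq_of_reach {a b : G} (h : ReflTransGen (OddAdj D) a b) :
    elemComponentOf (OddAdj D) D a = elemComponentOf (OddAdj D) D b := by
  ext x
  constructor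
  · rintro ⟨hx, hr⟩
    exact ⟨hx, (reach_symm h).trans hr⟩
  · rintro ⟨hx, hr⟩
    exact ⟨hx, h.trans hr⟩

/-- a vertex with a further member in its component has a neighbour -/
theorem exists_adj_of_comp {a : G} (h : ∃ a' ∈ elemComponentOf (OddAdj D) D a, a' ≠ a) :
    ∃ s, OddAdj D a s := by
  obtain ⟨a', ⟨-, hr⟩, hne⟩ := h
  rcases ReflTransGen.cases_head hr with h | ⟨c, hc, -⟩
  · exact absurd h.symm hne
  · exact ⟨c, hc⟩

/-- a non-isolated member has a neighbour -/
theorem exists_adj_of_not_isolated {e : G} (he : e ∈ D) (h : ¬ IsIsolatedElem (OddAdj D) D e) :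
    ∃ f, OddAdj D e f := by
  by_contra hcon
  push Not at hcon
  apply h
  refine ⟨he, fun b => ⟨hcon b, fun hb => hcon b (oddAdj_symm hb)⟩⟩

end Cfsg.Agent.Lib.Helper7.RootInv
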