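import Mathlib
import Cfsg.Agent.Lib.Helper7.RootInv1

set_option autoImplicit false

/-!
# Root involutions: the product of two commuting members lies in the component of each
-/

namespace Cfsg.Agent.Lib.Helper7.RootInv

open Cfsg Relation

variable {G : Type*} [Group G] {D : Set G}

/-- partial products of the conjugates `ρ ^ i * e * ρ ^ (-i)` -/
def conjProd (e ρ : G) : ℕ → G
  | 0 => 1
  | n + 1 => conjProd e ρ n * (ρ ^ n * e * (ρ ^ n)⁻¹)

theorem mul_pow_eq_conjProd (e ρ : G) (n : ℕ) : (e * ρ) ^ n = conjProd e ρ n * ρ ^ n := by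
  induction n with
  | zero => simp [conjProd]
  | succ n ih =>
    rw [pow_succ, ih, conjProd, pow_succ]
    group

theorem conjProd_commute (e ρ : G)
    (h : ∀ i j : ℕ, Commute (ρ ^ i * e * (ρ ^ i)⁻¹) (ρ ^ j * e * (ρ ^ j)⁻¹)) (n k : ℕ) :
    Commute (conjProd e ρ n) (ρ ^ k * e * (ρ ^ k)⁻¹) := by
  induction n with
  | zero => exact Commute.one_left _
  | succ n ih => exact Commute.mul_left ih (h n k)

theorem conjProd_sq (e ρ : G) (he : e * e = 1)
    (h : ∀ i j : ℕ, Commute (ρ ^ i * e * (ρ ^ i)⁻¹) (ρ ^ j * e * (ρ ^ j)⁻¹)) (n : ℕ) :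
    conjProd e ρ n * conjProd e ρ n = 1 := by
  induction n with
  | zero => simp [conjProd]
  | succ n ih =>
    have hc := (conjProd_commute e ρ h n n).eq
    have hsq : (ρ ^ n * e * (ρ ^ n)⁻¹) * (ρ ^ n * e * (ρ ^ n)⁻¹) = 1 := by
      calc (ρ ^ n * e * (ρ ^ n)⁻¹) * (ρ ^ n * e * (ρ ^ n)⁻¹)
          = ρ ^ n * (e * e) * (ρ ^ n)⁻¹ := by group
        _ = 1 := by rw [he]; group
    show conjProd e ρ n * (ρ ^ n * e * (ρ ^ n)⁻¹) *
      (conjProd e ρ n * (ρ ^ n * e * (ρ ^ n)⁻¹)) = 1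
    generalize ρ ^ n * e * (ρ ^ n)⁻¹ = x at hc hsq
    generalize conjProd e ρ n = P at hc ih
    calc P * x * (P * x) = P * (x * P) * x := by group
      _ = P * (P * x) * x := by rw [← hc]
      _ = (P * P) * (x * x) := by group
      _ = 1 := by rw [ih, hsq, one_mul]

theorem mul_pow_two_mul (e ρ : G) (m : ℕ) (hρ : ρ ^ m = 1) (he : e * e = 1)
    (h : ∀ i j : ℕ, Commute (ρ ^ i * e * (ρ ^ i)⁻¹) (ρ ^ j * e * (ρ ^ j)⁻¹)) :
    (e * ρ) ^ (2 * m) = 1 := by
  rw [mul_comm 2 m, pow_mul, mul_pow_eq_conjProd, hρ, mul_one, pow_two, conjProd_sq e ρ he h]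

end Cfsg.Agent.Lib.Helper7.RootInv
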