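import Mathlib
import Cfsg.Agent.Lib.Helper7.RootInv2

set_option autoImplicit false

/-!
# Root involutions: the product of two commuting members lies in the component of each
-/

namespace Cfsg.Agent.Lib.Helper7.RootInv

open Cfsg Relation

variable {G : Type*} [Group G] {D : Set G}

/-- Let `a, e, e a` be commuting members of `D` with `e` outside the component of `a`; then
the product of `e` with a neighbour `s` of `a` has order `4`. -/
theorem four_of_adj (hD : IsRootInvolutionSet D) {a e s : G} (he : e ∈ D)
    (hea : e * a = a * e) (hprod : e * a ∈ D) (hs : OddAdj D a s)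
    (hnot : ¬ ReflTransGen (OddAdj D) a e) : orderOf (s * e) = 4 := by
  obtain ⟨ha, hsD, hsa, hodd⟩ := hs
  have haa := sq_one hD ha
  have hss := sq_one hD hsD
  have hne : s * e ≠ e * s := by
    intro hse
    obtain ⟨ρ, hρ⟩ : ∃ ρ, ρ = a * s := ⟨_, rfl⟩
    rw [← hρ] at hodd
    have hρ1 : ρ ≠ 1 := by
      intro h
      apply hsa
      rw [hρ] at h
      have := eq_inv_of_mul_eq_one_right h
      rw [this, inv_self hD ha]
    have hce : Commute e ρ := by
      rw [hρ]
      exact Commute.mul_right hea hse.symm
    have hord : orderOf (e * ρ) = 2 * orderOf ρ := by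
      have := hce.orderOf_mul_eq_mul_orderOf_of_coprime
        (by rw [hD.orderOf_eq e he]; exact (Nat.coprime_two_left).mpr hodd)
      rw [this, hD.orderOf_eq e he]
    have hx : (e * a) * s = e * ρ := by rw [hρ, mul_assoc]
    rcases hD.pair (e * a) hprod s hsD with h | h | h
    · have h2 : ((e * a) * s) ^ 2 = 1 := by
        rw [pow_two]
        calc (e * a) * s * ((e * a) * s) = (e * a) * (s * (e * a)) * s := by group
          _ = (e * a) * ((e * a) * s) * s := by rw [h]
          _ = ((e * a) * (e * a)) * (s * s) := by group
          _ = 1 := by rw [sq_one hD hprod, hss, one_mul]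
      rw [hx] at h2
      have h3 := orderOf_dvd_of_pow_eq_one h2
      rw [hord] at h3
      have hm : orderOf ρ ∣ 1 :=
        Nat.dvd_of_mul_dvd_mul_left (by norm_num : 0 < 2) (by simpa using h3)
      exact hρ1 (orderOf_eq_one_iff.mp (Nat.dvd_one.mp hm))
    · rw [hx, hord] at h
      exact absurd h (by simp)
    · rw [hx, hord] at h
      have h2 : orderOf ρ = 2 := by omega
      rw [h2] at hodd
      exact absurd hodd (by decide)
  rcases hD.pair s hsD e he with h | h | h
  · exact absurd h hne
  · exfalso
    apply hnot
    have hse : s ≠ e := by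
      intro h2
      apply hne
      rw [h2]
    exact ReflTransGen.tail (ReflTransGen.single ⟨ha, hsD, hsa, hodd⟩) ⟨hsD, he, hse, h⟩
  · exact h.1

end Cfsg.Agent.Lib.Helper7.RootInv
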