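import Mathlib
import Cfsg.Agent.Lib.Helper7.RootInv3

set_option autoImplicit false

/-!
# Root involutions: the product of two commuting members lies in the component of each
-/

namespace Cfsg.Agent.Lib.Helper7.RootInv

open Cfsg Relation

variable {G : Type*} [Group G] {D : Set G}

theorem conj_zpow_inv {a ρ : G} (h : a * ρ * a⁻¹ = ρ⁻¹) (z : ℤ) :
    a * ρ ^ z * a⁻¹ = (ρ ^ z)⁻¹ := by
  have := map_zpow (MulAut.conj a) ρ z
  simp only [MulAut.conj_apply] at this
  rw [this, h, inv_zpow]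

/-- the conjugates of `e` under the rotation subgroup commute with `e` -/
theorem commute_conj_zpow (hD : IsRootInvolutionSet D) {a e s : G} (he : e ∈ D)
    (hea : e * a = a * e) (hprod : e * a ∈ D) (hs : OddAdj D a s)
    (hnot : ¬ ReflTransGen (OddAdj D) a e) (z : ℤ) :
    Commute e ((a * s) ^ z * e * ((a * s) ^ z)⁻¹) := by
  obtain ⟨ha, hsD, hsa, hodd⟩ := hs
  have haa := sq_one hD ha
  have hss := sq_one hD hsD
  have hee := sq_one hD he
  have hainv := inv_self hD ha
  obtain ⟨ρ, hρ⟩ : ∃ ρ, ρ = a * s := ⟨_, rfl⟩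
  rw [← hρ] at hodd ⊢
  have hinv : a * ρ * a⁻¹ = ρ⁻¹ := by
    rw [hρ, mul_inv_rev, inv_self hD hsD, hainv]
    calc a * (a * s) * a = (a * a) * s * a := by group
      _ = s * a := by rw [haa, one_mul]
  by_cases hz : ρ ^ z = 1
  · rw [hz]
    simp
  · obtain ⟨k, hk⟩ := hodd
    obtain ⟨g, hg⟩ : ∃ g, g = ρ ^ ((k + 1 : ℤ) * z) := ⟨_, rfl⟩
    have hgg : g * g = ρ ^ z := by
      rw [hg, ← zpow_add]
      have h1 : ((k : ℤ) + 1) * z + ((k : ℤ) + 1) * z = (((2 * k + 1 : ℕ) : ℤ) + 1) * z := by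
        push_cast; ring
      rw [h1, ← hk, zpow_mul, zpow_add, zpow_natCast, pow_orderOf_eq_one, one_mul, zpow_one]
    have hgc : a * g * a⁻¹ = g⁻¹ := by
      rw [hg]; exact conj_zpow_inv hinv _
    obtain ⟨t, ht⟩ : ∃ t, t = ρ ^ z * a := ⟨_, rfl⟩
    have htconj : t = g * a * g⁻¹ := by
      have h1 : a * g⁻¹ = g * a := by
        have : a * g = g⁻¹ * a := by
          calc a * g = (a * g * a⁻¹) * a := by group
            _ = g⁻¹ * a := by rw [hgc]
        calc a * g⁻¹ = g * (g⁻¹ * a) * g⁻¹ := by group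
          _ = g * (a * g) * g⁻¹ := by rw [this]
          _ = g * a := by group
      rw [ht, ← hgg, mul_assoc, mul_assoc, h1]
    have htD : t ∈ D := by
      rw [htconj]; exact hD.conj_mem a ha g
    have hta : a ≠ t := by
      intro h
      apply hz
      rw [ht] at h
      calc ρ ^ z = (ρ ^ z * a) * a⁻¹ := by group
        _ = a * a⁻¹ := by rw [← h]
        _ = 1 := by group
    have hat : a * t = (ρ ^ z)⁻¹ := by
      rw [ht, ← conj_zpow_inv hinv z, hainv]
      group
    have hoddt : Odd (orderOf (a * t)) := by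
      rw [hat, orderOf_inv]
      have h1 : (ρ ^ z) ^ (2 * k + 1) = 1 := by
        rw [← zpow_natCast, ← zpow_mul, mul_comm, zpow_mul, zpow_natCast, ← hk,
          pow_orderOf_eq_one, one_zpow]
      exact Odd.of_dvd_nat ⟨k, rfl⟩ (orderOf_dvd_of_pow_eq_one h1)
    have h4 := four_of_adj hD he hea hprod ⟨ha, htD, hta, hoddt⟩ hnot
    have htinv := inv_self hD htD
    have hconj : t * e * t⁻¹ = ρ ^ z * e * (ρ ^ z)⁻¹ := by
      rw [ht]
      calc ρ ^ z * a * e * (ρ ^ z * a)⁻¹ = ρ ^ z * (a * e) * a⁻¹ * (ρ ^ z)⁻¹ := by group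
        _ = ρ ^ z * (e * a) * a⁻¹ * (ρ ^ z)⁻¹ := by rw [hea]
        _ = ρ ^ z * e * (ρ ^ z)⁻¹ := by group
    rw [← hconj]
    obtain ⟨x, hx⟩ : ∃ x, x = t * e * t⁻¹ := ⟨_, rfl⟩
    rw [← hx]
    have hxx : x * x = 1 := by
      rw [hx]
      calc t * e * t⁻¹ * (t * e * t⁻¹) = t * (e * e) * t⁻¹ := by group
        _ = 1 := by rw [hee]; group
    have hte : (t * e) ^ 2 = x * e := by
      rw [hx, pow_two, htinv]
      group
    have h5 : (x * e) * (x * e) = 1 := by
      rw [← hte, ← pow_two, ← pow_mul]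
      have : (2 * 2 : ℕ) = orderOf (t * e) := by rw [h4]
      rw [this, pow_orderOf_eq_one]
    show e * x = x * e
    calc e * x = (x * x) * (e * x) * (e * e) := by rw [hxx, hee, one_mul, mul_one]
      _ = x * ((x * e) * (x * e)) * e := by group
      _ = x * e := by rw [h5, mul_one]

end Cfsg.Agent.Lib.Helper7.RootInv
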