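import Mathlib
import Cfsg.Agent.Lib.Helper7.RootInv4

set_option autoImplicit false

/-!
# Root involutions: the product of two commuting members lies in the component of each
-/

namespace Cfsg.Agent.Lib.Helper7.RootInv

open Cfsg Relation

variable {G : Type*} [Group G] {D : Set G}

/-- Let `a, e, e a` be commuting members of `D`, `a` with a neighbour, and `e` outside the
component of `a`. Then `e a` lies in the component of `a`. -/
theorem prod_mem_comp (hD : IsRootInvolutionSet D) {a e s : G} (he : e ∈ D)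
    (hea : e * a = a * e) (hprod : e * a ∈ D) (hs : OddAdj D a s)
    (hnot : ¬ ReflTransGen (OddAdj D) a e) : ReflTransGen (OddAdj D) a (e * a) := by
  have h4 := four_of_adj hD he hea hprod hs hnot
  have hcz := commute_conj_zpow hD he hea hprod hs hnot
  obtain ⟨ha, hsD, hsa, hodd⟩ := hs
  have haa := sq_one hD ha
  have hss := sq_one hD hsD
  have hee := sq_one hD he
  have hainv := inv_self hD ha
  obtain ⟨ρ, hρ⟩ : ∃ ρ, ρ = a * s := ⟨_, rfl⟩
  rw [← hρ] at hodd hcz
  have hx : (e * a) * s = e * ρ := by rw [hρ, mul_assoc]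
  -- pairwise commuting conjugates
  have hcomm : ∀ i j : ℕ, Commute (ρ ^ i * e * (ρ ^ i)⁻¹) (ρ ^ j * e * (ρ ^ j)⁻¹) := by
    intro i j
    have h1 := hcz ((j : ℤ) - i)
    have h2 : ρ ^ j * e * (ρ ^ j)⁻¹ =
        ρ ^ i * (ρ ^ ((j : ℤ) - i) * e * (ρ ^ ((j : ℤ) - i))⁻¹) * (ρ ^ i)⁻¹ := by
      rw [zpow_sub, zpow_natCast, zpow_natCast]
      group
    rw [h2]
    have h3 : (ρ ^ i * e * (ρ ^ i)⁻¹) *
        (ρ ^ i * (ρ ^ ((j : ℤ) - i) * e * (ρ ^ ((j : ℤ) - i))⁻¹) * (ρ ^ i)⁻¹) =
        (ρ ^ i * (ρ ^ ((j : ℤ) - i) * e * (ρ ^ ((j : ℤ) - i))⁻¹) * (ρ ^ i)⁻¹) *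
        (ρ ^ i * e * (ρ ^ i)⁻¹) := by
      generalize ρ ^ ((j : ℤ) - i) * e * (ρ ^ ((j : ℤ) - i))⁻¹ = y at h1
      calc (ρ ^ i * e * (ρ ^ i)⁻¹) * (ρ ^ i * y * (ρ ^ i)⁻¹)
          = ρ ^ i * (e * y) * (ρ ^ i)⁻¹ := by group
        _ = ρ ^ i * (y * e) * (ρ ^ i)⁻¹ := by rw [h1.eq]
        _ = (ρ ^ i * y * (ρ ^ i)⁻¹) * (ρ ^ i * e * (ρ ^ i)⁻¹) := by group
    exact h3
  have hpow : (e * ρ) ^ (2 * orderOf ρ) = 1 :=
    mul_pow_two_mul e ρ (orderOf ρ) (pow_orderOf_eq_one ρ) hee hcomm
  have hadj : OddAdj D s (e * a) := by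
    refine ⟨hsD, hprod, ?_, ?_⟩
    · intro h
      -- `a * s = e` has order two
      have h1 : ρ = e := by
        rw [hρ, h, ← mul_assoc, ← hea, mul_assoc, haa, mul_one]
      rw [h1, hD.orderOf_eq e he] at hodd
      exact absurd hodd (by decide)
    · rw [orderOf_mul_swap]
      rcases hD.pair (e * a) hprod s hsD with h | h | h
      · exfalso
        -- then `(s e)² = ρ⁻²`
        have hc1 : (e * a) * a = a * (e * a) := by rw [← mul_assoc a e a, ← hea]
        have h1 : (s * e) ^ 2 = (ρ⁻¹) ^ 2 := by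
          have hρinv : ρ⁻¹ = s * a := by
            rw [hρ, mul_inv_rev, inv_self hD hsD, hainv]
          have he' : e = (e * a) * a := by rw [mul_assoc, haa, mul_one]
          rw [hρinv, pow_two, pow_two]
          generalize e * a = c at h hc1 he' hprod
          have hcc : c * c = 1 := sq_one hD hprod
          rw [he']
          calc s * (c * a) * (s * (c * a)) = (s * c) * (a * s) * (c * a) := by group
            _ = (c * s) * (a * s) * (c * a) := by rw [h]
            _ = c * s * a * (s * c) * a := by group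
            _ = c * s * a * (c * s) * a := by rw [h]
            _ = c * s * (a * c) * s * a := by group
            _ = c * s * (c * a) * s * a := by rw [hc1]
            _ = c * (s * c) * a * s * a := by group
            _ = c * (c * s) * a * s * a := by rw [h]
            _ = (c * c) * (s * a * (s * a)) := by group
            _ = s * a * (s * a) := by rw [hcc, one_mul]
        have h2 : orderOf ((s * e) ^ 2) = 2 := by
          rw [orderOf_pow' (s * e) (by norm_num : (2 : ℕ) ≠ 0), h4]
          rfl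
        rw [h1] at h2
        have h3 : Odd (orderOf ((ρ⁻¹) ^ 2)) :=
          Odd.of_dvd_nat (by rwa [orderOf_inv]) (orderOf_pow_dvd 2)
        rw [h2] at h3
        exact absurd h3 (by decide)
      · exact h
      · exfalso
        rw [hx] at h
        have h1 := orderOf_dvd_of_pow_eq_one hpow
        rw [h.1] at h1
        obtain ⟨k, hk⟩ := hodd
        rw [hk] at h1
        omega
  exact ReflTransGen.tail (ReflTransGen.single ⟨ha, hsD, hsa, by rw [← hρ]; exact hodd⟩) hadj

/-- Let `a` have a neighbour and `e` be a non-isolated member of `D` commuting with `a`, different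
from `a`, with `e a ∈ D`; then `e` lies in the component of `a`. -/
theorem partner_mem_comp (hD : IsRootInvolutionSet D) {a e s f : G}
    (hea : e * a = a * e) (hprod : e * a ∈ D) (hs : OddAdj D a s) (hf : OddAdj D e f) :
    ReflTransGen (OddAdj D) a e := by
  by_contra hnot
  have ha : a ∈ D := hs.1
  have he : e ∈ D := hf.1
  have h1 := prod_mem_comp hD he hea hprod hs hnot
  have hnot' : ¬ ReflTransGen (OddAdj D) e a := fun h => hnot (reach_symm h)
  have hprod' : a * e ∈ D := by rw [← hea]; exact hprod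
  have h2 := prod_mem_comp hD ha hea.symm hprod' hf hnot'
  rw [← hea] at h2
  exact hnot (h1.trans (reach_symm h2))

end Cfsg.Agent.Lib.Helper7.RootInv
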