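import Mathlib
import Cfsg.Agent.Lib.Helper7.RootInv5
import Cfsg.Agent.Lib.Lead.Core
import Cfsg.Agent.S0199

set_option autoImplicit false

/-!
# Root involutions: the isolated vertices of the odd-order-product graph
-/

namespace Cfsg.Agent.Lib.Helper7.RootInv

open Cfsg Relation

variable {G : Type*} [Group G] {D : Set G}

theorem isPGroup_zpowers_of_sq {w : G} (hw : w * w = 1) : IsPGroup 2 ↥(Subgroup.zpowers w) := by
  rintro ⟨x, hx⟩
  obtain ⟨k, rfl⟩ := Subgroup.mem_zpowers_iff.mp hx
  refine ⟨1, Subtype.ext ?_⟩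
  simp only [pow_one, Subgroup.coe_pow, Subgroup.coe_one]
  rw [← zpow_natCast, ← zpow_mul, mul_comm, zpow_mul, zpow_natCast, pow_two, hw, one_zpow]

/-- two involutions whose product has order dividing four generate a 2-group -/
theorem isPGroup_sup_zpowers {w w' : G} (hw : w * w = 1) (hw' : w' * w' = 1)
    (h4 : (w * w') ^ 4 = 1) : IsPGroup 2 ↥(Subgroup.zpowers w ⊔ Subgroup.zpowers w') := by
  have hwinv : w⁻¹ = w := inv_eq_of_mul_eq_one_right hw
  have hw'inv : w'⁻¹ = w' := inv_eq_of_mul_eq_one_right hw'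
  have h1 : IsPGroup 2 ↥(Subgroup.zpowers w) := isPGroup_zpowers_of_sq hw
  have h2 : IsPGroup 2 ↥(Subgroup.zpowers (w * w')) := by
    rintro ⟨x, hx⟩
    obtain ⟨k, rfl⟩ := Subgroup.mem_zpowers_iff.mp hx
    refine ⟨2, Subtype.ext ?_⟩
    simp only [Subgroup.coe_pow, Subgroup.coe_one]
    rw [← zpow_natCast, ← zpow_mul, mul_comm, zpow_mul, zpow_natCast]
    norm_num
    rw [h4, one_zpow]
  have h3 : Subgroup.zpowers w ≤ Subgroup.normalizer (Subgroup.zpowers (w * w') : Set G) := by
    rw [Subgroup.zpowers_le]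
    rw [Subgroup.mem_normalizer_iff]
    have key : ∀ x : G, x ∈ Subgroup.zpowers (w * w') → w * x * w⁻¹ ∈ Subgroup.zpowers (w * w') := by
      intro x hx
      obtain ⟨k, rfl⟩ := Subgroup.mem_zpowers_iff.mp hx
      have : w * (w * w') ^ k * w⁻¹ = ((w * w') ^ k)⁻¹ := by
        have h := map_zpow (MulAut.conj w) (w * w') k
        simp only [MulAut.conj_apply] at h
        rw [h]
        have : w * (w * w') * w⁻¹ = (w * w')⁻¹ := by
          rw [mul_inv_rev, hwinv, hw'inv, ← mul_assoc, hw, one_mul]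
        rw [this, inv_zpow]
      rw [this]
      exact Subgroup.inv_mem _ (Subgroup.zpow_mem_zpowers _ k)
    intro x
    constructor
    · exact key x
    · intro hx
      have := key _ hx
      rw [hwinv] at this
      have e : w * (w * x * w) * w = x := by
        calc w * (w * x * w) * w = (w * w) * x * (w * w) := by group
          _ = x := by rw [hw, one_mul, mul_one]
      rwa [e] at this
  have h5 := IsPGroup.to_sup_of_normal_right' h1 h2 h3
  refine h5.to_le ?_
  rw [sup_le_iff]
  refine ⟨le_sup_left, ?_⟩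
  rw [Subgroup.zpowers_le]
  have e : w' = w * (w * w') := by rw [← mul_assoc, hw, one_mul]
  have hm1 : w ∈ Subgroup.zpowers w ⊔ Subgroup.zpowers (w * w') :=
    Subgroup.mem_sup_left (Subgroup.mem_zpowers w)
  have hm2 : w * w' ∈ Subgroup.zpowers w ⊔ Subgroup.zpowers (w * w') :=
    Subgroup.mem_sup_right (Subgroup.mem_zpowers (w * w'))
  have := Subgroup.mul_mem _ hm1 hm2
  rwa [← e] at this

/-- an isolated member of `D` lies in `O₂(G)` -/
theorem isolated_mem_pCore [Finite G] (hD : IsRootInvolutionSet D) {w : G}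
    (hw : IsIsolatedElem (OddAdj D) D w) : w ∈ Cfsg.pCore 2 G := by
  have : Fact (Nat.Prime 2) := ⟨Nat.prime_two⟩
  have hww := sq_one hD hw.1
  have hpair : ∀ g : G, IsPGroup 2 ↥(Subgroup.zpowers w ⊔
      (Subgroup.zpowers w).map (MulAut.conj g).toMonoidHom) := by
    intro g
    have hw' : g * w * g⁻¹ ∈ D := hD.conj_mem w hw.1 g
    have e : (Subgroup.zpowers w).map (MulAut.conj g).toMonoidHom =
        Subgroup.zpowers (g * w * g⁻¹) := by
      rw [MonoidHom.map_zpowers]
      rfl
    rw [e]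
    apply isPGroup_sup_zpowers hww (sq_one hD hw')
    by_cases hne : w = g * w * g⁻¹
    · rw [← hne, hww, one_pow]
    · rcases hD.pair w hw.1 _ hw' with h | h | h
      · have : (w * (g * w * g⁻¹)) ^ 2 = 1 := by
          rw [pow_two]
          generalize g * w * g⁻¹ = y at h hw'
          calc w * y * (w * y) = w * (y * w) * y := by group
            _ = w * (w * y) * y := by rw [h]
            _ = (w * w) * (y * y) := by group
            _ = 1 := by rw [hww, sq_one hD hw', one_mul]
        have e4 : (4 : ℕ) = 2 * 2 := rfl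
        rw [e4, pow_mul, this, one_pow]
      · exact absurd ⟨hw.1, hw', hne, h⟩ (hw.2 _).1
      · rw [← h.1, pow_orderOf_eq_one]
  have hX : IsPGroup 2 ↥(Subgroup.zpowers w) := isPGroup_zpowers_of_sq hww
  obtain ⟨N, hN, hNp, hle⟩ := Cfsg.Agent.S0199.result (Subgroup.zpowers w) hX hpair
  exact Cfsg.Agent.Lib.Lead.le_pCore hN hNp (hle (Subgroup.mem_zpowers w))

/-- an element of odd order of `O₂(G)` is trivial -/
theorem eq_one_of_mem_pCore_of_odd {x : G} (hx : x ∈ Cfsg.pCore 2 G) (hodd : Odd (orderOf x)) :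
    x = 1 := by
  obtain ⟨k, hk⟩ := Cfsg.Agent.Lib.Lead.pCore_isPGroup (G := G) 2 ⟨x, hx⟩
  have hk' : x ^ 2 ^ k = 1 := by
    have := congrArg Subtype.val hk
    simpa using this
  have hdvd : orderOf x ∣ 2 ^ k := orderOf_dvd_of_pow_eq_one hk'
  have hcop : Nat.Coprime (orderOf x) (2 ^ k) :=
    Nat.Coprime.pow_right k hodd.coprime_two_right
  exact orderOf_eq_one_iff.mp (Nat.Coprime.eq_one_of_dvd hcop hdvd)

/-- a member of `D` lying in `O₂(G)` is isolated -/
theorem isolated_of_mem_pCore (hD : IsRootInvolutionSet D) {d : G} (hd : d ∈ D)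
    (hdO : d ∈ Cfsg.pCore 2 G) : IsIsolatedElem (OddAdj D) D d := by
  have key : ∀ b, ¬ OddAdj D d b := by
    rintro b ⟨-, hb, hne, hodd⟩
    have hbinv := inv_self hD hb
    have h1 : (d * b) ^ 2 ∈ Cfsg.pCore 2 G := by
      have e : (d * b) ^ 2 = d * (b * d * b⁻¹) := by rw [pow_two, hbinv]; group
      rw [e]
      exact Subgroup.mul_mem _ hdO ((Cfsg.Agent.Lib.Lead.pCore_normal 2).conj_mem _ hdO b)
    have h2 : Odd (orderOf ((d * b) ^ 2)) := Odd.of_dvd_nat hodd (orderOf_pow_dvd 2)
    have h3 := eq_one_of_mem_pCore_of_odd h1 h2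
    have h4 : orderOf (d * b) ∣ 2 := orderOf_dvd_of_pow_eq_one h3
    have h5 : orderOf (d * b) = 1 := by
      rcases (Nat.dvd_prime Nat.prime_two).mp h4 with h | h
      · exact h
      · rw [h] at hodd; exact absurd hodd (by decide)
    have h6 : d * b = 1 := orderOf_eq_one_iff.mp h5
    apply hne
    have := eq_inv_of_mul_eq_one_left h6
    rw [this, hbinv]
  exact ⟨hd, fun b => ⟨key b, fun h => key b (oddAdj_symm h)⟩⟩

end Cfsg.Agent.Lib.Helper7.RootInv
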