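import Mathlib
import Cfsg.Agent.Lib.Helper7.PCompTr
import Cfsg.Agent.Lib.Helper3.PComp7
import Cfsg.Agent.Lib.Helper3.Components2
import Cfsg.Prelude.Def_Balance

set_option autoImplicit false
set_option maxHeartbeats 800000

/-!
S1775: a 2-component of `L_{2'}(C_G(x)) ∩ C_G(y)` maps to a component of `C_Q(x̄)`, `Q = C_G(y)/O(C_G(y))`,
when `Q` has the B-property; and it centralises invariant odd-order subgroups modulo `O(C_G(y))`.
-/

namespace Cfsg.Agent.Lib.Helper7.S1775Main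
open Cfsg Cfsg.Agent.Lib.Helper3 Cfsg.Agent.Lib.Helper7.PCompTr
open scoped commutatorElement

section general
variable {G : Type*} [Group G] [Finite G]

/-- the centre lies in the generalized Fitting subgroup -/
theorem center_le_generalizedFittingSubgroup :
    Subgroup.center G ≤ Cfsg.generalizedFittingSubgroup G := by
  refine le_trans ?_ (le_sup_right : Cfsg.fittingSubgroup G ≤ _)
  apply le_sSup
  refine ⟨inferInstance, ?_⟩
  exact ⟨⟨1, Subgroup.upperCentralSeries_one_eq_top_iff.mpr inferInstance⟩⟩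

theorem centralizer_ne_top_of_simple_fstar
    (hF : IsSimpleGroup ↥(Cfsg.generalizedFittingSubgroup G))
    (hF' : ¬ IsMulCommutative ↥(Cfsg.generalizedFittingSubgroup G))
    (y : G) (hy : orderOf y = 2) : Subgroup.centralizer ({y} : Set G) ≠ ⊤ := by
  intro htop
  have hyc : y ∈ Subgroup.center G := by
    rw [Subgroup.mem_center_iff]
    intro g
    have : g ∈ Subgroup.centralizer ({y} : Set G) := by rw [htop]; exact Subgroup.mem_top g
    exact Subgroup.mem_centralizer_singleton_iff.mp this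
  have hyF : y ∈ Cfsg.generalizedFittingSubgroup G := center_le_generalizedFittingSubgroup hyc
  have hcen : (⟨y, hyF⟩ : ↥(Cfsg.generalizedFittingSubgroup G)) ∈
      Subgroup.center ↥(Cfsg.generalizedFittingSubgroup G) := by
    rw [Subgroup.mem_center_iff]
    intro g
    apply Subtype.ext
    exact Subgroup.mem_center_iff.mp hyc g.1
  rcases hF.eq_bot_or_eq_top_of_normal (Subgroup.center ↥(Cfsg.generalizedFittingSubgroup G))
    inferInstance with h | h
  · rw [h, Subgroup.mem_bot] at hcen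
    have : y = 1 := congrArg Subtype.val hcen
    rw [this, orderOf_one] at hy
    omega
  · apply hF'
    refine ⟨⟨fun a b => ?_⟩⟩
    have : b ∈ Subgroup.center ↥(Cfsg.generalizedFittingSubgroup G) := by
      rw [h]; exact Subgroup.mem_top b
    exact Subgroup.mem_center_iff.mp this a

end general

section core
variable {G : Type*} [Group G] [Finite G]

theorem card_subgroupOf_dvd (H K : Subgroup G) : Nat.card (H.subgroupOf K) ∣ Nat.card H := by
  rw [← Subgroup.inf_subgroupOf_right,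
    Nat.card_congr (Subgroup.subgroupOfEquivOfLe (inf_le_right : H ⊓ K ≤ K)).toEquiv]
  exact Subgroup.card_dvd_of_le inf_le_left

theorem core (Cy D : Subgroup G) (x : G) (hx : orderOf x = 2) (hxCy : x ∈ Cy)
    (hD1 : D ≤ Subgroup.centralizer ({x} : Set G)) (hD2 : D ≤ Cy)
    (hD3 : ∀ g ∈ Subgroup.centralizer ({x} : Set G) ⊓ Cy, ∀ d ∈ D, g * d * g⁻¹ ∈ D)
    (hB : Cfsg.HasBProperty (↥Cy ⧸ Cfsg.oddCore ↥Cy))
    (J : Subgroup ↥D) (hJ : Cfsg.IsPComponent 2 J) :
    Cfsg.IsComponent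
        ((((J.map D.subtype).subgroupOf Cy).map (QuotientGroup.mk' (Cfsg.oddCore ↥Cy))).subgroupOf
          (Subgroup.centralizer ({(QuotientGroup.mk' (Cfsg.oddCore ↥Cy)) ⟨x, hxCy⟩} : Set _))) ∧
      ∀ E : Subgroup G, E ≤ Subgroup.centralizer ({x} : Set G) ⊓ Cy → Odd (Nat.card ↥E) →
        (∀ j ∈ J.map D.subtype, ∀ e ∈ E, j * e * j⁻¹ ∈ E) →
          ⁅J.map D.subtype, E⁆ ≤ (Cfsg.oddCore ↥Cy).map Cy.subtype := by
  classical
  haveI : Fact (Nat.Prime 2) := ⟨Nat.prime_two⟩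
  set W : Subgroup ↥Cy := Cfsg.oddCore ↥Cy with hW
  set π : ↥Cy →* ↥Cy ⧸ W := QuotientGroup.mk' W with hπ
  set x' : ↥Cy := ⟨x, hxCy⟩ with hx'
  set xb : ↥Cy ⧸ W := π x' with hxb
  set Cb : Subgroup (↥Cy ⧸ W) := Subgroup.centralizer ({xb} : Set _) with hCb
  set JG : Subgroup G := J.map D.subtype with hJG
  set Cxy : Subgroup G := Subgroup.centralizer ({x} : Set G) ⊓ Cy with hCxy
  have hWodd : (Nat.card W).Coprime 2 := Cfsg.Agent.Lib.Helper6.pPrimeCore_coprime 2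
  have hJGD : JG ≤ D := by
    rintro _ ⟨j, _, rfl⟩; exact j.2
  -- the map Φ : C_xy → C_Q(x̄)
  have hcomm : ∀ g : ↥Cxy, (π.comp (Subgroup.inclusion (inf_le_right : Cxy ≤ Cy))) g ∈ Cb := by
    intro g
    apply Subgroup.mem_centralizer_singleton_iff.mpr
    have h1 : g.1 * x = x * g.1 := Subgroup.mem_centralizer_singleton_iff.mp g.2.1
    show π (Subgroup.inclusion (inf_le_right : Cxy ≤ Cy) g) * π x' = π x' * π (Subgroup.inclusion (inf_le_right : Cxy ≤ Cy) g)
    rw [← map_mul, ← map_mul]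
    congr 1
    exact Subtype.ext h1
  set Φ : ↥Cxy →* ↥Cb :=
    (π.comp (Subgroup.inclusion (inf_le_right : Cxy ≤ Cy))).codRestrict Cb hcomm with hΦ
  have hΦval : ∀ g : ↥Cxy, ((Φ g : ↥Cb) : ↥Cy ⧸ W) = π ⟨g.1, g.2.2⟩ := fun g => rfl
  have hx'2 : x' ^ 2 = 1 := by
    apply Subtype.ext
    show x ^ 2 = 1
    rw [← hx]; exact pow_orderOf_eq_one x
  have hΦsurj : Function.Surjective Φ := by
    intro t
    obtain ⟨c, hc⟩ := QuotientGroup.mk'_surjective W t.1
    have hP : IsPGroup 2 (Subgroup.zpowers x') := by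
      apply IsPGroup.of_card (n := 1)
      rw [Nat.card_zpowers, pow_one]
      apply orderOf_eq_prime hx'2
      intro h1
      have : x = 1 := congrArg Subtype.val h1
      rw [this, orderOf_one] at hx; omega
    have hy' : π c ∈ Subgroup.centralizer (((Subgroup.zpowers x').map π : Subgroup _) : Set _) := by
      rw [Subgroup.mem_centralizer_iff]
      rintro _ ⟨u, hu, rfl⟩
      obtain ⟨k, rfl⟩ := Subgroup.mem_zpowers_iff.mp hu
      have h2 : xb * π c = π c * xb := by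
        have h20 : (t : ↥Cy ⧸ W) * xb = xb * (t : ↥Cy ⧸ W) :=
          Subgroup.mem_centralizer_singleton_iff.mp t.2
        rw [hc]; exact h20.symm
      have h3 : Commute xb (π c) := h2
      show π (x' ^ k) * π c = π c * π (x' ^ k)
      rw [map_zpow]
      exact (h3.zpow_left k)
    obtain ⟨c', hc'1, hc'2⟩ := exists_mem_centralizer_of_map_mem_centralizer W hWodd hP hy'
    have h4 : x' * c' = c' * x' :=
      Subgroup.mem_centralizer_iff.mp hc'1 x' (Subgroup.mem_zpowers x')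
    have h5 : (c' : G) ∈ Cxy :=
      Subgroup.mem_inf.mpr ⟨Subgroup.mem_centralizer_singleton_iff.mpr
        (congrArg Subtype.val h4).symm, c'.2⟩
    refine ⟨⟨c'.1, h5⟩, ?_⟩
    apply Subtype.ext
    rw [hΦval]
    show π ⟨c'.1, c'.2⟩ = t.1
    rw [← hc, ← hc'2]
  have hΦker : (Nat.card Φ.ker).Coprime 2 := by
    have hmem : ∀ k : ↥Φ.ker, (⟨(k : ↥Cxy).1, (k : ↥Cxy).2.2⟩ : ↥Cy) ∈ W := by
      intro k
      have h2 := k.2
      rw [MonoidHom.mem_ker] at h2
      have h3 : ((Φ k : ↥Cb) : ↥Cy ⧸ W) = 1 := by rw [h2]; rfl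
      rw [hΦval] at h3
      exact (QuotientGroup.eq_one_iff _).mp h3
    let f : ↥Φ.ker →* ↥W :=
      { toFun := fun k => ⟨⟨(k : ↥Cxy).1, (k : ↥Cxy).2.2⟩, hmem k⟩
        map_one' := rfl
        map_mul' := fun _ _ => rfl }
    have h1 : Nat.card Φ.ker ∣ Nat.card W := by
      apply Subgroup.card_dvd_of_injective f
      intro a b hab
      have h4 : ((a : ↥Cxy) : G) = ((b : ↥Cxy) : G) :=
        congrArg (fun z : ↥W => ((z : ↥Cy) : G)) hab
      exact Subtype.ext (Subtype.ext h4)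
    exact Nat.Coprime.coprime_dvd_left h1 hWodd
  -- H = J viewed in C_xy is a 2-component of C_xy
  set H : Subgroup ↥Cxy := JG.subgroupOf Cxy with hH
  set K : Subgroup ↥Cxy := D.subgroupOf Cxy with hK
  have hKn : K.Normal := by
    refine ⟨fun n hn g => ?_⟩
    have hn' : (n : G) ∈ D := Subgroup.mem_subgroupOf.mp hn
    exact Subgroup.mem_subgroupOf.mpr (hD3 g.1 g.2 n.1 hn')
  have hHK : H ≤ K := by
    intro h hh
    have hh' : (h : G) ∈ JG := Subgroup.mem_subgroupOf.mp hh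
    exact Subgroup.mem_subgroupOf.mpr (hJGD hh')
  let f : ↥K →* ↥D :=
    { toFun := fun z => ⟨((z : ↥Cxy) : G), z.2⟩
      map_one' := rfl
      map_mul' := fun _ _ => rfl }
  have hHKeq : H.subgroupOf K = J.comap f := by
    ext z
    rw [Subgroup.mem_subgroupOf, Subgroup.mem_comap]
    constructor
    · intro hz
      have hz' : (((z : ↥Cxy)) : G) ∈ JG := Subgroup.mem_subgroupOf.mp hz
      obtain ⟨j, hj, hj2⟩ := hz'
      have : f z = j := by
        apply Subtype.ext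
        exact hj2.symm
      rw [this]; exact hj
    · intro h1
      apply Subgroup.mem_subgroupOf.mpr
      exact ⟨f z, h1, rfl⟩
  have hHsn : H.IsSubnormal := by
    apply Subgroup.IsSubnormal.trans hHK _ hKn.isSubnormal
    rw [hHKeq]
    exact hJ.1.comap f
  have hJH : ∀ j : ↥J, (⟨((j : ↥D) : G), ⟨hD1 (j : ↥D).2, hD2 (j : ↥D).2⟩⟩ : ↥Cxy) ∈ H := by
    intro j
    apply Subgroup.mem_subgroupOf.mpr
    exact ⟨j.1, j.2, rfl⟩
  let g₁ : ↥J →* ↥H :=
    { toFun := fun j => ⟨⟨((j : ↥D) : G), ⟨hD1 (j : ↥D).2, hD2 (j : ↥D).2⟩⟩, hJH j⟩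
      map_one' := rfl
      map_mul' := fun _ _ => rfl }
  have hg₁surj : Function.Surjective g₁ := by
    intro h
    have h1 : ((h : ↥Cxy) : G) ∈ JG := Subgroup.mem_subgroupOf.mp h.2
    obtain ⟨j, hj, hj2⟩ := h1
    refine ⟨⟨j, hj⟩, ?_⟩
    apply Subtype.ext
    apply Subtype.ext
    exact hj2
  have hg₁ker : (Nat.card g₁.ker).Coprime 2 := by
    have : g₁.ker = ⊥ := by
      rw [MonoidHom.ker_eq_bot_iff]
      intro a b hab
      have h4 : (((a : ↥J) : ↥D) : G) = (((b : ↥J) : ↥D) : G) :=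
        congrArg (fun z : ↥H => ((z : ↥Cxy) : G)) hab
      exact Subtype.ext (Subtype.ext h4)
    rw [this, Subgroup.card_bot]
    exact Nat.coprime_one_left 2
  have hHcomp : Cfsg.IsPComponent 2 H :=
    isPComponent_of_isPCompGroup hHsn
      (IsPCompGroup.of_surjective (IsPComponent.isPCompGroup hJ) g₁ hg₁surj hg₁ker)
  -- its image T
  set T : Subgroup ↥Cb := ((JG.subgroupOf Cy).map π).subgroupOf Cb with hT
  have hTeq : T = H.map Φ := by
    ext t
    rw [Subgroup.mem_subgroupOf]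
    constructor
    · rintro ⟨c, hc, hc2⟩
      have hc' : (c : G) ∈ JG := hc
      have h1 : (c : G) ∈ Cxy := Subgroup.mem_inf.mpr ⟨hD1 (hJGD hc'), c.2⟩
      refine ⟨⟨c.1, h1⟩, ?_, ?_⟩
      · show (⟨c.1, h1⟩ : ↥Cxy) ∈ JG.subgroupOf Cxy
        exact Subgroup.mem_subgroupOf.mpr hc'
      · apply Subtype.ext
        rw [hΦval]
        exact hc2
    · rintro ⟨g, hg, rfl⟩
      have hg' : ((g : ↥Cxy) : G) ∈ JG := hg
      refine ⟨⟨g.1, g.2.2⟩, ?_, ?_⟩
      · exact Subgroup.mem_subgroupOf.mpr hg'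
      · rw [hΦval]
  have hTcomp2 : Cfsg.IsPComponent 2 T := by
    rw [hTeq]
    exact IsPComponent.map_of_surjective Φ hΦsurj hΦker hHcomp
  -- orderOf xb = 2
  have hxb2 : orderOf xb = 2 := by
    apply orderOf_eq_prime
    · rw [hxb, ← map_pow, hx'2, map_one]
    · intro h1
      have h2 : x' ∈ W := (QuotientGroup.eq_one_iff _).mp h1
      have h3 : orderOf (⟨x', h2⟩ : ↥W) ∣ Nat.card W := orderOf_dvd_natCard _
      have h4 : orderOf (⟨x', h2⟩ : ↥W) = 2 := by
        have e1 : orderOf (⟨x', h2⟩ : ↥W) = orderOf x' := Subgroup.orderOf_mk x' h2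
        have e2 : orderOf x' = orderOf x := Subgroup.orderOf_mk x hxCy
        rw [e1, e2, hx]
      rw [h4] at h3
      have := Nat.Coprime.eq_one_of_dvd hWodd.symm h3
      omega
  -- B-property
  have hQ : Cfsg.oddCore (↥Cy ⧸ W) = ⊥ := pPrimeCore_quotient_eq_bot
  have hBx := hB xb hxb2
  rw [hQ, le_bot_iff, Subgroup.map_eq_bot_iff_of_injective _ (Subgroup.subtype_injective _)] at hBx
  have hTq : Cfsg.IsQuasisimple ↥T := by
    rw [IsPComponent.isQuasisimple_iff hTcomp2, eq_bot_iff, ← hBx]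
    apply Subgroup.commutator_mono (IsPComponent.le_pLayer hTcomp2)
    rw [pPrimeCore_map_subtype_eq_of_isSubnormal hTcomp2.1]
    exact inf_le_left
  have hTcomp : Cfsg.IsComponent T := ⟨hTcomp2.1, hTq⟩
  refine ⟨hTcomp, ?_⟩
  -- (ii)
  intro E hE hEodd hinv
  set Eb : Subgroup ↥Cb := ((E.subgroupOf Cy).map π).subgroupOf Cb with hEb
  have hnorm : T ≤ Subgroup.normalizer (Eb : Set ↥Cb) := by
    intro t ht
    have hconj : ∀ t : ↥Cb, t ∈ T → ∀ e : ↥Cb, e ∈ Eb → t * e * t⁻¹ ∈ Eb := by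
      intro t ht e he
      have ht' : (t : ↥Cy ⧸ W) ∈ (JG.subgroupOf Cy).map π := Subgroup.mem_subgroupOf.mp ht
      have he' : (e : ↥Cy ⧸ W) ∈ (E.subgroupOf Cy).map π := Subgroup.mem_subgroupOf.mp he
      obtain ⟨c, hc, hc2⟩ := ht'
      obtain ⟨d, hd, hd2⟩ := he'
      have hc' : (c : G) ∈ JG := hc
      have hd' : (d : G) ∈ E := hd
      apply Subgroup.mem_subgroupOf.mpr
      refine ⟨c * d * c⁻¹, ?_, ?_⟩
      · exact Subgroup.mem_subgroupOf.mpr (hinv c.1 hc' d.1 hd')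
      · rw [map_mul, map_mul, map_inv, hc2, hd2]; rfl
    rw [Subgroup.mem_normalizer_iff]
    intro e
    constructor
    · intro he; exact hconj t ht e he
    · intro he
      have h1 := hconj t⁻¹ (T.inv_mem ht) _ he
      have h2 : t⁻¹ * (t * e * t⁻¹) * t⁻¹⁻¹ = e := by group
      rw [h2] at h1; exact h1
  have hEbodd : (Nat.card Eb).Coprime 2 := by
    have h1 : Nat.card Eb ∣ Nat.card E :=
      (card_subgroupOf_dvd _ _).trans ((Subgroup.card_map_dvd _ π).trans (card_subgroupOf_dvd _ _))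
    exact Nat.Coprime.coprime_dvd_left h1 (Nat.Coprime.symm (Nat.coprime_two_left.mpr hEodd))
  have hcomm0 : ⁅T, Eb⁆ = ⊥ := by
    rcases IsComponent.le_or_commutator_eq_bot_of_le_normalizer hTcomp hnorm with h1 | h1
    · exfalso
      have h2 : 2 ∣ Nat.card T := IsPComponent.dvd_card hTcomp2
      have h3 : Nat.card T ∣ Nat.card Eb := Subgroup.card_dvd_of_le h1
      have := Nat.Coprime.eq_one_of_dvd hEbodd.symm (h2.trans h3)
      omega
    · exact h1
  rw [Subgroup.commutator_le]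
  intro j hj e he
  have hjCy : j ∈ Cy := hD2 (hJGD hj)
  have heCy : e ∈ Cy := (hE he).2
  have hjb : π ⟨j, hjCy⟩ ∈ Cb := hcomm ⟨j, ⟨hD1 (hJGD hj), hjCy⟩⟩
  have heb : π ⟨e, heCy⟩ ∈ Cb := hcomm ⟨e, hE he⟩
  have hjT : (⟨π ⟨j, hjCy⟩, hjb⟩ : ↥Cb) ∈ T := by
    apply Subgroup.mem_subgroupOf.mpr
    exact ⟨⟨j, hjCy⟩, Subgroup.mem_subgroupOf.mpr hj, rfl⟩
  have heE : (⟨π ⟨e, heCy⟩, heb⟩ : ↥Cb) ∈ Eb := by
    apply Subgroup.mem_subgroupOf.mpr
    exact ⟨⟨e, heCy⟩, Subgroup.mem_subgroupOf.mpr he, rfl⟩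
  have h1 : ⁅(⟨π ⟨j, hjCy⟩, hjb⟩ : ↥Cb), (⟨π ⟨e, heCy⟩, heb⟩ : ↥Cb)⁆ ∈ ⁅T, Eb⁆ :=
    Subgroup.commutator_mem_commutator hjT heE
  rw [hcomm0, Subgroup.mem_bot] at h1
  have h2 : π ⁅(⟨j, hjCy⟩ : ↥Cy), (⟨e, heCy⟩ : ↥Cy)⁆ = 1 := by
    have := congrArg Subtype.val h1
    rw [map_commutatorElement]
    exact this
  have h3 : ⁅(⟨j, hjCy⟩ : ↥Cy), (⟨e, heCy⟩ : ↥Cy)⁆ ∈ W := (QuotientGroup.eq_one_iff _).mp h2
  exact ⟨_, h3, rfl⟩

end core

end Cfsg.Agent.Lib.Helper7.S1775Main
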