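import Mathlib
import Cfsg.Agent.Lib.Lead.S3Defs
import Cfsg.Agent.Lib.Lead.S3Basic
import Cfsg.Agent.Lib.Lead.CoprimeSylow3

/-!
# S4305, package P-S: the structure of a minimal nonabelian `⟨s,t⟩`-invariant `H` (`crit_split`)
-/

set_option autoImplicit false
set_option linter.unusedSectionVars false
set_option linter.unusedVariables false

namespace Cfsg.Agent.Lib.Helper7.S3S

open Cfsg.Agent.Lib.Lead.S3

universe u w

/-- Step 1: a nontrivial finite solvable group has a proper characteristic subgroup whose quotient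
is an `r`-group. -/
theorem exists_char_rpow (G : Type w) [Group G] [Finite G] [Group.IsSolvable G] [Nontrivial G] :
    ∃ (r : ℕ) (K : Subgroup G), r.Prime ∧ K.Characteristic ∧ K ≠ ⊤ ∧
      ∃ e : ℕ, ∀ x : G, x ^ (r ^ e) ∈ K := by
  classical
  have hlt : commutator G < ⊤ := Group.IsSolvable.commutator_lt_top_of_nontrivial G
  have hnt : Nontrivial (Abelianization G) := by
    obtain ⟨x, -, hx⟩ := SetLike.exists_of_lt hlt
    refine ⟨⟨Abelianization.of x, 1, ?_⟩⟩
    intro h1
    apply hx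
    rw [← Abelianization.ker_of G]
    exact h1
  have hn1 : Nat.card (Abelianization G) ≠ 1 := by
    intro h1
    rw [Nat.card_eq_one_iff_unique] at h1
    exact not_subsingleton _ h1.1
  have hn0 : Nat.card (Abelianization G) ≠ 0 := Nat.card_pos.ne'
  have hr : (Nat.card (Abelianization G)).minFac.Prime := Nat.minFac_prime hn1
  have hrn : (Nat.card (Abelianization G)).minFac ∣ Nat.card (Abelianization G) :=
    Nat.minFac_dvd _
  obtain ⟨e, m, hm, hnm⟩ := Nat.exists_eq_pow_mul_and_not_dvd hn0 _ hr.ne_one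
  refine ⟨(Nat.card (Abelianization G)).minFac,
    ((powMonoidHom m : Abelianization G →* Abelianization G).comp Abelianization.of).ker,
    hr, ?_, ?_, e, ?_⟩
  · rw [Subgroup.characteristic_iff_comap_le]
    intro ϕ x hx
    rw [Subgroup.mem_comap, MonoidHom.mem_ker] at hx
    rw [MonoidHom.mem_ker]
    simp only [MonoidHom.comp_apply, powMonoidHom_apply, MulEquiv.coe_toMonoidHom] at hx ⊢
    have h2 : ϕ.abelianizationCongr (Abelianization.of x ^ m) = 1 := by
      rw [map_pow, abelianizationCongr_of]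
      exact hx
    exact (MulEquiv.map_eq_one_iff _).1 h2
  · intro htop
    have : Fact (Nat.card (Abelianization G)).minFac.Prime := ⟨hr⟩
    obtain ⟨g, hg⟩ := exists_prime_orderOf_dvd_card' (G := Abelianization G) _ hrn
    obtain ⟨x, rfl⟩ := QuotientGroup.mk_surjective g
    have hx : x ∈ ((powMonoidHom m : Abelianization G →* Abelianization G).comp
        Abelianization.of).ker := by rw [htop]; exact Subgroup.mem_top x
    rw [MonoidHom.mem_ker] at hx
    simp only [MonoidHom.comp_apply, powMonoidHom_apply] at hx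
    apply hm
    rw [← hg]
    exact orderOf_dvd_of_pow_eq_one hx
  · intro x
    rw [MonoidHom.mem_ker]
    simp only [MonoidHom.comp_apply, powMonoidHom_apply]
    rw [map_pow, ← pow_mul, ← hnm]
    exact pow_card_eq_one'

variable {T : Type w} [Group T] [Finite T]

/-- among the elements of `K` not commuting with `y`, one has prime power order. -/
theorem exists_prime_pow_noncomm (K : Subgroup T) (y : T) :
    ∀ n : ℕ, ∀ x ∈ K, orderOf x = n → x * y ≠ y * x →
      ∃ x' ∈ K, x' * y ≠ y * x' ∧ ∃ q k : ℕ, q.Prime ∧ x' ^ (q ^ k) = 1 := by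
  intro n
  induction n using Nat.strong_induction_on with
  | _ n ih =>
    intro x hxK hxn hxy
    have hn0 : n ≠ 0 := by
      rw [← hxn]; exact (orderOf_pos x).ne'
    have hn1 : n ≠ 1 := by
      intro h1
      rw [h1, orderOf_eq_one_iff] at hxn
      apply hxy
      rw [hxn, one_mul, mul_one]
    have hq : n.minFac.Prime := Nat.minFac_prime hn1
    obtain ⟨k, b, hb, hnb⟩ := Nat.exists_eq_pow_mul_and_not_dvd hn0 _ hq.ne_one
    by_cases hb1 : b = 1
    · refine ⟨x, hxK, hxy, n.minFac, k, hq, ?_⟩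
      rw [hb1, mul_one] at hnb
      rw [← hnb, ← hxn]
      exact pow_orderOf_eq_one x
    · have hb0 : b ≠ 0 := by
        rintro rfl
        exact hb (dvd_zero _)
      have hk0 : k ≠ 0 := by
        rintro rfl
        rw [pow_zero, one_mul] at hnb
        exact hb (hnb ▸ Nat.minFac_dvd n)
      have ha1 : 1 < n.minFac ^ k := Nat.one_lt_pow hk0 hq.one_lt
      have hblt : b < n := by
        rw [hnb]
        calc b = 1 * b := (one_mul b).symm
          _ < n.minFac ^ k * b := Nat.mul_lt_mul_of_pos_right ha1 (Nat.pos_of_ne_zero hb0)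
      have halt : n.minFac ^ k < n := by
        refine Nat.lt_of_lt_of_eq ?_ hnb.symm
        calc n.minFac ^ k = n.minFac ^ k * 1 := (mul_one _).symm
          _ < n.minFac ^ k * b := Nat.mul_lt_mul_of_pos_left (by omega) (by omega)
      have hcop : Nat.Coprime (n.minFac ^ k) b :=
        Nat.Coprime.pow_left k ((Nat.Prime.coprime_iff_not_dvd hq).2 hb)
      by_cases h1 : x ^ (n.minFac ^ k) * y = y * x ^ (n.minFac ^ k)
      · by_cases h2 : x ^ b * y = y * x ^ b
        · exfalso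
          apply hxy
          have hbez := Nat.gcd_eq_gcd_ab (n.minFac ^ k) b
          rw [hcop] at hbez
          have hx : x = (x ^ (n.minFac ^ k)) ^ (Nat.gcdA (n.minFac ^ k) b) *
              (x ^ b) ^ (Nat.gcdB (n.minFac ^ k) b) := by
            rw [← zpow_natCast, ← zpow_natCast, ← zpow_mul, ← zpow_mul, ← zpow_add, ← hbez]
            simp
          have hc : Commute x y := by
            rw [hx]
            exact Commute.mul_left (Commute.zpow_left h1 _) (Commute.zpow_left h2 _)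
          exact hc
        · have hord : orderOf (x ^ b) < n := by
            refine lt_of_le_of_lt (Nat.le_of_dvd (by omega) (orderOf_dvd_of_pow_eq_one ?_)) halt
            rw [← pow_mul, mul_comm, ← hnb, ← hxn]
            exact pow_orderOf_eq_one x
          exact ih _ hord (x ^ b) (K.pow_mem hxK b) rfl h2
      · have hord : orderOf (x ^ (n.minFac ^ k)) < n := by
          refine lt_of_le_of_lt (Nat.le_of_dvd (by omega) (orderOf_dvd_of_pow_eq_one ?_)) hblt
          rw [← pow_mul, ← hnb, ← hxn]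
          exact pow_orderOf_eq_one x
        exact ih _ hord (x ^ (n.minFac ^ k)) (K.pow_mem hxK _) rfl h1

/-- conjugation-stability passes to joins. -/
theorem conj_mem_sup {Q R : Subgroup T} {a : T} (hQ : ∀ x ∈ Q, a * x * a⁻¹ ∈ Q)
    (hR : ∀ x ∈ R, a * x * a⁻¹ ∈ R) : ∀ x ∈ Q ⊔ R, a * x * a⁻¹ ∈ Q ⊔ R := by
  have hle : Q ⊔ R ≤ (Q ⊔ R).comap (MulAut.conj a).toMonoidHom := by
    refine sup_le ?_ ?_
    · intro x hx
      rw [Subgroup.mem_comap]
      exact (le_sup_left : Q ≤ Q ⊔ R) (hQ x hx)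
    · intro x hx
      rw [Subgroup.mem_comap]
      exact (le_sup_right : R ≤ Q ⊔ R) (hR x hx)
  intro x hx
  exact hle hx

/-- two commuting abelian subgroups generate an abelian subgroup. -/
theorem comm_sup {Q R : Subgroup T} (hQ : ∀ x ∈ Q, ∀ y ∈ Q, x * y = y * x)
    (hR : ∀ x ∈ R, ∀ y ∈ R, x * y = y * x) (hQR : ∀ x ∈ Q, ∀ y ∈ R, x * y = y * x) :
    ∀ x ∈ Q ⊔ R, ∀ y ∈ Q ⊔ R, x * y = y * x := by
  have h1 : Q ⊔ R ≤ Subgroup.centralizer (Q : Set T) := by
    refine sup_le ?_ ?_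
    · intro x hx y hy
      exact hQ y hy x hx
    · intro x hx y hy
      exact hQR y hy x hx
  have h2 : Q ⊔ R ≤ Subgroup.centralizer (R : Set T) := by
    refine sup_le ?_ ?_
    · intro x hx y hy
      exact (hQR x hx y hy).symm
    · intro x hx y hy
      exact hR y hy x hx
  have h3 : Q ⊔ R ≤ Subgroup.centralizer ((Q ⊔ R : Subgroup T) : Set T) := by
    refine sup_le ?_ ?_
    · intro x hx y hy
      exact (h1 hy x hx).symm
    · intro x hx y hy
      exact (h2 hy x hx).symm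
  intro x hx y hy
  exact (h3 hx y hy).symm


/-- Step 1 inside `T`: a nontrivial solvable normal subgroup `H` has a proper subgroup `K`,
normal in `T`, with `H/K` an `r`-group. -/
theorem exists_normal_rpow {H : Subgroup T} (hHn : H.Normal) (hsolv : Group.IsSolvable H)
    (hne : H ≠ ⊥) :
    ∃ (r : ℕ) (K : Subgroup T), r.Prime ∧ K.Normal ∧ K ≤ H ∧ K ≠ H ∧
      ∃ e : ℕ, ∀ x ∈ H, x ^ (r ^ e) ∈ K := by
  have hnt : Nontrivial H := (Subgroup.nontrivial_iff_ne_bot H).2 hne
  obtain ⟨r, K₀, hr, hchar, htop, e, he⟩ := exists_char_rpow H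
  refine ⟨r, K₀.map H.subtype, hr, ?_, Subgroup.map_subtype_le K₀, ?_, e, ?_⟩
  · exact @ConjAct.normal_of_characteristic_of_normal _ _ H hHn K₀ hchar
  · intro h
    apply htop
    rw [eq_top_iff]
    intro y _
    have hy : (y : T) ∈ K₀.map H.subtype := by rw [h]; exact y.2
    obtain ⟨z, hz, hzy⟩ := hy
    have : z = y := Subtype.ext hzy
    rw [← this]
    exact hz
  · intro x hx
    exact ⟨⟨x, hx⟩ ^ (r ^ e), he ⟨x, hx⟩, by simp⟩

/-- `K ⊔ R = H` for `K ⊴ H` of `r`-power index and a Sylow `r`-subgroup `R`. -/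
theorem sup_sylow_eq {H K : Subgroup T} (hKn : K.Normal) (hKH : K ≤ H) {r : ℕ} [Fact r.Prime]
    {e : ℕ} (he : ∀ x ∈ H, x ^ (r ^ e) ∈ K) (P : Sylow r H) :
    K ⊔ (P : Subgroup H).map H.subtype = H := by
  have hKn' : (K.subgroupOf H).Normal := hKn.subgroupOf H
  have hpq : IsPGroup r (↥H ⧸ K.subgroupOf H) := by
    intro y
    induction y using QuotientGroup.induction_on with
    | H x =>
      refine ⟨e, ?_⟩
      rw [← QuotientGroup.mk_pow, QuotientGroup.eq_one_iff, Subgroup.mem_subgroupOf]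
      exact he _ x.2
  obtain ⟨n, hn⟩ := IsPGroup.iff_card.1 hpq
  have hidx : (K.subgroupOf H).index = r ^ n := by
    rw [Subgroup.index_eq_card]; exact hn
  have h1 : (K.subgroupOf H ⊔ (P : Subgroup H)).index ∣ r ^ n := by
    rw [← hidx]; exact Subgroup.index_dvd_of_le le_sup_left
  have h2 : (K.subgroupOf H ⊔ (P : Subgroup H)).index ∣ (P : Subgroup H).index :=
    Subgroup.index_dvd_of_le le_sup_right
  have h3 : ¬ r ∣ (P : Subgroup H).index := P.not_dvd_index
  have hr : r.Prime := Fact.out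
  have h4 : (K.subgroupOf H ⊔ (P : Subgroup H)).index = 1 := by
    obtain ⟨j, -, hj⟩ := (Nat.dvd_prime_pow hr).1 h1
    rcases Nat.eq_zero_or_pos j with rfl | hj0
    · rw [hj, pow_zero]
    · exfalso
      apply h3
      refine dvd_trans ?_ h2
      rw [hj]
      exact dvd_pow_self r hj0.ne'
  have h5 : K.subgroupOf H ⊔ (P : Subgroup H) = ⊤ := Subgroup.index_eq_one.1 h4
  apply le_antisymm
  · exact sup_le hKH (Subgroup.map_subtype_le _)
  · intro x hx
    have hx' : (⟨x, hx⟩ : H) ∈ K.subgroupOf H ⊔ (P : Subgroup H) := by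
      rw [h5]; exact Subgroup.mem_top _
    have hmap : (K.subgroupOf H ⊔ (P : Subgroup H)).map H.subtype ≤
        K ⊔ (P : Subgroup H).map H.subtype := by
      rw [Subgroup.map_sup]
      refine sup_le_sup ?_ le_rfl
      rw [Subgroup.subgroupOf_map_subtype]
      exact inf_le_left
    exact hmap ⟨⟨x, hx⟩, hx', rfl⟩

/-- the `q`-primary part of an abelian subgroup `K`. -/
def primaryPart (K : Subgroup T) (hK : ∀ x ∈ K, ∀ y ∈ K, x * y = y * x) (q : ℕ) : Subgroup T where
  carrier := {z | z ∈ K ∧ ∃ n : ℕ, z ^ (q ^ n) = 1}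
  one_mem' := ⟨K.one_mem, 0, one_pow _⟩
  mul_mem' := by
    rintro a b ⟨ha, n₁, hn₁⟩ ⟨hb, n₂, hn₂⟩
    refine ⟨K.mul_mem ha hb, n₁ + n₂, ?_⟩
    have hc : Commute a b := hK a ha b hb
    rw [hc.mul_pow, pow_add, pow_mul, hn₁, one_pow, one_mul, mul_comm (q ^ n₁), pow_mul, hn₂,
      one_pow]
  inv_mem' := by
    rintro a ⟨ha, n, hn⟩
    exact ⟨K.inv_mem ha, n, by rw [inv_pow, hn, inv_one]⟩

theorem mem_primaryPart {K : Subgroup T} {hK : ∀ x ∈ K, ∀ y ∈ K, x * y = y * x} {q : ℕ} {z : T} :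
    z ∈ primaryPart K hK q ↔ z ∈ K ∧ ∃ n : ℕ, z ^ (q ^ n) = 1 := Iff.rfl

section crit

variable {V : Type u} [AddCommGroup V] [Finite V] [DistribMulAction T V] {p : ℕ}
  {H : Subgroup T} {s t : T}

/-- **P-S**: a nonabelian `H` all of whose proper `⟨s,t⟩`-invariant subgroups are abelian is a
`q`-group or `Q ⋊ R` with `Q` a normal abelian `q`-group and `R` an invariant `r`-group. -/
theorem crit_split (h : Crit V p H s t) (hmin : MinNonab H s t)
    (hnab : ¬ ∀ x ∈ H, ∀ y ∈ H, x * y = y * x) :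
    (∃ q : ℕ, q.Prime ∧ q ≠ p ∧ IsPGroup q H) ∨
    (∃ (q r : ℕ) (Q R : Subgroup T), q.Prime ∧ r.Prime ∧ q ≠ r ∧ q ≠ p ∧ Q.Normal ∧ Q ≤ H ∧ R ≤ H ∧
      IsPGroup q Q ∧ IsPGroup r R ∧ (∀ x ∈ Q, ∀ y ∈ Q, x * y = y * x) ∧
      (∀ x ∈ R, s * x * s⁻¹ ∈ R) ∧ (∀ x ∈ R, t * x * t⁻¹ ∈ R) ∧ Q ⊔ R = H ∧ Q ≠ ⊥) := by
  classical
  have hHne : H ≠ ⊥ := by
    rintro rfl
    apply hnab
    intro x hx y hy
    rw [Subgroup.mem_bot] at hx hy
    rw [hx, hy]
  have hfirst : ∀ r : ℕ, r.Prime → IsPGroup r H → ∃ q : ℕ, q.Prime ∧ q ≠ p ∧ IsPGroup q H := by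
    intro r hr hrH
    refine ⟨r, hr, ?_, hrH⟩
    rintro rfl
    exact hHne (h.normal_pgroup_eq_bot h.hHn le_rfl hrH)
  obtain ⟨r, K, hr, hKn, hKH, hKne, e, he⟩ := exists_normal_rpow h.hHn h.hsolv hHne
  have hrf : Fact r.Prime := ⟨hr⟩
  have hKab : ∀ x ∈ K, ∀ y ∈ K, x * y = y * x :=
    hmin K hKH hKne (fun x hx => hKn.conj_mem x hx s) (fun x hx => hKn.conj_mem x hx t)
  have hAH : Subgroup.closure ({s, t} : Set T) ≤ Subgroup.normalizer (H : Set T) := by
    rw [@Subgroup.normalizer_eq_top _ _ H h.hHn]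
    exact le_top
  obtain ⟨P, hP⟩ := Cfsg.Agent.Lib.Lead.coprime_invariant_sylow_exists
    (Subgroup.closure ({s, t} : Set T)) H hAH h.coprime_closure_H (Or.inr h.hsolv) r
  have hRH : (P : Subgroup H).map H.subtype ≤ H := Subgroup.map_subtype_le _
  have hRr : IsPGroup r ((P : Subgroup H).map H.subtype) := P.isPGroup'.map _
  have hRs : ∀ x ∈ (P : Subgroup H).map H.subtype, s * x * s⁻¹ ∈ (P : Subgroup H).map H.subtype := by
    intro x hx
    have hs : s ∈ Subgroup.normalizer (((P : Subgroup H).map H.subtype : Subgroup T) : Set T) :=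
      hP (Subgroup.subset_closure (by simp))
    exact (Subgroup.mem_normalizer_iff.1 hs x).1 hx
  have hRt : ∀ x ∈ (P : Subgroup H).map H.subtype, t * x * t⁻¹ ∈ (P : Subgroup H).map H.subtype := by
    intro x hx
    have ht : t ∈ Subgroup.normalizer (((P : Subgroup H).map H.subtype : Subgroup T) : Set T) :=
      hP (Subgroup.subset_closure (by simp))
    exact (Subgroup.mem_normalizer_iff.1 ht x).1 hx
  have hKR : K ⊔ (P : Subgroup H).map H.subtype = H := sup_sylow_eq hKn hKH he P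
  generalize (P : Subgroup H).map H.subtype = R at hRH hRr hRs hRt hKR
  by_cases hRH' : R = H
  · left
    exact hfirst r hr (hRH' ▸ hRr)
  have hRab : ∀ x ∈ R, ∀ y ∈ R, x * y = y * x := hmin R hRH hRH' hRs hRt
  have hex : ∃ x ∈ K, ∃ y ∈ R, x * y ≠ y * x := by
    by_contra hno
    push Not at hno
    apply hnab
    rw [← hKR]
    exact comm_sup hKab hRab hno
  obtain ⟨x₀, hx₀, y, hy, hxy₀⟩ := hex
  obtain ⟨x, hxK, hxy, q, k, hq, hxq⟩ :=
    exists_prime_pow_noncomm K y _ x₀ hx₀ rfl hxy₀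
  have hxQ : x ∈ primaryPart K hKab q := ⟨hxK, k, hxq⟩
  have hQK : primaryPart K hKab q ≤ K := fun z hz => hz.1
  have hQn : (primaryPart K hKab q).Normal := by
    constructor
    rintro z ⟨hz, n, hn⟩ g
    exact ⟨hKn.conj_mem z hz g, n, by rw [conj_pow, hn, mul_one, mul_inv_cancel]⟩
  have hQq : IsPGroup q (primaryPart K hKab q) := by
    rintro ⟨z, hz, n, hn⟩
    exact ⟨n, Subtype.ext (by simpa using hn)⟩
  have hQab : ∀ a ∈ primaryPart K hKab q, ∀ b ∈ primaryPart K hKab q, a * b = b * a :=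
    fun a ha b hb => hKab a ha.1 b hb.1
  have hQne : primaryPart K hKab q ≠ ⊥ := by
    intro hbot
    rw [hbot, Subgroup.mem_bot] at hxQ
    apply hxy
    rw [hxQ, one_mul, mul_one]
  have hQR : primaryPart K hKab q ⊔ R = H := by
    by_contra hne
    have hle : primaryPart K hKab q ⊔ R ≤ H := sup_le (hQK.trans hKH) hRH
    have hab := hmin _ hle hne
      (conj_mem_sup (fun z hz => hQn.conj_mem z hz s) hRs)
      (conj_mem_sup (fun z hz => hQn.conj_mem z hz t) hRt)
    exact hxy (hab x (le_sup_left (a := primaryPart K hKab q) hxQ) y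
      (le_sup_right (b := R) hy))
  have hqp : q ≠ p := by
    rintro rfl
    exact hQne (h.normal_pgroup_eq_bot hQn (hQK.trans hKH) hQq)
  by_cases hqr : q = r
  · left
    apply hfirst r hr
    rw [← hQR]
    exact @IsPGroup.to_sup_of_normal_left _ _ _ _ _ (hqr ▸ hQq) hRr hQn
  · right
    exact ⟨q, r, primaryPart K hKab q, R, hq, hr, hqr, hqp, hQn, hQK.trans hKH, hRH, hQq, hRr,
      hQab, hRs, hRt, hQR, hQne⟩

end crit

end Cfsg.Agent.Lib.Helper7.S3S
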