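import Mathlib
import Cfsg.Agent.Lib.Helper5.SL2Torus
import Cfsg.Agent.Lib.Helper5.SL2Basic

set_option autoImplicit false

/-!
# Elementary matrix facts about `SL₂(F)`: centralizers of non-scalar matrices, unipotent elements
-/

namespace Cfsg.Agent.Lib.Helper7.SL2N

open Matrix Cfsg.Agent.Lib.Helper5

variable {F : Type*} [Field F]

theorem coe_mul' (g h : SpecialLinearGroup (Fin 2) F) :
    ((g * h : SpecialLinearGroup (Fin 2) F) : Matrix (Fin 2) (Fin 2) F) =
      (g : Matrix (Fin 2) (Fin 2) F) * (h : Matrix (Fin 2) (Fin 2) F) := rfl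

theorem coe_one' :
    ((1 : SpecialLinearGroup (Fin 2) F) : Matrix (Fin 2) (Fin 2) F) = 1 := rfl

theorem coe_inv' (s : SpecialLinearGroup (Fin 2) F) :
    ((s⁻¹ : SpecialLinearGroup (Fin 2) F) : Matrix (Fin 2) (Fin 2) F) =
      !![(s : Matrix (Fin 2) (Fin 2) F) 1 1, -(s : Matrix (Fin 2) (Fin 2) F) 0 1;
        -(s : Matrix (Fin 2) (Fin 2) F) 1 0, (s : Matrix (Fin 2) (Fin 2) F) 0 0] := by
  rw [Matrix.SpecialLinearGroup.coe_inv, Matrix.adjugate_fin_two]

theorem sq_eq_one_of_scalar (g : SpecialLinearGroup (Fin 2) F) (γ : F)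
    (h : (g : Matrix (Fin 2) (Fin 2) F) = γ • (1 : Matrix (Fin 2) (Fin 2) F)) : g * g = 1 := by
  have hd := (sq_eq_four_of_scalar g γ h).2
  apply Subtype.ext
  show (g : Matrix (Fin 2) (Fin 2) F) * (g : Matrix (Fin 2) (Fin 2) F) = 1
  rw [h, Matrix.smul_mul, Matrix.one_mul, smul_smul, ← pow_two, hd, one_smul]

theorem trace_conj (g s : SpecialLinearGroup (Fin 2) F) :
    ((g * s * g⁻¹ : SpecialLinearGroup (Fin 2) F) : Matrix (Fin 2) (Fin 2) F).trace =
      (s : Matrix (Fin 2) (Fin 2) F).trace := by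
  rw [coe_mul', Matrix.trace_mul_comm, ← coe_mul', ← mul_assoc, inv_mul_cancel, one_mul]

/-- commuting elements of `SL₂` with the same trace `t`, `t² ≠ 4`, are equal or inverse -/
theorem eq_or_eq_inv (h2 : (2 : F) ≠ 0) (s y : SpecialLinearGroup (Fin 2) F)
    (hsy : s * y = y * s)
    (htr : (y : Matrix (Fin 2) (Fin 2) F).trace = (s : Matrix (Fin 2) (Fin 2) F).trace)
    (ht : (s : Matrix (Fin 2) (Fin 2) F).trace ^ 2 ≠ 4) : y = s ∨ y = s⁻¹ := by
  have hns : ¬ ∃ c : F, (s : Matrix (Fin 2) (Fin 2) F) = c • (1 : Matrix (Fin 2) (Fin 2) F) := by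
    rintro ⟨c, hc⟩
    apply ht
    obtain ⟨h1, h2'⟩ := sq_eq_four_of_scalar s c hc
    rw [h1, mul_pow, h2']
    norm_num
  have hsy' : (y : Matrix (Fin 2) (Fin 2) F) * (s : Matrix (Fin 2) (Fin 2) F) =
      (s : Matrix (Fin 2) (Fin 2) F) * (y : Matrix (Fin 2) (Fin 2) F) := by
    rw [← coe_mul', ← coe_mul', hsy]
  obtain ⟨α, β, hy⟩ := exists_of_commute _ _ hns hsy'
  have hds := s.det_coe
  have hdy := y.det_coe
  rw [hy, det_smul_one_add_smul, hds] at hdy
  have htr' := htr
  rw [hy, Matrix.trace_add, Matrix.trace_smul, Matrix.trace_smul, Matrix.trace_one,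
    Fintype.card_fin, smul_eq_mul, smul_eq_mul] at htr'
  set t := (s : Matrix (Fin 2) (Fin 2) F).trace with htdef
  have e1 : 2 * α = t * (1 - β) := by
    have : ((2 : ℕ) : F) = 2 := by norm_num
    rw [this] at htr'
    linear_combination htr'
  have hβ : (t ^ 2 - 4) * (1 - β ^ 2) = 0 := by
    linear_combination (4 : F) * hdy - (2 * α + t * (1 - β) + 2 * β * t) * e1
  have hβ2 : (β - 1) * (β + 1) = 0 := by
    rcases mul_eq_zero.mp hβ with h | h
    · exact absurd (sub_eq_zero.mp h) ht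
    · linear_combination -h
  rw [eq_smul_one_add_smul_iff] at hy
  obtain ⟨y00, y01, y10, y11⟩ := hy
  rcases mul_eq_zero.mp hβ2 with h | h
  · left
    have hβ1 : β = 1 := sub_eq_zero.mp h
    have hα : α = 0 := by
      rw [hβ1, sub_self, mul_zero] at e1
      exact (mul_eq_zero.mp e1).resolve_left h2
    rw [hβ1, hα] at y00 y11
    rw [hβ1] at y01 y10
    apply Subtype.ext
    ext i j
    fin_cases i <;> fin_cases j
    · simpa using y00
    · simpa using y01
    · simpa using y10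
    · simpa using y11
  · right
    have hβ1 : β = -1 := eq_neg_of_add_eq_zero_left h
    have hα : α = t := by
      have : 2 * α = 2 * t := by rw [e1, hβ1]; ring
      exact mul_left_cancel₀ h2 this
    rw [hβ1, hα, htdef, Matrix.trace_fin_two] at y00 y11
    rw [hβ1] at y01 y10
    apply Subtype.ext
    show (y : Matrix (Fin 2) (Fin 2) F) =
      ((s⁻¹ : SpecialLinearGroup (Fin 2) F) : Matrix (Fin 2) (Fin 2) F)
    rw [coe_inv']
    ext i j
    fin_cases i <;> fin_cases j
    · simp only [Fin.zero_eta, Fin.isValue, of_apply, cons_val', cons_val_zero, cons_val_fin_one]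
      rw [y00]; ring
    · simp only [Fin.zero_eta, Fin.isValue, Fin.mk_one, of_apply, cons_val', cons_val_one,
        cons_val_fin_one, cons_val_zero]
      rw [y01]; ring
    · simp only [Fin.mk_one, Fin.isValue, Fin.zero_eta, of_apply, cons_val', cons_val_zero,
        cons_val_fin_one, cons_val_one]
      rw [y10]; ring
    · simp only [Fin.mk_one, Fin.isValue, of_apply, cons_val', cons_val_one, cons_val_fin_one]
      rw [y11]; ring

/-- Cayley–Hamilton for `2 × 2` matrices -/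
theorem cayley_two (N : Matrix (Fin 2) (Fin 2) F) :
    N * N = N.trace • N - N.det • (1 : Matrix (Fin 2) (Fin 2) F) := by
  ext i j
  fin_cases i <;> fin_cases j
  · simp [Matrix.mul_apply, Fin.sum_univ_two, Matrix.trace_fin_two, Matrix.det_fin_two]
    ring
  · simp [Matrix.mul_apply, Fin.sum_univ_two, Matrix.trace_fin_two, Matrix.det_fin_two]
    ring
  · simp [Matrix.mul_apply, Fin.sum_univ_two, Matrix.trace_fin_two, Matrix.det_fin_two]
    ring
  · simp [Matrix.mul_apply, Fin.sum_univ_two, Matrix.trace_fin_two, Matrix.det_fin_two]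
    ring

/-- a nilpotent `2 × 2` matrix squares to zero and has trace zero -/
theorem nilpotent_two (N : Matrix (Fin 2) (Fin 2) F) (m : ℕ) (hN : N ^ (m + 1) = 0) :
    N * N = 0 ∧ N.trace = 0 := by
  have hdet : N.det = 0 := by
    have h := congrArg Matrix.det hN
    rw [Matrix.det_pow, Matrix.det_zero] at h
    exact (pow_eq_zero_iff (Nat.succ_ne_zero m)).mp h
  have hsq : N * N = N.trace • N := by
    rw [cayley_two, hdet, zero_smul, sub_zero]
  have hpow : ∀ k : ℕ, N ^ (k + 1) = N.trace ^ k • N := by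
    intro k
    induction k with
    | zero => simp
    | succ k ih =>
      rw [pow_succ, ih, Matrix.smul_mul, hsq, smul_smul, ← pow_succ]
  have h0 : N.trace ^ m • N = 0 := by rw [← hpow, hN]
  by_cases hN0 : N = 0
  · rw [hN0]
    simp
  · have hτ : N.trace ^ m = 0 := by
      rcases smul_eq_zero.mp h0 with h | h
      · exact h
      · exact absurd h hN0
    by_cases hm : m = 0
    · subst hm
      exfalso
      apply hN0
      simpa using hN
    · have hτ0 : N.trace = 0 := (pow_eq_zero_iff hm).mp hτ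
      refine ⟨?_, hτ0⟩
      rw [hsq, hτ0, zero_smul]

section charp
variable (p : ℕ) [Fact p.Prime] [CharP F p]

/-- `p`-elements of `SL₂` in characteristic `p` are unipotent -/
theorem unipotent (a : SpecialLinearGroup (Fin 2) F) (k : ℕ) (hk : a ^ (p ^ k) = 1) :
    ((a : Matrix (Fin 2) (Fin 2) F) - 1) * ((a : Matrix (Fin 2) (Fin 2) F) - 1) = 0 ∧
      (a : Matrix (Fin 2) (Fin 2) F).trace = 2 ∧ a ^ p = 1 := by
  have hp : p.Prime := Fact.out
  set M := (a : Matrix (Fin 2) (Fin 2) F) with hM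
  set N := M - 1 with hN
  have hMN : M = 1 + N := by rw [hN]; abel
  have hcomm : Commute (1 : Matrix (Fin 2) (Fin 2) F) N := Commute.one_left N
  have hMk : M ^ (p ^ k) = 1 :=
    congrArg (fun z : SpecialLinearGroup (Fin 2) F => (z : Matrix (Fin 2) (Fin 2) F)) hk
  have hNk : N ^ (p ^ k) = 0 := by
    have h := add_pow_char_pow_of_commute (R := Matrix (Fin 2) (Fin 2) F) (p := p) (n := k)
      hcomm
    rw [← hMN, hMk, one_pow] at h
    exact left_eq_add.mp h
  obtain ⟨m, hm⟩ : ∃ m, p ^ k = m + 1 :=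
    ⟨p ^ k - 1, (Nat.succ_pred_eq_of_pos (pow_pos hp.pos k)).symm⟩
  rw [hm] at hNk
  obtain ⟨hNN, hNtr⟩ := nilpotent_two N m hNk
  refine ⟨hNN, ?_, ?_⟩
  · rw [hMN, Matrix.trace_add, Matrix.trace_one, hNtr, Fintype.card_fin]
    norm_num
  · apply Subtype.ext
    show M ^ p = 1
    have hNp : N ^ p = 0 := by
      obtain ⟨j, hj⟩ := Nat.exists_eq_add_of_le hp.two_le
      rw [hj, pow_add, pow_two, hNN, zero_mul]
    rw [hMN, add_pow_char_of_commute (R := Matrix (Fin 2) (Fin 2) F) (p := p) hcomm, hNp, add_zero,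
      one_pow]

/-- elements of trace `±2` and order prime to `p` square to one -/
theorem mul_self_eq_one_of_trace_sq (s : SpecialLinearGroup (Fin 2) F)
    (ht : (s : Matrix (Fin 2) (Fin 2) F).trace ^ 2 = 4) (m : ℕ) (hm : m.Coprime p)
    (hs : s ^ m = 1) : s * s = 1 := by
  obtain ⟨c, hc⟩ := pow_char_scalar_of_sq_eq_four p s ht
  have h1 := sq_eq_one_of_scalar (s ^ p) c hc
  have h2 : s ^ (p * 2) = 1 := by rw [pow_mul, pow_two]; exact h1
  have h3 : orderOf s ∣ p * 2 := orderOf_dvd_of_pow_eq_one h2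
  have h4 : orderOf s ∣ m := orderOf_dvd_of_pow_eq_one hs
  have h5 : (orderOf s).Coprime p := Nat.Coprime.coprime_dvd_left h4 hm
  have h6 : orderOf s ∣ 2 := h5.dvd_of_dvd_mul_left h3
  have h7 : s ^ 2 = 1 := orderOf_dvd_iff_pow_eq_one.mp h6
  rw [← pow_two]
  exact h7

/-- a nontrivial `p`-element is not scalar (odd characteristic) -/
theorem not_scalar_of_unipotent (h2 : (2 : F) ≠ 0) (a : SpecialLinearGroup (Fin 2) F) (k : ℕ)
    (hk : a ^ (p ^ k) = 1) (ha1 : a ≠ 1) :
    ¬ ∃ c : F, (a : Matrix (Fin 2) (Fin 2) F) = c • (1 : Matrix (Fin 2) (Fin 2) F) := by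
  rintro ⟨c, hc⟩
  obtain ⟨-, htr, -⟩ := unipotent p a k hk
  obtain ⟨h1, -⟩ := sq_eq_four_of_scalar a c hc
  rw [htr] at h1
  have hc1 : c = 1 := by
    have : (2 : F) * c = 2 * 1 := by rw [← h1, mul_one]
    exact mul_left_cancel₀ h2 this
  apply ha1
  apply Subtype.ext
  show (a : Matrix (Fin 2) (Fin 2) F) = 1
  rw [hc, hc1, one_smul]

/-- an element of order prime to `p` commuting with a nontrivial `p`-element squares to one -/
theorem mul_self_eq_one_of_commute_unipotent (h2 : (2 : F) ≠ 0)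
    (a : SpecialLinearGroup (Fin 2) F) (k : ℕ) (hk : a ^ (p ^ k) = 1) (ha1 : a ≠ 1)
    (c : SpecialLinearGroup (Fin 2) F) (hc : c * a = a * c) (m : ℕ) (hm : m.Coprime p)
    (hcm : c ^ m = 1) : c * c = 1 := by
  have hns := not_scalar_of_unipotent p h2 a k hk ha1
  obtain ⟨-, htr, -⟩ := unipotent p a k hk
  have hc' : (c : Matrix (Fin 2) (Fin 2) F) * (a : Matrix (Fin 2) (Fin 2) F) =
      (a : Matrix (Fin 2) (Fin 2) F) * (c : Matrix (Fin 2) (Fin 2) F) := by
    rw [← coe_mul', ← coe_mul', hc]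
  obtain ⟨α, β, hy⟩ := exists_of_commute _ _ hns hc'
  have hdc := c.det_coe
  rw [hy, det_smul_one_add_smul, a.det_coe, htr] at hdc
  apply mul_self_eq_one_of_trace_sq p c ?_ m hm hcm
  rw [hy, Matrix.trace_add, Matrix.trace_smul, Matrix.trace_smul, Matrix.trace_one,
    Fintype.card_fin, smul_eq_mul, smul_eq_mul, htr]
  have : ((2 : ℕ) : F) = 2 := by norm_num
  rw [this]
  linear_combination (4 : F) * hdc

end charp

/-- the centralizer of a non-scalar element is commutative -/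
theorem commute_of_commute_nonscalar (z x y : SpecialLinearGroup (Fin 2) F)
    (hz : ¬ ∃ c : F, (z : Matrix (Fin 2) (Fin 2) F) = c • (1 : Matrix (Fin 2) (Fin 2) F))
    (hx : x * z = z * x) (hy : y * z = z * y) : x * y = y * x := by
  have hx' : (x : Matrix (Fin 2) (Fin 2) F) * (z : Matrix (Fin 2) (Fin 2) F) =
      (z : Matrix (Fin 2) (Fin 2) F) * (x : Matrix (Fin 2) (Fin 2) F) := by
    rw [← coe_mul', ← coe_mul', hx]
  have hy' : (y : Matrix (Fin 2) (Fin 2) F) * (z : Matrix (Fin 2) (Fin 2) F) =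
      (z : Matrix (Fin 2) (Fin 2) F) * (y : Matrix (Fin 2) (Fin 2) F) := by
    rw [← coe_mul', ← coe_mul', hy]
  obtain ⟨α, β, hxe⟩ := exists_of_commute _ _ hz hx'
  obtain ⟨α', β', hye⟩ := exists_of_commute _ _ hz hy'
  apply Subtype.ext
  show (x : Matrix (Fin 2) (Fin 2) F) * (y : Matrix (Fin 2) (Fin 2) F) =
    (y : Matrix (Fin 2) (Fin 2) F) * (x : Matrix (Fin 2) (Fin 2) F)
  rw [hxe, hye]
  simp only [add_mul, mul_add, Matrix.smul_mul, Matrix.mul_smul, Matrix.one_mul, Matrix.mul_one,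
    smul_smul]
  rw [mul_comm α' α, mul_comm β' β, mul_comm β' α, mul_comm α' β]
  abel

end Cfsg.Agent.Lib.Helper7.SL2N
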