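import Mathlib
import Cfsg.Agent.Lib.Helper7.SL2N1
import Cfsg.Agent.Lib.Helper7.SL2N2
import Cfsg.Agent.Lib.Lead.CoprimeSylow3

set_option autoImplicit false

/-!
# `p`-elements of `SL₂(F)` normalizing `p'`-subgroups
-/

namespace Cfsg.Agent.Lib.Helper7.SL2N

open Matrix Cfsg.Agent.Lib.Helper5 Cfsg.Agent.Lib.Lead Cfsg.Agent.Lib.Lead.SL23R

section elem
variable {F : Type*} [Field F] (p : ℕ) [Fact p.Prime] [CharP F p]

theorem two_ne_zero_of_char (hp : p ≠ 2) : (2 : F) ≠ 0 := by
  intro h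
  have h1 : ((2 : ℕ) : F) = 0 := by rw [← h]; norm_num
  rw [CharP.cast_eq_zero_iff F p 2] at h1
  exact hp ((Nat.prime_dvd_prime_iff_eq Fact.out Nat.prime_two).mp h1)

/-- the only involution of `SL₂` in odd characteristic -/
theorem involution_unique (h2 : (2 : F) ≠ 0) (x y : SpecialLinearGroup (Fin 2) F)
    (hx : x * x = 1) (hx1 : x ≠ 1) (hy : y * y = 1) (hy1 : y ≠ 1) : x = y := by
  have key : ∀ z : SpecialLinearGroup (Fin 2) F, z * z = 1 → z ≠ 1 →
      (z : Matrix (Fin 2) (Fin 2) F) = (-1 : F) • (1 : Matrix (Fin 2) (Fin 2) F) := by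
    intro z hz hz1
    obtain ⟨c, hc⟩ := scalar_of_mul_self_eq_one h2 z hz
    obtain ⟨-, hc2⟩ := sq_eq_four_of_scalar z c hc
    have h3 : (c - 1) * (c + 1) = 0 := by linear_combination hc2
    rcases mul_eq_zero.mp h3 with h | h
    · exfalso
      apply hz1
      apply Subtype.ext
      show (z : Matrix (Fin 2) (Fin 2) F) = 1
      rw [hc, sub_eq_zero.mp h, one_smul]
    · rw [hc, eq_neg_of_add_eq_zero_left h]
  apply Subtype.ext
  show (x : Matrix (Fin 2) (Fin 2) F) = (y : Matrix (Fin 2) (Fin 2) F)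
  rw [key x hx hx1, key y hy hy1]

/-- an element of odd order whose conjugate of `s` commutes with `s` (of order prime to `p`)
commutes with `s` -/
theorem commute_of_conj_commute (h2 : (2 : F) ≠ 0)
    (a : SpecialLinearGroup (Fin 2) F) (n : ℕ) (hn : Odd n) (han : a ^ n = 1)
    (s : SpecialLinearGroup (Fin 2) F) (m : ℕ) (hm : m.Coprime p) (hsm : s ^ m = 1)
    (hcomm : s * (a * s * a⁻¹) = (a * s * a⁻¹) * s) : a * s = s * a := by
  by_cases ht : (s : Matrix (Fin 2) (Fin 2) F).trace ^ 2 = 4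
  · have hss := mul_self_eq_one_of_trace_sq p s ht m hm hsm
    obtain ⟨c, hc⟩ := scalar_of_mul_self_eq_one h2 s hss
    apply Subtype.ext
    show (a : Matrix (Fin 2) (Fin 2) F) * (s : Matrix (Fin 2) (Fin 2) F) =
      (s : Matrix (Fin 2) (Fin 2) F) * (a : Matrix (Fin 2) (Fin 2) F)
    rw [hc, Matrix.mul_smul, Matrix.smul_mul, Matrix.mul_one, Matrix.one_mul]
  · rcases eq_or_eq_inv h2 s (a * s * a⁻¹) hcomm (trace_conj a s) ht with h | h
    · calc a * s = a * s * a⁻¹ * a := by group
        _ = s * a := by rw [h]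
    · have h1 : a * s = s⁻¹ * a := by
        calc a * s = a * s * a⁻¹ * a := by group
          _ = s⁻¹ * a := by rw [h]
      have h2' : a * s⁻¹ = s * a := by
        have : a * s⁻¹ * a⁻¹ = s := by
          calc a * s⁻¹ * a⁻¹ = (a * s * a⁻¹)⁻¹ := by group
            _ = s := by rw [h, inv_inv]
        calc a * s⁻¹ = a * s⁻¹ * a⁻¹ * a := by group
          _ = s * a := by rw [this]
      have h3 : Commute (a * a) s := by
        show a * a * s = s * (a * a)
        calc a * a * s = a * (a * s) := by rw [mul_assoc]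
          _ = a * s⁻¹ * a := by rw [h1, mul_assoc]
          _ = s * (a * a) := by rw [h2', mul_assoc]
      obtain ⟨j, hj⟩ := hn
      have h4 : (a * a) ^ (j + 1) = a := by
        rw [← pow_two, ← pow_mul, show 2 * (j + 1) = n + 1 by omega, pow_succ, han, one_mul]
      have h5 := h3.pow_left (j + 1)
      rw [h4] at h5
      exact h5

end elem

end Cfsg.Agent.Lib.Helper7.SL2N
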