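import Mathlib
import Cfsg.Agent.Lib.Helper7.SL2N3

set_option autoImplicit false

/-!
# `p`-elements of `SL₂(F)` normalizing `p'`-subgroups: main theorem
-/

namespace Cfsg.Agent.Lib.Helper7.SL2N

open Matrix Cfsg.Agent.Lib.Helper5 Cfsg.Agent.Lib.Lead Cfsg.Agent.Lib.Lead.SL23R

section main
variable {F : Type*} [Field F] [Fintype F] {p : ℕ} [Fact p.Prime] [CharP F p]

/-- an invariant Sylow `r`-subgroup of `R` for odd `r` is trivial -/
theorem odd_sylow_trivial (h2 : (2 : F) ≠ 0) (a : SpecialLinearGroup (Fin 2) F) (k : ℕ)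
    (hk : a ^ (p ^ k) = 1) (ha1 : a ≠ 1) (n : ℕ) (hn : Odd n) (han : a ^ n = 1)
    (R : Subgroup (SpecialLinearGroup (Fin 2) F)) (hR : (Nat.card R).Coprime p)
    (r : ℕ) [Fact r.Prime] (hr2 : r ≠ 2)
    (S : Subgroup (SpecialLinearGroup (Fin 2) F)) (hSR : S ≤ R) (hS : IsPGroup r S)
    (haS : a ∈ Subgroup.normalizer (S : Set (SpecialLinearGroup (Fin 2) F))) : S = ⊥ := by
  classical
  have hr : r.Prime := Fact.out
  have hrodd : Odd r := hr.eq_two_or_odd'.resolve_left hr2
  -- elements of S squaring to one are trivial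
  have hsq : ∀ s ∈ S, s * s = 1 → s = 1 := by
    intro s hs hss
    obtain ⟨j, hj⟩ := hS ⟨s, hs⟩
    have hj' : s ^ (r ^ j) = 1 := by
      have := congrArg Subtype.val hj
      simpa using this
    have h3 : orderOf s ∣ r ^ j := orderOf_dvd_of_pow_eq_one hj'
    have h4 : orderOf s ∣ 2 := orderOf_dvd_of_pow_eq_one (by rw [pow_two]; exact hss)
    have h5 : Nat.Coprime (r ^ j) 2 :=
      Nat.Coprime.pow_left j (Nat.coprime_two_right.mpr hrodd)
    have h6 := Nat.dvd_gcd h3 h4
    rw [Nat.Coprime] at h5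
    rw [h5, Nat.dvd_one] at h6
    exact orderOf_eq_one_iff.mp h6
  have hpow : ∀ s ∈ S, s ^ Nat.card R = 1 := by
    intro s hs
    have := pow_card_eq_one' (G := ↥R) (x := ⟨s, hSR hs⟩)
    have h := congrArg Subtype.val this
    rw [Subgroup.coe_pow, Subgroup.coe_one] at h
    exact h
  by_contra hne
  haveI : Nontrivial ↥S := (Subgroup.nontrivial_iff_ne_bot S).mpr hne
  haveI := hS.center_nontrivial
  obtain ⟨⟨z, hzc⟩, hz1⟩ := exists_ne (1 : ↥(Subgroup.center ↥S))
  have hz1' : (z : SpecialLinearGroup (Fin 2) F) ≠ 1 := by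
    intro h
    apply hz1
    apply Subtype.ext
    apply Subtype.ext
    exact h
  have hzns : ¬ ∃ c : F, ((z : SpecialLinearGroup (Fin 2) F) : Matrix (Fin 2) (Fin 2) F) =
      c • (1 : Matrix (Fin 2) (Fin 2) F) := by
    rintro ⟨c, hc⟩
    exact hz1' (hsq _ z.2 (sq_eq_one_of_scalar _ c hc))
  have hzcomm : ∀ s ∈ S, s * (z : SpecialLinearGroup (Fin 2) F) =
      (z : SpecialLinearGroup (Fin 2) F) * s := by
    intro s hs
    have h := (Subgroup.mem_center_iff.mp hzc) ⟨s, hs⟩
    exact congrArg Subtype.val h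
  have hab : ∀ s ∈ S, ∀ t ∈ S, s * t = t * s := fun s hs t ht =>
    commute_of_commute_nonscalar _ s t hzns (hzcomm s hs) (hzcomm t ht)
  -- a centralizes S
  have hcent : ∀ s ∈ S, a * s = s * a := by
    intro s hs
    have hconj : a * s * a⁻¹ ∈ S := (Subgroup.mem_normalizer_iff.mp haS s).mp hs
    exact commute_of_conj_commute p h2 a n hn han s (Nat.card R) hR (hpow s hs)
      (hab s hs _ hconj)
  -- hence all of S squares to one
  apply hz1'
  apply hsq _ z.2
  exact mul_self_eq_one_of_commute_unipotent p h2 a k hk ha1 _ (hcent _ z.2).symm (Nat.card R) hR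
    (hpow _ z.2)

theorem main_thm (hp : p ≠ 2) (a : SpecialLinearGroup (Fin 2) F)
    (ha : IsPGroup p ↥(Subgroup.zpowers a)) (R : Subgroup (SpecialLinearGroup (Fin 2) F))
    (hR : (Nat.card R).Coprime p)
    (haR : a ∈ Subgroup.normalizer (R : Set (SpecialLinearGroup (Fin 2) F)))
    (hnt : ⁅R, Subgroup.zpowers a⁆ ≠ ⊥) :
    p = 3 ∧ Nonempty (↥R ≃* QuaternionGroup 2) ∧
      Nonempty (↥(R ⊔ Subgroup.zpowers a) ≃* SpecialLinearGroup (Fin 2) (ZMod 3)) := by
  classical
  have hpp : p.Prime := Fact.out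
  have h2 : (2 : F) ≠ 0 := two_ne_zero_of_char p hp
  have hpodd : Odd p := hpp.eq_two_or_odd'.resolve_left hp
  -- a is a p-element
  obtain ⟨k, hk0⟩ := ha ⟨a, Subgroup.mem_zpowers a⟩
  have hk : a ^ (p ^ k) = 1 := by
    have h := congrArg Subtype.val hk0
    rw [Subgroup.coe_pow, Subgroup.coe_one] at h
    exact h
  have ha1 : a ≠ 1 := by
    intro h
    apply hnt
    rw [h, Subgroup.zpowers_one_eq_bot, Subgroup.commutator_bot_right]
  obtain ⟨j, -, hj⟩ := (Nat.dvd_prime_pow hpp).mp (orderOf_dvd_of_pow_eq_one hk)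
  have hodd : Odd (orderOf a) := by rw [hj]; exact hpodd.pow
  have han : a ^ orderOf a = 1 := pow_orderOf_eq_one a
  obtain ⟨-, -, hap⟩ := unipotent p a k hk
  -- a does not centralize R
  have hac : a ∉ Subgroup.centralizer (R : Set (SpecialLinearGroup (Fin 2) F)) := by
    intro h
    apply hnt
    rw [Subgroup.commutator_eq_bot_iff_le_centralizer]
    intro x hx
    rw [Subgroup.mem_centralizer_iff]
    intro z hz
    have hz' : z ∈ Subgroup.centralizer (R : Set (SpecialLinearGroup (Fin 2) F)) :=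
      (Subgroup.zpowers_le.mpr h) hz
    exact ((Subgroup.mem_centralizer_iff.mp hz') x hx).symm
  -- coprimality
  have hcop : (Nat.card (Subgroup.zpowers a)).Coprime (Nat.card R) := by
    rw [Nat.card_zpowers, hj]
    exact Nat.Coprime.pow_left j hR.symm
  have hsolv : Group.IsSolvable ↥(Subgroup.zpowers a) :=
    isSolvable_of_comm (fun x y => (Subgroup.zpowers_isMulCommutative a).is_comm.comm x y)
  have hle : Subgroup.zpowers a ≤ Subgroup.normalizer (R : Set (SpecialLinearGroup (Fin 2) F)) :=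
    Subgroup.zpowers_le.mpr haR
  -- odd primes do not divide |R|
  have hoddprime : ∀ r : ℕ, r.Prime → r ≠ 2 → ¬ r ∣ Nat.card R := by
    intro r hr hr2 hdvd
    haveI : Fact r.Prime := ⟨hr⟩
    obtain ⟨P, hP⟩ := coprime_invariant_sylow_exists (Subgroup.zpowers a) R hle hcop
      (Or.inl hsolv) r
    have hS : IsPGroup r ↥((P : Subgroup ↥R).map R.subtype) :=
      P.isPGroup'.map R.subtype
    have hbot := odd_sylow_trivial (p := p) h2 a k hk ha1 (orderOf a) hodd han R hR r hr2
      ((P : Subgroup ↥R).map R.subtype) (Subgroup.map_subtype_le _) hS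
      (hP (Subgroup.mem_zpowers a))
    have hPbot : (P : Subgroup ↥R) = ⊥ := by
      rw [← Subgroup.map_eq_bot_iff_of_injective _ R.subtype_injective]
      exact hbot
    exact P.ne_bot_of_dvd_card hdvd hPbot
  -- R is a 2-group
  have hcard : Nat.card R = 2 ^ (Nat.card R).primeFactorsList.length := by
    apply Nat.eq_prime_pow_of_unique_prime_dvd Nat.card_pos.ne'
    intro d hd hdvd
    by_contra hd2
    exact hoddprime d hd hd2 hdvd
  have hR2 : IsPGroup 2 ↥R := IsPGroup.of_card hcard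
  -- unique involution
  have hU : UniqueOrderP 2 ↥R := by
    haveI : Fact (Nat.Prime 2) := ⟨Nat.prime_two⟩
    intro H K hH hK
    obtain ⟨x, hxH, hx1, hHx⟩ := KS93.exists_gen_of_card_prime (p := 2) hH
    obtain ⟨y, hyK, hy1, hKy⟩ := KS93.exists_gen_of_card_prime (p := 2) hK
    have hx2 : x ^ 2 = 1 := by
      have := pow_card_eq_one' (G := ↥H) (x := ⟨x, hxH⟩)
      rw [hH] at this
      exact congrArg Subtype.val this
    have hy2 : y ^ 2 = 1 := by
      have := pow_card_eq_one' (G := ↥K) (x := ⟨y, hyK⟩)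
      rw [hK] at this
      exact congrArg Subtype.val this
    have hxy : x = y := by
      apply Subtype.ext
      apply involution_unique h2
      · have := congrArg Subtype.val hx2
        rw [Subgroup.coe_pow, Subgroup.coe_one, pow_two] at this
        exact this
      · intro h
        exact hx1 (Subtype.ext h)
      · have := congrArg Subtype.val hy2
        rw [Subgroup.coe_pow, Subgroup.coe_one, pow_two] at this
        exact this
      · intro h
        exact hy1 (Subtype.ext h)
    rw [hHx, hKy, hxy]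
  -- the induced automorphism
  set c : MulAut ↥R := R.normalizerMonoidHom ⟨a, haR⟩ with hc
  have hc1 : c ≠ 1 := fun h => hac (mem_centralizer_of_hom_eq_one R a haR h)
  have hcm : c ^ orderOf a = 1 := by
    rw [hc, ← map_pow]
    have : (⟨a, haR⟩ : ↥(Subgroup.normalizer (R : Set (SpecialLinearGroup (Fin 2) F)))) ^
        orderOf a = 1 := by
      apply Subtype.ext
      rw [Subgroup.coe_pow, Subgroup.coe_one]
      exact pow_orderOf_eq_one a
    rw [this, map_one]
  obtain ⟨θ⟩ := q8_of_unique_involution hR2 hU c hc1 (orderOf a) hodd hcm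
  obtain ⟨x, y, hD8, hxD, hyD, hxo, hy2, hyx, hyx', hgx, hgy, h3, hdisj⟩ :=
    q8_relations R θ a haR hodd hac
  have hp3 : p = 3 := by
    rw [hj] at h3
    have := Nat.Prime.dvd_of_dvd_pow Nat.prime_three h3
    exact ((Nat.prime_dvd_prime_iff_eq Nat.prime_three hpp).mp this).symm
  refine ⟨hp3, ⟨θ⟩, ?_⟩
  have ha3 : a ^ 3 = 1 := by rw [← hp3]; exact hap
  exact iso_of_relations R x y a hD8 hxD hyD hxo hy2 hyx hyx' haR hgx hgy h3 hdisj ha3

end main

end Cfsg.Agent.Lib.Helper7.SL2N
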