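import Mathlib
import Cfsg.Agent.Lib.Helper7.SameOrd4

set_option autoImplicit false

/-!
# Same-order counts `{1, n}`: the case `Z₂ × P`.
-/

namespace Cfsg.Agent.Lib.Helper7.SameOrd

universe u

variable {G : Type u} [Group G] [Finite G]

/-- a group of order `2 * p ^ a` with a unique involution and no elements of order `p²`
is `Z₂ × P` with `P` of exponent `p` -/
theorem z2_times {p a : ℕ} (hp : p.Prime) (hp2 : p ≠ 2) (ha : 1 ≤ a) (h2 : s G 2 = 1)
    (hcard : Nat.card G = 2 * p ^ a) (hsq : s G (p ^ 2) = 0) :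
    ∃ (P : Type) (_ : Group P) (_ : Finite P), IsPGroup p P ∧ Monoid.exponent P = p ∧
      Nonempty (G ≃* Multiplicative (ZMod 2) × P) := by
  haveI := Fact.mk hp
  haveI : Fact (Nat.Prime 2) := ⟨Nat.prime_two⟩
  have hp3 : 2 < p := lt_of_le_of_ne hp.two_le (Ne.symm hp2)
  -- the subgroup `K` of order `p ^ a`
  obtain ⟨K, hK⟩ := Sylow.exists_subgroup_card_pow_prime p
    (show p ^ a ∣ Nat.card G from hcard ▸ Dvd.intro_left 2 rfl)
  have hKpos : 0 < p ^ a := pow_pos hp.pos a
  have hKidx : K.index = 2 := by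
    have h1 := Subgroup.card_mul_index K
    rw [hK, hcard, mul_comm] at h1
    exact Nat.eq_of_mul_eq_mul_right hKpos h1
  haveI hKn : K.Normal := Subgroup.normal_of_index_eq_two hKidx
  -- the involution
  have hsub : Subsingleton {g : G // orderOf g = 2} := by
    have := h2
    unfold s at this
    exact (Nat.card_eq_one_iff_unique.mp this).1
  obtain ⟨z, hz⟩ := (s_pos_iff (G := G) 2).mp (by rw [h2]; norm_num)
  have hzc : ∀ g : G, g * z = z * g := by
    intro g
    have h1 : orderOf (g * z * g⁻¹) = 2 := by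
      rw [← hz]
      exact (SemiconjBy.orderOf_eq g (SemiconjBy.conj_mk g z)).symm
    have : (⟨g * z * g⁻¹, h1⟩ : {g : G // orderOf g = 2}) = ⟨z, hz⟩ := Subsingleton.elim _ _
    rw [Subtype.mk.injEq] at this
    calc g * z = (g * z * g⁻¹) * g := by group
      _ = z * g := by rw [this]
  have hZcard : Nat.card (Subgroup.zpowers z) = 2 := by rw [Nat.card_zpowers, hz]
  have hdisj : Subgroup.zpowers z ⊓ K = ⊥ := by
    apply Subgroup.inf_eq_bot_of_coprime
    rw [hZcard, hK]
    exact Nat.Coprime.pow_right a ((Nat.coprime_primes Nat.prime_two hp).mpr (Ne.symm hp2))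
  -- the model of `K` in `Type`
  let e : Shrink.{0} ↥K ≃* ↥K := Shrink.mulEquiv
  haveI : Finite (Shrink.{0} ↥K) := Finite.of_equiv _ e.symm.toEquiv
  have hPcard : Nat.card (Shrink.{0} ↥K) = p ^ a := by rw [Nat.card_congr e.toEquiv, hK]
  have hPpow : ∀ x : Shrink.{0} ↥K, x ^ p = 1 := by
    intro x
    apply e.injective
    rw [map_pow, map_one]
    have h1 : orderOf (e x) ∣ p ^ a := by
      rw [← hK]; exact orderOf_dvd_natCard _
    obtain ⟨j, -, hj⟩ := (Nat.dvd_prime_pow hp).mp h1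
    have hj1 : j ≤ 1 := by
      by_contra hcon
      have h3 : p ^ 2 ∣ orderOf ((e x : ↥K) : G) := by
        rw [Subgroup.orderOf_coe, hj]
        exact pow_dvd_pow p (by omega)
      have := s_pos_of_dvd_orderOf h3
      omega
    rw [← orderOf_dvd_iff_pow_eq_one, hj]
    calc p ^ j ∣ p ^ 1 := pow_dvd_pow p hj1
      _ = p := pow_one p
  have hPexp : Monoid.exponent (Shrink.{0} ↥K) = p := by
    have h1 : Monoid.exponent (Shrink.{0} ↥K) ∣ p := Monoid.exponent_dvd_of_forall_pow_eq_one hPpow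
    rcases (Nat.dvd_prime hp).mp h1 with h | h
    · exfalso
      rw [Monoid.exp_eq_one_iff] at h
      have : Nat.card (Shrink.{0} ↥K) = 1 := Nat.card_eq_one_iff_unique.mpr ⟨h, ⟨1⟩⟩
      rw [hPcard] at this
      have h3 : p ^ 1 ≤ p ^ a := Nat.pow_le_pow_right hp.pos ha
      rw [pow_one] at h3
      omega
    · exact h
  refine ⟨Shrink.{0} ↥K, inferInstance, inferInstance, IsPGroup.of_card hPcard, hPexp, ?_⟩
  -- the homomorphisms
  haveI hZcyc : IsCyclic ↥(Subgroup.zpowers z) := Subgroup.isCyclic_zpowers z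
  let e₁ : Multiplicative (ZMod 2) ≃* Multiplicative (ZMod (Nat.card ↥(Subgroup.zpowers z))) :=
    AddEquiv.toMultiplicative (ZMod.ringEquivCongr hZcard.symm).toAddEquiv
  let e₂ : Multiplicative (ZMod (Nat.card ↥(Subgroup.zpowers z))) ≃* ↥(Subgroup.zpowers z) :=
    zmodCyclicMulEquiv hZcyc
  let ι : Multiplicative (ZMod 2) →* G :=
    (Subgroup.zpowers z).subtype.comp (e₂.toMonoidHom.comp e₁.toMonoidHom)
  have hιmem : ∀ x, ι x ∈ Subgroup.zpowers z := fun x => (e₂ (e₁ x)).2
  have hιinj : Function.Injective ι := by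
    intro x y hxy
    have h1 : (e₂ (e₁ x) : G) = (e₂ (e₁ y) : G) := hxy
    exact e₁.injective (e₂.injective (Subtype.ext h1))
  let κ : Shrink.{0} ↥K →* G := K.subtype.comp e.toMonoidHom
  have hκmem : ∀ x, κ x ∈ K := fun x => (e x).2
  have hκinj : Function.Injective κ := by
    intro x y hxy
    have h1 : ((e x : ↥K) : G) = ((e y : ↥K) : G) := hxy
    exact e.injective (Subtype.ext h1)
  have hcomm : ∀ (m : Multiplicative (ZMod 2)) (k : Shrink.{0} ↥K), Commute (ι m) (κ k) := by
    intro m k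
    obtain ⟨j, hj⟩ := Subgroup.mem_zpowers_iff.mp (hιmem m)
    rw [← hj]
    have : Commute (κ k) z := hzc (κ k)
    exact (this.zpow_right j).symm
  let φ : Multiplicative (ZMod 2) × Shrink.{0} ↥K →* G := MonoidHom.noncommCoprod ι κ hcomm
  have hφinj : Function.Injective φ := by
    rw [injective_iff_map_eq_one]
    rintro ⟨m, k⟩ hmk
    have h1 : ι m * κ k = 1 := by
      have := MonoidHom.noncommCoprod_apply ι κ hcomm (m, k)
      rw [← this]
      exact hmk
    have h2 : ι m = (κ k)⁻¹ := eq_inv_of_mul_eq_one_left h1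
    have h3 : ι m ∈ Subgroup.zpowers z ⊓ K :=
      Subgroup.mem_inf.mpr ⟨hιmem m, h2 ▸ Subgroup.inv_mem _ (hκmem k)⟩
    rw [hdisj, Subgroup.mem_bot] at h3
    have h4 : κ k = 1 := by
      rw [h3, one_mul] at h1
      exact h1
    have h5 : m = 1 := hιinj (by rw [h3, map_one])
    have h6 : k = 1 := hκinj (by rw [h4, map_one])
    rw [h5, h6]
    rfl
  have hφbij : Function.Bijective φ := by
    apply hφinj.bijective_of_nat_card_le
    rw [Nat.card_prod, hPcard, hcard]
    have : Nat.card (Multiplicative (ZMod 2)) = 2 := by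
      rw [Nat.card_congr Multiplicative.toAdd, Nat.card_zmod]
    rw [this]
  exact ⟨(MulEquiv.ofBijective φ hφbij).symm⟩

end Cfsg.Agent.Lib.Helper7.SameOrd
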