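import Mathlib
import Cfsg.Agent.Lib.Lead.HallTools
import Cfsg.Agent.Lib.Lead.CoprimeSylow

set_option autoImplicit false

namespace Cfsg.Agent.Lib.Helper7.SameOrder

open scoped Pointwise
open Cfsg.Agent.Lib.Lead

universe u

/-- any two subgroups of the same order are conjugate -/
def ConjSame (G : Type u) [Group G] : Prop :=
  ∀ H K : Subgroup G, Nat.card H = Nat.card K → ∃ g : G, MulAut.conj g • H = K

/-- for every prime, any two `p`-subgroups of the same order are conjugate -/
def DP (G : Type u) [Group G] : Prop :=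
  ∀ p : ℕ, p.Prime → ∀ H K : Subgroup G, IsPGroup p H → IsPGroup p K → Nat.card H = Nat.card K →
    ∃ g : G, MulAut.conj g • H = K

/-- all `p`-subgroups are cyclic for `p ≠ r` -/
def CycExcept (r : ℕ) (G : Type u) [Group G] : Prop :=
  ∀ p : ℕ, p.Prime → p ≠ r → ∀ T : Subgroup G, IsPGroup p T → IsCyclic T

section
variable {G : Type u} [Group G] [Finite G]

theorem isPGroup_of_card_pow {p : ℕ} [Fact p.Prime] (T : Subgroup G) (k : ℕ)
    (h : Nat.card T = p ^ k) : IsPGroup p T := IsPGroup.of_card h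

/-- lifting a `p`-subgroup of `G ⧸ N` when `N` is a `p`-group -/
theorem lift_eq {p : ℕ} [hp : Fact p.Prime] (N : Subgroup G) [N.Normal] (hN : IsPGroup p N)
    (T : Subgroup (G ⧸ N)) (hT : IsPGroup p T) :
    IsPGroup p (T.comap (QuotientGroup.mk' N)) ∧
      (T.comap (QuotientGroup.mk' N)).map (QuotientGroup.mk' N) = T ∧
      Nat.card (T.comap (QuotientGroup.mk' N)) = Nat.card T * Nat.card N := by
  refine ⟨?_, Subgroup.map_comap_eq_self_of_surjective (QuotientGroup.mk'_surjective N) T,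
    card_comap_mk N T⟩
  obtain ⟨a, ha⟩ := IsPGroup.iff_card.mp hT
  obtain ⟨b, hb⟩ := IsPGroup.iff_card.mp hN
  apply IsPGroup.of_card (n := a + b)
  rw [card_comap_mk, ha, hb, pow_add]

/-- lifting a `p`-subgroup of `G ⧸ N` when `N` has order prime to `p` -/
theorem lift_ne {p : ℕ} [hp : Fact p.Prime] (N : Subgroup G) [N.Normal]
    (hN : (Nat.card N).Coprime p)
    (T : Subgroup (G ⧸ N)) (hT : IsPGroup p T) :
    ∃ S : Subgroup G, IsPGroup p S ∧ S.map (QuotientGroup.mk' N) = T ∧ Nat.card S = Nat.card T := by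
  obtain ⟨a, ha⟩ := IsPGroup.iff_card.mp hT
  set T' := T.comap (QuotientGroup.mk' N) with hT'
  have hT'card : Nat.card T' = p ^ a * Nat.card N := by rw [hT', card_comap_mk, ha]
  obtain ⟨S₀, hS₀⟩ := Sylow.exists_subgroup_card_pow_prime (G := T') p (n := a)
    ⟨Nat.card N, by rw [hT'card]⟩
  set S := S₀.map T'.subtype with hS
  have hScard : Nat.card S = p ^ a := by rw [hS, card_map_subtype, hS₀]
  have hSp : IsPGroup p S := IsPGroup.of_card hScard
  have hST' : S ≤ T' := Subgroup.map_subtype_le S₀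
  have hdisj : S ⊓ N = ⊥ := by
    apply (Subgroup.disjoint_of_coprime_natCard _).eq_bot
    rw [hScard]
    exact (Nat.Coprime.pow_right a hN).symm
  have hmapcard : Nat.card (S.map (QuotientGroup.mk' N)) = p ^ a := by
    rw [card_map_mk_of_inf_eq_bot N S hdisj, hScard]
  have hle : S.map (QuotientGroup.mk' N) ≤ T := by
    have := Subgroup.map_mono (f := QuotientGroup.mk' N) hST'
    rwa [hT', Subgroup.map_comap_eq_self_of_surjective (QuotientGroup.mk'_surjective N)] at this
  refine ⟨S, hSp, ?_, by rw [hScard, ha]⟩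
  exact Subgroup.eq_of_le_of_card_ge hle (by rw [hmapcard, ha])

/-- `DP` passes to the quotient by a normal subgroup of prime power order -/
theorem DP_quotient (hD : DP G) (N : Subgroup G) [N.Normal] (q d : ℕ) (hq : q.Prime)
    (hN : Nat.card N = q ^ d) : DP (G ⧸ N) := by
  intro p hp H K hH hK hcard
  haveI : Fact p.Prime := ⟨hp⟩
  haveI : Fact q.Prime := ⟨hq⟩
  by_cases hpq : p = q
  · subst hpq
    have hNp : IsPGroup p N := IsPGroup.of_card hN
    obtain ⟨h1, h2, h3⟩ := lift_eq N hNp H hH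
    obtain ⟨k1, k2, k3⟩ := lift_eq N hNp K hK
    obtain ⟨g, hg⟩ := hD p hp _ _ h1 k1 (by rw [h3, k3, hcard])
    refine ⟨QuotientGroup.mk' N g, ?_⟩
    rw [← h2, ← map_conj_smul, hg, k2]
  · have hcop : (Nat.card N).Coprime p := by
      rw [hN]
      exact Nat.Coprime.pow_left d ((Nat.coprime_primes hq hp).mpr (Ne.symm hpq))
    obtain ⟨S₁, h1, h2, h3⟩ := lift_ne N hcop H hH
    obtain ⟨S₂, k1, k2, k3⟩ := lift_ne N hcop K hK
    obtain ⟨g, hg⟩ := hD p hp _ _ h1 k1 (by rw [h3, k3, hcard])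
    refine ⟨QuotientGroup.mk' N g, ?_⟩
    rw [← h2, ← map_conj_smul, hg, k2]

theorem isCyclic_map {G' : Type*} [Group G'] (f : G →* G') (S : Subgroup G) (hS : IsCyclic S) :
    IsCyclic (S.map f) :=
  isCyclic_of_surjective (f.subgroupMap S) (f.subgroupMap_surjective S)

/-- `CycExcept` passes to the quotient by a normal subgroup of prime power order -/
theorem CycExcept_quotient {r : ℕ} (hC : CycExcept r G) (N : Subgroup G) [N.Normal] (q d : ℕ)
    (hq : q.Prime) (hN : Nat.card N = q ^ d) : CycExcept r (G ⧸ N) := by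
  intro p hp hpr T hT
  haveI : Fact p.Prime := ⟨hp⟩
  haveI : Fact q.Prime := ⟨hq⟩
  by_cases hpq : p = q
  · subst hpq
    have hNp : IsPGroup p N := IsPGroup.of_card hN
    obtain ⟨h1, h2, -⟩ := lift_eq N hNp T hT
    rw [← h2]
    exact isCyclic_map _ _ (hC p hp hpr _ h1)
  · have hcop : (Nat.card N).Coprime p := by
      rw [hN]
      exact Nat.Coprime.pow_left d ((Nat.coprime_primes hq hp).mpr (Ne.symm hpq))
    obtain ⟨S₁, h1, h2, -⟩ := lift_ne N hcop T hT
    rw [← h2]
    exact isCyclic_map _ _ (hC p hp hpr _ h1)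

/-- pulling back conjugacy from a quotient -/
theorem conj_of_conj_map (N : Subgroup G) [N.Normal] (H K : Subgroup G) (hNH : N ≤ H) (hNK : N ≤ K)
    (g : G) (h : MulAut.conj (QuotientGroup.mk' N g) • H.map (QuotientGroup.mk' N) =
      K.map (QuotientGroup.mk' N)) : MulAut.conj g • H = K := by
  rw [← map_conj_smul] at h
  have h1 := congrArg (Subgroup.comap (QuotientGroup.mk' N)) h
  rw [comap_map_mk, comap_map_mk, sup_eq_left.mpr hNK] at h1
  rw [← h1]
  symm
  apply sup_eq_left.mpr
  have : MulAut.conj g • N = N :=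
    (mem_normalizer_iff_conj_smul g N).mp (by rw [Subgroup.normalizer_eq_top N]; trivial)
  rw [← this]
  exact Subgroup.pointwise_smul_le_pointwise_smul_iff.mpr hNH

end

end Cfsg.Agent.Lib.Helper7.SameOrder
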