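import Mathlib
import Cfsg.Agent.Lib.Helper7.SameOrder1
import Cfsg.Agent.Lib.Helper4.CyclicUnique

set_option autoImplicit false

namespace Cfsg.Agent.Lib.Helper7.SameOrder

open scoped Pointwise
open Cfsg.Agent.Lib.Lead

universe u

section
variable {G : Type u} [Group G] [Finite G]

/-- `CycExcept` passes to subgroups -/
theorem CycExcept_subgroup {r : ℕ} (hC : CycExcept r G) (Q : Subgroup G) : CycExcept r ↥Q := by
  intro p hp hpr T hT
  have h1 : IsPGroup p (T.map Q.subtype) := hT.map Q.subtype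
  have h2 := hC p hp hpr _ h1
  let e : T ≃* T.map Q.subtype := T.equivMapOfInjective Q.subtype Q.subtype_injective
  exact isCyclic_of_surjective e.symm.toMonoidHom e.symm.surjective

/-- a group all of whose subgroups of prime power order are cyclic satisfies `DP` -/
theorem DP_of_cyclic (h : ∀ p : ℕ, p.Prime → ∀ T : Subgroup G, IsPGroup p T → IsCyclic T) : DP G := by
  intro p hp H K hH hK hcard
  haveI : Fact p.Prime := ⟨hp⟩
  obtain ⟨P, hHP⟩ := hH.exists_le_sylow
  obtain ⟨P', hKP'⟩ := hK.exists_le_sylow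
  obtain ⟨g, hg⟩ := MulAction.exists_smul_eq G P P'
  refine ⟨g, ?_⟩
  have h1 : MulAut.conj g • H ≤ (P' : Subgroup G) := by
    rw [← hg, Sylow.coe_subgroup_smul]
    exact Subgroup.pointwise_smul_le_pointwise_smul_iff.mpr hHP
  exact Cfsg.Agent.Lib.Helper4.subgroup_eq_of_card_eq_of_le_cyclic (P' : Subgroup G) _ _
    (h p hp _ P'.isPGroup') h1 hKP' ((card_conj_smul g H).trans hcard)

/-- uniqueness of a normal `r`-subgroup among `r`-subgroups: larger ones contain it -/
theorem le_of_card_le {r : ℕ} [hr : Fact r.Prime] (hD : DP G) (N : Subgroup G) [N.Normal]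
    (hN : IsPGroup r N) (A : Subgroup G) (hA : IsPGroup r A) (hle : Nat.card N ≤ Nat.card A) :
    N ≤ A := by
  obtain ⟨d, hd⟩ := IsPGroup.iff_card.mp hN
  rw [hd] at hle
  obtain ⟨N₀, hN₀⟩ := Sylow.exists_subgroup_card_pow_prime_of_le_card hr.out hA hle
  obtain ⟨N', hN'A, hN'⟩ : ∃ N' : Subgroup G, N' ≤ A ∧ Nat.card N' = r ^ d :=
    ⟨N₀.map A.subtype, Subgroup.map_subtype_le _, by rw [card_map_subtype, hN₀]⟩
  have hN'p : IsPGroup r N' := IsPGroup.of_card hN'
  obtain ⟨g, hg⟩ := hD r hr.out N N' hN hN'p (by rw [hd, hN'])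
  have : MulAut.conj g • N = N :=
    (mem_normalizer_iff_conj_smul g N).mp (by rw [Subgroup.normalizer_eq_top N]; trivial)
  rw [this] at hg
  rw [hg]; exact hN'A

/-- uniqueness of a normal `r`-subgroup among `r`-subgroups: smaller ones lie in it -/
theorem le_of_card_ge {r : ℕ} [hr : Fact r.Prime] (hD : DP G) (N : Subgroup G) [N.Normal]
    (hN : IsPGroup r N) (A : Subgroup G) (hA : IsPGroup r A) (hle : Nat.card A ≤ Nat.card N) :
    A ≤ N := by
  obtain ⟨d, hd⟩ := IsPGroup.iff_card.mp hN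
  obtain ⟨a, ha⟩ := IsPGroup.iff_card.mp hA
  rw [hd, ha] at hle
  have had : a ≤ d := (Nat.pow_le_pow_iff_right hr.out.one_lt).mp hle
  have hdvd : r ^ d ∣ Nat.card G := by rw [← hd]; exact Subgroup.card_subgroup_dvd_card N
  obtain ⟨N', hN', hAN'⟩ := Sylow.exists_subgroup_card_pow_prime_le r hdvd A ha had
  have hN'p : IsPGroup r N' := IsPGroup.of_card hN'
  obtain ⟨g, hg⟩ := hD r hr.out N N' hN hN'p (by rw [hd, hN'])
  have : MulAut.conj g • N = N :=
    (mem_normalizer_iff_conj_smul g N).mp (by rw [Subgroup.normalizer_eq_top N]; trivial)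
  rw [this] at hg
  rw [hg]; exact hAN'

/-- conjugacy inside a subgroup type gives conjugacy by an element of the subgroup -/
theorem conj_in_subgroup (Q : Subgroup G) (hQ : ConjSame ↥Q) (A B : Subgroup G) (hA : A ≤ Q)
    (hB : B ≤ Q) (hcard : Nat.card A = Nat.card B) : ∃ x ∈ Q, MulAut.conj x • A = B := by
  apply conj_of_conj_subgroupOf hA hB
  exact hQ _ _ (by rw [card_subgroupOf_of_le hA, card_subgroupOf_of_le hB, hcard])

end

end Cfsg.Agent.Lib.Helper7.SameOrder
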