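import Mathlib
import Cfsg.Agent.Lib.Helper7.SameOrder2
import Cfsg.Agent.Lib.Helper7.CoprimeHall3
import Cfsg.Agent.Lib.Helper2.MinNormal
import Cfsg.Agent.Lib.Lead.CoprimeTools2

set_option autoImplicit false

namespace Cfsg.Agent.Lib.Helper7.SameOrder

open scoped Pointwise
open Cfsg.Agent.Lib.Lead Cfsg.Agent.Lib.Helper7

universe u

section
variable {G : Type u} [Group G] [Finite G]

/-- a nontrivial finite solvable group has a nontrivial normal elementary abelian subgroup -/
theorem exists_minNormal_elem [Group.IsSolvable G] [Nontrivial G] :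
    ∃ (N : Subgroup G) (q d : ℕ), N.Normal ∧ N ≠ ⊥ ∧ q.Prime ∧ (∀ x ∈ N, x ^ q = 1) ∧
      Nat.card N = q ^ d := by
  classical
  let S : Set (Subgroup G) := {N | N.Normal ∧ N ≠ ⊥}
  obtain ⟨M, hM, hmin⟩ := Set.exists_min_image S (fun N => Nat.card N) (Set.toFinite S)
    ⟨⊤, inferInstance, top_ne_bot⟩
  obtain ⟨hMn, hM1⟩ := hM
  have hmin' : ∀ B : Subgroup G, B.Normal → B ≤ M → B = ⊥ ∨ B = M := by
    intro B hB hBM
    by_cases hB1 : B = ⊥
    · exact Or.inl hB1
    · exact Or.inr (Subgroup.eq_of_le_of_card_ge hBM (hmin B ⟨hB, hB1⟩))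
  haveI := hMn
  have hcomm := Cfsg.Agent.Lib.Helper2.isMulCommutative_of_minNormal_of_solvable M hM1 hmin'
  obtain ⟨q, hq, hexp, d, -, hd⟩ :=
    Cfsg.Agent.Lib.Helper2.exists_prime_pow_of_minNormal_abelian M hM1 hmin' hcomm
  exact ⟨M, q, d, hMn, hM1, hq, hexp, hd⟩

/-- the case where both subgroups contain the normal subgroup `N` -/
theorem conj_of_quotient (N : Subgroup G) [N.Normal] (hQ : ConjSame (G ⧸ N)) (H K : Subgroup G)
    (hNH : N ≤ H) (hNK : N ≤ K) (hcard : Nat.card H = Nat.card K) :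
    ∃ g : G, MulAut.conj g • H = K := by
  have h1 := card_map_mk_of_le N H hNH
  have h2 := card_map_mk_of_le N K hNK
  have hNpos : 0 < Nat.card N := Nat.card_pos
  have h3 : Nat.card (H.map (QuotientGroup.mk' N)) = Nat.card (K.map (QuotientGroup.mk' N)) := by
    apply Nat.eq_of_mul_eq_mul_right hNpos
    rw [h1, h2, hcard]
  obtain ⟨gb, hgb⟩ := hQ _ _ h3
  obtain ⟨g, rfl⟩ := QuotientGroup.mk'_surjective N gb
  exact ⟨g, conj_of_conj_map N H K hNH hNK g hgb⟩

/-- the case where the normal subgroup `N` has order prime to the common order -/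
theorem conj_of_quotient_coprime (N : Subgroup G) [N.Normal] (hQ : ConjSame (G ⧸ N))
    (hNsolv : Group.IsSolvable N) (H K : Subgroup G)
    (hcop : (Nat.card H).Coprime (Nat.card N)) (hcard : Nat.card H = Nat.card K) :
    ∃ g : G, MulAut.conj g • H = K := by
  have hHN : H ⊓ N = ⊥ := (Subgroup.disjoint_of_coprime_natCard hcop).eq_bot
  have hKN : K ⊓ N = ⊥ := (Subgroup.disjoint_of_coprime_natCard (hcard ▸ hcop)).eq_bot
  have h3 : Nat.card (H.map (QuotientGroup.mk' N)) = Nat.card (K.map (QuotientGroup.mk' N)) := by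
    rw [card_map_mk_of_inf_eq_bot N H hHN, card_map_mk_of_inf_eq_bot N K hKN, hcard]
  obtain ⟨gb, hgb⟩ := hQ _ _ h3
  obtain ⟨g, rfl⟩ := QuotientGroup.mk'_surjective N gb
  rw [← map_conj_smul] at hgb
  set H' := MulAut.conj g • H with hH'
  have hH'card : Nat.card H' = Nat.card H := card_conj_smul g H
  have hNtop : Subgroup.normalizer (N : Set G) = ⊤ := Subgroup.normalizer_eq_top N
  have hKn : K ≤ Subgroup.normalizer (N : Set G) := by rw [hNtop]; exact le_top
  set L := K ⊔ N with hL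
  have hH'L : H' ≤ L := by
    have h4 := Subgroup.le_comap_map (QuotientGroup.mk' N) H'
    rw [hgb, comap_map_mk] at h4
    exact h4
  have hLcard : Nat.card L = Nat.card K * Nat.card N := card_sup_of_disjoint K N hKn hKN
  obtain ⟨x, -, hx⟩ := sz_conj_internal N L H' K le_sup_right (by rw [hNtop]; exact le_top) hH'L
    le_sup_left (by rw [hLcard, hH'card, hcard]) (by rw [hH'card, hcard])
    (by rw [hH'card]; exact hcop) (Or.inl hNsolv)
  refine ⟨x * g, ?_⟩
  rw [map_mul, mul_smul]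
  exact hx

end

end Cfsg.Agent.Lib.Helper7.SameOrder
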