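import Mathlib
import Cfsg.Agent.Lib.Helper7.SameOrder3

set_option autoImplicit false

namespace Cfsg.Agent.Lib.Helper7.SameOrder

open scoped Pointwise
open Cfsg.Agent.Lib.Lead Cfsg.Agent.Lib.Helper7

universe u

section
variable {G : Type u} [Group G] [Finite G]

theorem card_inf_of_small {r : ℕ} [hr : Fact r.Prime] (hD : DP G) (N : Subgroup G) [N.Normal]
    (hN : IsPGroup r N) (H : Subgroup G) (a m' : ℕ) (hm : Nat.card H = r ^ a * m')
    (hrm : ¬ r ∣ m') (hle : r ^ a ≤ Nat.card N) : Nat.card (H ⊓ N : Subgroup G) = r ^ a := by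
  obtain ⟨S₀, hS₀⟩ := Sylow.exists_subgroup_card_pow_prime (G := H) r (n := a) ⟨m', hm⟩
  set S := S₀.map H.subtype with hS
  have hScard : Nat.card S = r ^ a := by rw [hS, card_map_subtype, hS₀]
  have hSH : S ≤ H := Subgroup.map_subtype_le S₀
  have hSN : S ≤ N := le_of_card_ge hD N hN S (IsPGroup.of_card hScard) (by rw [hScard]; exact hle)
  obtain ⟨d, hd⟩ := IsPGroup.iff_card.mp hN
  have h1 : Nat.card (H ⊓ N : Subgroup G) ∣ r ^ d := by
    rw [← hd]; exact Subgroup.card_dvd_of_le inf_le_right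
  obtain ⟨j, -, hj⟩ := (Nat.dvd_prime_pow hr.out).mp h1
  have h2 : Nat.card (H ⊓ N : Subgroup G) ∣ r ^ a * m' := by
    rw [← hm]; exact Subgroup.card_dvd_of_le inf_le_left
  have h3 : (r ^ j).Coprime m' :=
    Nat.Coprime.pow_left j ((Nat.Prime.coprime_iff_not_dvd hr.out).mpr hrm)
  rw [hj] at h2
  have h4 : r ^ j ∣ r ^ a := h3.dvd_of_dvd_mul_right h2
  have h5 : r ^ a ≤ r ^ j := by
    rw [← hj, ← hScard]; exact Subgroup.card_le_of_le (le_inf hSH hSN)
  rw [hj]
  exact le_antisymm (Nat.le_of_dvd (pow_pos hr.out.pos a) h4) h5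

/-- the case where the Sylow `r`-subgroups of the two subgroups are small -/
theorem conj_of_small_sylow {r : ℕ} [hr : Fact r.Prime] (hsolv : Group.IsSolvable G) (hD : DP G)
    (hC : CycExcept r G)
    (ih : ∀ Q : Subgroup G, Nat.card Q < Nat.card G → DP ↥Q → CycExcept r ↥Q → ConjSame ↥Q)
    (N : Subgroup G) [N.Normal] (hN : IsPGroup r N) (hN1 : N ≠ ⊥)
    (H K : Subgroup G) (hcard : Nat.card H = Nat.card K) (a m' : ℕ)
    (hm : Nat.card H = r ^ a * m') (hrm : ¬ r ∣ m') (hle : r ^ a ≤ Nat.card N) :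
    ∃ g : G, MulAut.conj g • H = K := by
  have hrp := hr.out
  have hTH := card_inf_of_small hD N hN H a m' hm hrm hle
  have hTK := card_inf_of_small hD N hN K a m' (hcard ▸ hm) hrm hle
  obtain ⟨g, hg⟩ := hD r hrp (H ⊓ N) (K ⊓ N) (hN.to_le inf_le_right) (hN.to_le inf_le_right)
    (by rw [hTH, hTK])
  have hNtop : Subgroup.normalizer (N : Set G) = ⊤ := Subgroup.normalizer_eq_top N
  have hconjN : ∀ x : G, MulAut.conj x • N = N := fun x =>
    (mem_normalizer_iff_conj_smul x N).mp (by rw [hNtop]; trivial)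
  set H' := MulAut.conj g • H with hH'
  have hH'card : Nat.card H' = r ^ a * m' := (card_conj_smul g H).trans hm
  have hKcard : Nat.card K = r ^ a * m' := hcard ▸ hm
  set T := K ⊓ N with hT
  have hH'N : H' ⊓ N = T := by
    rw [← hg, Subgroup.smul_inf, hconjN]
  have hTcard : Nat.card T = r ^ a := hTK
  -- normalizer
  set M := Subgroup.normalizer (T : Set G) with hM
  have hH'M : H' ≤ M := by
    rw [hM, ← hH'N]
    refine le_trans ?_ Subgroup.inf_normalizer_le_normalizer_inf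
    rw [hNtop, inf_top_eq]
    exact Subgroup.le_normalizer
  have hKM : K ≤ M := by
    rw [hM, hT]
    refine le_trans ?_ Subgroup.inf_normalizer_le_normalizer_inf
    rw [hNtop, inf_top_eq]
    exact Subgroup.le_normalizer
  have hcopT : m'.Coprime (Nat.card T) := by
    rw [hTcard]
    exact (Nat.Coprime.pow_left a ((Nat.Prime.coprime_iff_not_dvd hrp).mpr hrm)).symm
  -- complements
  obtain ⟨BH, hBH, hBHcard⟩ := sz_exists_internal T H' (hH'N ▸ inf_le_left) hH'M m'
    (by rw [hTcard, hH'card]; ring) hcopT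
  obtain ⟨BK, hBK, hBKcard⟩ := sz_exists_internal T K inf_le_left hKM m'
    (by rw [hTcard, hKcard]; ring) hcopT
  -- Hall subgroups of M
  have hMsolv : Group.IsSolvable M := isSolvable_of_le (K := ⊤) le_top
  obtain ⟨μ, ν, hMcard, hμν, hμ, hν⟩ := exists_pi_split {p | p ≠ r} (Nat.card M) Nat.card_pos.ne'
  have hcopν : m'.Coprime ν := by
    apply Nat.coprime_of_dvd
    intro k hk hkm hkν
    have : k = r := by
      by_contra hne
      exact hν k hk hkν hne
    exact hrm (this ▸ hkm)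
  obtain ⟨Q₁, hQ₁M, hQ₁card, hBQ₁⟩ := hall_dominate_in_subgroup M hMsolv μ ν hMcard hμν BH
    (hBH.trans hH'M) (by rw [hBHcard]; exact hcopν)
  obtain ⟨Q₂, hQ₂M, hQ₂card, hBQ₂⟩ := hall_dominate_in_subgroup M hMsolv μ ν hMcard hμν BK
    (hBK.trans hKM) (by rw [hBKcard]; exact hcopν)
  obtain ⟨k, hkM, hk⟩ := hall_conj_in_subgroup M hMsolv μ ν hMcard hμν Q₁ Q₂ hQ₁M hQ₂M hQ₁card
    hQ₂card
  -- induction hypothesis on Q₂
  have hrμ : ¬ r ∣ μ := fun h => hμ r hrp h rfl
  have hrG : r ∣ Nat.card G := by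
    obtain ⟨d, hd⟩ := IsPGroup.iff_card.mp hN
    have hd0 : d ≠ 0 := by
      rintro rfl
      rw [pow_zero, Subgroup.card_eq_one] at hd
      exact hN1 hd
    have : r ∣ Nat.card N := by rw [hd]; exact dvd_pow_self r hd0
    exact this.trans (Subgroup.card_subgroup_dvd_card N)
  have hQ₂lt : Nat.card Q₂ < Nat.card G := by
    rcases lt_or_eq_of_le (Subgroup.card_le_card_group Q₂) with h | h
    · exact h
    · exfalso
      rw [← h, hQ₂card] at hrG
      exact hrμ hrG
  have hCQ : CycExcept r ↥Q₂ := CycExcept_subgroup hC Q₂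
  have hDQ : DP ↥Q₂ := by
    apply DP_of_cyclic
    intro p hp T' hT'
    by_cases hpr : p = r
    · subst hpr
      obtain ⟨j, hj⟩ := IsPGroup.iff_card.mp hT'
      have h1 : Nat.card T' ∣ μ := by
        rw [← hQ₂card]; exact Subgroup.card_subgroup_dvd_card T'
      have hj0 : j = 0 := by
        by_contra hne
        apply hrμ
        rw [hj] at h1
        exact (dvd_pow_self p hne).trans h1
      rw [hj0, pow_zero] at hj
      haveI : Subsingleton T' := (Nat.card_eq_one_iff_unique.mp hj).1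
      exact isCyclic_of_subsingleton
    · exact hCQ p hp hpr T' hT'
  have hQ := ih Q₂ hQ₂lt hDQ hCQ
  have hkBH : MulAut.conj k • BH ≤ Q₂ := by
    rw [← hk]; exact Subgroup.pointwise_smul_le_pointwise_smul_iff.mpr hBQ₁
  obtain ⟨x, hxQ, hx⟩ := conj_in_subgroup Q₂ hQ (MulAut.conj k • BH) BK hkBH hBQ₂
    (by rw [card_conj_smul, hBHcard, hBKcard])
  -- assemble
  have hyM : x * k ∈ M := M.mul_mem (hQ₂M hxQ) hkM
  have hyT : MulAut.conj (x * k) • T = T := (mem_normalizer_iff_conj_smul _ T).mp hyM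
  have hdisjH : BH ⊓ T = ⊥ := by
    apply (Subgroup.disjoint_of_coprime_natCard _).eq_bot
    rw [hBHcard]; exact hcopT
  have hdisjK : BK ⊓ T = ⊥ := by
    apply (Subgroup.disjoint_of_coprime_natCard _).eq_bot
    rw [hBKcard]; exact hcopT
  have hH'eq : BH ⊔ T = H' := by
    apply Subgroup.eq_of_le_of_card_ge (sup_le hBH (hH'N ▸ inf_le_left))
    rw [card_sup_of_disjoint BH T (hBH.trans hH'M) hdisjH, hBHcard, hTcard, hH'card, mul_comm]
  have hKeq : BK ⊔ T = K := by
    apply Subgroup.eq_of_le_of_card_ge (sup_le hBK inf_le_left)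
    rw [card_sup_of_disjoint BK T (hBK.trans hKM) hdisjK, hBKcard, hTcard, hKcard, mul_comm]
  refine ⟨x * k * g, ?_⟩
  rw [map_mul, mul_smul, ← hH', ← hH'eq, Subgroup.smul_sup, hyT, map_mul, mul_smul, hx, hKeq]

end

end Cfsg.Agent.Lib.Helper7.SameOrder
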