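import Mathlib
import Cfsg.Agent.Lib.Helper7.SameOrder4

set_option autoImplicit false

namespace Cfsg.Agent.Lib.Helper7.SameOrder

open scoped Pointwise
open Cfsg.Agent.Lib.Lead Cfsg.Agent.Lib.Helper7

universe u

theorem conjSame_aux (n : ℕ) : ∀ (G : Type u) [Group G] [Finite G], Nat.card G = n →
    Group.IsSolvable G → ∀ r : ℕ, DP G → CycExcept r G → ConjSame G := by
  induction n using Nat.strong_induction_on with
  | _ n ih =>
  intro G _ _ hGn hsolv r hD hC H K hcard
  haveI := hsolv
  by_cases hnt : Nontrivial G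
  swap
  · rw [not_nontrivial_iff_subsingleton] at hnt
    refine ⟨1, ?_⟩
    rw [map_one, one_smul]
    ext x
    have : x = 1 := Subsingleton.elim x 1
    rw [this]
    exact ⟨fun _ => K.one_mem, fun _ => H.one_mem⟩
  obtain ⟨N, q, d, hNn, hN1, hq, hexp, hNcard⟩ := exists_minNormal_elem (G := G)
  haveI := hNn
  haveI : Fact q.Prime := ⟨hq⟩
  have hNp : IsPGroup q N := IsPGroup.of_card hNcard
  have hNpos : 0 < Nat.card N := Nat.card_pos
  have hNne1 : Nat.card N ≠ 1 := by rwa [Ne, Subgroup.card_eq_one]
  have hQlt : Nat.card (G ⧸ N) < n := by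
    have h1 := card_quotient_mul N
    rw [hGn] at h1
    have hQpos : 0 < Nat.card (G ⧸ N) := Nat.card_pos
    have : 2 ≤ Nat.card N := by omega
    nlinarith
  have hQ : ConjSame (G ⧸ N) := ih _ hQlt (G ⧸ N) rfl inferInstance r
    (DP_quotient hD N q d hq hNcard) (CycExcept_quotient hC N q d hq hNcard)
  have ihsub : ∀ Q : Subgroup G, Nat.card Q < Nat.card G → DP ↥Q → CycExcept r ↥Q → ConjSame ↥Q := by
    intro Q hQc hDQ hCQ
    exact ih _ (hGn ▸ hQc) Q rfl (isSolvable_of_le (K := ⊤) le_top) r hDQ hCQ
  by_cases hqr : q = r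
  · -- the normal subgroup is an `r`-group
    subst hqr
    obtain ⟨a, m', hrm, hm⟩ := Nat.exists_eq_pow_mul_and_not_dvd (Nat.card_pos (α := H)).ne' q
      hq.ne_one
    by_cases hle : Nat.card N ≤ q ^ a
    · -- both contain `N`
      obtain ⟨S₀, hS₀⟩ := Sylow.exists_subgroup_card_pow_prime (G := H) q (n := a) ⟨m', hm⟩
      have hSH : S₀.map H.subtype ≤ H := Subgroup.map_subtype_le S₀
      have hScard : Nat.card (S₀.map H.subtype) = q ^ a := by rw [card_map_subtype, hS₀]
      have hNH : N ≤ H := (le_of_card_le hD N hNp _ (IsPGroup.of_card hScard)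
        (by rw [hScard]; exact hle)).trans hSH
      obtain ⟨S₁, hS₁⟩ := Sylow.exists_subgroup_card_pow_prime (G := K) q (n := a)
        ⟨m', hcard ▸ hm⟩
      have hSK : S₁.map K.subtype ≤ K := Subgroup.map_subtype_le S₁
      have hS₁card : Nat.card (S₁.map K.subtype) = q ^ a := by rw [card_map_subtype, hS₁]
      have hNK : N ≤ K := (le_of_card_le hD N hNp _ (IsPGroup.of_card hS₁card)
        (by rw [hS₁card]; exact hle)).trans hSK
      exact conj_of_quotient N hQ H K hNH hNK hcard
    · push Not at hle
      exact conj_of_small_sylow hsolv hD hC ihsub N hNp hN1 H K hcard a m' hm hrm hle.le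
  · -- the normal subgroup is a cyclic `q`-group with `q ≠ r`, hence of order `q`
    have hNcyc : IsCyclic N := hC q hq hqr N hNp
    have hNq : Nat.card N = q := by
      obtain ⟨g, hg⟩ := IsCyclic.exists_generator (α := N)
      have h1 : orderOf g = Nat.card N := orderOf_eq_card_of_forall_mem_zpowers hg
      have h2 : g ^ q = 1 := by
        apply Subtype.ext
        rw [Subgroup.coe_pow, Subgroup.coe_one]
        exact hexp g g.2
      have h3 : orderOf g ∣ q := orderOf_dvd_of_pow_eq_one h2
      rw [h1] at h3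
      rcases (Nat.dvd_prime hq).mp h3 with h | h
      · exact absurd h hNne1
      · exact h
    have hcontains : ∀ L : Subgroup G, q ∣ Nat.card L → N ≤ L := by
      intro L hL
      obtain ⟨x, hx⟩ := exists_prime_orderOf_dvd_card' (G := L) q hL
      have hx' : orderOf (x : G) = q := by rw [Subgroup.orderOf_coe]; exact hx
      have hzc : Nat.card (Subgroup.zpowers (x : G)) = q := by rw [Nat.card_zpowers, hx']
      obtain ⟨g, hg⟩ := hD q hq N (Subgroup.zpowers (x : G)) hNp
        (IsPGroup.of_card (n := 1) (by rw [hzc, pow_one])) (by rw [hNq, hzc])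
      have : MulAut.conj g • N = N :=
        (mem_normalizer_iff_conj_smul g N).mp (by rw [Subgroup.normalizer_eq_top N]; trivial)
      rw [this] at hg
      rw [hg]
      exact Subgroup.zpowers_le.mpr x.2
    by_cases hqm : q ∣ Nat.card H
    · exact conj_of_quotient N hQ H K (hcontains H hqm) (hcontains K (hcard ▸ hqm)) hcard
    · apply conj_of_quotient_coprime N hQ (isSolvable_of_le (K := ⊤) le_top) H K ?_ hcard
      rw [hNq]
      exact ((Nat.Prime.coprime_iff_not_dvd hq).mpr hqm).symm

/-- solvable groups with `DP` and cyclic Sylow subgroups for all primes but one: subgroups of the same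
order are conjugate -/
theorem conjSame_of_solvable {G : Type u} [Group G] [Finite G] [Group.IsSolvable G] (r : ℕ)
    (hD : DP G) (hC : CycExcept r G) : ConjSame G :=
  conjSame_aux _ G rfl inferInstance r hD hC

end Cfsg.Agent.Lib.Helper7.SameOrder
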