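import Mathlib
import Cfsg.Agent.Lib.Helper7.ClassCount

set_option autoImplicit false

/-!
Groups in which elements of the same order are conjugate: general lemmas.
-/

namespace Cfsg.Agent.Lib.Helper7.SOC

open scoped commutatorElement

/-- any two elements of the same order are conjugate -/
def Hyp (G : Type*) [Group G] : Prop := ∀ x y : G, orderOf x = orderOf y → IsConj x y

/-- `M` is the set of all solutions of `g ^ r = 1`, it is a nontrivial abelian normal subgroup -/
structure Data {G : Type*} [Group G] (M : Subgroup G) (r : ℕ) : Prop where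
  prime : r.Prime
  mem_iff : ∀ g : G, g ∈ M ↔ g ^ r = 1
  comm : ∀ a ∈ M, ∀ b ∈ M, a * b = b * a
  ne_bot : M ≠ ⊥

section
variable {G : Type*} [Group G]

theorem orderOf_eq_of_isConj {x y : G} (h : IsConj x y) : orderOf x = orderOf y := by
  obtain ⟨c, hc⟩ := h
  exact SemiconjBy.orderOf_eq (c : G) hc

variable [Finite G]

theorem ncard_order_mul_card_centralizer (h : Hyp G) (g : G) :
    Set.ncard {y : G | orderOf y = orderOf g} * Nat.card (Subgroup.centralizer ({g} : Set G)) =
      Nat.card G := by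
  have h1 : {y : G | orderOf y = orderOf g} = {y : G | IsConj g y} := by
    ext y
    constructor
    · intro hy
      exact h g y hy.symm
    · intro hy
      exact (orderOf_eq_of_isConj hy).symm
  rw [h1]
  exact ncard_cls_mul_card_centralizer g

theorem ncard_order_mul_order_dvd (h : Hyp G) (g : G) :
    Set.ncard {y : G | orderOf y = orderOf g} * orderOf g ∣ Nat.card G := by
  rw [← ncard_order_mul_card_centralizer h g]
  apply Nat.mul_dvd_mul_left
  have hg : g ∈ Subgroup.centralizer ({g} : Set G) := by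
    intro y hy
    rw [Set.mem_singleton_iff] at hy
    subst hy
    rfl
  have h2 := orderOf_dvd_natCard (⟨g, hg⟩ : Subgroup.centralizer ({g} : Set G))
  rwa [← Subgroup.orderOf_coe] at h2

/-- a nontrivial solvable group has a nontrivial abelian normal subgroup -/
theorem exists_abelian_normal [Group.IsSolvable G] [Nontrivial G] :
    ∃ A : Subgroup G, A.Normal ∧ A ≠ ⊥ ∧ ∀ a ∈ A, ∀ b ∈ A, a * b = b * a := by
  classical
  have hex : ∃ n, derivedSeries G n = ⊥ := (Group.isSolvable_def G).mp inferInstance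
  have hk := Nat.find_spec hex
  have hk0 : Nat.find hex ≠ 0 := by
    intro h0
    rw [h0, derivedSeries_zero] at hk
    exact top_ne_bot hk
  obtain ⟨j, hj⟩ := Nat.exists_eq_succ_of_ne_zero hk0
  refine ⟨derivedSeries G j, inferInstance, ?_, ?_⟩
  · exact Nat.find_min hex (by omega)
  · intro a ha b hb
    rw [hj, derivedSeries_succ] at hk
    have : ⁅a, b⁆ ∈ (⊥ : Subgroup G) := by
      rw [← hk]
      exact Subgroup.commutator_mem_commutator ha hb
    rw [Subgroup.mem_bot] at this
    exact (commutatorElement_eq_one_iff_mul_comm.mp this)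

theorem exists_data (h : Hyp G) [Group.IsSolvable G] [Nontrivial G] :
    ∃ (M : Subgroup G) (r : ℕ), M.Normal ∧ Data M r := by
  obtain ⟨A, hAn, hAne, hAc⟩ := exists_abelian_normal (G := G)
  obtain ⟨a, haA, ha1⟩ : ∃ a ∈ A, a ≠ 1 := by
    by_contra hcon
    push Not at hcon
    apply hAne
    rw [Subgroup.eq_bot_iff_forall]
    exact hcon
  have hoa : orderOf a ≠ 1 := by
    intro h1
    exact ha1 (orderOf_eq_one_iff.mp h1)
  obtain ⟨r, hr, hra⟩ := Nat.exists_prime_and_dvd hoa
  have hoa0 : orderOf a ≠ 0 := (orderOf_pos a).ne'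
  set x := a ^ (orderOf a / r) with hx
  have hox : orderOf x = r := orderOf_pow_orderOf_div hoa0 hra
  have hxA : x ∈ A := A.pow_mem haA _
  have hx1 : x ≠ 1 := by
    intro h1
    rw [h1, orderOf_one] at hox
    exact hr.one_lt.ne hox
  let M : Subgroup G :=
    { carrier := {g | g ∈ A ∧ g ^ r = 1}
      mul_mem' := by
        rintro u v ⟨hu, hu'⟩ ⟨hv, hv'⟩
        refine ⟨A.mul_mem hu hv, ?_⟩
        have hc : Commute u v := hAc u hu v hv
        rw [hc.mul_pow, hu', hv', one_mul]
      one_mem' := ⟨A.one_mem, one_pow r⟩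
      inv_mem' := by
        rintro u ⟨hu, hu'⟩
        exact ⟨A.inv_mem hu, by rw [inv_pow, hu', inv_one]⟩ }
  have hmem : ∀ g : G, g ∈ M ↔ g ∈ A ∧ g ^ r = 1 := fun g => Iff.rfl
  refine ⟨M, r, ?_, ⟨hr, ?_, ?_, ?_⟩⟩
  · constructor
    intro n hn g
    rw [hmem] at hn ⊢
    refine ⟨hAn.conj_mem n hn.1 g, ?_⟩
    rw [conj_pow, hn.2, mul_one, mul_inv_cancel]
  · intro g
    rw [hmem]
    constructor
    · exact fun hg => hg.2
    · intro hg
      refine ⟨?_, hg⟩
      by_cases hg1 : g = 1
      · rw [hg1]; exact A.one_mem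
      · haveI := Fact.mk hr
        have hog : orderOf g = r := orderOf_eq_prime hg hg1
        have hc : IsConj x g := h x g (by rw [hox, hog])
        rw [isConj_iff] at hc
        obtain ⟨c, hc⟩ := hc
        rw [← hc]
        exact hAn.conj_mem x hxA c
  · intro u hu v hv
    exact hAc u hu.1 v hv.1
  · intro hbot
    have : x ∈ M := ⟨hxA, by rw [← hox]; exact pow_orderOf_eq_one x⟩
    rw [hbot, Subgroup.mem_bot] at this
    exact hx1 this

end

section quot
variable {G : Type*} [Group G] [Finite G] {M : Subgroup G} [M.Normal] {r : ℕ}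

theorem Data.exists_mem (d : Data M r) : ∃ x ∈ M, x ≠ 1 ∧ orderOf x = r := by
  obtain ⟨x, hxM, hx1⟩ : ∃ a ∈ M, a ≠ 1 := by
    by_contra hcon
    push Not at hcon
    apply d.ne_bot
    rw [Subgroup.eq_bot_iff_forall]
    exact hcon
  haveI := Fact.mk d.prime
  exact ⟨x, hxM, hx1, orderOf_eq_prime ((d.mem_iff x).mp hxM) hx1⟩

/-- lifts of elements whose order is divisible by `r` -/
theorem Data.orderOf_lift (d : Data M r) (x : G)
    (hr : r ∣ orderOf (QuotientGroup.mk x : G ⧸ M)) :
    orderOf x = r * orderOf (QuotientGroup.mk x : G ⧸ M) := by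
  set n := orderOf (QuotientGroup.mk x : G ⧸ M) with hn
  have hn0 : 0 < n := orderOf_pos _
  have h1 : n ∣ orderOf x := by
    have := orderOf_map_dvd (QuotientGroup.mk' M) x
    exact this
  have h2 : x ^ n ∈ M := by
    rw [← QuotientGroup.eq_one_iff, QuotientGroup.mk_pow, hn]
    exact pow_orderOf_eq_one _
  have h3 : orderOf x ∣ n * r := by
    apply orderOf_dvd_of_pow_eq_one
    rw [pow_mul]
    exact (d.mem_iff _).mp h2
  obtain ⟨e, he⟩ := h1
  rw [he] at h3
  have h4 : e ∣ r := Nat.dvd_of_mul_dvd_mul_left hn0 h3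
  rcases (Nat.dvd_prime d.prime).mp h4 with h5 | h5
  · exfalso
    rw [h5, mul_one] at he
    obtain ⟨k, hk⟩ := hr
    have hk0 : 0 < k := by
      rcases Nat.eq_zero_or_pos k with h0 | h0
      · rw [h0, mul_zero] at hk; omega
      · exact h0
    have h6 : x ^ k ∈ M := by
      rw [d.mem_iff, ← pow_mul, mul_comm, ← hk, ← he]
      exact pow_orderOf_eq_one x
    have h7 : (QuotientGroup.mk x : G ⧸ M) ^ k = 1 := by
      rw [← QuotientGroup.mk_pow, QuotientGroup.eq_one_iff]
      exact h6
    have h8 : n ∣ k := orderOf_dvd_of_pow_eq_one h7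
    have h9 := Nat.le_of_dvd hk0 h8
    have := d.prime.two_le
    nlinarith
  · rw [he, h5, mul_comm]

/-- elements of order prime to `r` lift to elements of the same order -/
theorem Data.exists_lift (d : Data M r) (y : G ⧸ M)
    (hr : ¬ r ∣ orderOf y) :
    ∃ x : G, (QuotientGroup.mk x : G ⧸ M) = y ∧ orderOf x = orderOf y := by
  obtain ⟨x, rfl⟩ := QuotientGroup.mk_surjective y
  set n := orderOf (QuotientGroup.mk x : G ⧸ M) with hn
  have hn0 : 0 < n := orderOf_pos _
  by_cases hn1 : n = 1
  · refine ⟨1, ?_, ?_⟩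
    · rw [hn1] at hn
      have := orderOf_eq_one_iff.mp hn.symm
      rw [this]; rfl
    · rw [orderOf_one, hn1]
  have hcop : Nat.Coprime r n := (Nat.Prime.coprime_iff_not_dvd d.prime).mpr hr
  obtain ⟨t, -, ht⟩ := Nat.exists_mul_mod_eq_one_of_coprime hcop (by omega)
  have h2 : x ^ n ∈ M := by
    rw [← QuotientGroup.eq_one_iff, QuotientGroup.mk_pow, hn]
    exact pow_orderOf_eq_one _
  have himg : (QuotientGroup.mk (x ^ (r * t)) : G ⧸ M) = QuotientGroup.mk x := by
    rw [QuotientGroup.mk_pow]
    conv_rhs => rw [← pow_one (QuotientGroup.mk x : G ⧸ M)]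
    rw [pow_eq_pow_iff_modEq, ← hn]
    show r * t % n = 1 % n
    rw [ht, Nat.mod_eq_of_lt (by omega)]
  refine ⟨x ^ (r * t), himg, ?_⟩
  apply Nat.dvd_antisymm
  · apply orderOf_dvd_of_pow_eq_one
    have e1 : (x ^ (r * t)) ^ n = ((x ^ n) ^ r) ^ t := by
      rw [← pow_mul, ← pow_mul, ← pow_mul]
      congr 1
      ring
    rw [e1, (d.mem_iff _).mp h2, one_pow]
  · have := orderOf_map_dvd (QuotientGroup.mk' M) (x ^ (r * t))
    rw [QuotientGroup.mk'_apply, himg] at this
    exact this

/-- the hypothesis passes to the quotient by `M` -/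
theorem Data.hyp_quotient (d : Data M r) (h : Hyp G) : Hyp (G ⧸ M) := by
  intro x y hxy
  by_cases hr : r ∣ orderOf x
  · obtain ⟨x', rfl⟩ := QuotientGroup.mk_surjective x
    obtain ⟨y', rfl⟩ := QuotientGroup.mk_surjective y
    have h1 := d.orderOf_lift x' hr
    have h2 := d.orderOf_lift y' (hxy ▸ hr)
    have h3 : IsConj x' y' := h x' y' (by rw [h1, h2, hxy])
    exact (QuotientGroup.mk' M).map_isConj h3
  · obtain ⟨x', rfl, hx'⟩ := d.exists_lift x hr
    obtain ⟨y', rfl, hy'⟩ := d.exists_lift y (hxy ▸ hr)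
    have h3 : IsConj x' y' := h x' y' (by rw [hx', hy', hxy])
    exact (QuotientGroup.mk' M).map_isConj h3

theorem Data.le_centralizer (d : Data M r) {x : G} (hx : x ∈ M) :
    M ≤ Subgroup.centralizer ({x} : Set G) := by
  intro m hm y hy
  rw [Set.mem_singleton_iff] at hy
  subst hy
  exact d.comm y hx m hm

theorem Data.ncard_order (d : Data M r) :
    Set.ncard {y : G | orderOf y = r} = Nat.card M - 1 := by
  haveI := Fact.mk d.prime
  have h1 : {y : G | orderOf y = r} = (M : Set G) \ {1} := by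
    ext y
    simp only [Set.mem_ofPred_eq, Set.mem_sdiff, SetLike.mem_coe, Set.mem_singleton_iff]
    constructor
    · intro hy
      refine ⟨(d.mem_iff y).mpr (by rw [← hy]; exact pow_orderOf_eq_one y), ?_⟩
      intro h1
      rw [h1, orderOf_one] at hy
      exact d.prime.one_lt.ne hy
    · rintro ⟨hy, hy1⟩
      exact orderOf_eq_prime ((d.mem_iff y).mp hy) hy1
  rw [h1, Set.ncard_sdiff_singleton_of_mem (M.one_mem)]
  congr 1

/-- `|M| - 1` divides `|G : M|` -/
theorem Data.pred_card_dvd_index (d : Data M r) (h : Hyp G) :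
    Nat.card M - 1 ∣ M.index := by
  obtain ⟨x, hxM, hx1, hox⟩ := d.exists_mem
  have h1 := ncard_order_mul_card_centralizer h x
  rw [hox, d.ncard_order] at h1
  obtain ⟨c, hc⟩ := Subgroup.card_dvd_of_le (d.le_centralizer hxM)
  have h2 := M.card_mul_index
  rw [hc, ← h2] at h1
  have hpos : 0 < Nat.card M := Nat.card_pos
  refine ⟨c, ?_⟩
  have : Nat.card M * ((Nat.card M - 1) * c) = Nat.card M * M.index := by
    rw [← h1]; ring
  exact (Nat.eq_of_mul_eq_mul_left hpos this).symm

/-- if `|M| - 1 = |G : M|` then `M` is the centralizer of each of its nonidentity elements -/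
theorem Data.centralizer_eq (d : Data M r) (h : Hyp G) (heq : Nat.card M - 1 = M.index)
    {x : G} (hxM : x ∈ M) (hx1 : x ≠ 1) : Subgroup.centralizer ({x} : Set G) = M := by
  haveI := Fact.mk d.prime
  have hox : orderOf x = r := orderOf_eq_prime ((d.mem_iff x).mp hxM) hx1
  have h1 := ncard_order_mul_card_centralizer h x
  rw [hox, d.ncard_order, heq] at h1
  have h2 := M.card_mul_index
  have h3 : Nat.card (Subgroup.centralizer ({x} : Set G)) = Nat.card M := by
    have hi : 0 < M.index := Nat.pos_of_ne_zero Subgroup.index_ne_zero_of_finite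
    have : M.index * Nat.card (Subgroup.centralizer ({x} : Set G)) = M.index * Nat.card M := by
      rw [h1, ← h2]; ring
    exact Nat.eq_of_mul_eq_mul_left hi this
  exact (Subgroup.eq_of_le_of_card_ge (d.le_centralizer hxM) h3.le).symm

/-- two distinct elements of the quotient, of the same order divisible by `r`, give `2|M|`
elements of order `r * n` -/
theorem Data.two_fibers (d : Data M r) (g₁ g₂ : G)
    (hne : (QuotientGroup.mk g₁ : G ⧸ M) ≠ QuotientGroup.mk g₂)
    (n : ℕ) (h1 : orderOf (QuotientGroup.mk g₁ : G ⧸ M) = n)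
    (h2 : orderOf (QuotientGroup.mk g₂ : G ⧸ M) = n) (hrn : r ∣ n) :
    2 * Nat.card M ≤ Set.ncard {y : G | orderOf y = r * n} := by
  have hmk : ∀ (g : G) (m : M), (QuotientGroup.mk (g * m) : G ⧸ M) = QuotientGroup.mk g := by
    intro g m
    rw [QuotientGroup.mk_mul, (QuotientGroup.eq_one_iff (m : G)).mpr m.2, mul_one]
  have hord : ∀ (g : G), orderOf (QuotientGroup.mk g : G ⧸ M) = n → ∀ m : M,
      orderOf (g * m) = r * n := by
    intro g hg m
    have := d.orderOf_lift (g * m) (by rw [hmk, hg]; exact hrn)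
    rw [hmk, hg] at this
    exact this
  let f : M ⊕ M → {y : G | orderOf y = r * n} :=
    Sum.elim (fun m => ⟨g₁ * m, hord g₁ h1 m⟩) (fun m => ⟨g₂ * m, hord g₂ h2 m⟩)
  have hf : Function.Injective f := by
    rintro (a | a) (b | b) hab
    · have : g₁ * a = g₁ * b := congrArg Subtype.val hab
      rw [mul_left_cancel_iff.mp this |> Subtype.ext]
    · exfalso
      have : g₁ * a = g₂ * b := congrArg Subtype.val hab
      apply hne
      rw [← hmk g₁ a, ← hmk g₂ b, this]
    · exfalso
      have : g₂ * a = g₁ * b := congrArg Subtype.val hab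
      apply hne
      rw [← hmk g₁ b, ← hmk g₂ a, this]
    · have : g₂ * a = g₂ * b := congrArg Subtype.val hab
      rw [mul_left_cancel_iff.mp this |> Subtype.ext]
  have h3 := Nat.card_le_card_of_injective f hf
  rw [Nat.card_sum, Nat.card_coe_set_eq] at h3
  omega

end quot

end Cfsg.Agent.Lib.Helper7.SOC
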