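import Mathlib
import Cfsg.Prelude.Def_KGroupFacts
import Cfsg.Agent.Lib.Helper7.Schur8

set_option autoImplicit false

namespace Cfsg.Agent.Lib.Helper7.Schur

open Cfsg Matrix.GeneralLinearGroup

universe u v w

theorem scalar_injective {n : ℕ} (hn : 0 < n) :
    Function.Injective (scalar (Fin n) : ℂˣ →* GL (Fin n) ℂ) := by
  rw [injective_iff_map_eq_one]
  intro c hc
  exact scalar_eq_one hn c hc

/-- Projective representations of `Q` lift to linear representations of a Schur cover. -/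
theorem exists_lift_of_cover {Q : Type u} [Group Q] {A : Type*} [CommGroup A] [Finite A]
    (hA : Cfsg.HasSchurMultiplier Q A) {Γ : Type v} [Group Γ] [Finite Γ] (σ : Γ →* Q)
    (hσ : Cfsg.IsStemExtension σ) (hcard : Nat.card A ≤ Nat.card σ.ker) (n : ℕ)
    (γ : Q →* (GL (Fin n) ℂ ⧸ Subgroup.center (GL (Fin n) ℂ))) :
    ∃ ρ : Γ →* GL (Fin n) ℂ,
      (QuotientGroup.mk' (Subgroup.center (GL (Fin n) ℂ))).comp ρ = γ.comp σ := by
  rcases Nat.eq_zero_or_pos n with hn0 | hn
  · subst hn0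
    refine ⟨1, ?_⟩
    ext g
    have hsub : Subsingleton (GL (Fin 0) ℂ) := by
      constructor
      intro a b
      apply Units.ext
      exact Subsingleton.elim _ _
    obtain ⟨M, hM⟩ := QuotientGroup.mk'_surjective (Subgroup.center (GL (Fin 0) ℂ)) (γ (σ g))
    rw [MonoidHom.comp_apply, MonoidHom.comp_apply, ← hM]
    congr 1
    exact Subsingleton.elim _ _
  let Z := Subgroup.center (GL (Fin n) ℂ)
  let P₁ : Subgroup (Γ × GL (Fin n) ℂ) :=
    (((γ.comp σ).comp (MonoidHom.fst Γ (GL (Fin n) ℂ))).eqLocus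
      ((QuotientGroup.mk' Z).comp (MonoidHom.snd Γ (GL (Fin n) ℂ)))) ⊓
    ((det : GL (Fin n) ℂ →* ℂˣ).comp (MonoidHom.snd Γ (GL (Fin n) ℂ))).ker
  have hP1 : ∀ x : P₁, γ (σ x.1.1) = QuotientGroup.mk' Z x.1.2 := fun x => x.2.1
  have hP2 : ∀ x : P₁, det x.1.2 = 1 := fun x => x.2.2
  let π : P₁ →* Γ := (MonoidHom.fst Γ (GL (Fin n) ℂ)).comp P₁.subtype
  have hscal : ∀ c : ℂˣ, QuotientGroup.mk' Z (scalar (Fin n) c) = 1 := by
    intro c
    rw [QuotientGroup.mk'_apply, QuotientGroup.eq_one_iff]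
    exact scalar_mem_center c
  have hπ : Function.Surjective π := by
    intro g
    obtain ⟨M₀, hM₀⟩ := QuotientGroup.mk'_surjective Z (γ (σ g))
    obtain ⟨c, hc⟩ := exists_units_root hn (det M₀)⁻¹
    refine ⟨⟨(g, scalar (Fin n) c * M₀), ⟨?_, ?_⟩⟩, rfl⟩
    · show γ (σ g) = QuotientGroup.mk' Z (scalar (Fin n) c * M₀)
      rw [map_mul, hscal, one_mul, hM₀]
    · show det (scalar (Fin n) c * M₀) = 1
      rw [map_mul, det_scalar, Fintype.card_fin, hc, inv_mul_cancel]
  -- elements over the kernel of `σ` have central matrix part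
  have hcenM : ∀ x : P₁, σ x.1.1 = 1 → x.1.2 ∈ Z := by
    intro x hx
    have := hP1 x
    rw [hx, map_one] at this
    rw [← QuotientGroup.eq_one_iff]
    exact this.symm
  have hZ : (σ.comp π).ker ≤ Subgroup.center P₁ := by
    intro x hx
    have h1 : x.1.1 ∈ Subgroup.center Γ := hσ.2.1 hx
    have h2 : x.1.2 ∈ Z := hcenM x hx
    rw [Subgroup.mem_center_iff]
    intro y
    apply Subtype.ext
    apply Prod.ext
    · exact Subgroup.mem_center_iff.1 h1 _
    · exact Subgroup.mem_center_iff.1 h2 _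
  have hkerM : ∀ x : π.ker, (x : P₁).1.2 ∈ (scalar (Fin n) : ℂˣ →* GL (Fin n) ℂ).range := by
    intro x
    rw [← center_eq_range_scalar]
    apply hcenM
    have : (x : P₁).1.1 = 1 := x.2
    rw [this, map_one]
  haveI : NeZero n := ⟨hn.ne'⟩
  haveI : Finite P₁ := by
    rw [π.finite_iff_finite_ker_range]
    refine ⟨?_, inferInstance⟩
    let j : π.ker → rootsOfUnity n ℂ := fun x => ⟨Classical.choose (hkerM x), by
      have h1 := Classical.choose_spec (hkerM x)
      have h2 := hP2 x.1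
      rw [← h1, det_scalar, Fintype.card_fin] at h2
      rw [mem_rootsOfUnity]
      exact h2⟩
    have hj : Function.Injective j := by
      intro x y hxy
      have h1 := Classical.choose_spec (hkerM x)
      have h2 := Classical.choose_spec (hkerM y)
      have h3 : Classical.choose (hkerM x) = Classical.choose (hkerM y) :=
        congrArg Subtype.val hxy
      apply Subtype.ext
      apply Subtype.ext
      apply Prod.ext
      · rw [show (x : P₁).1.1 = 1 from x.2, show (y : P₁).1.1 = 1 from y.2]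
      · rw [← h1, ← h2, h3]
    exact Finite.of_injective j hj
  have htriv : ∀ x : P₁, x ∈ π.ker → x ∈ commutator P₁ → x = 1 :=
    fun x hx1 hx2 => eq_one_of_cover hA σ hσ hcard π hπ hZ x hx1 hx2
  let κ : π.ker →* (scalar (Fin n) : ℂˣ →* GL (Fin n) ℂ).range :=
    (((MonoidHom.snd Γ (GL (Fin n) ℂ)).comp P₁.subtype).comp π.ker.subtype).codRestrict _ hkerM
  let E := MonoidHom.ofInjective (scalar_injective hn)
  let ι : π.ker →* ℂˣ := E.symm.toMonoidHom.comp κ
  have hι : ∀ x : π.ker, scalar (Fin n) (ι x) = (x : P₁).1.2 := by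
    intro x
    have h1 : E (ι x) = κ x := E.apply_symm_apply (κ x)
    exact congrArg Subtype.val h1
  obtain ⟨θ, hθ⟩ := exists_hom_extending π.ker ι (by
    intro z hz
    have h1 : (z : P₁) = 1 := htriv z z.2 hz
    have h2 : z = 1 := Subtype.ext h1
    rw [h2, map_one])
  let ρ₁ : P₁ →* GL (Fin n) ℂ :=
    { toFun := fun p => scalar (Fin n) (θ p)⁻¹ * p.1.2
      map_one' := by simp
      map_mul' := by
        intro p q
        show scalar (Fin n) (θ (p * q))⁻¹ * (p.1.2 * q.1.2)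
          = scalar (Fin n) (θ p)⁻¹ * p.1.2 * (scalar (Fin n) (θ q)⁻¹ * q.1.2)
        rw [map_mul, mul_inv, map_mul]
        have hc := scalar_commute (θ q)⁻¹ p.1.2
        calc scalar (Fin n) (θ p)⁻¹ * scalar (Fin n) (θ q)⁻¹ * (p.1.2 * q.1.2)
            = scalar (Fin n) (θ p)⁻¹ * (scalar (Fin n) (θ q)⁻¹ * p.1.2) * q.1.2 := by group
          _ = scalar (Fin n) (θ p)⁻¹ * (p.1.2 * scalar (Fin n) (θ q)⁻¹) * q.1.2 := by rw [hc]
          _ = _ := by group }
  have hρ₁ : ∀ p : P₁, ρ₁ p = scalar (Fin n) (θ p)⁻¹ * p.1.2 := fun p => rfl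
  have hle : π.ker ≤ ρ₁.ker := by
    intro x hx
    rw [MonoidHom.mem_ker, hρ₁, ← hι ⟨x, hx⟩, hθ ⟨x, hx⟩, ← map_mul, inv_mul_cancel, map_one]
  let ρ : Γ →* GL (Fin n) ℂ := π.liftOfSurjective hπ ⟨ρ₁, hle⟩
  have hρ : ∀ p : P₁, ρ (π p) = ρ₁ p := fun p =>
    MonoidHom.liftOfRightInverse_comp_apply _ _ _ _ p
  have key : ∀ p : P₁, QuotientGroup.mk' Z (ρ (π p)) = γ (σ (π p)) := by
    intro p
    rw [hρ, hρ₁, map_mul, hscal, one_mul]
    exact (hP1 p).symm
  refine ⟨ρ, ?_⟩
  ext g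
  obtain ⟨p, hp⟩ := hπ g
  rw [← hp]
  exact key p

end Cfsg.Agent.Lib.Helper7.Schur
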