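import Mathlib
import Cfsg.Prelude.Def_KGroupFacts
import Cfsg.Agent.Lib.Helper7.Schur9

set_option autoImplicit false

namespace Cfsg.Agent.Lib.Helper7.Schur

open Cfsg

universe u v w

/-- Generalisation of `ker_surjection_of_fp` where the second extension need not be stem. -/
theorem ker_map_of_fp {Q : Type u} {Γ : Type v} {Δ : Type w} [Group Q] [Group Γ]
    [Group Δ] (σ : Γ →* Q) (τ : Δ →* Q) (hσs : Function.Surjective σ)
    (hτs : Function.Surjective τ) (hσc : σ.ker ≤ commutator Γ)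
    (hkey : ∀ x : fp σ τ, x ∈ commutator (fp σ τ) → x.1.1 = 1 → x.1.2 = 1) :
    ∃ f : σ.ker →* Δ, f.range = τ.ker ⊓ commutator Δ := by
  let T : Subgroup (fp σ τ) := commutator (fp σ τ) ⊓ (fpTot σ τ).ker
  let φ₁ : T →* σ.ker := ((fpFst σ τ).comp T.subtype).codRestrict σ.ker (fun x => x.2.2)
  let φ₂ : T →* Δ := (fpSnd σ τ).comp T.subtype
  have h1inj : Function.Injective φ₁ := by
    rw [injective_iff_map_eq_one]
    intro x hx
    have hx1 : x.1.1.1 = 1 := congrArg Subtype.val hx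
    have hx2 : x.1.1.2 = 1 := hkey x.1 x.2.1 hx1
    apply Subtype.ext
    exact fp_ext σ τ hx1 hx2
  have h1surj : Function.Surjective φ₁ := by
    rintro ⟨a, ha⟩
    obtain ⟨x, hx, hxa⟩ := exists_mem_commutator_map (fpFst σ τ) (fpFst_surjective σ τ hτs)
      (hσc ha)
    refine ⟨⟨x, hx, ?_⟩, Subtype.ext hxa⟩
    show x ∈ (fpTot σ τ).ker
    rw [MonoidHom.mem_ker, fpTot_apply]
    have : x.1.1 = a := hxa
    rw [this]
    exact ha
  let e : T ≃* σ.ker := MulEquiv.ofBijective φ₁ ⟨h1inj, h1surj⟩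
  refine ⟨φ₂.comp e.symm.toMonoidHom, ?_⟩
  apply le_antisymm
  · rintro _ ⟨a, rfl⟩
    have hx : ((e.symm a : T) : fp σ τ) ∈ commutator (fp σ τ) ⊓ (fpTot σ τ).ker := (e.symm a).2
    refine ⟨?_, ?_⟩
    · have h2 : ((e.symm a : T) : fp σ τ) ∈ (fpTot σ τ).ker := hx.2
      rw [MonoidHom.mem_ker, fpTot_apply'] at h2
      exact h2
    · exact map_mem_commutator (fpSnd σ τ) hx.1
  · rintro b ⟨hb1, hb2⟩
    obtain ⟨x, hx, hxb⟩ := exists_mem_commutator_map (fpSnd σ τ) (fpSnd_surjective σ τ hσs) hb2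
    have hxT : x ∈ T := by
      refine ⟨hx, ?_⟩
      show x ∈ (fpTot σ τ).ker
      rw [MonoidHom.mem_ker, fpTot_apply']
      have : x.1.2 = b := hxb
      rw [this]
      exact hb1
    refine ⟨e ⟨x, hxT⟩, ?_⟩
    show φ₂ (e.symm (e ⟨x, hxT⟩)) = b
    rw [e.symm_apply_apply]
    exact hxb

/-- For a finite central extension `π : P → Q` of a group with multiplier `A`, the part of the
kernel inside the commutator subgroup is a homomorphic image of `A`. -/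
theorem exists_hom_range_eq {Q : Type u} [Group Q] {A : Type v} [CommGroup A]
    (hA : Cfsg.HasSchurMultiplier Q A) {P : Type w} [Group P] [Finite P] (π : P →* Q)
    (hπ : Function.Surjective π) (hZ : π.ker ≤ Subgroup.center P) :
    ∃ f : A →* P, f.range = π.ker ⊓ commutator P := by
  obtain ⟨Γ₀, hG₀, hF₀, σ₀, hσ₀, ⟨e₀⟩⟩ := hA.1
  haveI : Finite A := Finite.of_equiv _ e₀.toEquiv
  have hkey : ∀ x : fp σ₀ π, x ∈ commutator (fp σ₀ π) → x.1.1 = 1 → x.1.2 = 1 := by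
    intro x hx hx1
    have h1 := eq_one_of_cover hA σ₀ hσ₀ (Nat.card_congr e₀.toEquiv).ge (fpFst σ₀ π)
      (fpFst_surjective σ₀ π hπ) (ker_fpTot_le_center σ₀ π hσ₀.2.1 hZ) x hx1 hx
    rw [h1]
    rfl
  obtain ⟨f, hf⟩ := ker_map_of_fp σ₀ π hσ₀.1 hπ hσ₀.2.2 hkey
  refine ⟨f.comp e₀.symm.toMonoidHom, ?_⟩
  rw [← hf]
  apply le_antisymm
  · rintro _ ⟨a, rfl⟩
    exact ⟨e₀.symm a, rfl⟩
  · rintro _ ⟨b, rfl⟩
    exact ⟨e₀ b, by simp⟩

end Cfsg.Agent.Lib.Helper7.Schur
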