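import Mathlib
import Cfsg.Prelude.Def_KGroupFacts
import Cfsg.Agent.Lib.Helper7.Schur10

set_option autoImplicit false

namespace Cfsg.Agent.Lib.Helper7.Schur

open Cfsg
open scoped commutatorElement

universe u v w

section commOn

variable {G : Type u} [Group G]

/-- For `k` with all `⁅k, d⁆`, `d ∈ H`, central, `d ↦ ⁅k, d⁆` is a homomorphism on `H`. -/
def commHomOn (k : G) (H : Subgroup G) (h : ∀ d ∈ H, ⁅k, d⁆ ∈ Subgroup.center G) :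
    H →* Subgroup.center G where
  toFun d := ⟨⁅k, (d : G)⁆, h d d.2⟩
  map_one' := by
    apply Subtype.ext
    simp
  map_mul' a b := by
    apply Subtype.ext
    show ⁅k, (a : G) * (b : G)⁆ = ⁅k, (a : G)⁆ * ⁅k, (b : G)⁆
    have hb := Subgroup.mem_center_iff.1 (h b b.2)
    rw [commutatorElement_def, commutatorElement_def] at *
    calc k * ((a : G) * (b : G)) * k⁻¹ * ((a : G) * (b : G))⁻¹
        = k * (a : G) * k⁻¹ * (k * (b : G) * k⁻¹ * (b : G)⁻¹) * (a : G)⁻¹ := by group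
      _ = k * (a : G) * k⁻¹ * ((a : G)⁻¹ * (k * (b : G) * k⁻¹ * (b : G)⁻¹)) := by
          rw [mul_assoc, hb (a : G)⁻¹]
      _ = _ := by rw [commutatorElement_def]; group

theorem commHomOn_apply (k : G) (H : Subgroup G) (h : ∀ d ∈ H, ⁅k, d⁆ ∈ Subgroup.center G)
    (d : H) : ((commHomOn k H h d : Subgroup.center G) : G) = ⁅k, (d : G)⁆ := rfl

theorem pow_card_abelianization_mem_commutator {Q : Type v} [Group Q] [Finite Q] (q : Q) :
    q ^ Nat.card (Abelianization Q) ∈ commutator Q := by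
  rw [← Abelianization.ker_of, MonoidHom.mem_ker, map_pow]
  exact pow_card_eq_one'

/-- If `⁅k, ·⁆` is central-valued on `H` and trivial on the kernel of a surjection `H → Q`, then
all `⁅k, d⁆`, `d ∈ H`, have order dividing `|Q^ab|`. -/
theorem commutator_pow_eq_one {Q : Type v} [Group Q] [Finite Q] (k : G) (H : Subgroup G)
    (π : H →* Q) (hπ : Function.Surjective π) (h1 : ∀ d ∈ H, ⁅k, d⁆ ∈ Subgroup.center G)
    (h2 : ∀ d : H, d ∈ π.ker → ⁅k, (d : G)⁆ = 1) (d : G) (hd : d ∈ H) :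
    ⁅k, d⁆ ^ Nat.card (Abelianization Q) = 1 := by
  have hle : π.ker ≤ (commHomOn k H h1).ker := by
    intro x hx
    rw [MonoidHom.mem_ker]
    apply Subtype.ext
    exact h2 x hx
  let Ψ : Q →* Subgroup.center G := π.liftOfSurjective hπ ⟨commHomOn k H h1, hle⟩
  have hΨ : ∀ x : H, Ψ (π x) = commHomOn k H h1 x := fun x =>
    MonoidHom.liftOfRightInverse_comp_apply _ _ _ _ x
  have h3 := hom_commutator_eq_one center_comm Ψ
    (pow_card_abelianization_mem_commutator (π ⟨d, hd⟩))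
  rw [map_pow, hΨ] at h3
  have h4 := congrArg (fun z : Subgroup.center G => (z : G)) h3
  simpa [commHomOn_apply] using h4

end commOn

section prod

variable {Δ : Type w} {Q₁ : Type u} {Q₂ : Type v} [Group Δ] [Group Q₁] [Group Q₂]

/-- The preimage of `Q₁ × 1`. -/
def D1 (τ : Δ →* Q₁ × Q₂) : Subgroup Δ := ((MonoidHom.snd Q₁ Q₂).comp τ).ker

/-- The preimage of `1 × Q₂`. -/
def D2 (τ : Δ →* Q₁ × Q₂) : Subgroup Δ := ((MonoidHom.fst Q₁ Q₂).comp τ).ker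

instance D1_normal (τ : Δ →* Q₁ × Q₂) : (D1 τ).Normal := MonoidHom.normal_ker _

instance D2_normal (τ : Δ →* Q₁ × Q₂) : (D2 τ).Normal := MonoidHom.normal_ker _

theorem mem_D1 (τ : Δ →* Q₁ × Q₂) (d : Δ) : d ∈ D1 τ ↔ (τ d).2 = 1 := Iff.rfl

theorem mem_D2 (τ : Δ →* Q₁ × Q₂) (d : Δ) : d ∈ D2 τ ↔ (τ d).1 = 1 := Iff.rfl

theorem ker_le_D1 (τ : Δ →* Q₁ × Q₂) : τ.ker ≤ D1 τ := by
  intro d hd
  rw [mem_D1, MonoidHom.mem_ker.1 hd]
  rfl

theorem ker_le_D2 (τ : Δ →* Q₁ × Q₂) : τ.ker ≤ D2 τ := by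
  intro d hd
  rw [mem_D2, MonoidHom.mem_ker.1 hd]
  rfl

theorem mem_ker_of_D1_D2 (τ : Δ →* Q₁ × Q₂) {d : Δ} (h1 : d ∈ D1 τ) (h2 : d ∈ D2 τ) :
    d ∈ τ.ker := by
  rw [MonoidHom.mem_ker]
  exact Prod.ext h2 h1

theorem D1_sup_D2 (τ : Δ →* Q₁ × Q₂) (hτ : Function.Surjective τ) : D1 τ ⊔ D2 τ = ⊤ := by
  rw [eq_top_iff]
  intro d _
  obtain ⟨a, ha⟩ := hτ ((τ d).1, 1)
  have h1 : a ∈ D1 τ := by rw [mem_D1, ha]
  have h2 : a⁻¹ * d ∈ D2 τ := by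
    rw [mem_D2, map_mul, map_inv, ha]
    simp
  have : d = a * (a⁻¹ * d) := by group
  rw [this]
  exact Subgroup.mul_mem_sup h1 h2

theorem commutator_D1_D2_le_ker (τ : Δ →* Q₁ × Q₂) : ⁅D1 τ, D2 τ⁆ ≤ τ.ker := by
  rw [Subgroup.commutator_le]
  intro a ha b hb
  rw [MonoidHom.mem_ker, map_commutatorElement, commutatorElement_eq_one_iff_mul_comm]
  rw [mem_D1] at ha
  rw [mem_D2] at hb
  apply Prod.ext
  · simp [hb]
  · simp [ha]

theorem commutator_sup_le_sup {G : Type u} [Group G] (H₁ H₂ K : Subgroup G) [H₁.Normal]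
    [H₂.Normal] [K.Normal] : ⁅H₁ ⊔ H₂, K⁆ ≤ ⁅H₁, K⁆ ⊔ ⁅H₂, K⁆ := by
  rw [Subgroup.commutator_le]
  intro g hg k hk
  rw [Subgroup.mem_sup_of_normal_left] at hg
  obtain ⟨a, ha, b, hb, rfl⟩ := hg
  have h1 : ⁅a * b, k⁆ = a * ⁅b, k⁆ * a⁻¹ * ⁅a, k⁆ := by
    simp only [commutatorElement_def]; group
  rw [h1]
  have hn : (⁅H₂, K⁆).Normal := inferInstance
  exact Subgroup.mul_mem _
    (Subgroup.mem_sup_right (hn.conj_mem _ (Subgroup.commutator_mem_commutator hb hk) a))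
    (Subgroup.mem_sup_left (Subgroup.commutator_mem_commutator ha hk))

theorem commutator_le_sup (τ : Δ →* Q₁ × Q₂) (hτ : Function.Surjective τ) :
    commutator Δ ≤ ⁅D1 τ, D1 τ⁆ ⊔ ⁅D2 τ, D2 τ⁆ ⊔ ⁅D1 τ, D2 τ⁆ := by
  have h0 : commutator Δ = ⁅D1 τ ⊔ D2 τ, D1 τ ⊔ D2 τ⁆ := by
    rw [D1_sup_D2 τ hτ, commutator_def]
  rw [h0]
  have hn : (D1 τ ⊔ D2 τ).Normal := by rw [D1_sup_D2 τ hτ]; infer_instance
  refine (commutator_sup_le_sup (D1 τ) (D2 τ) (D1 τ ⊔ D2 τ)).trans ?_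
  have h1 : ⁅D1 τ, D1 τ ⊔ D2 τ⁆ ≤ ⁅D1 τ, D1 τ⁆ ⊔ ⁅D1 τ, D2 τ⁆ := by
    rw [Subgroup.commutator_comm (D1 τ) (D1 τ ⊔ D2 τ)]
    refine (commutator_sup_le_sup (D1 τ) (D2 τ) (D1 τ)).trans ?_
    rw [Subgroup.commutator_comm (D2 τ) (D1 τ)]
  have h2 : ⁅D2 τ, D1 τ ⊔ D2 τ⁆ ≤ ⁅D1 τ, D2 τ⁆ ⊔ ⁅D2 τ, D2 τ⁆ := by
    rw [Subgroup.commutator_comm (D2 τ) (D1 τ ⊔ D2 τ)]
    exact commutator_sup_le_sup (D1 τ) (D2 τ) (D2 τ)
  refine sup_le (h1.trans ?_) (h2.trans ?_)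
  · exact sup_le (le_sup_of_le_left le_sup_left) le_sup_right
  · exact sup_le le_sup_right (le_sup_of_le_left le_sup_right)

/-- Decomposition of the part of the kernel inside the commutator subgroup. -/
theorem ker_inf_commutator_le (τ : Δ →* Q₁ × Q₂) (hτ : Function.Surjective τ) :
    τ.ker ⊓ commutator Δ ≤
      (τ.ker ⊓ ⁅D1 τ, D1 τ⁆) ⊔ (τ.ker ⊓ ⁅D2 τ, D2 τ⁆) ⊔ ⁅D1 τ, D2 τ⁆ := by
  rintro x ⟨hx1, hx2⟩
  have hx3 := commutator_le_sup τ hτ hx2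
  rw [Subgroup.mem_sup_of_normal_right] at hx3
  obtain ⟨y, hy, c₁₂, hc₁₂, rfl⟩ := hx3
  rw [Subgroup.mem_sup_of_normal_right] at hy
  obtain ⟨c₁, hc₁, c₂, hc₂, rfl⟩ := hy
  have h12 : c₁₂ ∈ τ.ker := commutator_D1_D2_le_ker τ hc₁₂
  have h1D : c₁ ∈ D1 τ := Subgroup.commutator_le_right (D1 τ) (D1 τ) hc₁
  have h2D : c₂ ∈ D2 τ := Subgroup.commutator_le_right (D2 τ) (D2 τ) hc₂
  have hprod : c₁ * c₂ ∈ τ.ker := by
    have := Subgroup.mul_mem _ hx1 (Subgroup.inv_mem _ h12)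
    simpa using this
  rw [MonoidHom.mem_ker, map_mul] at hprod
  rw [mem_D1] at h1D
  rw [mem_D2] at h2D
  have e1 : (τ c₁).1 = 1 := by
    have := congrArg Prod.fst hprod
    simpa [h2D] using this
  have e2 : (τ c₂).2 = 1 := by
    have := congrArg Prod.snd hprod
    simpa [h1D] using this
  have hc₁k : c₁ ∈ τ.ker := by
    rw [MonoidHom.mem_ker]; exact Prod.ext e1 h1D
  have hc₂k : c₂ ∈ τ.ker := by
    rw [MonoidHom.mem_ker]; exact Prod.ext h2D e2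
  exact Subgroup.mul_mem _ (Subgroup.mul_mem _
    (Subgroup.mem_sup_left (Subgroup.mem_sup_left ⟨hc₁k, hc₁⟩))
    (Subgroup.mem_sup_left (Subgroup.mem_sup_right ⟨hc₂k, hc₂⟩)))
    (Subgroup.mem_sup_right hc₁₂)

/-- The restriction `D1 → Q₁`. -/
def res1 (τ : Δ →* Q₁ × Q₂) : D1 τ →* Q₁ :=
  ((MonoidHom.fst Q₁ Q₂).comp τ).comp (D1 τ).subtype

/-- The restriction `D2 → Q₂`. -/
def res2 (τ : Δ →* Q₁ × Q₂) : D2 τ →* Q₂ :=
  ((MonoidHom.snd Q₁ Q₂).comp τ).comp (D2 τ).subtype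

theorem res1_surjective (τ : Δ →* Q₁ × Q₂) (hτ : Function.Surjective τ) :
    Function.Surjective (res1 τ) := by
  intro q
  obtain ⟨a, ha⟩ := hτ (q, 1)
  refine ⟨⟨a, by rw [mem_D1, ha]⟩, ?_⟩
  show (τ a).1 = q
  rw [ha]

theorem res2_surjective (τ : Δ →* Q₁ × Q₂) (hτ : Function.Surjective τ) :
    Function.Surjective (res2 τ) := by
  intro q
  obtain ⟨a, ha⟩ := hτ (1, q)
  refine ⟨⟨a, by rw [mem_D2, ha]⟩, ?_⟩
  show (τ a).2 = q
  rw [ha]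

theorem mem_ker_res1 (τ : Δ →* Q₁ × Q₂) (d : D1 τ) : d ∈ (res1 τ).ker ↔ (d : Δ) ∈ τ.ker := by
  constructor
  · intro h
    exact mem_ker_of_D1_D2 τ d.2 h
  · intro h
    exact ker_le_D2 τ h

theorem mem_ker_res2 (τ : Δ →* Q₁ × Q₂) (d : D2 τ) : d ∈ (res2 τ).ker ↔ (d : Δ) ∈ τ.ker := by
  constructor
  · intro h
    exact mem_ker_of_D1_D2 τ h d.2
  · intro h
    exact ker_le_D1 τ h

theorem ker_res1_le_center (τ : Δ →* Q₁ × Q₂) (hZ : τ.ker ≤ Subgroup.center Δ) :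
    (res1 τ).ker ≤ Subgroup.center (D1 τ) := by
  intro d hd
  have h1 := hZ ((mem_ker_res1 τ d).1 hd)
  rw [Subgroup.mem_center_iff] at h1 ⊢
  intro y
  exact Subtype.ext (h1 y)

theorem ker_res2_le_center (τ : Δ →* Q₁ × Q₂) (hZ : τ.ker ≤ Subgroup.center Δ) :
    (res2 τ).ker ≤ Subgroup.center (D2 τ) := by
  intro d hd
  have h1 := hZ ((mem_ker_res2 τ d).1 hd)
  rw [Subgroup.mem_center_iff] at h1 ⊢
  intro y
  exact Subtype.ext (h1 y)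

/-- The part of the kernel inside `⁅D1, D1⁆` is an image of the multiplier of `Q₁`. -/
theorem exists_hom_D1 [Finite Δ] {A : Type*} [CommGroup A] (hA : Cfsg.HasSchurMultiplier Q₁ A)
    (τ : Δ →* Q₁ × Q₂) (hτ : Function.Surjective τ) (hZ : τ.ker ≤ Subgroup.center Δ) :
    ∃ f : A →* Δ, f.range = τ.ker ⊓ ⁅D1 τ, D1 τ⁆ := by
  obtain ⟨f, hf⟩ := exists_hom_range_eq hA (res1 τ) (res1_surjective τ hτ)
    (ker_res1_le_center τ hZ)
  refine ⟨(D1 τ).subtype.comp f, ?_⟩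
  apply le_antisymm
  · rintro _ ⟨a, rfl⟩
    have h1 : f a ∈ f.range := ⟨a, rfl⟩
    rw [hf] at h1
    refine ⟨(mem_ker_res1 τ _).1 h1.1, ?_⟩
    rw [← Subgroup.map_subtype_commutator]
    exact Subgroup.mem_map_of_mem _ h1.2
  · rintro x ⟨hx1, hx2⟩
    rw [← Subgroup.map_subtype_commutator] at hx2
    obtain ⟨y, hy, rfl⟩ := hx2
    have h1 : y ∈ f.range := by
      rw [hf]
      exact ⟨(mem_ker_res1 τ y).2 hx1, hy⟩
    obtain ⟨a, rfl⟩ := h1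
    exact ⟨a, rfl⟩

/-- The part of the kernel inside `⁅D2, D2⁆` is an image of the multiplier of `Q₂`. -/
theorem exists_hom_D2 [Finite Δ] {B : Type*} [CommGroup B] (hB : Cfsg.HasSchurMultiplier Q₂ B)
    (τ : Δ →* Q₁ × Q₂) (hτ : Function.Surjective τ) (hZ : τ.ker ≤ Subgroup.center Δ) :
    ∃ f : B →* Δ, f.range = τ.ker ⊓ ⁅D2 τ, D2 τ⁆ := by
  obtain ⟨f, hf⟩ := exists_hom_range_eq hB (res2 τ) (res2_surjective τ hτ)
    (ker_res2_le_center τ hZ)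
  refine ⟨(D2 τ).subtype.comp f, ?_⟩
  apply le_antisymm
  · rintro _ ⟨a, rfl⟩
    have h1 : f a ∈ f.range := ⟨a, rfl⟩
    rw [hf] at h1
    refine ⟨(mem_ker_res2 τ _).1 h1.1, ?_⟩
    rw [← Subgroup.map_subtype_commutator]
    exact Subgroup.mem_map_of_mem _ h1.2
  · rintro x ⟨hx1, hx2⟩
    rw [← Subgroup.map_subtype_commutator] at hx2
    obtain ⟨y, hy, rfl⟩ := hx2
    have h1 : y ∈ f.range := by
      rw [hf]
      exact ⟨(mem_ker_res2 τ y).2 hx1, hy⟩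
    obtain ⟨a, rfl⟩ := h1
    exact ⟨a, rfl⟩

/-- With coprime abelianisations, the two preimages commute. -/
theorem commutator_D1_D2_eq_bot [Finite Q₁] [Finite Q₂] (τ : Δ →* Q₁ × Q₂)
    (hτ : Function.Surjective τ) (hZ : τ.ker ≤ Subgroup.center Δ)
    (hcop : Nat.Coprime (Nat.card (Abelianization Q₁)) (Nat.card (Abelianization Q₂))) :
    ⁅D1 τ, D2 τ⁆ = ⊥ := by
  rw [eq_bot_iff, Subgroup.commutator_le]
  intro a ha b hb
  rw [Subgroup.mem_bot]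
  have hcen : ∀ x ∈ D1 τ, ∀ y ∈ D2 τ, ⁅x, y⁆ ∈ Subgroup.center Δ := fun x hx y hy =>
    hZ (commutator_D1_D2_le_ker τ (Subgroup.commutator_mem_commutator hx hy))
  have hcen' : ∀ y ∈ D2 τ, ∀ x ∈ D1 τ, ⁅y, x⁆ ∈ Subgroup.center Δ := by
    intro y hy x hx
    rw [← commutatorElement_inv]
    exact Subgroup.inv_mem _ (hcen x hx y hy)
  have h2 : ⁅a, b⁆ ^ Nat.card (Abelianization Q₂) = 1 := by
    apply commutator_pow_eq_one a (D2 τ) (res2 τ) (res2_surjective τ hτ) (hcen a ha) _ b hb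
    intro d hd
    have := hZ ((mem_ker_res2 τ d).1 hd)
    rw [commutatorElement_eq_one_iff_mul_comm]
    exact Subgroup.mem_center_iff.1 this a
  have h1 : ⁅b, a⁆ ^ Nat.card (Abelianization Q₁) = 1 := by
    apply commutator_pow_eq_one b (D1 τ) (res1 τ) (res1_surjective τ hτ) (hcen' b hb) _ a ha
    intro d hd
    have := hZ ((mem_ker_res1 τ d).1 hd)
    rw [commutatorElement_eq_one_iff_mul_comm]
    exact Subgroup.mem_center_iff.1 this b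
  have h1' : ⁅a, b⁆ ^ Nat.card (Abelianization Q₁) = 1 := by
    rw [← commutatorElement_inv b a, inv_pow, h1, inv_one]
  have h3 := orderOf_dvd_of_pow_eq_one h1'
  have h4 := orderOf_dvd_of_pow_eq_one h2
  have h5 : orderOf ⁅a, b⁆ ∣ 1 := by
    have := Nat.dvd_gcd h3 h4
    rwa [hcop] at this
  exact orderOf_eq_one_iff.1 (Nat.dvd_one.1 h5)

end prod

end Cfsg.Agent.Lib.Helper7.Schur
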