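import Mathlib
import Cfsg.Prelude.Def_KGroupFacts
import Cfsg.Agent.Lib.Helper7.Schur11

set_option autoImplicit false

namespace Cfsg.Agent.Lib.Helper7.Schur

open Cfsg
open scoped commutatorElement

universe u v w u' v'

section twisted

variable {Γ₁ : Type u} {Γ₂ : Type v} {T : Type w} [Group Γ₁] [Group Γ₂] [CommGroup T]

/-- The automorphism `(t, g₁) ↦ (t * b g₂ g₁, g₁)` of `T × Γ₁`. -/
def twAut (b : Γ₂ →* Γ₁ →* T) (g₂ : Γ₂) : MulAut (T × Γ₁) where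
  toFun x := (x.1 * b g₂ x.2, x.2)
  invFun x := (x.1 * (b g₂ x.2)⁻¹, x.2)
  left_inv x := by simp
  right_inv x := by simp
  map_mul' x y := by
    apply Prod.ext
    · show x.1 * y.1 * b g₂ (x.2 * y.2) = x.1 * b g₂ x.2 * (y.1 * b g₂ y.2)
      rw [map_mul]
      exact mul_mul_mul_comm _ _ _ _
    · rfl

theorem twAut_apply (b : Γ₂ →* Γ₁ →* T) (g₂ : Γ₂) (x : T × Γ₁) :
    twAut b g₂ x = (x.1 * b g₂ x.2, x.2) := rfl

/-- The action of `Γ₂` on `T × Γ₁` defining the twisted product. -/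
def twHom (b : Γ₂ →* Γ₁ →* T) : Γ₂ →* MulAut (T × Γ₁) where
  toFun := twAut b
  map_one' := by
    apply MulEquiv.ext
    intro x
    rw [twAut_apply, map_one, MonoidHom.one_apply, mul_one]
    rfl
  map_mul' g h := by
    apply MulEquiv.ext
    intro x
    rw [MulAut.mul_apply, twAut_apply, twAut_apply, twAut_apply, map_mul, MonoidHom.mul_apply]
    apply Prod.ext
    · show x.1 * (b g x.2 * b h x.2) = x.1 * b h x.2 * b g x.2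
      rw [mul_comm (b g x.2), mul_assoc]
    · rfl

theorem twHom_apply (b : Γ₂ →* Γ₁ →* T) (g₂ : Γ₂) (x : T × Γ₁) :
    twHom b g₂ x = (x.1 * b g₂ x.2, x.2) := rfl

/-- The twisted product of `Γ₁` and `Γ₂` over `T`. -/
abbrev Tw (b : Γ₂ →* Γ₁ →* T) := (T × Γ₁) ⋊[twHom b] Γ₂

/-- embedding of `T` -/
def jT (b : Γ₂ →* Γ₁ →* T) : T →* Tw b := SemidirectProduct.inl.comp (MonoidHom.inl T Γ₁)

/-- embedding of `Γ₁` -/
def j1 (b : Γ₂ →* Γ₁ →* T) : Γ₁ →* Tw b := SemidirectProduct.inl.comp (MonoidHom.inr T Γ₁)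

/-- embedding of `Γ₂` -/
def j2 (b : Γ₂ →* Γ₁ →* T) : Γ₂ →* Tw b := SemidirectProduct.inr

theorem tw_ext (b : Γ₂ →* Γ₁ →* T) {x y : Tw b} (h1 : x.left.1 = y.left.1)
    (h2 : x.left.2 = y.left.2) (h3 : x.right = y.right) : x = y :=
  SemidirectProduct.ext (Prod.ext h1 h2) h3

theorem tw_mul_left1 (b : Γ₂ →* Γ₁ →* T) (x y : Tw b) :
    (x * y).left.1 = x.left.1 * (y.left.1 * b x.right y.left.2) := rfl

theorem tw_mul_left2 (b : Γ₂ →* Γ₁ →* T) (x y : Tw b) :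
    (x * y).left.2 = x.left.2 * y.left.2 := rfl

theorem tw_mul_right (b : Γ₂ →* Γ₁ →* T) (x y : Tw b) :
    (x * y).right = x.right * y.right := rfl

theorem tw_decomp (b : Γ₂ →* Γ₁ →* T) (x : Tw b) :
    x = jT b x.left.1 * j1 b x.left.2 * j2 b x.right := by
  apply tw_ext
  · rw [tw_mul_left1, tw_mul_left1]
    simp [jT, j1, j2]
  · rw [tw_mul_left2, tw_mul_left2]
    simp [jT, j1, j2]
  · rw [tw_mul_right, tw_mul_right]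
    simp [jT, j1, j2]

theorem comm_j2_j1 (b : Γ₂ →* Γ₁ →* T) (g₂ : Γ₂) (g₁ : Γ₁) :
    ⁅j2 b g₂, j1 b g₁⁆ = jT b (b g₂ g₁) := by
  rw [commutatorElement_def]
  have h1 : j2 b g₂ * j1 b g₁ = jT b (b g₂ g₁) * j1 b g₁ * j2 b g₂ := by
    apply tw_ext
    · rw [tw_mul_left1, tw_mul_left1, tw_mul_left1]
      simp [jT, j1, j2]
    · rw [tw_mul_left2, tw_mul_left2, tw_mul_left2]
      simp [jT, j1, j2]
    · rw [tw_mul_right, tw_mul_right, tw_mul_right]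
      simp [jT, j1, j2]
  rw [h1]
  group

section proj

variable {Q₁ : Type u'} {Q₂ : Type v'} [Group Q₁] [Group Q₂]

/-- The projection of the twisted product to `Q₁ × Q₂`. -/
def twProj (b : Γ₂ →* Γ₁ →* T) (σ₁ : Γ₁ →* Q₁) (σ₂ : Γ₂ →* Q₂) : Tw b →* Q₁ × Q₂ :=
  SemidirectProduct.lift ((MonoidHom.inl Q₁ Q₂).comp (σ₁.comp (MonoidHom.snd T Γ₁)))
    ((MonoidHom.inr Q₁ Q₂).comp σ₂) (by
      intro g
      ext x
      · simp [twHom_apply, MulAut.conj_apply]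
      · simp [twHom_apply, MulAut.conj_apply])

theorem twProj_apply (b : Γ₂ →* Γ₁ →* T) (σ₁ : Γ₁ →* Q₁) (σ₂ : Γ₂ →* Q₂) (x : Tw b) :
    twProj b σ₁ σ₂ x = (σ₁ x.left.2, σ₂ x.right) := by
  simp [twProj, SemidirectProduct.lift]

theorem twProj_surjective (b : Γ₂ →* Γ₁ →* T) (σ₁ : Γ₁ →* Q₁) (σ₂ : Γ₂ →* Q₂)
    (h₁ : Function.Surjective σ₁) (h₂ : Function.Surjective σ₂) :
    Function.Surjective (twProj b σ₁ σ₂) := by
  rintro ⟨q₁, q₂⟩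
  obtain ⟨g₁, rfl⟩ := h₁ q₁
  obtain ⟨g₂, rfl⟩ := h₂ q₂
  exact ⟨⟨(1, g₁), g₂⟩, by rw [twProj_apply]⟩

theorem mem_ker_twProj (b : Γ₂ →* Γ₁ →* T) (σ₁ : Γ₁ →* Q₁) (σ₂ : Γ₂ →* Q₂) (x : Tw b) :
    x ∈ (twProj b σ₁ σ₂).ker ↔ σ₁ x.left.2 = 1 ∧ σ₂ x.right = 1 := by
  rw [MonoidHom.mem_ker, twProj_apply, Prod.ext_iff]
  rfl

theorem ker_twProj_le_center (b : Γ₂ →* Γ₁ →* T) (σ₁ : Γ₁ →* Q₁) (σ₂ : Γ₂ →* Q₂)
    (hb₁ : ∀ g₂ g₁, σ₁ g₁ = 1 → b g₂ g₁ = 1) (hb₂ : ∀ g₂ g₁, σ₂ g₂ = 1 → b g₂ g₁ = 1)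
    (h₁ : σ₁.ker ≤ Subgroup.center Γ₁) (h₂ : σ₂.ker ≤ Subgroup.center Γ₂) :
    (twProj b σ₁ σ₂).ker ≤ Subgroup.center (Tw b) := by
  intro x hx
  rw [mem_ker_twProj] at hx
  have c1 := Subgroup.mem_center_iff.1 (h₁ hx.1)
  have c2 := Subgroup.mem_center_iff.1 (h₂ hx.2)
  rw [Subgroup.mem_center_iff]
  intro y
  apply tw_ext
  · rw [tw_mul_left1, tw_mul_left1, hb₁ _ _ hx.1, hb₂ _ _ hx.2, mul_one, mul_one, mul_comm]
  · rw [tw_mul_left2, tw_mul_left2]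
    exact c1 _
  · rw [tw_mul_right, tw_mul_right]
    exact c2 _

theorem ker_twProj_le_commutator (b : Γ₂ →* Γ₁ →* T) (σ₁ : Γ₁ →* Q₁) (σ₂ : Γ₂ →* Q₂)
    (hT : ∀ t, jT b t ∈ commutator (Tw b))
    (h₁ : σ₁.ker ≤ commutator Γ₁) (h₂ : σ₂.ker ≤ commutator Γ₂) :
    (twProj b σ₁ σ₂).ker ≤ commutator (Tw b) := by
  intro x hx
  rw [mem_ker_twProj] at hx
  rw [tw_decomp b x]
  exact Subgroup.mul_mem _ (Subgroup.mul_mem _ (hT _) (map_mem_commutator _ (h₁ hx.1)))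
    (map_mem_commutator _ (h₂ hx.2))

/-- The kernel of the projection. -/
def kerTwHom (b : Γ₂ →* Γ₁ →* T) (σ₁ : Γ₁ →* Q₁) (σ₂ : Γ₂ →* Q₂)
    (hb₂ : ∀ g₂ g₁, σ₂ g₂ = 1 → b g₂ g₁ = 1) : σ₁.ker × σ₂.ker × T →* Tw b where
  toFun x := ⟨(x.2.2, (x.1 : Γ₁)), (x.2.1 : Γ₂)⟩
  map_one' := rfl
  map_mul' x y := by
    apply tw_ext
    · rw [tw_mul_left1]
      show x.2.2 * y.2.2 = x.2.2 * (y.2.2 * b (x.2.1 : Γ₂) (y.1 : Γ₁))
      rw [hb₂ _ _ x.2.1.2, mul_one]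
    · rfl
    · rfl

theorem kerTwHom_injective (b : Γ₂ →* Γ₁ →* T) (σ₁ : Γ₁ →* Q₁) (σ₂ : Γ₂ →* Q₂)
    (hb₂ : ∀ g₂ g₁, σ₂ g₂ = 1 → b g₂ g₁ = 1) : Function.Injective (kerTwHom b σ₁ σ₂ hb₂) := by
  intro x y hxy
  have h1 : (x.1 : Γ₁) = y.1 := congrArg (fun z : Tw b => z.left.2) hxy
  have h2 : (x.2.1 : Γ₂) = y.2.1 := congrArg (fun z : Tw b => z.right) hxy
  have h3 : x.2.2 = y.2.2 := congrArg (fun z : Tw b => z.left.1) hxy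
  exact Prod.ext (Subtype.ext h1) (Prod.ext (Subtype.ext h2) h3)

/-- The kernel of the projection is `ker σ₁ × ker σ₂ × T`. -/
noncomputable def kerTwEquiv (b : Γ₂ →* Γ₁ →* T) (σ₁ : Γ₁ →* Q₁) (σ₂ : Γ₂ →* Q₂)
    (hb₂ : ∀ g₂ g₁, σ₂ g₂ = 1 → b g₂ g₁ = 1) :
    σ₁.ker × σ₂.ker × T ≃* (twProj b σ₁ σ₂).ker :=
  MulEquiv.ofBijective ((kerTwHom b σ₁ σ₂ hb₂).codRestrict (twProj b σ₁ σ₂).ker (fun x => by
      rw [mem_ker_twProj]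
      exact ⟨x.1.2, x.2.1.2⟩)) (by
    constructor
    · intro x y hxy
      apply kerTwHom_injective b σ₁ σ₂ hb₂
      exact congrArg Subtype.val hxy
    · rintro ⟨x, hx⟩
      rw [mem_ker_twProj] at hx
      exact ⟨(⟨x.left.2, hx.1⟩, ⟨x.right, hx.2⟩, x.left.1), Subtype.ext rfl⟩)

end proj

instance tw_finite [Finite Γ₁] [Finite Γ₂] [Finite T] (b : Γ₂ →* Γ₁ →* T) : Finite (Tw b) :=
  Finite.of_equiv _ SemidirectProduct.equivProd.symm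

end twisted

end Cfsg.Agent.Lib.Helper7.Schur
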