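import Mathlib
import Cfsg.Prelude.Def_KGroupFacts
import Cfsg.Agent.Lib.Helper7.Schur12

set_option autoImplicit false

namespace Cfsg.Agent.Lib.Helper7.Schur

open Cfsg TensorProduct
open scoped commutatorElement

universe u v w

section tensor

variable (Q₁ : Type u) (Q₂ : Type v) [Group Q₁] [Group Q₂]

/-- The tensor product of the abelianisations, written multiplicatively. -/
abbrev AbT : Type (max u v) :=
  Multiplicative (TensorProduct ℤ (Additive (Abelianization Q₁)) (Additive (Abelianization Q₂)))

/-- The pure tensor of the classes of `q₁` and `q₂`, as a bimultiplicative map. -/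
def tmulHom : Q₂ →* Q₁ →* AbT Q₁ Q₂ where
  toFun q₂ :=
    { toFun := fun q₁ => Multiplicative.ofAdd
        (Additive.ofMul (Abelianization.of q₁) ⊗ₜ[ℤ] Additive.ofMul (Abelianization.of q₂))
      map_one' := by
        rw [map_one, ofMul_one, TensorProduct.zero_tmul, ofAdd_zero]
      map_mul' := fun a b => by
        rw [map_mul, ofMul_mul, TensorProduct.add_tmul, ofAdd_add] }
  map_one' := by
    ext q₁
    show Multiplicative.ofAdd
        (Additive.ofMul (Abelianization.of q₁) ⊗ₜ[ℤ] Additive.ofMul (Abelianization.of (1 : Q₂))) = 1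
    rw [map_one, ofMul_one, TensorProduct.tmul_zero, ofAdd_zero]
  map_mul' a b := by
    ext q₁
    show Multiplicative.ofAdd
        (Additive.ofMul (Abelianization.of q₁) ⊗ₜ[ℤ] Additive.ofMul (Abelianization.of (a * b))) =
      Multiplicative.ofAdd
        (Additive.ofMul (Abelianization.of q₁) ⊗ₜ[ℤ] Additive.ofMul (Abelianization.of a)) *
      Multiplicative.ofAdd
        (Additive.ofMul (Abelianization.of q₁) ⊗ₜ[ℤ] Additive.ofMul (Abelianization.of b))
    rw [map_mul, ofMul_mul, TensorProduct.tmul_add, ofAdd_add]

theorem tmulHom_apply (q₂ : Q₂) (q₁ : Q₁) : tmulHom Q₁ Q₂ q₂ q₁ = Multiplicative.ofAdd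
    (Additive.ofMul (Abelianization.of q₁) ⊗ₜ[ℤ] Additive.ofMul (Abelianization.of q₂)) := rfl

variable {Q₁ Q₂}

/-- A subgroup containing all pure tensors of classes is everything. -/
theorem tensor_induction (S : Subgroup (AbT Q₁ Q₂))
    (h : ∀ q₁ q₂, tmulHom Q₁ Q₂ q₂ q₁ ∈ S) (t : AbT Q₁ Q₂) : t ∈ S := by
  have key : ∀ x : TensorProduct ℤ (Additive (Abelianization Q₁)) (Additive (Abelianization Q₂)),
      Multiplicative.ofAdd x ∈ S := by
    intro x
    induction x using TensorProduct.induction_on with
    | zero => rw [ofAdd_zero]; exact S.one_mem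
    | tmul x y =>
      obtain ⟨q₁, hq₁⟩ := QuotientGroup.mk_surjective (s := commutator Q₁) (Additive.toMul x)
      obtain ⟨q₂, hq₂⟩ := QuotientGroup.mk_surjective (s := commutator Q₂) (Additive.toMul y)
      have := h q₁ q₂
      rw [tmulHom_apply] at this
      have e1 : Additive.ofMul (Abelianization.of q₁) = x := by
        show Additive.ofMul (QuotientGroup.mk q₁) = x
        rw [hq₁]; rfl
      have e2 : Additive.ofMul (Abelianization.of q₂) = y := by
        show Additive.ofMul (QuotientGroup.mk q₂) = y
        rw [hq₂]; rfl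
      rwa [e1, e2] at this
    | add x y hx hy => rw [ofAdd_add]; exact S.mul_mem hx hy
  exact key (Multiplicative.toAdd t)

/-- The homomorphism out of the tensor product induced by a bimultiplicative map to a
commutative group. -/
noncomputable def tensorLift {Z : Type w} [CommGroup Z] (c : Q₁ →* Q₂ →* Z) : AbT Q₁ Q₂ →* Z :=
  let c₁ : Q₁ →* (Abelianization Q₂ →* Z) :=
    { toFun := fun q₁ => Abelianization.lift (c q₁)
      map_one' := by
        apply Abelianization.hom_ext
        ext q₂
        simp
      map_mul' := fun a b => by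
        apply Abelianization.hom_ext
        ext q₂
        simp }
  let cb : Abelianization Q₁ →* (Abelianization Q₂ →* Z) := Abelianization.lift c₁
  let f : Additive (Abelianization Q₁) →+ Additive (Abelianization Q₂) →+ Additive Z :=
    AddMonoidHom.mk' (fun x => AddMonoidHom.mk'
      (fun y => Additive.ofMul (cb (Additive.toMul x) (Additive.toMul y)))
      (fun y y' => by rw [toMul_add, map_mul, ofMul_mul]))
      (fun x x' => by
        apply AddMonoidHom.ext
        intro y
        show Additive.ofMul (cb (Additive.toMul (x + x')) (Additive.toMul y)) =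
          Additive.ofMul (cb (Additive.toMul x) (Additive.toMul y)) +
          Additive.ofMul (cb (Additive.toMul x') (Additive.toMul y))
        rw [toMul_add, map_mul, MonoidHom.mul_apply, ofMul_mul])
  AddMonoidHom.toMultiplicativeLeft (TensorProduct.liftAddHom f (by
    intro r m n
    rw [map_zsmul, AddMonoidHom.smul_apply, map_zsmul]))

theorem tensorLift_tmul {Z : Type w} [CommGroup Z] (c : Q₁ →* Q₂ →* Z) (q₁ : Q₁) (q₂ : Q₂) :
    tensorLift c (tmulHom Q₁ Q₂ q₂ q₁) = c q₁ q₂ := by
  simp [tensorLift, tmulHom_apply, AddMonoidHom.coe_toMultiplicativeLeft]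

instance abT_finite [Finite Q₁] [Finite Q₂] : Finite (AbT Q₁ Q₂) := by
  have h1 : Finite (TensorProduct ℤ (Additive (Abelianization Q₁))
      (Additive (Abelianization Q₂))) := by
    haveI f1 : Finite (Abelianization Q₁) := by
      show Finite (Q₁ ⧸ commutator Q₁)
      infer_instance
    haveI f2 : Finite (Abelianization Q₂) := by
      show Finite (Q₂ ⧸ commutator Q₂)
      infer_instance
    haveI f3 : Finite (Additive (Abelianization Q₁)) := Finite.of_equiv _ Additive.ofMul
    haveI f4 : Finite (Additive (Abelianization Q₂)) := Finite.of_equiv _ Additive.ofMul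
    haveI f5 : Module.Finite ℤ (Additive (Abelianization Q₁)) := Module.Finite.of_finite
    haveI f6 : Module.Finite ℤ (Additive (Abelianization Q₂)) := Module.Finite.of_finite
    haveI f7 : Module.Finite ℤ (TensorProduct ℤ (Additive (Abelianization Q₁))
      (Additive (Abelianization Q₂))) := Module.Finite.tensorProduct ℤ _ _
    apply Module.finite_of_fg_torsion
    intro x
    have hpos : (Nat.card (Abelianization Q₁) : ℤ) ≠ 0 := by
      exact_mod_cast (Nat.card_pos (α := Abelianization Q₁)).ne'
    refine ⟨⟨(Nat.card (Abelianization Q₁) : ℤ), mem_nonZeroDivisors_of_ne_zero hpos⟩, ?_⟩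
    show (Nat.card (Abelianization Q₁) : ℤ) • x = 0
    induction x using TensorProduct.induction_on with
    | zero => simp
    | tmul a b =>
      rw [TensorProduct.smul_tmul']
      have : (Nat.card (Abelianization Q₁) : ℤ) • a = 0 := by
        rw [natCast_zsmul]
        have h2 : Nat.card (Additive (Abelianization Q₁)) = Nat.card (Abelianization Q₁) := rfl
        rw [← h2]
        exact card_nsmul_eq_zero'
      rw [this, TensorProduct.zero_tmul]
    | add a b ha hb => rw [smul_add, ha, hb, add_zero]
  exact Finite.of_equiv _ Multiplicative.ofAdd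

end tensor

end Cfsg.Agent.Lib.Helper7.Schur
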