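import Mathlib
import Cfsg.Prelude.Def_KGroupFacts
import Cfsg.Agent.Lib.Helper7.Schur13

set_option autoImplicit false

namespace Cfsg.Agent.Lib.Helper7.Schur

open Cfsg
open scoped commutatorElement

universe u v w

section grp

variable {G : Type u} [Group G]

theorem comm_mul_left_of_central (x y z : G) (h : ⁅y, z⁆ ∈ Subgroup.center G) :
    ⁅x * y, z⁆ = ⁅x, z⁆ * ⁅y, z⁆ := by
  have hc := Subgroup.mem_center_iff.1 h
  have h1 : ⁅x * y, z⁆ = x * ⁅y, z⁆ * x⁻¹ * ⁅x, z⁆ := by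
    simp only [commutatorElement_def]; group
  rw [h1, hc x]
  have h2 : ⁅y, z⁆ * x * x⁻¹ * ⁅x, z⁆ = ⁅y, z⁆ * ⁅x, z⁆ := by group
  rw [h2, hc ⁅x, z⁆]

theorem comm_mul_right_of_central (x y z : G) (h : ⁅x, z⁆ ∈ Subgroup.center G) :
    ⁅x, y * z⁆ = ⁅x, y⁆ * ⁅x, z⁆ := by
  have hc := Subgroup.mem_center_iff.1 h
  have h1 : ⁅x, y * z⁆ = ⁅x, y⁆ * (y * ⁅x, z⁆ * y⁻¹) := by
    simp only [commutatorElement_def]; group
  rw [h1, hc y]
  group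

end grp

section pairing

variable {Δ : Type w} {Q₁ : Type u} {Q₂ : Type v} [Group Δ] [Group Q₁] [Group Q₂]

/-- a set-theoretic section over `Q₁ × 1` -/
noncomputable def sec1 (τ : Δ →* Q₁ × Q₂) (hτ : Function.Surjective τ) (q : Q₁) : Δ :=
  Classical.choose (hτ (q, 1))

/-- a set-theoretic section over `1 × Q₂` -/
noncomputable def sec2 (τ : Δ →* Q₁ × Q₂) (hτ : Function.Surjective τ) (q : Q₂) : Δ :=
  Classical.choose (hτ (1, q))

theorem map_sec1 (τ : Δ →* Q₁ × Q₂) (hτ : Function.Surjective τ) (q : Q₁) :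
    τ (sec1 τ hτ q) = (q, 1) := Classical.choose_spec (hτ (q, 1))

theorem map_sec2 (τ : Δ →* Q₁ × Q₂) (hτ : Function.Surjective τ) (q : Q₂) :
    τ (sec2 τ hτ q) = (1, q) := Classical.choose_spec (hτ (1, q))

theorem sec1_mem (τ : Δ →* Q₁ × Q₂) (hτ : Function.Surjective τ) (q : Q₁) :
    sec1 τ hτ q ∈ D1 τ := by
  rw [mem_D1, map_sec1]

theorem sec2_mem (τ : Δ →* Q₁ × Q₂) (hτ : Function.Surjective τ) (q : Q₂) :
    sec2 τ hτ q ∈ D2 τ := by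
  rw [mem_D2, map_sec2]

theorem comm_eq_sec (τ : Δ →* Q₁ × Q₂) (hτ : Function.Surjective τ)
    (hZ : τ.ker ≤ Subgroup.center Δ) {a b : Δ} (ha : a ∈ D1 τ) (hb : b ∈ D2 τ) :
    ⁅a, b⁆ = ⁅sec1 τ hτ (τ a).1, sec2 τ hτ (τ b).2⁆ := by
  rw [mem_D1] at ha
  rw [mem_D2] at hb
  have h1 : (sec1 τ hτ (τ a).1)⁻¹ * a ∈ τ.ker := by
    rw [MonoidHom.mem_ker, map_mul, map_inv, map_sec1]
    apply Prod.ext
    · simp
    · simp [ha]
  have h2 : (sec2 τ hτ (τ b).2)⁻¹ * b ∈ τ.ker := by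
    rw [MonoidHom.mem_ker, map_mul, map_inv, map_sec2]
    apply Prod.ext
    · simp [hb]
    · simp
  have e1 : a = sec1 τ hτ (τ a).1 * ((sec1 τ hτ (τ a).1)⁻¹ * a) := by group
  have e2 : b = sec2 τ hτ (τ b).2 * ((sec2 τ hτ (τ b).2)⁻¹ * b) := by group
  conv_lhs => rw [e1, e2]
  exact commutatorElement_mul_central _ _ _ _ (hZ h1) (hZ h2)

/-- The commutator pairing of a central extension of `Q₁ × Q₂` as a homomorphism from the tensor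
product of the abelianisations. -/
theorem exists_tensor_hom (τ : Δ →* Q₁ × Q₂) (hτ : Function.Surjective τ)
    (hZ : τ.ker ≤ Subgroup.center Δ) :
    ∃ f : AbT Q₁ Q₂ →* Δ, f.range ≤ τ.ker ∧ ⁅D1 τ, D2 τ⁆ ≤ f.range := by
  letI : CommGroup τ.ker := { (inferInstance : Group τ.ker) with
    mul_comm := subgroup_center_comm τ.ker hZ }
  have hmem : ∀ a ∈ D1 τ, ∀ b ∈ D2 τ, ⁅a, b⁆ ∈ τ.ker := fun a ha b hb =>
    commutator_D1_D2_le_ker τ (Subgroup.commutator_mem_commutator ha hb)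
  let p : Q₁ → Q₂ → τ.ker := fun q₁ q₂ =>
    ⟨⁅sec1 τ hτ q₁, sec2 τ hτ q₂⁆, hmem _ (sec1_mem τ hτ q₁) _ (sec2_mem τ hτ q₂)⟩
  have hp1 : ∀ q q' r, p (q * q') r = p q r * p q' r := by
    intro q q' r
    apply Subtype.ext
    show ⁅sec1 τ hτ (q * q'), sec2 τ hτ r⁆
      = ⁅sec1 τ hτ q, sec2 τ hτ r⁆ * ⁅sec1 τ hτ q', sec2 τ hτ r⁆
    have hm : sec1 τ hτ q * sec1 τ hτ q' ∈ D1 τ :=
      Subgroup.mul_mem _ (sec1_mem τ hτ q) (sec1_mem τ hτ q')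
    have h1 := comm_eq_sec τ hτ hZ hm (sec2_mem τ hτ r)
    rw [map_mul, map_sec1, map_sec1, map_sec2] at h1
    have h2 : ((q, (1 : Q₂)) * (q', 1)).1 = q * q' := rfl
    rw [h2] at h1
    rw [← h1]
    exact comm_mul_left_of_central _ _ _ (hZ (hmem _ (sec1_mem τ hτ q') _ (sec2_mem τ hτ r)))
  have hp2 : ∀ q r r', p q (r * r') = p q r * p q r' := by
    intro q r r'
    apply Subtype.ext
    show ⁅sec1 τ hτ q, sec2 τ hτ (r * r')⁆
      = ⁅sec1 τ hτ q, sec2 τ hτ r⁆ * ⁅sec1 τ hτ q, sec2 τ hτ r'⁆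
    have hm : sec2 τ hτ r * sec2 τ hτ r' ∈ D2 τ :=
      Subgroup.mul_mem _ (sec2_mem τ hτ r) (sec2_mem τ hτ r')
    have h1 := comm_eq_sec τ hτ hZ (sec1_mem τ hτ q) hm
    rw [map_mul, map_sec2, map_sec2, map_sec1] at h1
    have h2 : (((1 : Q₁), r) * (1, r')).2 = r * r' := rfl
    rw [h2] at h1
    rw [← h1]
    exact comm_mul_right_of_central _ _ _ (hZ (hmem _ (sec1_mem τ hτ q) _ (sec2_mem τ hτ r')))
  let c : Q₁ →* Q₂ →* τ.ker := MonoidHom.mk' (fun q => MonoidHom.mk' (p q) (hp2 q))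
    (fun q q' => MonoidHom.ext (fun r => hp1 q q' r))
  refine ⟨τ.ker.subtype.comp (tensorLift c), ?_, ?_⟩
  · rintro _ ⟨t, rfl⟩
    exact (tensorLift c t).2
  · rw [Subgroup.commutator_le]
    intro a ha b hb
    refine ⟨tmulHom Q₁ Q₂ (τ b).2 (τ a).1, ?_⟩
    show ((tensorLift c (tmulHom Q₁ Q₂ (τ b).2 (τ a).1) : τ.ker) : Δ) = ⁅a, b⁆
    rw [tensorLift_tmul]
    exact (comm_eq_sec τ hτ hZ ha hb).symm

end pairing

end Cfsg.Agent.Lib.Helper7.Schur
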