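import Mathlib
import Cfsg.Prelude.Def_KGroupFacts
import Cfsg.Agent.Lib.Helper7.Schur14

set_option autoImplicit false

namespace Cfsg.Agent.Lib.Helper7.Schur

open Cfsg
open scoped commutatorElement

universe u v w

/-- A quotient of a finite abelian group embeds into it. -/
theorem exists_injective_hom_of_quotient (B : Type u) [CommGroup B] [Finite B] (K : Subgroup B) :
    ∃ j : B ⧸ K →* B, Function.Injective j := by
  obtain ⟨e₁⟩ := CommGroup.monoidHom_mulEquiv_of_hasEnoughRootsOfUnity B ℂ
  obtain ⟨e₂⟩ := CommGroup.monoidHom_mulEquiv_of_hasEnoughRootsOfUnity (B ⧸ K) ℂ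
  let r : ((B ⧸ K) →* ℂˣ) →* (B →* ℂˣ) :=
    { toFun := fun χ => χ.comp (QuotientGroup.mk' K)
      map_one' := rfl
      map_mul' := fun _ _ => rfl }
  have hr : Function.Injective r := by
    intro χ ψ h
    apply MonoidHom.ext
    intro x
    obtain ⟨b, rfl⟩ := QuotientGroup.mk_surjective x
    exact DFunLike.congr_fun h b
  refine ⟨e₁.toMonoidHom.comp (r.comp e₂.symm.toMonoidHom), ?_⟩
  exact e₁.injective.comp (hr.comp e₂.symm.injective)

/-- In a stem extension, the `m`-th power of a kernel element lies in the commutator subgroup of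
any subgroup of index `m`. -/
theorem pow_index_mem_commutator {Γ : Type u} [Group Γ] [Finite Γ] (H : Subgroup Γ) (a : Γ)
    (ha : a ∈ Subgroup.center Γ) (ha' : a ∈ commutator Γ) :
    ∃ h : a ^ H.index ∈ H, (⟨a ^ H.index, h⟩ : H) ∈ commutator H := by
  have key : ∀ (k : ℕ) (g₀ : Γ), g₀⁻¹ * a ^ k * g₀ ∈ H → g₀⁻¹ * a ^ k * g₀ = a ^ k := by
    intro k g₀ _
    have hk : a ^ k ∈ Subgroup.center Γ := Subgroup.pow_mem _ ha k
    rw [mul_assoc, ← Subgroup.mem_center_iff.1 hk g₀, ← mul_assoc, inv_mul_cancel, one_mul]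
  have h1 := MonoidHom.transfer_eq_pow (Abelianization.of : H →* Abelianization H) a key
  have h2 : MonoidHom.transfer (Abelianization.of : H →* Abelianization H) a = 1 :=
    Abelianization.commutator_subset_ker _ ha'
  rw [h2] at h1
  refine ⟨MonoidHom.transfer_eq_pow_aux a key, ?_⟩
  rw [← Abelianization.ker_of, MonoidHom.mem_ker]
  exact h1.symm

end Cfsg.Agent.Lib.Helper7.Schur
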