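import Mathlib
import Cfsg.Prelude.Def_KGroupFacts
import Cfsg.Agent.Lib.Helper7.Schur11

set_option autoImplicit false

namespace Cfsg.Agent.Lib.Helper7.Schur

open Cfsg
open scoped commutatorElement

universe u v w

section side

variable {Δ : Type u} {Γ : Type v} {Q : Type w} [Group Δ] [Group Γ] [Group Q] [Finite Q]

/-- The subgroup of elements whose `h`-th power lies in the commutator subgroup. -/
def powComm (Δ : Type u) [Group Δ] (h : ℕ) : Subgroup Δ :=
  ((powMonoidHom h : Abelianization Δ →* Abelianization Δ).comp Abelianization.of).ker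

theorem mem_powComm (h : ℕ) (x : Δ) : x ∈ powComm Δ h ↔ x ^ h ∈ commutator Δ := by
  rw [powComm, MonoidHom.mem_ker, MonoidHom.comp_apply, powMonoidHom_apply, ← map_pow,
    ← MonoidHom.mem_ker, Abelianization.ker_of]

theorem of_eq_one_iff (x : Δ) : Abelianization.of x = 1 ↔ x ∈ commutator Δ := by
  rw [← MonoidHom.mem_ker, Abelianization.ker_of]

/-- One side of the uniqueness argument: `π` restricted to `powComm Δ h` is bijective. -/
theorem side_bijective (π : Δ →* Γ) (hπ : Function.Surjective π) (σ : Γ →* Q)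
    (hσ : IsStemExtension σ) (a : ℕ)
    (h1 : ∀ x ∈ commutator Δ, π x = 1 → x = 1) (h2 : ∀ x, π x = 1 → x ^ a = 1)
    (hcop : Nat.Coprime (Nat.card (Abelianization Q)) a) :
    Function.Bijective (π.comp (powComm Δ (Nat.card (Abelianization Q))).subtype) := by
  obtain ⟨h, hh⟩ : ∃ h, h = Nat.card (Abelianization Q) := ⟨_, rfl⟩
  rw [← hh] at hcop ⊢
  constructor
  · rw [injective_iff_map_eq_one]
    rintro ⟨x, hx⟩ hx1
    have hx1' : π x = 1 := hx1
    have e1 : x ^ h = 1 := by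
      apply h1 _ ((mem_powComm h x).1 hx)
      rw [map_pow, hx1', one_pow]
    have e2 : x ^ a = 1 := h2 x hx1'
    have d1 := orderOf_dvd_of_pow_eq_one e1
    have d2 := orderOf_dvd_of_pow_eq_one e2
    have d3 : orderOf x ∣ 1 := by
      have := Nat.dvd_gcd d1 d2
      rwa [hcop.gcd_eq_one] at this
    apply Subtype.ext
    exact orderOf_eq_one_iff.1 (Nat.dvd_one.1 d3)
  · intro g
    obtain ⟨x, rfl⟩ := hπ g
    -- x^h = d * n
    have hgh : π x ^ h ∈ commutator Γ := by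
      have h3 : σ (π x ^ h) ∈ commutator Q := by
        rw [map_pow, hh]
        exact pow_card_abelianization_mem_commutator _
      obtain ⟨w, hw, hwe⟩ := exists_mem_commutator_map σ hσ.1 h3
      have h4 : π x ^ h * w⁻¹ ∈ commutator Γ := by
        apply hσ.2.2
        rw [MonoidHom.mem_ker, map_mul, map_inv, hwe, mul_inv_cancel]
      have := Subgroup.mul_mem _ h4 hw
      simpa using this
    obtain ⟨d, hd, hde⟩ := exists_mem_commutator_map π hπ hgh
    obtain ⟨n, hn⟩ : ∃ n, n = d⁻¹ * x ^ h := ⟨_, rfl⟩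
    have hn1 : π n = 1 := by
      rw [hn, map_mul, map_inv, hde, map_pow, inv_mul_cancel]
    have hna : n ^ a = 1 := h2 n hn1
    have hxn : Abelianization.of (x ^ h) = Abelianization.of n := by
      have : x ^ h = d * n := by rw [hn]; group
      rw [this, map_mul, (of_eq_one_iff d).2 hd, one_mul]
    -- Bezout
    have hbez : (1 : ℤ) = h * Nat.gcdA h a + a * Nat.gcdB h a := by
      have := Nat.gcd_eq_gcd_ab h a
      rw [hcop.gcd_eq_one] at this
      exact_mod_cast this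
    obtain ⟨n', hn'⟩ : ∃ n', n' = n ^ (Nat.gcdA h a) := ⟨_, rfl⟩
    have hn'1 : π n' = 1 := by rw [hn', map_zpow, hn1, one_zpow]
    have hn'h : n' ^ h = n := by
      rw [hn', ← zpow_natCast, ← zpow_mul]
      have e : Nat.gcdA h a * (h : ℤ) = 1 - a * Nat.gcdB h a := by linarith
      rw [e, zpow_sub, zpow_one, zpow_mul, zpow_natCast, hna, one_zpow, inv_one, mul_one]
    have hy : x * n'⁻¹ ∈ powComm Δ h := by
      rw [mem_powComm, ← of_eq_one_iff, map_pow, map_mul, map_inv, mul_pow, inv_pow, ← map_pow,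
        ← map_pow, hxn, hn'h, mul_inv_cancel]
    refine ⟨⟨x * n'⁻¹, hy⟩, ?_⟩
    show π (x * n'⁻¹) = π x
    rw [map_mul, map_inv, hn'1, inv_one, mul_one]

end side

/-- **Uniqueness of Schur covers** when `|Q^ab|` and `|M(Q)|` are coprime. -/
theorem exists_iso_of_coprime {Q : Type u} [Group Q] [Finite Q] {A : Type v} [CommGroup A]
    (hA : HasSchurMultiplier Q A)
    (hcop : Nat.Coprime (Nat.card (Abelianization Q)) (Nat.card A))
    {Γ₁ : Type w} {Γ₂ : Type w} [Group Γ₁] [Finite Γ₁] [Group Γ₂] [Finite Γ₂] (σ₁ : Γ₁ →* Q)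
    (σ₂ : Γ₂ →* Q) (h₁ : IsStemExtension σ₁) (h₂ : IsStemExtension σ₂) (e₁ : σ₁.ker ≃* A)
    (e₂ : σ₂.ker ≃* A) : ∃ e : Γ₁ ≃* Γ₂, σ₂.comp e.toMonoidHom = σ₁ := by
  haveI : Finite A := Finite.of_equiv _ e₁.toEquiv
  have hc1 : Nat.card σ₁.ker = Nat.card A := Nat.card_congr e₁.toEquiv
  have hc2 : Nat.card σ₂.ker = Nat.card A := Nat.card_congr e₂.toEquiv
  have hb1 := side_bijective (fpFst σ₁ σ₂) (fpFst_surjective σ₁ σ₂ h₂.1) σ₁ h₁ (Nat.card A)
    (fun x hx hx1 => eq_one_of_cover hA σ₁ h₁ hc1.ge (fpFst σ₁ σ₂)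
      (fpFst_surjective σ₁ σ₂ h₂.1) (ker_fpTot_le_center σ₁ σ₂ h₁.2.1 h₂.2.1) x hx1 hx)
    (fun x hx1 => by
      have hk := snd_mem_ker_of_mem_ker_fpFst σ₁ σ₂ hx1
      have hp : (⟨x.1.2, hk⟩ : σ₂.ker) ^ Nat.card A = 1 := by
        rw [← hc2]; exact pow_card_eq_one'
      have hp' : x.1.2 ^ Nat.card A = 1 := congrArg Subtype.val hp
      apply fp_ext
      · show (x.1.1) ^ Nat.card A = 1
        rw [(mem_ker_fpFst σ₁ σ₂ x).1 hx1, one_pow]
      · exact hp') hcop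
  have hcen2 : (σ₂.comp (fpSnd σ₁ σ₂)).ker ≤ Subgroup.center (fp σ₁ σ₂) := by
    intro x hx
    apply ker_fpTot_le_center σ₁ σ₂ h₁.2.1 h₂.2.1
    rw [MonoidHom.mem_ker, fpTot_apply']
    exact hx
  have hb2 := side_bijective (fpSnd σ₁ σ₂) (fpSnd_surjective σ₁ σ₂ h₁.1) σ₂ h₂ (Nat.card A)
    (fun x hx hx1 => eq_one_of_cover hA σ₂ h₂ hc2.ge (fpSnd σ₁ σ₂)
      (fpSnd_surjective σ₁ σ₂ h₁.1) hcen2 x hx1 hx)
    (fun x hx1 => by
      have hk := fst_mem_ker_of_mem_ker_fpSnd σ₁ σ₂ hx1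
      have hp : (⟨x.1.1, hk⟩ : σ₁.ker) ^ Nat.card A = 1 := by
        rw [← hc1]; exact pow_card_eq_one'
      have hp' : x.1.1 ^ Nat.card A = 1 := congrArg Subtype.val hp
      apply fp_ext
      · exact hp'
      · show (x.1.2) ^ Nat.card A = 1
        rw [(mem_ker_fpSnd σ₁ σ₂ x).1 hx1, one_pow]) hcop
  let E := powComm (fp σ₁ σ₂) (Nat.card (Abelianization Q))
  let f₁ : E ≃* Γ₁ := MulEquiv.ofBijective ((fpFst σ₁ σ₂).comp E.subtype) hb1
  let f₂ : E ≃* Γ₂ := MulEquiv.ofBijective ((fpSnd σ₁ σ₂).comp E.subtype) hb2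
  refine ⟨f₁.symm.trans f₂, ?_⟩
  ext g
  obtain ⟨y, rfl⟩ := f₁.surjective g
  show σ₂ (f₂ (f₁.symm (f₁ y))) = σ₁ (f₁ y)
  rw [f₁.symm_apply_apply]
  exact (fp_comm σ₁ σ₂ y.1).symm

end Cfsg.Agent.Lib.Helper7.Schur
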