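import Mathlib
import Cfsg.Prelude.Def_KGroupFacts
import Cfsg.Agent.Lib.Helper7.Schur16

set_option autoImplicit false

namespace Cfsg.Agent.Lib.Helper7.Schur

open Cfsg
open scoped commutatorElement

universe u v

namespace Twist

/-- Reduction `ℤ → ZMod m`, multiplicatively. -/
def red (m : ℕ) : Multiplicative ℤ →* Multiplicative (ZMod m) :=
  AddMonoidHom.toMultiplicative (Int.castAddHom (ZMod m))

theorem red_apply (m : ℕ) (z : Multiplicative ℤ) :
    red m z = Multiplicative.ofAdd ((Multiplicative.toAdd z : ℤ) : ZMod m) := rfl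

/-- Data for twisting a stem extension by a cyclic quotient of the base. -/
structure Data (Γ : Type u) (Q : Type v) [Group Γ] [Group Q] where
  σ : Γ →* Q
  m : ℕ
  χ : Q →* Multiplicative (ZMod m)
  a₀ : Γ
  hstem : IsStemExtension σ
  ha₀ : a₀ ∈ σ.ker
  hm : m ≠ 0

variable {Γ : Type u} {Q : Type v} [Group Γ] [Group Q] (d : Data Γ Q)

/-- The big group: pairs `(g, z)` with `χ (σ g) = z mod m`. -/
def Big : Subgroup (Γ × Multiplicative ℤ) :=
  (d.χ.comp (d.σ.comp (MonoidHom.fst Γ (Multiplicative ℤ)))).eqLocus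
    ((red d.m).comp (MonoidHom.snd Γ (Multiplicative ℤ)))

theorem mem_Big (x : Γ × Multiplicative ℤ) : x ∈ Big d ↔ d.χ (d.σ x.1) = red d.m x.2 := Iff.rfl

theorem a₀_mem_center : d.a₀ ∈ Subgroup.center Γ := d.hstem.2.1 d.ha₀

/-- The element `(a₀⁻¹, m)`. -/
def n0 : Big d :=
  ⟨(d.a₀⁻¹, Multiplicative.ofAdd (d.m : ℤ)), by
    rw [mem_Big]
    show d.χ (d.σ d.a₀⁻¹) = red d.m (Multiplicative.ofAdd (d.m : ℤ))
    rw [map_inv, MonoidHom.mem_ker.1 d.ha₀, inv_one, map_one, red_apply]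
    simp⟩

theorem n0_zpow_fst (k : ℤ) : ((n0 d ^ k : Big d) : Γ × Multiplicative ℤ).1 = (d.a₀⁻¹) ^ k := by
  rw [Subgroup.coe_zpow]
  show (MonoidHom.fst Γ (Multiplicative ℤ)) (_ ^ k) = _
  rw [map_zpow]
  rfl

theorem n0_zpow_snd (k : ℤ) :
    Multiplicative.toAdd ((n0 d ^ k : Big d) : Γ × Multiplicative ℤ).2 = k * d.m := by
  rw [Subgroup.coe_zpow]
  show Multiplicative.toAdd ((MonoidHom.snd Γ (Multiplicative ℤ)) (_ ^ k)) = _
  rw [map_zpow]
  show Multiplicative.toAdd ((Multiplicative.ofAdd (d.m : ℤ)) ^ k) = k * d.m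
  rw [toAdd_zpow, toAdd_ofAdd, smul_eq_mul]

theorem mem_center_Big {x : Big d} (hx : x.1.1 ∈ Subgroup.center Γ) :
    x ∈ Subgroup.center (Big d) := by
  rw [Subgroup.mem_center_iff]
  intro y
  apply Subtype.ext
  apply Prod.ext
  · exact Subgroup.mem_center_iff.1 hx _
  · exact mul_comm _ _

theorem n0_mem_center : n0 d ∈ Subgroup.center (Big d) :=
  mem_center_Big d (Subgroup.inv_mem _ (a₀_mem_center d))

/-- The normal subgroup generated by `n0`. -/
def NN : Subgroup (Big d) := Subgroup.zpowers (n0 d)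

theorem NN_le_center : NN d ≤ Subgroup.center (Big d) := by
  rw [NN, Subgroup.zpowers_le]
  exact n0_mem_center d

instance NN_normal : (NN d).Normal := normal_of_le_center _ (NN_le_center d)

/-- The twisted group. -/
abbrev Tw : Type u := Big d ⧸ NN d

/-- The first projection of `Big`. -/
def bigFstT : Big d →* Γ := (MonoidHom.fst Γ (Multiplicative ℤ)).comp (Big d).subtype

theorem bigFstT_apply (x : Big d) : bigFstT d x = x.1.1 := rfl

theorem bigFstT_surjective : Function.Surjective (bigFstT d) := by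
  intro g
  obtain ⟨z, hz⟩ := ZMod.intCast_surjective (Multiplicative.toAdd (d.χ (d.σ g)))
  refine ⟨⟨(g, Multiplicative.ofAdd z), ?_⟩, rfl⟩
  rw [mem_Big, red_apply]
  show d.χ (d.σ g) = Multiplicative.ofAdd ((z : ℤ) : ZMod d.m)
  rw [hz]
  rfl

/-- The twisted projection. -/
def σT : Tw d →* Q :=
  QuotientGroup.lift (NN d) (d.σ.comp (bigFstT d)) (by
    rw [NN, Subgroup.zpowers_le, MonoidHom.mem_ker, MonoidHom.comp_apply, bigFstT_apply]
    show d.σ d.a₀⁻¹ = 1
    rw [map_inv, MonoidHom.mem_ker.1 d.ha₀, inv_one])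

theorem σT_mk (x : Big d) : σT d (QuotientGroup.mk x) = d.σ x.1.1 := rfl

theorem σT_surjective : Function.Surjective (σT d) := by
  intro q
  obtain ⟨g, rfl⟩ := d.hstem.1 q
  obtain ⟨x, hx⟩ := bigFstT_surjective d g
  refine ⟨QuotientGroup.mk x, ?_⟩
  rw [σT_mk, ← bigFstT_apply, hx]

/-- The subgroup of `Γ` on which `χ ∘ σ` vanishes. -/
def DD : Subgroup Γ := (d.χ.comp d.σ).ker

theorem ker_le_DD : d.σ.ker ≤ DD d := by
  intro x hx
  rw [DD, MonoidHom.mem_ker, MonoidHom.comp_apply, MonoidHom.mem_ker.1 hx, map_one]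

theorem commutator_le_DD : commutator Γ ≤ DD d := by
  intro x hx
  exact Abelianization.commutator_subset_ker (d.χ.comp d.σ) hx

/-- The embedding `w ↦ (w, 0)` of `DD` in `Big`. -/
def incl : DD d →* Big d where
  toFun w := ⟨((w : Γ), 1), by
    rw [mem_Big]
    show d.χ (d.σ (w : Γ)) = red d.m 1
    rw [map_one]
    exact w.2⟩
  map_one' := rfl
  map_mul' _ _ := by
    apply Subtype.ext
    apply Prod.ext
    · rfl
    · show (1 : Multiplicative ℤ) = 1 * 1
      rw [one_mul]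

theorem incl_fst (w : DD d) : (incl d w).1.1 = w := rfl

theorem incl_snd (w : DD d) : (incl d w).1.2 = 1 := rfl

/-- The map `DD → Tw`. -/
def ι : DD d →* Tw d := (QuotientGroup.mk' (NN d)).comp (incl d)

theorem ι_injective : Function.Injective (ι d) := by
  rw [injective_iff_map_eq_one]
  intro w hw
  have h1 : incl d w ∈ NN d := (QuotientGroup.eq_one_iff _).1 hw
  obtain ⟨k, hk⟩ := Subgroup.mem_zpowers_iff.1 h1
  have h2 := n0_zpow_snd d k
  rw [hk, incl_snd] at h2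
  have h3 : k * (d.m : ℤ) = 0 := h2.symm
  have h4 : k = 0 := by
    rcases mul_eq_zero.1 h3 with h | h
    · exact h
    · exact absurd (by exact_mod_cast h) d.hm
  have h5 := n0_zpow_fst d k
  rw [hk, incl_fst, h4, zpow_zero] at h5
  exact Subtype.ext h5

theorem σT_ι (w : DD d) : σT d (ι d w) = d.σ w := rfl

/-- Every element of `Big` over `DD` is congruent to one in the image of `incl`. -/
theorem exists_incl_of_mem (x : Big d) (hx : x.1.1 ∈ DD d) :
    ∃ w : DD d, (QuotientGroup.mk x : Tw d) = ι d w ∧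
      ∃ k : ℤ, (w : Γ) = x.1.1 * d.a₀ ^ k ∧ Multiplicative.toAdd x.1.2 = k * d.m := by
  have h1 : red d.m x.1.2 = 1 := by
    rw [← (mem_Big d x.1).1 x.2]
    exact hx
  have h2 : ((Multiplicative.toAdd x.1.2 : ℤ) : ZMod d.m) = 0 := by
    rw [red_apply] at h1
    exact h1
  obtain ⟨k, hk⟩ := (ZMod.intCast_zmod_eq_zero_iff_dvd _ _).1 h2
  have hw : x.1.1 * d.a₀ ^ k ∈ DD d :=
    Subgroup.mul_mem _ hx (Subgroup.zpow_mem _ (ker_le_DD d d.ha₀) k)
  refine ⟨⟨_, hw⟩, ?_, k, rfl, by rw [hk, mul_comm]⟩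
  show (QuotientGroup.mk x : Tw d) = QuotientGroup.mk (incl d ⟨_, hw⟩)
  rw [QuotientGroup.eq]
  refine Subgroup.mem_zpowers_iff.2 ⟨-k, ?_⟩
  apply Subtype.ext
  apply Prod.ext
  · rw [n0_zpow_fst]
    show (d.a₀⁻¹) ^ (-k) = (x.1.1)⁻¹ * (x.1.1 * d.a₀ ^ k)
    rw [inv_zpow, zpow_neg, inv_inv, inv_mul_cancel_left]
  · apply Multiplicative.toAdd.injective
    rw [n0_zpow_snd]
    show -k * (d.m : ℤ) = Multiplicative.toAdd ((x.1.2)⁻¹ * 1)
    rw [mul_one, toAdd_inv, hk]
    ring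

theorem ker_σT : (σT d).ker = (d.σ.ker.subgroupOf (DD d)).map (ι d) := by
  ext y
  constructor
  · intro hy
    obtain ⟨x, rfl⟩ := QuotientGroup.mk_surjective y
    have hx : d.σ x.1.1 = 1 := hy
    obtain ⟨w, hw, k, hwk, -⟩ := exists_incl_of_mem d x (ker_le_DD d hx)
    refine ⟨w, ?_, hw.symm⟩
    rw [SetLike.mem_coe, Subgroup.mem_subgroupOf, hwk]
    exact Subgroup.mul_mem _ hx (Subgroup.zpow_mem _ d.ha₀ k)
  · rintro ⟨w, hw, rfl⟩
    rw [MonoidHom.mem_ker, σT_ι]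
    exact hw

theorem ι_mem_center (w : DD d) (hw : (w : Γ) ∈ Subgroup.center Γ) :
    ι d w ∈ Subgroup.center (Tw d) := by
  rw [Subgroup.mem_center_iff]
  intro y
  obtain ⟨x, rfl⟩ := QuotientGroup.mk_surjective y
  have h1 : incl d w ∈ Subgroup.center (Big d) := mem_center_Big d hw
  have h2 := Subgroup.mem_center_iff.1 h1 x
  show (QuotientGroup.mk x : Tw d) * QuotientGroup.mk (incl d w) =
    QuotientGroup.mk (incl d w) * QuotientGroup.mk x
  rw [← QuotientGroup.mk_mul, ← QuotientGroup.mk_mul, h2]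

theorem snd_eq_one_of_mem_commutator {x : Big d} (hx : x ∈ commutator (Big d)) : x.1.2 = 1 :=
  Abelianization.commutator_subset_ker
    ((MonoidHom.snd Γ (Multiplicative ℤ)).comp (Big d).subtype) hx

theorem ι_mem_commutator (w : Γ) (hw : w ∈ commutator Γ) :
    ι d ⟨w, commutator_le_DD d hw⟩ ∈ commutator (Tw d) := by
  obtain ⟨x, hx, hxw⟩ := exists_mem_commutator_map (bigFstT d) (bigFstT_surjective d) hw
  have h1 : x = incl d ⟨w, commutator_le_DD d hw⟩ := by
    apply Subtype.ext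
    apply Prod.ext
    · exact hxw
    · exact snd_eq_one_of_mem_commutator d hx
  show (QuotientGroup.mk' (NN d)) (incl d ⟨w, commutator_le_DD d hw⟩) ∈ commutator (Tw d)
  rw [← h1]
  exact map_mem_commutator (QuotientGroup.mk' (NN d)) hx

theorem σT_isStem : IsStemExtension (σT d) := by
  refine ⟨σT_surjective d, ?_, ?_⟩
  · intro y hy
    rw [ker_σT] at hy
    obtain ⟨w, hw, rfl⟩ := hy
    exact ι_mem_center d w (d.hstem.2.1 hw)
  · intro y hy
    rw [ker_σT] at hy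
    obtain ⟨w, hw, rfl⟩ := hy
    exact ι_mem_commutator d w (d.hstem.2.2 hw)

/-- The kernels of the original and the twisted extension are isomorphic. -/
noncomputable def kerEquiv : d.σ.ker ≃* (σT d).ker := by
  let f : d.σ.ker →* (σT d).ker :=
    ((ι d).comp (Subgroup.inclusion (ker_le_DD d))).codRestrict _ (fun a => by
      rw [MonoidHom.mem_ker]
      show d.σ (a : Γ) = 1
      exact a.2)
  refine MulEquiv.ofBijective f ⟨?_, ?_⟩
  · intro a b hab
    have h1 : ι d (Subgroup.inclusion (ker_le_DD d) a) = ι d (Subgroup.inclusion (ker_le_DD d) b) :=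
      congrArg Subtype.val hab
    have h2 := ι_injective d h1
    exact Subgroup.inclusion_injective _ h2
  · rintro ⟨y, hy⟩
    rw [ker_σT] at hy
    obtain ⟨w, hw, rfl⟩ := hy
    exact ⟨⟨w, hw⟩, rfl⟩

theorem Tw_finite [Finite Γ] : Finite (Tw d) := by
  haveI : Finite Q := Finite.of_surjective d.σ d.hstem.1
  haveI : Finite (σT d).ker := Finite.of_equiv _ (kerEquiv d).toEquiv
  haveI : Finite (Tw d ⧸ (σT d).ker) :=
    Finite.of_equiv _ (QuotientGroup.quotientKerEquivOfSurjective (σT d) (σT_surjective d)).symm.toEquiv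
  exact Finite.of_subgroup_quotient (σT d).ker

/-- An isomorphism over `Q` restricts to the canonical map on the commutator subgroup. -/
theorem iso_eq_ι (e : Γ ≃* Tw d) (he : (σT d).comp e.toMonoidHom = d.σ) (w : Γ)
    (hw : w ∈ commutator Γ) : e w = ι d ⟨w, commutator_le_DD d hw⟩ := by
  have hkey : ∀ x y : Γ, e ⁅x, y⁆ = ι d ⟨⁅x, y⁆, commutator_le_DD d
      (Subgroup.commutator_mem_commutator (Subgroup.mem_top _) (Subgroup.mem_top _))⟩ := by
    intro x y
    obtain ⟨X, hX⟩ := QuotientGroup.mk_surjective (e x)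
    obtain ⟨Y, hY⟩ := QuotientGroup.mk_surjective (e y)
    have hx : d.σ X.1.1 = d.σ x := by
      rw [← σT_mk, hX]
      exact DFunLike.congr_fun he x
    have hy : d.σ Y.1.1 = d.σ y := by
      rw [← σT_mk, hY]
      exact DFunLike.congr_fun he y
    have cx : x⁻¹ * X.1.1 ∈ Subgroup.center Γ := by
      apply d.hstem.2.1
      rw [MonoidHom.mem_ker, map_mul, map_inv, hx, inv_mul_cancel]
    have cy : y⁻¹ * Y.1.1 ∈ Subgroup.center Γ := by
      apply d.hstem.2.1
      rw [MonoidHom.mem_ker, map_mul, map_inv, hy, inv_mul_cancel]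
    rw [map_commutatorElement, ← hX, ← hY]
    show ⁅(QuotientGroup.mk' (NN d)) X, (QuotientGroup.mk' (NN d)) Y⁆ = _
    rw [← map_commutatorElement]
    show (QuotientGroup.mk ⁅X, Y⁆ : Tw d) = QuotientGroup.mk (incl d _)
    congr 1
    apply Subtype.ext
    apply Prod.ext
    · show ⁅X.1.1, Y.1.1⁆ = ⁅x, y⁆
      have e1 : X.1.1 = x * (x⁻¹ * X.1.1) := by group
      have e2 : Y.1.1 = y * (y⁻¹ * Y.1.1) := by group
      rw [e1, e2, commutatorElement_mul_central _ _ _ _ cx cy]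
    · exact snd_eq_one_of_mem_commutator d
        (Subgroup.commutator_mem_commutator (Subgroup.mem_top _) (Subgroup.mem_top _))
  rw [commutator_eq_closure] at hw
  induction hw using Subgroup.closure_induction with
  | mem w hw' =>
    obtain ⟨x, y, rfl⟩ := hw'
    exact hkey x y
  | one =>
    rw [map_one]
    exact (map_one (ι d)).symm
  | mul a b ha hb iha ihb =>
    have ha' : a ∈ commutator Γ := by rw [commutator_eq_closure]; exact ha
    have hb' : b ∈ commutator Γ := by rw [commutator_eq_closure]; exact hb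
    rw [map_mul, iha ha', ihb hb', ← map_mul]
    rfl
  | inv a ha iha =>
    have ha' : a ∈ commutator Γ := by rw [commutator_eq_closure]; exact ha
    rw [map_inv, iha ha', ← map_inv]
    rfl

/-- If the twisted extension is isomorphic over `Q` to the original one, then `a₀` is an
`m`-th power in the kernel. -/
theorem exists_root_of_iso (e : Γ ≃* Tw d) (he : (σT d).comp e.toMonoidHom = d.σ) (g₀ : Γ)
    (hg₀ : d.χ (d.σ g₀) = Multiplicative.ofAdd 1) (hg₀m : g₀ ^ d.m ∈ commutator Γ) :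
    ∃ c ∈ d.σ.ker, c ^ d.m = d.a₀ := by
  obtain ⟨X, hX⟩ := QuotientGroup.mk_surjective (e g₀)
  have hx : d.σ X.1.1 = d.σ g₀ := by
    rw [← σT_mk, hX]
    exact DFunLike.congr_fun he g₀
  obtain ⟨c, hc⟩ : ∃ c, c = g₀⁻¹ * X.1.1 := ⟨_, rfl⟩
  have hck : c ∈ d.σ.ker := by
    rw [hc, MonoidHom.mem_ker, map_mul, map_inv, hx, inv_mul_cancel]
  have hcc : c ∈ Subgroup.center Γ := d.hstem.2.1 hck
  have hXc : X.1.1 = g₀ * c := by rw [hc]; group
  -- second coordinate
  obtain ⟨z, hz⟩ : ∃ z : ℤ, z = Multiplicative.toAdd X.1.2 := ⟨_, rfl⟩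
  have hz1 : ((z : ℤ) : ZMod d.m) = 1 := by
    have h1 := (mem_Big d X.1).1 X.2
    rw [hx, hg₀, red_apply, ← hz] at h1
    exact (Multiplicative.ofAdd.injective h1).symm
  obtain ⟨k, hk⟩ : ∃ k : ℤ, z = 1 + d.m * k := by
    have h2 : ((z : ℤ) : ZMod d.m) = ((1 : ℤ) : ZMod d.m) := by rw [hz1]; simp
    rw [ZMod.intCast_eq_intCast_iff_dvd_sub] at h2
    obtain ⟨k, hk⟩ := h2
    exact ⟨-k, by linarith⟩
  -- compare e (g₀ ^ m)
  have h1 : e (g₀ ^ d.m) = ι d ⟨g₀ ^ d.m, commutator_le_DD d hg₀m⟩ := iso_eq_ι d e he _ hg₀m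
  have h2 : e (g₀ ^ d.m) = QuotientGroup.mk (X ^ d.m) := by
    rw [map_pow, ← hX]
    rfl
  have h3 : (QuotientGroup.mk (incl d ⟨g₀ ^ d.m, commutator_le_DD d hg₀m⟩) : Tw d) =
      QuotientGroup.mk (X ^ d.m) := by
    rw [← h2, h1]
    rfl
  rw [QuotientGroup.eq] at h3
  obtain ⟨t, ht⟩ := Subgroup.mem_zpowers_iff.1 h3
  have ht1 := n0_zpow_fst d t
  have ht2 := n0_zpow_snd d t
  rw [ht] at ht1 ht2
  have e1 : (((incl d ⟨g₀ ^ d.m, commutator_le_DD d hg₀m⟩)⁻¹ * X ^ d.m : Big d) :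
      Γ × Multiplicative ℤ).1 = c ^ d.m := by
    show (g₀ ^ d.m)⁻¹ * (X.1.1) ^ d.m = c ^ d.m
    have hcomm : Commute g₀ c := Subgroup.mem_center_iff.1 hcc g₀
    rw [hXc, hcomm.mul_pow, inv_mul_cancel_left]
  have e2 : Multiplicative.toAdd (((incl d ⟨g₀ ^ d.m, commutator_le_DD d hg₀m⟩)⁻¹ * X ^ d.m : Big d) :
      Γ × Multiplicative ℤ).2 = d.m * z := by
    show Multiplicative.toAdd ((1 : Multiplicative ℤ)⁻¹ * (X.1.2) ^ d.m) = d.m * z
    rw [inv_one, one_mul, toAdd_pow, ← hz, nsmul_eq_mul]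
  rw [e1] at ht1
  rw [e2] at ht2
  have htz : t = z := by
    have hm : (d.m : ℤ) ≠ 0 := by exact_mod_cast d.hm
    have : (d.m : ℤ) * z = d.m * t := by rw [ht2]; ring
    exact (mul_left_cancel₀ hm this).symm
  -- conclude
  have hcomm2 : Commute c d.a₀ := (Subgroup.mem_center_iff.1 hcc d.a₀).symm
  refine ⟨c⁻¹ * (d.a₀ ^ k)⁻¹, ?_, ?_⟩
  · exact Subgroup.mul_mem _ (Subgroup.inv_mem _ hck)
      (Subgroup.inv_mem _ (Subgroup.zpow_mem _ d.ha₀ k))
  · have hc1 : Commute c⁻¹ (d.a₀ ^ k)⁻¹ := (hcomm2.zpow_right k).inv_inv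
    rw [hc1.mul_pow, inv_pow, ht1, htz, hk, inv_zpow, inv_inv]
    have h5 : ((d.a₀ ^ k)⁻¹) ^ d.m = d.a₀ ^ (-k * (d.m : ℤ)) := by
      rw [← zpow_neg, ← zpow_natCast, ← zpow_mul]
    rw [h5, ← zpow_add]
    have h6 : 1 + (d.m : ℤ) * k + -k * (d.m : ℤ) = 1 := by ring
    rw [h6, zpow_one]

end Twist

end Cfsg.Agent.Lib.Helper7.Schur
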