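import Mathlib
import Cfsg.Agent.Lib.Lead.Frattini
import Cfsg.Agent.Lib.Lead.Nilpotent

set_option autoImplicit false

/-!
# Tools on Frattini quotients of 2-groups used for sectional-rank arguments
-/

namespace Cfsg.Agent.Lib.Helper7.SecRank

open scoped Pointwise
open scoped commutatorElement

section abstract

variable {P : Type*} [Group P] [Finite P]

/-- the Frattini subgroup of a non-commutative finite `2`-group has index at least `4` -/
theorem four_le_index_frattini (hP : IsPGroup 2 P) (hnc : ¬ ∀ a b : P, a * b = b * a) :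
    4 ≤ (frattini P).index := by
  haveI : Fact (Nat.Prime 2) := ⟨Nat.prime_two⟩
  obtain ⟨n, hn⟩ := hP.index (frattini P)
  rw [hn]
  by_contra hlt
  push Not at hlt
  have hn1 : n ≤ 1 := by
    by_contra h
    push Not at h
    have : 2 ^ 2 ≤ 2 ^ n := Nat.pow_le_pow_right (by norm_num) h
    omega
  apply hnc
  -- P is cyclic
  have hcyc : ∃ x : P, Subgroup.zpowers x = ⊤ := by
    rcases Nat.le_one_iff_eq_zero_or_eq_one.mp hn1 with h0 | h1
    · rw [h0, pow_zero, Subgroup.index_eq_one] at hn
      refine ⟨1, ?_⟩
      apply frattini_nongenerating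
      rw [hn]; exact sup_top_eq _
    · rw [h1, pow_one] at hn
      have hne : frattini P ≠ ⊤ := by
        intro h
        rw [h, Subgroup.index_top] at hn
        omega
      obtain ⟨x, hx⟩ : ∃ x : P, x ∉ frattini P := by
        by_contra h
        push Not at h
        exact hne (eq_top_iff.mpr fun y _ => h y)
      refine ⟨x, ?_⟩
      apply frattini_nongenerating
      -- zpowers x ⊔ frattini has index < 2
      have hle : frattini P ≤ Subgroup.zpowers x ⊔ frattini P := le_sup_right
      have hdvd : (Subgroup.zpowers x ⊔ frattini P).index ∣ (frattini P).index :=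
        Subgroup.index_dvd_of_le hle
      rw [hn] at hdvd
      rcases (Nat.dvd_prime Nat.prime_two).mp hdvd with h1' | h2
      · exact Subgroup.index_eq_one.mp h1'
      · exfalso
        have hcard : Nat.card (frattini P) = Nat.card (Subgroup.zpowers x ⊔ frattini P : Subgroup P) := by
          have e1 := (frattini P).card_mul_index
          have e2 := (Subgroup.zpowers x ⊔ frattini P).card_mul_index
          rw [hn] at e1
          rw [h2] at e2
          omega
        have heq : frattini P = Subgroup.zpowers x ⊔ frattini P :=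
          Subgroup.eq_of_le_of_card_ge hle hcard.ge
        apply hx
        rw [heq]
        exact Subgroup.mem_sup_left (Subgroup.mem_zpowers x)
  obtain ⟨x, hx⟩ := hcyc
  intro a b
  have ha : a ∈ Subgroup.zpowers x := hx ▸ Subgroup.mem_top a
  have hb : b ∈ Subgroup.zpowers x := hx ▸ Subgroup.mem_top b
  obtain ⟨i, rfl⟩ := Subgroup.mem_zpowers_iff.mp ha
  obtain ⟨j, rfl⟩ := Subgroup.mem_zpowers_iff.mp hb
  rw [← zpow_add, ← zpow_add, add_comm]

/-- in a non-commutative finite `2`-group with centre of order `2`, the centre lies in the Frattini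
subgroup -/
theorem center_le_frattini (hP : IsPGroup 2 P) (hnc : ¬ ∀ a b : P, a * b = b * a)
    (hZ : Nat.card (Subgroup.center P) = 2) : Subgroup.center P ≤ frattini P := by
  haveI : Fact (Nat.Prime 2) := ⟨Nat.prime_two⟩
  haveI : Group.IsNilpotent P := hP.isNilpotent
  have hc : commutator P ≠ ⊥ := by
    intro h
    apply hnc
    intro a b
    have h1 : ⁅a, b⁆ ∈ commutator P := Subgroup.commutator_mem_commutator (Subgroup.mem_top a) (Subgroup.mem_top b)
    rw [h, Subgroup.mem_bot, commutatorElement_eq_one_iff_mul_comm] at h1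
    exact h1
  have h2 := Cfsg.Agent.Lib.Lead.inf_center_ne_bot (commutator P) hc
  obtain ⟨⟨w, hwc, hwz⟩, hw1⟩ := (Subgroup.ne_bot_iff_exists_ne_one).mp h2
  have hw1' : w ≠ 1 := fun h => hw1 (Subtype.ext h)
  -- the centre is {1, w}
  intro z hz
  by_cases hz1 : z = 1
  · rw [hz1]; exact Subgroup.one_mem _
  have hzw : z = w := by
    by_contra hne
    -- three distinct elements 1, z, w in a set of card 2
    have h3 : 3 ≤ Nat.card (Subgroup.center P) := by
      classical
      have hinj : Function.Injective (fun i : Fin 3 =>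
          (![⟨1, Subgroup.one_mem _⟩, ⟨z, hz⟩, ⟨w, hwz⟩] i : Subgroup.center P)) := by
        intro i j hij
        fin_cases i <;> fin_cases j <;> simp_all [Subtype.ext_iff]
      have := Nat.card_le_card_of_injective _ hinj
      simpa using this
    omega
  rw [hzw]
  exact Cfsg.Agent.Lib.Lead.commutator_le_frattini_of_isPGroup hP hwc

end abstract

section ambient

variable {S : Type*} [Group S] [Finite S]

/-- image in `S` of the Frattini subgroup of the subgroup `P` -/
noncomputable def phi (P : Subgroup S) : Subgroup S := (frattini ↥P).map P.subtype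

theorem phi_le (P : Subgroup S) : phi P ≤ P := by
  rintro _ ⟨y, _, rfl⟩
  exact y.2

theorem sq_mem_phi (P : Subgroup S) (hP : IsPGroup 2 ↥P) {a : S} (ha : a ∈ P) : a ^ 2 ∈ phi P := by
  haveI : Fact (Nat.Prime 2) := ⟨Nat.prime_two⟩
  have := Cfsg.Agent.Lib.Lead.pow_mem_frattini_of_isPGroup hP (⟨a, ha⟩ : ↥P)
  exact ⟨_, this, rfl⟩

instance phi_normal (P : Subgroup S) [P.Normal] : (phi P).Normal :=
  ConjAct.normal_of_characteristic_of_normal

theorem relIndex_phi (P : Subgroup S) : (phi P).relIndex P = (frattini ↥P).index := by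
  unfold phi Subgroup.relIndex
  rw [Subgroup.subgroupOf, Subgroup.comap_map_eq_self_of_injective P.subtype_injective]

/-- centre of `P` as a subgroup of `S` -/
def zen (P : Subgroup S) : Subgroup S := (Subgroup.center ↥P).map P.subtype

theorem mem_zen {P : Subgroup S} {z : S} : z ∈ zen P ↔ z ∈ P ∧ ∀ a ∈ P, a * z = z * a := by
  constructor
  · rintro ⟨y, hy, rfl⟩
    refine ⟨y.2, fun a ha => ?_⟩
    have := Subgroup.mem_center_iff.mp hy ⟨a, ha⟩
    exact congrArg Subtype.val this
  · rintro ⟨hz, h⟩
    refine ⟨⟨z, hz⟩, ?_, rfl⟩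
    rw [SetLike.mem_coe, Subgroup.mem_center_iff]
    intro a
    exact Subtype.ext (h a a.2)

theorem zen_le_phi (P : Subgroup S) (hP : IsPGroup 2 ↥P) (hnc : ¬ IsMulCommutative ↥P)
    (hZ : Nat.card ↥(Subgroup.center ↥P) = 2) : zen P ≤ phi P := by
  apply Subgroup.map_mono
  apply center_le_frattini hP _ hZ
  intro h
  exact hnc ⟨⟨h⟩⟩

theorem four_le_relIndex_phi (P : Subgroup S) (hP : IsPGroup 2 ↥P) (hnc : ¬ IsMulCommutative ↥P) :
    4 ≤ (phi P).relIndex P := by
  rw [relIndex_phi]
  apply four_le_index_frattini hP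
  intro h
  exact hnc ⟨⟨h⟩⟩

end ambient

end Cfsg.Agent.Lib.Helper7.SecRank
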