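import Mathlib
import Cfsg.Prelude.Def_Characters
import Cfsg.Prelude.Def_Classical
import Cfsg.Agent.Lib.Helper9.SpFus1
import Cfsg.Agent.Lib.Helper6.Siegel.Defs
import Cfsg.Agent.Lib.Helper8.CharKernel
import Cfsg.Agent.Lib.Helper4.Characters
import Cfsg.Agent.S0269
import Cfsg.Agent.S0270

set_option autoImplicit false

/-! S2333 / S2347-lower, Siegel route, PK-K: an irreducible representation of degree `≥ 2` of
`Sp_2n(F)` is not trivial on any nontrivial Siegel element. -/

namespace Cfsg.Agent.Lib.Helper6.Siegel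

open Cfsg Matrix Cfsg.Agent.H9SpF
open scoped ComplexConjugate

universe u

/-- a nontrivial Siegel element is not central -/
theorem siegK_not_central {F : Type u} [Field F] (n : ℕ) (S0 : symAdd n F) (hne : S0 ≠ 0) :
    siegHom S0 ∉ Subgroup.center (Matrix.symplecticGroup (Fin n) F) := by
  intro hc
  rw [Subgroup.mem_center_iff] at hc
  have h1 := hc (SymplecticGroup.symJ (Fin n) F)
  have h2 := congrArg (Subtype.val) h1
  simp only [MulMemClass.coe_mul, SymplecticGroup.coe_J, siegHom_coe] at h2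
  unfold Matrix.J siegM at h2
  rw [fromBlocks_multiply, fromBlocks_multiply] at h2
  have h3 := (Matrix.fromBlocks_inj.mp h2).1
  simp only [Matrix.zero_mul, Matrix.mul_zero, Matrix.mul_one, Matrix.one_mul, add_zero,
    zero_add] at h3
  apply hne
  apply Subtype.ext
  rw [AddSubgroup.coe_zero]
  exact h3.symm

theorem sieg_not_in_kernel {F : Type u} [Field F] [Fintype F] [DecidableEq F] (n : ℕ) (hn : 2 ≤ n)
    (h22 : n = 2 → 3 ≤ Fintype.card F)
    (k : ℕ) (ρ : Representation ℂ (Matrix.symplecticGroup (Fin n) F) (Fin k → ℂ))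
    (hρ : ρ.IsIrreducible) (hk : 2 ≤ k) (S0 : symAdd n F) (hne : S0 ≠ 0) :
    ρ.character (siegHom S0) ≠ ρ.character 1 := by
  classical
  intro hcon
  letI : Fintype (Matrix.symplecticGroup (Fin n) F) := Fintype.ofFinite _
  set χ : Matrix.symplecticGroup (Fin n) F → ℂ := ρ.character with hχdef
  have hχ : IsIrrCharacter (Matrix.symplecticGroup (Fin n) F) χ := ⟨k, ρ, hρ, rfl⟩
  have hχc : IsCharacter (Matrix.symplecticGroup (Fin n) F) χ :=
    Cfsg.Agent.Lib.Helper4.isCharacter_of_irr hχ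
  obtain ⟨K, hKn, hK⟩ := Cfsg.Agent.Lib.Helper8.exists_normal_ker hχc
  have hperf : commutator (Matrix.symplecticGroup (Fin n) F) = ⊤ := by
    apply Cfsg.Agent.S0269.result
    by_cases h2 : n = 2
    · right; left; exact ⟨h2, h22 h2⟩
    · left; omega
  set v₀ : Fin n ⊕ Fin n → F := Pi.single (Sum.inl ⟨0, by omega⟩) 1 with hv₀def
  have hv₀ : v₀ ≠ 0 := Cfsg.Agent.S0269.single_ne_zero' _
  have hmem : siegHom S0 ∈ K := (hK _).2 hcon
  have hKtop : K = ⊤ := by
    by_cases hNP : K ≤ Cfsg.Agent.Lib.Helper1.SpPoint.pointStab v₀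
    · exfalso
      exact siegK_not_central n S0 hne
        (Cfsg.Agent.S0270.le_center_of_le_pointStab v₀ hv₀ K hNP hmem)
    · exact Cfsg.Agent.S0270.eq_top_of_not_le_pointStab hperf v₀ hv₀ K hNP
  have hall : ∀ g : Matrix.symplecticGroup (Fin n) F, χ g = χ 1 := by
    intro g
    rw [← hK, hKtop]
    exact Subgroup.mem_top g
  have h1 := Cfsg.Agent.Lib.Helper4.classInner_irr_self hχ
  rw [Cfsg.Agent.Lib.Helper4.classInner_def] at h1
  have hχ1 : χ 1 = (k : ℂ) := by
    rw [hχdef, Representation.char_one]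
    simp
  have hG0 : (Nat.card (Matrix.symplecticGroup (Fin n) F) : ℂ) ≠ 0 := Nat.cast_ne_zero.2 Nat.card_pos.ne'
  have h2 : ∑ g : Matrix.symplecticGroup (Fin n) F, χ g * conj (χ g) =
      (Nat.card (Matrix.symplecticGroup (Fin n) F) : ℂ) * ((k : ℂ) * (k : ℂ)) := by
    rw [Finset.sum_congr rfl (fun g _ => by rw [hall g, hχ1, Complex.conj_natCast]),
      Finset.sum_const, Finset.card_univ, nsmul_eq_mul, Nat.card_eq_fintype_card]
  rw [h2, ← mul_assoc, inv_mul_cancel₀ hG0, one_mul] at h1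
  have h3 : k * k = 1 := by exact_mod_cast h1
  have h4 : k = 1 := Nat.eq_one_of_mul_eq_one_left h3
  omega

end Cfsg.Agent.Lib.Helper6.Siegel
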