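import Mathlib
import Cfsg.Prelude.Def_Characters
import Cfsg.Agent.Lib.Helper9.SpFus1
import Cfsg.Agent.Lib.Helper6.Siegel.Defs
import Cfsg.Agent.Lib.Helper6.QFOrb.Basic

set_option autoImplicit false

/-! S2333, Siegel route, PK-PAR-even: characters of the symmetric matrices and quadratic forms
(characteristic 2). -/

namespace Cfsg.Agent.Lib.Helper6.Siegel

open Cfsg Matrix Cfsg.Agent.H9SpF
open scoped ComplexConjugate

universe u

section field
variable {F : Type u} [Field F] [Fintype F]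

theorem par_exists_psi : ∃ ψ : AddChar F ℂ, ψ ≠ 1 := by
  by_contra hcon
  push_neg at hcon
  have h1 : Fintype.card (AddChar F ℂ) = 1 := by
    rw [Fintype.card_eq_one_iff]
    exact ⟨1, fun ψ => hcon ψ⟩
  rw [AddChar.card_eq] at h1
  have := Fintype.one_lt_card (α := F)
  omega

theorem par_ne_zero {A : Type*} [AddCommGroup A] (ψ : AddChar A ℂ) (x : A) : ψ x ≠ 0 := by
  have h : ψ x * ψ (-x) = 1 := by
    rw [← AddChar.map_add_eq_mul, add_neg_cancel, AddChar.map_zero_eq_one]
  exact left_ne_zero_of_mul_eq_one h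

theorem par_prim (ψ : AddChar F ℂ) (hψ : ψ ≠ 1) {c c' : F}
    (h : ∀ t, ψ (c * t) = ψ (c' * t)) : c = c' := by
  by_contra hne
  have hd : c - c' ≠ 0 := sub_ne_zero.2 hne
  apply hψ
  ext s
  have h1 := h (s / (c - c'))
  have h2 : c * (s / (c - c')) = c' * (s / (c - c')) + s := by
    field_simp
    ring
  rw [h2, AddChar.map_add_eq_mul] at h1
  have h3 : ψ (c' * (s / (c - c'))) ≠ 0 := par_ne_zero ψ _
  have h4 : ψ s = 1 := by
    have := mul_left_cancel₀ h3 (h1.trans (mul_one _).symm)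
    exact this
  rw [h4]
  rfl

theorem par_surj (ψ : AddChar F ℂ) (hψ : ψ ≠ 1) (κ : AddChar F ℂ) :
    ∃ c : F, ∀ t, κ t = ψ (c * t) := by
  classical
  have hinj : Function.Injective (fun c : F => AddChar.mulShift ψ c) := by
    intro c c' h
    apply par_prim ψ hψ
    intro t
    have := DFunLike.congr_fun h t
    simpa [AddChar.mulShift_apply] using this
  have hbij : Function.Bijective (fun c : F => AddChar.mulShift ψ c) := by
    rw [Fintype.bijective_iff_injective_and_card]
    exact ⟨hinj, (AddChar.card_eq (α := F)).symm⟩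
  obtain ⟨c, hc⟩ := hbij.2 κ
  refine ⟨c, fun t => ?_⟩
  rw [← hc]
  simp [AddChar.mulShift_apply]

end field

section sym
variable {F : Type u} [Field F] {n : ℕ}

/-- `t ↦ t • v vᵀ` -/
def rk1 (v : Fin n → F) : F →+ symAdd n F where
  toFun t := ⟨t • vecMulVec v v, by
    rw [mem_symAdd]
    apply Matrix.IsSymm.smul
    exact transpose_vecMulVec v v⟩
  map_zero' := by
    apply Subtype.ext
    simp
  map_add' a b := by
    apply Subtype.ext
    simp [add_smul]

theorem rk1_val (v : Fin n → F) (t : F) : (rk1 v t).1 = t • vecMulVec v v := rfl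

/-- `t ↦ t • (v wᵀ + w vᵀ)` -/
def crossH (v w : Fin n → F) : F →+ symAdd n F where
  toFun t := ⟨t • (vecMulVec v w + vecMulVec w v), by
    rw [mem_symAdd]
    apply Matrix.IsSymm.smul
    unfold Matrix.IsSymm
    rw [Matrix.transpose_add, transpose_vecMulVec, transpose_vecMulVec, add_comm]⟩
  map_zero' := by
    apply Subtype.ext
    simp
  map_add' a b := by
    apply Subtype.ext
    simp [add_smul]
    abel

theorem crossH_val (v w : Fin n → F) (t : F) :
    (crossH v w t).1 = t • (vecMulVec v w + vecMulVec w v) := rfl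

theorem rk1_smul (a : F) (v : Fin n → F) (t : F) : rk1 (a • v) t = rk1 v (a * a * t) := by
  apply Subtype.ext
  rw [rk1_val, rk1_val]
  ext i j
  simp [vecMulVec_apply]
  ring

theorem rk1_add (v w : Fin n → F) (t : F) :
    rk1 (v + w) t = rk1 v t + rk1 w t + crossH v w t := by
  apply Subtype.ext
  rw [AddSubgroup.coe_add, AddSubgroup.coe_add, rk1_val, rk1_val, rk1_val, crossH_val]
  ext i j
  simp [vecMulVec_apply]
  ring

theorem crossH_add_left (v v' w : Fin n → F) (t : F) :
    crossH (v + v') w t = crossH v w t + crossH v' w t := by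
  apply Subtype.ext
  rw [AddSubgroup.coe_add, crossH_val, crossH_val, crossH_val]
  ext i j
  simp [vecMulVec_apply]
  ring

theorem crossH_smul_left (a : F) (v w : Fin n → F) (t : F) :
    crossH (a • v) w t = crossH v w (a * t) := by
  apply Subtype.ext
  rw [crossH_val, crossH_val]
  ext i j
  simp [vecMulVec_apply]
  ring

theorem congT_rk1 (P : GL (Fin n) F) (v : Fin n → F) (t : F) :
    congT P (rk1 v t) = rk1 ((P : Matrix (Fin n) (Fin n) F) *ᵥ v) t := by
  apply Subtype.ext
  rw [congT_val, rk1_val, rk1_val, Matrix.mul_smul, Matrix.smul_mul, mul_vecMulVec, vecMulVec_mul,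
    Matrix.vecMul_transpose]

end sym

section qf
variable {F : Type u} [Field F] [Fintype F] {n : ℕ}

/-- the value at `v` of the quadratic form attached to the character `μ` -/
noncomputable def qfv (ψ : AddChar F ℂ) (hψ : ψ ≠ 1) (μ : AddChar (symAdd n F) ℂ)
    (v : Fin n → F) : F :=
  Classical.choose (par_surj ψ hψ (μ.compAddMonoidHom (rk1 v)))

theorem qfv_spec (ψ : AddChar F ℂ) (hψ : ψ ≠ 1) (μ : AddChar (symAdd n F) ℂ)
    (v : Fin n → F) (t : F) : μ (rk1 v t) = ψ (qfv ψ hψ μ v * t) :=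
  Classical.choose_spec (par_surj ψ hψ (μ.compAddMonoidHom (rk1 v))) t

theorem qfv_unique (ψ : AddChar F ℂ) (hψ : ψ ≠ 1) (μ : AddChar (symAdd n F) ℂ)
    (v : Fin n → F) {c : F} (h : ∀ t, μ (rk1 v t) = ψ (c * t)) : qfv ψ hψ μ v = c := by
  apply par_prim ψ hψ
  intro t
  rw [← qfv_spec, h]

/-- the value at `(v, w)` of the polar form attached to the character `μ` -/
noncomputable def polv (ψ : AddChar F ℂ) (hψ : ψ ≠ 1) (μ : AddChar (symAdd n F) ℂ)
    (v w : Fin n → F) : F :=
  Classical.choose (par_surj ψ hψ (μ.compAddMonoidHom (crossH v w)))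

theorem polv_spec (ψ : AddChar F ℂ) (hψ : ψ ≠ 1) (μ : AddChar (symAdd n F) ℂ)
    (v w : Fin n → F) (t : F) : μ (crossH v w t) = ψ (polv ψ hψ μ v w * t) :=
  Classical.choose_spec (par_surj ψ hψ (μ.compAddMonoidHom (crossH v w))) t

theorem polv_unique (ψ : AddChar F ℂ) (hψ : ψ ≠ 1) (μ : AddChar (symAdd n F) ℂ)
    (v w : Fin n → F) {c : F} (h : ∀ t, μ (crossH v w t) = ψ (c * t)) :
    polv ψ hψ μ v w = c := by
  apply par_prim ψ hψ
  intro t
  rw [← polv_spec, h]

theorem qfv_smul (ψ : AddChar F ℂ) (hψ : ψ ≠ 1) (μ : AddChar (symAdd n F) ℂ) (a : F)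
    (v : Fin n → F) : qfv ψ hψ μ (a • v) = a * a * qfv ψ hψ μ v := by
  apply qfv_unique
  intro t
  rw [rk1_smul, qfv_spec ψ hψ]
  congr 1
  ring

theorem qfv_add (ψ : AddChar F ℂ) (hψ : ψ ≠ 1) (μ : AddChar (symAdd n F) ℂ)
    (v w : Fin n → F) :
    qfv ψ hψ μ (v + w) = qfv ψ hψ μ v + qfv ψ hψ μ w + polv ψ hψ μ v w := by
  apply qfv_unique
  intro t
  rw [rk1_add, AddChar.map_add_eq_mul, AddChar.map_add_eq_mul, qfv_spec ψ hψ, qfv_spec ψ hψ,
    polv_spec ψ hψ, ← AddChar.map_add_eq_mul, ← AddChar.map_add_eq_mul]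
  congr 1
  ring

theorem polv_add_left (ψ : AddChar F ℂ) (hψ : ψ ≠ 1) (μ : AddChar (symAdd n F) ℂ)
    (v v' w : Fin n → F) :
    polv ψ hψ μ (v + v') w = polv ψ hψ μ v w + polv ψ hψ μ v' w := by
  apply polv_unique
  intro t
  rw [crossH_add_left, AddChar.map_add_eq_mul, polv_spec ψ hψ, polv_spec ψ hψ,
    ← AddChar.map_add_eq_mul]
  congr 1
  ring

theorem polv_smul_left (ψ : AddChar F ℂ) (hψ : ψ ≠ 1) (μ : AddChar (symAdd n F) ℂ) (a : F)
    (v w : Fin n → F) : polv ψ hψ μ (a • v) w = a * polv ψ hψ μ v w := by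
  apply polv_unique
  intro t
  rw [crossH_smul_left, polv_spec ψ hψ]
  congr 1
  ring

theorem polar_qfv (ψ : AddChar F ℂ) (hψ : ψ ≠ 1) (μ : AddChar (symAdd n F) ℂ)
    (v w : Fin n → F) : QuadraticMap.polar (qfv ψ hψ μ) v w = polv ψ hψ μ v w := by
  unfold QuadraticMap.polar
  rw [qfv_add]
  ring

/-- the quadratic form attached to the character `μ` -/
noncomputable def qfOf (ψ : AddChar F ℂ) (hψ : ψ ≠ 1) (μ : AddChar (symAdd n F) ℂ) :
    QuadraticForm F (Fin n → F) :=
  QuadraticMap.ofPolar (qfv ψ hψ μ)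
    (fun a x => by rw [qfv_smul, smul_eq_mul])
    (fun x x' y => by rw [polar_qfv, polar_qfv, polar_qfv, polv_add_left])
    (fun a x y => by rw [polar_qfv, polar_qfv, polv_smul_left, smul_eq_mul])

theorem qfOf_apply (ψ : AddChar F ℂ) (hψ : ψ ≠ 1) (μ : AddChar (symAdd n F) ℂ)
    (v : Fin n → F) : qfOf ψ hψ μ v = qfv ψ hψ μ v := rfl

theorem qfv_congT (ψ : AddChar F ℂ) (hψ : ψ ≠ 1) (μ : AddChar (symAdd n F) ℂ)
    (P : GL (Fin n) F) (v : Fin n → F) :
    qfv ψ hψ (μ.compAddMonoidHom (congT P : symAdd n F ≃+ symAdd n F).toAddMonoidHom) v =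
      qfv ψ hψ μ ((P : Matrix (Fin n) (Fin n) F) *ᵥ v) := by
  apply qfv_unique
  intro t
  rw [AddChar.compAddMonoidHom_apply]
  show μ (congT P (rk1 v t)) = _
  rw [congT_rk1, qfv_spec ψ hψ]

theorem qfOf_congT (ψ : AddChar F ℂ) (hψ : ψ ≠ 1) (μ : AddChar (symAdd n F) ℂ)
    (P : GL (Fin n) F) :
    qfOf ψ hψ (μ.compAddMonoidHom (congT P : symAdd n F ≃+ symAdd n F).toAddMonoidHom) =
      (qfOf ψ hψ μ).comp (Matrix.toLin' (P : Matrix (Fin n) (Fin n) F)) := by
  ext v
  rw [QuadraticMap.comp_apply, qfOf_apply, qfOf_apply, qfv_congT, Matrix.toLin'_apply]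

/-- the element of `GL` of a linear automorphism -/
noncomputable def glOf (g : (Fin n → F) ≃ₗ[F] (Fin n → F)) : GL (Fin n) F where
  val := LinearMap.toMatrix' (g : (Fin n → F) →ₗ[F] (Fin n → F))
  inv := LinearMap.toMatrix' (g.symm : (Fin n → F) →ₗ[F] (Fin n → F))
  val_inv := by
    rw [← LinearMap.toMatrix'_comp]
    have : (g : (Fin n → F) →ₗ[F] (Fin n → F)) ∘ₗ (g.symm : (Fin n → F) →ₗ[F] (Fin n → F)) =
        LinearMap.id := by
      ext x
      simp
    rw [this, LinearMap.toMatrix'_id]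
  inv_val := by
    rw [← LinearMap.toMatrix'_comp]
    have : (g.symm : (Fin n → F) →ₗ[F] (Fin n → F)) ∘ₗ (g : (Fin n → F) →ₗ[F] (Fin n → F)) =
        LinearMap.id := by
      ext x
      simp
    rw [this, LinearMap.toMatrix'_id]

theorem toLin'_glOf (g : (Fin n → F) ≃ₗ[F] (Fin n → F)) :
    Matrix.toLin' ((glOf g : GL (Fin n) F) : Matrix (Fin n) (Fin n) F) =
      (g : (Fin n → F) →ₗ[F] (Fin n → F)) := by
  show Matrix.toLin' (LinearMap.toMatrix' (g : (Fin n → F) →ₗ[F] (Fin n → F))) = _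
  rw [Matrix.toLin'_toMatrix']

/-- `X ↦ X + Xᵀ` -/
def symmz : Matrix (Fin n) (Fin n) F →+ symAdd n F where
  toFun X := ⟨X + Xᵀ, by
    rw [mem_symAdd]
    unfold Matrix.IsSymm
    rw [Matrix.transpose_add, Matrix.transpose_transpose, add_comm]⟩
  map_zero' := by
    apply Subtype.ext
    simp
  map_add' X Y := by
    apply Subtype.ext
    simp
    abel

theorem symmz_val (X : Matrix (Fin n) (Fin n) F) : (symmz X).1 = X + Xᵀ := rfl

theorem symmz_single (i j : Fin n) (t : F) :
    symmz (Matrix.single i j t) = crossH (Pi.single i 1) (Pi.single j 1) t := by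
  apply Subtype.ext
  rw [symmz_val, crossH_val]
  ext k l
  simp only [Matrix.add_apply, Matrix.transpose_apply, Matrix.smul_apply, vecMulVec_apply,
    Matrix.single_apply, Pi.single_apply, smul_eq_mul]
  by_cases h1 : i = k
  · subst h1
    by_cases h2 : j = l
    · subst h2
      by_cases h3 : i = j
      · subst h3; simp; ring
      · simp [h3, Ne.symm h3]
    · by_cases h3 : j = i
      · subst h3; simp [h2, Ne.symm h2]
      · simp [h2, h3, Ne.symm h2, Ne.symm h3]
  · by_cases h2 : j = k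
    · subst h2
      by_cases h3 : i = l
      · subst h3; simp [h1, Ne.symm h1]
      · simp [h1, h3, Ne.symm h1, Ne.symm h3]
    · simp [h1, h2, Ne.symm h1, Ne.symm h2]

theorem lam_symmz_eq_one (μ : AddChar (symAdd n F) ℂ)
    (h : ∀ (v w : Fin n → F) (t : F), μ (crossH v w t) = 1) (X : Matrix (Fin n) (Fin n) F) :
    μ (symmz X) = 1 := by
  classical
  let K : AddSubgroup (Matrix (Fin n) (Fin n) F) :=
    { carrier := {X | μ (symmz X) = 1}
      zero_mem' := by
        show μ (symmz 0) = 1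
        rw [map_zero, AddChar.map_zero_eq_one]
      add_mem' := by
        intro X Y hX hY
        show μ (symmz (X + Y)) = 1
        rw [map_add, AddChar.map_add_eq_mul, hX, hY, mul_one]
      neg_mem' := by
        intro X hX
        show μ (symmz (-X)) = 1
        have h1 : μ (symmz X) * μ (symmz (-X)) = 1 := by
          rw [← AddChar.map_add_eq_mul, ← map_add, add_neg_cancel, map_zero,
            AddChar.map_zero_eq_one]
        rw [hX, one_mul] at h1
        exact h1 }
  have hX : X ∈ K := by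
    rw [Matrix.matrix_eq_sum_single X]
    apply AddSubgroup.sum_mem
    intro i _
    apply AddSubgroup.sum_mem
    intro j _
    show μ (symmz (Matrix.single i j (X i j))) = 1
    rw [symmz_single]
    exact h _ _ _
  exact hX

end qf

theorem orbit_card_le_even {F : Type u} [Field F] [Fintype F] [CharP F 2] (n : ℕ)
    (lam : AddChar (symAdd n F) ℂ) (a0 : symAdd n F) (ha0 : ∀ i, a0.1 i i = 0) (h : lam a0 ≠ 1) :
    ∃ f : QuadraticForm F (Fin n → F), (∃ x y, QuadraticMap.polar f x y ≠ 0) ∧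
      Nat.card (Cfsg.Agent.Lib.Helper6.QFOrb.orb f) ≤
        Nat.card (Set.range fun P : GL (Fin n) F =>
          lam.compAddMonoidHom (congT P : symAdd n F ≃+ symAdd n F).toAddMonoidHom) := by
  classical
  obtain ⟨ψ, hψ⟩ := par_exists_psi (F := F)
  refine ⟨qfOf ψ hψ lam, ?_, ?_⟩
  · by_contra hcon
    push_neg at hcon
    have hpol : ∀ (v w : Fin n → F) (t : F), lam (crossH v w t) = 1 := by
      intro v w t
      have h1 : QuadraticMap.polar (qfv ψ hψ lam) v w = 0 := hcon v w
      rw [polar_qfv] at h1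
      rw [polv_spec ψ hψ, h1, zero_mul, AddChar.map_zero_eq_one]
    apply h
    have hU : a0 = symmz (Matrix.of fun i j : Fin n => if i < j then a0.1 i j else 0) := by
      apply Subtype.ext
      rw [symmz_val]
      ext k l
      rw [Matrix.add_apply, Matrix.transpose_apply, Matrix.of_apply, Matrix.of_apply]
      rcases lt_trichotomy k l with hkl | hkl | hkl
      · rw [if_pos hkl, if_neg (not_lt.2 hkl.le), add_zero]
      · subst hkl
        rw [if_neg (lt_irrefl _), add_zero, ha0]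
      · rw [if_neg (not_lt.2 hkl.le), if_pos hkl, zero_add]
        exact ((mem_symAdd.1 a0.2).apply k l).symm
    rw [hU]
    exact lam_symmz_eq_one lam hpol _
  · haveI : Finite (symAdd n F) := inferInstance
    haveI : Finite (AddChar (symAdd n F) ℂ) := by
      letI : Fintype (symAdd n F) := Fintype.ofFinite _
      infer_instance
    set f := qfOf ψ hψ lam with hf
    let φ : Cfsg.Agent.Lib.Helper6.QFOrb.orb f → (Set.range fun P : GL (Fin n) F =>
        lam.compAddMonoidHom (congT P : symAdd n F ≃+ symAdd n F).toAddMonoidHom) :=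
      fun f' => ⟨lam.compAddMonoidHom
        (congT (glOf (Classical.choose f'.2)) : symAdd n F ≃+ symAdd n F).toAddMonoidHom,
        ⟨_, rfl⟩⟩
    have hφ : ∀ f' : Cfsg.Agent.Lib.Helper6.QFOrb.orb f,
        qfOf ψ hψ ((φ f' : Set.range fun P : GL (Fin n) F =>
          lam.compAddMonoidHom (congT P : symAdd n F ≃+ symAdd n F).toAddMonoidHom) :
            AddChar (symAdd n F) ℂ) = f'.1 := by
      intro f'
      show qfOf ψ hψ (lam.compAddMonoidHom
        (congT (glOf (Classical.choose f'.2)) : symAdd n F ≃+ symAdd n F).toAddMonoidHom) = f'.1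
      rw [qfOf_congT, toLin'_glOf]
      exact (Classical.choose_spec f'.2).symm
    apply Nat.card_le_card_of_injective φ
    intro f₁ f₂ h12
    apply Subtype.ext
    rw [← hφ f₁, ← hφ f₂, h12]

end Cfsg.Agent.Lib.Helper6.Siegel
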