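import Mathlib
import Cfsg.Prelude.Def_Characters
import Cfsg.Agent.Lib.Helper1.SiegelWPk
import Cfsg.Agent.Lib.Helper7.SiegelK
import Cfsg.Agent.Lib.Helper7.SiegelParEven
import Cfsg.Agent.Lib.Helper6.QFOrb.Main

set_option autoImplicit false

/-! S2333: assembly of the Siegel route (wrapper PK-W by helper1, orbit bound by helper6,
PK-K and PK-PAR-even by helper7). -/

namespace Cfsg.Agent.Lib.Helper6.Siegel

open Cfsg Matrix Cfsg.Agent.H9SpF
open scoped ComplexConjugate

universe u

theorem asm_charP_two {F : Type u} [Field F] [Fintype F] (h : Even (Fintype.card F)) :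
    CharP F 2 := by
  obtain ⟨p, hp⟩ := CharP.exists F
  haveI := hp
  obtain ⟨k, hpr, hk⟩ := FiniteField.card F p
  have h2 : p = 2 := by
    rw [hk, Nat.even_pow] at h
    exact (Nat.Prime.even_iff hpr).1 h.1
  subst h2
  exact hp

theorem sp_even_min_degree {F : Type u} [Field F] [Fintype F] [DecidableEq F] (n : ℕ) (hn : 2 ≤ n)
    (heven : Even (Fintype.card F)) (hex : (n, Fintype.card F) ≠ (2, 2))
    (k : ℕ) (ρ : Representation ℂ (Matrix.symplecticGroup (Fin n) F) (Fin k → ℂ))
    (hρ : ρ.IsIrreducible) (hk : 2 ≤ k) :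
    (Fintype.card F ^ n - 1) * (Fintype.card F ^ n - Fintype.card F) /
      (2 * (Fintype.card F + 1)) ≤ k := by
  classical
  haveI : CharP F 2 := asm_charP_two heven
  letI : Fintype (Matrix.symplecticGroup (Fin n) F) := Fintype.ofFinite _
  letI : Fintype (symAdd n F) := Fintype.ofFinite _
  have h22 : n = 2 → 3 ≤ Fintype.card F := by
    intro h2
    have hq2 : Fintype.card F ≠ 2 := by
      intro hq
      exact hex (by rw [h2, hq])
    have hq1 : 1 < Fintype.card F := Fintype.one_lt_card
    omega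
  -- the alternating matrix `E₀₁ + E₁₀`
  set i0 : Fin n := ⟨0, by omega⟩ with hi0
  set i1 : Fin n := ⟨1, by omega⟩ with hi1
  have hne01 : i0 ≠ i1 := by
    intro h
    have := congrArg Fin.val h
    simp [hi0, hi1] at this
  set a0 : symAdd n F := symmz (Matrix.single i0 i1 (1 : F)) with ha0def
  have ha0d : ∀ i, a0.1 i i = 0 := by
    intro i
    rw [ha0def, symmz_val, Matrix.add_apply, Matrix.transpose_apply, Matrix.single_apply]
    have : ¬ (i0 = i ∧ i1 = i) := by
      rintro ⟨h1, h2⟩
      exact hne01 (h1.trans h2.symm)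
    rw [if_neg this, add_zero]
  have ha0ne : a0 ≠ 0 := by
    intro h
    have h1 : a0.1 i0 i1 = 0 := by rw [h]; rfl
    rw [ha0def, symmz_val, Matrix.add_apply, Matrix.transpose_apply, Matrix.single_apply,
      Matrix.single_apply, if_pos ⟨rfl, rfl⟩, if_neg (by rintro ⟨h2, -⟩; exact hne01 h2),
      add_zero] at h1
    exact one_ne_zero h1
  have hχ : IsCharacter (Matrix.symplecticGroup (Fin n) F) ρ.character := ⟨k, ρ, rfl⟩
  have h0 : ρ.character (siegHom a0) ≠ ρ.character 1 :=
    sieg_not_in_kernel n hn h22 k ρ hρ hk a0 ha0ne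
  obtain ⟨lam, hlam, hO⟩ := degree_ge_orbit hχ (siegHom (n := n) (F := F)) siegHom_add a0 h0
  obtain ⟨f, hf, hcard⟩ := orbit_card_le_even n lam a0 ha0d hlam
  -- the orbit of `lam` as a finset
  set R : Set (AddChar (symAdd n F) ℂ) := Set.range fun P : GL (Fin n) F =>
    lam.compAddMonoidHom (congT P : symAdd n F ≃+ symAdd n F).toAddMonoidHom with hR
  have hRfin : R.Finite := Set.toFinite R
  obtain ⟨k', hk', hle⟩ := hO hRfin.toFinset (by
    intro μ hμ
    rw [Set.Finite.mem_toFinset] at hμ
    obtain ⟨P, rfl⟩ := hμ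
    refine ⟨lev P, congT P, fun a => lev_conj_siegHom P a, fun a => ?_⟩
    rfl)
  have hχ1 : ρ.character 1 = (k : ℂ) := by
    rw [Representation.char_one]
    simp
  have hkk : k' = k := by
    have : (k' : ℂ) = (k : ℂ) := by rw [← hk', hχ1]
    exact_mod_cast this
  have hRcard : hRfin.toFinset.card = Nat.card R := by
    rw [Nat.card_eq_card_finite_toFinset hRfin]
  have hfin : Module.finrank F (Fin n → F) = n := by simp
  have hob := Cfsg.Agent.Lib.Helper6.QFOrb.orbit_bound f hf
  rw [hfin] at hob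
  have hfinal : (Fintype.card F ^ n - 1) * (Fintype.card F ^ n - Fintype.card F) ≤
      2 * (Fintype.card F + 1) * k := by
    calc _ ≤ 2 * (Fintype.card F + 1) * Nat.card (Cfsg.Agent.Lib.Helper6.QFOrb.orb f) := hob
      _ ≤ 2 * (Fintype.card F + 1) * k := by
          apply Nat.mul_le_mul_left
          calc Nat.card (Cfsg.Agent.Lib.Helper6.QFOrb.orb f) ≤ Nat.card R := hcard
            _ = hRfin.toFinset.card := hRcard.symm
            _ ≤ k' := hle
            _ = k := hkk
  apply Nat.div_le_of_le_mul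
  exact hfinal

end Cfsg.Agent.Lib.Helper6.Siegel
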