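import Mathlib
import Cfsg.Agent.Lib.Helper7.Sims3_17

/-! Sims' theorem (S3685), part 18: the abelian cases `k = 1` (`S₃`) and `k = 2` (`D₁₂`). -/

set_option autoImplicit false
set_option linter.style.haveILetI false
set_option linter.unusedSectionVars false
set_option linter.deprecated false

namespace Cfsg.Agent.Lib.Helper7.Sims3

/-- the map from the dihedral group of order 6 to the symmetric group on three letters -/
def dihPermThree : DihedralGroup 3 → Equiv.Perm (Fin 3)
  | DihedralGroup.r i => (finRotate 3) ^ i.val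
  | DihedralGroup.sr i => Equiv.swap 0 1 * (finRotate 3) ^ i.val

theorem dihPermThree_mul : ∀ a b : DihedralGroup 3,
    dihPermThree (a * b) = dihPermThree a * dihPermThree b := by
  decide

theorem dihPermThree_bij : Function.Bijective dihPermThree := by
  decide

theorem dihedral_three_iso : Nonempty (DihedralGroup 3 ≃* Equiv.Perm (Fin 3)) :=
  ⟨MulEquiv.ofBijective (MonoidHom.mk' dihPermThree dihPermThree_mul) dihPermThree_bij⟩

variable {G : Type*} [Group G] [Finite G] {x : ℤ → G} {h : G} {k ℓ : ℕ}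

theorem orderOf_two_of_sq {a : G} (ha : a * a = 1) (ha1 : a ≠ 1) : orderOf a = 2 := by
  haveI : Fact (Nat.Prime 2) := ⟨Nat.prime_two⟩
  exact orderOf_eq_prime (by rw [pow_two]; exact ha) ha1

/-- a subgroup generated by two involutions with product of order `n` and the right order is
dihedral -/
theorem iso_dihedral_of_card {P : Subgroup G} {a b : G} {n : ℕ} (ha : a * a = 1) (ha1 : a ≠ 1)
    (hb : b * b = 1) (hb1 : b ≠ 1) (haP : a ∈ P) (hbP : b ∈ P) (hn : orderOf (a * b) = n)
    (hP : Nat.card P = 2 * n) : Nonempty (↥P ≃* DihedralGroup n) := by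
  have hn0 : orderOf (a * b) ≠ 0 := (orderOf_pos (a * b)).ne'
  obtain ⟨e⟩ := Cfsg.Agent.Lib.Helper1.DihedralIso.closure_equiv_dihedral a b
    (orderOf_two_of_sq ha ha1) (orderOf_two_of_sq hb hb1) hn0
  rw [hn] at e
  have hle : Subgroup.closure ({a, b} : Set G) ≤ P := by
    rw [Subgroup.closure_le]
    intro y hy
    rcases hy with rfl | hy
    · exact haP
    · rw [Set.mem_singleton_iff] at hy
      rw [hy]; exact hbP
  have heq : Subgroup.closure ({a, b} : Set G) = P := by
    apply Subgroup.eq_of_le_of_card_ge hle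
    rw [hP, Nat.card_congr e.toEquiv, DihedralGroup.nat_card]
  exact ⟨(MulEquiv.subgroupCongr heq.symm).trans e⟩

namespace TS

/-- the case `k = 1`: `P ≅ S₃` -/
theorem iso_one (T : TS x h k) (hk : k = 1) :
    Nonempty (↥(Y x 0 k) ≃* Equiv.Perm (Fin 3)) := by
  have hkz : (k : ℤ) = 1 := by exact_mod_cast hk
  have hP : Nat.card (Y x 0 k) = 6 := by rw [T.cardP, hk]; norm_num
  have h0 : x 0 ∈ Y x 0 k := x_mem_Y x le_rfl (by omega)
  have h1 : x 1 ∈ Y x 0 k := x_mem_Y x (by norm_num) (by omega)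
  have hn0 : orderOf (x 0 * x 1) ≠ 0 := (orderOf_pos _).ne'
  obtain ⟨e⟩ := Cfsg.Agent.Lib.Helper1.DihedralIso.closure_equiv_dihedral (x 0) (x 1)
    (orderOf_two_of_sq (T.sq 0) (T.ne 0)) (orderOf_two_of_sq (T.sq 1) (T.ne 1)) hn0
  have heq : Subgroup.closure ({x 0, x 1} : Set G) = Y x 0 k := by
    apply le_antisymm
    · rw [Subgroup.closure_le]
      intro y hy
      rcases hy with rfl | hy
      · exact h0
      · rw [Set.mem_singleton_iff] at hy
        rw [hy]; exact h1
    · apply Y_le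
      intro i hi0 hi1
      have : i = 0 ∨ i = 1 := by omega
      rcases this with rfl | rfl
      · exact Subgroup.subset_closure (by simp)
      · exact Subgroup.subset_closure (by simp)
  have hn : orderOf (x 0 * x 1) = 3 := by
    have h2 := Nat.card_congr e.toEquiv
    rw [heq, hP, DihedralGroup.nat_card] at h2
    omega
  rw [hn] at e
  obtain ⟨e'⟩ := dihedral_three_iso
  exact ⟨((MulEquiv.subgroupCongr heq.symm).trans e).trans e'⟩

/-- the case `k = 2`: `P ≅ D₁₂` -/
theorem iso_two (T : TS x h k) (hk : k = 2) (hab : Ab x k) :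
    Nonempty (↥(Y x 0 k) ≃* DihedralGroup 6) := by
  have hkz : (k : ℤ) = 2 := by exact_mod_cast hk
  have hP : Nat.card (Y x 0 k) = 12 := by rw [T.cardP, hk]; norm_num
  have h0 : x 0 ∈ Y x 0 k := x_mem_Y x le_rfl (by omega)
  have h1 : x 1 ∈ Y x 0 k := x_mem_Y x (by norm_num) (by omega)
  have h2 : x 2 ∈ Y x 0 k := x_mem_Y x (by norm_num) (by omega)
  have c01 : Commute (x 0) (x 1) := T.comm_dist hab 0 1 (by omega) (by omega)
  have c12 : Commute (x 1) (x 2) := T.comm_dist hab 1 2 (by omega) (by omega)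
  have hn0 : orderOf (x 0 * x 2) ≠ 0 := (orderOf_pos _).ne'
  obtain ⟨e⟩ := Cfsg.Agent.Lib.Helper1.DihedralIso.closure_equiv_dihedral (x 0) (x 2)
    (orderOf_two_of_sq (T.sq 0) (T.ne 0)) (orderOf_two_of_sq (T.sq 2) (T.ne 2)) hn0
  have hle : Subgroup.closure ({x 0, x 2} : Set G) ≤ Y x 0 k := by
    rw [Subgroup.closure_le]
    intro y hy
    rcases hy with rfl | hy
    · exact h0
    · rw [Set.mem_singleton_iff] at hy
      rw [hy]; exact h2
  have hdvd : orderOf (x 0 * x 2) ∣ 6 := by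
    have h3 := Subgroup.card_dvd_of_le hle
    rw [hP, Nat.card_congr e.toEquiv, DihedralGroup.nat_card] at h3
    exact Nat.dvd_of_mul_dvd_mul_left (by norm_num : 0 < 2) h3
  have hnd : ¬ orderOf (x 0 * x 2) ∣ 2 := by
    intro hd
    have h3 : (x 0 * x 2) ^ 2 = 1 := orderOf_dvd_iff_pow_eq_one.1 hd
    have c02 : Commute (x 0) (x 2) := by
      have h4 : x 0 * x 2 * (x 0 * x 2) = 1 := by rw [← pow_two]; exact h3
      have h5 : x 0 * x 2 = (x 0 * x 2)⁻¹ := (inv_eq_of_mul_eq_one_right h4).symm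
      rw [mul_inv_rev, T.inv_eq, T.inv_eq] at h5
      exact h5
    have hab3 : Ab x 3 := by
      intro j hj1 hj2
      have : j = 1 ∨ j = 2 := by
        have : j ≤ 2 := by
          have : ((3 : ℕ) : ℤ) = 3 := by norm_num
          omega
        omega
      rcases this with rfl | rfl
      · exact c01
      · exact c02
    have hsq : ∀ g ∈ Y x 0 k, g * g = 1 := by
      intro g hg
      apply T.sq_of_mem hab3 (p := 0) (q := k) _ hg
      have : ((3 : ℕ) : ℤ) = 3 := by norm_num
      omega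
    haveI : Fact (Nat.Prime 3) := ⟨Nat.prime_three⟩
    obtain ⟨g, hg⟩ := exists_prime_orderOf_dvd_card' (G := ↥(Y x 0 k)) 3 (by rw [hP]; norm_num)
    have h6 : g * g = 1 := Subtype.ext (hsq g g.2)
    have h7 : orderOf g ∣ 2 := orderOf_dvd_of_pow_eq_one (by rw [pow_two]; exact h6)
    rw [hg] at h7
    exact absurd h7 (by norm_num)
  have hcases : orderOf (x 0 * x 2) = 3 ∨ orderOf (x 0 * x 2) = 6 := by
    have hle6 : orderOf (x 0 * x 2) ≤ 6 := Nat.le_of_dvd (by norm_num) hdvd
    have key : ∀ n : ℕ, n ≤ 6 → n ∣ 6 → ¬ n ∣ 2 → n = 3 ∨ n = 6 := by decide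
    exact key _ hle6 hdvd hnd
  rcases hcases with hn | hn
  · -- use `x 0` and `x 2 * x 1`
    have hy2 : (x 2 * x 1) * (x 2 * x 1) = 1 := by
      have : (x 2 * x 1) * (x 2 * x 1) = x 2 * (x 1 * x 2) * x 1 := by simp only [mul_assoc]
      rw [this, c12.eq, ← mul_assoc, T.sq, one_mul, T.sq]
    have hy1 : x 2 * x 1 ≠ 1 := by
      intro h3
      have h4 : x 2 = (x 1)⁻¹ := eq_inv_of_mul_eq_one_left h3
      rw [T.inv_eq] at h4
      apply T.not_mem_right (p := 1) (q := 2) (by norm_num) (by omega)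
      rw [h4]
      exact x_mem_Y x le_rfl (by norm_num)
    have hord : orderOf (x 0 * (x 2 * x 1)) = 6 := by
      have hc : Commute (x 0 * x 2) (x 1) := c01.mul_left c12.symm
      rw [← mul_assoc, hc.orderOf_mul_eq_mul_orderOf_of_coprime, hn,
        orderOf_two_of_sq (T.sq 1) (T.ne 1)]
      rw [hn, orderOf_two_of_sq (T.sq 1) (T.ne 1)]
      norm_num
    exact iso_dihedral_of_card (T.sq 0) (T.ne 0) hy2 hy1 h0 (mul_mem h2 h1) hord (by rw [hP])
  · exact iso_dihedral_of_card (T.sq 0) (T.ne 0) (T.sq 2) (T.ne 2) h0 h2 hn (by rw [hP])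

end TS

end Cfsg.Agent.Lib.Helper7.Sims3
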