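import Mathlib
import Cfsg.Agent.Lib.Helper7.Sims3_18

/-! Sims' theorem (S3685), part 19: the structure of the point stabiliser. -/

set_option autoImplicit false
set_option linter.style.haveILetI false
set_option linter.unusedSectionVars false
set_option linter.deprecated false

namespace Cfsg.Agent.Lib.Helper7.Sims3

variable {G : Type*} [Group G] [Finite G] {P B : Subgroup G} {g : G}

theorem Hyp.iso_cases (H : Hyp P B g) :
    Nonempty (↥P ≃* Multiplicative (ZMod 3)) ∨ Nonempty (↥P ≃* Equiv.Perm (Fin 3)) ∨
      Nonempty (↥P ≃* DihedralGroup 6) ∨ Nonempty (↥P ≃* Equiv.Perm (Fin 4)) ∨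
      Nonempty (↥P ≃* Equiv.Perm (Fin 4) × Multiplicative (ZMod 2)) := by
  rcases H.bot_or_setup with hB | ⟨h, S⟩
  · left
    apply iso_zmod_three
    rw [H.card_P, hB, Subgroup.card_bot]
  · obtain ⟨x, k, hk1, T, hP, -, -⟩ := S.exists_TS
    rw [← hP]
    rcases T.cases hk1 with ⟨hk2, hab⟩ | ⟨hk3, N⟩ | ⟨hk4, N⟩
    · have : k = 1 ∨ k = 2 := by omega
      rcases this with hk | hk
      · right; left
        exact T.iso_one hk
      · right; right; left
        exact T.iso_two hk hab
    · subst hk3
      right; right; right; left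
      exact T.iso_three N rfl rfl
    · subst hk4
      right; right; right; right
      exact T.iso_four N rfl rfl

end Cfsg.Agent.Lib.Helper7.Sims3
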