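import Mathlib

set_option autoImplicit false

/-!
# Soft subgroups of p-groups (Héthelyi), part 1: basics and the first normalizer step.
-/

namespace Cfsg.Agent.Lib.Helper7.Soft

open Subgroup

variable {P : Type*} [Group P]

/-- `E` is a soft subgroup: abelian, self-centralizing, of index `p` in its normalizer. -/
structure IsSoft (p : ℕ) (E : Subgroup P) : Prop where
  comm : ∀ a ∈ E, ∀ b ∈ E, a * b = b * a
  cent : Subgroup.centralizer (E : Set P) ≤ E
  idx : E.relIndex (Subgroup.normalizer (E : Set P)) = p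

/-- Nothing lies strictly between a subgroup and an overgroup of prime relative index. -/
theorem eq_of_relIndex_prime {p : ℕ} (hp : p.Prime) {E X N : Subgroup P} (hEX : E ≤ X)
    (hXN : X ≤ N) (h : E.relIndex N = p) : X = E ∨ X = N := by
  have h1 := Subgroup.relIndex_mul_relIndex E X N hEX hXN
  rw [h] at h1
  rcases (Nat.dvd_prime hp).mp (Dvd.intro _ h1) with h2 | h2
  · left; exact le_antisymm (Subgroup.relIndex_eq_one.mp h2) hEX
  · right
    rw [h2] at h1
    have h3 : X.relIndex N = 1 := by
      have := hp.pos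
      nlinarith
    exact le_antisymm hXN (Subgroup.relIndex_eq_one.mp h3)

/-- Normalizers grow in finite `p`-groups (relative form). -/
theorem exists_normalizer_mem {p : ℕ} [Fact p.Prime] [Finite P] (hP : IsPGroup p P)
    {D K : Subgroup P} (hDK : D < K) :
    ∃ x ∈ K, x ∈ Subgroup.normalizer (D : Set P) ∧ x ∉ D := by
  haveI : Group.IsNilpotent ↥K := (hP.to_subgroup K).isNilpotent
  have hnc := Group.normalizerCondition_of_isNilpotent (G := ↥K)
  have hlt : D.subgroupOf K < ⊤ := by
    rw [lt_top_iff_ne_top]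
    intro h
    rw [Subgroup.subgroupOf_eq_top] at h
    exact absurd h (not_le_of_gt hDK)
  have h2 := hnc (D.subgroupOf K) hlt
  rw [← Subgroup.subgroupOf_normalizer_eq hDK.le] at h2
  obtain ⟨x, hx1, hx2⟩ := SetLike.exists_of_lt h2
  exact ⟨x, x.2, Subgroup.mem_subgroupOf.mp hx1, fun h => hx2 (Subgroup.mem_subgroupOf.mpr h)⟩

theorem conj_mem_of_mem_normalizer {H : Subgroup P} {d x : P}
    (hd : d ∈ Subgroup.normalizer (H : Set P)) (hx : x ∈ H) : d * x * d⁻¹ ∈ H :=
  (Subgroup.mem_normalizer_iff.mp hd x).mp hx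

theorem conj_mem_of_mem_normalizer' {H : Subgroup P} {d x : P}
    (hd : d ∈ Subgroup.normalizer (H : Set P)) (hx : x ∈ H) : d⁻¹ * x * d ∈ H := by
  have := conj_mem_of_mem_normalizer (Subgroup.inv_mem _ hd) hx
  simpa using this

/-- the centralizer of `H` is invariant under the normalizer of `H`. -/
theorem conj_mem_centralizer {H : Subgroup P} {d z : P}
    (hd : d ∈ Subgroup.normalizer (H : Set P)) (hz : z ∈ Subgroup.centralizer (H : Set P)) :
    d * z * d⁻¹ ∈ Subgroup.centralizer (H : Set P) := by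
  rw [Subgroup.mem_centralizer_iff] at hz ⊢
  intro n hn
  have h1 := hz (d⁻¹ * n * d) (conj_mem_of_mem_normalizer' hd hn)
  calc n * (d * z * d⁻¹) = d * ((d⁻¹ * n * d) * z) * d⁻¹ := by group
    _ = d * (z * (d⁻¹ * n * d)) * d⁻¹ := by rw [h1]
    _ = d * z * d⁻¹ * n := by group

theorem conj_mem_centralizer' {H : Subgroup P} {d z : P}
    (hd : d ∈ Subgroup.normalizer (H : Set P)) (hz : z ∈ Subgroup.centralizer (H : Set P)) :
    d⁻¹ * z * d ∈ Subgroup.centralizer (H : Set P) := by
  have := conj_mem_centralizer (Subgroup.inv_mem _ hd) hz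
  simpa using this

theorem mem_normalizer_of_conj_mem [Finite P] {H : Subgroup P} {d : P}
    (h : ∀ x ∈ H, d * x * d⁻¹ ∈ H) : d ∈ Subgroup.normalizer (H : Set P) :=
  Subgroup.mem_normalizer_fintype (fun n hn => h n hn)

section soft

variable {p : ℕ} [hp : Fact p.Prime] [Finite P] {E : Subgroup P}

theorem IsSoft.le_cent (hE : IsSoft p E) : E ≤ Subgroup.centralizer (E : Set P) := by
  intro x hx
  rw [Subgroup.mem_centralizer_iff]
  intro y hy
  exact hE.comm y hy x hx

theorem IsSoft.lt_normalizer (hE : IsSoft p E) : E < Subgroup.normalizer (E : Set P) := by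
  refine lt_of_le_of_ne Subgroup.le_normalizer ?_
  intro h
  have h1 := hE.idx
  rw [← h, Subgroup.relIndex_self] at h1
  exact hp.out.one_lt.ne h1

/-- every proper overgroup of a soft subgroup contains its normalizer. -/
theorem IsSoft.normalizer_le (hP : IsPGroup p P) (hE : IsSoft p E) {K : Subgroup P} (hK : E < K) :
    Subgroup.normalizer (E : Set P) ≤ K := by
  obtain ⟨x, hxK, hxN, hxE⟩ := exists_normalizer_mem hP hK
  have h1 : E ≤ Subgroup.normalizer (E : Set P) ⊓ K := le_inf Subgroup.le_normalizer hK.le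
  rcases eq_of_relIndex_prime hp.out h1 inf_le_left hE.idx with h | h
  · exact absurd (h ▸ (Subgroup.mem_inf.mpr ⟨hxN, hxK⟩) : x ∈ E) hxE
  · rw [← h]; exact inf_le_right

theorem IsSoft.centralizer_normalizer_le (hE : IsSoft p E) :
    Subgroup.centralizer ((Subgroup.normalizer (E : Set P) : Subgroup P) : Set P) ≤ E :=
  le_trans (Subgroup.centralizer_le (Subgroup.le_normalizer)) hE.cent

end soft

end Cfsg.Agent.Lib.Helper7.Soft
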