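import Mathlib
import Cfsg.Agent.Lib.Helper7.Soft1

set_option autoImplicit false

/-!
# Soft subgroups, part 2: `|N(N(E)) : N(E)| = p`.
-/

namespace Cfsg.Agent.Lib.Helper7.Soft

open Subgroup
open scoped Pointwise

variable {P : Type*} [Group P] {p : ℕ} [hp : Fact p.Prime] [Finite P] {E : Subgroup P}

theorem conj_smul_eq_self {H : Subgroup P} {b : P} (hb : b ∈ Subgroup.normalizer (H : Set P)) :
    MulAut.conj b • H = H := by
  ext x
  rw [Subgroup.mem_pointwise_smul_iff_inv_smul_mem, MulAut.smul_def, ← map_inv, MulAut.conj_apply]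
  constructor
  · intro h
    have := conj_mem_of_mem_normalizer hb h
    simpa [mul_assoc] using this
  · intro h
    have := conj_mem_of_mem_normalizer' hb h
    simpa [mul_assoc] using this

theorem mem_conj_smul {H : Subgroup P} {b x : P} : x ∈ MulAut.conj b • H ↔ b⁻¹ * x * b ∈ H := by
  rw [Subgroup.mem_pointwise_smul_iff_inv_smul_mem, MulAut.smul_def, ← map_inv, MulAut.conj_apply]
  simp

/-- conjugates of `E` under `N(N(E))` lie in `N(E)`. -/
theorem IsSoft.conj_le {b : P}
    (hb : b ∈ Subgroup.normalizer ((Subgroup.normalizer (E : Set P) : Subgroup P) : Set P)) :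
    MulAut.conj b • E ≤ Subgroup.normalizer (E : Set P) := by
  intro x hx
  rw [mem_conj_smul] at hx
  have := conj_mem_of_mem_normalizer hb (Subgroup.le_normalizer hx)
  simpa [mul_assoc] using this

theorem IsSoft.conj_relIndex (hE : IsSoft p E) {b : P}
    (hb : b ∈ Subgroup.normalizer ((Subgroup.normalizer (E : Set P) : Subgroup P) : Set P)) :
    (MulAut.conj b • E).relIndex (Subgroup.normalizer (E : Set P)) = p := by
  have h := Subgroup.relIndex_pointwise_smul (MulAut.conj b) E (Subgroup.normalizer (E : Set P))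
  rw [conj_smul_eq_self hb, hE.idx] at h
  exact h

theorem IsSoft.conj_comm (hE : IsSoft p E) (b : P) :
    ∀ x ∈ MulAut.conj b • E, ∀ y ∈ MulAut.conj b • E, x * y = y * x := by
  intro x hx y hy
  rw [mem_conj_smul] at hx hy
  have h := hE.comm _ hx _ hy
  have h2 : b⁻¹ * (x * y) * b = b⁻¹ * (y * x) * b := by
    calc b⁻¹ * (x * y) * b = (b⁻¹ * x * b) * (b⁻¹ * y * b) := by group
      _ = (b⁻¹ * y * b) * (b⁻¹ * x * b) := h
      _ = b⁻¹ * (y * x) * b := by group
  exact mul_left_cancel (mul_right_cancel h2)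

omit hp in
theorem IsSoft.conj_ne {b : P} (hb : b ∉ Subgroup.normalizer (E : Set P)) :
    MulAut.conj b • E ≠ E := by
  intro h
  apply hb
  apply mem_normalizer_of_conj_mem
  intro x hx
  rw [← h, mem_conj_smul]
  simpa [mul_assoc] using hx

/-- two distinct conjugates of `E` inside `N(E)` generate `N(E)`. -/
theorem IsSoft.sup_conj (hE : IsSoft p E) {b : P}
    (hb : b ∈ Subgroup.normalizer ((Subgroup.normalizer (E : Set P) : Subgroup P) : Set P))
    (hne : MulAut.conj b • E ≠ E) :
    E ⊔ MulAut.conj b • E = Subgroup.normalizer (E : Set P) := by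
  rcases eq_of_relIndex_prime hp.out (le_sup_left : E ≤ E ⊔ MulAut.conj b • E)
    (sup_le Subgroup.le_normalizer (IsSoft.conj_le hb)) hE.idx with h | h
  · exfalso
    have h1 : MulAut.conj b • E ≤ E := le_sup_right.trans h.le
    have h2 := Subgroup.relIndex_mul_relIndex (MulAut.conj b • E) E
      (Subgroup.normalizer (E : Set P)) h1 Subgroup.le_normalizer
    rw [hE.idx, hE.conj_relIndex hb] at h2
    have h3 : (MulAut.conj b • E).relIndex E = 1 :=
      Nat.eq_of_mul_eq_mul_right hp.out.pos (by rw [one_mul]; exact h2)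
    exact hne (le_antisymm h1 (Subgroup.relIndex_eq_one.mp h3))
  · exact h

/-- the intersection of two distinct conjugates of `E` in `N(E)` centralizes `N(E)`. -/
theorem IsSoft.inf_conj_le (hE : IsSoft p E) {b : P}
    (hb : b ∈ Subgroup.normalizer ((Subgroup.normalizer (E : Set P) : Subgroup P) : Set P))
    (hne : MulAut.conj b • E ≠ E) :
    E ⊓ MulAut.conj b • E ≤
      Subgroup.centralizer ((Subgroup.normalizer (E : Set P) : Subgroup P) : Set P) := by
  intro x hx
  obtain ⟨hx1, hx2⟩ := Subgroup.mem_inf.mp hx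
  have h1 : E ≤ Subgroup.centralizer ({x} : Set P) := by
    intro y hy
    rw [Subgroup.mem_centralizer_iff]
    intro z hz
    rw [Set.mem_singleton_iff] at hz
    subst hz
    exact hE.comm _ hx1 _ hy
  have h2 : MulAut.conj b • E ≤ Subgroup.centralizer ({x} : Set P) := by
    intro y hy
    rw [Subgroup.mem_centralizer_iff]
    intro z hz
    rw [Set.mem_singleton_iff] at hz
    subst hz
    exact hE.conj_comm b _ hx2 _ hy
  have h3 : Subgroup.normalizer (E : Set P) ≤ Subgroup.centralizer ({x} : Set P) := by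
    rw [← hE.sup_conj hb hne]
    exact sup_le h1 h2
  rw [Subgroup.mem_centralizer_iff]
  intro n hn
  have := h3 hn
  rw [Subgroup.mem_centralizer_iff] at this
  exact (this x rfl).symm

theorem IsSoft.centralizer_le_conj (hE : IsSoft p E) {b : P}
    (hb : b ∈ Subgroup.normalizer ((Subgroup.normalizer (E : Set P) : Subgroup P) : Set P)) :
    Subgroup.centralizer ((Subgroup.normalizer (E : Set P) : Subgroup P) : Set P) ≤
      MulAut.conj b • E := by
  intro z hz
  rw [mem_conj_smul]
  exact hE.centralizer_normalizer_le (conj_mem_centralizer' hb hz)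

/-- `|N(E) : Z(N(E))| ≤ p²` when `N(E)` is not self-normalizing. -/
theorem IsSoft.relIndex_centralizer_le (hE : IsSoft p E) {b : P}
    (hb : b ∈ Subgroup.normalizer ((Subgroup.normalizer (E : Set P) : Subgroup P) : Set P))
    (hbN : b ∉ Subgroup.normalizer (E : Set P)) :
    (Subgroup.centralizer ((Subgroup.normalizer (E : Set P) : Subgroup P) : Set P)).relIndex
      (Subgroup.normalizer (E : Set P)) ≤ p * p := by
  have hne := IsSoft.conj_ne hbN
  have h1 : Subgroup.centralizer ((Subgroup.normalizer (E : Set P) : Subgroup P) : Set P) =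
      E ⊓ MulAut.conj b • E :=
    le_antisymm (le_inf hE.centralizer_normalizer_le (hE.centralizer_le_conj hb))
      (hE.inf_conj_le hb hne)
  rw [h1]
  have h2 := Subgroup.relIndex_inf_le (H := E) (K := MulAut.conj b • E)
    (L := Subgroup.normalizer (E : Set P))
  rwa [hE.idx, hE.conj_relIndex hb] at h2

/-- key step: an element of `N(N(E))` moving `e` only inside its coset mod `Z(N(E))` lies in `N(E)`. -/
theorem IsSoft.mem_normalizer_of_conj (hE : IsSoft p E) {e d : P} (he : e ∈ E)
    (heZ : e ∉ Subgroup.centralizer ((Subgroup.normalizer (E : Set P) : Subgroup P) : Set P))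
    (hd : d ∈ Subgroup.normalizer ((Subgroup.normalizer (E : Set P) : Subgroup P) : Set P))
    (h : e⁻¹ * (d * e * d⁻¹) ∈
      Subgroup.centralizer ((Subgroup.normalizer (E : Set P) : Subgroup P) : Set P)) :
    d ∈ Subgroup.normalizer (E : Set P) := by
  by_contra hdN
  have hne := IsSoft.conj_ne hdN
  have h1 : d * e * d⁻¹ ∈ E := by
    have := Subgroup.mul_mem _ he (hE.centralizer_normalizer_le h)
    simpa using this
  have h2 : d * e * d⁻¹ ∈ MulAut.conj d • E := by
    rw [mem_conj_smul]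
    simpa [mul_assoc] using he
  have h3 := hE.inf_conj_le hd hne (Subgroup.mem_inf.mpr ⟨h1, h2⟩)
  have h4 := conj_mem_centralizer' hd h3
  apply heZ
  simpa [mul_assoc] using h4

end Cfsg.Agent.Lib.Helper7.Soft

namespace Cfsg.Agent.Lib.Helper7.Soft

open Subgroup
open scoped Pointwise

variable {P : Type*} [Group P] {p : ℕ} [hp : Fact p.Prime] [Finite P] {E : Subgroup P}

/-- **Base step**: if `N(E) ≠ P` then `|N(N(E)) : N(E)| = p`. -/
theorem IsSoft.relIndex_normalizer_normalizer (hP : IsPGroup p P) (hE : IsSoft p E)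
    (hN : Subgroup.normalizer (E : Set P) ≠ ⊤) :
    (Subgroup.normalizer (E : Set P)).relIndex
      (Subgroup.normalizer ((Subgroup.normalizer (E : Set P) : Subgroup P) : Set P)) = p := by
  obtain ⟨a, -, haN₂, haN₁⟩ := exists_normalizer_mem hP (lt_top_iff_ne_top.mpr hN)
  have hZle := hE.relIndex_centralizer_le haN₂ haN₁
  have hex : ∃ e ∈ E, e ∉ Subgroup.centralizer
      ((Subgroup.normalizer (E : Set P) : Subgroup P) : Set P) := by
    by_contra hcon
    push_neg at hcon
    have h1 : E ≤ Subgroup.centralizer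
      ((Subgroup.normalizer (E : Set P) : Subgroup P) : Set P) := hcon
    have h2 : Subgroup.normalizer (E : Set P) ≤ Subgroup.centralizer (E : Set P) :=
      Subgroup.le_centralizer_iff.mp h1
    exact absurd (h2.trans hE.cent) (not_le_of_gt hE.lt_normalizer)
  obtain ⟨e, heE, heZ⟩ := hex
  set N₁ := Subgroup.normalizer (E : Set P) with hN₁
  set N₂ := Subgroup.normalizer (N₁ : Set P) with hN₂
  set Z₁ := Subgroup.centralizer (N₁ : Set P) with hZ₁
  let f : ↥N₂ → ↥N₁ ⧸ (Z₁.subgroupOf N₁) := fun d =>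
    QuotientGroup.mk ⟨(d : P) * e * (d : P)⁻¹,
      conj_mem_of_mem_normalizer d.2 (Subgroup.le_normalizer heE)⟩
  have hf : ∀ d c : ↥N₂, f d = f c → (d⁻¹ * c : ↥N₂) ∈ N₁.subgroupOf N₂ := by
    intro d c hdc
    rw [QuotientGroup.eq, Subgroup.mem_subgroupOf] at hdc
    have h1 : ((d : P) * e * (d : P)⁻¹)⁻¹ * ((c : P) * e * (c : P)⁻¹) ∈ Z₁ := by
      simpa using hdc
    have h2 := conj_mem_centralizer' d.2 h1
    rw [Subgroup.mem_subgroupOf]
    apply hE.mem_normalizer_of_conj heE heZ
      (Subgroup.mul_mem _ (Subgroup.inv_mem _ d.2) c.2)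
    convert h2 using 1
    push_cast
    group
  have hf1 : ∀ d : ↥N₂, f d ≠ ((1 : ↥N₁) : ↥N₁ ⧸ (Z₁.subgroupOf N₁)) := by
    intro d hd
    rw [eq_comm, QuotientGroup.eq, Subgroup.mem_subgroupOf] at hd
    have h1 : (d : P) * e * (d : P)⁻¹ ∈ Z₁ := by simpa using hd
    have h2 := conj_mem_centralizer' d.2 h1
    apply heZ
    simpa [mul_assoc] using h2
  let g : ↥N₂ ⧸ (N₁.subgroupOf N₂) → ↥N₁ ⧸ (Z₁.subgroupOf N₁) := fun r => f (Quotient.out r)
  have hg : Function.Injective g := by
    intro r s hrs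
    have h1 := hf _ _ hrs
    have h2 : (QuotientGroup.mk (Quotient.out r) : ↥N₂ ⧸ (N₁.subgroupOf N₂)) =
        QuotientGroup.mk (Quotient.out s) := QuotientGroup.eq.mpr h1
    have h3 : (QuotientGroup.mk (Quotient.out r) : ↥N₂ ⧸ (N₁.subgroupOf N₂)) = r :=
      Quotient.out_eq' r
    have h4 : (QuotientGroup.mk (Quotient.out s) : ↥N₂ ⧸ (N₁.subgroupOf N₂)) = s :=
      Quotient.out_eq' s
    rw [← h3, ← h4, h2]
  have hg1 : ((1 : ↥N₁) : ↥N₁ ⧸ (Z₁.subgroupOf N₁)) ∉ Set.range g := by
    rintro ⟨r, hr⟩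
    exact hf1 _ hr
  have hlt : N₁.relIndex N₂ < Z₁.relIndex N₁ := by
    unfold Subgroup.relIndex
    rw [Subgroup.index_eq_card, Subgroup.index_eq_card]
    haveI : Fintype (↥N₂ ⧸ (N₁.subgroupOf N₂)) := Fintype.ofFinite _
    haveI : Fintype (↥N₁ ⧸ (Z₁.subgroupOf N₁)) := Fintype.ofFinite _
    rw [Nat.card_eq_fintype_card, Nat.card_eq_fintype_card]
    exact Fintype.card_lt_of_injective_of_notMem g hg hg1
  obtain ⟨s, hs⟩ := (hP.to_subgroup N₂).index (N₁.subgroupOf N₂)
  have hs' : N₁.relIndex N₂ = p ^ s := hs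
  have hne1 : N₁.relIndex N₂ ≠ 1 := by
    intro h
    exact haN₁ (Subgroup.relIndex_eq_one.mp h haN₂)
  have hlt2 : p ^ s < p ^ 2 := by
    rw [← hs', pow_two]
    exact lt_of_lt_of_le hlt hZle
  have hs2 : s < 2 := (Nat.pow_lt_pow_iff_right hp.out.one_lt).mp hlt2
  have hs0 : s ≠ 0 := by
    intro h
    rw [h, pow_zero] at hs'
    exact hne1 hs'
  have hs1 : s = 1 := by omega
  rw [hs', hs1, pow_one]

end Cfsg.Agent.Lib.Helper7.Soft
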