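import Mathlib
import Cfsg.Agent.Lib.Helper7.Soft2

set_option autoImplicit false

/-!
# Soft subgroups, part 3: the quotient by the core, and the normalizer tower.
-/

namespace Cfsg.Agent.Lib.Helper7.Soft

open Subgroup
open scoped Pointwise

universe u

section general

variable {G H : Type*} [Group G] [Group H]

theorem relIndex_normalizer_map (π : G →* H) (hπ : Function.Surjective π) (K : Subgroup G)
    (hK : π.ker ≤ K) :
    (K.map π).relIndex (Subgroup.normalizer ((K.map π : Subgroup H) : Set H)) =
      K.relIndex (Subgroup.normalizer (K : Set G)) := by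
  have h1 : (K.map π).comap π = K := Subgroup.comap_map_eq_self hK
  have h2 := Subgroup.comap_normalizer_eq_of_surjective (K.map π) hπ
  have h3 := Subgroup.relIndex_comap (K.map π) π
    ((Subgroup.normalizer ((K.map π : Subgroup H) : Set H)).comap π)
  rw [Subgroup.map_comap_eq_self_of_surjective hπ, h2, h1] at h3
  exact h3.symm

end general

variable {P : Type u} [Group P] {p : ℕ} [hp : Fact p.Prime] [Finite P] {E : Subgroup P}

theorem IsSoft.ne_top (hE : IsSoft p E) : E ≠ ⊤ := by
  intro h
  have := hE.lt_normalizer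
  rw [h] at this
  exact absurd le_top (not_le_of_gt this)

omit hp [Finite P] in
theorem IsSoft.center_le_core (hE : IsSoft p E) : Subgroup.center P ≤ E.normalCore :=
  Subgroup.normal_le_normalCore.mpr ((Subgroup.center_le_centralizer _).trans hE.cent)

theorem IsSoft.card_quotient_lt (hP : IsPGroup p P) (hE : IsSoft p E) :
    Nat.card (P ⧸ E.normalCore) < Nat.card P := by
  haveI : Nontrivial P := by
    obtain ⟨x, -, hx⟩ := SetLike.exists_of_lt (lt_top_iff_ne_top.mpr hE.ne_top)
    exact ⟨⟨x, 1, fun h => hx (h ▸ E.one_mem)⟩⟩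
  haveI := hP.center_nontrivial
  have h1 : Subgroup.center P ≠ ⊥ := by
    intro h
    obtain ⟨x, hx, hx1⟩ := (Subgroup.nontrivial_iff_exists_ne_one _).mp
      (inferInstance : Nontrivial ↥(Subgroup.center P))
    rw [h, Subgroup.mem_bot] at hx
    exact hx1 hx
  have h2 : E.normalCore ≠ ⊥ := by
    intro h
    apply h1
    rw [eq_bot_iff, ← h]
    exact hE.center_le_core
  have h3 := (Subgroup.one_lt_card_iff_ne_bot E.normalCore).mpr h2
  have h4 := Subgroup.card_eq_card_quotient_mul_card_subgroup E.normalCore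
  have h5 : 0 < Nat.card (P ⧸ E.normalCore) := Nat.card_pos
  rw [h4]
  nlinarith

variable {Q : Type*} [Group Q]

/-- modulo the core of `E`, the normalizer `N(E)` becomes abelian. -/
theorem IsSoft.comm_mod_core (hP : IsPGroup p P) (hE : IsSoft p E) (π : P →* Q)
    (hπ : Function.Surjective π) (hkerπ : π.ker = E.normalCore) :
    ∀ a ∈ Subgroup.normalizer (E : Set P), ∀ b ∈ Subgroup.normalizer (E : Set P),
      π a * π b = π b * π a := by
  have hZE : π.ker ≤ E := hkerπ ▸ Subgroup.normalCore_le E
  have hker : ∀ y : P, π y = 1 ↔ y ∈ π.ker := fun y => (MonoidHom.mem_ker).symm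
  haveI : Finite Q := Finite.of_surjective π hπ
  haveI : Nontrivial Q := by
    by_contra hnon
    rw [not_nontrivial_iff_subsingleton] at hnon
    apply hE.ne_top
    rw [eq_top_iff]
    intro y _
    exact hZE ((hker y).mp (Subsingleton.elim _ _))
  have hPQ : IsPGroup p Q := hP.of_surjective π hπ
  haveI := hPQ.center_nontrivial
  obtain ⟨xb, hxb, hxb1⟩ := (Subgroup.nontrivial_iff_exists_ne_one _).mp
    (inferInstance : Nontrivial ↥(Subgroup.center Q))
  obtain ⟨x, rfl⟩ := hπ xb
  rw [Subgroup.mem_center_iff] at hxb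
  -- x normalizes E
  have hcomm_mem : ∀ g : P, x * g * x⁻¹ * g⁻¹ ∈ π.ker := by
    intro g
    rw [← hker]
    have := hxb (π g)
    simp only [map_mul, map_inv]
    rw [← this]
    group
  have hxN : x ∈ Subgroup.normalizer (E : Set P) := by
    apply mem_normalizer_of_conj_mem
    intro e he
    have := Subgroup.mul_mem _ (hZE (hcomm_mem e)) he
    simpa using this
  -- x is not in E
  have hxE : x ∉ E := by
    intro hxE
    have hnorm : (Subgroup.zpowers (π x)).Normal := by
      refine ⟨fun n hn g => ?_⟩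
      obtain ⟨k, rfl⟩ := Subgroup.mem_zpowers_iff.mp hn
      have h1 : g * (π x) ^ k = (π x) ^ k * g := by
        have : Commute g (π x) := hxb g
        exact (this.zpow_right k).eq
      rw [h1]
      simp
    have hY : (Subgroup.zpowers (π x)).comap π ≤ E := by
      intro y hy
      rw [Subgroup.mem_comap, Subgroup.mem_zpowers_iff] at hy
      obtain ⟨k, hk⟩ := hy
      have h1 : (x ^ k)⁻¹ * y ∈ π.ker := by
        rw [← hker]
        simp only [map_mul, map_inv, map_zpow]
        rw [hk]
        group
      have := Subgroup.mul_mem _ (Subgroup.zpow_mem _ hxE k) (hZE h1)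
      simpa using this
    haveI := hnorm.comap π
    have hYZ := Subgroup.normal_le_normalCore.mpr hY
    have : x ∈ (Subgroup.zpowers (π x)).comap π := by
      rw [Subgroup.mem_comap]
      exact Subgroup.mem_zpowers _
    rw [← hkerπ] at hYZ
    exact hxb1 ((hker x).mpr (hYZ this))
  -- N₁ = E ⊔ ⟨x⟩
  have hsup : E ⊔ Subgroup.zpowers x = Subgroup.normalizer (E : Set P) := by
    rcases eq_of_relIndex_prime hp.out (le_sup_left : E ≤ E ⊔ Subgroup.zpowers x)
      (sup_le Subgroup.le_normalizer (Subgroup.zpowers_le.mpr hxN)) hE.idx with h | h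
    · exfalso
      apply hxE
      have h2 : Subgroup.zpowers x ≤ E := le_sup_right.trans h.le
      exact h2 (Subgroup.mem_zpowers x)
    · exact h
  -- every element of N₁ commutes mod Z with every element of E
  have hC1 : Subgroup.normalizer (E : Set P) ≤
      (Subgroup.centralizer ((E.map π : Subgroup Q) : Set Q)).comap π := by
    rw [← hsup]
    apply sup_le
    · intro e he
      rw [Subgroup.mem_comap, Subgroup.mem_centralizer_iff]
      rintro _ ⟨e', he', rfl⟩
      rw [← map_mul, ← map_mul, hE.comm e' he' e he]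
    · rw [Subgroup.zpowers_le, Subgroup.mem_comap, Subgroup.mem_centralizer_iff]
      intro y _
      exact hxb y
  have hC2 : Subgroup.normalizer (E : Set P) ≤
      (Subgroup.centralizer
        (((Subgroup.normalizer (E : Set P)).map π : Subgroup Q) : Set Q)).comap π := by
    rw [← hsup]
    apply sup_le
    · intro e he
      rw [Subgroup.mem_comap, Subgroup.mem_centralizer_iff]
      rintro _ ⟨n, hn, rfl⟩
      rw [hsup] at hn
      have := hC1 hn
      rw [Subgroup.mem_comap, Subgroup.mem_centralizer_iff] at this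
      exact (this (π e) ⟨e, he, rfl⟩).symm
    · rw [Subgroup.zpowers_le, Subgroup.mem_comap, Subgroup.mem_centralizer_iff]
      intro y _
      exact hxb y
  intro a ha b hb
  have := hC2 ha
  rw [Subgroup.mem_comap, Subgroup.mem_centralizer_iff] at this
  exact (this (π b) ⟨b, hb, rfl⟩).symm

/-- modulo the core of `E`, the image of `N(E)` is again soft (if `N(E) ≠ P`). -/
theorem IsSoft.map_normalizer (hP : IsPGroup p P) (hE : IsSoft p E) (π : P →* Q)
    (hπ : Function.Surjective π) (hkerπ : π.ker = E.normalCore)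
    (hN : Subgroup.normalizer (E : Set P) ≠ ⊤) :
    IsSoft p ((Subgroup.normalizer (E : Set P)).map π) := by
  have hZE : π.ker ≤ E := hkerπ ▸ Subgroup.normalCore_le E
  refine ⟨?_, ?_, ?_⟩
  · rintro _ ⟨a, ha, rfl⟩ _ ⟨b, hb, rfl⟩
    exact hE.comm_mod_core hP π hπ hkerπ a ha b hb
  · intro yb hyb
    obtain ⟨y, rfl⟩ := hπ yb
    refine ⟨y, ?_, rfl⟩
    apply mem_normalizer_of_conj_mem
    intro e he
    rw [Subgroup.mem_centralizer_iff] at hyb
    have h1 := hyb (π e) ⟨e, Subgroup.le_normalizer he, rfl⟩
    have h2 : y * e * y⁻¹ * e⁻¹ ∈ π.ker := by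
      rw [MonoidHom.mem_ker]
      simp only [map_mul, map_inv]
      rw [← h1]
      group
    have := Subgroup.mul_mem _ (hZE h2) he
    simpa using this
  · rw [relIndex_normalizer_map π hπ _ (hZE.trans Subgroup.le_normalizer)]
    exact hE.relIndex_normalizer_normalizer hP hN

/-- **Normalizer tower**: every proper overgroup of a soft subgroup has index `p` in its
normalizer (induction form). -/
theorem IsSoft.relIndex_normalizer_aux : ∀ (n : ℕ) (P : Type u) [Group P] [Finite P] (p : ℕ)
    [Fact p.Prime], Nat.card P = n → IsPGroup p P → ∀ E : Subgroup P, IsSoft p E →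
    ∀ K : Subgroup P, E ≤ K → K ≠ ⊤ → K.relIndex (Subgroup.normalizer (K : Set P)) = p := by
  intro n
  induction n using Nat.strong_induction_on with
  | _ n ih =>
    intro P _ _ p _ hcard hP E hE K hEK hK
    by_cases hKE : K = E
    · rw [hKE]; exact hE.idx
    have hlt : E < K := lt_of_le_of_ne hEK (Ne.symm hKE)
    have hN1K := hE.normalizer_le hP hlt
    have hN1 : Subgroup.normalizer (E : Set P) ≠ ⊤ := fun h => hK (top_le_iff.mp (h ▸ hN1K))
    have hπ := QuotientGroup.mk'_surjective E.normalCore
    have hker : (QuotientGroup.mk' E.normalCore).ker = E.normalCore := QuotientGroup.ker_mk' _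
    have hsoft := hE.map_normalizer hP (QuotientGroup.mk' E.normalCore) hπ hker hN1
    have hkK : (QuotientGroup.mk' E.normalCore).ker ≤ K := by
      rw [hker]
      exact (Subgroup.normalCore_le E).trans hEK
    have hKtop : K.map (QuotientGroup.mk' E.normalCore) ≠ ⊤ := by
      intro h
      apply hK
      have h1 := Subgroup.comap_map_eq_self hkK
      rw [← h1, h, Subgroup.comap_top]
    have h2 := ih _ (hcard ▸ hE.card_quotient_lt hP) (P ⧸ E.normalCore) p rfl
      (hP.to_quotient _) _ hsoft (K.map (QuotientGroup.mk' E.normalCore))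
      (Subgroup.map_mono hN1K) hKtop
    rw [relIndex_normalizer_map _ hπ K hkK] at h2
    exact h2

theorem IsSoft.relIndex_normalizer (hP : IsPGroup p P) (hE : IsSoft p E) {K : Subgroup P}
    (hEK : E ≤ K) (hK : K ≠ ⊤) : K.relIndex (Subgroup.normalizer (K : Set P)) = p :=
  IsSoft.relIndex_normalizer_aux _ P p rfl hP E hE K hEK hK

/-- **Chain property**: the overgroups of a soft subgroup are totally ordered. -/
theorem IsSoft.le_total (hP : IsPGroup p P) (hE : IsSoft p E) {K L : Subgroup P}
    (hEK : E ≤ K) (hEL : E ≤ L) : K ≤ L ∨ L ≤ K := by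
  by_contra hcon
  push_neg at hcon
  obtain ⟨h1, h2⟩ := hcon
  have hDK : K ⊓ L < K := lt_of_le_of_ne inf_le_left (fun h => h1 (inf_eq_left.mp h))
  have hDL : K ⊓ L < L := lt_of_le_of_ne inf_le_right (fun h => h2 (inf_eq_right.mp h))
  have hD : K ⊓ L ≠ ⊤ := fun h => by
    rw [h] at hDK
    exact absurd le_top (not_le_of_gt hDK)
  have hidx := hE.relIndex_normalizer hP (le_inf hEK hEL) hD
  obtain ⟨x, hxK, hxN, hxD⟩ := exists_normalizer_mem hP hDK
  obtain ⟨y, hyL, hyN, hyD⟩ := exists_normalizer_mem hP hDL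
  have hNK : Subgroup.normalizer ((K ⊓ L : Subgroup P) : Set P) ≤ K := by
    rcases eq_of_relIndex_prime hp.out
      (le_inf Subgroup.le_normalizer inf_le_left :
        K ⊓ L ≤ Subgroup.normalizer ((K ⊓ L : Subgroup P) : Set P) ⊓ K)
      inf_le_left hidx with h | h
    · exact absurd (h ▸ (Subgroup.mem_inf.mpr ⟨hxN, hxK⟩) : x ∈ K ⊓ L) hxD
    · rw [← h]; exact inf_le_right
  have hNL : Subgroup.normalizer ((K ⊓ L : Subgroup P) : Set P) ≤ L := by
    rcases eq_of_relIndex_prime hp.out
      (le_inf Subgroup.le_normalizer inf_le_right :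
        K ⊓ L ≤ Subgroup.normalizer ((K ⊓ L : Subgroup P) : Set P) ⊓ L)
      inf_le_left hidx with h | h
    · exact absurd (h ▸ (Subgroup.mem_inf.mpr ⟨hyN, hyL⟩) : y ∈ K ⊓ L) hyD
    · rw [← h]; exact inf_le_right
  exact hxD (Subgroup.mem_inf.mpr ⟨hNK hxN, hNL hxN⟩)

end Cfsg.Agent.Lib.Helper7.Soft
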