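import Mathlib
import Cfsg.Agent.Lib.Helper7.Soft3

set_option autoImplicit false

/-!
# Soft subgroups, part 4: the nilpotency class of the maximal overgroup.
-/

namespace Cfsg.Agent.Lib.Helper7.Soft

open Subgroup
open scoped Pointwise

universe u

variable {P : Type u} [Group P] {p : ℕ} [hp : Fact p.Prime] [Finite P] {E : Subgroup P}

/-- a normal overgroup of a soft subgroup is everything or of index `p`. -/
theorem IsSoft.index_of_normal (hP : IsPGroup p P) (hE : IsSoft p E) {R : Subgroup P}
    [hR : R.Normal] (hER : E ≤ R) (hRtop : R ≠ ⊤) : R.index = p := by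
  have h := hE.relIndex_normalizer hP hER hRtop
  rwa [Subgroup.normalizer_eq_top, Subgroup.relIndex_top_right] at h

/-- two overgroups of the same prime index coincide. -/
theorem IsSoft.eq_of_index (hP : IsPGroup p P) (hE : IsSoft p E) {M R : Subgroup P}
    (hEM : E ≤ M) (hER : E ≤ R) (hM : M.index = p) (hR : R.index = p) : M = R := by
  rcases hE.le_total hP hEM hER with h | h
  · have h1 := Subgroup.relIndex_mul_index h
    rw [hM, hR] at h1
    have h2 : M.relIndex R = 1 := Nat.eq_of_mul_eq_mul_right hp.out.pos (by rw [one_mul]; exact h1)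
    exact le_antisymm h (Subgroup.relIndex_eq_one.mp h2)
  · have h1 := Subgroup.relIndex_mul_index h
    rw [hM, hR] at h1
    have h2 : R.relIndex M = 1 := Nat.eq_of_mul_eq_mul_right hp.out.pos (by rw [one_mul]; exact h1)
    exact le_antisymm (Subgroup.relIndex_eq_one.mp h2) h

/-- an overgroup of index `p` is normal. -/
theorem IsSoft.normal_of_index (hP : IsPGroup p P) (hE : IsSoft p E) {M : Subgroup P}
    (hEM : E ≤ M) (hM : M.index = p) : M.Normal := by
  have hMtop : M ≠ ⊤ := by
    intro h
    rw [h, Subgroup.index_top] at hM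
    exact hp.out.one_lt.ne hM
  have h := hE.relIndex_normalizer hP hEM hMtop
  have h1 := Subgroup.relIndex_mul_index (Subgroup.le_normalizer (H := M))
  rw [h, hM] at h1
  have h2 : (Subgroup.normalizer (M : Set P)).index = 1 := by
    have := hp.out.pos
    nlinarith
  exact Subgroup.normalizer_eq_top_iff.mp (Subgroup.index_eq_one.mp h2)

/-- the core of `E` is the centre of the maximal overgroup `M`. -/
theorem IsSoft.core_eq (hP : IsPGroup p P) (hE : IsSoft p E) {M : Subgroup P}
    (hEM : E ≤ M) (hM : M.index = p) :
    E.normalCore = Subgroup.centralizer (M : Set P) ⊓ M := by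
  haveI := hE.normal_of_index hP hEM hM
  apply le_antisymm
  · refine le_inf ?_ ((Subgroup.normalCore_le E).trans hEM)
    rw [Subgroup.le_centralizer_iff]
    have hER : E ≤ Subgroup.centralizer ((E.normalCore : Subgroup P) : Set P) := by
      intro e he
      rw [Subgroup.mem_centralizer_iff]
      intro z hz
      exact hE.comm z (Subgroup.normalCore_le E hz) e he
    by_cases hR : Subgroup.centralizer ((E.normalCore : Subgroup P) : Set P) = ⊤
    · rw [hR]; exact le_top
    · have h1 := hE.index_of_normal hP hER hR
      exact (hE.eq_of_index hP hEM hER hM h1).le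
  · haveI : (Subgroup.centralizer (M : Set P) ⊓ M).Normal := Subgroup.normal_inf_normal _ _
    rw [Subgroup.normal_le_normalCore]
    exact inf_le_left.trans ((Subgroup.centralizer_le hEM).trans hE.cent)

variable {Q : Type*} [Group Q]

/-- inductive step for the class: pass to the quotient by the core. -/
theorem IsSoft.class_step (hP : IsPGroup p P) (hE : IsSoft p E) {M : Subgroup P}
    (hEM : E ≤ M) (hM : M.index = p) (π : P →* Q) (hkerπ : π.ker = E.normalCore)
    (k : ℕ) (hk : 2 ≤ k) [Group.IsNilpotent ↥M] [Group.IsNilpotent ↥(M.map π)]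
    (hcl : Group.nilpotencyClass ↥(M.map π) = k - 1) : Group.nilpotencyClass ↥M = k := by
  have hcore := hE.core_eq hP hEM hM
  have hfs := MonoidHom.subgroupMap_surjective π M
  have hker : (π.subgroupMap M).ker = Subgroup.center ↥M := by
    ext m
    rw [MonoidHom.mem_ker, Subgroup.mem_center_iff]
    have h1 : (π.subgroupMap M) m = 1 ↔ (m : P) ∈ π.ker := by
      rw [MonoidHom.mem_ker, ← MonoidHom.subgroupMap_apply_coe π M m]
      exact ⟨fun h => by rw [h]; rfl, fun h => Subtype.ext h⟩
    rw [h1, hkerπ, hcore, Subgroup.mem_inf, Subgroup.mem_centralizer_iff]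
    constructor
    · rintro ⟨h2, -⟩ g
      exact Subtype.ext (h2 g g.2)
    · intro h2
      refine ⟨fun g hg => ?_, m.2⟩
      have := h2 ⟨g, hg⟩
      exact congrArg Subtype.val this
  have hupper := Group.nilpotencyClass_le_of_ker_le_center (π.subgroupMap M) hker.le
  have hlift := QuotientGroup.lift_surjective_of_surjective (Subgroup.center ↥M)
    (π.subgroupMap M) hfs hker.ge
  have hlower := Group.nilpotencyClass_le_of_surjective _ hlift
  rw [Group.nilpotencyClass_quotient_center] at hlower
  rw [hcl] at hupper hlower
  omega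

/-- **Class of the maximal overgroup** (induction form). -/
theorem IsSoft.class_aux : ∀ (n : ℕ) (P : Type u) [Group P] [Finite P] (p : ℕ) [Fact p.Prime],
    Nat.card P = n → IsPGroup p P → ∀ E : Subgroup P, IsSoft p E → ∀ M : Subgroup P, E ≤ M →
    M.index = p → ∀ k : ℕ, 2 ≤ k → E.index = p ^ k → ∀ [Group.IsNilpotent ↥M],
    Group.nilpotencyClass ↥M = k := by
  intro n
  induction n using Nat.strong_induction_on with
  | _ n ih =>
    intro P _ _ p hpF hcard hP E hE M hEM hM k hk hEk _
    have hp := hpF.out
    have hlt : E < M := by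
      refine lt_of_le_of_ne hEM ?_
      intro h
      rw [h, hM] at hEk
      have h1 : p ^ 1 = p ^ k := by rw [pow_one]; exact hEk
      have := Nat.pow_right_injective hp.two_le h1
      omega
    have hN1M := hE.normalizer_le hP hlt
    have hMtop : M ≠ ⊤ := by
      intro h
      rw [h, Subgroup.index_top] at hM
      exact hp.one_lt.ne hM
    have hN1 : Subgroup.normalizer (E : Set P) ≠ ⊤ := fun h => hMtop (top_le_iff.mp (h ▸ hN1M))
    have hN1idx : (Subgroup.normalizer (E : Set P)).index = p ^ (k - 1) := by
      have h1 := Subgroup.relIndex_mul_index (Subgroup.le_normalizer (H := E))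
      rw [hE.idx, hEk] at h1
      have h2 : p ^ k = p * p ^ (k - 1) := by
        rw [← pow_succ']
        congr 1
        omega
      rw [h2] at h1
      exact Nat.eq_of_mul_eq_mul_left hp.pos h1
    have hπ := QuotientGroup.mk'_surjective E.normalCore
    have hker : (QuotientGroup.mk' E.normalCore).ker = E.normalCore := QuotientGroup.ker_mk' _
    have hsoft := hE.map_normalizer hP (QuotientGroup.mk' E.normalCore) hπ hker hN1
    have hkE : (QuotientGroup.mk' E.normalCore).ker ≤ E := by
      rw [hker]
      exact Subgroup.normalCore_le E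
    have hPQ : IsPGroup p (P ⧸ E.normalCore) := hP.to_quotient _
    haveI : Group.IsNilpotent ↥(M.map (QuotientGroup.mk' E.normalCore)) :=
      (hPQ.to_subgroup _).isNilpotent
    have hMbar : (M.map (QuotientGroup.mk' E.normalCore)).index = p := by
      rw [Subgroup.index_map_eq M hπ (hkE.trans hEM)]
      exact hM
    have hNbar : ((Subgroup.normalizer (E : Set P)).map (QuotientGroup.mk' E.normalCore)).index =
        p ^ (k - 1) := by
      rw [Subgroup.index_map_eq _ hπ (hkE.trans Subgroup.le_normalizer)]
      exact hN1idx
    apply hE.class_step hP hEM hM (QuotientGroup.mk' E.normalCore) hker k hk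
    by_cases hk2 : k = 2
    · -- `M = N(E)` and its image is abelian and nontrivial
      subst hk2
      have hMN : M = Subgroup.normalizer (E : Set P) := by
        have h1 := Subgroup.relIndex_mul_index hN1M
        rw [hM, hN1idx] at h1
        have h2 : (Subgroup.normalizer (E : Set P)).relIndex M = 1 := by
          simp only [Nat.add_one_sub_one, pow_one] at h1
          exact Nat.eq_of_mul_eq_mul_right hp.pos (by rw [one_mul]; exact h1)
        exact le_antisymm (Subgroup.relIndex_eq_one.mp h2) hN1M
      have hle : Group.nilpotencyClass ↥(M.map (QuotientGroup.mk' E.normalCore)) ≤ 1 := by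
        rw [← Subgroup.upperCentralSeries_eq_top_iff_nilpotencyClass_le,
          Subgroup.upperCentralSeries_one, Subgroup.center_eq_top_iff]
        refine ⟨⟨fun a b => Subtype.ext ?_⟩⟩
        have ha : (a : P ⧸ E.normalCore) ∈
            (Subgroup.normalizer (E : Set P)).map (QuotientGroup.mk' E.normalCore) := hMN ▸ a.2
        have hb : (b : P ⧸ E.normalCore) ∈
            (Subgroup.normalizer (E : Set P)).map (QuotientGroup.mk' E.normalCore) := hMN ▸ b.2
        exact hsoft.comm _ ha _ hb
      have hne : Group.nilpotencyClass ↥(M.map (QuotientGroup.mk' E.normalCore)) ≠ 0 := by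
        rw [Ne, Group.nilpotencyClass_zero_iff_subsingleton]
        intro hsub
        have h1 : M ≤ E := by
          intro m hm
          apply hkE
          rw [MonoidHom.mem_ker]
          have := @Subsingleton.elim _ hsub
            (⟨QuotientGroup.mk' E.normalCore m, ⟨m, hm, rfl⟩⟩ :
              ↥(M.map (QuotientGroup.mk' E.normalCore))) 1
          exact congrArg Subtype.val this
        exact absurd h1 (not_le_of_gt hlt)
      omega
    · have hk3 : 2 ≤ k - 1 := by omega
      exact ih _ (hcard ▸ hE.card_quotient_lt hP) (P ⧸ E.normalCore) p rfl hPQ _ hsoft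
        (M.map (QuotientGroup.mk' E.normalCore)) (Subgroup.map_mono hN1M) hMbar (k - 1) hk3 hNbar

end Cfsg.Agent.Lib.Helper7.Soft
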