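import Mathlib
import Cfsg.Agent.Lib.Helper2.SolvTriC1a

/-!
# S3814, Case 1 (S2*): the interface `Beta` between Parts I-II (produce it) and Part III (kill it)

`K` has normal subgroups `⟨c⟩`, `⟨c'⟩` of odd prime orders `t`, `u'`, no non-trivial normal
`u`-subgroup; every element of order `u` is singular; in a commuting pair of orders `(u, u')` the
`u'`-part is non-singular and centralises `c` while the `u`-part moves `c`; same for `(u, t)` and `c'`;
`y, y'` commuting of order `u` with `[y, c] = 1 = [y', c']`.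
-/

set_option autoImplicit false

namespace Cfsg.Agent.Lib.Helper7.SolvTri

open Cfsg Cfsg.Agent.Lib.Helper2.SolvTri

universe u

variable {G : Type u} [Group G]

/-- the two-prime Fitting configuration of sub-case (S2*) -/
structure Beta (p : ℕ) (τ : Finset ℕ) (P K : Subgroup G) (t u u' : ℕ) (c c' y y' : G) : Prop where
  c1 : C1 p τ P K
  ht : t ∈ τ
  hu : u ∈ τ
  hu' : u' ∈ τ
  htu : t ≠ u
  htu' : t ≠ u'
  huu' : u ≠ u'
  t2 : t ≠ 2
  u'2 : u' ≠ 2
  hc : c ∈ K
  oc : orderOf c = t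
  nc : K ≤ Subgroup.normalizer (Subgroup.zpowers c : Set G)
  hc' : c' ∈ K
  oc' : orderOf c' = u'
  nc' : K ≤ Subgroup.normalizer (Subgroup.zpowers c' : Set G)
  noOu : ∀ N : Subgroup G, N ≤ K → K ≤ Subgroup.normalizer (N : Set G) → IsPGroup u N → N = ⊥
  singu : ∀ x ∈ K, orderOf x = u → Sing P x
  puu' : ∀ x ∈ K, ∀ x' ∈ K, orderOf x = u → orderOf x' = u' → Commute x x' →
    ¬ Sing P x' ∧ Commute x' c ∧ ¬ Commute x c
  put : ∀ x ∈ K, ∀ a ∈ K, orderOf x = u → orderOf a = t → Commute x a →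
    ¬ Sing P a ∧ Commute a c' ∧ ¬ Commute x c'
  hy : y ∈ K
  oy : orderOf y = u
  hy' : y' ∈ K
  oy' : orderOf y' = u
  yy' : Commute y y'
  yc : Commute y c
  y'c' : Commute y' c'

namespace Beta

variable {p : ℕ} {τ : Finset ℕ} {P K : Subgroup G} {t u u' : ℕ} {c c' y y' : G}

/-- the configuration is symmetric under `(t, c, y) ↔ (u', c', y')` -/
theorem symm (b : Beta p τ P K t u u' c c' y y') : Beta p τ P K u' u t c' c y' y where
  c1 := b.c1
  ht := b.hu'
  hu := b.hu
  hu' := b.ht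
  htu := b.huu'.symm
  htu' := b.htu'.symm
  huu' := b.htu.symm
  t2 := b.u'2
  u'2 := b.t2
  hc := b.hc'
  oc := b.oc'
  nc := b.nc'
  hc' := b.hc
  oc' := b.oc
  nc' := b.nc
  noOu := b.noOu
  singu := b.singu
  puu' := b.put
  put := b.puu'
  hy := b.hy'
  oy := b.oy'
  hy' := b.hy
  oy' := b.oy
  yy' := b.yy'.symm
  yc := b.y'c'
  y'c' := b.yc

/-- `y` moves `c'` -/
theorem not_yc' (b : Beta p τ P K t u u' c c' y y') : ¬ Commute y c' :=
  (b.put y b.hy c b.hc b.oy b.oc b.yc).2.2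

/-- `y'` moves `c` -/
theorem not_y'c (b : Beta p τ P K t u u' c c' y y') : ¬ Commute y' c :=
  (b.puu' y' b.hy' c' b.hc' b.oy' b.oc' b.y'c').2.2

end Beta

end Cfsg.Agent.Lib.Helper7.SolvTri
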