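import Mathlib

set_option autoImplicit false
set_option linter.unusedSectionVars false
set_option linter.style.haveILetI false

namespace Cfsg.Agent.Lib.Helper7.Sp43

open Polynomial Matrix

section upper

variable {F : Type*} [Field F] [Fintype F]

/-- index type of `4 × 4` symplectic matrices -/
abbrev I4 : Type := Fin 2 ⊕ Fin 2

theorem three_eq_zero (hF : Fintype.card F = 3) : (3 : F) = 0 := by
  have h := Nat.cast_card_eq_zero F
  rw [hF] at h
  exact_mod_cast h

theorem trichotomy (hF : Fintype.card F = 3) (x : F) : x = 0 ∨ x = 1 ∨ x = -1 := by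
  have h := FiniteField.pow_card x
  rw [hF] at h
  have h2 : x * ((x - 1) * (x + 1)) = 0 := by
    have : x * ((x - 1) * (x + 1)) = x ^ 3 - x := by ring
    rw [this, h, sub_self]
  rcases mul_eq_zero.mp h2 with h0 | h0
  · exact Or.inl h0
  · rcases mul_eq_zero.mp h0 with h1 | h1
    · exact Or.inr (Or.inl (sub_eq_zero.mp h1))
    · exact Or.inr (Or.inr (eq_neg_of_add_eq_zero_left h1))

/-- the unit `-J` with inverse `J` -/
def negJ : (Matrix I4 I4 F)ˣ :=
  ⟨-J (Fin 2) F, J (Fin 2) F, by simp [J_squared], by simp [J_squared]⟩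

theorem negJ_val : ((negJ (F := F) : (Matrix I4 I4 F)ˣ) : Matrix I4 I4 F) = -J (Fin 2) F := rfl

theorem negJ_inv : (-J (Fin 2) F)⁻¹ = J (Fin 2) F :=
  Matrix.inv_eq_right_inv (by simp [J_squared])

theorem charpoly_reverse (M : Matrix I4 I4 F) (hM : M ∈ symplecticGroup (Fin 2) F) :
    M.charpoly.reverse = M.charpoly := by
  have hdet : M.det = 1 := SymplecticGroup.det_eq_one hM
  have hunit : IsUnit M := by
    rw [Matrix.isUnit_iff_isUnit_det, hdet]; exact isUnit_one
  have h1 := Matrix.charpoly_inv M hunit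
  have hcard : Fintype.card I4 = 4 := by simp
  rw [hdet, Ring.inverse_one, map_one, mul_one, hcard] at h1
  have h2 : M⁻¹ = -J (Fin 2) F * Mᵀ * J (Fin 2) F := SymplecticGroup.inv_eq_symplectic_inv M hM
  have h3 : (-J (Fin 2) F * Mᵀ * J (Fin 2) F).charpoly = Mᵀ.charpoly := by
    have := Matrix.charpoly_units_conj (negJ (F := F)) Mᵀ
    rw [negJ_val, negJ_inv] at this
    exact this
  rw [Matrix.reverse_charpoly]
  have h4 : M⁻¹.charpoly = M.charpolyRev := by rw [h1]; norm_num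
  rw [← h4, h2, h3, Matrix.charpoly_transpose]

theorem charpoly_eq (M : Matrix I4 I4 F) (hM : M ∈ symplecticGroup (Fin 2) F) :
    M.charpoly = X ^ 4 + C (M.charpoly.coeff 3) * X ^ 3 + C (M.charpoly.coeff 2) * X ^ 2
      + C (M.charpoly.coeff 3) * X + 1 := by
  have hdeg : M.charpoly.natDegree = 4 := by
    rw [Matrix.charpoly_natDegree_eq_dim]; simp
  have hlead : M.charpoly.coeff 4 = 1 := by
    have := (Matrix.charpoly_monic M).coeff_natDegree
    rwa [hdeg] at this
  have hrev := charpoly_reverse M hM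
  have h0 : M.charpoly.coeff 0 = 1 := by
    have := congrArg (fun p => Polynomial.coeff p 0) hrev
    simp only [Polynomial.coeff_reverse, hdeg] at this
    rw [← this, Polynomial.revAt_le (by norm_num)]
    exact hlead
  have h13 : M.charpoly.coeff 1 = M.charpoly.coeff 3 := by
    have := congrArg (fun p => Polynomial.coeff p 1) hrev
    simp only [Polynomial.coeff_reverse, hdeg] at this
    rw [← this, Polynomial.revAt_le (by norm_num)]
  have hχ := Polynomial.as_sum_range' M.charpoly 5 (by rw [hdeg]; norm_num)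
  simp only [Finset.sum_range_succ, Finset.range_zero, Finset.sum_empty, zero_add] at hχ
  conv_lhs => rw [hχ]
  rw [hlead, h0, h13]
  simp only [← Polynomial.C_mul_X_pow_eq_monomial, map_one, pow_zero, pow_one, mul_one,
    one_mul]
  ring

theorem pow_eq_one_of_dvd (A : Matrix I4 I4 F) (k : ℕ) (q : F[X])
    (h : (X ^ k - 1 : F[X]) = A.charpoly * q) : A ^ k = 1 := by
  have h1 := congrArg (Polynomial.aeval A) h
  rw [map_mul, Matrix.aeval_self_charpoly, zero_mul, map_sub, map_pow, Polynomial.aeval_X,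
    map_one] at h1
  exact sub_eq_zero.mp h1

theorem pow_eq_neg_one_of_dvd (A : Matrix I4 I4 F) (k : ℕ) (q : F[X])
    (h : (X ^ k + 1 : F[X]) = A.charpoly * q) : A ^ k = -1 := by
  have h1 := congrArg (Polynomial.aeval A) h
  rw [map_mul, Matrix.aeval_self_charpoly, zero_mul, map_add, map_pow, Polynomial.aeval_X,
    map_one] at h1
  exact eq_neg_of_add_eq_zero_left h1

theorem pow_cases (hF : Fintype.card F = 3) (M : Matrix I4 I4 F)
    (hM : M ∈ symplecticGroup (Fin 2) F) :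
    M ^ 4 = -1 ∨ M ^ 6 = 1 ∨ M ^ 6 = -1 ∨ M ^ 9 = 1 ∨ M ^ 9 = -1 ∨ M ^ 5 = 1 ∨ M ^ 5 = -1
      ∨ M ^ 12 = 1 := by
  have h3F := three_eq_zero hF
  have h3 : (3 : F[X]) = 0 := by
    rw [← map_ofNat (C : F →+* F[X]) 3, h3F, map_zero]
  have hχ := charpoly_eq M hM
  rcases trichotomy hF (M.charpoly.coeff 3) with ha | ha | ha <;>
  rcases trichotomy hF (M.charpoly.coeff 2) with hb | hb | hb <;>
  rw [ha, hb] at hχ <;> simp only [map_zero, map_one, map_neg, zero_mul, add_zero] at hχ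
  · -- a = 0, b = 0
    exact Or.inl (pow_eq_neg_one_of_dvd M 4 1 (by rw [hχ]; ring))
  · -- a = 0, b = 1
    exact Or.inr (Or.inl (pow_eq_one_of_dvd M 6 (-1 + X ^ 2) (by rw [hχ]; ring)))
  · -- a = 0, b = -1
    exact Or.inr (Or.inr (Or.inl (pow_eq_neg_one_of_dvd M 6 (1 + X ^ 2) (by rw [hχ]; ring))))
  · -- a = 1, b = 0
    exact Or.inr (Or.inr (Or.inr (Or.inr (Or.inl (pow_eq_neg_one_of_dvd M 9
      (1 - X + X ^ 2 + X ^ 3 - X ^ 4 + X ^ 5) (by
        rw [hχ]; linear_combination (-X ^ 3 - X ^ 6) * h3))))))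
  · -- a = 1, b = 1
    exact Or.inr (Or.inr (Or.inr (Or.inr (Or.inr (Or.inl (pow_eq_one_of_dvd M 5 (-1 + X)
      (by rw [hχ]; ring)))))))
  · -- a = 1, b = -1
    exact Or.inr (Or.inr (Or.inr (Or.inr (Or.inr (Or.inr (Or.inr (pow_eq_one_of_dvd M 12
      (-1 + X + X ^ 2 + X ^ 3 - X ^ 5 - X ^ 6 - X ^ 7 + X ^ 8) (by
        rw [hχ]; linear_combination (-X ^ 2 + X ^ 10) * h3))))))))
  · -- a = -1, b = 0
    exact Or.inr (Or.inr (Or.inr (Or.inl (pow_eq_one_of_dvd M 9
      (-1 - X - X ^ 2 + X ^ 3 + X ^ 4 + X ^ 5) (by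
        rw [hχ]; linear_combination (-X ^ 3 + X ^ 6) * h3)))))
  · -- a = -1, b = 1
    exact Or.inr (Or.inr (Or.inr (Or.inr (Or.inr (Or.inr (Or.inl (pow_eq_neg_one_of_dvd M 5
      (1 + X) (by rw [hχ]; ring))))))))
  · -- a = -1, b = -1
    exact Or.inr (Or.inr (Or.inr (Or.inr (Or.inr (Or.inr (Or.inr (pow_eq_one_of_dvd M 12
      (-1 - X + X ^ 2 - X ^ 3 + X ^ 5 - X ^ 6 + X ^ 7 + X ^ 8) (by
        rw [hχ]; linear_combination (-X ^ 2 + X ^ 10) * h3))))))))

end upper
section lower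

abbrev M3 : Type := Matrix I4 I4 (ZMod 3)
def g5z : M3 := fromBlocks !![0,0;1,0] !![0,1;1,1] !![0,2;0,0] !![2,0;1,0]
def g9z : M3 := fromBlocks !![0,0;1,1] !![1,2;0,0] !![0,1;0,0] !![0,0;1,0]
def g12z : M3 := fromBlocks !![0,0;0,2] !![1,0;0,2] !![2,0;0,0] !![0,0;0,2]
def h4z : M3 := fromBlocks 1 0 !![0,0;0,1] 1
def h5z : M3 := fromBlocks !![1,1;0,1] 0 0 !![1,0;2,1]
def Jz : M3 := J (Fin 2) (ZMod 3)

set_option maxRecDepth 100000 in
theorem h_facts : h4z * Jz * h4zᵀ = Jz ∧ h5z * Jz * h5zᵀ = Jz := by decide +kernel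
set_option maxRecDepth 100000 in
theorem g5z_facts : g5z * Jz * g5zᵀ = Jz ∧ g5z ^ 5 = 1 ∧ g5z ^ 1 * h4z ≠ h4z * g5z ^ 1 := by
  decide +kernel
set_option maxRecDepth 100000 in
theorem g9z_facts : g9z * Jz * g9zᵀ = Jz ∧ g9z ^ 9 = 1 ∧ g9z ^ 3 * h4z ≠ h4z * g9z ^ 3 := by
  decide +kernel
set_option maxRecDepth 100000 in
theorem g12z_facts : g12z * Jz * g12zᵀ = Jz ∧ g12z ^ 12 = 1 ∧ g12z ^ 4 * h4z ≠ h4z * g12z ^ 4 ∧
    g12z ^ 6 * h5z ≠ h5z * g12z ^ 6 := by decide +kernel

variable {F : Type*} [Field F]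

/-- transport a symplectic matrix over `ZMod 3` to a field of characteristic 3 -/
def lift3 [CharP F 3] (g : M3) (hg : g * Jz * gᵀ = Jz) : symplecticGroup (Fin 2) F :=
  ⟨g.map (ZMod.castHom (dvd_refl 3) F),
    SymplecticGroup.map_mem (SymplecticGroup.mem_iff.mpr hg) (ZMod.castHom (dvd_refl 3) F)⟩

theorem lift3_pow_coe [CharP F 3] (g : M3) (hg : g * Jz * gᵀ = Jz) (k : ℕ) :
    ((lift3 (F := F) g hg ^ k : symplecticGroup (Fin 2) F) : Matrix I4 I4 F) =
      (g ^ k).map (ZMod.castHom (dvd_refl 3) F) := by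
  rw [SubmonoidClass.coe_pow]
  show (RingHom.mapMatrix (ZMod.castHom (dvd_refl 3) F) g) ^ k = _
  rw [← map_pow]
  rfl

theorem map_inj [CharP F 3] (A B : M3)
    (h : A.map (ZMod.castHom (dvd_refl 3) F) = B.map (ZMod.castHom (dvd_refl 3) F)) : A = B := by
  ext i j
  have := congrFun (congrFun h i) j
  simp only [Matrix.map_apply] at this
  exact (ZMod.castHom (dvd_refl 3) F).injective this

theorem lift3_pow_eq_one [CharP F 3] (g : M3) (hg : g * Jz * gᵀ = Jz) (k : ℕ) (h : g ^ k = 1) :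
    lift3 (F := F) g hg ^ k = 1 := by
  apply Subtype.ext
  rw [lift3_pow_coe, h]
  simp

theorem lift3_pow_not_mem_center [CharP F 3] (g h : M3) (hg : g * Jz * gᵀ = Jz)
    (hh : h * Jz * hᵀ = Jz) (k : ℕ) (hne : g ^ k * h ≠ h * g ^ k) :
    lift3 (F := F) g hg ^ k ∉ Subgroup.center (symplecticGroup (Fin 2) F) := by
  intro hc
  rw [Subgroup.mem_center_iff] at hc
  have h1 := hc (lift3 (F := F) h hh)
  have h2 := congrArg (fun x : symplecticGroup (Fin 2) F => (x : Matrix I4 I4 F)) h1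
  simp only [Submonoid.coe_mul, lift3_pow_coe] at h2
  have h3 : ((lift3 (F := F) h hh : symplecticGroup (Fin 2) F) : Matrix I4 I4 F) =
      h.map (ZMod.castHom (dvd_refl 3) F) := rfl
  rw [h3, ← Matrix.map_mul, ← Matrix.map_mul] at h2
  exact hne (map_inj _ _ h2).symm

end lower

section spectrum

variable {F : Type*} [Field F] [Fintype F]

theorem charP_of_card (hF : Fintype.card F = 3) : CharP F 3 := by
  haveI : Fact (Nat.Prime 3) := ⟨Nat.prime_three⟩
  exact charP_of_card_eq_prime hF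

/-- the central element `-1` -/
def negOne : symplecticGroup (Fin 2) F :=
  ⟨-1, SymplecticGroup.neg_mem (Submonoid.one_mem _)⟩

omit [Fintype F] in
theorem negOne_mem_center : (negOne : symplecticGroup (Fin 2) F) ∈
    Subgroup.center (symplecticGroup (Fin 2) F) := by
  rw [Subgroup.mem_center_iff]
  intro g
  apply Subtype.ext
  simp [negOne]

omit [Fintype F] in
theorem mk_pow_eq_one (g : symplecticGroup (Fin 2) F) (k : ℕ)
    (h : (g : Matrix I4 I4 F) ^ k = 1 ∨ (g : Matrix I4 I4 F) ^ k = -1) :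
    (QuotientGroup.mk g : symplecticGroup (Fin 2) F ⧸
      Subgroup.center (symplecticGroup (Fin 2) F)) ^ k = 1 := by
  rw [← QuotientGroup.mk_pow, QuotientGroup.eq_one_iff]
  rcases h with h | h
  · have : g ^ k = 1 := by
      apply Subtype.ext
      rw [SubmonoidClass.coe_pow, h]; rfl
    rw [this]; exact Subgroup.one_mem _
  · have : g ^ k = negOne := by
      apply Subtype.ext
      rw [SubmonoidClass.coe_pow, h]; rfl
    rw [this]; exact negOne_mem_center

theorem dvd_cases (n : ℕ) (h : n ∣ 4 ∨ n ∣ 6 ∨ n ∣ 9 ∨ n ∣ 5 ∨ n ∣ 12) :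
    n ∈ ({1, 2, 3, 4, 5, 6, 9, 12} : Set ℕ) := by
  rcases h with h | h | h | h | h <;>
  · have hle := Nat.le_of_dvd (by norm_num) h
    interval_cases n <;> first | (exfalso; revert h; decide) | simp

theorem psp_orderOf_mem (hF : Fintype.card F = 3)
    (x : symplecticGroup (Fin 2) F ⧸ Subgroup.center (symplecticGroup (Fin 2) F)) :
    orderOf x ∈ ({1, 2, 3, 4, 5, 6, 9, 12} : Set ℕ) := by
  obtain ⟨g, rfl⟩ := QuotientGroup.mk_surjective x
  apply dvd_cases
  rcases pow_cases hF (g : Matrix I4 I4 F) g.2 with h | h | h | h | h | h | h | h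
  · exact Or.inl (orderOf_dvd_of_pow_eq_one (mk_pow_eq_one g 4 (Or.inr h)))
  · exact Or.inr (Or.inl (orderOf_dvd_of_pow_eq_one (mk_pow_eq_one g 6 (Or.inl h))))
  · exact Or.inr (Or.inl (orderOf_dvd_of_pow_eq_one (mk_pow_eq_one g 6 (Or.inr h))))
  · exact Or.inr (Or.inr (Or.inl (orderOf_dvd_of_pow_eq_one (mk_pow_eq_one g 9 (Or.inl h)))))
  · exact Or.inr (Or.inr (Or.inl (orderOf_dvd_of_pow_eq_one (mk_pow_eq_one g 9 (Or.inr h)))))
  · exact Or.inr (Or.inr (Or.inr (Or.inl
      (orderOf_dvd_of_pow_eq_one (mk_pow_eq_one g 5 (Or.inl h))))))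
  · exact Or.inr (Or.inr (Or.inr (Or.inl
      (orderOf_dvd_of_pow_eq_one (mk_pow_eq_one g 5 (Or.inr h))))))
  · exact Or.inr (Or.inr (Or.inr (Or.inr
      (orderOf_dvd_of_pow_eq_one (mk_pow_eq_one g 12 (Or.inl h))))))

theorem orders_of_three {G : Type*} [Group G] (a b c : G) (ha : orderOf a = 5)
    (hb : orderOf b = 9) (hc : orderOf c = 12) :
    ({1, 2, 3, 4, 5, 6, 9, 12} : Set ℕ) ⊆ Set.range (orderOf : G → ℕ) := by
  intro n hn
  simp only [Set.mem_insert_iff, Set.mem_singleton_iff] at hn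
  have key : ∀ (x : G) (m d : ℕ), orderOf x = m → 0 < m → d ∣ m → m / d ∈ Set.range (orderOf : G → ℕ) := by
    intro x m d hx hm hd
    refine ⟨x ^ d, ?_⟩
    rw [orderOf_pow' x (by rintro rfl; simp at hd; omega), hx, Nat.gcd_eq_right hd]
  rcases hn with rfl | rfl | rfl | rfl | rfl | rfl | rfl | rfl
  · exact ⟨1, orderOf_one⟩
  · exact key c 12 6 hc (by norm_num) (by norm_num)
  · exact key c 12 4 hc (by norm_num) (by norm_num)
  · exact key c 12 3 hc (by norm_num) (by norm_num)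
  · exact ⟨a, ha⟩
  · exact key c 12 2 hc (by norm_num) (by norm_num)
  · exact ⟨b, hb⟩
  · exact ⟨c, hc⟩

theorem psp_spectrum (hF : Fintype.card F = 3) :
    Set.range (orderOf : (symplecticGroup (Fin 2) F ⧸
      Subgroup.center (symplecticGroup (Fin 2) F)) → ℕ) = {1, 2, 3, 4, 5, 6, 9, 12} := by
  have := charP_of_card hF
  apply Set.Subset.antisymm
  · rintro n ⟨x, rfl⟩
    exact psp_orderOf_mem hF x
  · have mkne : ∀ (g : symplecticGroup (Fin 2) F) (k : ℕ),
        g ^ k ∉ Subgroup.center (symplecticGroup (Fin 2) F) →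
        (QuotientGroup.mk g : symplecticGroup (Fin 2) F ⧸
          Subgroup.center (symplecticGroup (Fin 2) F)) ^ k ≠ 1 := by
      intro g k hk h
      rw [← QuotientGroup.mk_pow, QuotientGroup.eq_one_iff] at h
      exact hk h
    have mkeq : ∀ (g : symplecticGroup (Fin 2) F) (k : ℕ), g ^ k = 1 →
        (QuotientGroup.mk g : symplecticGroup (Fin 2) F ⧸
          Subgroup.center (symplecticGroup (Fin 2) F)) ^ k = 1 := by
      intro g k hk
      rw [← QuotientGroup.mk_pow, hk]; rfl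
    refine orders_of_three
      (QuotientGroup.mk (lift3 (F := F) g5z g5z_facts.1))
      (QuotientGroup.mk (lift3 (F := F) g9z g9z_facts.1))
      (QuotientGroup.mk (lift3 (F := F) g12z g12z_facts.1)) ?_ ?_ ?_
    · refine orderOf_eq_of_pow_and_pow_div_prime (by norm_num)
        (mkeq _ 5 (lift3_pow_eq_one _ _ 5 g5z_facts.2.1)) ?_
      intro p hp hpd
      have : p = 5 := (Nat.prime_dvd_prime_iff_eq hp (by norm_num)).mp hpd
      subst this
      exact mkne _ _ (lift3_pow_not_mem_center g5z h4z _ h_facts.1 1 g5z_facts.2.2)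
    · refine orderOf_eq_of_pow_and_pow_div_prime (by norm_num)
        (mkeq _ 9 (lift3_pow_eq_one _ _ 9 g9z_facts.2.1)) ?_
      intro p hp hpd
      have : p = 3 := by
        have h9 : (9 : ℕ) = 3 ^ 2 := by norm_num
        rw [h9] at hpd
        exact (Nat.prime_dvd_prime_iff_eq hp (by norm_num)).mp (hp.dvd_of_dvd_pow hpd)
      subst this
      exact mkne _ _ (lift3_pow_not_mem_center g9z h4z _ h_facts.1 3 g9z_facts.2.2)
    · refine orderOf_eq_of_pow_and_pow_div_prime (by norm_num)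
        (mkeq _ 12 (lift3_pow_eq_one _ _ 12 g12z_facts.2.1)) ?_
      intro p hp hpd
      have hp' : p = 2 ∨ p = 3 := by
        have h12 : (12 : ℕ) = 2 ^ 2 * 3 := by norm_num
        rw [h12] at hpd
        rcases (Nat.Prime.dvd_mul hp).mp hpd with h | h
        · exact Or.inl ((Nat.prime_dvd_prime_iff_eq hp (by norm_num)).mp (hp.dvd_of_dvd_pow h))
        · exact Or.inr ((Nat.prime_dvd_prime_iff_eq hp (by norm_num)).mp h)
      rcases hp' with rfl | rfl
      · exact mkne _ _ (lift3_pow_not_mem_center g12z h5z _ h_facts.2 6 g12z_facts.2.2.2)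
      · exact mkne _ _ (lift3_pow_not_mem_center g12z h4z _ h_facts.1 4 g12z_facts.2.2.1)

end spectrum

end Cfsg.Agent.Lib.Helper7.Sp43
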