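import Mathlib

namespace Cfsg.Agent.Lib.Sp8

open Module Polynomial

variable {F : Type*} [Field F] {V : Type*} [AddCommGroup V] [Module F V]

/-- `ψ` is a right adjoint of `φ` with respect to `B`. -/
def Adj (B : LinearMap.BilinForm F V) (φ ψ : Module.End F V) : Prop :=
  ∀ x y, B (φ x) y = B x (ψ y)

variable {B : LinearMap.BilinForm F V}

theorem adj_zero : Adj B 0 0 := fun x y => by simp
theorem adj_one : Adj B 1 1 := fun x y => by simp

theorem adj_add {φ ψ φ' ψ' : Module.End F V} (h : Adj B φ ψ) (h' : Adj B φ' ψ') :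
    Adj B (φ + φ') (ψ + ψ') := fun x y => by
  simp only [LinearMap.add_apply, map_add, h x y, h' x y]

theorem adj_sub {φ ψ φ' ψ' : Module.End F V} (h : Adj B φ ψ) (h' : Adj B φ' ψ') :
    Adj B (φ - φ') (ψ - ψ') := fun x y => by
  simp only [LinearMap.sub_apply, map_sub, h x y, h' x y]

theorem adj_smul {φ ψ : Module.End F V} (c : F) (h : Adj B φ ψ) :
    Adj B (c • φ) (c • ψ) := fun x y => by
  simp only [LinearMap.smul_apply, map_smul, h x y]

theorem adj_mul {φ ψ φ' ψ' : Module.End F V} (h : Adj B φ ψ) (h' : Adj B φ' ψ') :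
    Adj B (φ * φ') (ψ' * ψ) := fun x y => by
  simp only [Module.End.mul_apply, h _ _, h' _ _]

theorem adj_pow {φ ψ : Module.End F V} (h : Adj B φ ψ) (k : ℕ) : Adj B (φ ^ k) (ψ ^ k) := by
  induction k with
  | zero => simpa using adj_one
  | succ k ih =>
    rw [pow_succ, pow_succ']
    exact adj_mul ih h

theorem adj_sum {ι : Type*} (S : Finset ι) (φ ψ : ι → Module.End F V)
    (h : ∀ i ∈ S, Adj B (φ i) (ψ i)) : Adj B (∑ i ∈ S, φ i) (∑ i ∈ S, ψ i) := by
  classical
  induction S using Finset.induction_on with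
  | empty => simpa using adj_zero
  | insert a S ha ih =>
    rw [Finset.sum_insert ha, Finset.sum_insert ha]
    exact adj_add (h a (Finset.mem_insert_self a S))
      (ih (fun i hi => h i (Finset.mem_insert_of_mem hi)))

theorem adj_aeval {s s' : Module.End F V} (h : Adj B s s') (p : F[X]) :
    Adj B (aeval s p) (aeval s' p) := by
  induction p using Polynomial.induction_on' with
  | add p q hp hq => simpa using adj_add hp hq
  | monomial n a =>
    simp only [aeval_monomial]
    intro x y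
    have := adj_pow h n x y
    simp only [Module.End.mul_apply, Module.algebraMap_end_apply, map_smul,
      LinearMap.smul_apply, smul_eq_mul]
    rw [this]

theorem adj_symm (hB : B.IsAlt) {φ ψ : Module.End F V} (h : Adj B φ ψ) : Adj B ψ φ := fun x y => by
  rw [← hB.neg_eq, ← h y x, hB.neg_eq]

theorem right_nondeg (hB : B.IsAlt) (hnd : ∀ x, (∀ y, B x y = 0) → x = 0) (z : V)
    (hz : ∀ x, B x z = 0) : z = 0 :=
  hnd z fun y => by rw [← hB.neg_eq, hz y, neg_zero]

theorem adj_unique (hB : B.IsAlt) (hnd : ∀ x, (∀ y, B x y = 0) → x = 0) {φ ψ₁ ψ₂ : Module.End F V}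
    (h₁ : Adj B φ ψ₁) (h₂ : Adj B φ ψ₂) : ψ₁ = ψ₂ := by
  ext y
  rw [← sub_eq_zero]
  apply right_nondeg hB hnd
  intro x
  rw [map_sub, ← h₁ x y, ← h₂ x y, sub_self]

/-- an isometry with `s ^ m = 1` has adjoint `s ^ (m - 1)`. -/
theorem adj_isom {s : Module.End F V} (hs : ∀ x y, B (s x) (s y) = B x y) {m : ℕ} (hm : 0 < m)
    (hsm : s ^ m = 1) : Adj B s (s ^ (m - 1)) := fun x y => by
  have : s ((s ^ (m - 1)) y) = y := by
    rw [← Module.End.mul_apply, ← pow_succ', Nat.sub_add_cancel hm, hsm]; rfl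
  rw [← hs x, this]

theorem isom_pow {s : Module.End F V} (hs : ∀ x y, B (s x) (s y) = B x y) (k : ℕ) :
    ∀ x y, B ((s ^ k) x) ((s ^ k) y) = B x y := by
  induction k with
  | zero => intro x y; simp
  | succ k ih =>
    intro x y
    rw [pow_succ, Module.End.mul_apply, Module.End.mul_apply, ih, hs]

end Cfsg.Agent.Lib.Sp8
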