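import Mathlib

/-!
# Sp8 project: the arithmetic tables

`T r n` lists exponents (in terms of `r = q - 1`) such that every isometry of a `2n`-dimensional
nondegenerate alternating space over a field with `q = r+1` (even) elements is killed by one of them.
-/

namespace Cfsg.Agent.Lib.Sp8

/-- the table of exponents, in terms of `r = q - 1`. -/
def T (r : ℕ) : ℕ → List ℕ
  | 1 => [r, (r+2), 2]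
  | 2 => [r*(r+2), (r^2+2*r+2), 2*r, 2*(r+2), 4]
  | 3 => [r*(r^2+3*r+3), (r+2)*(r^2+r+1), (r^2+2*r+2)*r, (r^2+2*r+2)*(r+2), 2*r*(r+2), 2*(r^2+2*r+2), 4*r, 4*(r+2), 8]
  | 4 => [((r+1)^4+1), (r^2+2*r+2)*r*(r+2), r*(r^2+3*r+3)*(r+2), (r+2)*(r^2+r+1)*r, 2*r*(r^2+3*r+3), 2*(r+2)*(r^2+r+1), 2*(r^2+2*r+2)*r, 2*(r^2+2*r+2)*(r+2), 4*(r^2+2*r+2), 4*r*(r+2), 8*r, 8*(r+2)]
  | _ => []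

theorem T_split_11 (r : ℕ) : ∀ E₁ ∈ T r 1, ∀ E₂ ∈ T r 1, ∃ E ∈ T r 2, E₁ ∣ E ∧ E₂ ∣ E := by
  intro E₁ h₁ E₂ h₂
  simp only [T, List.mem_cons, List.not_mem_nil, or_false] at h₁ h₂
  rcases h₁ with h₁ | h₁ | h₁ <;> rcases h₂ with h₂ | h₂ | h₂ <;> subst E₁ E₂
  · exact ⟨r*(r+2), by simp [T], ⟨(r+2), by ring⟩, ⟨(r+2), by ring⟩⟩
  · exact ⟨r*(r+2), by simp [T], ⟨(r+2), by ring⟩, ⟨r, by ring⟩⟩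
  · exact ⟨2*r, by simp [T], ⟨2, by ring⟩, ⟨r, by ring⟩⟩
  · exact ⟨r*(r+2), by simp [T], ⟨r, by ring⟩, ⟨(r+2), by ring⟩⟩
  · exact ⟨r*(r+2), by simp [T], ⟨r, by ring⟩, ⟨r, by ring⟩⟩
  · exact ⟨2*(r+2), by simp [T], ⟨2, by ring⟩, ⟨(r+2), by ring⟩⟩
  · exact ⟨2*r, by simp [T], ⟨r, by ring⟩, ⟨2, by ring⟩⟩
  · exact ⟨2*(r+2), by simp [T], ⟨(r+2), by ring⟩, ⟨2, by ring⟩⟩
  · exact ⟨2*r, by simp [T], ⟨r, by ring⟩, ⟨r, by ring⟩⟩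

theorem T_split_12 (r : ℕ) : ∀ E₁ ∈ T r 1, ∀ E₂ ∈ T r 2, ∃ E ∈ T r 3, E₁ ∣ E ∧ E₂ ∣ E := by
  intro E₁ h₁ E₂ h₂
  simp only [T, List.mem_cons, List.not_mem_nil, or_false] at h₁ h₂
  rcases h₁ with h₁ | h₁ | h₁ <;> rcases h₂ with h₂ | h₂ | h₂ | h₂ | h₂ <;> subst E₁ E₂
  · exact ⟨2*r*(r+2), by simp [T], ⟨2*(r+2), by ring⟩, ⟨2, by ring⟩⟩
  · exact ⟨(r^2+2*r+2)*r, by simp [T], ⟨(r^2+2*r+2), by ring⟩, ⟨r, by ring⟩⟩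
  · exact ⟨2*r*(r+2), by simp [T], ⟨2*(r+2), by ring⟩, ⟨(r+2), by ring⟩⟩
  · exact ⟨2*r*(r+2), by simp [T], ⟨2*(r+2), by ring⟩, ⟨r, by ring⟩⟩
  · exact ⟨4*r, by simp [T], ⟨4, by ring⟩, ⟨r, by ring⟩⟩
  · exact ⟨2*r*(r+2), by simp [T], ⟨2*r, by ring⟩, ⟨2, by ring⟩⟩
  · exact ⟨(r^2+2*r+2)*(r+2), by simp [T], ⟨(r^2+2*r+2), by ring⟩, ⟨(r+2), by ring⟩⟩
  · exact ⟨2*r*(r+2), by simp [T], ⟨2*r, by ring⟩, ⟨(r+2), by ring⟩⟩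
  · exact ⟨2*r*(r+2), by simp [T], ⟨2*r, by ring⟩, ⟨r, by ring⟩⟩
  · exact ⟨4*(r+2), by simp [T], ⟨4, by ring⟩, ⟨(r+2), by ring⟩⟩
  · exact ⟨2*r*(r+2), by simp [T], ⟨r*(r+2), by ring⟩, ⟨2, by ring⟩⟩
  · exact ⟨2*(r^2+2*r+2), by simp [T], ⟨(r^2+2*r+2), by ring⟩, ⟨2, by ring⟩⟩
  · exact ⟨2*r*(r+2), by simp [T], ⟨r*(r+2), by ring⟩, ⟨(r+2), by ring⟩⟩
  · exact ⟨2*r*(r+2), by simp [T], ⟨r*(r+2), by ring⟩, ⟨r, by ring⟩⟩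
  · exact ⟨4*r, by simp [T], ⟨2*r, by ring⟩, ⟨r, by ring⟩⟩

theorem T_split_13 (r : ℕ) : ∀ E₁ ∈ T r 1, ∀ E₂ ∈ T r 3, ∃ E ∈ T r 4, E₁ ∣ E ∧ E₂ ∣ E := by
  intro E₁ h₁ E₂ h₂
  simp only [T, List.mem_cons, List.not_mem_nil, or_false] at h₁ h₂
  rcases h₁ with h₁ | h₁ | h₁ <;> rcases h₂ with h₂ | h₂ | h₂ | h₂ | h₂ | h₂ | h₂ | h₂ | h₂ <;> subst E₁ E₂
  · exact ⟨r*(r^2+3*r+3)*(r+2), by simp [T], ⟨(r^2+3*r+3)*(r+2), by ring⟩, ⟨(r+2), by ring⟩⟩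
  · exact ⟨(r+2)*(r^2+r+1)*r, by simp [T], ⟨(r+2)*(r^2+r+1), by ring⟩, ⟨r, by ring⟩⟩
  · exact ⟨(r^2+2*r+2)*r*(r+2), by simp [T], ⟨(r^2+2*r+2)*(r+2), by ring⟩, ⟨(r+2), by ring⟩⟩
  · exact ⟨(r^2+2*r+2)*r*(r+2), by simp [T], ⟨(r^2+2*r+2)*(r+2), by ring⟩, ⟨r, by ring⟩⟩
  · exact ⟨4*r*(r+2), by simp [T], ⟨4*(r+2), by ring⟩, ⟨2, by ring⟩⟩
  · exact ⟨2*(r^2+2*r+2)*r, by simp [T], ⟨2*(r^2+2*r+2), by ring⟩, ⟨r, by ring⟩⟩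
  · exact ⟨4*r*(r+2), by simp [T], ⟨4*(r+2), by ring⟩, ⟨(r+2), by ring⟩⟩
  · exact ⟨4*r*(r+2), by simp [T], ⟨4*(r+2), by ring⟩, ⟨r, by ring⟩⟩
  · exact ⟨8*r, by simp [T], ⟨8, by ring⟩, ⟨r, by ring⟩⟩
  · exact ⟨r*(r^2+3*r+3)*(r+2), by simp [T], ⟨r*(r^2+3*r+3), by ring⟩, ⟨(r+2), by ring⟩⟩
  · exact ⟨(r+2)*(r^2+r+1)*r, by simp [T], ⟨(r^2+r+1)*r, by ring⟩, ⟨r, by ring⟩⟩
  · exact ⟨(r^2+2*r+2)*r*(r+2), by simp [T], ⟨(r^2+2*r+2)*r, by ring⟩, ⟨(r+2), by ring⟩⟩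
  · exact ⟨(r^2+2*r+2)*r*(r+2), by simp [T], ⟨(r^2+2*r+2)*r, by ring⟩, ⟨r, by ring⟩⟩
  · exact ⟨4*r*(r+2), by simp [T], ⟨4*r, by ring⟩, ⟨2, by ring⟩⟩
  · exact ⟨2*(r^2+2*r+2)*(r+2), by simp [T], ⟨2*(r^2+2*r+2), by ring⟩, ⟨(r+2), by ring⟩⟩
  · exact ⟨4*r*(r+2), by simp [T], ⟨4*r, by ring⟩, ⟨(r+2), by ring⟩⟩
  · exact ⟨4*r*(r+2), by simp [T], ⟨4*r, by ring⟩, ⟨r, by ring⟩⟩
  · exact ⟨8*(r+2), by simp [T], ⟨8, by ring⟩, ⟨(r+2), by ring⟩⟩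
  · exact ⟨2*r*(r^2+3*r+3), by simp [T], ⟨r*(r^2+3*r+3), by ring⟩, ⟨2, by ring⟩⟩
  · exact ⟨2*(r+2)*(r^2+r+1), by simp [T], ⟨(r+2)*(r^2+r+1), by ring⟩, ⟨2, by ring⟩⟩
  · exact ⟨2*(r^2+2*r+2)*r, by simp [T], ⟨(r^2+2*r+2)*r, by ring⟩, ⟨2, by ring⟩⟩
  · exact ⟨2*(r^2+2*r+2)*(r+2), by simp [T], ⟨(r^2+2*r+2)*(r+2), by ring⟩, ⟨2, by ring⟩⟩
  · exact ⟨4*r*(r+2), by simp [T], ⟨2*r*(r+2), by ring⟩, ⟨2, by ring⟩⟩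
  · exact ⟨2*(r^2+2*r+2)*r, by simp [T], ⟨(r^2+2*r+2)*r, by ring⟩, ⟨r, by ring⟩⟩
  · exact ⟨4*r*(r+2), by simp [T], ⟨2*r*(r+2), by ring⟩, ⟨(r+2), by ring⟩⟩
  · exact ⟨4*r*(r+2), by simp [T], ⟨2*r*(r+2), by ring⟩, ⟨r, by ring⟩⟩
  · exact ⟨8*r, by simp [T], ⟨4*r, by ring⟩, ⟨r, by ring⟩⟩

theorem T_split_22 (r : ℕ) : ∀ E₁ ∈ T r 2, ∀ E₂ ∈ T r 2, ∃ E ∈ T r 4, E₁ ∣ E ∧ E₂ ∣ E := by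
  intro E₁ h₁ E₂ h₂
  simp only [T, List.mem_cons, List.not_mem_nil, or_false] at h₁ h₂
  rcases h₁ with h₁ | h₁ | h₁ | h₁ | h₁ <;> rcases h₂ with h₂ | h₂ | h₂ | h₂ | h₂ <;> subst E₁ E₂
  · exact ⟨(r^2+2*r+2)*r*(r+2), by simp [T], ⟨(r^2+2*r+2), by ring⟩, ⟨(r^2+2*r+2), by ring⟩⟩
  · exact ⟨(r^2+2*r+2)*r*(r+2), by simp [T], ⟨(r^2+2*r+2), by ring⟩, ⟨r*(r+2), by ring⟩⟩
  · exact ⟨4*r*(r+2), by simp [T], ⟨4, by ring⟩, ⟨2*(r+2), by ring⟩⟩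
  · exact ⟨4*r*(r+2), by simp [T], ⟨4, by ring⟩, ⟨2*r, by ring⟩⟩
  · exact ⟨4*r*(r+2), by simp [T], ⟨4, by ring⟩, ⟨r*(r+2), by ring⟩⟩
  · exact ⟨(r^2+2*r+2)*r*(r+2), by simp [T], ⟨r*(r+2), by ring⟩, ⟨(r^2+2*r+2), by ring⟩⟩
  · exact ⟨(r^2+2*r+2)*r*(r+2), by simp [T], ⟨r*(r+2), by ring⟩, ⟨r*(r+2), by ring⟩⟩
  · exact ⟨2*(r^2+2*r+2)*r, by simp [T], ⟨2*r, by ring⟩, ⟨(r^2+2*r+2), by ring⟩⟩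
  · exact ⟨2*(r^2+2*r+2)*(r+2), by simp [T], ⟨2*(r+2), by ring⟩, ⟨(r^2+2*r+2), by ring⟩⟩
  · exact ⟨4*(r^2+2*r+2), by simp [T], ⟨4, by ring⟩, ⟨(r^2+2*r+2), by ring⟩⟩
  · exact ⟨4*r*(r+2), by simp [T], ⟨2*(r+2), by ring⟩, ⟨4, by ring⟩⟩
  · exact ⟨2*(r^2+2*r+2)*r, by simp [T], ⟨(r^2+2*r+2), by ring⟩, ⟨2*r, by ring⟩⟩
  · exact ⟨2*r*(r^2+3*r+3), by simp [T], ⟨(r^2+3*r+3), by ring⟩, ⟨(r^2+3*r+3), by ring⟩⟩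
  · exact ⟨4*r*(r+2), by simp [T], ⟨2*(r+2), by ring⟩, ⟨2*r, by ring⟩⟩
  · exact ⟨4*r*(r+2), by simp [T], ⟨2*(r+2), by ring⟩, ⟨r*(r+2), by ring⟩⟩
  · exact ⟨4*r*(r+2), by simp [T], ⟨2*r, by ring⟩, ⟨4, by ring⟩⟩
  · exact ⟨2*(r^2+2*r+2)*(r+2), by simp [T], ⟨(r^2+2*r+2), by ring⟩, ⟨2*(r+2), by ring⟩⟩
  · exact ⟨4*r*(r+2), by simp [T], ⟨2*r, by ring⟩, ⟨2*(r+2), by ring⟩⟩
  · exact ⟨2*(r+2)*(r^2+r+1), by simp [T], ⟨(r^2+r+1), by ring⟩, ⟨(r^2+r+1), by ring⟩⟩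
  · exact ⟨4*r*(r+2), by simp [T], ⟨2*r, by ring⟩, ⟨r*(r+2), by ring⟩⟩
  · exact ⟨4*r*(r+2), by simp [T], ⟨r*(r+2), by ring⟩, ⟨4, by ring⟩⟩
  · exact ⟨4*(r^2+2*r+2), by simp [T], ⟨(r^2+2*r+2), by ring⟩, ⟨4, by ring⟩⟩
  · exact ⟨4*r*(r+2), by simp [T], ⟨r*(r+2), by ring⟩, ⟨2*(r+2), by ring⟩⟩
  · exact ⟨4*r*(r+2), by simp [T], ⟨r*(r+2), by ring⟩, ⟨2*r, by ring⟩⟩
  · exact ⟨4*(r^2+2*r+2), by simp [T], ⟨(r^2+2*r+2), by ring⟩, ⟨(r^2+2*r+2), by ring⟩⟩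

theorem T_split (r n₁ n₂ : ℕ) (h₁ : 1 ≤ n₁) (h₂ : 1 ≤ n₂) (h : n₁ + n₂ ≤ 4) {E₁ E₂ : ℕ}
    (hE₁ : E₁ ∈ T r n₁) (hE₂ : E₂ ∈ T r n₂) : ∃ E ∈ T r (n₁ + n₂), E₁ ∣ E ∧ E₂ ∣ E := by
  have h₁' : n₁ ≤ 3 := by omega
  have h₂' : n₂ ≤ 3 := by omega
  interval_cases n₁ <;> interval_cases n₂ <;> try omega
  · exact T_split_11 r _ hE₁ _ hE₂
  · exact T_split_12 r _ hE₁ _ hE₂
  · exact T_split_13 r _ hE₁ _ hE₂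
  · obtain ⟨E, hE, h1, h2⟩ := T_split_12 r _ hE₂ _ hE₁
    exact ⟨E, hE, h2, h1⟩
  · exact T_split_22 r _ hE₁ _ hE₂
  · obtain ⟨E, hE, h1, h2⟩ := T_split_13 r _ hE₂ _ hE₁
    exact ⟨E, hE, h2, h1⟩

/-- the `2`-power exponent needed to kill a unipotent element with `(u-1)^k = 0`. -/
def tk (k : ℕ) : ℕ := if k ≤ 1 then 0 else if k ≤ 2 then 1 else if k ≤ 4 then 2 else 3

theorem le_two_pow_tk {k : ℕ} (hk : k ≤ 8) : k ≤ 2 ^ tk k := by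
  interval_cases k <;> simp [tk]

theorem pow_one_sub (r : ℕ) : (r + 1) ^ 1 - 1 = r := by simp
theorem pow_two_sub (r : ℕ) : (r + 1) ^ 2 - 1 = r * (r + 2) :=
  Nat.sub_eq_of_eq_add (by ring)
theorem pow_three_sub (r : ℕ) : (r + 1) ^ 3 - 1 = r * (r ^ 2 + 3 * r + 3) :=
  Nat.sub_eq_of_eq_add (by ring)
theorem pow_four_sub (r : ℕ) : (r + 1) ^ 4 - 1 = r * (r + 2) * (r ^ 2 + 2 * r + 2) :=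
  Nat.sub_eq_of_eq_add (by ring)

theorem T_sr (r i k : ℕ) (hi : 1 ≤ i) (hk : 1 ≤ k) (hik : i * k ≤ 4) :
    ∃ E ∈ T r (i * k), 2 ^ tk k * ((r + 1) ^ i + 1) ∣ E := by
  have hi4 : i ≤ 4 := le_trans (Nat.le_mul_of_pos_right i hk) hik
  have hk4 : k ≤ 4 := le_trans (Nat.le_mul_of_pos_left k hi) hik
  interval_cases i <;> interval_cases k <;> try omega
  · exact ⟨r + 2, by simp [T], ⟨1, by simp [tk]⟩⟩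
  · exact ⟨2 * (r + 2), by simp [T], ⟨1, by simp [tk]⟩⟩
  · exact ⟨4 * (r + 2), by simp [T], ⟨1, by simp [tk]⟩⟩
  · exact ⟨4 * r * (r + 2), by simp [T], ⟨r, by simp [tk]; ring⟩⟩
  · exact ⟨r ^ 2 + 2 * r + 2, by simp [T], ⟨1, by simp [tk]; ring⟩⟩
  · exact ⟨4 * (r ^ 2 + 2 * r + 2), by simp [T], ⟨2, by simp [tk]; ring⟩⟩
  · exact ⟨(r + 2) * (r ^ 2 + r + 1), by simp [T], ⟨1, by simp [tk]; ring⟩⟩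
  · exact ⟨(r + 1) ^ 4 + 1, by simp [T], ⟨1, by simp [tk]⟩⟩

theorem T_spl (r d k : ℕ) (hd : 1 ≤ d) (hk : 1 ≤ k) (hdk : d * k ≤ 4) :
    ∃ E ∈ T r (d * k), 2 ^ tk k * ((r + 1) ^ d - 1) ∣ E := by
  have hd4 : d ≤ 4 := le_trans (Nat.le_mul_of_pos_right d hk) hdk
  have hk4 : k ≤ 4 := le_trans (Nat.le_mul_of_pos_left k hd) hdk
  interval_cases d <;> interval_cases k <;> try omega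
  · exact ⟨r, by simp [T], ⟨1, by simp [tk]⟩⟩
  · exact ⟨2 * r, by simp [T], ⟨1, by simp [tk]⟩⟩
  · exact ⟨4 * r, by simp [T], ⟨1, by simp [tk]⟩⟩
  · exact ⟨4 * r * (r + 2), by simp [T], ⟨r + 2, by simp [tk]⟩⟩
  · exact ⟨r * (r + 2), by simp [T], ⟨1, by rw [pow_two_sub]; simp [tk]⟩⟩
  · exact ⟨4 * r * (r + 2), by simp [T], ⟨2, by rw [pow_two_sub]; simp [tk]; ring⟩⟩
  · exact ⟨r * (r ^ 2 + 3 * r + 3), by simp [T], ⟨1, by rw [pow_three_sub]; simp [tk]⟩⟩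
  · exact ⟨(r ^ 2 + 2 * r + 2) * r * (r + 2), by simp [T], ⟨1, by rw [pow_four_sub]; simp [tk]; ring⟩⟩

theorem T_unip (r n : ℕ) (hn : 1 ≤ n) (hn4 : n ≤ 4) : ∃ E ∈ T r n, 2 ^ tk (2 * n) ∣ E := by
  interval_cases n
  · exact ⟨2, by simp [T], ⟨1, by simp [tk]⟩⟩
  · exact ⟨4, by simp [T], ⟨1, by simp [tk]⟩⟩
  · exact ⟨8, by simp [T], ⟨1, by simp [tk]⟩⟩
  · exact ⟨8 * r, by simp [T], ⟨r, by simp [tk]⟩⟩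

end Cfsg.Agent.Lib.Sp8
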