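import Mathlib

namespace Cfsg.Agent.Lib.Sp8

open Function Module

theorem chain {F V : Type*} [Field F] [AddCommGroup V] [Module F V] [FiniteDimensional F V]
    (s N₀ : Module.End F V) (hc : Commute s N₀) (hnil : ∃ L, N₀ ^ L = 0)
    (W : Submodule F V) (hWs : ∀ x ∈ W, s x ∈ W) (hWN : ∀ x ∈ W, N₀ x ∈ W)
    (d k : ℕ) (hd : 0 < d) (hdim : finrank F W = d * k)
    (hdiv : ∀ W' : Submodule F V, W' ≤ W → (∀ x ∈ W', s x ∈ W') → d ∣ finrank F W') :
    ∀ x ∈ W, (N₀ ^ k) x = 0 := by
  set K : ℕ → Submodule F V := fun j => W ⊓ LinearMap.ker (N₀ ^ j) with hK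
  have hKW : ∀ j, K j ≤ W := fun j => inf_le_left
  have memK : ∀ j x, x ∈ K j ↔ x ∈ W ∧ (N₀ ^ j) x = 0 := by
    intro j x; rw [hK]; simp only [Submodule.mem_inf, LinearMap.mem_ker]
  have hKs : ∀ j, ∀ x ∈ K j, s x ∈ K j := by
    intro j x hx
    rw [hK] at hx ⊢
    simp only [Submodule.mem_inf, LinearMap.mem_ker] at hx ⊢
    refine ⟨hWs x hx.1, ?_⟩
    have : (N₀ ^ j) (s x) = s ((N₀ ^ j) x) := by
      have := (hc.pow_right j).eq
      calc (N₀ ^ j) (s x) = (N₀ ^ j * s) x := rfl
        _ = (s * N₀ ^ j) x := by rw [this]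
        _ = s ((N₀ ^ j) x) := rfl
    rw [this, hx.2, map_zero]
  have hKmono : ∀ j, K j ≤ K (j + 1) := by
    intro j x hx
    rw [hK] at hx ⊢
    simp only [Submodule.mem_inf, LinearMap.mem_ker] at hx ⊢
    refine ⟨hx.1, ?_⟩
    rw [pow_succ', Module.End.mul_apply, hx.2, map_zero]
  have hWpow : ∀ j, ∀ x ∈ W, (N₀ ^ j) x ∈ W := by
    intro j
    induction j with
    | zero => intro x hx; simpa using hx
    | succ j ih => intro x hx; rw [pow_succ', Module.End.mul_apply]; exact hWN _ (ih x hx)
  -- strictness
  have hstrict : ∀ j, K (j + 1) = K j → K j = W := by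
    intro j hj
    refine le_antisymm (hKW j) ?_
    obtain ⟨L, hL⟩ := hnil
    -- by downward induction: every x ∈ W with N₀^(j+i) x = 0 lies in K j
    have key : ∀ i, ∀ x ∈ W, (N₀ ^ (j + i)) x = 0 → x ∈ K j := by
      intro i
      induction i with
      | zero =>
        intro x hx h
        rw [memK]; exact ⟨hx, by simpa using h⟩
      | succ i ih =>
        intro x hx h
        apply ih x hx
        -- y = N₀^i x satisfies N₀^(j+1) y = 0
        have hy : (N₀ ^ i) x ∈ K (j + 1) := by
          rw [memK]
          refine ⟨hWpow i x hx, ?_⟩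
          rw [← Module.End.mul_apply, ← pow_add]
          rw [show j + 1 + i = j + (i + 1) by ring]; exact h
        rw [hj, memK] at hy
        have := hy.2
        rw [← Module.End.mul_apply, ← pow_add] at this
        exact this
    intro x hx
    apply key L x hx
    rw [pow_add, hL, mul_zero]; rfl
  have main : ∀ j, K j = W ∨ j * d ≤ finrank F (K j) := by
    intro j
    induction j with
    | zero => right; simp
    | succ j ih =>
      rcases ih with h | h
      · left; exact le_antisymm (hKW _) (h ▸ hKmono j)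
      · by_cases hstr : K (j + 1) = K j
        · left
          have := hstrict j hstr
          rw [hstr]; exact this
        · right
          have hlt : K j < K (j + 1) := lt_of_le_of_ne (hKmono j) (Ne.symm hstr)
          have h1 := Submodule.finrank_lt_finrank_of_lt hlt
          obtain ⟨a, ha⟩ := hdiv (K j) (hKW j) (hKs j)
          obtain ⟨b, hb⟩ := hdiv (K (j + 1)) (hKW _) (hKs _)
          rw [ha] at h h1
          rw [hb] at h1 ⊢
          have hab : a < b := lt_of_mul_lt_mul_left h1 (Nat.zero_le d)
          have hja : j ≤ a := by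
            rw [mul_comm] at h
            exact le_of_mul_le_mul_left h hd
          calc (j + 1) * d = d * (j + 1) := mul_comm _ _
            _ ≤ d * b := Nat.mul_le_mul_left d (by omega)
  have hfin : K k = W := by
    rcases main k with h | h
    · exact h
    · apply Submodule.eq_of_le_of_finrank_le (hKW k)
      rw [hdim, mul_comm]; exact h
  intro x hx
  have : x ∈ K k := hfin ▸ hx
  rw [memK] at this
  exact this.2

end Cfsg.Agent.Lib.Sp8
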