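import Mathlib

namespace Cfsg.Agent.Lib.Sp8

variable (F : Type*) [Field F] [CharP F 2]

/-- the Artin–Schreier map `x ↦ x² + x` as an additive homomorphism. -/
def asHom : F →+ F where
  toFun x := x * x + x
  map_zero' := by simp
  map_add' x y := by
    have h2 : (2 : F) = 0 := CharTwo.two_eq_zero
    linear_combination (x * y) * h2

variable {F}

theorem asHom_apply (x : F) : asHom F x = x * x + x := rfl

theorem mem_asRange_iff (x : F) : x ∈ (asHom F).range ↔ ∃ t : F, t * t + t = x := Iff.rfl

theorem card_ker_asHom : Nat.card (asHom F).ker = 2 := by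
  rw [Nat.card_eq_two_iff]
  refine ⟨⟨0, by simp⟩, ⟨1, ?_⟩, ?_, ?_⟩
  · rw [AddMonoidHom.mem_ker, asHom_apply, one_mul]
    exact CharTwo.add_self_eq_zero 1
  · intro h
    exact zero_ne_one (congrArg Subtype.val h)
  · rw [Set.eq_univ_iff_forall]
    rintro ⟨x, hx⟩
    rw [AddMonoidHom.mem_ker, asHom_apply] at hx
    have : x * (x + 1) = 0 := by rw [← hx]; ring
    rcases mul_eq_zero.mp this with h | h
    · left; exact Subtype.ext h
    · right
      apply Subtype.ext
      have h1 : x = -1 := eq_neg_of_add_eq_zero_left h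
      show x = 1
      rw [h1]; exact CharTwo.neg_eq 1

theorem index_asRange [Finite F] : (asHom F).range.index = 2 := by
  have h1 := AddSubgroup.card_mul_index (asHom F).ker
  have h2 := AddSubgroup.card_mul_index (asHom F).range
  rw [AddSubgroup.index_ker, card_ker_asHom] at h1
  have hpos : 0 < Nat.card (asHom F).range := Nat.card_pos
  rw [← h1, mul_comm] at h2
  exact Nat.eq_of_mul_eq_mul_right hpos h2

open Classical in
/-- the Artin–Schreier character. -/
noncomputable def chi (x : F) : ℤ := if x ∈ (asHom F).range then 1 else -1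

theorem chi_of_mem {x : F} (h : x ∈ (asHom F).range) : chi x = 1 := by
  unfold chi; rw [if_pos h]

theorem chi_of_not_mem {x : F} (h : x ∉ (asHom F).range) : chi x = -1 := by
  unfold chi; rw [if_neg h]

theorem chi_zero : chi (0 : F) = 1 := chi_of_mem (zero_mem _)

theorem chi_as (t : F) : chi (t * t + t) = 1 := chi_of_mem ⟨t, rfl⟩

theorem chi_mul_self (x : F) : chi x * chi x = 1 := by
  by_cases h : x ∈ (asHom F).range
  · rw [chi_of_mem h]; norm_num
  · rw [chi_of_not_mem h]; norm_num

theorem chi_eq_one_or (x : F) : chi x = 1 ∨ chi x = -1 := by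
  by_cases h : x ∈ (asHom F).range
  · left; exact chi_of_mem h
  · right; exact chi_of_not_mem h

theorem chi_add [Finite F] (x y : F) : chi (x + y) = chi x * chi y := by
  have key := AddSubgroup.add_mem_iff_of_index_two (index_asRange (F := F)) (a := x) (b := y)
  by_cases hx : x ∈ (asHom F).range <;> by_cases hy : y ∈ (asHom F).range
  · rw [chi_of_mem hx, chi_of_mem hy, chi_of_mem (key.mpr (by tauto))]; norm_num
  · rw [chi_of_mem hx, chi_of_not_mem hy, chi_of_not_mem (fun h => by have := key.mp h; tauto)]
    norm_num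
  · rw [chi_of_not_mem hx, chi_of_mem hy, chi_of_not_mem (fun h => by have := key.mp h; tauto)]
    norm_num
  · rw [chi_of_not_mem hx, chi_of_not_mem hy, chi_of_mem (key.mpr (by tauto))]; norm_num

theorem exists_chi_neg [Finite F] : ∃ c : F, chi c = -1 := by
  have : ∃ c : F, c ∉ (asHom F).range := by
    by_contra h
    push Not at h
    have htop : (asHom F).range = ⊤ := by
      ext x; simp [h x]
    have := index_asRange (F := F)
    rw [htop, AddSubgroup.index_top] at this
    omega
  obtain ⟨c, hc⟩ := this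
  exact ⟨c, chi_of_not_mem hc⟩

theorem sum_chi [Fintype F] : ∑ x : F, chi x = 0 := by
  obtain ⟨c, hc⟩ := exists_chi_neg (F := F)
  have h1 : ∑ x : F, chi (x + c) = ∑ x : F, chi x :=
    Fintype.sum_equiv (Equiv.addRight c) _ _ (fun x => rfl)
  simp only [chi_add, hc] at h1
  rw [← Finset.sum_mul] at h1
  omega

theorem sum_chi_mul [Fintype F] {c : F} (hc : c ≠ 0) : ∑ x : F, chi (c * x) = 0 := by
  rw [← sum_chi (F := F)]
  exact Fintype.sum_equiv (Equiv.mulLeft₀ c hc) _ _ (fun x => rfl)

end Cfsg.Agent.Lib.Sp8
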