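import Mathlib

namespace Cfsg.Agent.Lib.Sp8

open Function

/-- if every point of a `σ`-stable finite set has exact period `m`, then `m` divides its size. -/
theorem free_dvd {X : Type*} [DecidableEq X] (σ : X → X) (m : ℕ) (hm : 0 < m) :
    ∀ (n : ℕ) (A : Finset X), A.card = n → (∀ x ∈ A, σ x ∈ A) → (∀ x ∈ A, σ^[m] x = x) →
      (∀ x ∈ A, ∀ j, 0 < j → j < m → σ^[j] x ≠ x) → m ∣ n := by
  intro n
  induction n using Nat.strong_induction_on with
  | _ n ih =>
    intro A hA hst hper hfree
    rcases Finset.eq_empty_or_nonempty A with h0 | ⟨x, hx⟩
    · subst h0; simp at hA; subst hA; exact dvd_zero _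
    · have hiter : ∀ j, σ^[j] x ∈ A := by
        intro j
        induction j with
        | zero => simpa using hx
        | succ j ihj => rw [iterate_succ_apply']; exact hst _ ihj
      set O : Finset X := (Finset.range m).image (fun j => σ^[j] x) with hO
      have hinj : Set.InjOn (fun j => σ^[j] x) (Finset.range m : Set ℕ) := by
        have key : ∀ i j, i < j → j < m → σ^[i] x ≠ σ^[j] x := by
          intro i j hij hjm h
          have h1 : σ^[m - j + i] x = σ^[m - j + j] x := by
            rw [iterate_add_apply, iterate_add_apply (m := m - j) (n := j), h]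
          rw [Nat.sub_add_cancel hjm.le, hper x hx] at h1
          exact hfree x hx (m - j + i) (by omega) (by omega) h1
        intro i hi j hj h
        simp only [Finset.coe_range, Set.mem_Iio] at hi hj
        by_contra hne
        rcases lt_or_gt_of_ne hne with h' | h'
        · exact key i j h' hj h
        · exact key j i h' hi h.symm
      have hOcard : O.card = m := by
        rw [hO, Finset.card_image_of_injOn hinj, Finset.card_range]
      have hOA : O ⊆ A := by
        intro y hy
        rw [hO, Finset.mem_image] at hy
        obtain ⟨j, -, rfl⟩ := hy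
        exact hiter j
      have hcard : (A \ O).card = n - m := by
        rw [Finset.card_sdiff_of_subset hOA, hA, hOcard]
      have hmn : m ≤ n := by rw [← hA, ← hOcard]; exact Finset.card_le_card hOA
      have hst' : ∀ y ∈ A \ O, σ y ∈ A \ O := by
        intro y hy
        rw [Finset.mem_sdiff] at hy ⊢
        refine ⟨hst y hy.1, fun hσ => hy.2 ?_⟩
        rw [hO, Finset.mem_image] at hσ
        obtain ⟨j, -, hj⟩ := hσ
        -- y = σ^[m-1] (σ y) = σ^[m-1+j] x
        have hy' : y = σ^[m - 1 + j] x := by
          rw [iterate_add_apply, hj, ← iterate_succ_apply, Nat.succ_eq_add_one,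
            Nat.sub_add_cancel hm, hper y hy.1]
        -- reduce mod m
        have hred : ∀ k, σ^[k] x ∈ O := by
          intro k
          have : σ^[k] x = σ^[k % m] x := by
            conv_lhs => rw [← Nat.div_add_mod k m]
            rw [Nat.add_comm, iterate_add_apply]
            congr 1
            induction (k / m) with
            | zero => simp
            | succ c ihc => rw [Nat.mul_succ, iterate_add_apply, hper x hx, ihc]
          rw [this, hO, Finset.mem_image]
          exact ⟨k % m, Finset.mem_range.mpr (Nat.mod_lt _ hm), rfl⟩
        rw [hy']; exact hred _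
      have := ih (n - m) (by omega) (A \ O) hcard hst'
        (fun y hy => hper y (Finset.mem_sdiff.mp hy).1)
        (fun y hy => hfree y (Finset.mem_sdiff.mp hy).1)
      have h2 : n = (n - m) + m := by omega
      rw [h2]; exact dvd_add this (dvd_refl m)

end Cfsg.Agent.Lib.Sp8
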