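import Mathlib
import Cfsg.Agent.Lib.Helper7.Sp8Free

namespace Cfsg.Agent.Lib.Sp8

open Function Module

theorem cnt {F V : Type*} [Field F] [Fintype F] [AddCommGroup V] [Module F V]
    [FiniteDimensional F V] (s : Module.End F V) (m : ℕ) (hm : 0 < m) (hsm : s ^ m = 1)
    (hfree : ∀ j, 0 < j → j < m → ∀ x, (s ^ j) x = x → x = 0)
    (W : Submodule F V) (hW : ∀ x ∈ W, s x ∈ W) :
    m ∣ Fintype.card F ^ finrank F W - 1 := by
  classical
  have : Finite V := Module.finite_of_finite F
  let _ := Fintype.ofFinite V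
  set A : Finset V := (Finset.univ.filter (fun x => x ∈ W)).erase 0 with hA
  have hcard : A.card = Fintype.card F ^ finrank F W - 1 := by
    rw [hA, Finset.card_erase_of_mem (by simp), ← Fintype.card_subtype,
      ← Module.card_eq_pow_finrank (K := F) (V := W)]

  have hinj : Function.Injective s := by
    intro x y hxy
    have h1 : (s ^ (m - 1) * s) x = (s ^ (m - 1) * s) y := by
      simp only [Module.End.mul_apply, hxy]
    rwa [← pow_succ, Nat.sub_add_cancel hm, hsm] at h1
  refine free_dvd (⇑s) m hm _ A hcard ?_ ?_ ?_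
  · intro x hx
    rw [hA, Finset.mem_erase, Finset.mem_filter] at hx ⊢
    refine ⟨fun h => hx.1 (hinj (by rw [h, map_zero])), Finset.mem_univ _, hW x hx.2.2⟩
  · intro x _
    rw [← Module.End.pow_apply, hsm]; rfl
  · intro x hx j hj hjm h
    rw [hA, Finset.mem_erase] at hx
    rw [← Module.End.pow_apply] at h
    exact hx.1 (hfree j hj hjm x h)

end Cfsg.Agent.Lib.Sp8
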