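import Mathlib
import Cfsg.Agent.Lib.Helper7.Sp8Arith
import Cfsg.Agent.Lib.Helper7.Sp8Adj
import Cfsg.Agent.Lib.Helper5.AltForm

namespace Cfsg.Agent.Lib.Sp8

open Module

universe u

/-- the statement proved by induction on `n`. -/
def StepP (F : Type*) [Field F] (r n : ℕ) : Prop :=
  ∀ (V : Type u) [AddCommGroup V] [Module F V] [FiniteDimensional F V]
    (B : LinearMap.BilinForm F V), B.IsAlt → (∀ x, (∀ y, B x y = 0) → x = 0) →
    ∀ g : Module.End F V, (∀ x y, B (g x) (g y) = B x y) → finrank F V = 2 * n →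
    ∃ E ∈ T r n, g ^ E = 1

variable {F : Type*} [Field F]

theorem restrict_pow_eq_one {V : Type*} [AddCommGroup V] [Module F V] (g : Module.End F V)
    (W : Submodule F V) (hW : ∀ x ∈ W, g x ∈ W) {E₁ E : ℕ} (hE : E₁ ∣ E)
    (h : (g.restrict hW) ^ E₁ = 1) : ∀ x ∈ W, (g ^ E) x = x := by
  intro x hx
  obtain ⟨c, rfl⟩ := hE
  have h1 : (g.restrict hW) ^ (E₁ * c) = 1 := by rw [pow_mul, h, one_pow]
  have h2 := congrArg (fun φ : Module.End F W => ((φ ⟨x, hx⟩ : W) : V)) h1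
  simp only [Module.End.one_apply] at h2
  rw [Module.End.pow_restrict] at h2
  exact h2

theorem decomp_step {r n : ℕ} (ih : ∀ k, 1 ≤ k → k < n → StepP.{u} F r k) (hn4 : n ≤ 4)
    {V : Type u} [AddCommGroup V] [Module F V] [FiniteDimensional F V]
    (B : LinearMap.BilinForm F V) (hB : B.IsAlt) (hnd : ∀ x, (∀ y, B x y = 0) → x = 0)
    (g : Module.End F V) (hg : ∀ x y, B (g x) (g y) = B x y) (hdim : finrank F V = 2 * n)
    (e : Module.End F V) (he : e * e = e) (hec : Commute e g) (hes : Adj B e e)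
    (he0 : e ≠ 0) (he1 : e ≠ 1) : ∃ E ∈ T r n, g ^ E = 1 := by
  have hee : ∀ x, e (e x) = e x := fun x => by rw [← Module.End.mul_apply, he]
  have hge : ∀ x, g (e x) = e (g x) := fun x => by
    rw [← Module.End.mul_apply, ← Module.End.mul_apply, hec.eq]
  set W₁ : Submodule F V := LinearMap.range e with hW₁
  set W₂ : Submodule F V := LinearMap.ker e with hW₂
  have hW₁g : ∀ x ∈ W₁, g x ∈ W₁ := by
    rintro x ⟨y, rfl⟩
    exact ⟨g y, (hge y).symm⟩
  have hW₂g : ∀ x ∈ W₂, g x ∈ W₂ := by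
    intro x hx
    rw [hW₂, LinearMap.mem_ker] at hx ⊢
    rw [← hge, hx, map_zero]
  have hnd₁ : ∀ x : W₁, (∀ y : W₁, B.restrict W₁ x y = 0) → x = 0 := by
    rintro ⟨x, hx⟩ h
    have hx0 : x = 0 := by
      apply hnd
      intro y
      obtain ⟨x', rfl⟩ := hx
      have h1 : B (e x') (e y) = 0 := h ⟨e y, ⟨y, rfl⟩⟩
      have h2 : B (e x') (y - e y) = 0 := by
        rw [hes, map_sub, hee, sub_self, map_zero]
      have : y = e y + (y - e y) := by abel
      rw [this, map_add, h1, h2, add_zero]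
    exact Subtype.ext hx0
  have hnd₂ : ∀ x : W₂, (∀ y : W₂, B.restrict W₂ x y = 0) → x = 0 := by
    rintro ⟨x, hx⟩ h
    have hx0 : x = 0 := by
      apply hnd
      intro y
      rw [hW₂, LinearMap.mem_ker] at hx
      have h1 : B x (e y) = 0 := by rw [← hes, hx]; simp
      have h2 : B x (y - e y) = 0 :=
        h ⟨y - e y, by rw [hW₂, LinearMap.mem_ker, map_sub, hee, sub_self]⟩
      have : y = e y + (y - e y) := by abel
      rw [this, map_add, h1, h2, add_zero]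
    exact Subtype.ext hx0
  have halt₁ : (B.restrict W₁).IsAlt := fun x => hB x
  have halt₂ : (B.restrict W₂).IsAlt := fun x => hB x
  obtain ⟨n₁, hn₁⟩ := Helper5.AltForm.even_finrank_of_nondegenerate halt₁ hnd₁
  obtain ⟨n₂, hn₂⟩ := Helper5.AltForm.even_finrank_of_nondegenerate halt₂ hnd₂
  have hsum : finrank F W₁ + finrank F W₂ = 2 * n := by
    rw [← hdim]; exact LinearMap.finrank_range_add_finrank_ker e
  have hpos₁ : 0 < finrank F W₁ := by
    rw [Nat.pos_iff_ne_zero, Ne, Submodule.finrank_eq_zero, hW₁, LinearMap.range_eq_bot]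
    exact he0
  have hpos₂ : 0 < finrank F W₂ := by
    rw [Nat.pos_iff_ne_zero, Ne, Submodule.finrank_eq_zero, hW₂]
    intro hker
    apply he1
    ext x
    have : e x - x ∈ LinearMap.ker e := by
      rw [LinearMap.mem_ker, map_sub, hee, sub_self]
    rw [hker, Submodule.mem_bot, sub_eq_zero] at this
    rw [this]; rfl
  have hn₁1 : 1 ≤ n₁ := by omega
  have hn₂1 : 1 ≤ n₂ := by omega
  have hnn : n₁ + n₂ = n := by omega
  obtain ⟨E₁, hE₁, hgE₁⟩ := ih n₁ hn₁1 (by omega) W₁ (B.restrict W₁) halt₁ hnd₁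
    (g.restrict hW₁g) (fun x y => hg x y) (by rw [hn₁]; ring)
  obtain ⟨E₂, hE₂, hgE₂⟩ := ih n₂ hn₂1 (by omega) W₂ (B.restrict W₂) halt₂ hnd₂
    (g.restrict hW₂g) (fun x y => hg x y) (by rw [hn₂]; ring)
  obtain ⟨E, hE, hd₁, hd₂⟩ := T_split r n₁ n₂ hn₁1 hn₂1 (by omega) hE₁ hE₂
  rw [hnn] at hE
  refine ⟨E, hE, ?_⟩
  ext x
  have h1 := restrict_pow_eq_one g W₁ hW₁g hd₁ hgE₁ (e x) ⟨x, rfl⟩
  have h2 := restrict_pow_eq_one g W₂ hW₂g hd₂ hgE₂ (x - e x)
    (by rw [hW₂, LinearMap.mem_ker, map_sub, hee, sub_self])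
  have : x = e x + (x - e x) := by abel
  rw [Module.End.one_apply]
  conv_lhs => rw [this]
  rw [map_add, h1, h2]; abel

end Cfsg.Agent.Lib.Sp8
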