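import Mathlib
import Cfsg.Prelude.Def_Classical
import Cfsg.Agent.Lib.Helper5.SylTor4
import Cfsg.Agent.Lib.Helper7.LawPkgOrth

namespace Cfsg.Agent.Lib.Sp8

open Matrix Module

universe u

variable {F : Type u} [Field F]

/-- the index type of `quadFormMinus 3`. -/
abbrev I8 : Type := (Fin 3 ⊕ Fin 3) ⊕ Fin 2

/-- the polar form of `quadFormMinus 3 F a b` in characteristic `2`. -/
def polarMinus (a : F) : LinearMap.BilinForm F (I8 → F) :=
  LinearMap.mk₂ F (fun v w => (∑ i : Fin 3, (v (.inl (.inl i)) * w (.inl (.inr i)) +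
      v (.inl (.inr i)) * w (.inl (.inl i)))) + a * (v (.inr 0) * w (.inr 1) + v (.inr 1) * w (.inr 0)))
    (by intro v v' w; simp only [Pi.add_apply, Fin.sum_univ_three]; ring)
    (by intro c v w; simp only [Pi.smul_apply, smul_eq_mul, Fin.sum_univ_three]; ring)
    (by intro v w w'; simp only [Pi.add_apply, Fin.sum_univ_three]; ring)
    (by intro c v w; simp only [Pi.smul_apply, smul_eq_mul, Fin.sum_univ_three]; ring)

theorem polarMinus_apply (a : F) (v w : I8 → F) :
    polarMinus a v w = (∑ i : Fin 3, (v (.inl (.inl i)) * w (.inl (.inr i)) +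
      v (.inl (.inr i)) * w (.inl (.inl i)))) + a * (v (.inr 0) * w (.inr 1) + v (.inr 1) * w (.inr 0)) :=
  rfl

theorem quadFormMinus_add [CharP F 2] (a b : F) (v w : I8 → F) :
    Cfsg.quadFormMinus 3 F a b (v + w) =
      Cfsg.quadFormMinus 3 F a b v + Cfsg.quadFormMinus 3 F a b w + polarMinus a v w := by
  have h2 : (2 : F) = 0 := CharTwo.two_eq_zero
  rw [polarMinus_apply]
  unfold Cfsg.quadFormMinus
  simp only [Pi.add_apply, Fin.sum_univ_three]
  linear_combination (v (.inr 0) * w (.inr 0) + b * v (.inr 1) * w (.inr 1)) * h2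

theorem quadFormMinus_smul (a b c : F) (v : I8 → F) :
    Cfsg.quadFormMinus 3 F a b (c • v) = c ^ 2 * Cfsg.quadFormMinus 3 F a b v := by
  unfold Cfsg.quadFormMinus
  simp only [Pi.smul_apply, smul_eq_mul, Fin.sum_univ_three]
  ring

theorem polarMinus_isAlt [CharP F 2] (a : F) : (polarMinus a).IsAlt := by
  intro v
  have h2 : (2 : F) = 0 := CharTwo.two_eq_zero
  rw [polarMinus_apply]
  simp only [Fin.sum_univ_three]
  linear_combination (v (.inl (.inl 0)) * v (.inl (.inr 0)) + v (.inl (.inl 1)) * v (.inl (.inr 1)) +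
    v (.inl (.inl 2)) * v (.inl (.inr 2)) + a * v (.inr 0) * v (.inr 1)) * h2

theorem polarMinus_nondeg {a : F} (ha : a ≠ 0) (v : I8 → F) (hv : ∀ w, polarMinus a v w = 0) :
    v = 0 := by
  funext j
  rcases j with (i | i) | i
  · have := hv (Pi.single (.inl (.inr i)) 1)
    rw [polarMinus_apply] at this
    simpa [Pi.single_apply, Finset.sum_add_distrib] using this
  · have := hv (Pi.single (.inl (.inl i)) 1)
    rw [polarMinus_apply] at this
    simpa [Pi.single_apply, Finset.sum_add_distrib] using this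
  · have h0 := hv (Pi.single (.inr 1) 1)
    have h1 := hv (Pi.single (.inr 0) 1)
    rw [polarMinus_apply] at h0 h1
    simp at h0 h1
    fin_cases i
    · exact h0.resolve_left ha
    · exact h1.resolve_left ha

theorem a_ne_zero_of_aniso [Fintype F] [CharP F 2] {a b : F}
    (han : ∀ z₁ z₂ : F, z₁ ^ 2 + a * z₁ * z₂ + b * z₂ ^ 2 = 0 → z₁ = 0 ∧ z₂ = 0) : a ≠ 0 := by
  rintro rfl
  -- `b` is a square
  obtain ⟨t, ht⟩ : ∃ t : F, t ^ 2 = b := by
    have hinj : Function.Injective (frobenius F 2) := frobenius_inj F 2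
    obtain ⟨t, ht⟩ := (Finite.injective_iff_surjective.mp hinj) b
    exact ⟨t, ht⟩
  have := han t 1 (by
    rw [← ht]
    have h2 : (2 : F) = 0 := CharTwo.two_eq_zero
    linear_combination t ^ 2 * h2)
  exact one_ne_zero this.2

/-- the isometry group acts on the natural module. -/
noncomputable def isoRho (Q : (I8 → F) → F) :
    ↥(Cfsg.isometryGroup F Q) →* ((I8 → F) ≃ₗ[F] (I8 → F)) :=
  ((LinearMap.GeneralLinearGroup.generalLinearEquiv F (I8 → F)).toMonoidHom.comp
    (Matrix.GeneralLinearGroup.toLin (n := I8) (R := F)).toMonoidHom).comp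
    (Cfsg.isometryGroup F Q).subtype

theorem isoRho_apply (Q : (I8 → F) → F) (g : ↥(Cfsg.isometryGroup F Q)) (v : I8 → F) :
    isoRho Q g v = ((g : GL I8 F) : Matrix I8 I8 F) *ᵥ v := rfl

theorem isoRho_injective (Q : (I8 → F) → F) : Function.Injective (isoRho Q) := by
  unfold isoRho
  simp only [MonoidHom.coe_comp, MulEquiv.coe_toMonoidHom]
  exact ((MulEquiv.injective _).comp (MulEquiv.injective _)).comp Subtype.val_injective

theorem exists_embed [Fintype F] [CharP F 2] (a b : F)
    (han : ∀ z₁ z₂ : F, z₁ ^ 2 + a * z₁ * z₂ + b * z₂ ^ 2 = 0 → z₁ = 0 ∧ z₂ = 0) :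
    ∃ φ : ↥(Cfsg.isometryGroup F (Cfsg.quadFormMinus 3 F a b)) →* Matrix.symplecticGroup (Fin 4) F,
      Function.Injective φ := by
  have ha := a_ne_zero_of_aniso han
  have hdim : finrank F (I8 → F) = 2 * 4 := by
    rw [Module.finrank_fintype_fun_eq_card]; rfl
  refine Helper5.SylTor.exists_sp_hom (polarMinus a) (polarMinus_isAlt a) (polarMinus_nondeg ha) hdim
    (isoRho _) (isoRho_injective _) ?_
  intro g x y
  have hg := (Helper7.LawAuxO.mem_isometryGroup_iff _ (g : GL I8 F)).mp g.2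
  have h1 := quadFormMinus_add a b (isoRho _ g x) (isoRho _ g y)
  have h2 := quadFormMinus_add a b x y
  rw [← map_add] at h1
  simp only [isoRho_apply] at h1 ⊢
  rw [hg, hg, hg] at h1
  rw [h2] at h1
  exact (add_left_cancel h1).symm

end Cfsg.Agent.Lib.Sp8
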