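import Mathlib
import Cfsg.Agent.Lib.Helper7.Sp8Adj

namespace Cfsg.Agent.Lib.Sp8

open Module Polynomial

variable {F : Type*} [Field F] {V : Type*} [AddCommGroup V] [Module F V]

theorem exists_pow_eq_one [Finite F] [FiniteDimensional F V] (g : Module.End F V)
    (hinj : Function.Injective g) : ∃ N, 0 < N ∧ g ^ N = 1 := by
  have : Finite V := Module.finite_of_finite F
  have : Finite (Module.End F V) := DFunLike.finite _
  have hpinj : ∀ k : ℕ, Function.Injective ⇑(g ^ k) := by
    intro k
    induction k with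
    | zero => intro x y h; simpa using h
    | succ k ih => rw [pow_succ]; exact ih.comp hinj
  have key : ∀ a b, a < b → g ^ a = g ^ b → ∃ N, 0 < N ∧ g ^ N = 1 := by
    intro a b hab h
    refine ⟨b - a, by omega, ?_⟩
    ext x
    apply hpinj a
    rw [← Module.End.mul_apply, ← pow_add, Nat.add_sub_cancel' hab.le, ← h]; rfl
  obtain ⟨a, b, hab, h⟩ := Finite.exists_ne_map_eq_of_infinite (fun k : ℕ => g ^ k)
  rcases lt_or_gt_of_ne hab with h' | h'
  · exact key a b h' h
  · exact key b a h' h.symm

theorem odd_cast_eq_one [CharP F 2] {m : ℕ} (hm : Odd m) : (m : F) = 1 := by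
  obtain ⟨k, rfl⟩ := hm
  push_cast
  rw [CharTwo.two_eq_zero, zero_mul, zero_add]

theorem free_of_indec [CharP F 2] {B : LinearMap.BilinForm F V} (hB : B.IsAlt)
    (g : Module.End F V) (hg : ∀ x y, B (g x) (g y) = B x y)
    (hI : ∀ e : Module.End F V, e * e = e → Commute e g → Adj B e e → e = 0 ∨ e = 1)
    (b m : ℕ) (hm : Odd m) (hr : (g ^ b) ^ m = 1) (hne : g ^ b ≠ 1) :
    ∀ x, (g ^ b) x = x → x = 0 := by
  set r₀ : Module.End F V := g ^ b with hr₀
  have hm0 : 0 < m := hm.pos
  set π : Module.End F V := ∑ i ∈ Finset.range m, r₀ ^ i with hπ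
  have hm1 : (m : F) = 1 := odd_cast_eq_one hm
  have hmsmul : ∀ φ : Module.End F V, m • φ = φ := fun φ => by
    rw [← Nat.cast_smul_eq_nsmul F, hm1, one_smul]
  have hrπ : r₀ * π = π := by
    rw [hπ, Finset.mul_sum]
    have h1 : ∑ i ∈ Finset.range m, r₀ * r₀ ^ i = ∑ i ∈ Finset.range m, r₀ ^ (i + 1) :=
      Finset.sum_congr rfl fun i _ => (pow_succ' r₀ i).symm
    have h2 := Finset.sum_range_succ' (fun i => r₀ ^ i) m
    have h3 := Finset.sum_range_succ (fun i => r₀ ^ i) m
    rw [h3] at h2
    simp only [hr, pow_zero] at h2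
    rw [h1]
    exact (add_right_cancel h2).symm
  have hpowπ : ∀ i, r₀ ^ i * π = π := by
    intro i
    induction i with
    | zero => simp
    | succ i ih => rw [pow_succ, mul_assoc, hrπ, ih]
  have hππ : π * π = π := by
    conv_lhs => rw [hπ, Finset.sum_mul]
    rw [Finset.sum_congr rfl fun i _ => hpowπ i, Finset.sum_const, Finset.card_range, hmsmul]
  have hcomm : Commute π g := by
    rw [hπ]
    apply Commute.sum_left
    intro i _
    exact ((Commute.refl g).pow_left b).pow_left i
  -- self-adjointness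
  set r₀' : Module.End F V := r₀ ^ (m - 1) with hr₀'
  have hadj : Adj B r₀ r₀' := adj_isom (isom_pow hg b) hm0 hr
  set π' : Module.End F V := ∑ i ∈ Finset.range m, r₀' ^ i with hπ'
  have hadjπ : Adj B π π' := adj_sum _ _ _ fun i _ => adj_pow hadj i
  have hr'π : r₀' * π = π := hpowπ (m - 1)
  have hpow'π : ∀ i, r₀' ^ i * π = π := by
    intro i
    induction i with
    | zero => simp
    | succ i ih => rw [pow_succ, mul_assoc, hr'π, ih]
  have hπ'π : π' * π = π := by
    conv_lhs => rw [hπ', Finset.sum_mul]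
    rw [Finset.sum_congr rfl fun i _ => hpow'π i, Finset.sum_const, Finset.card_range, hmsmul]
  have hself : Adj B π π := by
    have := adj_mul (adj_symm hB hadjπ) hadjπ
    rwa [hπ'π] at this
  intro x hx
  have hpowx : ∀ i, (r₀ ^ i) x = x := by
    intro i
    induction i with
    | zero => simp
    | succ i ih => rw [pow_succ, Module.End.mul_apply, hx, ih]
  have hπx : π x = x := by
    rw [hπ, LinearMap.sum_apply, Finset.sum_congr rfl fun i _ => hpowx i, Finset.sum_const,
      Finset.card_range, ← Nat.cast_smul_eq_nsmul F, hm1, one_smul]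
  rcases hI π hππ hcomm hself with h0 | h1
  · rw [← hπx, h0]; rfl
  · exfalso
    apply hne
    calc r₀ = r₀ * π := by rw [h1, mul_one]
      _ = π := hrπ
      _ = 1 := h1

end Cfsg.Agent.Lib.Sp8
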