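import Mathlib
import Cfsg.Agent.Lib.Helper7.Sp8Adj

namespace Cfsg.Agent.Lib.Sp8

open Module Polynomial

variable {F : Type*} [Field F] {V : Type*} [AddCommGroup V] [Module F V]

theorem commute_aeval_of_commute {s g : Module.End F V} (h : Commute s g) (p : F[X]) :
    Commute (aeval s p) g := by
  rw [aeval_eq_sum_range]
  apply Commute.sum_left
  intro i _
  exact (h.pow_left i).smul_left _

theorem aeval_comm (s : Module.End F V) (p q : F[X]) :
    aeval s p * aeval s q = aeval s q * aeval s p := by
  rw [← map_mul, ← map_mul, mul_comm]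

theorem indec_dichotomy [FiniteDimensional F V] [Nontrivial V]
    {B : LinearMap.BilinForm F V} (hB : B.IsAlt)
    (hnd : ∀ x, (∀ y, B x y = 0) → x = 0) (g : Module.End F V)
    (hI : ∀ e : Module.End F V, e * e = e → Commute e g → Adj B e e → e = 0 ∨ e = 1)
    (s : Module.End F V) (hsg : Commute s g) (k : ℕ) (hadjs : Adj B s (s ^ k)) :
    (∀ p : F[X], aeval s p * aeval s p = aeval s p → aeval s p = 0 ∨ aeval s p = 1) ∨
      ∃ e : Module.End F V, Commute e g ∧ e * e = e ∧ Adj B e (1 - e) := by
  classical
  have hex : ∃ n, ∃ p : F[X], aeval s p * aeval s p = aeval s p ∧ aeval s p ≠ 0 ∧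
      finrank F (LinearMap.range (aeval s p)) = n :=
    ⟨_, 1, by simp, by simp, rfl⟩
  obtain ⟨p₀, hee, he0, hk₀⟩ := Nat.find_spec hex
  set e : Module.End F V := aeval s p₀ with he
  have hmin : ∀ p : F[X], aeval s p * aeval s p = aeval s p → aeval s p ≠ 0 →
      finrank F (LinearMap.range e) ≤ finrank F (LinearMap.range (aeval s p)) := by
    intro p h1 h2
    rw [hk₀]
    exact Nat.find_min' hex ⟨p, h1, h2, rfl⟩
  -- the dichotomy for idempotents in the algebra
  have hdich : ∀ p : F[X], aeval s p * aeval s p = aeval s p →
      e * aeval s p = 0 ∨ e * aeval s p = e := by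
    intro p hp
    set ε := aeval s p with hε
    have hcomm : e * ε = ε * e := aeval_comm s p₀ p
    have hidem : (e * ε) * (e * ε) = e * ε := by
      calc (e * ε) * (e * ε) = e * (ε * e) * ε := by simp only [mul_assoc]
        _ = e * (e * ε) * ε := by rw [hcomm]
        _ = (e * e) * (ε * ε) := by simp only [mul_assoc]
        _ = e * ε := by rw [hee, hp]
    by_cases h0 : e * ε = 0
    · left; exact h0
    · right
      have hmem : e * ε = aeval s (p₀ * p) := by rw [map_mul]
      rw [hmem] at hidem h0
      have hle := hmin (p₀ * p) hidem h0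
      rw [← hmem] at hle hidem
      have hrange : LinearMap.range (e * ε) = LinearMap.range e := by
        apply Submodule.eq_of_le_of_finrank_le
        · rintro x ⟨y, rfl⟩
          exact ⟨ε y, rfl⟩
        · exact hle
      ext x
      have : e x ∈ LinearMap.range (e * ε) := hrange ▸ ⟨x, rfl⟩
      obtain ⟨y, hy⟩ := this
      have h1 : (e * ε) (e x) = e x := by
        rw [← hy, ← Module.End.mul_apply, hidem]
      have h2 : (e * ε) (e x) = (e * ε) x := by
        rw [← Module.End.mul_apply, mul_assoc, ← hcomm, ← mul_assoc, hee]
      rw [← h2, h1]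
  -- the adjoint
  set e' : Module.End F V := aeval (s ^ k) p₀ with he'
  have he'A : e' = aeval s (p₀.comp (X ^ k)) := by
    rw [he', aeval_comp]; simp
  have hadj : Adj B e e' := adj_aeval hadjs p₀
  have he'e' : e' * e' = e' := by
    have h1 : Adj B (e * e) (e' * e') := adj_mul hadj hadj
    rw [hee] at h1
    exact adj_unique hB hnd h1 hadj
  have hce : Commute e g := commute_aeval_of_commute hsg p₀
  have hce' : Commute e' g := by
    rw [he'A]; exact commute_aeval_of_commute hsg _
  have hcomm : e * e' = e' * e := by
    rw [he'A]; exact aeval_comm s _ _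
  set a : Module.End F V := 1 - e with ha
  set b : Module.End F V := 1 - e' with hb
  have haa : a * a = a := by
    rw [ha]; simp only [sub_mul, mul_sub, one_mul, mul_one, hee]; abel
  have hbb : b * b = b := by
    rw [hb]; simp only [sub_mul, mul_sub, one_mul, mul_one, he'e']; abel
  have hab : a * b = b * a := by
    rw [ha, hb]; simp only [sub_mul, mul_sub, one_mul, mul_one, hcomm]; abel
  have hE' : (a * b) * (a * b) = a * b := by
    calc (a * b) * (a * b) = a * (b * a) * b := by simp only [mul_assoc]
      _ = a * (a * b) * b := by rw [hab]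
      _ = (a * a) * (b * b) := by simp only [mul_assoc]
      _ = a * b := by rw [haa, hbb]
  have hEE : (1 - a * b) * (1 - a * b) = 1 - a * b := by
    simp only [sub_mul, mul_sub, one_mul, mul_one, hE']; abel
  have hEc : Commute (1 - a * b) g := by
    apply Commute.sub_left (Commute.one_left g)
    apply Commute.mul_left
    · exact Commute.sub_left (Commute.one_left g) hce
    · exact Commute.sub_left (Commute.one_left g) hce'
  have hEadj : Adj B (1 - a * b) (1 - a * b) := by
    apply adj_sub adj_one
    exact adj_mul (adj_sub adj_one hadj) (adj_sub adj_one (adj_symm hB hadj))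
  have hea : e * a = 0 := by
    rw [ha, mul_sub, mul_one, hee, sub_self]
  have hab0 : a * b = 0 := by
    rcases hI _ hEE hEc hEadj with h | h
    · exfalso
      apply he0
      have h1 : a * b = 1 := by
        have := sub_eq_zero.mp h; exact this.symm
      calc e = e * (a * b) := by rw [h1, mul_one]
        _ = (e * a) * b := by rw [mul_assoc]
        _ = 0 := by rw [hea, zero_mul]
    · have : (1 : Module.End F V) - a * b = 1 - 0 := by rw [h, sub_zero]
      exact sub_right_injective this
  rcases hdich (p₀.comp (X ^ k)) (by rw [← he'A]; exact he'e') with h | h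
  · -- split case
    right
    rw [← he'A] at h
    refine ⟨e, hce, hee, ?_⟩
    have : e' = 1 - e := by
      have h1 : a * b = 1 - e - e' + e * e' := by
        rw [ha, hb]; simp only [sub_mul, mul_sub, one_mul, mul_one]; abel
      rw [hab0, h, add_zero] at h1
      have h2 := sub_eq_zero.mp h1.symm
      exact h2.symm
    rw [← this]; exact hadj
  · -- self-dual case
    left
    rw [← he'A] at h
    have hself : Adj B e e := by
      have := adj_mul hadj (adj_symm hB hadj)
      rwa [h] at this
    have he'e : e' = e := adj_unique hB hnd hadj hself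
    have he1 : e = 1 := by
      rw [hb, he'e, ← ha, haa] at hab0
      rw [ha] at hab0
      exact (sub_eq_zero.mp hab0).symm
    intro p hp
    have := hdich p hp
    rwa [he1, one_mul] at this

end Cfsg.Agent.Lib.Sp8
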