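import Mathlib
import Cfsg.Agent.Lib.Helper7.Sp8Adj

namespace Cfsg.Agent.Lib.Sp8

open Module Polynomial

variable {F : Type*} [Field F] {V : Type*} [AddCommGroup V] [Module F V]

theorem tot_iso_finrank_le [FiniteDimensional F V] {B : LinearMap.BilinForm F V} (hB : B.IsAlt)
    (hnd : ∀ x, (∀ y, B x y = 0) → x = 0) (W : Submodule F V)
    (hW : ∀ x ∈ W, ∀ y ∈ W, B x y = 0) : 2 * finrank F W ≤ finrank F V := by
  have hN : B.Nondegenerate := ⟨hnd, fun y hy => right_nondeg hB hnd y hy⟩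
  have h1 := LinearMap.BilinForm.finrank_orthogonal hN W
  have h2 : W ≤ B.orthogonal W := by
    intro x hx
    rw [LinearMap.BilinForm.mem_orthogonal_iff]
    intro y hy
    exact hW y hy x hx
  have h3 := Submodule.finrank_mono h2
  have h4 := Submodule.finrank_le W
  omega

theorem dvd_of_cnt {q m k : ℕ} (hq : 1 ≤ q) (h : m ∣ q ^ k - 1) :
    orderOf (q : ZMod m) ∣ k := by
  apply orderOf_dvd_of_pow_eq_one
  have h1 : ((q ^ k - 1 : ℕ) : ZMod m) = 0 := (ZMod.natCast_eq_zero_iff _ _).mpr h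
  rw [Nat.cast_sub (Nat.one_le_pow _ _ hq)] at h1
  push_cast at h1
  exact sub_eq_zero.mp h1

theorem dvd_pow_orderOf_sub_one {q m : ℕ} :
    m ∣ q ^ orderOf (q : ZMod m) - 1 := by
  by_cases hq : q = 0
  · subst hq
    by_cases h0 : orderOf ((0 : ℕ) : ZMod m) = 0
    · rw [h0]; simp
    · have := pow_orderOf_eq_one ((0 : ℕ) : ZMod m)
      rw [Nat.cast_zero, zero_pow (by simpa using h0)] at this
      -- 0 = 1 in ZMod m means m = 1
      have hm : m = 1 := by
        have h2 : ((1 : ℕ) : ZMod m) = 0 := by simpa using this.symm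
        have := (ZMod.natCast_eq_zero_iff 1 m).mp h2
        exact Nat.dvd_one.mp this
      rw [hm]; exact one_dvd _
  · have hq1 : 1 ≤ q := Nat.one_le_iff_ne_zero.mpr hq
    rw [← ZMod.natCast_eq_zero_iff, Nat.cast_sub (Nat.one_le_pow _ _ hq1)]
    push_cast
    rw [pow_orderOf_eq_one, sub_self]

theorem char_two_sub_one_pow [CharP F 2] (u : Module.End F V) (t : ℕ) :
    (u - 1) ^ (2 ^ t) = u ^ (2 ^ t) - 1 := by
  have h2 : ∀ φ : Module.End F V, φ + φ = 0 := fun φ => by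
    rw [← two_smul F φ, CharTwo.two_eq_zero, zero_smul]
  induction t with
  | zero => simp
  | succ t ih =>
    rw [pow_succ, pow_mul, ih, pow_mul, sq, sq]
    simp only [sub_mul, mul_sub, one_mul, mul_one]
    have := h2 (u ^ 2 ^ t)
    have h3 : u ^ 2 ^ t * u ^ 2 ^ t - u ^ 2 ^ t - (u ^ 2 ^ t - 1) =
        u ^ 2 ^ t * u ^ 2 ^ t - 1 - (u ^ 2 ^ t + u ^ 2 ^ t) + (1 + 1) := by abel
    rw [h3, this, sub_zero, h2 1, add_zero]

end Cfsg.Agent.Lib.Sp8
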