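import Mathlib

namespace Cfsg.Agent.Lib.Sp8

theorem nt {q m i : ℕ} (hm : Odd m) (hm1 : 1 < m) (h : m ∣ q ^ i + 1) :
    Even (orderOf (q : ZMod m)) ∧ m ∣ q ^ (orderOf (q : ZMod m) / 2) + 1 := by
  have hm3 : 2 < m := by
    rcases hm with ⟨k, rfl⟩; omega
  have : Fact (2 < m) := ⟨hm3⟩
  set a : ZMod m := (q : ZMod m) with ha
  have hai : a ^ i = -1 := by
    have : ((q ^ i + 1 : ℕ) : ZMod m) = 0 := (ZMod.natCast_eq_zero_iff _ _).mpr h
    push_cast at this
    exact eq_neg_of_add_eq_zero_left this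
  have hne : (-1 : ZMod m) ≠ 1 := ZMod.neg_one_ne_one
  have h2i : a ^ (2 * i) = 1 := by rw [mul_comm, pow_mul, hai]; ring
  have hd2i : orderOf a ∣ 2 * i := orderOf_dvd_of_pow_eq_one h2i
  have hdi : ¬ orderOf a ∣ i := by
    intro hd
    have := orderOf_dvd_iff_pow_eq_one.mp hd
    rw [hai] at this; exact hne this
  have heven : Even (orderOf a) := by
    by_contra hodd
    rw [Nat.not_even_iff_odd] at hodd
    have hcop : Nat.Coprime (orderOf a) 2 := Nat.Coprime.symm (Nat.coprime_two_left.mpr hodd)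
    exact hdi (hcop.dvd_of_dvd_mul_left hd2i)
  refine ⟨heven, ?_⟩
  obtain ⟨h', hh'⟩ := heven
  have hh2 : orderOf a / 2 = h' := by omega
  rw [hh2]
  have hh'i : h' ∣ i := by
    rw [hh', ← two_mul] at hd2i
    exact Nat.dvd_of_mul_dvd_mul_left (by norm_num) hd2i
  obtain ⟨j, rfl⟩ := hh'i
  have hjodd : Odd j := by
    by_contra hj
    rw [Nat.not_odd_iff_even] at hj
    obtain ⟨j', rfl⟩ := hj
    apply hdi
    rw [hh']; exact ⟨j', by ring⟩
  have hsq : (a ^ h') ^ 2 = 1 := by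
    rw [← pow_mul, mul_comm, two_mul, ← hh']; exact pow_orderOf_eq_one a
  obtain ⟨j', rfl⟩ := hjodd
  have : a ^ h' = -1 := by
    rw [← hai, pow_mul, pow_succ, pow_mul, hsq, one_pow, one_mul]
  have h3 : ((q ^ h' + 1 : ℕ) : ZMod m) = 0 := by
    push_cast; rw [← ha, this]; ring
  exact (ZMod.natCast_eq_zero_iff _ _).mp h3

end Cfsg.Agent.Lib.Sp8
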