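import Mathlib

namespace Cfsg.Agent.Lib.Sp8

open Polynomial

theorem sr1 {F : Type*} [Field F] [Fintype F] (f : F[X]) (hf : Irreducible f) (m : ℕ)
    (hm : 0 < m) (h1 : f ∣ X ^ m - 1) (h2 : f ∣ f.comp (X ^ (m - 1))) :
    ∃ i, f ∣ X ^ (Fintype.card F ^ i + 1) - 1 := by
  have : Fact (Irreducible f) := ⟨hf⟩
  let K := AdjoinRoot f
  let α : K := AdjoinRoot.root f
  have hf0 : f ≠ 0 := hf.ne_zero
  have : Module.Finite F K := (AdjoinRoot.powerBasis hf0).finite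
  have : Finite K := Module.finite_of_finite F
  have hαm : α ^ m = 1 := by
    have := (AdjoinRoot.mk_eq_zero (f := f) (g := X ^ m - 1)).mpr h1
    rw [map_sub, map_pow, map_one, AdjoinRoot.mk_X, sub_eq_zero] at this
    exact this
  have hα2 : aeval (α ^ (m - 1)) f = 0 := by
    have := (AdjoinRoot.mk_eq_zero (f := f) (g := f.comp (X ^ (m - 1)))).mpr h2
    rw [← AdjoinRoot.aeval_eq, aeval_comp] at this
    simpa using this
  let τ : K →ₐ[F] K := AdjoinRoot.liftAlgHom f (Algebra.ofId F K) (α ^ (m - 1)) (by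
    rw [← hα2]; rfl)
  obtain ⟨n, hn⟩ := (FiniteField.bijective_frobeniusAlgHom_pow F K).2 τ
  refine ⟨n, ?_⟩
  have hτα : τ α = α ^ (m - 1) := AdjoinRoot.liftAlgHom_root _ _ _ _
  have h3 : α ^ (Fintype.card F ^ (n : ℕ)) = α ^ (m - 1) := by
    rw [← hτα, ← hn]
    simp only [AlgHom.coe_pow, FiniteField.coe_frobeniusAlgHom, pow_iterate]
  have h4 : α ^ (Fintype.card F ^ (n : ℕ) + 1) = 1 := by
    rw [pow_succ, h3, ← pow_succ, Nat.sub_add_cancel hm, hαm]
  rw [← AdjoinRoot.mk_eq_zero, map_sub, map_pow, map_one, AdjoinRoot.mk_X, sub_eq_zero]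
  exact h4

end Cfsg.Agent.Lib.Sp8
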