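import Mathlib
import Cfsg.Agent.Lib.Helper7.Sp8Adj
import Cfsg.Agent.Lib.Helper7.Sp8SR1
import Cfsg.Agent.Lib.Helper7.Sp8Indec1

namespace Cfsg.Agent.Lib.Sp8

open Module Polynomial

variable {F : Type*} [Field F] {V : Type*} [AddCommGroup V] [Module F V]

theorem srpoly [Fintype F] [CharP F 2] [FiniteDimensional F V] [Nontrivial V]
    {B : LinearMap.BilinForm F V} (hB : B.IsAlt) (hnd : ∀ x, (∀ y, B x y = 0) → x = 0)
    (s : Module.End F V) (m : ℕ) (hm : Odd m) (hsm : s ^ m = 1)
    (hadjs : Adj B s (s ^ (m - 1)))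
    (htriv : ∀ p : F[X], aeval s p * aeval s p = aeval s p → aeval s p = 0 ∨ aeval s p = 1) :
    ∃ i, s ^ (Fintype.card F ^ i + 1) = 1 := by
  have hint : IsIntegral F s := Algebra.IsIntegral.isIntegral s
  set μ := minpoly F s with hμ
  have hμs : aeval s μ = 0 := minpoly.aeval F s
  have hμ0 : μ ≠ 0 := minpoly.ne_zero hint
  have hμdvd : μ ∣ X ^ m - 1 := minpoly.dvd F s (by simp [hsm])
  have hsep : (X ^ m - 1 : F[X]).Separable := by
    have := separable_X_pow_sub_C (F := F) (n := m) 1 (by rw [odd_cast_eq_one hm]; exact one_ne_zero)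
      one_ne_zero
    simpa using this
  have hμsep : μ.Separable := hsep.of_dvd hμdvd
  have hμu : ¬ IsUnit μ := minpoly.not_isUnit F s
  obtain ⟨f, hf, hfμ⟩ := WfDvdMonoid.exists_irreducible_factor hμu hμ0
  obtain ⟨h, hh⟩ := hfμ
  have hcop : IsCoprime f h := by
    rw [hh] at hμsep; exact hμsep.isCoprime
  obtain ⟨a, b, hab⟩ := hcop
  set ε : Module.End F V := aeval s (b * h) with hε
  have hε1 : aeval s (a * f) + ε = 1 := by
    rw [hε, ← map_add, hab, map_one]
  have hε0 : ε * aeval s (a * f) = 0 := by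
    rw [hε, ← map_mul]
    have : b * h * (a * f) = (a * b) * μ := by rw [hh]; ring
    rw [this, map_mul, hμs, mul_zero]
  have hεε : ε * ε = ε := by
    have : ε * (aeval s (a * f) + ε) = ε := by rw [hε1, mul_one]
    rwa [mul_add, hε0, zero_add] at this
  have hfs : aeval s f = 0 := by
    rcases htriv (b * h) hεε with h0 | h1
    · exfalso
      rw [← hε] at h0
      rw [h0, add_zero] at hε1
      have hhs : aeval s h = 0 := by
        have : aeval s h = aeval s h * aeval s (a * f) := by rw [hε1, mul_one]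
        rw [this, ← map_mul]
        have : h * (a * f) = a * μ := by rw [hh]; ring
        rw [this, map_mul, hμs, mul_zero]
      have hμh : μ ∣ h := minpoly.dvd F s hhs
      have hh0 : h ≠ 0 := by
        rintro rfl; rw [mul_zero] at hh; exact hμ0 hh
      rw [hh] at hμh
      have : f * h ∣ 1 * h := by rwa [one_mul]
      have hf1 : f ∣ 1 := (mul_dvd_mul_iff_right hh0).mp this
      exact hf.not_isUnit (isUnit_of_dvd_one hf1)
    · rw [← hε] at h1
      have : aeval s f = aeval s f * ε := by rw [h1, mul_one]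
      rw [this, hε, ← map_mul]
      have : f * (b * h) = b * μ := by rw [hh]; ring
      rw [this, map_mul, hμs, mul_zero]
  have hfs' : aeval (s ^ (m - 1)) f = 0 := by
    have hadj := adj_aeval hadjs f
    ext y
    apply right_nondeg hB hnd
    intro x
    rw [← hadj x y, hfs]; simp
  have hfμ : f ∣ μ := ⟨h, hh⟩
  have h1 : f ∣ X ^ m - 1 := hfμ.trans hμdvd
  have h2 : f ∣ f.comp (X ^ (m - 1)) := by
    apply hfμ.trans
    apply minpoly.dvd F s
    rw [aeval_comp]; simpa using hfs'
  obtain ⟨i, c, hc⟩ := sr1 f hf m hm.pos h1 h2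
  refine ⟨i, ?_⟩
  have : aeval s (X ^ (Fintype.card F ^ i + 1) - 1 : F[X]) = 0 := by
    rw [hc, map_mul, hfs, zero_mul]
  simpa [sub_eq_zero] using this

end Cfsg.Agent.Lib.Sp8
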