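import Mathlib
import Cfsg.Agent.Lib.Helper7.Sp8Arith
import Cfsg.Agent.Lib.Helper7.Sp8Adj
import Cfsg.Agent.Lib.Helper7.Sp8Cnt
import Cfsg.Agent.Lib.Helper7.Sp8Chain
import Cfsg.Agent.Lib.Helper7.Sp8NT
import Cfsg.Agent.Lib.Helper7.Sp8Indec1
import Cfsg.Agent.Lib.Helper7.Sp8Indec2
import Cfsg.Agent.Lib.Helper7.Sp8Indec3
import Cfsg.Agent.Lib.Helper7.Sp8SRPoly

namespace Cfsg.Agent.Lib.Sp8

open Module Polynomial

variable {F : Type*} [Field F] {V : Type*} [AddCommGroup V] [Module F V]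

theorem indec_step [Fintype F] [CharP F 2] {r n : ℕ} (hq : Fintype.card F = r + 1)
    (hn1 : 1 ≤ n) (hn4 : n ≤ 4) [FiniteDimensional F V]
    {B : LinearMap.BilinForm F V} (hB : B.IsAlt) (hnd : ∀ x, (∀ y, B x y = 0) → x = 0)
    (g : Module.End F V) (hg : ∀ x y, B (g x) (g y) = B x y) (hdim : finrank F V = 2 * n)
    (hI : ∀ e : Module.End F V, e * e = e → Commute e g → Adj B e e → e = 0 ∨ e = 1) :
    ∃ E ∈ T r n, g ^ E = 1 := by
  have hVnt : Nontrivial V := Module.nontrivial_of_finrank_pos (R := F) (by omega)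
  have hginj : Function.Injective g := by
    intro x y hxy
    rw [← sub_eq_zero]; apply hnd; intro z
    rw [← hg, map_sub, hxy, sub_self]; simp
  obtain ⟨N, hN0, hN⟩ := exists_pow_eq_one g hginj
  have ho : 0 < orderOf g := orderOf_pos_iff.mpr (isOfFinOrder_iff_pow_eq_one.mpr ⟨N, hN0, hN⟩)
  obtain ⟨c, m, hmodd, hcm⟩ := Nat.exists_eq_two_pow_mul_odd ho.ne'
  set s := g ^ (2 ^ c) with hs
  set u := g ^ m with hu
  have hsm : s ^ m = 1 := by rw [hs, ← pow_mul, ← hcm, pow_orderOf_eq_one]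
  have huc : u ^ (2 ^ c) = 1 := by rw [hu, ← pow_mul, mul_comm, ← hcm, pow_orderOf_eq_one]
  have hos : orderOf s = m := by
    rw [hs, orderOf_pow_of_dvd (by positivity) ⟨m, hcm⟩, hcm,
      Nat.mul_div_cancel_left _ (by positivity)]
  have hou : orderOf u = 2 ^ c := by
    rw [hu, orderOf_pow_of_dvd hmodd.pos.ne' ⟨2 ^ c, by rw [hcm, mul_comm]⟩, hcm,
      Nat.mul_div_cancel _ hmodd.pos]
  have hsg : Commute s g := (Commute.refl g).pow_left _
  have hsu : Commute s u := hsg.pow_right _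
  have fin : ∀ M t E, m ∣ M → u ^ (2 ^ t) = 1 → 2 ^ t * M ∣ E → g ^ E = 1 := by
    intro M t E hM hut hE
    apply orderOf_dvd_iff_pow_eq_one.mp
    rw [hcm]
    have h2 : 2 ^ c ∣ 2 ^ t := by rw [← hou]; exact orderOf_dvd_of_pow_eq_one hut
    exact (Nat.mul_dvd_mul h2 hM).trans hE
  have hnil : ∃ L, (u - 1) ^ L = 0 := ⟨2 ^ c, by rw [char_two_sub_one_pow, huc, sub_self]⟩
  have hunip : ∀ k, k ≤ 8 → (∀ x, ((u - 1) ^ k) x = 0) → u ^ (2 ^ tk k) = 1 := by
    intro k hk h
    have hk0 : (u - 1) ^ k = 0 := LinearMap.ext h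
    have := le_two_pow_tk hk
    have h1 : (u - 1) ^ (2 ^ tk k) = 0 := by
      rw [← Nat.sub_add_cancel this, pow_add, hk0, mul_zero]
    rw [char_two_sub_one_pow] at h1
    exact sub_eq_zero.mp h1
  have hsu' : Commute s (u - 1) := hsu.sub_right (Commute.one_right s)
  rcases Nat.lt_or_ge 1 m with hm1 | hm1
  swap
  · -- `m = 1`: unipotent
    have hm : m = 1 := by have := hmodd.pos; omega
    have hchain := chain (1 : Module.End F V) (u - 1) (Commute.one_left _) hnil ⊤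
      (fun _ _ => trivial) (fun _ _ => trivial) 1 (2 * n) one_pos
      (by rw [finrank_top, hdim, one_mul]) (fun _ _ _ => one_dvd _)
    have h1 := hunip (2 * n) (by omega) (fun x => hchain x trivial)
    obtain ⟨E, hE, hdvd⟩ := T_unip r n hn1 hn4
    exact ⟨E, hE, fin 1 _ E (by rw [hm]) h1 (by rwa [mul_one])⟩
  have hfree : ∀ j, 0 < j → j < m → ∀ x, (s ^ j) x = x → x = 0 := by
    intro j hj hjm
    have h1 : s ^ j = g ^ (2 ^ c * j) := by rw [hs, pow_mul]
    rw [h1]
    apply free_of_indec hB g hg hI (2 ^ c * j) m hmodd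
    · rw [← h1, ← pow_mul, mul_comm, pow_mul, hsm, one_pow]
    · rw [← h1]; exact pow_ne_one_of_lt_orderOf hj.ne' (by rw [hos]; exact hjm)
  have hq1 : 1 ≤ r + 1 := by omega
  set d' := orderOf ((r + 1 : ℕ) : ZMod m) with hd'
  have hcnt : ∀ W : Submodule F V, (∀ x ∈ W, s x ∈ W) → d' ∣ finrank F W := by
    intro W hW
    have := cnt s m hmodd.pos hsm hfree W hW
    rw [hq] at this
    exact dvd_of_cnt hq1 this
  have hd'2n : d' ∣ 2 * n := by
    have := hcnt ⊤ (fun _ _ => trivial)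
    rwa [finrank_top, hdim] at this
  have hd'pos : 0 < d' := Nat.pos_of_dvd_of_pos hd'2n (by omega)
  have hmM : m ∣ (r + 1) ^ d' - 1 := dvd_pow_orderOf_sub_one
  have hadjs : Adj B s (s ^ (m - 1)) := adj_isom (isom_pow hg _) hmodd.pos hsm
  rcases indec_dichotomy hB hnd g hI s hsg (m - 1) hadjs with htriv | ⟨e, hec, hee, hadje⟩
  · -- self-dual case
    obtain ⟨i, hi⟩ := srpoly hB hnd s m hmodd hsm hadjs htriv
    have hmi : m ∣ (r + 1) ^ i + 1 := by
      rw [← hos, ← hq]; exact orderOf_dvd_of_pow_eq_one hi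
    obtain ⟨heven, hmh⟩ := nt hmodd hm1 hmi
    rw [← hd'] at heven hmh
    obtain ⟨i', hi'⟩ := heven
    have hi'2 : d' / 2 = i' := by omega
    rw [hi'2] at hmh
    obtain ⟨k, hk⟩ := hd'2n
    have hnik : n = i' * k := by
      have : 2 * n = 2 * (i' * k) := by rw [hk, hi']; ring
      omega
    have hi'1 : 1 ≤ i' := by omega
    have hk1 : 1 ≤ k := by
      rcases Nat.eq_zero_or_pos k with h | h
      · subst h; omega
      · exact h
    have hchain := chain s (u - 1) hsu' hnil ⊤ (fun _ _ => trivial) (fun _ _ => trivial) d' k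
      hd'pos (by rw [finrank_top, hdim, hk]) (fun W _ hW => hcnt W hW)
    have hk8 : k ≤ 8 := by nlinarith
    have h1 := hunip k hk8 (fun x => hchain x trivial)
    obtain ⟨E, hE, hdvd⟩ := T_sr r i' k hi'1 hk1 (by rw [← hnik]; exact hn4)
    rw [← hnik] at hE
    exact ⟨E, hE, fin _ _ E hmh h1 hdvd⟩
  · -- split case
    have heex : ∀ x, e (e x) = e x := fun x => by rw [← Module.End.mul_apply, hee]
    set W₁ : Submodule F V := LinearMap.range e with hW₁
    set W₂ : Submodule F V := LinearMap.ker e with hW₂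
    have hiso₁ : ∀ x ∈ W₁, ∀ y ∈ W₁, B x y = 0 := by
      rintro _ ⟨x, rfl⟩ _ ⟨y, rfl⟩
      rw [hadje, LinearMap.sub_apply, Module.End.one_apply, heex, sub_self, map_zero]
    have hiso₂ : ∀ x ∈ W₂, ∀ y ∈ W₂, B x y = 0 := by
      intro x hx y hy
      have hadj' : Adj B (1 - e) e := adj_symm hB hadje
      have hx' : (1 - e) x = x := by
        rw [LinearMap.sub_apply, Module.End.one_apply, LinearMap.mem_ker.mp hx, sub_zero]
      rw [← hx', hadj', LinearMap.mem_ker.mp hy, map_zero]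
    have h1 := tot_iso_finrank_le hB hnd W₁ hiso₁
    have h2 := tot_iso_finrank_le hB hnd W₂ hiso₂
    have h3 : finrank F W₁ + finrank F W₂ = finrank F V :=
      LinearMap.finrank_range_add_finrank_ker e
    have hf₁ : finrank F W₁ = n := by omega
    have hf₂ : finrank F W₂ = n := by omega
    have hcomm_pow : ∀ j, Commute e (g ^ j) := fun j => hec.pow_right j
    have hinv₁ : ∀ (φ : Module.End F V), Commute e φ → ∀ x ∈ W₁, φ x ∈ W₁ := by
      rintro φ hφ _ ⟨y, rfl⟩
      exact ⟨φ y, by rw [← Module.End.mul_apply, ← Module.End.mul_apply, hφ.eq]⟩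
    have hinv₂ : ∀ (φ : Module.End F V), Commute e φ → ∀ x ∈ W₂, φ x ∈ W₂ := by
      intro φ hφ x hx
      rw [hW₂, LinearMap.mem_ker] at hx ⊢
      rw [← Module.End.mul_apply, hφ.eq, Module.End.mul_apply, hx, map_zero]
    have hes : Commute e s := hcomm_pow _
    have heu : Commute e (u - 1) := (hcomm_pow _).sub_right (Commute.one_right e)
    obtain ⟨k, hk⟩ := hcnt W₁ (hinv₁ s hes)
    rw [hf₁] at hk
    have hch₁ := chain s (u - 1) hsu' hnil W₁ (hinv₁ s hes) (hinv₁ _ heu) d' k hd'pos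
      (hf₁.trans hk) (fun W _ hW => hcnt W hW)
    have hch₂ := chain s (u - 1) hsu' hnil W₂ (hinv₂ s hes) (hinv₂ _ heu) d' k hd'pos
      (hf₂.trans hk) (fun W _ hW => hcnt W hW)
    have hall : ∀ x, ((u - 1) ^ k) x = 0 := by
      intro x
      have : x = e x + (x - e x) := by abel
      rw [this, map_add, hch₁ _ ⟨x, rfl⟩,
        hch₂ _ (by rw [hW₂, LinearMap.mem_ker, map_sub, heex, sub_self]), add_zero]
    have hk1 : 1 ≤ k := by
      rcases Nat.eq_zero_or_pos k with h | h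
      · subst h; omega
      · exact h
    have h1' := hunip k (by nlinarith) hall
    obtain ⟨E, hE, hdvd⟩ := T_spl r d' k hd'pos hk1 (by rw [← hk]; exact hn4)
    rw [← hk] at hE
    exact ⟨E, hE, fin _ _ E hmM h1' hdvd⟩

end Cfsg.Agent.Lib.Sp8
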