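import Mathlib
import Cfsg.Agent.Lib.Helper7.Sp8Decomp
import Cfsg.Agent.Lib.Helper7.Sp8Indec4
import Cfsg.Agent.Lib.Helper2.SpIsom
import Cfsg.Agent.Lib.Helper1.SpBasic

namespace Cfsg.Agent.Lib.Sp8

open Module

universe u

theorem stepA {F : Type*} [Field F] [Fintype F] [CharP F 2] {r : ℕ}
    (hq : Fintype.card F = r + 1) : ∀ n, 1 ≤ n → n ≤ 4 → StepP.{u} F r n := by
  intro n
  induction n using Nat.strong_induction_on with
  | _ n ih =>
    intro hn1 hn4 V _ _ _ B hB hnd g hg hdim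
    by_cases h : ∃ e : Module.End F V, e * e = e ∧ Commute e g ∧ Adj B e e ∧ e ≠ 0 ∧ e ≠ 1
    · obtain ⟨e, he, hec, hes, he0, he1⟩ := h
      exact decomp_step (fun k hk1 hkn => ih k hkn hk1 (by omega)) hn4 B hB hnd g hg hdim e he hec
        hes he0 he1
    · apply indec_step hq hn1 hn4 hB hnd g hg hdim
      intro e he hec hes
      by_contra hcon
      push Not at hcon
      exact h ⟨e, he, hec, hes, hcon.1, hcon.2⟩

theorem stepA_matrix {F : Type u} [Field F] [Fintype F] [CharP F 2] {r : ℕ}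
    (hq : Fintype.card F = r + 1) (M : Matrix.symplecticGroup (Fin 4) F) :
    ∃ E ∈ T r 4, M ^ E = 1 := by
  set g : Module.End F (Fin 4 ⊕ Fin 4 → F) :=
    Matrix.toLin' (M : Matrix (Fin 4 ⊕ Fin 4) (Fin 4 ⊕ Fin 4) F) with hg
  have hform : ∀ x y, Helper2.SpIsom.sympBilin 4 F (g x) (g y) = Helper2.SpIsom.sympBilin 4 F x y := by
    intro x y
    rw [Helper2.SpIsom.sympBilin_apply, Helper2.SpIsom.sympBilin_apply, hg, Matrix.toLin'_apply,
      Matrix.toLin'_apply]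
    exact Helper1.SpBasic.form_mulVec M x y
  have hdim : finrank F (Fin 4 ⊕ Fin 4 → F) = 2 * 4 := by
    rw [Module.finrank_fintype_fun_eq_card]; rfl
  obtain ⟨E, hE, hgE⟩ := stepA.{u} hq 4 (by norm_num) le_rfl (Fin 4 ⊕ Fin 4 → F)
    (Helper2.SpIsom.sympBilin 4 F) Helper2.SpIsom.sympBilin_isAlt
    (fun x hx => Helper2.SpIsom.sympForm_nondeg x (fun y => by
      rw [← Helper2.SpIsom.sympBilin_apply]; exact hx y)) g hform hdim
  refine ⟨E, hE, ?_⟩
  apply Subtype.ext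
  rw [SubmonoidClass.coe_pow]
  apply Matrix.toLin'.injective
  rw [Matrix.toLin'_pow, ← hg, hgE, OneMemClass.coe_one, Matrix.toLin'_one]
  rfl

end Cfsg.Agent.Lib.Sp8
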