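import Mathlib
import Cfsg.Agent.Lib.Helper7.Sp8StepA
import Cfsg.Agent.Lib.Helper7.Sp8Embed
import Cfsg.Agent.S0246

namespace Cfsg.Agent.Lib.Sp8

open Matrix Module

universe u

variable {F : Type u} [Field F]

theorem center_sp_eq_bot [Fintype F] [CharP F 2] :
    Subgroup.center (Matrix.symplecticGroup (Fin 4) F) = ⊥ := by
  rw [← Subgroup.card_eq_one, Cfsg.Agent.S0246.result (q := Fintype.card F) rfl 4 (by norm_num)]
  obtain ⟨n, hn⟩ := FiniteField.card F 2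
  rw [hn.2]
  have h1 : 1 ≤ (n : ℕ) := n.pos
  obtain ⟨k, hk⟩ : ∃ k, (n : ℕ) = k + 1 := ⟨n - 1, by omega⟩
  rw [hk, pow_succ]
  have : Odd (2 ^ k * 2 - 1) := by
    have : 1 ≤ 2 ^ k := Nat.one_le_two_pow
    exact ⟨2 ^ k - 1, by omega⟩
  exact Nat.coprime_two_left.mpr this

theorem main_of_realize [Fintype F] [CharP F 2] (a b : F)
    (han : ∀ z₁ z₂ : F, z₁ ^ 2 + a * z₁ * z₂ + b * z₂ ^ 2 = 0 → z₁ = 0 ∧ z₂ = 0)
    {r : ℕ} (hq : Fintype.card F = r + 1)
    (hreal : ∀ E ∈ T r 4, ∃ x : ↥(Cfsg.isometryGroup F (Cfsg.quadFormMinus 3 F a b)), orderOf x = E) :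
    Set.range (orderOf : Cfsg.PSp 4 F → ℕ) =
      Set.range (orderOf : ↥(Cfsg.isometryGroup F (Cfsg.quadFormMinus 3 F a b)) → ℕ) := by
  have hc := center_sp_eq_bot (F := F)
  have hinj : Function.Injective
      (QuotientGroup.mk' (Subgroup.center (Matrix.symplecticGroup (Fin 4) F))) := by
    rw [← MonoidHom.ker_eq_bot_iff, QuotientGroup.ker_mk', hc]
  have hord : ∀ x : Matrix.symplecticGroup (Fin 4) F,
      orderOf (QuotientGroup.mk' (Subgroup.center (Matrix.symplecticGroup (Fin 4) F)) x) =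
        orderOf x := fun x => orderOf_injective _ hinj x
  obtain ⟨φ, hφ⟩ := exists_embed a b han
  apply Set.eq_of_subset_of_subset
  · rintro n ⟨xbar, rfl⟩
    obtain ⟨x, rfl⟩ := QuotientGroup.mk'_surjective _ xbar
    rw [hord]
    obtain ⟨E, hE, hxE⟩ := stepA_matrix hq x
    have hdvd : orderOf x ∣ E := orderOf_dvd_of_pow_eq_one hxE
    obtain ⟨y, hy⟩ := hreal E hE
    have hEpos : 0 < E := hy ▸ orderOf_pos y
    have hxpos : 0 < orderOf x := orderOf_pos x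
    obtain ⟨c, hc'⟩ := hdvd
    have hcpos : 0 < c := by
      rcases Nat.eq_zero_or_pos c with h | h
      · subst h; omega
      · exact h
    refine ⟨y ^ c, ?_⟩
    rw [orderOf_pow_of_dvd hcpos.ne' ⟨orderOf x, by rw [hy, hc', mul_comm]⟩, hy, hc',
      Nat.mul_div_cancel _ hcpos]
  · rintro n ⟨y, rfl⟩
    refine ⟨QuotientGroup.mk' _ (φ y), ?_⟩
    rw [hord, orderOf_injective φ hφ y]

end Cfsg.Agent.Lib.Sp8
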