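import Mathlib
import Cfsg.Agent.Lib.Helper7.Sp8Chi
import Cfsg.Agent.Lib.Helper7.Sp8Free

namespace Cfsg.Agent.Lib.Sp8

open Module

variable {F : Type*} [Field F] {V : Type*} [AddCommGroup V] [Module F V]

/-- `Q` is a quadratic form with polar form `B`. -/
structure IsQuad (Q : V → F) (B : LinearMap.BilinForm F V) : Prop where
  smul : ∀ (a : F) (v : V), Q (a • v) = a ^ 2 * Q v
  add : ∀ v w, Q (v + w) = Q v + Q w + B v w

namespace IsQuad

variable {Q : V → F} {B : LinearMap.BilinForm F V}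

theorem zero (h : IsQuad Q B) : Q 0 = 0 := by
  have := h.smul 0 0
  simpa using this

theorem symm (h : IsQuad Q B) (v w : V) : B v w = B w v := by
  have h1 := h.add v w
  have h2 := h.add w v
  rw [add_comm w v, h1] at h2
  linear_combination h2

theorem alt [CharP F 2] (h : IsQuad Q B) (v : V) : B v v = 0 := by
  have h1 := h.add v v
  have h2 : v + v = (0 : V) := by
    rw [← two_smul F v, CharTwo.two_eq_zero, zero_smul]
  rw [h2, h.zero, CharTwo.add_self_eq_zero, zero_add] at h1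
  exact h1.symm

theorem isAlt [CharP F 2] (h : IsQuad Q B) : B.IsAlt := fun v => h.alt v

end IsQuad

variable [CharP F 2]

/-- the character sum of a function `Q : V → F`. -/
noncomputable def gsum (Q : V → F) : ℤ := ∑ᶠ v, chi (Q v)

omit [AddCommGroup V] [Module F V] in
theorem gsum_eq [Fintype V] (Q : V → F) : gsum Q = ∑ v, chi (Q v) :=
  finsum_eq_sum_of_fintype _

theorem gsum_prod [Finite F] {V₁ V₂ : Type*} [Finite V₁] [Finite V₂] (Q₁ : V₁ → F) (Q₂ : V₂ → F) :
    gsum (fun p : V₁ × V₂ => Q₁ p.1 + Q₂ p.2) = gsum Q₁ * gsum Q₂ := by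
  have := Fintype.ofFinite V₁
  have := Fintype.ofFinite V₂
  unfold gsum
  rw [finsum_eq_sum_of_fintype, finsum_eq_sum_of_fintype, finsum_eq_sum_of_fintype,
    Fintype.sum_prod_type, Finset.sum_mul_sum]
  simp only [chi_add]

theorem gsum_equiv {V W : Type*} [Finite V] [Finite W] (φ : V ≃ W) (Q : V → F) (Q' : W → F)
    (h : ∀ v, Q' (φ v) = Q v) : gsum Q' = gsum Q := by
  have := Fintype.ofFinite V
  have := Fintype.ofFinite W
  unfold gsum
  rw [finsum_eq_sum_of_fintype, finsum_eq_sum_of_fintype]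
  exact (Fintype.sum_equiv φ _ _ (fun v => by rw [h])).symm

theorem sum_chi_functional [Finite F] [Fintype V] (φ : V →ₗ[F] F) (hφ : φ ≠ 0) :
    ∑ v, chi (φ v) = 0 := by
  obtain ⟨v₁, hv₁⟩ : ∃ v₁, φ v₁ ≠ 0 := by
    by_contra h
    push Not at h
    exact hφ (LinearMap.ext h)
  obtain ⟨c, hc⟩ := exists_chi_neg (F := F)
  set v₀ : V := (c / φ v₁) • v₁ with hv₀
  have hφv₀ : φ v₀ = c := by
    rw [hv₀, map_smul, smul_eq_mul, div_mul_cancel₀ _ hv₁]
  have h1 : ∑ v, chi (φ (v + v₀)) = ∑ v, chi (φ v) :=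
    Fintype.sum_equiv (Equiv.addRight v₀) _ _ (fun x => rfl)
  simp only [map_add, chi_add, hφv₀, hc] at h1
  rw [← Finset.sum_mul] at h1
  omega

theorem gsum_sq [Finite F] [Finite V] {Q : V → F} {B : LinearMap.BilinForm F V} (hQ : IsQuad Q B)
    (hnd : ∀ x, (∀ y, B x y = 0) → x = 0) : gsum Q * gsum Q = (Nat.card V : ℤ) := by
  classical
  have := Fintype.ofFinite V
  rw [gsum_eq, Finset.sum_mul_sum]
  have h1 : ∀ v : V, ∑ w, chi (Q v) * chi (Q w) = ∑ u, chi (Q u) * chi (B v u) := by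
    intro v
    rw [← Fintype.sum_equiv (Equiv.addLeft v) (fun u => chi (Q v) * chi (Q (v + u))) _
      (fun u => rfl)]
    apply Finset.sum_congr rfl
    intro u _
    rw [hQ.add, ← chi_add, ← chi_add]
    congr 1
    have := CharTwo.add_self_eq_zero (Q v)
    linear_combination this
  rw [Finset.sum_congr rfl (fun v _ => h1 v), Finset.sum_comm]
  simp only [← Finset.mul_sum]
  rw [Finset.sum_eq_single 0]
  · simp [hQ.zero, chi_zero, Nat.card_eq_fintype_card]
  · intro u _ hu
    have hne : (LinearMap.flip B u) ≠ 0 := by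
      intro h0
      apply hu
      apply hnd
      intro y
      rw [hQ.symm u y]
      have := LinearMap.congr_fun h0 y
      simpa using this
    have := sum_chi_functional (LinearMap.flip B u) hne
    simp only [LinearMap.flip_apply] at this
    rw [this, mul_zero]
  · intro h; exact absurd (Finset.mem_univ _) h

omit [Module F V] in
/-- a fixed-point-free isometry of order `N` forces `gsum Q ≡ 1 mod N`. -/
theorem gsum_modEq [Finite V] {Q : V → F} (hQ0 : Q 0 = 0) (g : V → V) (N : ℕ) (hN : 0 < N)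
    (hg0 : ∀ v, g v = 0 ↔ v = 0) (hgQ : ∀ v, Q (g v) = Q v) (hper : ∀ v, g^[N] v = v)
    (hfree : ∀ v, v ≠ 0 → ∀ j, 0 < j → j < N → g^[j] v ≠ v) : (N : ℤ) ∣ gsum Q - 1 := by
  classical
  have := Fintype.ofFinite V
  rw [gsum_eq]
  set A : Finset V := (Finset.univ.erase 0).filter (fun v => chi (Q v) = 1) with hA
  set A' : Finset V := (Finset.univ.erase 0).filter (fun v => ¬ chi (Q v) = 1) with hA'
  have hsplit : ∑ v, chi (Q v) = 1 + ((A.card : ℤ) - A'.card) := by
    rw [← Finset.add_sum_erase Finset.univ _ (Finset.mem_univ (0 : V)), hQ0, chi_zero,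
      ← Finset.sum_filter_add_sum_filter_not (Finset.univ.erase 0) (fun v => chi (Q v) = 1)]
    congr 1
    have hs1 : ∑ v ∈ (Finset.univ.erase 0).filter (fun v => chi (Q v) = 1), chi (Q v) =
        (A.card : ℤ) := by
      rw [Finset.sum_congr rfl (g := fun _ => (1 : ℤ)) (fun v hv => (Finset.mem_filter.mp hv).2)]
      simp [hA]
    have hs2 : ∑ v ∈ (Finset.univ.erase 0).filter (fun v => ¬ chi (Q v) = 1), chi (Q v) =
        -(A'.card : ℤ) := by
      rw [Finset.sum_congr rfl (g := fun _ => (-1 : ℤ)) (fun v hv => by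
        rcases chi_eq_one_or (Q v) with h | h
        · exact absurd h (Finset.mem_filter.mp hv).2
        · exact h)]
      simp [hA']
    rw [hs1, hs2]; ring
  have hdvd : ∀ (P : V → Prop) [DecidablePred P], (∀ v, P (g v) ↔ P v) →
      N ∣ ((Finset.univ.erase 0).filter P).card := by
    intro P _ hP
    refine free_dvd g N hN _ _ rfl ?_ ?_ ?_
    · intro v hv
      rw [Finset.mem_filter, Finset.mem_erase] at hv ⊢
      exact ⟨⟨fun h => hv.1.1 ((hg0 v).mp h), Finset.mem_univ _⟩, (hP v).mpr hv.2⟩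
    · intro v _; exact hper v
    · intro v hv
      rw [Finset.mem_filter, Finset.mem_erase] at hv
      exact hfree v hv.1.1
  have h1 := hdvd (fun v => chi (Q v) = 1) (fun v => by rw [hgQ])
  have h2 := hdvd (fun v => ¬ chi (Q v) = 1) (fun v => by rw [hgQ])
  rw [hsplit]
  have : (1 : ℤ) + ((A.card : ℤ) - A'.card) - 1 = (A.card : ℤ) - A'.card := by ring
  rw [this]
  exact dvd_sub (Int.natCast_dvd_natCast.mpr h1) (Int.natCast_dvd_natCast.mpr h2)

end Cfsg.Agent.Lib.Sp8
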