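import Mathlib
import Cfsg.Agent.Lib.Helper7.Sp8Quad

namespace Cfsg.Agent.Lib.Sp8

open Module

universe u

variable {F : Type*} [Field F]

/-- orthogonal sum of two functions. -/
def oplus {V₁ V₂ : Type*} (Q₁ : V₁ → F) (Q₂ : V₂ → F) : V₁ × V₂ → F := fun p => Q₁ p.1 + Q₂ p.2

/-- the hyperbolic plane. -/
def hypQ (F : Type*) [Field F] : F × F → F := fun p => p.1 * p.2

/-- the binary form `z₁² + a z₁ z₂ + b z₂²`. -/
def binQ (a b : F) : F × F → F := fun z => z.1 ^ 2 + a * z.1 * z.2 + b * z.2 ^ 2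

/-- two functions are linearly equivalent. -/
def QEquiv {V V' : Type*} [AddCommGroup V] [Module F V] [AddCommGroup V'] [Module F V']
    (Q : V → F) (Q' : V' → F) : Prop :=
  ∃ φ : V ≃ₗ[F] V', ∀ v, Q' (φ v) = Q v

section qe

variable {V V' V'' : Type*} [AddCommGroup V] [Module F V] [AddCommGroup V'] [Module F V']
  [AddCommGroup V''] [Module F V'']

theorem QEquiv.refl (Q : V → F) : QEquiv Q Q := ⟨LinearEquiv.refl F V, fun _ => rfl⟩

theorem QEquiv.symm {Q : V → F} {Q' : V' → F} (h : QEquiv Q Q') : QEquiv Q' Q := by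
  obtain ⟨φ, hφ⟩ := h
  exact ⟨φ.symm, fun v => by rw [← hφ, LinearEquiv.apply_symm_apply]⟩

theorem QEquiv.trans {Q : V → F} {Q' : V' → F} {Q'' : V'' → F} (h : QEquiv Q Q')
    (h' : QEquiv Q' Q'') : QEquiv Q Q'' := by
  obtain ⟨φ, hφ⟩ := h
  obtain ⟨φ', hφ'⟩ := h'
  exact ⟨φ.trans φ', fun v => by rw [LinearEquiv.trans_apply, hφ', hφ]⟩

theorem QEquiv.oplus_right {U : Type*} [AddCommGroup U] [Module F U] (Q₀ : U → F) {Q : V → F}
    {Q' : V' → F} (h : QEquiv Q Q') : QEquiv (oplus Q₀ Q) (oplus Q₀ Q') := by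
  obtain ⟨φ, hφ⟩ := h
  refine ⟨LinearEquiv.prodCongr (LinearEquiv.refl F U) φ, fun p => ?_⟩
  simp only [oplus, LinearEquiv.prodCongr_apply, LinearEquiv.refl_apply, hφ]

theorem QEquiv.gsum_eq [CharP F 2] [Finite V] [Finite V'] {Q : V → F} {Q' : V' → F}
    (h : QEquiv Q Q') : gsum Q' = gsum Q := by
  obtain ⟨φ, hφ⟩ := h
  exact gsum_equiv φ.toEquiv Q Q' hφ

end qe

theorem gsum_oplus [CharP F 2] [Finite F] {V₁ V₂ : Type*} [Finite V₁] [Finite V₂] (Q₁ : V₁ → F)
    (Q₂ : V₂ → F) : gsum (oplus Q₁ Q₂) = gsum Q₁ * gsum Q₂ := gsum_prod Q₁ Q₂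

theorem gsum_hypQ [Fintype F] [CharP F 2] : gsum (hypQ F) = (Fintype.card F : ℤ) := by
  classical
  rw [gsum_eq, Fintype.sum_prod_type]
  rw [Finset.sum_eq_single 0]
  · simp [hypQ, chi_zero]
  · intro x _ hx
    exact sum_chi_mul hx
  · intro h; exact absurd (Finset.mem_univ _) h

variable {V : Type*} [AddCommGroup V] [Module F V]

/-- splitting off a hyperbolic pair. -/
theorem hyp_split {Q : V → F} {B : LinearMap.BilinForm F V} (hQ : IsQuad Q B) {e f : V}
    (hef : B e f = 1) (hee : B e e = 0) (hff : B f f = 0) :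
    ∃ Φ : ((F × F) × ↥(LinearMap.ker (B e) ⊓ LinearMap.ker (B f))) ≃ₗ[F] V,
      ∀ p, Φ p = p.1.1 • e + p.1.2 • f + (p.2 : V) := by
  have hfe : B f e = 1 := by rw [hQ.symm, hef]
  refine ⟨{
    toFun := fun p => p.1.1 • e + p.1.2 • f + (p.2 : V)
    map_add' := fun p p' => by
      simp only [Prod.fst_add, Prod.snd_add, Submodule.coe_add, add_smul]; abel
    map_smul' := fun c p => by
      simp only [Prod.smul_fst, Prod.smul_snd, Submodule.coe_smul, smul_eq_mul, mul_smul,
        RingHom.id_apply, smul_add]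
    invFun := fun v => ((B f v, B e v), ⟨v - B f v • e - B e v • f, by
      rw [Submodule.mem_inf, LinearMap.mem_ker, LinearMap.mem_ker]
      constructor
      · simp only [map_sub, map_smul, smul_eq_mul, hee, hef]; ring
      · simp only [map_sub, map_smul, smul_eq_mul, hfe, hff]; ring⟩)
    left_inv := fun p => by
      obtain ⟨⟨α, β⟩, ⟨w, hw⟩⟩ := p
      rw [Submodule.mem_inf, LinearMap.mem_ker, LinearMap.mem_ker] at hw
      have h1 : B f (α • e + β • f + w) = α := by
        simp only [map_add, map_smul, smul_eq_mul, hfe, hff, hw.2]; ring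
      have h2 : B e (α • e + β • f + w) = β := by
        simp only [map_add, map_smul, smul_eq_mul, hee, hef, hw.1]; ring
      apply Prod.ext
      · apply Prod.ext
        · exact h1
        · exact h2
      · apply Subtype.ext
        show α • e + β • f + w - B f (α • e + β • f + w) • e - B e (α • e + β • f + w) • f = w
        rw [h1, h2]; abel
    right_inv := fun v => by
      show B f v • e + B e v • f + (v - B f v • e - B e v • f) = v
      abel }, fun p => rfl⟩

end Cfsg.Agent.Lib.Sp8
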