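import Mathlib
import Cfsg.Agent.Lib.Helper7.Sp8Witt1

namespace Cfsg.Agent.Lib.Sp8

open Module

universe u

variable {F : Type*} [Field F] {V : Type*} [AddCommGroup V] [Module F V]

theorem exists_sqrt [Finite F] [CharP F 2] (c : F) : ∃ t : F, t ^ 2 = c := by
  have hinj : Function.Injective (frobenius F 2) := frobenius_inj F 2
  obtain ⟨t, ht⟩ := (Finite.injective_iff_surjective.mp hinj) c
  exact ⟨t, ht⟩

theorem quad_hyp {Q : V → F} {B : LinearMap.BilinForm F V} (hQ : IsQuad Q B) {e f w : V}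
    (he : Q e = 0) (hf : Q f = 0) (hef : B e f = 1) (hew : B e w = 0) (hfw : B f w = 0)
    (α β : F) : Q (α • e + β • f + w) = α * β + Q w := by
  rw [hQ.add, hQ.add, hQ.smul, hQ.smul, he, hf]
  simp only [map_add, map_smul, LinearMap.add_apply, LinearMap.smul_apply, smul_eq_mul, hef,
    hew, hfw]
  ring

/-- given a hyperbolic pair, split it off. -/
theorem hyp_of_pair [Fintype F] [CharP F 2] [FiniteDimensional F V] {Q : V → F}
    {B : LinearMap.BilinForm F V} (hQ : IsQuad Q B) (hnd : ∀ x, (∀ y, B x y = 0) → x = 0)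
    {e f : V} (he : Q e = 0) (hf : Q f = 0) (hef : B e f = 1) :
    ∃ W : Submodule F V, finrank F W + 2 = finrank F V ∧
      (∀ w : W, (∀ w' : W, B w w' = 0) → w = 0) ∧
      QEquiv Q (oplus (hypQ F) (fun w : W => Q w)) := by
  obtain ⟨Φ, hΦ⟩ := hyp_split hQ hef (hQ.alt e) (hQ.alt f)
  have hWmem : ∀ w : ↥(LinearMap.ker (B e) ⊓ LinearMap.ker (B f)), B e w = 0 ∧ B f w = 0 := by
    rintro ⟨w, hw⟩
    rw [Submodule.mem_inf, LinearMap.mem_ker, LinearMap.mem_ker] at hw
    exact hw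
  refine ⟨LinearMap.ker (B e) ⊓ LinearMap.ker (B f), ?_, ?_, ?_⟩
  · have := Φ.finrank_eq
    rw [Module.finrank_prod, Module.finrank_prod, Module.finrank_self] at this
    omega
  · intro w hw
    apply Subtype.ext
    apply hnd
    intro v
    obtain ⟨p, rfl⟩ := Φ.surjective v
    rw [hΦ]
    simp only [map_add, map_smul, smul_eq_mul]
    rw [hQ.symm w e, hQ.symm w f, (hWmem w).1, (hWmem w).2, hw p.2]
    ring
  · apply QEquiv.symm
    refine ⟨Φ, fun p => ?_⟩
    rw [hΦ, quad_hyp hQ he hf hef (hWmem p.2).1 (hWmem p.2).2]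
    rfl

theorem exists_hyp_pair [CharP F 2] {Q : V → F} {B : LinearMap.BilinForm F V} (hQ : IsQuad Q B)
    (hnd : ∀ x, (∀ y, B x y = 0) → x = 0) {e : V} (he0 : e ≠ 0) (he : Q e = 0) :
    ∃ f, Q f = 0 ∧ B e f = 1 := by
  obtain ⟨y, hy⟩ : ∃ y, B e y ≠ 0 := by
    by_contra h
    push Not at h
    exact he0 (hnd e h)
  obtain ⟨f₀, h1⟩ : ∃ f₀ : V, B e f₀ = 1 :=
    ⟨(B e y)⁻¹ • y, by rw [map_smul, smul_eq_mul, inv_mul_cancel₀ hy]⟩
  refine ⟨f₀ + Q f₀ • e, ?_, ?_⟩
  · rw [hQ.add, hQ.smul, he, map_smul, smul_eq_mul, hQ.symm f₀ e, h1]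
    have := CharTwo.add_self_eq_zero (Q f₀)
    linear_combination this
  · rw [map_add, map_smul, smul_eq_mul, hQ.alt e, h1]; ring

theorem exists_singular [Finite F] [CharP F 2] [FiniteDimensional F V] {Q : V → F}
    {B : LinearMap.BilinForm F V} (hQ : IsQuad Q B) (hdim : 3 ≤ finrank F V) :
    ∃ e : V, e ≠ 0 ∧ Q e = 0 := by
  have hVnt : Nontrivial V := Module.nontrivial_of_finrank_pos (R := F) (by omega)
  obtain ⟨x, hx⟩ := exists_ne (0 : V)
  by_cases hQx : Q x = 0
  · exact ⟨x, hx, hQx⟩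
  set K : Submodule F V := LinearMap.ker (B x) with hK
  have h1 : finrank F (LinearMap.range (B x)) + finrank F K = finrank F V :=
    LinearMap.finrank_range_add_finrank_ker (B x)
  have h2 : finrank F (LinearMap.range (B x)) ≤ 1 := by
    have := Submodule.finrank_le (LinearMap.range (B x))
    rwa [Module.finrank_self] at this
  have h3 : finrank F (Submodule.span F {x}) ≤ 1 := (finrank_span_singleton hx).le
  have hnot : ¬ K ≤ Submodule.span F {x} := by
    intro hle
    have := Submodule.finrank_mono hle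
    omega
  obtain ⟨z, hzK, hzx⟩ := SetLike.not_le_iff_exists.mp hnot
  rw [hK, LinearMap.mem_ker] at hzK
  obtain ⟨α, hα⟩ := exists_sqrt (Q z / Q x)
  refine ⟨α • x + z, ?_, ?_⟩
  · intro h
    apply hzx
    have : z = (-α) • x := by
      rw [neg_smul]; exact eq_neg_of_add_eq_zero_right h
    rw [this]
    exact Submodule.smul_mem _ _ (Submodule.mem_span_singleton_self x)
  · rw [hQ.add, hQ.smul, hα, map_smul, LinearMap.smul_apply, smul_eq_mul, hzK,
      div_mul_cancel₀ _ hQx]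
    have := CharTwo.add_self_eq_zero (Q z)
    linear_combination this

/-- one step of Witt peeling. -/
theorem peel_step [Fintype F] [CharP F 2] [FiniteDimensional F V] {Q : V → F}
    {B : LinearMap.BilinForm F V} (hQ : IsQuad Q B) (hnd : ∀ x, (∀ y, B x y = 0) → x = 0)
    (hdim : 3 ≤ finrank F V) :
    ∃ W : Submodule F V, finrank F W + 2 = finrank F V ∧
      (∀ w : W, (∀ w' : W, B w w' = 0) → w = 0) ∧
      QEquiv Q (oplus (hypQ F) (fun w : W => Q w)) := by
  obtain ⟨e, he0, he⟩ := exists_singular hQ hdim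
  obtain ⟨f, hf, hef⟩ := exists_hyp_pair hQ hnd he0 he
  exact hyp_of_pair hQ hnd he hf hef

end Cfsg.Agent.Lib.Sp8
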