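import Mathlib
import Cfsg.Prelude.Def_Classical
import Cfsg.Agent.Lib.Helper7.Sp8Witt2

namespace Cfsg.Agent.Lib.Sp8

open Module

universe u

variable {F : Type*} [Field F] {V : Type*} [AddCommGroup V] [Module F V]

theorem restrict_isQuad {Q : V → F} {B : LinearMap.BilinForm F V} (hQ : IsQuad Q B)
    (W : Submodule F V) : IsQuad (fun w : W => Q w) (B.restrict W) :=
  ⟨fun a w => hQ.smul a w, fun v w => hQ.add v w⟩

theorem gsum_of_finrank_zero [CharP F 2] [FiniteDimensional F V] {Q : V → F} (hQ0 : Q 0 = 0)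
    (h : finrank F V = 0) : gsum Q = 1 := by
  have hsub : Subsingleton V := Module.finrank_zero_iff.mp h
  have : Fintype V := Fintype.ofSubsingleton 0
  rw [gsum_eq]
  have : ∀ v : V, chi (Q v) = 1 := fun v => by
    rw [Subsingleton.elim v 0, hQ0, chi_zero]
  simp only [this, Finset.sum_const, Finset.card_univ]
  rw [Fintype.card_eq_one_iff.mpr ⟨0, fun v => Subsingleton.elim v 0⟩]
  simp

theorem bin_class [Fintype F] [CharP F 2] [FiniteDimensional F V] {Q : V → F}
    {B : LinearMap.BilinForm F V} (hQ : IsQuad Q B) (hnd : ∀ x, (∀ y, B x y = 0) → x = 0)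
    (hdim : finrank F V = 2) (hneg : gsum Q < 0) {a b : F}
    (han : ∀ z₁ z₂ : F, z₁ ^ 2 + a * z₁ * z₂ + b * z₂ ^ 2 = 0 → z₁ = 0 ∧ z₂ = 0) :
    QEquiv Q (binQ a b) := by
  have h2 : (2 : F) = 0 := CharTwo.two_eq_zero
  have hfinV : Finite V := Module.finite_of_finite F
  have haniso : ∀ v : V, v ≠ 0 → Q v ≠ 0 := by
    intro v hv hQv
    obtain ⟨f, hf, hef⟩ := exists_hyp_pair hQ hnd hv hQv
    obtain ⟨W, hWdim, -, hqe⟩ := hyp_of_pair hQ hnd hQv hf hef
    have hW0 : finrank F W = 0 := by omega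
    have h1 := hqe.gsum_eq
    rw [gsum_oplus, gsum_hypQ, gsum_of_finrank_zero (by simpa using hQ.zero) hW0, mul_one] at h1
    rw [← h1] at hneg
    have : (0 : ℤ) ≤ Fintype.card F := Int.natCast_nonneg _
    omega
  have ha : a ≠ 0 := by
    rintro rfl
    obtain ⟨t, ht⟩ := exists_sqrt b
    have := han t 1 (by rw [← ht]; linear_combination t ^ 2 * h2)
    exact one_ne_zero this.2
  have hVnt : Nontrivial V := Module.nontrivial_of_finrank_pos (R := F) (by omega)
  obtain ⟨x, hx⟩ := exists_ne (0 : V)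
  obtain ⟨t, ht⟩ := exists_sqrt (Q x)
  have ht0 : t ≠ 0 := by
    rintro rfl
    exact haniso x hx (by rw [← ht]; ring)
  obtain ⟨z₁, hz₁0, hQz₁⟩ : ∃ z₁ : V, z₁ ≠ 0 ∧ Q z₁ = 1 := by
    refine ⟨t⁻¹ • x, smul_ne_zero (inv_ne_zero ht0) hx, ?_⟩
    rw [hQ.smul, ← ht]; field_simp
  obtain ⟨y, hy⟩ : ∃ y, B z₁ y ≠ 0 := by
    by_contra h
    push Not at h
    exact hz₁0 (hnd z₁ h)
  obtain ⟨y₁, hy₁⟩ : ∃ y₁ : V, B z₁ y₁ = a :=
    ⟨(a / B z₁ y) • y, by rw [map_smul, smul_eq_mul, div_mul_cancel₀ _ hy]⟩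
  have hy₁' : B y₁ z₁ = a := by rw [hQ.symm, hy₁]
  have hc : Q y₁ / a ^ 2 ∉ (asHom F).range := by
    rintro ⟨s, hs⟩
    rw [asHom_apply] at hs
    have hQv : Q ((a * s) • z₁ + y₁) = 0 := by
      rw [hQ.add, hQ.smul, hQz₁, map_smul, LinearMap.smul_apply, smul_eq_mul, hy₁]
      have : Q y₁ = a ^ 2 * (s * s + s) := by rw [hs]; field_simp
      rw [this]
      linear_combination (a ^ 2 * (s * s + s)) * h2
    have hv0 : (a * s) • z₁ + y₁ ≠ 0 := by
      intro h0
      have : B z₁ ((a * s) • z₁ + y₁) = a := by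
        rw [map_add, map_smul, hQ.alt, hy₁]; simp
      rw [h0, map_zero] at this
      exact ha this.symm
    exact haniso _ hv0 hQv
  have hb : b / a ^ 2 ∉ (asHom F).range := by
    rintro ⟨s, hs⟩
    rw [asHom_apply] at hs
    have hb' : b = a ^ 2 * (s * s + s) := by rw [hs]; field_simp
    have := han (a * s) 1 (by rw [hb']; linear_combination (a ^ 2 * (s * s + s)) * h2)
    exact one_ne_zero this.2
  have hsum : b / a ^ 2 + Q y₁ / a ^ 2 ∈ (asHom F).range := by
    rw [AddSubgroup.add_mem_iff_of_index_two index_asRange]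
    exact ⟨fun h => absurd h hb, fun h => absurd h hc⟩
  obtain ⟨s, hs⟩ := hsum
  rw [asHom_apply] at hs
  set z₂ : V := y₁ + (a * s) • z₁ with hz₂
  have hQz₂ : Q z₂ = b := by
    rw [hz₂, hQ.add, hQ.smul, hQz₁, map_smul, smul_eq_mul, hy₁']
    have hs' : a ^ 2 * (s * s + s) = b + Q y₁ := by rw [hs]; field_simp
    linear_combination hs' + Q y₁ * h2
  have hBz : B z₁ z₂ = a := by
    rw [hz₂, map_add, map_smul, hQ.alt, hy₁]; simp
  set φ : (F × F) →ₗ[F] V :=
    (LinearMap.fst F F F).smulRight z₁ + (LinearMap.snd F F F).smulRight z₂ with hφ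
  have hφa : ∀ p : F × F, φ p = p.1 • z₁ + p.2 • z₂ := fun p => rfl
  have hinj : Function.Injective φ := by
    rw [injective_iff_map_eq_zero]
    intro p hp
    rw [hφa] at hp
    have h1 : B z₁ (p.1 • z₁ + p.2 • z₂) = p.2 * a := by
      rw [map_add, map_smul, map_smul, hQ.alt, hBz]; simp
    rw [hp, map_zero] at h1
    have hp2 : p.2 = 0 := by
      rcases mul_eq_zero.mp h1.symm with h | h
      · exact h
      · exact absurd h ha
    rw [hp2, zero_smul, add_zero] at hp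
    have hp1 : p.1 = 0 := by
      rcases smul_eq_zero.mp hp with h | h
      · exact h
      · exact absurd h hz₁0
    exact Prod.ext hp1 hp2
  have hdim' : finrank F (F × F) = finrank F V := by
    rw [Module.finrank_prod, Module.finrank_self, hdim]
  apply QEquiv.symm
  refine ⟨LinearMap.linearEquivOfInjective φ hinj hdim', fun p => ?_⟩
  rw [LinearMap.linearEquivOfInjective_apply, hφa, hQ.add, hQ.smul, hQ.smul, hQz₁, hQz₂]
  simp only [map_smul, LinearMap.smul_apply, hBz, binQ, smul_eq_mul]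
  ring

end Cfsg.Agent.Lib.Sp8
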