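import Mathlib
import Cfsg.Prelude.Def_Classical
import Cfsg.Agent.Lib.Helper7.Sp8Witt3
import Cfsg.Agent.Lib.Helper7.Sp8Embed

namespace Cfsg.Agent.Lib.Sp8

open Module

universe u v

variable {F : Type u} [Field F]

/-- the coordinate map of the explicit model. -/
def modelFun (p : (F × F) × (F × F) × (F × F) × F × F) : I8 → F := fun j =>
  match j with
  | .inl (.inl i) => ![p.1.1, p.2.1.1, p.2.2.1.1] i
  | .inl (.inr i) => ![p.1.2, p.2.1.2, p.2.2.1.2] i
  | .inr i => ![p.2.2.2.1, p.2.2.2.2] i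

/-- the coordinate equivalence of the explicit model. -/
def modelEquiv : ((F × F) × (F × F) × (F × F) × F × F) ≃ₗ[F] (I8 → F) where
  toFun := modelFun
  map_add' := fun p p' => by
    funext j
    rcases j with (i | i) | i <;> fin_cases i <;> rfl
  map_smul' := fun c p => by
    funext j
    rcases j with (i | i) | i <;> fin_cases i <;> rfl
  invFun := fun t => ((t (.inl (.inl 0)), t (.inl (.inr 0))), ((t (.inl (.inl 1)), t (.inl (.inr 1))),
    ((t (.inl (.inl 2)), t (.inl (.inr 2))), (t (.inr 0), t (.inr 1)))))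
  left_inv := fun p => rfl
  right_inv := fun t => by
    funext j
    rcases j with (i | i) | i <;> fin_cases i <;> rfl

theorem modelEquiv_apply (p : (F × F) × (F × F) × (F × F) × F × F) :
    modelEquiv p = modelFun p := rfl

/-- the explicit model is `quadFormMinus 3`. -/
theorem model_equiv (a b : F) :
    QEquiv (oplus (hypQ F) (oplus (hypQ F) (oplus (hypQ F) (binQ a b))))
      (Cfsg.quadFormMinus 3 F a b) := by
  refine ⟨modelEquiv, fun p => ?_⟩
  rw [modelEquiv_apply]
  unfold Cfsg.quadFormMinus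
  rw [Fin.sum_univ_three]
  show p.1.1 * p.1.2 + p.2.1.1 * p.2.1.2 + p.2.2.1.1 * p.2.2.1.2 +
    (p.2.2.2.1 ^ 2 + a * p.2.2.2.1 * p.2.2.2.2 + b * p.2.2.2.2 ^ 2) = _
  simp only [oplus, hypQ, binQ]
  ring

theorem classify [Fintype F] [CharP F 2] {V : Type v} [AddCommGroup V] [Module F V]
    [FiniteDimensional F V] {Q : V → F} {B : LinearMap.BilinForm F V} (hQ : IsQuad Q B)
    (hnd : ∀ x, (∀ y, B x y = 0) → x = 0) (hdim : finrank F V = 8) (hneg : gsum Q < 0) {a b : F}
    (han : ∀ z₁ z₂ : F, z₁ ^ 2 + a * z₁ * z₂ + b * z₂ ^ 2 = 0 → z₁ = 0 ∧ z₂ = 0) :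
    QEquiv Q (Cfsg.quadFormMinus 3 F a b) := by
  have hq : (0 : ℤ) < Fintype.card F := by exact_mod_cast Fintype.card_pos
  have hfinV : Finite V := Module.finite_of_finite F
  -- first peel
  obtain ⟨W₁, hd₁, hnd₁, hqe₁⟩ := peel_step hQ hnd (by omega)
  have hQ₁ := restrict_isQuad hQ W₁
  have hneg₁ : gsum (fun w : W₁ => Q w) < 0 := by
    have := hqe₁.gsum_eq
    rw [gsum_oplus, gsum_hypQ] at this
    rw [← this] at hneg
    by_contra hcon
    push Not at hcon
    have := mul_nonneg hq.le hcon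
    omega
  -- second peel
  obtain ⟨W₂, hd₂, hnd₂, hqe₂⟩ := peel_step hQ₁ hnd₁ (by omega)
  have hQ₂ := restrict_isQuad hQ₁ W₂
  have hneg₂ : gsum (fun w : W₂ => Q w) < 0 := by
    have := hqe₂.gsum_eq
    rw [gsum_oplus, gsum_hypQ] at this
    rw [← this] at hneg₁
    by_contra hcon
    push Not at hcon
    have := mul_nonneg hq.le hcon
    omega
  -- third peel
  obtain ⟨W₃, hd₃, hnd₃, hqe₃⟩ := peel_step hQ₂ hnd₂ (by omega)
  have hQ₃ := restrict_isQuad hQ₂ W₃
  have hneg₃ : gsum (fun w : W₃ => Q w) < 0 := by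
    have := hqe₃.gsum_eq
    rw [gsum_oplus, gsum_hypQ] at this
    rw [← this] at hneg₂
    by_contra hcon
    push Not at hcon
    have := mul_nonneg hq.le hcon
    omega
  have hbin := bin_class hQ₃ hnd₃ (by omega) hneg₃ han
  exact hqe₁.trans ((hqe₂.trans ((hqe₃.trans (hbin.oplus_right _)).oplus_right _)).oplus_right _)
    |>.trans (model_equiv a b)

end Cfsg.Agent.Lib.Sp8
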