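import Mathlib
import Cfsg.Prelude.Def_Classical
import Cfsg.Agent.Lib.Helper7.Sp8Witt4
import Cfsg.Agent.Lib.Helper5.SylTor4

namespace Cfsg.Agent.Lib.Sp8

open Module

universe u v v₁ v₂

section aux

variable {F : Type u} [Field F]

/-- the product homomorphism on linear automorphisms. -/
def prodAutHom (V₁ V₂ : Type*) [AddCommGroup V₁] [Module F V₁] [AddCommGroup V₂] [Module F V₂] :
    (V₁ ≃ₗ[F] V₁) × (V₂ ≃ₗ[F] V₂) →* ((V₁ × V₂) ≃ₗ[F] (V₁ × V₂)) where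
  toFun p := LinearEquiv.prodCongr p.1 p.2
  map_one' := by ext <;> rfl
  map_mul' p p' := by ext <;> rfl

theorem prodAutHom_injective (V₁ V₂ : Type*) [AddCommGroup V₁] [Module F V₁] [AddCommGroup V₂]
    [Module F V₂] : Function.Injective (prodAutHom (F := F) V₁ V₂) := by
  intro p p' h
  apply Prod.ext
  · ext x
    have := congrArg (fun φ : (V₁ × V₂) ≃ₗ[F] (V₁ × V₂) => (φ (x, 0)).1) h
    exact this
  · ext x
    have := congrArg (fun φ : (V₁ × V₂) ≃ₗ[F] (V₁ × V₂) => (φ (0, x)).2) h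
    exact this

theorem conj_orderOf {V V' : Type*} [AddCommGroup V] [Module F V] [AddCommGroup V'] [Module F V']
    (φ : V ≃ₗ[F] V') (g : V ≃ₗ[F] V) : orderOf (φ.symm.trans (g.trans φ)) = orderOf g := by
  have hpow : ∀ n : ℕ, (φ.symm.trans (g.trans φ)) ^ n = φ.symm.trans ((g ^ n).trans φ) := by
    intro n
    induction n with
    | zero => ext x; simp
    | succ n ih =>
      rw [pow_succ, ih, pow_succ]
      ext x
      simp [LinearEquiv.mul_apply]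
  rw [orderOf_eq_orderOf_iff]
  intro n
  rw [hpow]
  constructor
  · intro h
    ext x
    have := congrArg (fun ψ : V' ≃ₗ[F] V' => φ.symm (ψ (φ x))) h
    simpa using this
  · intro h
    rw [h]; ext x; simp

end aux

variable (F : Type u) [Field F] [Fintype F] [CharP F 2]

/-- a quadratic space of dimension `d`, sign `ε`, with an isometry of order `N`. -/
def Piece (d : ℕ) (ε : ℤ) (N : ℕ) : Prop :=
  ∃ (V : Type v) (_ : AddCommGroup V) (_ : Module F V) (_ : FiniteDimensional F V) (Q : V → F)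
    (B : LinearMap.BilinForm F V) (g : V ≃ₗ[F] V),
    finrank F V = d ∧ IsQuad Q B ∧ (∀ x, (∀ y, B x y = 0) → x = 0) ∧ (∀ v, Q (g v) = Q v) ∧
      orderOf g = N ∧ 0 < ε * gsum Q

variable {F}

theorem Piece.prod {d₁ d₂ : ℕ} {ε₁ ε₂ : ℤ} {N₁ N₂ : ℕ} (h₁ : Piece.{u, v₁} F d₁ ε₁ N₁)
    (h₂ : Piece.{u, v₂} F d₂ ε₂ N₂) :
    Piece.{u, max v₁ v₂} F (d₁ + d₂) (ε₁ * ε₂) (Nat.lcm N₁ N₂) := by
  obtain ⟨V₁, _, _, _, Q₁, B₁, g₁, hd₁, hQ₁, hnd₁, hg₁, ho₁, hs₁⟩ := h₁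
  obtain ⟨V₂, _, _, _, Q₂, B₂, g₂, hd₂, hQ₂, hnd₂, hg₂, ho₂, hs₂⟩ := h₂
  have : Finite V₁ := Module.finite_of_finite F
  have : Finite V₂ := Module.finite_of_finite F
  refine ⟨V₁ × V₂, inferInstance, inferInstance, inferInstance, oplus Q₁ Q₂,
    Helper5.SylTor.prodForm B₁ B₂, prodAutHom V₁ V₂ (g₁, g₂), ?_, ?_, ?_, ?_, ?_, ?_⟩
  · rw [Module.finrank_prod, hd₁, hd₂]
  · constructor
    · intro a v
      simp only [oplus, Prod.smul_fst, Prod.smul_snd, hQ₁.smul, hQ₂.smul]; ring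
    · intro v w
      simp only [oplus, Prod.fst_add, Prod.snd_add, hQ₁.add, hQ₂.add,
        Helper5.SylTor.prodForm_apply]; ring
  · exact Helper5.SylTor.prodForm_nondeg hnd₁ hnd₂
  · intro v
    show oplus Q₁ Q₂ (g₁ v.1, g₂ v.2) = _
    simp only [oplus, hg₁, hg₂]
  · rw [orderOf_injective _ (prodAutHom_injective V₁ V₂), Prod.orderOf_mk, ho₁, ho₂]
  · rw [gsum_oplus]
    have := mul_pos hs₁ hs₂
    linarith [this, mul_mul_mul_comm ε₁ (gsum Q₁) ε₂ (gsum Q₂)]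

theorem Piece.realize {N : ℕ} (h : Piece.{u, v} F 8 (-1) N) {a b : F}
    (han : ∀ z₁ z₂ : F, z₁ ^ 2 + a * z₁ * z₂ + b * z₂ ^ 2 = 0 → z₁ = 0 ∧ z₂ = 0) :
    ∃ x : ↥(Cfsg.isometryGroup F (Cfsg.quadFormMinus 3 F a b)), orderOf x = N := by
  obtain ⟨V, _, _, _, Q, B, g, hd, hQ, hnd, hg, ho, hs⟩ := h
  have hneg : gsum Q < 0 := by linarith
  obtain ⟨φ, hφ⟩ := classify hQ hnd hd hneg han
  set g' : (I8 → F) ≃ₗ[F] (I8 → F) := φ.symm.trans (g.trans φ) with hg'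
  set Θ : GL I8 F ≃* ((I8 → F) ≃ₗ[F] (I8 → F)) :=
    (Matrix.GeneralLinearGroup.toLin (n := I8) (R := F)).trans
      (LinearMap.GeneralLinearGroup.generalLinearEquiv F (I8 → F)) with hΘ
  set x : GL I8 F := Θ.symm g' with hx
  have hΘx : Θ x = g' := by rw [hx, MulEquiv.apply_symm_apply]
  have hact : ∀ v : I8 → F, (x : Matrix I8 I8 F).mulVec v = g' v := by
    intro v
    rw [← hΘx]; rfl
  have hmem : x ∈ Cfsg.isometryGroup F (Cfsg.quadFormMinus 3 F a b) := by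
    rw [Helper7.LawAuxO.mem_isometryGroup_iff]
    intro v
    rw [hact, hg']
    simp only [LinearEquiv.trans_apply]
    rw [hφ, hg, ← hφ, LinearEquiv.apply_symm_apply]
  refine ⟨⟨x, hmem⟩, ?_⟩
  rw [Subgroup.orderOf_mk, ← MulEquiv.orderOf_eq Θ, hΘx, hg', conj_orderOf, ho]

end Cfsg.Agent.Lib.Sp8
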