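import Mathlib
import Cfsg.Agent.Lib.Helper7.Sp8Piece
import Cfsg.Agent.Lib.Helper5.SylTor5

namespace Cfsg.Agent.Lib.Sp8

open Module Helper5.SylTor

universe u v

variable {F : Type u} [Field F] [Fintype F] [CharP F 2]

section hyp

variable (F) (K : Type v) [Field K] [Algebra F K] [FiniteDimensional F K]

/-- the hyperbolic quadratic form `Tr(x y)` on `K × K`. -/
noncomputable def hypK : K × K → F := fun x => Algebra.trace F K (x.1 * x.2)

omit [Fintype F] [FiniteDimensional F K] in
theorem hypK_isQuad : IsQuad (hypK F K) (hypForm F K) := by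
  constructor
  · intro a x
    unfold hypK
    rw [Prod.smul_fst, Prod.smul_snd, smul_mul_smul_comm, map_smul, smul_eq_mul, sq]
  · intro x y
    unfold hypK
    rw [hypForm_apply, sub_eq_add_neg, CharTwo.neg_eq, Prod.fst_add, Prod.snd_add]
    rw [← map_add, ← map_add, ← map_add]
    congr 1
    ring

omit [CharP F 2] in
theorem hypK_nondeg (x : K × K) (hx : ∀ y, hypForm F K x y = 0) : x = 0 := by
  have : Algebra.IsSeparable F K := inferInstance
  exact hypForm_nondeg F K x hx

theorem gsum_hypK : gsum (hypK F K) = (Nat.card K : ℤ) := by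
  classical
  have : Finite K := Module.finite_of_finite F
  have := Fintype.ofFinite K
  rw [gsum_eq, Fintype.sum_prod_type]
  rw [Finset.sum_eq_single 0]
  · simp [hypK, chi_zero, Nat.card_eq_fintype_card]
  · intro x _ hx
    have hne : (Algebra.trace F K).comp (LinearMap.mulLeft F x) ≠ 0 := by
      intro h0
      apply hx
      have := hypK_nondeg F K (x, 0) (fun y => by
        rw [hypForm_apply]
        have := LinearMap.congr_fun h0 y.2
        simp only [LinearMap.coe_comp, Function.comp_apply, LinearMap.mulLeft_apply,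
          LinearMap.zero_apply] at this
        simp [this])
      exact congrArg Prod.fst this
    have := sum_chi_functional _ hne
    simpa [hypK] using this
  · intro h; exact absurd (Finset.mem_univ _) h

end hyp

/-- a hyperbolic space with an isometry of order `|K| - 1`. -/
theorem piece_hyp_torus (K : Type v) [Field K] [Algebra F K] [FiniteDimensional F K] :
    Piece.{u, v} F (2 * finrank F K) 1 (Nat.card K - 1) := by
  have hfin : Finite K := Module.finite_of_finite F
  obtain ⟨u, hu⟩ := IsCyclic.exists_ofOrder_eq_natCard (α := Kˣ)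
  refine ⟨K × K, inferInstance, inferInstance, inferInstance, hypK F K, hypForm F K,
    hypAct F K u, ?_, hypK_isQuad F K, hypK_nondeg F K, ?_, ?_, ?_⟩
  · rw [Module.finrank_prod]; ring
  · intro v
    unfold hypK
    rw [hypAct_apply]
    congr 1
    show (u : K) * v.1 * (((u⁻¹ : Kˣ) : K) * v.2) = v.1 * v.2
    rw [mul_mul_mul_comm, Units.mul_inv, one_mul]
  · rw [orderOf_injective _ (hypAct_injective F K), hu, Nat.card_units]
  · rw [gsum_hypK, one_mul]
    exact_mod_cast Nat.card_pos

/-- the swap on a hyperbolic plane. -/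
theorem piece_swap : Piece.{u, u} F 2 1 2 := by
  refine ⟨F × F, inferInstance, inferInstance, inferInstance, hypK F F, hypForm F F,
    LinearEquiv.prodComm F F F, ?_, hypK_isQuad F F, hypK_nondeg F F, ?_, ?_, ?_⟩
  · rw [Module.finrank_prod, Module.finrank_self]
  · intro v
    unfold hypK
    show Algebra.trace F F (v.2 * v.1) = _
    rw [mul_comm]
  · apply orderOf_eq_prime
    · ext x <;> rfl
    · intro h
      have := congrArg (fun φ : (F × F) ≃ₗ[F] (F × F) => (φ (1, 0)).1) h
      simp at this
  · rw [gsum_hypK, one_mul]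
    exact_mod_cast Nat.card_pos

/-- an isometry of order `4` on the sum of two hyperbolic planes. -/
theorem piece_c4 : Piece.{u, u} F 4 1 4 := by
  have hfinF : Finite (F × F) := inferInstance
  set g : ((F × F) × (F × F)) ≃ₗ[F] ((F × F) × (F × F)) :=
    (LinearEquiv.prodComm F (F × F) (F × F)).trans
      (LinearEquiv.prodCongr (LinearEquiv.refl F (F × F)) (LinearEquiv.prodComm F F F)) with hg
  have hgapp : ∀ v : (F × F) × (F × F), g v = (v.2, (v.1.2, v.1.1)) := fun v => rfl
  refine ⟨(F × F) × (F × F), inferInstance, inferInstance, inferInstance,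
    oplus (hypK F F) (hypK F F), prodForm (hypForm F F) (hypForm F F), g, ?_, ?_, ?_, ?_, ?_, ?_⟩
  · rw [Module.finrank_prod, Module.finrank_prod, Module.finrank_self]
  · constructor
    · intro a v
      simp only [oplus, Prod.smul_fst, Prod.smul_snd, (hypK_isQuad F F).smul]; ring
    · intro v w
      simp only [oplus, Prod.fst_add, Prod.snd_add, (hypK_isQuad F F).add, prodForm_apply]; ring
  · exact prodForm_nondeg (hypK_nondeg F F) (hypK_nondeg F F)
  · intro v
    rw [hgapp]
    simp only [oplus, hypK]
    rw [mul_comm v.1.2 v.1.1, add_comm]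
  · have h4 : (4 : ℕ) = 2 ^ (1 + 1) := by norm_num
    rw [h4]
    apply orderOf_eq_prime_pow
    · intro h
      have := congrArg (fun φ : ((F × F) × (F × F)) ≃ₗ[F] ((F × F) × (F × F)) =>
        (φ ((1, 0), (0, 0))).1.1) h
      simp [pow_succ, LinearEquiv.mul_apply, hgapp] at this
    · ext x <;> simp [pow_succ, LinearEquiv.mul_apply, hgapp]
  · rw [gsum_oplus, gsum_hypK, one_mul]
    have : (0 : ℤ) < Nat.card F := by exact_mod_cast Nat.card_pos
    positivity

end Cfsg.Agent.Lib.Sp8
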