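import Mathlib
import Cfsg.Agent.Lib.Helper7.Sp8Hyp
import Cfsg.Agent.Lib.Helper7.Sp8Indec3

namespace Cfsg.Agent.Lib.Sp8

open Module Helper5.SylTor

universe u

variable {F : Type u} [Field F]

/-- the quadratic form with a regular unipotent isometry. -/
def Q6 (γ : F) (x : Fin 6 → F) : F :=
  γ * x 2 ^ 2 + x 3 ^ 2 + γ * x 0 * x 2 + γ * x 1 * x 2 + (1 + γ) * x 0 * x 3 + x 1 * x 3 +
    x 2 * x 3 + x 1 * x 4 + x 0 * x 5

/-- the shift `N`. -/
def N6 (F : Type u) [Field F] : Module.End F (Fin 6 → F) where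
  toFun x := ![0, x 0, x 1, x 2, x 3, x 4]
  map_add' x y := by
    funext i; fin_cases i <;> simp
  map_smul' c x := by
    funext i; fin_cases i <;> simp

theorem N6_apply (x : Fin 6 → F) : N6 F x = ![0, x 0, x 1, x 2, x 3, x 4] := rfl

theorem N6_pow_six : (N6 F) ^ 6 = 0 := by
  refine LinearMap.ext fun x => funext fun i => ?_
  simp only [pow_succ, pow_zero, one_mul, Module.End.mul_apply, N6_apply]
  fin_cases i <;> simp

theorem N6_pow_four_ne : (N6 F) ^ 4 ≠ 0 := by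
  intro h
  have := congrArg (fun φ : Module.End F (Fin 6 → F) => φ (Pi.single 0 1) 4) h
  simp [pow_succ, Module.End.mul_apply, N6_apply] at this

theorem U6_pow_eight [CharP F 2] : (1 + N6 F) ^ 8 = 1 := by
  have h := char_two_sub_one_pow (1 + N6 F) 3
  rw [add_sub_cancel_left] at h
  have h8 : (N6 F) ^ (2 ^ 3) = 0 := by
    rw [show (2 : ℕ) ^ 3 = 6 + 2 by norm_num, pow_add, N6_pow_six, zero_mul]
  rw [h8] at h
  have := sub_eq_zero.mp h.symm
  simpa using this

theorem U6_pow_four_ne [CharP F 2] : (1 + N6 F) ^ 4 ≠ 1 := by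
  have h := char_two_sub_one_pow (1 + N6 F) 2
  rw [add_sub_cancel_left] at h
  intro h4
  apply N6_pow_four_ne (F := F)
  rw [show (4 : ℕ) = 2 ^ 2 by norm_num, h, ← show (4 : ℕ) = 2 ^ 2 by norm_num, h4, sub_self]

/-- the unipotent isometry as a linear equivalence. -/
noncomputable def U6E (F : Type u) [Field F] [CharP F 2] : (Fin 6 → F) ≃ₗ[F] (Fin 6 → F) :=
  LinearEquiv.ofLinearMap (f := 1 + N6 F) (g := (1 + N6 F) ^ 7)
    (by rw [← Module.End.mul_eq_comp, ← pow_succ', U6_pow_eight]; rfl)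
    (by rw [← Module.End.mul_eq_comp, ← pow_succ, U6_pow_eight]; rfl)

theorem U6E_coe [CharP F 2] : ((U6E F : (Fin 6 → F) ≃ₗ[F] (Fin 6 → F)) : Module.End F (Fin 6 → F)) =
    1 + N6 F := rfl

theorem orderOf_U6E [CharP F 2] : orderOf (U6E F) = 8 := by
  have hinj : Function.Injective
      (LinearEquiv.automorphismGroup.toLinearMapMonoidHom (R := F) (M := Fin 6 → F)) :=
    LinearEquiv.toLinearMap_injective
  rw [← orderOf_injective _ hinj]
  show orderOf (1 + N6 F) = 8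
  rw [show (8 : ℕ) = 2 ^ (2 + 1) by norm_num]
  apply orderOf_eq_prime_pow
  · exact U6_pow_four_ne
  · exact U6_pow_eight

theorem U6E_apply [CharP F 2] (x : Fin 6 → F) :
    U6E F x = ![x 0, x 1 + x 0, x 2 + x 1, x 3 + x 2, x 4 + x 3, x 5 + x 4] := by
  show (1 + N6 F) x = _
  rw [LinearMap.add_apply, Module.End.one_apply, N6_apply]
  funext i; fin_cases i <;> simp

theorem Q6_U6E [CharP F 2] (γ : F) (x : Fin 6 → F) : Q6 γ (U6E F x) = Q6 γ x := by
  have h2 : (2 : F) = 0 := CharTwo.two_eq_zero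
  rw [U6E_apply]
  unfold Q6
  simp only [Matrix.cons_val_zero, Matrix.cons_val_one, Matrix.cons_val]
  linear_combination (γ * x 0 * x 1 + γ * x 0 * x 2 + γ * x 1 * x 2 + γ * x 1 ^ 2 + x 0 * x 2 +
    x 0 * x 3 + x 0 * x 4 + x 1 * x 2 + x 1 * x 3 + x 2 * x 3 + x 2 ^ 2) * h2

end Cfsg.Agent.Lib.Sp8
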