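import Mathlib
import Cfsg.Agent.Lib.Helper7.Sp8J6a

namespace Cfsg.Agent.Lib.Sp8

open Module Helper5.SylTor

universe u

variable {F : Type u} [Field F]

theorem isQuad_oplus {V₁ V₂ : Type*} [AddCommGroup V₁] [Module F V₁] [AddCommGroup V₂]
    [Module F V₂] {Q₁ : V₁ → F} {Q₂ : V₂ → F} {B₁ : LinearMap.BilinForm F V₁}
    {B₂ : LinearMap.BilinForm F V₂} (h₁ : IsQuad Q₁ B₁) (h₂ : IsQuad Q₂ B₂) :
    IsQuad (oplus Q₁ Q₂) (prodForm B₁ B₂) := by
  constructor
  · intro a v
    simp only [oplus, Prod.smul_fst, Prod.smul_snd, h₁.smul, h₂.smul]; ring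
  · intro v w
    simp only [oplus, Prod.fst_add, Prod.snd_add, h₁.add, h₂.add, prodForm_apply]; ring

/-- the change of coordinates to the Witt model. -/
def psi6 (γ : F) : (Fin 6 → F) ≃ₗ[F] ((F × F) × ((F × F) × (F × F))) where
  toFun x := ((x 0, x 5 + γ * x 2 + (1 + γ) * x 3), ((x 1, x 4 + γ * x 2 + x 3), (x 3, x 2)))
  map_add' x y := by
    refine Prod.ext (Prod.ext rfl ?_) (Prod.ext (Prod.ext rfl ?_) rfl)
    · show (x + y) 5 + γ * (x + y) 2 + (1 + γ) * (x + y) 3 =
        (x 5 + γ * x 2 + (1 + γ) * x 3) + (y 5 + γ * y 2 + (1 + γ) * y 3)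
      simp only [Pi.add_apply]; ring
    · show (x + y) 4 + γ * (x + y) 2 + (x + y) 3 =
        (x 4 + γ * x 2 + x 3) + (y 4 + γ * y 2 + y 3)
      simp only [Pi.add_apply]; ring
  map_smul' c x := by
    refine Prod.ext (Prod.ext rfl ?_) (Prod.ext (Prod.ext rfl ?_) rfl)
    · show (c • x) 5 + γ * (c • x) 2 + (1 + γ) * (c • x) 3 =
        c * (x 5 + γ * x 2 + (1 + γ) * x 3)
      simp only [Pi.smul_apply, smul_eq_mul]; ring
    · show (c • x) 4 + γ * (c • x) 2 + (c • x) 3 = c * (x 4 + γ * x 2 + x 3)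
      simp only [Pi.smul_apply, smul_eq_mul]; ring
  invFun m := ![m.1.1, m.2.1.1, m.2.2.2, m.2.2.1, m.2.1.2 - γ * m.2.2.2 - m.2.2.1,
    m.1.2 - γ * m.2.2.2 - (1 + γ) * m.2.2.1]
  left_inv x := by
    funext i
    fin_cases i <;> simp <;> ring
  right_inv m := by
    obtain ⟨⟨a, b⟩, ⟨c, d⟩, e, f⟩ := m
    simp
    constructor <;> ring

theorem psi6_apply (γ : F) (x : Fin 6 → F) :
    psi6 γ x = ((x 0, x 5 + γ * x 2 + (1 + γ) * x 3), ((x 1, x 4 + γ * x 2 + x 3), (x 3, x 2))) :=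
  rfl

variable [Fintype F] [CharP F 2]

/-- the model form. -/
noncomputable def QM6 (γ : F) : (F × F) × ((F × F) × (F × F)) → F :=
  oplus (hypK F F) (oplus (hypK F F) (binQ 1 γ))

omit [Fintype F] [CharP F 2] in
theorem QM6_psi6 (γ : F) (x : Fin 6 → F) : QM6 γ (psi6 γ x) = Q6 γ x := by
  rw [psi6_apply]
  simp only [QM6, oplus, hypK, binQ, Q6, Algebra.trace_self_apply]
  ring

omit [Fintype F] in
theorem binQ_isQuad (γ : F) : IsQuad (binQ 1 γ) (hypForm F F) := by
  have h2 : (2 : F) = 0 := CharTwo.two_eq_zero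
  constructor
  · intro a v
    simp only [binQ, Prod.smul_fst, Prod.smul_snd, smul_eq_mul]; ring
  · intro v w
    simp only [binQ, Prod.fst_add, Prod.snd_add, hypForm_apply, Algebra.trace_self_apply]
    linear_combination (v.1 * w.1 + γ * v.2 * w.2 + v.2 * w.1) * h2

theorem gsum_binQ (γ : F) : gsum (binQ 1 γ) = (Fintype.card F : ℤ) * chi γ := by
  classical
  have h2 : (2 : F) = 0 := CharTwo.two_eq_zero
  rw [gsum_eq, Fintype.sum_prod_type_right]
  rw [Finset.sum_eq_single 1]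
  · have : ∀ z : F, chi (binQ 1 γ (z, 1)) = chi γ := by
      intro z
      have : binQ 1 γ (z, 1) = (z * z + z) + γ := by simp only [binQ]; ring
      rw [this, chi_add, chi_as, one_mul]
    simp [this]
  · intro y _ hy
    have h1 : ∀ z : F, chi (binQ 1 γ (z, y)) = chi (γ * y ^ 2) * chi ((1 + y) * z) := by
      intro z
      have : binQ 1 γ (z, y) = γ * y ^ 2 + ((z * z + z) + (1 + y) * z) := by
        simp only [binQ]; linear_combination (-z) * h2
      rw [this, chi_add, chi_add, chi_as, one_mul]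
    rw [Finset.sum_congr rfl (fun z _ => h1 z), ← Finset.mul_sum]
    have hne : (1 + y) ≠ 0 := by
      intro h
      apply hy
      have := eq_neg_of_add_eq_zero_right h
      rw [this, CharTwo.neg_eq]
    rw [sum_chi_mul hne, mul_zero]
  · intro h; exact absurd (Finset.mem_univ _) h

theorem gsum_QM6 (γ : F) : gsum (QM6 γ) = (Fintype.card F : ℤ) ^ 3 * chi γ := by
  unfold QM6
  rw [gsum_oplus, gsum_oplus, gsum_hypK, gsum_binQ, Nat.card_eq_fintype_card]
  ring

/-- the regular unipotent piece, with sign `chi γ`. -/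
theorem piece_j6 (γ : F) : Piece.{u, u} F 6 (chi γ) 8 := by
  refine ⟨(F × F) × ((F × F) × (F × F)), inferInstance, inferInstance, inferInstance, QM6 γ,
    prodForm (hypForm F F) (prodForm (hypForm F F) (hypForm F F)),
    (psi6 γ).symm.trans ((U6E F).trans (psi6 γ)), ?_, ?_, ?_, ?_, ?_, ?_⟩
  · simp only [Module.finrank_prod, Module.finrank_self]
  · exact isQuad_oplus (hypK_isQuad F F) (isQuad_oplus (hypK_isQuad F F) (binQ_isQuad γ))
  · exact prodForm_nondeg (hypK_nondeg F F) (prodForm_nondeg (hypK_nondeg F F) (hypK_nondeg F F))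
  · intro v
    simp only [LinearEquiv.trans_apply]
    rw [QM6_psi6, Q6_U6E, ← QM6_psi6, LinearEquiv.apply_symm_apply]
  · rw [conj_orderOf, orderOf_U6E]
  · rw [gsum_QM6]
    have h1 : chi γ * ((Fintype.card F : ℤ) ^ 3 * chi γ) = (Fintype.card F : ℤ) ^ 3 := by
      rw [mul_comm ((Fintype.card F : ℤ) ^ 3), ← mul_assoc, chi_mul_self, one_mul]
    rw [h1]
    have : (0 : ℤ) < Fintype.card F := by exact_mod_cast Fintype.card_pos
    positivity

end Cfsg.Agent.Lib.Sp8
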