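import Mathlib
import Cfsg.Agent.Lib.Helper7.Sp8Piece
import Cfsg.Agent.Lib.Helper5.SylTor5

namespace Cfsg.Agent.Lib.Sp8

open Module Helper5.SylTor

universe u v

variable {F : Type u} [Field F] [Fintype F] [CharP F 2]
  {L : Type v} [Field L] [Finite L] [Algebra F L]

/-- the quadratic form `Tr(η x σ(x))` on `L`. -/
noncomputable def minQ (e : ℕ) (η : L) : L → F := fun x => Algebra.trace F L (η * x * sig F L e x)

omit [CharP F 2] in
theorem minQ_isQuad {e : ℕ} (hfin : finrank F L = 2 * e) {η : L} (hη : η + sig F L e η = 1) :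
    IsQuad (minQ (F := F) e η) (nsForm (F := F) e 1) := by
  constructor
  · intro a x
    unfold minQ
    have h : η * (a • x) * sig F L e (a • x) = (a * a) • (η * x * sig F L e x) := by
      rw [map_smul, Algebra.smul_def, Algebra.smul_def, Algebra.smul_def, map_mul]; ring
    rw [h, map_smul, smul_eq_mul, sq]
  · intro x y
    unfold minQ
    rw [nsForm_apply, map_add]
    have h1 : Algebra.trace F L (η * y * sig F L e x) =
        Algebra.trace F L (sig F L e η * x * sig F L e y) := by
      have h0 : sig F L e (η * y * sig F L e x) = sig F L e η * x * sig F L e y := by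
        rw [map_mul, map_mul, sig_sig hfin]; ring
      rw [← h0]
      exact (Algebra.trace_eq_of_algEquiv (sig F L e) (η * y * sig F L e x)).symm
    have h2 : η * (x + y) * (sig F L e x + sig F L e y) =
        η * x * sig F L e x + η * y * sig F L e y + (η * x * sig F L e y + η * y * sig F L e x) := by
      ring
    rw [h2, map_add, map_add, map_add, h1, ← map_add (Algebra.trace F L) (η * x * sig F L e y)]
    congr 2
    rw [← hη]; ring

theorem exists_eta {e : ℕ} (he : 0 < e) (hfin : finrank F L = 2 * e) :
    ∃ η : L, η + sig F L e η = 1 := by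
  have : CharP L 2 := charP_of_injective_algebraMap (algebraMap F L).injective 2
  obtain ⟨δ, hδ⟩ := exists_sig_ne he hfin
  have hd : δ + sig F L e δ ≠ 0 := by
    intro h
    apply hδ
    have := eq_neg_of_add_eq_zero_right h
    rw [this, CharTwo.neg_eq]
  refine ⟨δ / (δ + sig F L e δ), ?_⟩
  rw [map_div₀, map_add, sig_sig hfin, add_comm (sig F L e δ) δ, ← add_div, div_self hd]

omit [CharP F 2] in
theorem natCard_L {e : ℕ} (hfin : finrank F L = 2 * e) :
    Nat.card L = (Fintype.card F ^ e) * (Fintype.card F ^ e) := by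
  have : FiniteDimensional F L := Module.Finite.of_finite
  rw [Module.natCard_eq_pow_finrank (K := F) (V := L), hfin, Nat.card_eq_fintype_card, two_mul,
    pow_add]

omit [CharP F 2] in
/-- a torus element of order `q^e + 1`. -/
theorem exists_torus_elt {e : ℕ} (he : 0 < e) (hfin : finrank F L = 2 * e) :
    ∃ u : Lˣ, orderOf u = Fintype.card F ^ e + 1 ∧ (u : L) * sig F L e (u : L) = 1 := by
  set Q := Fintype.card F ^ e with hQ
  have hQ2 : 2 ≤ Q := by
    have : 2 ≤ Fintype.card F := Fintype.one_lt_card
    calc 2 ≤ Fintype.card F := this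
      _ = Fintype.card F ^ 1 := (pow_one _).symm
      _ ≤ Fintype.card F ^ e := Nat.pow_le_pow_right (by omega) he
  have hunits : Nat.card Lˣ = (Q - 1) * (Q + 1) := by
    rw [Nat.card_units, natCard_L hfin, ← hQ]
    obtain ⟨c, hc⟩ : ∃ c, Q = c + 1 := ⟨Q - 1, by omega⟩
    rw [hc, Nat.add_sub_cancel]
    exact Nat.sub_eq_of_eq_add (by ring)
  obtain ⟨ξ, hξ⟩ := IsCyclic.exists_ofOrder_eq_natCard (α := Lˣ)
  rw [hunits] at hξ
  refine ⟨ξ ^ (Q - 1), ?_, ?_⟩
  · rw [orderOf_pow' ξ (by omega), hξ, Nat.gcd_mul_right_left, Nat.mul_div_cancel_left _ (by omega)]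
  · rw [sig_apply, ← hQ, ← pow_succ']
    have : ξ ^ ((Q - 1) * (Q + 1)) = 1 := by rw [← hξ]; exact pow_orderOf_eq_one ξ
    rw [← Units.val_pow_eq_pow_val, ← pow_mul, this, Units.val_one]

theorem gsum_minQ {e : ℕ} (he : 0 < e) (hfin : finrank F L = 2 * e) {η : L}
    (hη : η + sig F L e η = 1) : gsum (minQ (F := F) e η) = -(Fintype.card F ^ e : ℤ) := by
  set Q := Fintype.card F ^ e with hQ
  have hQ2 : 2 ≤ Q := by
    have : 2 ≤ Fintype.card F := Fintype.one_lt_card
    calc 2 ≤ Fintype.card F := this
      _ = Fintype.card F ^ 1 := (pow_one _).symm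
      _ ≤ Fintype.card F ^ e := Nat.pow_le_pow_right (by omega) he
  have hIQ := minQ_isQuad hfin hη
  have hsq := gsum_sq hIQ (nsForm_nondeg (F := F) (e := e) one_ne_zero)
  rw [natCard_L hfin, ← hQ] at hsq
  obtain ⟨u, hu, huσ⟩ := exists_torus_elt (F := F) he hfin
  rw [← hQ] at hu
  have hmod := gsum_modEq (Q := minQ (F := F) e η) hIQ.zero (fun x => (u : L) * x) (Q + 1)
    (by omega) (fun v => by simp) (fun v => by
      unfold minQ
      rw [map_mul (sig F L e)]
      congr 1
      calc η * ((u : L) * v) * (sig F L e (u : L) * sig F L e v)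
          = ((u : L) * sig F L e (u : L)) * (η * v * sig F L e v) := by ring
        _ = η * v * sig F L e v := by rw [huσ, one_mul])
    (fun v => by
      have : ∀ n : ℕ, (fun x => (u : L) * x)^[n] v = (u : L) ^ n * v := by
        intro n
        induction n with
        | zero => simp
        | succ n ih => rw [Function.iterate_succ_apply', ih, pow_succ]; ring
      rw [this, ← hu, ← Units.val_pow_eq_pow_val, pow_orderOf_eq_one, Units.val_one, one_mul])
    (fun v hv j hj hjN h => by
      have hit : ∀ n : ℕ, (fun x => (u : L) * x)^[n] v = (u : L) ^ n * v := by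
        intro n
        induction n with
        | zero => simp
        | succ n ih => rw [Function.iterate_succ_apply', ih, pow_succ]; ring
      rw [hit] at h
      have h1 : (u : L) ^ j = 1 := by
        have : ((u : L) ^ j - 1) * v = 0 := by rw [sub_mul, h, one_mul, sub_self]
        rcases mul_eq_zero.mp this with h' | h'
        · exact sub_eq_zero.mp h'
        · exact absurd h' hv
      have h2 : u ^ j = 1 := Units.ext (by rw [Units.val_pow_eq_pow_val, h1, Units.val_one])
      have := orderOf_le_of_pow_eq_one hj h2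
      omega)
  -- now `S² = Q²` and `(Q+1) ∣ S - 1`
  set S := gsum (minQ (F := F) e η) with hS
  have hcases : S = Q ∨ S = -(Q : ℤ) := by
    have : (S - Q) * (S + Q) = 0 := by push_cast at hsq; linear_combination hsq
    rcases mul_eq_zero.mp this with h | h
    · left; linarith
    · right; linarith
  rcases hcases with h | h
  · exfalso
    rw [h] at hmod
    have hpos : (0 : ℤ) < (Q : ℤ) - 1 := by
      have : (2 : ℤ) ≤ Q := by exact_mod_cast hQ2
      linarith
    have := Int.le_of_dvd hpos hmod
    push_cast at this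
    linarith
  · exact h

/-- the minus-type torus piece. -/
theorem piece_min_torus {e : ℕ} (he : 0 < e) (hfin : finrank F L = 2 * e) :
    Piece.{u, v} F (2 * e) (-1) (Fintype.card F ^ e + 1) := by
  have : FiniteDimensional F L := Module.Finite.of_finite
  obtain ⟨η, hη⟩ := exists_eta (F := F) he hfin
  obtain ⟨u, hu, huσ⟩ := exists_torus_elt (F := F) he hfin
  refine ⟨L, inferInstance, inferInstance, inferInstance, minQ e η, nsForm (F := F) e 1,
    DistribMulAction.toModuleAut F L u, hfin, minQ_isQuad hfin hη,
    nsForm_nondeg (F := F) (e := e) one_ne_zero, ?_, ?_, ?_⟩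
  · intro v
    unfold minQ
    simp only [DistribMulAction.toModuleAut_apply, DistribMulAction.toLinearEquiv_apply,
      Units.smul_def, smul_eq_mul, map_mul]
    congr 1
    calc η * ((u : L) * v) * (sig F L e (u : L) * sig F L e v)
        = ((u : L) * sig F L e (u : L)) * (η * v * sig F L e v) := by ring
      _ = η * v * sig F L e v := by rw [huσ, one_mul]
  · rw [orderOf_injective _ toModuleAut_injective, hu]
  · rw [gsum_minQ he hfin hη]
    have : (0 : ℤ) < (Fintype.card F : ℤ) ^ e := by positivity
    linarith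

/-- the Frobenius involution on the minus-type space. -/
theorem piece_min_refl {e : ℕ} (he : 0 < e) (hfin : finrank F L = 2 * e) :
    Piece.{u, v} F (2 * e) (-1) 2 := by
  have : FiniteDimensional F L := Module.Finite.of_finite
  obtain ⟨η, hη⟩ := exists_eta (F := F) he hfin
  refine ⟨L, inferInstance, inferInstance, inferInstance, minQ e η, nsForm (F := F) e 1,
    (sig F L e).toLinearEquiv, hfin, minQ_isQuad hfin hη,
    nsForm_nondeg (F := F) (e := e) one_ne_zero, ?_, ?_, ?_⟩
  · intro v
    unfold minQ
    simp only [AlgEquiv.toLinearEquiv_apply]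
    rw [sig_sig hfin]
    congr 1; ring
  · apply orderOf_eq_prime
    · ext x
      simp [pow_two, LinearEquiv.mul_apply, sig_sig hfin]
    · intro h
      obtain ⟨δ, hδ⟩ := exists_sig_ne (F := F) he hfin
      apply hδ
      have := congrArg (fun φ : L ≃ₗ[F] L => φ δ) h
      simpa using this
  · rw [gsum_minQ he hfin hη]
    have : (0 : ℤ) < (Fintype.card F : ℤ) ^ e := by positivity
    linarith

end Cfsg.Agent.Lib.Sp8
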