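import Mathlib

namespace Cfsg.Agent.Lib.Sp8

theorem coprime_of_odd_diff_two {A B : ℕ} (hA : Odd A)
    (h : ∃ u v, A * u = B * v + 2 ∨ B * v = A * u + 2) : Nat.Coprime A B := by
  obtain ⟨u, v, h⟩ := h
  have hd : Nat.gcd A B ∣ 2 := by
    have h1 : Nat.gcd A B ∣ A * u := (Nat.gcd_dvd_left A B).mul_right u
    have h2 : Nat.gcd A B ∣ B * v := (Nat.gcd_dvd_right A B).mul_right v
    rcases h with h | h
    · rw [h] at h1; exact (Nat.dvd_add_right h2).mp h1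
    · rw [h] at h2; exact (Nat.dvd_add_right h1).mp h2
  have hodd : Odd (Nat.gcd A B) := hA.of_dvd_nat (Nat.gcd_dvd_left A B)
  have : Nat.gcd A B ≤ 2 := Nat.le_of_dvd (by norm_num) hd
  rcases hodd with ⟨k, hk⟩
  unfold Nat.Coprime
  interval_cases h : Nat.gcd A B <;> omega

section

variable {r : ℕ} (hr : Odd r)
include hr

theorem odd_b : Odd (r ^ 2 + 2 * r + 2) := by
  obtain ⟨s, rfl⟩ := hr
  exact ⟨2 * s ^ 2 + 4 * s + 2, by ring⟩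

theorem odd_cm : Odd (r * (r ^ 2 + 3 * r + 3)) := by
  obtain ⟨s, rfl⟩ := hr
  exact ⟨4 * s ^ 3 + 12 * s ^ 2 + 12 * s + 3, by ring⟩

theorem odd_cp : Odd ((r + 2) * (r ^ 2 + r + 1)) := by
  obtain ⟨s, rfl⟩ := hr
  exact ⟨4 * s ^ 3 + 12 * s ^ 2 + 12 * s + 4, by ring⟩

theorem odd_ap : Odd (r + 2) := by
  obtain ⟨s, rfl⟩ := hr
  exact ⟨s + 1, by ring⟩

theorem lcm2 : Nat.lcm (r ^ 2 + 2 * r + 2) (r * (r + 2)) = (r ^ 2 + 2 * r + 2) * r * (r + 2) := by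
  rw [Nat.Coprime.lcm_eq_mul (coprime_of_odd_diff_two (odd_b hr) ⟨1, 1, Or.inl (by ring)⟩)]
  ring

theorem lcm3 : Nat.lcm (r * (r ^ 2 + 3 * r + 3)) (r + 2) = r * (r ^ 2 + 3 * r + 3) * (r + 2) := by
  rw [Nat.Coprime.lcm_eq_mul (coprime_of_odd_diff_two (odd_cm hr)
    ⟨1, r ^ 2 + r + 1, Or.inr (by ring)⟩)]

theorem lcm4 : Nat.lcm ((r + 2) * (r ^ 2 + r + 1)) r = (r + 2) * (r ^ 2 + r + 1) * r := by
  rw [Nat.Coprime.lcm_eq_mul (coprime_of_odd_diff_two (odd_cp hr)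
    ⟨1, r ^ 2 + 3 * r + 3, Or.inl (by ring)⟩)]

theorem lcm5 : Nat.lcm (r * (r ^ 2 + 3 * r + 3)) 2 = 2 * r * (r ^ 2 + 3 * r + 3) := by
  rw [Nat.Coprime.lcm_eq_mul (Nat.coprime_two_right.mpr (odd_cm hr))]; ring

theorem lcm6 : Nat.lcm ((r + 2) * (r ^ 2 + r + 1)) 2 = 2 * (r + 2) * (r ^ 2 + r + 1) := by
  rw [Nat.Coprime.lcm_eq_mul (Nat.coprime_two_right.mpr (odd_cp hr))]; ring

theorem cop_b_am : Nat.Coprime (r ^ 2 + 2 * r + 2) r :=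
  coprime_of_odd_diff_two (odd_b hr) ⟨1, r + 2, Or.inl (by ring)⟩

theorem cop_b_ap : Nat.Coprime (r ^ 2 + 2 * r + 2) (r + 2) :=
  coprime_of_odd_diff_two (odd_b hr) ⟨1, r, Or.inl (by ring)⟩

theorem cop_am_ap : Nat.Coprime r (r + 2) :=
  coprime_of_odd_diff_two hr ⟨1, 1, Or.inr (by ring)⟩

theorem lcm7 : Nat.lcm (Nat.lcm (r ^ 2 + 2 * r + 2) r) 2 = 2 * (r ^ 2 + 2 * r + 2) * r := by
  rw [Nat.Coprime.lcm_eq_mul (cop_b_am hr), Nat.Coprime.lcm_eq_mul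
    (Nat.coprime_two_right.mpr ((odd_b hr).mul hr))]
  ring

theorem lcm8 : Nat.lcm (Nat.lcm (r ^ 2 + 2 * r + 2) (r + 2)) 2 =
    2 * (r ^ 2 + 2 * r + 2) * (r + 2) := by
  rw [Nat.Coprime.lcm_eq_mul (cop_b_ap hr), Nat.Coprime.lcm_eq_mul
    (Nat.coprime_two_right.mpr ((odd_b hr).mul (odd_ap hr)))]
  ring

theorem lcm9 : Nat.lcm (r ^ 2 + 2 * r + 2) 4 = 4 * (r ^ 2 + 2 * r + 2) := by
  have : Nat.Coprime (r ^ 2 + 2 * r + 2) (2 ^ 2) :=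
    Nat.Coprime.pow_right 2 (Nat.coprime_two_right.mpr (odd_b hr))
  rw [show (4 : ℕ) = 2 ^ 2 by norm_num, Nat.Coprime.lcm_eq_mul this]; ring

theorem lcm10 : Nat.lcm (Nat.lcm 4 r) (r + 2) = 4 * r * (r + 2) := by
  have h1 : Nat.Coprime (2 ^ 2) r := Nat.Coprime.pow_left 2 (Nat.coprime_two_left.mpr hr)
  have h2 : Nat.Coprime (2 ^ 2) (r + 2) :=
    Nat.Coprime.pow_left 2 (Nat.coprime_two_left.mpr (odd_ap hr))
  rw [show (4 : ℕ) = 2 ^ 2 by norm_num, Nat.Coprime.lcm_eq_mul h1,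
    Nat.Coprime.lcm_eq_mul (Nat.Coprime.mul_left h2 (cop_am_ap hr))]

theorem lcm11 : Nat.lcm 8 r = 8 * r := by
  have h1 : Nat.Coprime (2 ^ 3) r := Nat.Coprime.pow_left 3 (Nat.coprime_two_left.mpr hr)
  rw [show (8 : ℕ) = 2 ^ 3 by norm_num, Nat.Coprime.lcm_eq_mul h1]

theorem lcm12 : Nat.lcm 8 (r + 2) = 8 * (r + 2) := by
  have h1 : Nat.Coprime (2 ^ 3) (r + 2) :=
    Nat.Coprime.pow_left 3 (Nat.coprime_two_left.mpr (odd_ap hr))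
  rw [show (8 : ℕ) = 2 ^ 3 by norm_num, Nat.Coprime.lcm_eq_mul h1]

end

end Cfsg.Agent.Lib.Sp8
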