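import Mathlib
import Cfsg.Agent.Lib.Helper7.Sp8Arith
import Cfsg.Agent.Lib.Helper7.Sp8RealArith
import Cfsg.Agent.Lib.Helper7.Sp8Hyp
import Cfsg.Agent.Lib.Helper7.Sp8Min
import Cfsg.Agent.Lib.Helper7.Sp8J6b

namespace Cfsg.Agent.Lib.Sp8

open Module

universe u v

variable {F : Type u} [Field F] [Fintype F] [CharP F 2]

omit [Fintype F] in
theorem Piece.congr {d d' : ℕ} {ε ε' : ℤ} {N N' : ℕ} (h : Piece.{u, v} F d ε N) (hd : d = d')
    (hε : ε = ε') (hN : N = N') : Piece.{u, v} F d' ε' N' := by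
  subst hd hε hN; exact h

theorem plusP (e : ℕ) (he : 0 < e) : Piece.{u, 0} F (2 * e) 1 (Fintype.card F ^ e - 1) := by
  have : NeZero e := ⟨he.ne'⟩
  have h := piece_hyp_torus (F := F) (FiniteField.Extension F 2 e)
  rw [FiniteField.finrank_extension, FiniteField.natCard_extension, Nat.card_eq_fintype_card] at h
  exact h

theorem minusP (e : ℕ) (he : 0 < e) : Piece.{u, 0} F (2 * e) (-1) (Fintype.card F ^ e + 1) := by
  have : NeZero (2 * e) := ⟨by omega⟩
  exact piece_min_torus (L := FiniteField.Extension F 2 (2 * e)) he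
    (FiniteField.finrank_extension F 2 (2 * e))

theorem reflP : Piece.{u, 0} F 2 (-1) 2 := by
  have : NeZero (2 * 1) := ⟨by omega⟩
  exact piece_min_refl (L := FiniteField.Extension F 2 (2 * 1)) one_pos
    (FiniteField.finrank_extension F 2 (2 * 1))

theorem odd_r {r : ℕ} (hq : Fintype.card F = r + 1) : Odd r := by
  obtain ⟨n, hn⟩ := FiniteField.card F 2
  have h1 : 1 ≤ (n : ℕ) := n.pos
  obtain ⟨k, hk⟩ : ∃ k, (n : ℕ) = k + 1 := ⟨n - 1, by omega⟩
  rw [hn.2, hk, pow_succ] at hq
  exact ⟨2 ^ k - 1, by have : 1 ≤ 2 ^ k := Nat.one_le_two_pow; omega⟩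

theorem realize_all {r : ℕ} (hq : Fintype.card F = r + 1) {a b : F}
    (han : ∀ z₁ z₂ : F, z₁ ^ 2 + a * z₁ * z₂ + b * z₂ ^ 2 = 0 → z₁ = 0 ∧ z₂ = 0) :
    ∀ E ∈ T r 4, ∃ x : ↥(Cfsg.isometryGroup F (Cfsg.quadFormMinus 3 F a b)), orderOf x = E := by
  have hr := odd_r hq
  have e2 : (r + 1) ^ 2 + 1 = r ^ 2 + 2 * r + 2 := by ring
  have e1 : (r + 1) ^ 1 + 1 = r + 2 := by ring
  have e3 : (r + 1) ^ 3 + 1 = (r + 2) * (r ^ 2 + r + 1) := by ring
  intro E hE
  simp only [T, List.mem_cons, List.not_mem_nil, or_false] at hE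
  rcases hE with h | h | h | h | h | h | h | h | h | h | h | h <;> subst h
  · exact ((minusP 4 (by norm_num)).congr (by norm_num) rfl (by rw [hq])).realize han
  · exact (((minusP 2 (by norm_num)).prod (plusP 2 (by norm_num))).congr (by norm_num)
      (by norm_num) (by rw [hq, e2, pow_two_sub, lcm2 hr])).realize han
  · exact (((plusP 3 (by norm_num)).prod (minusP 1 (by norm_num))).congr (by norm_num)
      (by norm_num) (by rw [hq, e1, pow_three_sub, lcm3 hr])).realize han
  · exact (((minusP 3 (by norm_num)).prod (plusP 1 (by norm_num))).congr (by norm_num)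
      (by norm_num) (by rw [hq, e3, pow_one_sub, lcm4 hr])).realize han
  · exact (((plusP 3 (by norm_num)).prod reflP).congr (by norm_num)
      (by norm_num) (by rw [hq, pow_three_sub, lcm5 hr])).realize han
  · exact (((minusP 3 (by norm_num)).prod piece_swap).congr (by norm_num)
      (by norm_num) (by rw [hq, e3, lcm6 hr])).realize han
  · exact ((((minusP 2 (by norm_num)).prod (plusP 1 (by norm_num))).prod piece_swap).congr
      (by norm_num) (by norm_num) (by rw [hq, e2, pow_one_sub, lcm7 hr])).realize han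
  · exact ((((minusP 2 (by norm_num)).prod (minusP 1 (by norm_num))).prod reflP).congr
      (by norm_num) (by norm_num) (by rw [hq, e2, e1, lcm8 hr])).realize han
  · exact (((minusP 2 (by norm_num)).prod piece_c4).congr (by norm_num)
      (by norm_num) (by rw [hq, e2, lcm9 hr])).realize han
  · exact (((piece_c4.prod (plusP 1 (by norm_num))).prod (minusP 1 (by norm_num))).congr
      (by norm_num) (by norm_num) (by rw [hq, e1, pow_one_sub, lcm10 hr])).realize han
  · obtain ⟨γ, hγ⟩ := exists_chi_neg (F := F)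
    exact (((piece_j6 γ).prod (plusP 1 (by norm_num))).congr (by norm_num)
      (by rw [hγ]; norm_num) (by rw [hq, pow_one_sub, lcm11 hr])).realize han
  · exact (((piece_j6 (0 : F)).prod (minusP 1 (by norm_num))).congr (by norm_num)
      (by rw [chi_zero]; norm_num) (by rw [hq, e1, lcm12 hr])).realize han

end Cfsg.Agent.Lib.Sp8
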