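import Mathlib
import Cfsg.Prelude.Def_Characters
import Cfsg.Agent.Lib.Lead.SUMinA3

set_option autoImplicit false

/-! S2333 (leader helper7): variant of the abstract chain bound `chain_bound` (Lib/Lead/SUMinA3)
in which the Heisenberg hypothesis is replaced by a direct lower bound for the non-zero
multiplicities. -/

namespace Cfsg.Agent.Lib.Helper7.SpEv

open Cfsg Cfsg.Agent.Lib.Helper1.SUMin
open scoped ComplexConjugate

universe u

variable {G : Type u} [Group G] [Fintype G] {S : Type u} [AddCommGroup S] [Fintype S]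
  {Y : Type u} [AddCommGroup Y] [Fintype Y]

theorem chain_bound₂ {χ : G → ℂ} (hχ : IsCharacter G χ) (m : ℕ) (d : ℕ → ℕ)
    (z : ℕ → S → G) (y : ℕ → Y → G)
    (hz : ∀ i a b, z i (a + b) = z i a * z i b)
    (hy : ∀ i a b, y i (a + b) = y i a * y i b)
    (hzz : ∀ i j a b, i < m → j < m → z i a * z j b = z j b * z i a)
    (hzy : ∀ i j a β, i < m → j < m → z j a * y i β = y i β * z j a)
    (h0 : 0 < m → ∃ c, χ (z 0 c) ≠ χ 1)
    (hM : ∀ i, i < m → ∀ ψ : AddChar S ℂ, ψ ≠ 1 →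
      ∃ k : ℕ, mu χ z i ψ = k ∧ (k ≠ 0 → d i ≤ k))
    (hT : ∀ i, i < m → ∀ ψ ψ' : AddChar S ℂ, ψ ≠ 1 → ψ' ≠ 1 →
      ∃ (g : G) (t : ℕ → S ≃ S), (∀ j, j ≤ i → ∀ a, g * z j a * g⁻¹ = z j (t j a)) ∧
        ∀ a, ψ' (t i a) = ψ a)
    (hR : ∀ i, 0 < i → i < m → ∀ ν : AddChar (S × S × Y) ℂ, (∃ a, ν (a, 0, 0) ≠ 1) →
      ∃ (s : G) (τ : (S × S × Y) ≃+ (S × S × Y)),
        (∀ j, j + 1 < i → ∀ a, s * z j a = z j a * s) ∧
        (∀ x : S × S × Y, s * (z (i - 1) x.1 * z i x.2.1 * y i x.2.2) * s⁻¹ =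
            z (i - 1) (τ x).1 * z i (τ x).2.1 * y i (τ x).2.2) ∧
        (∀ a, ν (τ (a, 0, 0)) = 1) ∧ ∃ b, ν (τ (0, b, 0)) ≠ 1) :
    ∃ k : ℕ, χ 1 = k ∧ ∑ i ∈ Finset.range m, (Fintype.card S - 1) * d i ≤ k := by
  classical
  have hcf := Cfsg.Agent.Lib.Helper4.isClassFunction_of_isCharacter hχ
  -- some nontrivial character occurs at every level
  have NV : ∀ i, i < m → ∃ ψ : AddChar S ℂ, ψ ≠ 1 ∧ mu χ z i ψ ≠ 0 := by
    intro i
    induction i with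
    | zero => intro h; exact a3_nv_zero χ z hz (h0 h)
    | succ i ih =>
      intro h
      obtain ⟨ψ, hψ, hμ⟩ := ih (by omega)
      refine a3_rstep hχ m z y hz hy hzz hzy i h ?_ ψ hψ hμ
      intro ν hν
      obtain ⟨s, τ, h1, h2, h3, h4⟩ := hR (i + 1) (Nat.succ_pos i) h ν hν
      refine ⟨s, τ, ?_, ?_, h3, h4⟩
      · intro j hj a; exact h1 j (by omega) a
      · intro x
        have := h2 x
        simpa only [Nat.add_sub_cancel] using this
  set K := Fintype.card S - 1 with hK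
  -- every level contributes `K * n` with `d i ≤ n`
  have LV : ∀ i, i < m → ∃ n : ℕ, d i ≤ n ∧
      ∑ ψ ∈ (Finset.univ : Finset (AddChar S ℂ)).erase 1, mu χ z i ψ = (K : ℂ) * (n : ℂ) := by
    intro i hi
    obtain ⟨ψ₀, hψ₀, hμ₀⟩ := NV i hi
    obtain ⟨n₀, hn₀, hb₀⟩ := hM i hi ψ₀ hψ₀
    have hn0 : n₀ ≠ 0 := by
      intro h; apply hμ₀; rw [hn₀, h]; simp
    refine ⟨n₀, hb₀ hn0, ?_⟩
    have hall : ∀ ψ ∈ (Finset.univ : Finset (AddChar S ℂ)).erase 1, mu χ z i ψ = (n₀ : ℂ) := by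
      intro ψ hψ
      have hψ1 : ψ ≠ 1 := (Finset.mem_erase.1 hψ).1
      obtain ⟨g, t, hg, ht⟩ := hT i hi ψ₀ ψ hψ₀ hψ1
      rw [a3_torus hcf z i ψ₀ ψ g t hg ht, hn₀]
    rw [Finset.sum_congr rfl hall, Finset.sum_const, Finset.card_erase_of_mem (Finset.mem_univ _),
      Finset.card_univ, AddChar.card_eq, nsmul_eq_mul]
  -- accumulate
  have ACC : ∀ i, i ≤ m → ∃ a : ℕ, (a : ℂ) + theta χ z i 1 = χ 1 ∧
      ∑ j ∈ Finset.range i, K * d j ≤ a := by
    intro i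
    induction i with
    | zero => intro _; exact ⟨0, by simp [theta_zero], by simp⟩
    | succ i ih =>
      intro h
      obtain ⟨a, ha, hs⟩ := ih (by omega)
      obtain ⟨n, hdn, hsum⟩ := LV i (by omega)
      refine ⟨a + K * n, ?_, ?_⟩
      · rw [← ha, a3_tele χ z hz i, hsum]; push_cast; ring
      · rw [Finset.sum_range_succ]; exact Nat.add_le_add hs (Nat.mul_le_mul_left _ hdn)
  obtain ⟨a, ha, hs⟩ := ACC m le_rfl
  have hθm : IsCharacter (⊥ : Subgroup G) (fun g : (⊥ : Subgroup G) => theta χ z m (g : G)) :=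
    theta_isCharacter hχ z hz m (fun j k a b hj hk => hzz j k a b hj hk) ⊥
      (by intro g hg j _ a; rw [Subgroup.mem_bot.1 hg]; simp)
  obtain ⟨t, ht⟩ := Cfsg.Agent.Lib.Helper4.isCharacter_apply_one hθm
  have ht' : theta χ z m 1 = (t : ℂ) := ht
  refine ⟨a + t, ?_, by omega⟩
  rw [← ha, ht']; push_cast; ring

end Cfsg.Agent.Lib.Helper7.SpEv
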