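import Mathlib
import Cfsg.Prelude
import Cfsg.Agent.Lib.Helper9.SpFus1
import Cfsg.Agent.Lib.Helper9.SpMax1
import Cfsg.Agent.Lib.Helper7.SpEvChain

set_option autoImplicit false

/-! S2333 (leader helper7): minimal degree of `Sp_{2n}(q)`, `q` even.  Definitions of the root
elements in the Siegel radical of `Matrix.symplecticGroup (Fin n) F`. -/

namespace Cfsg.Agent.Lib.Helper7.SpEv

open Matrix Cfsg.Agent.H9SpF

universe u

variable {F : Type u} [Field F]

/-- the symmetric matrix with entry `a` at the positions `(i,j)` and `(j,i)` -/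
def symU (n i j : ℕ) (a : F) : Matrix (Fin n) (Fin n) F :=
  Matrix.of fun k l => if (k.val = i ∧ l.val = j) ∨ (k.val = j ∧ l.val = i) then a else 0

theorem symU_apply (n i j : ℕ) (a : F) (k l : Fin n) :
    symU n i j a k l = if (k.val = i ∧ l.val = j) ∨ (k.val = j ∧ l.val = i) then a else 0 := rfl

theorem symU_isSymm (n i j : ℕ) (a : F) : (symU n i j a).IsSymm := by
  ext k l
  rw [Matrix.transpose_apply, symU_apply, symU_apply]
  have : ((l.val = i ∧ k.val = j) ∨ (l.val = j ∧ k.val = i)) ↔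
      ((k.val = i ∧ l.val = j) ∨ (k.val = j ∧ l.val = i)) := by tauto
  rw [if_congr this rfl rfl]

theorem symU_add (n i j : ℕ) (a b : F) : symU n i j (a + b) = symU n i j a + symU n i j b := by
  ext k l
  rw [Matrix.add_apply, symU_apply, symU_apply, symU_apply]
  split_ifs <;> simp

theorem symU_zero (n i j : ℕ) : symU n i j (0 : F) = 0 := by
  ext k l
  rw [symU_apply]
  simp

/-- the long root element `z_i(a)`: the Siegel element with parameter `a E_ii` -/
def zS (n i : ℕ) (a : F) : symplecticGroup (Fin n) F := sieg (symU n i i a) (symU_isSymm n i i a)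

/-- the symmetric matrix of `y_i(β)`: entries at `(i+1,i+1)`, `(i-1,i)`, `(i-1,i+1)`, `(i,i+1)` -/
def yM (n i : ℕ) (β : F × F × F × F) : Matrix (Fin n) (Fin n) F :=
  symU n (i + 1) (i + 1) β.1 + symU n (i - 1) i β.2.1 + symU n (i - 1) (i + 1) β.2.2.1 +
    symU n i (i + 1) β.2.2.2

theorem yM_isSymm (n i : ℕ) (β : F × F × F × F) : (yM n i β).IsSymm :=
  (((symU_isSymm _ _ _ _).add (symU_isSymm _ _ _ _)).add (symU_isSymm _ _ _ _)).add
    (symU_isSymm _ _ _ _)

theorem yM_add (n i : ℕ) (β β' : F × F × F × F) : yM n i (β + β') = yM n i β + yM n i β' := by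
  unfold yM
  simp only [Prod.fst_add, Prod.snd_add, symU_add]
  abel

/-- the element `y_i(β)` of the Siegel radical -/
def yS (n i : ℕ) (β : F × F × F × F) : symplecticGroup (Fin n) F := sieg (yM n i β) (yM_isSymm n i β)

/-- the symmetric matrix of `z_{i-1}(x.1) z_i(x.2.1) y_i(x.2.2)` -/
def rM (n i : ℕ) (x : F × F × (F × F × F × F)) : Matrix (Fin n) (Fin n) F :=
  symU n (i - 1) (i - 1) x.1 + symU n i i x.2.1 + yM n i x.2.2

theorem rM_isSymm (n i : ℕ) (x : F × F × (F × F × F × F)) : (rM n i x).IsSymm :=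
  ((symU_isSymm _ _ _ _).add (symU_isSymm _ _ _ _)).add (yM_isSymm _ _ _)

theorem zS_add (n i : ℕ) (a b : F) : zS n i (a + b) = zS n i a * zS n i b := by
  unfold zS
  rw [sieg_mul]
  exact sieg_congr _ (symU_add n i i a b)

theorem yS_add (n i : ℕ) (β β' : F × F × F × F) : yS n i (β + β') = yS n i β * yS n i β' := by
  unfold yS
  rw [sieg_mul]
  exact sieg_congr _ (yM_add n i β β')

theorem sieg_comm {m : ℕ} (S S' : Matrix (Fin m) (Fin m) F) (h : S.IsSymm) (h' : S'.IsSymm) :
    sieg S h * sieg S' h' = sieg S' h' * sieg S h := by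
  rw [sieg_mul, sieg_mul]
  exact sieg_congr _ (add_comm S S')

theorem zS_comm (n i j : ℕ) (a b : F) : zS n i a * zS n j b = zS n j b * zS n i a :=
  sieg_comm _ _ _ _

theorem zS_yS_comm (n i j : ℕ) (a : F) (β : F × F × F × F) :
    zS n j a * yS n i β = yS n i β * zS n j a :=
  sieg_comm _ _ _ _

theorem r_eq (n i : ℕ) (x : F × F × (F × F × F × F)) :
    zS n (i - 1) x.1 * zS n i x.2.1 * yS n i x.2.2 = sieg (rM n i x) (rM_isSymm n i x) := by
  unfold zS yS
  rw [sieg_mul, sieg_mul]
  rfl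

/-- the basis vector `e_i` of the Lagrangian `inl` (zero if `n ≤ i`) -/
def eL (n i : ℕ) : Fin n ⊕ Fin n → F :=
  Sum.elim (fun k => if k.val = i then 1 else 0) (fun _ => 0)

/-- the basis vector `f_i` of the opposite Lagrangian `inr` (zero if `n ≤ i`) -/
def fL (n i : ℕ) : Fin n ⊕ Fin n → F :=
  Sum.elim (fun _ => 0) (fun k => if k.val = i then 1 else 0)

end Cfsg.Agent.Lib.Helper7.SpEv
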