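import Mathlib
import Cfsg.Prelude
import Cfsg.Agent.Lib.Helper7.SpEvDefs

set_option autoImplicit false

/-! S2333 (leader helper7): definitions for the orbit step: the unipotent radical `U_i` of the
stabiliser of `e_i` in `Sp(⟨e_k, f_k : k ≥ i⟩)`, parametrised additively (characteristic 2). -/

namespace Cfsg.Agent.Lib.Helper7.SpEv

open Matrix Cfsg.Agent.H9SpF Cfsg.Agent.H9SpMax Cfsg.Agent.Lib.Helper1.SpBasic

universe u

variable {F : Type u} [Field F]

/-- the embedding of the standard symplectic space of rank `n - i - 1` onto `⟨e_k, f_k : k > i⟩` -/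
def embW (n i : ℕ) (w : Fin (n - i - 1) ⊕ Fin (n - i - 1) → F) : Fin n ⊕ Fin n → F :=
  Sum.elim
    (fun k => if h : i < k.val then w (Sum.inl ⟨k.val - i - 1, by have := k.isLt; omega⟩) else 0)
    (fun k => if h : i < k.val then w (Sum.inr ⟨k.val - i - 1, by have := k.isLt; omega⟩) else 0)

/-- the standard quadratic form `∑ x_k y_k` whose polar form is `sympForm` (in characteristic 2) -/
def Q0 (m : ℕ) (w : Fin m ⊕ Fin m → F) : F := ∑ k, w (Sum.inl k) * w (Sum.inr k)

/-- `u_i(w, a) : y ↦ y + ⟨y,e_i⟩ w + ⟨y,w⟩ e_i + a ⟨y,e_i⟩ e_i` -/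
def uS (n i : ℕ) (w : Fin (n - i - 1) ⊕ Fin (n - i - 1) → F) (a : F) :
    symplecticGroup (Fin n) F :=
  eich (embW n i w) (eL n i) * T (eL n i) a

/-- the additive parametrisation of `U_i` (characteristic 2) -/
def rS (n i : ℕ) (x : (Fin (n - i - 1) ⊕ Fin (n - i - 1) → F) × F) : symplecticGroup (Fin n) F :=
  uS n i x.1 (x.2 + Q0 (n - i - 1) x.1)

end Cfsg.Agent.Lib.Helper7.SpEv
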