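import Mathlib
import Cfsg.Prelude
import Cfsg.Agent.Lib.Helper7.SpEvDefs

set_option autoImplicit false

/-! S2333 (leader helper7): coordinates on the symmetric `3 × 3` matrices (R-step). -/

namespace Cfsg.Agent.Lib.Helper7.SpEv

open Matrix

universe u

variable {F : Type u} [Field F]

/-- the symmetric `3 × 3` matrix `[[a, β₂, β₃], [β₂, b, β₄], [β₃, β₄, β₁]]` with coordinates
`x = (a, b, (β₁, β₂, β₃, β₄))` -/
def symM3 (x : F × F × (F × F × F × F)) : Matrix (Fin 3) (Fin 3) F :=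
  !![x.1, x.2.2.2.1, x.2.2.2.2.1;
     x.2.2.2.1, x.2.1, x.2.2.2.2.2;
     x.2.2.2.2.1, x.2.2.2.2.2, x.2.2.1]

/-- the coordinates of a (symmetric) `3 × 3` matrix -/
def coords3 (B : Matrix (Fin 3) (Fin 3) F) : F × F × (F × F × F × F) :=
  (B 0 0, B 1 1, (B 2 2, B 0 1, B 0 2, B 1 2))

theorem coords3_symM3 (x : F × F × (F × F × F × F)) : coords3 (symM3 x) = x := by
  obtain ⟨a, b, β₁, β₂, β₃, β₄⟩ := x
  simp [coords3, symM3]

theorem symM3_isSymm (x : F × F × (F × F × F × F)) : (symM3 x).IsSymm := by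
  ext k l
  fin_cases k <;> fin_cases l <;> simp [symM3]

end Cfsg.Agent.Lib.Helper7.SpEv
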