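import Mathlib
import Cfsg.Prelude.Def_Characters

set_option autoImplicit false

namespace Cfsg.Agent.Lib.Helper7.SUMinF

open Cfsg
open scoped ComplexConjugate

universe u

/-- Fourier coefficients of a character along an additively parametrised abelian subgroup are
natural numbers: `|P|⁻¹ ∑_x conj (ν x) φ (r x)` is the rank of the `ν`-isotypic projection. -/
theorem fourier_coeff_nat {L : Type u} [Group L] {φ : L → ℂ} (hφ : IsCharacter L φ)
    {P : Type*} [AddCommGroup P] [Fintype P] (r : P → L) (hr : ∀ a b, r (a + b) = r a * r b)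
    (ν : AddChar P ℂ) :
    ∃ n : ℕ, (Fintype.card P : ℂ)⁻¹ * ∑ x : P, conj (ν x) * φ (r x) = n := by
  classical
  obtain ⟨n, ρ, rfl⟩ := hφ
  set e : (Fin n → ℂ) →ₗ[ℂ] (Fin n → ℂ) :=
    (Fintype.card P : ℂ)⁻¹ • ∑ x : P, conj (ν x) • ρ (r x) with he
  have hcard : (Fintype.card P : ℂ) ≠ 0 := by
    exact_mod_cast Fintype.card_ne_zero
  have hr0 : r 0 = 1 := by
    have := hr 0 0
    rw [add_zero] at this
    exact (mul_eq_left.1 this.symm)
  have hidem : IsIdempotentElem e := by
    unfold IsIdempotentElem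
    rw [he, smul_mul_smul_comm, Finset.sum_mul_sum]
    have h1 : ∀ x y : P, (conj (ν x) • ρ (r x)) * (conj (ν y) • ρ (r y)) =
        conj (ν (x + y)) • ρ (r (x + y)) := by
      intro x y
      rw [smul_mul_smul_comm, hr, map_mul, AddChar.map_add_eq_mul, map_mul]
    simp_rw [h1]
    have h2 : ∀ x : P, ∑ y : P, conj (ν (x + y)) • ρ (r (x + y)) =
        ∑ w : P, conj (ν w) • ρ (r w) := by
      intro x
      exact Fintype.sum_equiv (Equiv.addLeft x) _ _ (fun y => rfl)
    simp_rw [h2]
    rw [Finset.sum_const, Finset.card_univ, ← smul_smul, ← Nat.cast_smul_eq_nsmul ℂ, smul_smul,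
      smul_smul]
    congr 1
    field_simp
  have hproj := LinearMap.IsIdempotentElem.isProj_range e hidem
  have htr := LinearMap.IsProj.trace hproj
  refine ⟨Module.finrank ℂ (LinearMap.range e), ?_⟩
  rw [← htr, he, map_smul, map_sum, smul_eq_mul]
  congr 1
  refine Finset.sum_congr rfl (fun x _ => ?_)
  rw [map_smul, smul_eq_mul]
  rfl

end Cfsg.Agent.Lib.Helper7.SUMinF
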