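import Mathlib
import Cfsg.Prelude.Def_Characters

set_option autoImplicit false

namespace Cfsg.Agent.Lib.Helper7.SUMinF

open Cfsg
open scoped ComplexConjugate

/-- Fourier coefficient of `f : P → ℂ` at the additive character `ν` -/
noncomputable def fc {P : Type*} [AddCommGroup P] [Fintype P] (ν : AddChar P ℂ) (f : P → ℂ) : ℂ :=
  (Fintype.card P : ℂ)⁻¹ * ∑ x : P, conj (ν x) * f x

theorem fc_def {P : Type*} [AddCommGroup P] [Fintype P] (ν : AddChar P ℂ) (f : P → ℂ) :
    fc ν f = (Fintype.card P : ℂ)⁻¹ * ∑ x : P, conj (ν x) * f x := rfl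

/-- orthogonality in the form of an indicator -/
theorem sum_mul_conj_eq_ite {A : Type*} [AddCommGroup A] [Fintype A] (φ ψ : AddChar A ℂ)
    [Decidable (φ = ψ)] :
    ∑ a : A, φ a * conj (ψ a) = if φ = ψ then (Fintype.card A : ℂ) else 0 := by
  classical
  have h1 : ∀ a : A, φ a * conj (ψ a) = (φ - ψ) a := by
    intro a
    rw [AddChar.sub_apply', div_eq_mul_inv, AddChar.inv_apply_eq_conj]
  simp_rw [h1]
  rw [AddChar.sum_eq_ite]
  simp only [sub_eq_zero]

/-- restriction of the Fourier expansion along an additive map -/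
theorem fc_restrict {P A : Type*} [AddCommGroup P] [Fintype P] [AddCommGroup A] [Fintype A]
    (f : P → ℂ) (ι : A →+ P) (ψ : AddChar A ℂ) [DecidablePred fun ν : AddChar P ℂ =>
      ν.compAddMonoidHom ι = ψ] :
    (Fintype.card A : ℂ)⁻¹ * ∑ a : A, conj (ψ a) * f (ι a) =
      ∑ ν : AddChar P ℂ, if ν.compAddMonoidHom ι = ψ then fc ν f else 0 := by
  classical
  have hA : (Fintype.card A : ℂ) ≠ 0 := by exact_mod_cast Fintype.card_ne_zero
  have hP : (Fintype.card P : ℂ) ≠ 0 := by exact_mod_cast Fintype.card_ne_zero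
  have h1 : ∀ ν : AddChar P ℂ, (if ν.compAddMonoidHom ι = ψ then fc ν f else 0) =
      (Fintype.card A : ℂ)⁻¹ * (∑ a : A, ν (ι a) * conj (ψ a)) * fc ν f := by
    intro ν
    have := sum_mul_conj_eq_ite (ν.compAddMonoidHom ι) ψ
    simp only [AddChar.compAddMonoidHom_apply] at this
    rw [this]
    split_ifs with h
    · rw [inv_mul_cancel₀ hA, one_mul]
    · rw [mul_zero, zero_mul]
  simp_rw [h1, fc_def]
  -- expand and exchange the sums
  have h2 : ∀ ν : AddChar P ℂ,
      (Fintype.card A : ℂ)⁻¹ * (∑ a : A, ν (ι a) * conj (ψ a)) *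
        ((Fintype.card P : ℂ)⁻¹ * ∑ x : P, conj (ν x) * f x) =
      (Fintype.card A : ℂ)⁻¹ * (Fintype.card P : ℂ)⁻¹ *
        ∑ a : A, ∑ x : P, conj (ψ a) * f x * ν (ι a - x) := by
    intro ν
    have e0 : (Fintype.card A : ℂ)⁻¹ * (∑ a : A, ν (ι a) * conj (ψ a)) *
        ((Fintype.card P : ℂ)⁻¹ * ∑ x : P, conj (ν x) * f x) =
        (Fintype.card A : ℂ)⁻¹ * (Fintype.card P : ℂ)⁻¹ *
          ((∑ a : A, ν (ι a) * conj (ψ a)) * ∑ x : P, conj (ν x) * f x) := by ring
    rw [e0, Finset.sum_mul_sum]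
    have : ∀ (a : A) (x : P), ν (ι a) * conj (ψ a) * (conj (ν x) * f x) =
        conj (ψ a) * f x * ν (ι a - x) := by
      intro a x
      rw [sub_eq_add_neg, AddChar.map_add_eq_mul, AddChar.map_neg_eq_conj]
      ring
    simp_rw [this]
  simp_rw [h2]
  rw [← Finset.mul_sum, Finset.sum_comm]
  have h3 : ∀ a : A, ∑ ν : AddChar P ℂ, ∑ x : P, conj (ψ a) * f x * ν (ι a - x) =
      (Fintype.card P : ℂ) * (conj (ψ a) * f (ι a)) := by
    intro a
    rw [Finset.sum_comm]
    simp_rw [← Finset.mul_sum, AddChar.sum_apply_eq_ite, sub_eq_zero]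
    rw [Finset.sum_eq_single (ι a)]
    · rw [if_pos rfl]; ring
    · intro x _ hx
      rw [if_neg (fun h => hx h.symm), mul_zero]
    · intro h; exact absurd (Finset.mem_univ _) h
  simp_rw [h3]
  rw [← Finset.mul_sum]
  field_simp

/-- invariance of the coefficients under an additive automorphism preserving `f` -/
theorem fc_comp_equiv {P : Type*} [AddCommGroup P] [Fintype P] (f : P → ℂ) (τ : P ≃+ P)
    (hτ : ∀ x, f (τ x) = f x) (ν : AddChar P ℂ) :
    fc (ν.compAddMonoidHom τ.toAddMonoidHom) f = fc ν f := by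
  rw [fc_def, fc_def]
  congr 1
  refine Fintype.sum_equiv τ.toEquiv _ _ (fun x => ?_)
  simp only [AddChar.compAddMonoidHom_apply, AddEquiv.toAddMonoidHom_eq_coe, AddMonoidHom.coe_coe,
    AddEquiv.toEquiv_eq_coe, EquivLike.coe_coe]
  rw [hτ]

end Cfsg.Agent.Lib.Helper7.SUMinF
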