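import Mathlib
import Cfsg.Prelude.Def_Characters
import Cfsg.Agent.Lib.Helper7.SpEvF1
import Cfsg.Agent.Lib.Helper7.SpEvF2
import Cfsg.Agent.Lib.Helper4.Characters

set_option autoImplicit false

/-! S2333 PK-E1: the abstract orbit bound.  If `θ` is a character of `L`, `r : A → L` an additively
parametrised abelian subgroup, `ι : S →+ A`, and every character `Λ` of `A` over `ψ` has at least
`d` conjugates (under elements of `L` normalising `r A`) which again lie over `ψ`, then the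
multiplicity of `ψ` in `θ ∘ r ∘ ι` is a natural number which is `0` or at least `d`. -/

namespace Cfsg.Agent.Lib.Helper7.SpEv

open Cfsg Cfsg.Agent.Lib.Helper7.SUMinF
open scoped ComplexConjugate

universe u

theorem orbit_mu_bound {L : Type u} [Group L] {θ : L → ℂ} (hθ : IsCharacter L θ)
    {A : Type*} [AddCommGroup A] [Fintype A] {S : Type*} [AddCommGroup S] [Fintype S]
    (r : A → L) (hr : ∀ a b, r (a + b) = r a * r b) (ι : S →+ A) (ψ : AddChar S ℂ) (d : ℕ)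
    (horb : ∀ Λ : AddChar A ℂ, Λ.compAddMonoidHom ι = ψ →
      ∃ O : Finset (AddChar A ℂ), d ≤ O.card ∧ ∀ Λ' ∈ O, Λ'.compAddMonoidHom ι = ψ ∧
        ∃ (g : L) (τ : A ≃+ A), (∀ a, g * r a * g⁻¹ = r (τ a)) ∧
          Λ' = Λ.compAddMonoidHom τ.toAddMonoidHom) :
    ∃ k : ℕ, (Fintype.card S : ℂ)⁻¹ * ∑ c : S, conj (ψ c) * θ (r (ι c)) = k ∧
      (k ≠ 0 → d ≤ k) := by
  classical
  have hcf := Cfsg.Agent.Lib.Helper4.isClassFunction_of_isCharacter hθ
  set f : A → ℂ := fun a => θ (r a) with hf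
  -- the coefficients are natural numbers
  have hnat : ∀ ν : AddChar A ℂ, ∃ n : ℕ, fc ν f = n := fun ν =>
    fourier_coeff_nat hθ r hr ν
  choose N hN using hnat
  have hsum : (Fintype.card S : ℂ)⁻¹ * ∑ c : S, conj (ψ c) * θ (r (ι c)) =
      ∑ ν : AddChar A ℂ, if ν.compAddMonoidHom ι = ψ then fc ν f else 0 :=
    fc_restrict f ι ψ
  set T : Finset (AddChar A ℂ) := Finset.univ.filter (fun ν => ν.compAddMonoidHom ι = ψ) with hT
  have hk : (Fintype.card S : ℂ)⁻¹ * ∑ c : S, conj (ψ c) * θ (r (ι c)) =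
      ((∑ ν ∈ T, N ν : ℕ) : ℂ) := by
    rw [hsum, Nat.cast_sum, hT, Finset.sum_filter]
    apply Finset.sum_congr rfl
    intro ν _
    split_ifs
    · exact hN ν
    · rfl
  refine ⟨∑ ν ∈ T, N ν, hk, ?_⟩
  intro hne
  -- some coefficient over `ψ` is non-zero
  obtain ⟨Λ, hΛT, hΛ⟩ : ∃ Λ ∈ T, N Λ ≠ 0 := by
    by_contra hcon
    push_neg at hcon
    exact hne (Finset.sum_eq_zero hcon)
  have hΛψ : Λ.compAddMonoidHom ι = ψ := (Finset.mem_filter.1 hΛT).2
  obtain ⟨O, hdO, hO⟩ := horb Λ hΛψ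
  have hOT : O ⊆ T := by
    intro Λ' hΛ'
    exact Finset.mem_filter.2 ⟨Finset.mem_univ _, (hO Λ' hΛ').1⟩
  have hOeq : ∀ Λ' ∈ O, N Λ' = N Λ := by
    intro Λ' hΛ'
    obtain ⟨-, g, τ, hg, rfl⟩ := hO Λ' hΛ'
    have hinv : ∀ x, f (τ x) = f x := by
      intro x
      show θ (r (τ x)) = θ (r x)
      rw [← hg x]
      exact hcf (r x) g
    have := fc_comp_equiv f τ hinv Λ
    rw [hN, hN] at this
    exact_mod_cast this
  calc d ≤ O.card := hdO
    _ = ∑ _Λ' ∈ O, 1 := by simp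
    _ ≤ ∑ Λ' ∈ O, N Λ' := by
        apply Finset.sum_le_sum
        intro Λ' hΛ'
        rw [hOeq Λ' hΛ']
        exact Nat.one_le_iff_ne_zero.2 hΛ
    _ ≤ ∑ ν ∈ T, N ν := Finset.sum_le_sum_of_subset hOT

end Cfsg.Agent.Lib.Helper7.SpEv
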