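import Mathlib
import Cfsg.Agent.Lib.Helper7.SubfDefs
import Cfsg.Agent.Lib.Helper7.SubfDefs2
import Cfsg.Agent.Lib.Helper1.Subf_X

set_option autoImplicit false

/-!
# S5639, PK-B: the rank lemma
-/

namespace Cfsg.Agent.Lib.Helper7.Subf

open Matrix

variable {F : Type*} [Field F] {n : ℕ}

namespace PkB

theorem dot_single_one (φ : Fin n → F) (k : Fin n) : φ ⬝ᵥ (Pi.single k 1 : Fin n → F) = φ k := by
  rw [dotProduct_single, mul_one]

theorem single_one_dot (φ : Fin n → F) (k : Fin n) : (Pi.single k 1 : Fin n → F) ⬝ᵥ φ = φ k := by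
  rw [single_dotProduct, one_mul]

theorem exists_ne_zero_of_ne_zero {ψ : Fin n → F} (h : ψ ≠ 0) : ∃ k, ψ k ≠ 0 := by
  by_contra hcon
  simp only [not_exists, not_not] at hcon
  exact h (funext hcon)

/-- a rational combination of two independent rational functionals, non-zero, killing a given rational vector -/
theorem exists_comb_kill (F₀ : Subfield F) (φ₁ φ₂ v' : Fin n → F) (h1 : Rat F₀ φ₁) (h2 : Rat F₀ φ₂)
    (hv' : Rat F₀ v') (hind : Indep φ₁ φ₂) :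
    ∃ α β : F, α ∈ F₀ ∧ β ∈ F₀ ∧ α • φ₁ + β • φ₂ ≠ 0 ∧ (α • φ₁ + β • φ₂) ⬝ᵥ v' = 0 := by
  obtain ⟨i, j, hij⟩ := hind
  by_cases h : φ₁ ⬝ᵥ v' = 0
  · refine ⟨1, 0, F₀.one_mem, F₀.zero_mem, ?_, ?_⟩
    · rw [one_smul, zero_smul, add_zero]
      intro h0
      apply hij
      rw [h0]; simp
    · rw [one_smul, zero_smul, add_zero, h]
  · refine ⟨φ₂ ⬝ᵥ v', -(φ₁ ⬝ᵥ v'), h2.dot hv', F₀.neg_mem (h1.dot hv'), ?_, ?_⟩
    · intro h0
      apply hij
      have e : ∀ l, (φ₂ ⬝ᵥ v') * φ₁ l = (φ₁ ⬝ᵥ v') * φ₂ l := by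
        intro l
        have := congrFun h0 l
        simp only [Pi.add_apply, Pi.smul_apply, smul_eq_mul, Pi.zero_apply, neg_mul] at this
        linear_combination this
      have : (φ₁ ⬝ᵥ v') * (φ₁ i * φ₂ j - φ₁ j * φ₂ i) = 0 := by
        linear_combination φ₁ j * e i - φ₁ i * e j
      rcases mul_eq_zero.1 this with h' | h'
      · exact absurd h' h
      · exact h'
    · rw [add_dotProduct, smul_dotProduct, smul_dotProduct, smul_eq_mul, smul_eq_mul]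
      ring

end PkB

open PkB in
theorem rank_lemma (hn : 3 ≤ n) (F₀ : Subfield F) (M : Subgroup (GL (Fin n) F)) (hT : HasRatTv F₀ M)
    (hS : SS F₀ M) : RL F₀ M := by
  intro w ψ φ₁ φ₂ hinc hM h1 h2 hind hk1 hk2
  by_cases hψ0 : ψ = 0
  · subst hψ0
    intro i j
    rw [vecMulVec_apply, Pi.zero_apply, mul_zero]
    exact F₀.zero_mem
  obtain ⟨k, hk⟩ := exists_ne_zero_of_ne_zero hψ0
  set v' : Fin n → F := Pi.single k 1 with hv'def
  have hv' : Rat F₀ v' := Rat.single F₀ k F₀.one_mem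
  have hψv' : ψ ⬝ᵥ v' = ψ k := dot_single_one ψ k
  -- the functional `φ'`
  obtain ⟨α, β, hα, hβ, hφ'0, hφ'v'⟩ := exists_comb_kill F₀ φ₁ φ₂ v' h1 h2 hv' hind
  set φ' : Fin n → F := α • φ₁ + β • φ₂ with hφ'def
  have hφ'r : Rat F₀ φ' := (h1.smul hα).add (h2.smul hβ)
  have hφ'w : φ' ⬝ᵥ w = 0 := by
    rw [hφ'def, add_dotProduct, smul_dotProduct, smul_dotProduct, hk1, hk2, smul_zero, smul_zero, add_zero]
  -- `h₂ = 1 + c • w φ'ᵀ`
  have hc : Mm M (tvm (ψ k) w φ') := by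
    have := Mm.comm_tvm (M := M) (a := 1) (b := 1) hinc hφ'v' hφ'w hM (hT v' φ' hv' hφ'r hφ'v')
    rwa [one_mul, one_mul, hψv'] at this
  -- `c • w` is rational
  have hcw : ∀ i, ψ k * w i ∈ F₀ := by
    intro i
    set φ'' : Fin n → F := Pi.single i 1 with hφ''def
    have hφ''r : Rat F₀ φ'' := Rat.single F₀ i F₀.one_mem
    obtain ⟨v'', hv''r, hv''0, hv''1, hv''2⟩ := exists_rat_kill_two hn F₀ φ' φ'' hφ'r hφ''r
    have := Mm.comm_tvm (M := M) (a := 1) (b := ψ k) hv''2 hφ'w hv''1 (hT v'' φ'' hv''r hφ''r hv''2) hc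
    have h3 := hS _ v'' φ' hv''r hφ'r hv''0 hφ'0 hv''1 this
    rwa [one_mul, hφ''def, single_one_dot] at h3
  set v₀ : Fin n → F := ψ k • w with hv₀def
  have hv₀r : Rat F₀ v₀ := fun i => hcw i
  set ψ' : Fin n → F := (ψ k)⁻¹ • ψ with hψ'def
  have htv : tvm (1 : F) v₀ ψ' = tvm 1 w ψ := by
    rw [hv₀def, hψ'def, tvm_smul_left, tvm_smul_right, one_mul, mul_inv_cancel₀ hk]
  have hinc' : ψ' ⬝ᵥ v₀ = 0 := by
    rw [hψ'def, hv₀def, smul_dotProduct, dotProduct_smul, hinc, smul_zero, smul_zero]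
  have hM' : Mm M (tvm 1 v₀ ψ') := by rw [htv]; exact hM
  by_cases hw0 : w = 0
  · subst hw0
    intro i j
    rw [vecMulVec_apply, Pi.zero_apply, zero_mul]
    exact F₀.zero_mem
  have hv₀0 : v₀ ≠ 0 := by
    rw [hv₀def]
    exact smul_ne_zero hk hw0
  -- `ψ'` is rational
  have hψ'r : Rat F₀ ψ' := by
    intro j
    set v : Fin n → F := Pi.single j 1 with hvdef
    have hvr : Rat F₀ v := Rat.single F₀ j F₀.one_mem
    obtain ⟨φ, hφr, hφ0, hφ1, hφ2⟩ := exists_rat_kill_two hn F₀ v₀ v hv₀r hvr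
    rw [dotProduct_comm] at hφ1 hφ2
    have := Mm.comm_tvm (M := M) (a := 1) (b := 1) hinc' hφ2 hφ1 hM' (hT v φ hvr hφr hφ2)
    have h3 := hS _ v₀ φ hv₀r hφr hv₀0 hφ0 hφ1 this
    rwa [one_mul, one_mul, hvdef, dot_single_one] at h3
  intro i j
  have : vecMulVec w ψ i j = v₀ i * ψ' j := by
    rw [vecMulVec_apply, hv₀def, hψ'def, Pi.smul_apply, Pi.smul_apply, smul_eq_mul, smul_eq_mul]
    field_simp
  rw [this]
  exact F₀.mul_mem (hv₀r i) (hψ'r j)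

end Cfsg.Agent.Lib.Helper7.Subf
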