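import Mathlib
import Cfsg.Agent.Lib.Helper7.SubfDefs
import Cfsg.Agent.Lib.Helper7.SubfDefs2
import Cfsg.Agent.Lib.Helper1.Subf_X
import Cfsg.Agent.Lib.Helper7.Subf_B

set_option autoImplicit false

/-!
# S5639, PK-C: the stabiliser lemma
-/

namespace Cfsg.Agent.Lib.Helper7.Subf

open Matrix

variable {F : Type*} [Field F] {n : ℕ}

namespace PkC

open PkB

theorem gl_mul_inv (m : GL (Fin n) F) :
    (m : Matrix (Fin n) (Fin n) F) * ((m⁻¹ : GL (Fin n) F) : Matrix (Fin n) (Fin n) F) = 1 := by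
  rw [← Units.val_mul, mul_inv_cancel, Units.val_one]

theorem gl_inv_mul (m : GL (Fin n) F) :
    ((m⁻¹ : GL (Fin n) F) : Matrix (Fin n) (Fin n) F) * (m : Matrix (Fin n) (Fin n) F) = 1 := by
  rw [← Units.val_mul, inv_mul_cancel, Units.val_one]

theorem gl_inv_mulVec_mulVec (m : GL (Fin n) F) (x : Fin n → F) :
    ((m⁻¹ : GL (Fin n) F) : Matrix (Fin n) (Fin n) F) *ᵥ ((m : Matrix (Fin n) (Fin n) F) *ᵥ x) = x := by
  rw [mulVec_mulVec, gl_inv_mul, one_mulVec]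

theorem gl_mulVec_inv_mulVec (m : GL (Fin n) F) (x : Fin n → F) :
    (m : Matrix (Fin n) (Fin n) F) *ᵥ (((m⁻¹ : GL (Fin n) F) : Matrix (Fin n) (Fin n) F) *ᵥ x) = x := by
  rw [mulVec_mulVec, gl_mul_inv, one_mulVec]

theorem gl_vecMul_inv_vecMul (m : GL (Fin n) F) (x : Fin n → F) :
    (x ᵥ* ((m⁻¹ : GL (Fin n) F) : Matrix (Fin n) (Fin n) F)) ᵥ* (m : Matrix (Fin n) (Fin n) F) = x := by
  rw [vecMul_vecMul, gl_inv_mul, vecMul_one]

/-- step (a): the rows of `lam • m⁻¹` along rational functionals killing `v₁` are rational -/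
theorem stab_step_a (hn : 4 ≤ n) (F₀ : Subfield F) (M : Subgroup (GL (Fin n) F)) (hT : HasRatTv F₀ M)
    (hRL : RL F₀ M) (m : GL (Fin n) F) (hm : m ∈ M) (v₁ v₂ : Fin n → F) (lam : F) (h1 : Rat F₀ v₁)
    (h2 : Rat F₀ v₂) (h20 : v₂ ≠ 0) (hmv : (m : Matrix (Fin n) (Fin n) F) *ᵥ v₁ = lam • v₂)
    (φ : Fin n → F) (hφ : Rat F₀ φ) (hφ1 : φ ⬝ᵥ v₁ = 0) :
    Rat F₀ (lam • (φ ᵥ* ((m⁻¹ : GL (Fin n) F) : Matrix (Fin n) (Fin n) F))) := by
  set ψ : Fin n → F := φ ᵥ* ((m⁻¹ : GL (Fin n) F) : Matrix (Fin n) (Fin n) F) with hψ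
  have hM : Mm M (tvm 1 (lam • v₂) ψ) := by
    have := (hT v₁ φ h1 hφ hφ1).conj hm
    rwa [conj_tvm, hmv] at this
  have hinc : ψ ⬝ᵥ (lam • v₂) = 0 := by
    rw [← hmv, hψ, ← dotProduct_mulVec, gl_inv_mulVec_mulVec, hφ1]
  obtain ⟨x₁, x₂, hx₁, hx₂, hind, e1, _, e2, _⟩ := exists_rat_kill_two_indep hn F₀ v₂ v₂ h2 h2
  have k1 : x₁ ⬝ᵥ (lam • v₂) = 0 := by rw [dotProduct_smul, dotProduct_comm, e1, smul_zero]
  have k2 : x₂ ⬝ᵥ (lam • v₂) = 0 := by rw [dotProduct_smul, dotProduct_comm, e2, smul_zero]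
  have hR := hRL (lam • v₂) ψ x₁ x₂ hinc hM hx₁ hx₂ hind k1 k2
  obtain ⟨i, hi⟩ := exists_ne_zero_of_ne_zero h20
  intro j
  have := hR i j
  rw [vecMulVec_apply, Pi.smul_apply, smul_eq_mul] at this
  have h3 : (lam • ψ) j = (v₂ i)⁻¹ * (lam * v₂ i * ψ j) := by
    rw [Pi.smul_apply, smul_eq_mul]
    field_simp
  rw [h3]
  exact F₀.mul_mem (F₀.inv_mem (h2 i)) this

end PkC

open PkB PkC in
theorem stab_lemma (hn : 4 ≤ n) (F₀ : Subfield F) (M : Subgroup (GL (Fin n) F)) (hT : HasRatTv F₀ M)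
    (hRL : RL F₀ M) : SL3 F₀ M := by
  intro m hm v₁ v₂ lam h1 h2 h10 hlam hmv
  set mM : Matrix (Fin n) (Fin n) F := (m : Matrix (Fin n) (Fin n) F) with hmM
  set mI : Matrix (Fin n) (Fin n) F := ((m⁻¹ : GL (Fin n) F) : Matrix (Fin n) (Fin n) F) with hmI
  have h20 : v₂ ≠ 0 := by
    intro h0
    apply h10
    have : mI *ᵥ (mM *ᵥ v₁) = v₁ := gl_inv_mulVec_mulVec m v₁
    rw [hmv, h0, smul_zero, mulVec_zero] at this
    exact this.symm
  have hmv' : mI *ᵥ v₂ = lam⁻¹ • v₁ := by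
    have : mI *ᵥ (mM *ᵥ v₁) = v₁ := gl_inv_mulVec_mulVec m v₁
    rw [hmv, mulVec_smul] at this
    rw [← this, smul_smul, inv_mul_cancel₀ hlam, one_smul]
  -- (a) and (a')
  have ha : ∀ φ : Fin n → F, Rat F₀ φ → φ ⬝ᵥ v₁ = 0 → Rat F₀ (lam • (φ ᵥ* mI)) :=
    fun φ hφ hφ1 => stab_step_a hn F₀ M hT hRL m hm v₁ v₂ lam h1 h2 h20 hmv φ hφ hφ1
  have ha' : ∀ ρ : Fin n → F, Rat F₀ ρ → ρ ⬝ᵥ v₂ = 0 → Rat F₀ (lam⁻¹ • (ρ ᵥ* mM)) := by
    intro ρ hρ hρ2
    have := stab_step_a hn F₀ M hT hRL m⁻¹ (M.inv_mem hm) v₂ v₁ lam⁻¹ h2 h1 h10 hmv' ρ hρ hρ2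
    rwa [inv_inv] at this
  -- every rational vector goes to `lam •` a rational vector
  have key : ∀ v : Fin n → F, Rat F₀ v → Rat F₀ (lam⁻¹ • (mM *ᵥ v)) := by
    intro v hv
    set u : Fin n → F := lam⁻¹ • (mM *ᵥ v) with hu
    -- (b)
    have hb : ∀ ρ : Fin n → F, Rat F₀ ρ → ρ ⬝ᵥ v₂ = 0 → ρ ⬝ᵥ u ∈ F₀ := by
      intro ρ hρ hρ2
      have : ρ ⬝ᵥ u = (lam⁻¹ • (ρ ᵥ* mM)) ⬝ᵥ v := by
        rw [hu, dotProduct_smul, smul_dotProduct, dotProduct_mulVec]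
      rw [this]
      exact (ha' ρ hρ hρ2).dot hv
    -- (c)
    obtain ⟨k, hk⟩ := exists_ne_zero_of_ne_zero h20
    set x : F := u k / v₂ k with hx
    set u' : Fin n → F := u - x • v₂ with hu'
    have hu'r : Rat F₀ u' := by
      intro j
      by_cases hjk : j = k
      · subst hjk
        have : u' j = 0 := by
          rw [hu', Pi.sub_apply, Pi.smul_apply, smul_eq_mul, hx]
          field_simp
          ring
        rw [this]
        exact F₀.zero_mem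
      · set ρ : Fin n → F := Pi.single j 1 - (v₂ j / v₂ k) • Pi.single k 1 with hρ
        have hρr : Rat F₀ ρ :=
          (Rat.single F₀ j F₀.one_mem).sub
            ((Rat.single F₀ k F₀.one_mem).smul (F₀.div_mem (h2 j) (h2 k)))
        have hρ2 : ρ ⬝ᵥ v₂ = 0 := by
          rw [hρ, sub_dotProduct, smul_dotProduct, single_one_dot, single_one_dot, smul_eq_mul]
          field_simp
          ring
        have h3 := hb ρ hρr hρ2
        have : ρ ⬝ᵥ u = u' j := by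
          rw [hρ, sub_dotProduct, smul_dotProduct, single_one_dot, single_one_dot, hu', Pi.sub_apply,
            Pi.smul_apply, smul_eq_mul, smul_eq_mul, hx]
          field_simp
        rwa [this] at h3
    -- (d)
    obtain ⟨φ, hφr, hφ0, hφv, hφv₁⟩ := exists_rat_kill_two (by omega) F₀ v v₁ hv h1
    rw [dotProduct_comm] at hφv hφv₁
    set ρ : Fin n → F := lam • (φ ᵥ* mI) with hρ
    have hρr : Rat F₀ ρ := ha φ hφr hφv₁
    have hρ0 : ρ ≠ 0 := by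
      intro h0
      apply hφ0
      have h4 : φ ᵥ* mI = 0 := by
        have := congrArg (fun z => lam⁻¹ • z) h0
        simp only [hρ, smul_smul, inv_mul_cancel₀ hlam, one_smul, smul_zero] at this
        exact this
      have := gl_vecMul_inv_vecMul m φ
      rw [← hmI, h4, zero_vecMul] at this
      exact this.symm
    have hM : Mm M (tvm 1 (mM *ᵥ v) (φ ᵥ* mI)) := by
      have := (hT v φ hv hφr hφv).conj hm
      rwa [conj_tvm] at this
    have hinc : (φ ᵥ* mI) ⬝ᵥ (mM *ᵥ v) = 0 := by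
      rw [← dotProduct_mulVec, gl_inv_mulVec_mulVec, hφv]
    have hmvu : mM *ᵥ v = lam • (u' + x • v₂) := by
      rw [hu', sub_add_cancel, hu, smul_smul, mul_inv_cancel₀ hlam, one_smul]
    obtain ⟨x₁, x₂, hx₁, hx₂, hind, e1, e2, e3, e4⟩ := exists_rat_kill_two_indep hn F₀ u' v₂ hu'r h2
    have k1 : x₁ ⬝ᵥ (mM *ᵥ v) = 0 := by
      rw [hmvu, dotProduct_smul, dotProduct_add, dotProduct_smul, dotProduct_comm x₁ u', e1,
        dotProduct_comm x₁ v₂, e2, smul_zero, add_zero, smul_zero]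
    have k2 : x₂ ⬝ᵥ (mM *ᵥ v) = 0 := by
      rw [hmvu, dotProduct_smul, dotProduct_add, dotProduct_smul, dotProduct_comm x₂ u', e3,
        dotProduct_comm x₂ v₂, e4, smul_zero, add_zero, smul_zero]
    have hR := hRL (mM *ᵥ v) (φ ᵥ* mI) x₁ x₂ hinc hM hx₁ hx₂ hind k1 k2
    obtain ⟨j, hj⟩ := exists_ne_zero_of_ne_zero hρ0
    intro i
    have h5 := hR i j
    rw [vecMulVec_apply] at h5
    have h6 : u i = (ρ j)⁻¹ * ((mM *ᵥ v) i * (φ ᵥ* mI) j) := by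
      have hρj : ρ j = lam * (φ ᵥ* mI) j := by rw [hρ, Pi.smul_apply, smul_eq_mul]
      have hρj' : lam * (φ ᵥ* mI) j ≠ 0 := by rw [← hρj]; exact hj
      have hui : u i = lam⁻¹ * (mM *ᵥ v) i := by rw [hu, Pi.smul_apply, smul_eq_mul]
      rw [hρj, hui]
      have hne : (φ ᵥ* mI) j ≠ 0 := right_ne_zero_of_mul hρj'
      field_simp
    rw [h6]
    exact F₀.mul_mem (F₀.inv_mem (hρr j)) h5
  intro i j
  have := key (Pi.single j 1) (Rat.single F₀ j F₀.one_mem) i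
  rwa [Pi.smul_apply, mulVec_single_one, smul_eq_mul] at this

end Cfsg.Agent.Lib.Helper7.Subf
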