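import Mathlib
import Cfsg.Agent.Lib.Helper7.SubfDefs
import Cfsg.Agent.Lib.Helper7.SubfDefs2
import Cfsg.Agent.Lib.Helper7.Subf_C
import Cfsg.Agent.Lib.Helper1.Subf_A4

set_option autoImplicit false
set_option linter.unusedVariables false

/-!
# S5639, PK-Q: the quadratic case `F = F₀ ⊕ F₀ lam`
-/

namespace Cfsg.Agent.Lib.Helper7.Subf

open Matrix

variable {F : Type*} [Field F] {n : ℕ}

namespace PkQ

/-- the subfield `F₀ + F₀ lam` when `lam² ∈ F₀`, `lam ∉ F₀` -/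
def quadField (F₀ : Subfield F) (lam : F) (hl : lam ∉ F₀) (hl2 : lam ^ 2 ∈ F₀) : Subfield F where
  carrier := {x | ∃ a ∈ F₀, ∃ b ∈ F₀, x = a + b * lam}
  mul_mem' := by
    rintro x y ⟨a, ha, b, hb, rfl⟩ ⟨c, hc, d, hd, rfl⟩
    refine ⟨a * c + b * d * lam ^ 2, F₀.add_mem (F₀.mul_mem ha hc) (F₀.mul_mem (F₀.mul_mem hb hd) hl2),
      a * d + b * c, F₀.add_mem (F₀.mul_mem ha hd) (F₀.mul_mem hb hc), ?_⟩
    ring
  one_mem' := ⟨1, F₀.one_mem, 0, F₀.zero_mem, by ring⟩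
  add_mem' := by
    rintro x y ⟨a, ha, b, hb, rfl⟩ ⟨c, hc, d, hd, rfl⟩
    exact ⟨a + c, F₀.add_mem ha hc, b + d, F₀.add_mem hb hd, by ring⟩
  zero_mem' := ⟨0, F₀.zero_mem, 0, F₀.zero_mem, by ring⟩
  neg_mem' := by
    rintro x ⟨a, ha, b, hb, rfl⟩
    exact ⟨-a, F₀.neg_mem ha, -b, F₀.neg_mem hb, by ring⟩
  inv_mem' := by
    rintro x ⟨a, ha, b, hb, rfl⟩
    by_cases hx : a + b * lam = 0
    · rw [hx, _root_.inv_zero]
      exact ⟨0, F₀.zero_mem, 0, F₀.zero_mem, by ring⟩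
    · have hx' : a - b * lam ≠ 0 := by
        intro h0
        by_cases hb0 : b = 0
        · apply hx
          rw [hb0, zero_mul, sub_zero] at h0
          rw [h0, hb0, zero_mul, add_zero]
        · apply hl
          have : lam = a / b := by
            field_simp
            linear_combination -h0
          rw [this]
          exact F₀.div_mem ha hb
      set D : F := a ^ 2 - b ^ 2 * lam ^ 2 with hD
      have hDm : D ∈ F₀ :=
        F₀.sub_mem (F₀.pow_mem ha 2) (F₀.mul_mem (F₀.pow_mem hb 2) hl2)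
      have hD0 : D ≠ 0 := by
        have : D = (a + b * lam) * (a - b * lam) := by rw [hD]; ring
        rw [this]
        exact mul_ne_zero hx hx'
      refine ⟨a / D, F₀.div_mem ha hDm, -b / D, F₀.div_mem (F₀.neg_mem hb) hDm, ?_⟩
      have hD' : D = (a + b * lam) * (a - b * lam) := by rw [hD]; ring
      rw [inv_eq_iff_eq_inv, ← one_div, eq_div_iff (by
        have : a / D + -b / D * lam = (a - b * lam) / D := by field_simp; ring
        rw [this]
        exact div_ne_zero hx' hD0)]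
      field_simp
      rw [hD']
      ring

theorem quad_decomp [Fintype F] (F₀ : Subfield F) (r : ℕ) (hr : r.Prime)
    (hcard : Fintype.card F = Nat.card F₀ ^ r) (lam : F) (hl : lam ∉ F₀) (hl2 : lam ^ 2 ∈ F₀) (x : F) :
    ∃ a ∈ F₀, ∃ b ∈ F₀, x = a + b * lam := by
  have hle : F₀ ≤ quadField F₀ lam hl hl2 := fun a ha => ⟨a, ha, 0, F₀.zero_mem, by ring⟩
  rcases subfield_eq_or_eq_top F₀ (quadField F₀ lam hl hl2) hle r hr hcard with h | h
  · exfalso
    apply hl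
    rw [← h]
    exact ⟨0, F₀.zero_mem, 1, F₀.one_mem, by ring⟩
  · have : x ∈ quadField F₀ lam hl hl2 := by rw [h]; trivial
    exact this

end PkQ

open PkB PkC PkQ in
theorem quad_case [Fintype F] (hn : 4 ≤ n) (F₀ : Subfield F) (r : ℕ) (hr : r.Prime)
    (hcard : Fintype.card F = Nat.card F₀ ^ r) (M : Subgroup (GL (Fin n) F)) (hT : HasRatTv F₀ M)
    (hRL : RL F₀ M) (hSL3 : SL3 F₀ M) (lam : F) (hl : lam ∉ F₀) (hl2 : lam ^ 2 ∈ F₀) :
    ∀ g ∈ M, InN F₀ (g : Matrix (Fin n) (Fin n) F) := by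
  intro g hg
  set i0 : Fin n := ⟨0, by omega⟩ with hi0
  set i1 : Fin n := ⟨1, by omega⟩ with hi1
  have h01 : i1 ≠ i0 := by
    intro h
    have := congrArg Fin.val h
    simp [hi0, hi1] at this
  set e0 : Fin n → F := Pi.single i0 1 with he0def
  set e1 : Fin n → F := Pi.single i1 1 with he1def
  have he0 : Rat F₀ e0 := Rat.single F₀ _ F₀.one_mem
  have he1 : Rat F₀ e1 := Rat.single F₀ _ F₀.one_mem
  have he00 : e0 ≠ 0 := by
    intro h0
    have := congrFun h0 i0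
    rw [he0def, Pi.single_eq_same, Pi.zero_apply] at this
    exact one_ne_zero this
  have he10 : e1 ≠ 0 := by
    intro h0
    have := congrFun h0 i1
    rw [he1def, Pi.single_eq_same, Pi.zero_apply] at this
    exact one_ne_zero this
  have h10 : e1 ⬝ᵥ e0 = 0 := by
    rw [he0def, dot_single_one, he1def, Pi.single_eq_of_ne h01.symm]
  set w : Fin n → F := (g : Matrix (Fin n) (Fin n) F) *ᵥ e0 with hw
  set ψ : Fin n → F := e1 ᵥ* ((g⁻¹ : GL (Fin n) F) : Matrix (Fin n) (Fin n) F) with hψ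
  -- decompose `w`
  have hdec : ∀ i, ∃ a ∈ F₀, ∃ b ∈ F₀, w i = a + b * lam :=
    fun i => quad_decomp F₀ r hr hcard lam hl hl2 (w i)
  choose w₁ hw₁ w₂ hw₂ hww using hdec
  obtain ⟨x₁, x₂, hx₁, hx₂, hind, e1', e2', e3', e4'⟩ :=
    exists_rat_kill_two_indep hn F₀ w₁ w₂ hw₁ hw₂
  have hwd : w = w₁ + lam • w₂ := by
    funext i
    rw [Pi.add_apply, Pi.smul_apply, smul_eq_mul, hww i]
    ring
  have k1 : x₁ ⬝ᵥ w = 0 := by
    rw [hwd, dotProduct_add, dotProduct_smul, dotProduct_comm x₁ w₁, e1', dotProduct_comm x₁ w₂, e2',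
      smul_zero, add_zero]
  have k2 : x₂ ⬝ᵥ w = 0 := by
    rw [hwd, dotProduct_add, dotProduct_smul, dotProduct_comm x₂ w₁, e3', dotProduct_comm x₂ w₂, e4',
      smul_zero, add_zero]
  have hM2 : Mm M (tvm 1 w ψ) := by
    have := (hT e0 e1 he0 he1 h10).conj hg
    rwa [conj_tvm] at this
  have hinc2 : ψ ⬝ᵥ w = 0 := by
    rw [hψ, hw, ← dotProduct_mulVec, gl_inv_mulVec_mulVec, h10]
  have hR := hRL w ψ x₁ x₂ hinc2 hM2 hx₁ hx₂ hind k1 k2
  have hψ0 : ψ ≠ 0 := by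
    intro h0
    apply he10
    have := gl_vecMul_inv_vecMul g e1
    rw [← hψ, h0, zero_vecMul] at this
    exact this.symm
  obtain ⟨j, hj⟩ := exists_ne_zero_of_ne_zero hψ0
  set v₂ : Fin n → F := fun i => w i * ψ j with hv₂
  have hv₂r : Rat F₀ v₂ := by
    intro i
    have := hR i j
    rwa [vecMulVec_apply] at this
  have hgv : (g : Matrix (Fin n) (Fin n) F) *ᵥ e0 = (ψ j)⁻¹ • v₂ := by
    funext i
    rw [Pi.smul_apply, smul_eq_mul, hv₂, ← hw]
    field_simp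
  have := hSL3 g hg e0 v₂ (ψ j)⁻¹ he0 hv₂r he00 (inv_ne_zero hj) hgv
  exact ⟨((ψ j)⁻¹)⁻¹, inv_ne_zero (inv_ne_zero hj), this⟩

end Cfsg.Agent.Lib.Helper7.Subf
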