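import Mathlib
import Cfsg.Agent.Lib.Helper7.SubgDefs

set_option autoImplicit false
set_option linter.unusedSectionVars false

/-!
# S5639 PK-X: linear algebra over the subfield `F₀`

All existence statements are proved over an arbitrary field `K` (rank–nullity on the solution space of one or two
linear equations) and then transported along the coercion `↥F₀ → F`.
-/

namespace Cfsg.Agent.Lib.Helper7.Subg

open Matrix Module

theorem indep_symm {F : Type*} [Field F] {ι : Type*} [Fintype ι] [DecidableEq ι] {φ₁ φ₂ : ι → F} (h : Indep φ₁ φ₂) : Indep φ₂ φ₁ := by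
  obtain ⟨i, j, hij⟩ := h
  refine ⟨j, i, ?_⟩
  intro h0
  apply hij
  linear_combination h0

namespace PkX

section Field

variable {K : Type*} [Field K] {ι : Type*} [Fintype ι] [DecidableEq ι]

/-- dependent on a non-zero vector means: a multiple (the coefficient is a quotient of coordinates) -/
theorem xk_eq_smul_of_not_indep (v w : ι → K) (hv0 : v ≠ 0) (h : ¬ Indep v w) :
    ∃ i, v i ≠ 0 ∧ w = (w i / v i) • v := by
  have hex : ∃ i, v i ≠ 0 := by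
    by_contra hne
    push Not at hne
    exact hv0 (funext hne)
  obtain ⟨i, hi⟩ := hex
  refine ⟨i, hi, ?_⟩
  have hall : ∀ a b, v a * w b - v b * w a = 0 := by
    intro a b
    by_contra hab
    exact h ⟨a, b, hab⟩
  funext j
  have := hall i j
  simp only [Pi.smul_apply, smul_eq_mul]
  field_simp
  linear_combination this

theorem xk_indep_of_not_mem_span (v w : ι → K) (hv0 : v ≠ 0) (h : w ∉ Submodule.span K {v}) :
    Indep v w := by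
  by_contra hI
  obtain ⟨i, _, hw⟩ := xk_eq_smul_of_not_indep v w hv0 hI
  apply h
  rw [hw]
  exact Submodule.smul_mem _ _ (Submodule.subset_span rfl)

/-- the solution space of `m` linear equations -/
def xkSol {m : ℕ} (A : Matrix (Fin m) ι K) : Submodule K (ι → K) :=
  LinearMap.ker (Matrix.mulVecLin A)

theorem xk_mem_sol {m : ℕ} (A : Matrix (Fin m) ι K) (x : ι → K) :
    x ∈ xkSol A ↔ ∀ i, A i ⬝ᵥ x = 0 := by
  rw [xkSol, LinearMap.mem_ker, Matrix.mulVecLin_apply]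
  constructor
  · intro h i
    have := congrFun h i
    simpa [Matrix.mulVec] using this
  · intro h
    funext i
    simpa [Matrix.mulVec] using h i

theorem xk_finrank_sol {m : ℕ} (A : Matrix (Fin m) ι K) : Fintype.card ι ≤ finrank K (xkSol A) + m := by
  have h1 := LinearMap.finrank_range_add_finrank_ker (Matrix.mulVecLin A)
  have h2 : finrank K (LinearMap.range (Matrix.mulVecLin A)) ≤ m := by
    have := Submodule.finrank_le (LinearMap.range (Matrix.mulVecLin A))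
    simpa using this
  have h3 : finrank K (ι → K) = Fintype.card ι := by simp
  rw [h3] at h1
  unfold xkSol
  omega

/-- a subspace of dimension at least two is not contained in a line -/
theorem xk_exists_not_mem_span (S : Submodule K (ι → K)) (h2 : 2 ≤ finrank K S) (v : ι → K) :
    ∃ x ∈ S, x ∉ Submodule.span K {v} := by
  by_contra hne
  push Not at hne
  have hle : S ≤ Submodule.span K {v} := fun x hx => hne x hx
  have h1 := Submodule.finrank_mono hle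
  have h3 : finrank K (Submodule.span K {v}) ≤ 1 := by
    have := finrank_span_le_card (R := K) ({v} : Set (ι → K))
    simpa using this
  omega

theorem xk_exists_ne_zero (S : Submodule K (ι → K)) (h1 : 1 ≤ finrank K S) : ∃ x ∈ S, x ≠ 0 := by
  by_contra hne
  push Not at hne
  have : S = ⊥ := by
    rw [eq_bot_iff]
    intro x hx
    exact (Submodule.mem_bot K).2 (hne x hx)
  rw [this] at h1
  simp at h1

/-- the matrix with the two rows `φ₁`, `φ₂` -/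
def xkTwo (φ₁ φ₂ : ι → K) : Matrix (Fin 2) ι K := Matrix.of ![φ₁, φ₂]

omit [Field K] in
theorem xkTwo_zero (φ₁ φ₂ : ι → K) : xkTwo φ₁ φ₂ 0 = φ₁ := rfl

omit [Field K] in
theorem xkTwo_one (φ₁ φ₂ : ι → K) : xkTwo φ₁ φ₂ 1 = φ₂ := rfl

theorem xk_mem_two (φ₁ φ₂ x : ι → K) : x ∈ xkSol (xkTwo φ₁ φ₂) ↔ φ₁ ⬝ᵥ x = 0 ∧ φ₂ ⬝ᵥ x = 0 := by
  rw [xk_mem_sol]
  constructor
  · intro h
    have h0 := h 0
    have h1 := h 1
    rw [xkTwo_zero] at h0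
    rw [xkTwo_one] at h1
    exact ⟨h0, h1⟩
  · rintro ⟨h1, h2⟩ i
    fin_cases i
    · exact h1
    · exact h2

/-- the matrix with the single row `φ` -/
def xkOne (φ : ι → K) : Matrix (Fin 1) ι K := Matrix.of ![φ]

omit [Field K] in
theorem xkOne_zero (φ : ι → K) : xkOne φ 0 = φ := rfl

theorem xk_mem_one (φ x : ι → K) : x ∈ xkSol (xkOne φ) ↔ φ ⬝ᵥ x = 0 := by
  rw [xk_mem_sol]
  constructor
  · intro h
    have h0 := h 0
    rw [xkOne_zero] at h0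
    exact h0
  · intro h1 i
    fin_cases i
    exact h1

theorem xk_kill_two (hn : 3 ≤ Fintype.card ι) (φ₁ φ₂ : ι → K) :
    ∃ v : ι → K, v ≠ 0 ∧ φ₁ ⬝ᵥ v = 0 ∧ φ₂ ⬝ᵥ v = 0 := by
  have h := xk_finrank_sol (xkTwo φ₁ φ₂)
  obtain ⟨x, hx, hx0⟩ := xk_exists_ne_zero (xkSol (xkTwo φ₁ φ₂)) (by omega)
  rw [xk_mem_two] at hx
  exact ⟨x, hx0, hx.1, hx.2⟩

theorem xk_kill_two_indep (hn : 4 ≤ Fintype.card ι) (φ₁ φ₂ : ι → K) :
    ∃ v₁ v₂ : ι → K, Indep v₁ v₂ ∧ φ₁ ⬝ᵥ v₁ = 0 ∧ φ₂ ⬝ᵥ v₁ = 0 ∧ φ₁ ⬝ᵥ v₂ = 0 ∧ φ₂ ⬝ᵥ v₂ = 0 := by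
  have h := xk_finrank_sol (xkTwo φ₁ φ₂)
  obtain ⟨x, hx, hx0⟩ := xk_exists_ne_zero (xkSol (xkTwo φ₁ φ₂)) (by omega)
  obtain ⟨y, hy, hyx⟩ := xk_exists_not_mem_span (xkSol (xkTwo φ₁ φ₂)) (by omega) x
  rw [xk_mem_two] at hx hy
  exact ⟨x, y, xk_indep_of_not_mem_span x y hx0 hyx, hx.1, hx.2, hy.1, hy.2⟩

theorem xk_indep_in_ker (hn : 3 ≤ Fintype.card ι) (φ v : ι → K) (hv : v ≠ 0) :
    ∃ v' : ι → K, φ ⬝ᵥ v' = 0 ∧ Indep v' v := by
  have h := xk_finrank_sol (xkOne φ)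
  obtain ⟨y, hy, hyx⟩ := xk_exists_not_mem_span (xkSol (xkOne φ)) (by omega) v
  rw [xk_mem_one] at hy
  exact ⟨y, hy, indep_symm (xk_indep_of_not_mem_span v y hv hyx)⟩

theorem xk_kill_two_avoid (hn : 4 ≤ Fintype.card ι) (v v₂ φ φ₂ : ι → K) (hφ0 : φ ≠ 0) (hφ₂0 : φ₂ ≠ 0) :
    ∃ φ' : ι → K, φ' ⬝ᵥ v = 0 ∧ φ' ⬝ᵥ v₂ = 0 ∧ Indep φ φ' ∧ Indep φ' φ₂ := by
  have h := xk_finrank_sol (xkTwo v v₂)
  set S := xkSol (xkTwo v v₂) with hS
  obtain ⟨x, hx, hx1⟩ := xk_exists_not_mem_span S (by omega) φ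
  obtain ⟨y, hy, hy2⟩ := xk_exists_not_mem_span S (by omega) φ₂
  have key : ∃ z ∈ S, z ∉ Submodule.span K {φ} ∧ z ∉ Submodule.span K {φ₂} := by
    by_cases hx2 : x ∈ Submodule.span K {φ₂}
    · by_cases hy1 : y ∈ Submodule.span K {φ}
      · refine ⟨x + y, S.add_mem hx hy, ?_, ?_⟩
        · intro hxy
          apply hx1
          have := Submodule.sub_mem _ hxy hy1
          simpa using this
        · intro hxy
          apply hy2
          have := Submodule.sub_mem _ hxy hx2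
          simpa using this
      · exact ⟨y, hy, hy1, hy2⟩
    · exact ⟨x, hx, hx1, hx2⟩
  obtain ⟨z, hz, hz1, hz2⟩ := key
  rw [hS, xk_mem_two] at hz
  refine ⟨z, ?_, ?_, xk_indep_of_not_mem_span φ z hφ0 hz1,
    indep_symm (xk_indep_of_not_mem_span φ₂ z hφ₂0 hz2)⟩
  · rw [dotProduct_comm]; exact hz.1
  · rw [dotProduct_comm]; exact hz.2

end Field

/-! ## transport to the subfield -/

section Transport

variable {F : Type*} [Field F] {ι : Type*} [Fintype ι] [DecidableEq ι]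

/-- the coordinatewise coercion `F₀ⁿ → Fⁿ` -/
def xUp (F₀ : Subfield F) (v : ι → ↥F₀) : ι → F := fun i => (v i : F)

/-- the coordinatewise restriction of a rational vector -/
def xDown (F₀ : Subfield F) (v : ι → F) (h : Rat F₀ v) : ι → ↥F₀ := fun i => ⟨v i, h i⟩

theorem xUp_down (F₀ : Subfield F) (v : ι → F) (h : Rat F₀ v) : xUp F₀ (xDown F₀ v h) = v := rfl

theorem rat_xUp (F₀ : Subfield F) (v : ι → ↥F₀) : Rat F₀ (xUp F₀ v) := fun i => (v i).2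

theorem xUp_dot (F₀ : Subfield F) (v w : ι → ↥F₀) :
    xUp F₀ v ⬝ᵥ xUp F₀ w = ((v ⬝ᵥ w : ↥F₀) : F) := by
  simp [dotProduct, xUp]

theorem xUp_dot_eq_zero (F₀ : Subfield F) (v w : ι → ↥F₀) :
    xUp F₀ v ⬝ᵥ xUp F₀ w = 0 ↔ v ⬝ᵥ w = 0 := by
  rw [xUp_dot]
  exact_mod_cast Iff.rfl

theorem xUp_ne_zero (F₀ : Subfield F) (v : ι → ↥F₀) (h : v ≠ 0) : xUp F₀ v ≠ 0 := by
  intro h0
  apply h
  funext i
  have := congrFun h0 i
  simp only [xUp, Pi.zero_apply] at this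
  exact_mod_cast this

theorem xDown_ne_zero (F₀ : Subfield F) (v : ι → F) (h : Rat F₀ v) (h0 : v ≠ 0) :
    xDown F₀ v h ≠ 0 := by
  intro hd
  apply h0
  funext i
  have := congrFun hd i
  simp only [xDown, Pi.zero_apply] at this
  have h2 := congrArg (Subtype.val) this
  simpa using h2

theorem xUp_indep (F₀ : Subfield F) (v w : ι → ↥F₀) (h : Indep v w) : Indep (xUp F₀ v) (xUp F₀ w) := by
  obtain ⟨i, j, hij⟩ := h
  refine ⟨i, j, ?_⟩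
  intro h0
  apply hij
  simp only [xUp] at h0
  exact_mod_cast h0

end Transport

end PkX

open PkX

/-! ## the package statements -/

variable {F : Type*} [Field F] {ι : Type*} [Fintype ι] [DecidableEq ι]

theorem exists_rat_kill_two (hn : 3 ≤ Fintype.card ι) (F₀ : Subfield F) (φ₁ φ₂ : ι → F) (h1 : Rat F₀ φ₁)
    (h2 : Rat F₀ φ₂) : ∃ v : ι → F, Rat F₀ v ∧ v ≠ 0 ∧ φ₁ ⬝ᵥ v = 0 ∧ φ₂ ⬝ᵥ v = 0 := by
  obtain ⟨v, hv0, e1, e2⟩ := xk_kill_two hn (xDown F₀ φ₁ h1) (xDown F₀ φ₂ h2)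
  refine ⟨xUp F₀ v, rat_xUp F₀ v, xUp_ne_zero F₀ v hv0, ?_, ?_⟩
  · rw [← xUp_down F₀ φ₁ h1, xUp_dot_eq_zero]; exact e1
  · rw [← xUp_down F₀ φ₂ h2, xUp_dot_eq_zero]; exact e2

theorem exists_rat_kill_two_indep (hn : 4 ≤ Fintype.card ι) (F₀ : Subfield F) (φ₁ φ₂ : ι → F) (h1 : Rat F₀ φ₁)
    (h2 : Rat F₀ φ₂) : ∃ v₁ v₂ : ι → F, Rat F₀ v₁ ∧ Rat F₀ v₂ ∧ Indep v₁ v₂ ∧
      φ₁ ⬝ᵥ v₁ = 0 ∧ φ₂ ⬝ᵥ v₁ = 0 ∧ φ₁ ⬝ᵥ v₂ = 0 ∧ φ₂ ⬝ᵥ v₂ = 0 := by
  obtain ⟨v₁, v₂, hI, e1, e2, e3, e4⟩ := xk_kill_two_indep hn (xDown F₀ φ₁ h1) (xDown F₀ φ₂ h2)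
  refine ⟨xUp F₀ v₁, xUp F₀ v₂, rat_xUp F₀ v₁, rat_xUp F₀ v₂, xUp_indep F₀ v₁ v₂ hI, ?_, ?_, ?_, ?_⟩
  · rw [← xUp_down F₀ φ₁ h1, xUp_dot_eq_zero]; exact e1
  · rw [← xUp_down F₀ φ₂ h2, xUp_dot_eq_zero]; exact e2
  · rw [← xUp_down F₀ φ₁ h1, xUp_dot_eq_zero]; exact e3
  · rw [← xUp_down F₀ φ₂ h2, xUp_dot_eq_zero]; exact e4

theorem exists_dual_of_indep (F₀ : Subfield F) (φ φ' : ι → F) (h1 : Rat F₀ φ) (h2 : Rat F₀ φ')
    (h : Indep φ φ') : ∃ v : ι → F, Rat F₀ v ∧ φ ⬝ᵥ v = 1 ∧ φ' ⬝ᵥ v = 0 := by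
  obtain ⟨i, j, hD⟩ := h
  set D := φ i * φ' j - φ j * φ' i with hDdef
  have hDm : D ∈ F₀ := F₀.sub_mem (F₀.mul_mem (h1 i) (h2 j)) (F₀.mul_mem (h1 j) (h2 i))
  refine ⟨D⁻¹ • (φ' j • Pi.single i 1 - φ' i • Pi.single j 1), ?_, ?_, ?_⟩
  · exact Rat.smul (F₀.inv_mem hDm)
      (Rat.sub (Rat.smul (h2 j) (Rat.single F₀ i F₀.one_mem)) (Rat.smul (h2 i) (Rat.single F₀ j F₀.one_mem)))
  · rw [dotProduct_smul, dotProduct_sub, dotProduct_smul, dotProduct_smul, dotProduct_single,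
      dotProduct_single]
    simp only [smul_eq_mul, mul_one]
    field_simp
    rw [hDdef]; ring
  · rw [dotProduct_smul, dotProduct_sub, dotProduct_smul, dotProduct_smul, dotProduct_single,
      dotProduct_single]
    simp only [smul_eq_mul, mul_one]
    rw [mul_comm (φ' j) (φ' i), sub_self, mul_zero]

theorem exists_rat_indep_in_ker (hn : 3 ≤ Fintype.card ι) (F₀ : Subfield F) (φ v : ι → F) (h1 : Rat F₀ φ)
    (h2 : Rat F₀ v) (hv : v ≠ 0) : ∃ v' : ι → F, Rat F₀ v' ∧ φ ⬝ᵥ v' = 0 ∧ Indep v' v := by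
  obtain ⟨v', e1, hI⟩ := xk_indep_in_ker hn (xDown F₀ φ h1) (xDown F₀ v h2) (xDown_ne_zero F₀ v h2 hv)
  refine ⟨xUp F₀ v', rat_xUp F₀ v', ?_, ?_⟩
  · rw [← xUp_down F₀ φ h1, xUp_dot_eq_zero]; exact e1
  · have := xUp_indep F₀ v' (xDown F₀ v h2) hI
    rwa [xUp_down] at this

theorem exists_rat_kill_two_avoid (hn : 4 ≤ Fintype.card ι) (F₀ : Subfield F) (v v₂ φ φ₂ : ι → F)
    (hv : Rat F₀ v) (hv₂ : Rat F₀ v₂) (hφ : Rat F₀ φ) (hφ₂ : Rat F₀ φ₂) (hφ0 : φ ≠ 0) (hφ₂0 : φ₂ ≠ 0) :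
    ∃ φ' : ι → F, Rat F₀ φ' ∧ φ' ⬝ᵥ v = 0 ∧ φ' ⬝ᵥ v₂ = 0 ∧ Indep φ φ' ∧ Indep φ' φ₂ := by
  obtain ⟨φ', e1, e2, hI1, hI2⟩ := xk_kill_two_avoid hn (xDown F₀ v hv) (xDown F₀ v₂ hv₂)
    (xDown F₀ φ hφ) (xDown F₀ φ₂ hφ₂) (xDown_ne_zero F₀ φ hφ hφ0) (xDown_ne_zero F₀ φ₂ hφ₂ hφ₂0)
  refine ⟨xUp F₀ φ', rat_xUp F₀ φ', ?_, ?_, ?_, ?_⟩
  · rw [← xUp_down F₀ v hv, xUp_dot_eq_zero]; exact e1
  · rw [← xUp_down F₀ v₂ hv₂, xUp_dot_eq_zero]; exact e2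
  · have := xUp_indep F₀ _ _ hI1
    rwa [xUp_down] at this
  · have := xUp_indep F₀ _ _ hI2
    rwa [xUp_down] at this

/-- dependent on a non-zero rational vector means: an `F₀`-multiple (for rational vectors) -/
theorem eq_smul_of_not_indep (F₀ : Subfield F) (v w : ι → F) (hv : Rat F₀ v) (hw : Rat F₀ w)
    (hv0 : v ≠ 0) (h : ¬ Indep v w) : ∃ c ∈ F₀, w = c • v := by
  obtain ⟨i, _, hwi⟩ := xk_eq_smul_of_not_indep v w hv0 h
  exact ⟨w i / v i, F₀.div_mem (hw i) (hv i), hwi⟩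

end Cfsg.Agent.Lib.Helper7.Subg
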