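import Mathlib
import Cfsg.Prelude.Def_GeometricClasses
import Cfsg.Agent.Lib.Helper7.SpSubDefs
import Cfsg.Agent.Lib.Helper7.SpSub_TR
import Cfsg.Agent.Lib.Helper7.SpSubBridge
import Cfsg.Agent.Lib.Helper7.Subg_X
import Cfsg.Agent.Lib.Helper7.Subf_Q

set_option autoImplicit false
set_option linter.unusedSectionVars false

/-!
# S5650, package PK-Q: the quadratic case `quad_sp`
-/

namespace Cfsg.Agent.Lib.Helper7.SpSub

open Matrix Cfsg.Agent.Lib.Helper1.SpBasic Cfsg.Agent.Lib.Helper2.Symp Cfsg.Agent.Lib.Helper7.Subg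

variable {F : Type*} [Field F] {m : ℕ}

theorem quad_sp [Fintype F] (hm : 2 ≤ m) (F₀ : Subfield F) (r : ℕ) (hr : r.Prime)
    (hcard : Fintype.card F = Nat.card F₀ ^ r) (M : Subgroup (Matrix.symplecticGroup (Fin m) F))
    (hNK : NKs F₀ M) (lam : F) (hl : lam ∉ F₀) (hl2 : lam ^ 2 ∈ F₀) :
    ∀ g ∈ M, InN F₀ (g : Matrix (Fin m ⊕ Fin m) (Fin m ⊕ Fin m) F) := by
  intro g hg
  set e₁ : Fin m ⊕ Fin m → F := Pi.single (Sum.inl (⟨0, by omega⟩ : Fin m)) 1 with he₁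
  have he₁r : Rat F₀ e₁ := Rat.single F₀ _ F₀.one_mem
  have he₁0 : e₁ ≠ 0 := by
    intro h
    have := congrFun h (Sum.inl (⟨0, by omega⟩ : Fin m))
    simp [he₁] at this
  set w := (g : Matrix (Fin m ⊕ Fin m) (Fin m ⊕ Fin m) F) *ᵥ e₁ with hw
  choose a ha b hb hab using fun k =>
    Cfsg.Agent.Lib.Helper7.Subf.PkQ.quad_decomp F₀ r hr hcard lam hl hl2 (w k)
  have har : Rat F₀ a := ha
  have hbr : Rat F₀ b := hb
  have hwab : w = a + lam • b := by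
    funext k
    rw [hab k, Pi.add_apply, Pi.smul_apply, smul_eq_mul, mul_comm]
  have hcard' : 3 ≤ Fintype.card (Fin m ⊕ Fin m) := by
    rw [Fintype.card_sum, Fintype.card_fin]; omega
  obtain ⟨u, hu, hu0, h1, h2⟩ := exists_rat_kill_two hcard' F₀ (Matrix.J (Fin m) F *ᵥ a)
    (Matrix.J (Fin m) F *ᵥ b) (PkTR.rat_J har) (PkTR.rat_J hbr)
  rw [J_dot] at h1 h2
  apply hNK g hg u e₁ hu he₁r hu0 he₁0
  rw [← hw, hwab, sympForm_add_left, sympForm_smul_left, sympForm_swap a u, sympForm_swap b u, h1, h2]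
  simp

end Cfsg.Agent.Lib.Helper7.SpSub
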