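import Mathlib
import Cfsg.Prelude.Def_GeometricClasses
import Cfsg.Agent.Lib.Helper7.SpSubDefs
import Cfsg.Agent.Lib.Helper7.SpSub_TR

set_option autoImplicit false
set_option linter.unusedSectionVars false

/-!
# S5650, package PK-R: the rank lemma `rl_sp`
-/

namespace Cfsg.Agent.Lib.Helper7.SpSub

open Matrix Cfsg.Agent.Lib.Helper1.SpBasic Cfsg.Agent.Lib.Helper2.Symp Cfsg.Agent.Lib.Helper7.Subg

variable {F : Type*} [Field F] {m : ℕ}

namespace PkR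

open PkTR

theorem form_swap_zero {x y : Fin m ⊕ Fin m → F} (h : Cfsg.sympForm m F x y = 0) :
    Cfsg.sympForm m F y x = 0 := by rw [sympForm_swap, h, neg_zero]

/-- rational short root elements lie in `M` -/
theorem sig_rat_mem {F₀ : Subfield F} {M : Subgroup (Matrix.symplecticGroup (Fin m) F)} (hT : HasRatT F₀ M)
    {u u' : Fin m ⊕ Fin m → F} (hu : Rat F₀ u) (hu' : Rat F₀ u') {a : F} (ha : a ∈ F₀) :
    sig u u' a ∈ M :=
  sig_mem (hT _ (hu.add hu') a ha) (hT _ hu a ha) (hT _ hu' a ha)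

/-- the basis vector `E l` is orthogonal to `e₁` when `l ≠ inr i₁` -/
theorem form_single_e (i₁ : Fin m) (l : Fin m ⊕ Fin m) (hl : l ≠ Sum.inr i₁) :
    Cfsg.sympForm m F (Pi.single l 1) (Pi.single (Sum.inl i₁) 1) = 0 := by
  rw [sympForm_single_inl, Pi.single_eq_of_ne hl.symm]

theorem indep_e_single (i₁ : Fin m) (l : Fin m ⊕ Fin m) (hl : l ≠ Sum.inl i₁) :
    Indep (Pi.single (Sum.inl i₁) 1 : Fin m ⊕ Fin m → F) (Pi.single l 1) := by
  refine ⟨Sum.inl i₁, l, ?_⟩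
  rw [Pi.single_eq_same, Pi.single_eq_same, Pi.single_eq_of_ne hl, zero_mul, sub_zero, mul_one]
  exact one_ne_zero

/-- the products `B(y,w) B(z,w)` are rational -/
theorem prod_mem (F₀ : Subfield F) (M : Subgroup (Matrix.symplecticGroup (Fin m) F))
    (hT : HasRatT F₀ M) (hK : KL F₀ M) (i₁ : Fin m) (w : Fin m ⊕ Fin m → F)
    (hw1 : Cfsg.sympForm m F w (Pi.single (Sum.inl i₁) 1) = 0) (hw : T w 1 ∈ M)
    (k l : Fin m ⊕ Fin m) (hk : k ≠ Sum.inr i₁) (hl : l ≠ Sum.inr i₁) (hl' : l ≠ Sum.inl i₁) :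
    Cfsg.sympForm m F (Pi.single k 1) w * Cfsg.sympForm m F (Pi.single l 1) w ∈ F₀ := by
  set e₁ : Fin m ⊕ Fin m → F := Pi.single (Sum.inl i₁) 1 with he₁
  set y : Fin m ⊕ Fin m → F := Pi.single k 1 with hy
  set z : Fin m ⊕ Fin m → F := Pi.single l 1 with hz
  have he₁r : Rat F₀ e₁ := Rat.single F₀ _ F₀.one_mem
  have hyr : Rat F₀ y := Rat.single F₀ _ F₀.one_mem
  have hzr : Rat F₀ z := Rat.single F₀ _ F₀.one_mem
  have hew : Cfsg.sympForm m F e₁ w = 0 := form_swap_zero hw1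
  have hye : Cfsg.sympForm m F y e₁ = 0 := form_single_e i₁ k hk
  have hey : Cfsg.sympForm m F e₁ y = 0 := form_swap_zero hye
  have hze : Cfsg.sympForm m F z e₁ = 0 := form_single_e i₁ l hl
  have hez : Cfsg.sympForm m F e₁ z = 0 := form_swap_zero hze
  set d : F := Cfsg.sympForm m F y w with hd
  -- first element
  have h1 : sig e₁ (-y) 1 ∈ M := sig_rat_mem hT he₁r hyr.neg F₀.one_mem
  have h2 : sig e₁ y 1 ∈ M := sig_rat_mem hT he₁r hyr F₀.one_mem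
  have h3 : T w 1 * sig e₁ y 1 * (T w 1)⁻¹ ∈ M := M.mul_mem (M.mul_mem hw h2) (M.inv_mem hw)
  have e3 : T w 1 * sig e₁ y 1 * (T w 1)⁻¹ = sig e₁ (y + d • w) 1 := by
    rw [conj_sig, T_mulVec, T_mulVec, hew, mul_zero, zero_smul, add_zero, one_mul]
  have hey' : Cfsg.sympForm m F e₁ (-y) = 0 := by
    rw [← neg_one_smul F y, sympForm_smul_right, hey, mul_zero]
  have hedw : Cfsg.sympForm m F e₁ (y + d • w) = 0 := by
    rw [sympForm_add_right, sympForm_smul_right, hey, hew, mul_zero, add_zero]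
  have e4 : sig e₁ (-y) 1 * sig e₁ (y + d • w) 1 =
      sig e₁ w (d * 1) * T e₁ (1 * 1 * Cfsg.sympForm m F (y + d • w) (-y)) := by
    rw [sig_mul_sig e₁ (-y) (y + d • w) hey' hedw, neg_add_cancel_left, sig_smul_right e₁ w hew]
  have hZ : sig e₁ w (d * 1) * T e₁ (1 * 1 * Cfsg.sympForm m F (y + d • w) (-y)) ∈ M := by
    rw [← e4, ← e3]
    exact M.mul_mem h1 h3
  set Z := sig e₁ w (d * 1) * T e₁ (1 * 1 * Cfsg.sympForm m F (y + d • w) (-y)) with hZdef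
  -- second element
  have hTz : T z 1 ∈ M := hT z hzr 1 F₀.one_mem
  have hW : Z * T z 1 * Z⁻¹ * (T z 1)⁻¹ ∈ M :=
    M.mul_mem (M.mul_mem (M.mul_mem hZ hTz) (M.inv_mem hZ)) (M.inv_mem hTz)
  have e5 : ∀ b : F, T e₁ b * T z 1 * (T e₁ b)⁻¹ = T z 1 := by
    intro b
    rw [conj_T, T_mulVec, hze, mul_zero, zero_smul, add_zero]
  have e6 : Z * T z 1 * Z⁻¹ * (T z 1)⁻¹ =
      sig e₁ w (d * 1) * T z 1 * (sig e₁ w (d * 1))⁻¹ * (T z 1)⁻¹ := by
    rw [hZdef]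
    set b := 1 * 1 * Cfsg.sympForm m F (y + d • w) (-y)
    have : sig e₁ w (d * 1) * T e₁ b * T z 1 * (sig e₁ w (d * 1) * T e₁ b)⁻¹ =
        sig e₁ w (d * 1) * (T e₁ b * T z 1 * (T e₁ b)⁻¹) * (sig e₁ w (d * 1))⁻¹ := by group
    rw [this, e5]
  rw [e6, sig_T_comm e₁ w z hew hze, sig_symm z e₁ hze] at hW
  have := (hK e₁ z _ _ he₁r hzr hez (indep_e_single i₁ l hl') hW).1
  rw [mul_one, mul_one] at this
  exact this

/-- standard position -/
theorem rl_std (F₀ : Subfield F) (M : Subgroup (Matrix.symplecticGroup (Fin m) F))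
    (hT : HasRatT F₀ M) (hK : KL F₀ M) (i₁ : Fin m) (w : Fin m ⊕ Fin m → F)
    (hw1 : w (Sum.inr i₁) = 0) (hw : T w 1 ∈ M) : ∃ c : F, c ≠ 0 ∧ Rat F₀ (c • w) := by
  set e₁ : Fin m ⊕ Fin m → F := Pi.single (Sum.inl i₁) 1 with he₁
  have he₁r : Rat F₀ e₁ := Rat.single F₀ _ F₀.one_mem
  have hwe : Cfsg.sympForm m F w e₁ = 0 := by rw [he₁, sympForm_single_inl, hw1]
  -- products of coordinates
  have hP : ∀ a b : Fin m ⊕ Fin m, a ≠ Sum.inl i₁ → a ≠ Sum.inr i₁ → b ≠ Sum.inl i₁ → b ≠ Sum.inr i₁ →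
      w a * w b ∈ F₀ := by
    intro a b ha1 ha2 hb1 hb2
    have hpa1 : pr a ≠ Sum.inr i₁ := by
      intro h; apply ha1; rw [← pr_pr a, h]; rfl
    have hpb1 : pr b ≠ Sum.inr i₁ := by
      intro h; apply hb1; rw [← pr_pr b, h]; rfl
    have hpb2 : pr b ≠ Sum.inl i₁ := by
      intro h; apply hb2; rw [← pr_pr b, h]; rfl
    have h := prod_mem F₀ M hT hK i₁ w hwe hw (pr a) (pr b) hpa1 hpb1 hpb2
    rw [sympForm_swap (Pi.single (pr a) 1) w, sympForm_swap (Pi.single (pr b) 1) w, neg_mul_neg] at h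
    rcases form_single w a with ea | ea <;> rcases form_single w b with eb | eb <;> rw [ea, eb] at h
    · exact h
    · rw [mul_neg] at h; simpa using F₀.neg_mem h
    · rw [neg_mul] at h; simpa using F₀.neg_mem h
    · rw [neg_mul_neg] at h; exact h
  by_cases hall : ∀ a : Fin m ⊕ Fin m, a ≠ Sum.inl i₁ → a ≠ Sum.inr i₁ → w a = 0
  · -- `w` is a multiple of `e₁`
    have hwe' : w = w (Sum.inl i₁) • e₁ := by
      funext k
      by_cases hk1 : k = Sum.inl i₁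
      · subst hk1; simp [he₁]
      · by_cases hk2 : k = Sum.inr i₁
        · subst hk2; rw [hw1]; simp [he₁]
        · rw [hall k hk1 hk2]; simp [he₁, Pi.single_eq_of_ne hk1]
    obtain ⟨t, ht⟩ : ∃ t : F, w = t • e₁ := ⟨_, hwe'⟩
    by_cases h0 : t = 0
    · refine ⟨1, one_ne_zero, ?_⟩
      rw [ht, h0, zero_smul, smul_zero]
      exact Rat.zero F₀
    · refine ⟨t⁻¹, inv_ne_zero h0, ?_⟩
      rw [ht, smul_smul, inv_mul_cancel₀ h0, one_smul]
      exact he₁r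
  · push Not at hall
    obtain ⟨a₀, ha1, ha2, ha0⟩ := hall
    set c : F := w a₀ with hc
    set e : F := c * w (Sum.inl i₁) with he
    set w₀ : Fin m ⊕ Fin m → F := c • w - e • e₁ with hw₀
    have hw₀r : Rat F₀ w₀ := by
      intro k
      by_cases hk1 : k = Sum.inl i₁
      · subst hk1
        have : w₀ (Sum.inl i₁) = 0 := by simp [hw₀, he₁, he]
        rw [this]; exact F₀.zero_mem
      · by_cases hk2 : k = Sum.inr i₁
        · subst hk2
          have : w₀ (Sum.inr i₁) = 0 := by simp [hw₀, he₁, hw1]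
          rw [this]; exact F₀.zero_mem
        · have : w₀ k = w a₀ * w k := by simp [hw₀, he₁, Pi.single_eq_of_ne hk1, hc]
          rw [this]
          exact hP a₀ k ha1 ha2 hk1 hk2
    have hcw : c • w = w₀ + e • e₁ := by rw [hw₀]; abel
    have hcc : c * c ∈ F₀ := hP a₀ a₀ ha1 ha2 ha1 ha2
    set a' : F := c⁻¹ * c⁻¹ * 1 with ha'
    have ha'mem : a' ∈ F₀ := by
      have : a' = (c * c)⁻¹ := by rw [ha', mul_one, _root_.mul_inv]
      rw [this]; exact F₀.inv_mem hcc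
    have ha'0 : a' ≠ 0 := by
      rw [ha', mul_one]; exact mul_ne_zero (inv_ne_zero ha0) (inv_ne_zero ha0)
    have hw₀e : Cfsg.sympForm m F w₀ e₁ = 0 := by
      rw [he₁, sympForm_single_inl]
      simp [hw₀, he₁, hw1]
    have hew₀ : Cfsg.sympForm m F e₁ w₀ = 0 := form_swap_zero hw₀e
    have e1 : T w 1 = T (w₀ + e • e₁) a' := by
      have : w = c⁻¹ • (c • w) := by rw [smul_smul, inv_mul_cancel₀ ha0, one_smul]
      rw [← hcw, ha', ← T_smul, ← this]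
    have e2 : T w 1 * (T w₀ a')⁻¹ = sig e₁ w₀ (e * a') * T e₁ (e * e * a') := by
      rw [e1, T_add_eq w₀ (e • e₁) a', T_smul, sig_smul_right w₀ e₁ hw₀e, sig_symm w₀ e₁ hw₀e]
      group
    have hX : sig e₁ w₀ (e * a') * T e₁ (e * e * a') ∈ M := by
      rw [← e2]
      exact M.mul_mem hw (M.inv_mem (hT w₀ hw₀r a' ha'mem))
    have hI : Indep e₁ w₀ := by
      refine ⟨Sum.inl i₁, a₀, ?_⟩
      have h1 : e₁ a₀ = 0 := by rw [he₁, Pi.single_eq_of_ne ha1]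
      have h2 : w₀ a₀ = c * c := by simp [hw₀, he₁, Pi.single_eq_of_ne ha1, hc]
      rw [he₁, Pi.single_eq_same, ← he₁, h1, h2, zero_mul, sub_zero, one_mul]
      exact mul_ne_zero ha0 ha0
    have hea := (hK e₁ w₀ _ _ he₁r hw₀r hew₀ hI hX).1
    have hemem : e ∈ F₀ := by
      have : e = e * a' * a'⁻¹ := by rw [mul_assoc, mul_inv_cancel₀ ha'0, mul_one]
      rw [this]
      exact F₀.mul_mem hea (F₀.inv_mem ha'mem)
    refine ⟨c, ha0, ?_⟩
    rw [hcw]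
    exact hw₀r.add (he₁r.smul hemem)

end PkR

open PkR PkTR in
theorem rl_sp (hm : 3 ≤ m) (F₀ : Subfield F) (M : Subgroup (Matrix.symplecticGroup (Fin m) F))
    (hT : HasRatT F₀ M) (hK : KL F₀ M) : RLs F₀ M := by
  intro w u hu hu0 hwu hw
  have i₁ : Fin m := ⟨0, by omega⟩
  have he0 : (Pi.single (Sum.inl i₁) 1 : Fin m ⊕ Fin m → F) ≠ 0 := by
    intro h
    have := congrFun h (Sum.inl i₁)
    simp at this
  obtain ⟨A, hA, hAu⟩ := tr_vec F₀ u (Pi.single (Sum.inl i₁) 1) hu (Rat.single F₀ _ F₀.one_mem) hu0 he0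
  have hAM : A ∈ M := rr_le hT hA
  have h1 : T ((A : Matrix (Fin m ⊕ Fin m) (Fin m ⊕ Fin m) F) *ᵥ w) 1 ∈ M := by
    rw [← conj_T]
    exact M.mul_mem (M.mul_mem hAM hw) (M.inv_mem hAM)
  have h2 : ((A : Matrix (Fin m ⊕ Fin m) (Fin m ⊕ Fin m) F) *ᵥ w) (Sum.inr i₁) = 0 := by
    have h := sympForm_single_inl ((A : Matrix (Fin m ⊕ Fin m) (Fin m ⊕ Fin m) F) *ᵥ w) i₁
    rw [← h, ← hAu, form_mulVec, hwu]
  obtain ⟨c, hc0, hc⟩ := rl_std F₀ M hT hK i₁ _ h2 h1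
  refine ⟨c, hc0, ?_⟩
  have e : c • w = ((A⁻¹ : Matrix.symplecticGroup (Fin m) F) :
      Matrix (Fin m ⊕ Fin m) (Fin m ⊕ Fin m) F) *ᵥ
        (c • ((A : Matrix (Fin m ⊕ Fin m) (Fin m ⊕ Fin m) F) *ᵥ w)) := by
    rw [Matrix.mulVec_smul, inv_mulVec_mulVec]
  rw [e]
  exact (rr_ratMat' hA).2.mulVec hc

end Cfsg.Agent.Lib.Helper7.SpSub
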