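import Mathlib
import Cfsg.Prelude.Def_GeometricClasses
import Cfsg.Agent.Lib.Helper7.SpSubDefs
import Cfsg.Agent.Lib.Helper7.SpSub_TR
import Cfsg.Agent.Lib.Helper7.Subg_X

set_option autoImplicit false
set_option linter.unusedSectionVars false

/-!
# S5650, package PK-S: the stabiliser lemma `sl3_sp` and the no-kill lemma `nk_sp`
-/

namespace Cfsg.Agent.Lib.Helper7.SpSub

open Matrix Cfsg.Agent.Lib.Helper1.SpBasic Cfsg.Agent.Lib.Helper2.Symp Cfsg.Agent.Lib.Helper7.Subg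

variable {F : Type*} [Field F] {m : ℕ}

namespace PkS

open PkTR

/-- coefficients of a rational combination of two independent rational vectors are rational -/
theorem coef_mem (F₀ : Subfield F) (r r' : Fin m ⊕ Fin m → F) (hr : Rat F₀ r) (hr' : Rat F₀ r')
    (hI : Indep r r') (a b : F) (h : Rat F₀ (a • r + b • r')) : a ∈ F₀ ∧ b ∈ F₀ := by
  obtain ⟨v, hv, h1, h2⟩ := exists_dual_of_indep F₀ r r' hr hr' hI
  obtain ⟨v', hv', h1', h2'⟩ := exists_dual_of_indep F₀ r' r hr' hr (indep_symm hI)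
  constructor
  · have := Rat.dot h hv
    rw [add_dotProduct, smul_dotProduct, smul_dotProduct, h1, h2, smul_eq_mul, smul_eq_mul, mul_one,
      mul_zero, add_zero] at this
    exact this
  · have := Rat.dot h hv'
    rw [add_dotProduct, smul_dotProduct, smul_dotProduct, h1', h2', smul_eq_mul, smul_eq_mul, mul_one,
      mul_zero, zero_add] at this
    exact this

theorem not_indep_smul (v : Fin m ⊕ Fin m → F) (s : F) : ¬ Indep v (s • v) := by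
  rintro ⟨i, j, h⟩
  apply h
  simp only [Pi.smul_apply, smul_eq_mul]
  ring

theorem mulVec_eq_zero (g : Matrix.symplecticGroup (Fin m) F) (x : Fin m ⊕ Fin m → F)
    (h : (g : Matrix (Fin m ⊕ Fin m) (Fin m ⊕ Fin m) F) *ᵥ x = 0) : x = 0 := by
  have := inv_mulVec_mulVec g x
  rw [h, Matrix.mulVec_zero] at this
  exact this.symm

/-- (*) -/
theorem star (F₀ : Subfield F) (M : Subgroup (Matrix.symplecticGroup (Fin m) F))
    (hT : HasRatT F₀ M) (hR : RLs F₀ M) (g : Matrix.symplecticGroup (Fin m) F) (hg : g ∈ M)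
    (v₁ v₂ : Fin m ⊕ Fin m → F) (lam : F) (hv₁ : Rat F₀ v₁) (hv₂ : Rat F₀ v₂) (hv₁0 : v₁ ≠ 0)
    (hlam : lam ≠ 0) (hgv : (g : Matrix (Fin m ⊕ Fin m) (Fin m ⊕ Fin m) F) *ᵥ v₁ = lam • v₂)
    (y : Fin m ⊕ Fin m → F) (hy : Rat F₀ y) (hyv : Cfsg.sympForm m F y v₁ = 0) :
    Rat F₀ (lam⁻¹ • ((g : Matrix (Fin m ⊕ Fin m) (Fin m ⊕ Fin m) F) *ᵥ y)) := by
  have hv₂0 : v₂ ≠ 0 := by
    rintro rfl
    rw [smul_zero] at hgv
    exact hv₁0 (mulVec_eq_zero g v₁ hgv)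
  -- step 1
  have step1 : ∀ y' : Fin m ⊕ Fin m → F, Rat F₀ y' → Cfsg.sympForm m F y' v₁ = 0 →
      ∃ c : F, c ≠ 0 ∧ Rat F₀ (c • ((g : Matrix (Fin m ⊕ Fin m) (Fin m ⊕ Fin m) F) *ᵥ y')) := by
    intro y' hy' hy'v
    have h1 : T ((g : Matrix (Fin m ⊕ Fin m) (Fin m ⊕ Fin m) F) *ᵥ y') 1 ∈ M := by
      rw [← conj_T]
      exact M.mul_mem (M.mul_mem hg (hT y' hy' 1 F₀.one_mem)) (M.inv_mem hg)
    have h2 : Cfsg.sympForm m F ((g : Matrix (Fin m ⊕ Fin m) (Fin m ⊕ Fin m) F) *ᵥ y') v₂ = 0 := by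
      have : v₂ = lam⁻¹ • ((g : Matrix (Fin m ⊕ Fin m) (Fin m ⊕ Fin m) F) *ᵥ v₁) := by
        rw [hgv, smul_smul, inv_mul_cancel₀ hlam, one_smul]
      rw [this, sympForm_smul_right, form_mulVec, hy'v, mul_zero]
    exact hR _ v₂ hv₂ hv₂0 h2 h1
  by_cases hI : Indep v₁ y
  · obtain ⟨c₁, hc₁0, hc₁⟩ := step1 y hy hyv
    have hsum : Cfsg.sympForm m F (v₁ + y) v₁ = 0 := by
      rw [sympForm_add_left, sympForm_self, hyv, add_zero]
    obtain ⟨c₂, hc₂0, hc₂⟩ := step1 (v₁ + y) (hv₁.add hy) hsum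
    set r' := c₁ • ((g : Matrix (Fin m ⊕ Fin m) (Fin m ⊕ Fin m) F) *ᵥ y) with hr'
    have hI' : Indep v₂ r' := by
      by_contra hcon
      obtain ⟨t, _, ht⟩ := eq_smul_of_not_indep F₀ v₂ r' hv₂ hc₁ hv₂0 hcon
      -- `g (c₁ • y - (t * lam⁻¹) • v₁) = 0`
      have h0 : (g : Matrix (Fin m ⊕ Fin m) (Fin m ⊕ Fin m) F) *ᵥ (c₁ • y - (t * lam⁻¹) • v₁) = 0 := by
        rw [Matrix.mulVec_sub, Matrix.mulVec_smul, Matrix.mulVec_smul, hgv, ← hr', ht, smul_smul,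
          mul_assoc, inv_mul_cancel₀ hlam, mul_one, sub_self]
      have h1 := mulVec_eq_zero g _ h0
      have h2 : y = (c₁⁻¹ * (t * lam⁻¹)) • v₁ := by
        have : c₁ • y = (t * lam⁻¹) • v₁ := sub_eq_zero.mp h1
        rw [← smul_smul, ← this, smul_smul, inv_mul_cancel₀ hc₁0, one_smul]
      rw [h2] at hI
      exact not_indep_smul v₁ _ hI
    have e : c₂ • ((g : Matrix (Fin m ⊕ Fin m) (Fin m ⊕ Fin m) F) *ᵥ (v₁ + y)) =
        (c₂ * lam) • v₂ + (c₂ * c₁⁻¹) • r' := by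
      rw [Matrix.mulVec_add, hgv, hr', smul_add, smul_smul, smul_smul, mul_assoc,
        inv_mul_cancel₀ hc₁0, mul_one]
    rw [e] at hc₂
    obtain ⟨ha, hb⟩ := coef_mem F₀ v₂ r' hv₂ hc₁ hI' _ _ hc₂
    have e2 : lam⁻¹ • ((g : Matrix (Fin m ⊕ Fin m) (Fin m ⊕ Fin m) F) *ᵥ y) =
        ((c₂ * c₁⁻¹) * (c₂ * lam)⁻¹) • r' := by
      rw [hr', smul_smul]
      congr 1
      field_simp
    rw [e2]
    exact Rat.smul (F₀.mul_mem hb (F₀.inv_mem ha)) hc₁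
  · obtain ⟨t, ht, hyt⟩ := eq_smul_of_not_indep F₀ v₁ y hv₁ hy hv₁0 hI
    rw [hyt, Matrix.mulVec_smul, hgv, smul_smul, smul_smul]
    have : lam⁻¹ * t * lam = t := by field_simp
    rw [this]
    exact Rat.smul ht hv₂

theorem single_ne_zero' (k : Fin m ⊕ Fin m) : (Pi.single k 1 : Fin m ⊕ Fin m → F) ≠ 0 := by
  intro h
  have := congrFun h k
  simp at this

/-- standard position `v₁ = e₁` -/
theorem sl3_std (hm : 2 ≤ m) (F₀ : Subfield F) (M : Subgroup (Matrix.symplecticGroup (Fin m) F))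
    (hT : HasRatT F₀ M) (hR : RLs F₀ M) (g : Matrix.symplecticGroup (Fin m) F) (hg : g ∈ M)
    (v₂ : Fin m ⊕ Fin m → F) (lam : F) (hv₂ : Rat F₀ v₂) (hlam : lam ≠ 0)
    (hgv : (g : Matrix (Fin m ⊕ Fin m) (Fin m ⊕ Fin m) F) *ᵥ
      (Pi.single (Sum.inl (⟨0, by omega⟩ : Fin m)) 1) = lam • v₂) :
    RatMat F₀ (lam⁻¹ • (g : Matrix (Fin m ⊕ Fin m) (Fin m ⊕ Fin m) F)) := by
  set i₁ : Fin m := ⟨0, by omega⟩ with hi₁
  set i₂ : Fin m := ⟨1, by omega⟩ with hi₂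
  have h12 : i₁ ≠ i₂ := by simp [hi₁, hi₂, Fin.ext_iff]
  set e₁ : Fin m ⊕ Fin m → F := Pi.single (Sum.inl i₁) 1 with he₁
  set e₂ : Fin m ⊕ Fin m → F := Pi.single (Sum.inl i₂) 1 with he₂
  set f₂ : Fin m ⊕ Fin m → F := Pi.single (Sum.inr i₂) 1 with hf₂
  have he₁r : Rat F₀ e₁ := Rat.single F₀ _ F₀.one_mem
  have he₂r : Rat F₀ e₂ := Rat.single F₀ _ F₀.one_mem
  have hf₂r : Rat F₀ f₂ := Rat.single F₀ _ F₀.one_mem
  have ha : ∀ y : Fin m ⊕ Fin m → F, Rat F₀ y → Cfsg.sympForm m F y e₁ = 0 →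
      Rat F₀ (lam⁻¹ • ((g : Matrix (Fin m ⊕ Fin m) (Fin m ⊕ Fin m) F) *ᵥ y)) :=
    star F₀ M hT hR g hg e₁ v₂ lam he₁r hv₂ (single_ne_zero' _) hlam hgv
  have he₂e₁ : Cfsg.sympForm m F e₂ e₁ = 0 := by
    rw [he₁, sympForm_single_inl, he₂, Pi.single_eq_of_ne (by simp)]
  have hr₂ := ha e₂ he₂r he₂e₁
  have hge₂ : (g : Matrix (Fin m ⊕ Fin m) (Fin m ⊕ Fin m) F) *ᵥ e₂ =
      lam • (lam⁻¹ • ((g : Matrix (Fin m ⊕ Fin m) (Fin m ⊕ Fin m) F) *ᵥ e₂)) := by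
    rw [smul_smul, mul_inv_cancel₀ hlam, one_smul]
  have hb : ∀ y : Fin m ⊕ Fin m → F, Rat F₀ y → Cfsg.sympForm m F y e₂ = 0 →
      Rat F₀ (lam⁻¹ • ((g : Matrix (Fin m ⊕ Fin m) (Fin m ⊕ Fin m) F) *ᵥ y)) :=
    star F₀ M hT hR g hg e₂ _ lam he₂r hr₂ (single_ne_zero' _) hlam hge₂
  have hf₂e₂ : Cfsg.sympForm m F f₂ e₂ = 1 := by
    rw [he₂, sympForm_single_inl, hf₂, Pi.single_eq_same]
  have hf₂e₁ : Cfsg.sympForm m F f₂ e₁ = 0 := by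
    rw [he₁, sympForm_single_inl, hf₂, Pi.single_eq_of_ne (by simpa using h12)]
  have hall : ∀ x : Fin m ⊕ Fin m → F, Rat F₀ x →
      Rat F₀ (lam⁻¹ • ((g : Matrix (Fin m ⊕ Fin m) (Fin m ⊕ Fin m) F) *ᵥ x)) := by
    intro x hx
    set s : F := Cfsg.sympForm m F x e₂ with hs
    have hsm : s ∈ F₀ := rat_form hx he₂r
    have e : x = (x - s • f₂) + s • f₂ := by abel
    have h1 : Cfsg.sympForm m F (x - s • f₂) e₂ = 0 := by
      rw [sympForm_sub_left, sympForm_smul_left, hf₂e₂, mul_one, sub_self]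
    have h2 : Cfsg.sympForm m F (s • f₂) e₁ = 0 := by
      rw [sympForm_smul_left, hf₂e₁, mul_zero]
    have h3 := hb _ (hx.sub (hf₂r.smul hsm)) h1
    have h4 := ha _ (hf₂r.smul hsm) h2
    have := h3.add h4
    rw [← smul_add, ← Matrix.mulVec_add, ← e] at this
    exact this
  intro i j
  have := hall (Pi.single j 1) (Rat.single F₀ _ F₀.one_mem) i
  rw [Pi.smul_apply, Matrix.mulVec_single_one] at this
  rw [Matrix.smul_apply]
  exact this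

end PkS

open PkS PkTR in
theorem sl3_sp (hm : 3 ≤ m) (F₀ : Subfield F) (M : Subgroup (Matrix.symplecticGroup (Fin m) F))
    (hT : HasRatT F₀ M) (hR : RLs F₀ M) : SL3s F₀ M := by
  intro g hg v₁ v₂ lam hv₁ hv₂ hv₁0 hlam hgv
  obtain ⟨A, hA, hAe⟩ := tr_vec F₀ (Pi.single (Sum.inl (⟨0, by omega⟩ : Fin m)) 1) v₁
    (Rat.single F₀ _ F₀.one_mem) hv₁ (single_ne_zero' _) hv₁0
  have hAM : A ∈ M := rr_le hT hA
  have h1 : ((g * A : Matrix.symplecticGroup (Fin m) F) : Matrix (Fin m ⊕ Fin m) (Fin m ⊕ Fin m) F) *ᵥ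
      (Pi.single (Sum.inl (⟨0, by omega⟩ : Fin m)) 1) = lam • v₂ := by
    rw [coe_mul_mulVec, hAe, hgv]
  have h2 := sl3_std (by omega) F₀ M hT hR (g * A) (M.mul_mem hg hAM) v₂ lam hv₂ hlam h1
  have e : lam⁻¹ • (g : Matrix (Fin m ⊕ Fin m) (Fin m ⊕ Fin m) F) =
      (lam⁻¹ • ((g * A : Matrix.symplecticGroup (Fin m) F) :
        Matrix (Fin m ⊕ Fin m) (Fin m ⊕ Fin m) F)) *
        ((A⁻¹ : Matrix.symplecticGroup (Fin m) F) : Matrix (Fin m ⊕ Fin m) (Fin m ⊕ Fin m) F) := by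
    rw [Matrix.smul_mul]
    congr 1
    have : g = g * A * A⁻¹ := by group
    conv_lhs => rw [this]
    rfl
  rw [e]
  exact RatMat.mul h2 (rr_ratMat' hA).2

theorem nk_sp (F₀ : Subfield F) (M : Subgroup (Matrix.symplecticGroup (Fin m) F))
    (hT : HasRatT F₀ M) (hR : RLs F₀ M) (hS3 : SL3s F₀ M) : NKs F₀ M := by
  intro g hg u v hu hv hu0 hv0 hkill
  have h1 : T ((g : Matrix (Fin m ⊕ Fin m) (Fin m ⊕ Fin m) F) *ᵥ v) 1 ∈ M := by
    rw [← conj_T]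
    exact M.mul_mem (M.mul_mem hg (hT v hv 1 F₀.one_mem)) (M.inv_mem hg)
  obtain ⟨c, hc0, hc⟩ := hR _ u hu hu0 hkill h1
  have h2 : (g : Matrix (Fin m ⊕ Fin m) (Fin m ⊕ Fin m) F) *ᵥ v =
      c⁻¹ • (c • ((g : Matrix (Fin m ⊕ Fin m) (Fin m ⊕ Fin m) F) *ᵥ v)) := by
    rw [smul_smul, inv_mul_cancel₀ hc0, one_smul]
  have h3 := hS3 g hg v _ c⁻¹ hv hc hv0 (inv_ne_zero hc0) h2
  rw [inv_inv] at h3
  exact ⟨c, hc0, h3⟩

end Cfsg.Agent.Lib.Helper7.SpSub
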