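import Mathlib
import Cfsg.Prelude.Def_GeometricClasses
import Cfsg.Agent.Lib.Helper7.SpSubDefs
import Cfsg.Agent.Lib.Helper7.Subg_N
import Cfsg.Agent.Lib.Helper1.Subf_A4
import Cfsg.Agent.Lib.Helper7.SpSub_TR
import Cfsg.Agent.Lib.Helper7.SpSubBridge
import Cfsg.Agent.Lib.Helper8.SpSub_I
import Cfsg.Agent.Lib.Helper8.SpSub_K
import Cfsg.Agent.Lib.Helper7.SpSub_R
import Cfsg.Agent.Lib.Helper7.SpSub_S
import Cfsg.Agent.Lib.Helper7.SpSub_Q
import Cfsg.Agent.Lib.Helper7.SpSub_O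
import Cfsg.Agent.Lib.Helper9.SpSub_II
import Cfsg.Agent.Lib.Helper3.SpSub_E2
import Cfsg.Agent.Lib.Helper8.SpSub_Fin1

set_option autoImplicit false

/-!
# S5650: the dichotomy for subgroups of `Sp_2m(F)` containing the rational transvections
-/

namespace Cfsg.Agent.Lib.Helper7.SpSub

open Matrix Cfsg.Agent.Lib.Helper1.SpBasic Cfsg.Agent.Lib.Helper2.Symp Cfsg.Agent.Lib.Helper7.Subg

variable {F : Type*} [Field F] {m : ℕ}

/-- a subgroup of `Sp_2m(F)` containing the rational transvections (w.r.t. a subfield `F₀` of prime degree) is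
everything or lies in `F^* GL_2m(F₀)` -/
theorem sp_dichotomy [Fintype F] (hm : 3 ≤ m) (F₀ : Subfield F) (r : ℕ) (hr : r.Prime)
    (hcard : Fintype.card F = Nat.card F₀ ^ r) (M : Subgroup (Matrix.symplecticGroup (Fin m) F))
    (hT : HasRatT F₀ M) :
    M = ⊤ ∨ ∀ g ∈ M, InN F₀ (g : Matrix (Fin m ⊕ Fin m) (Fin m ⊕ Fin m) F) := by
  obtain ⟨𝔸, h𝔸, hle⟩ := al_subfield hm F₀ M hT
  rcases Cfsg.Agent.Lib.Helper7.Subf.subfield_eq_or_eq_top F₀ 𝔸 hle r hr hcard with h | h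
  · right
    have hS : SSl F₀ M := ssl_of_al F₀ M hT (by rw [← h𝔸, h])
    have hK : KL F₀ M := k_lemma hm F₀ M hT hS
    have hR : RLs F₀ M := rl_sp hm F₀ M hT hK
    have hS3 : SL3s F₀ M := sl3_sp hm F₀ M hT hR
    have hNK : NKs F₀ M := nk_sp F₀ M hT hR hS3
    by_cases hQ : ∀ lam : F, lam ^ 2 ∈ F₀ → lam ∈ F₀
    · by_cases h2 : (2 : F) = 0
      · exact even_sp h2 (by omega) F₀ M hT hNK
      · exact odd_sp h2 (by omega) F₀ M hT hS hQ
    · simp only [not_forall] at hQ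
      obtain ⟨lam, hl2, hl⟩ := hQ
      exact quad_sp (by omega) F₀ r hr hcard M hNK lam hl hl2
  · left
    apply top_of_al_univ F₀ M
    rw [← h𝔸, h]
    rfl

end Cfsg.Agent.Lib.Helper7.SpSub
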