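import Mathlib
import Cfsg.Prelude.Def_GeometricClasses
import Cfsg.Agent.Lib.Helper7.SpSubDefs
import Cfsg.Agent.Lib.Helper7.SpSub_TR
import Cfsg.Agent.Lib.Helper7.SpSubBridge
import Cfsg.Agent.Lib.Helper7.Subg_N
import Cfsg.Agent.Lib.Helper7.SpSubMain

set_option autoImplicit false
set_option linter.unusedSectionVars false

/-!
# S5650: maximality of the standard subfield group `(F^* GL_2m(F₀)) ∩ Sp_2m(F)` in `Sp_2m(F) = Cfsg.spGL m F`
-/

namespace Cfsg.Agent.Lib.Helper7.SpSub

open Matrix Cfsg.Agent.Lib.Helper1.SpBasic Cfsg.Agent.Lib.Helper2.Symp Cfsg.Agent.Lib.Helper7.Subg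
open Cfsg.Agent.H9SpMax

variable {F : Type*} [Field F] {m : ℕ}

/-- a transvection with a non-rational coefficient is not in `N` -/
theorem not_inN_T (F₀ : Subfield F) (i : Fin m) (a : F) (ha : a ∉ F₀) :
    ¬ InN F₀ ((T (Pi.single (Sum.inl i) 1) a : Matrix.symplecticGroup (Fin m) F) :
      Matrix (Fin m ⊕ Fin m) (Fin m ⊕ Fin m) F) := by
  rintro ⟨c, hc0, hc⟩
  have h1 := hc (Sum.inl i) (Sum.inl i)
  have h2 := hc (Sum.inl i) (Sum.inr i)
  rw [T_coe, Cfsg.sympTransvection] at h1 h2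
  have e1 : (Matrix.J (Fin m) F *ᵥ (Pi.single (Sum.inl i) 1 : Fin m ⊕ Fin m → F)) (Sum.inl i) = 0 := by
    rw [J_mulVec_apply_inl, Pi.single_eq_of_ne (by simp), neg_zero]
  have e2 : (Matrix.J (Fin m) F *ᵥ (Pi.single (Sum.inl i) 1 : Fin m ⊕ Fin m → F)) (Sum.inr i) = 1 := by
    rw [J_mulVec_apply_inr, Pi.single_eq_same]
  rw [Matrix.smul_apply, Matrix.add_apply, Matrix.smul_apply, vecMulVec_apply, e1, Matrix.one_apply_eq,
    smul_eq_mul, smul_eq_mul, mul_zero, mul_zero, add_zero, mul_one] at h1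
  rw [Matrix.smul_apply, Matrix.add_apply, Matrix.smul_apply, vecMulVec_apply, e2,
    Matrix.one_apply_ne (by simp), smul_eq_mul, smul_eq_mul, Pi.single_eq_same, mul_one, mul_one,
    zero_add] at h2
  apply ha
  have : a = c⁻¹ * (c * a) := by rw [← mul_assoc, inv_mul_cancel₀ hc0, one_mul]
  rw [this]
  exact F₀.mul_mem (F₀.inv_mem h1) h2

/-- there is an element outside a proper subfield -/
theorem exists_not_mem_subfield [Fintype F] (F₀ : Subfield F) (r : ℕ) (hr : r.Prime)
    (hcard : Fintype.card F = Nat.card F₀ ^ r) : ∃ a : F, a ∉ F₀ := by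
  by_contra hcon
  simp only [not_exists, not_not] at hcon
  have htop : F₀ = ⊤ := by
    ext x; simp [hcon x]
  have hc0 : Nat.card F₀ = Fintype.card F := by
    rw [htop, ← Nat.card_eq_fintype_card]
    exact Nat.card_congr (Subfield.topEquiv (K := F)).toEquiv
  rw [hc0] at hcard
  have h1 : 1 < Fintype.card F := Fintype.one_lt_card
  have h2 : 2 ≤ r := hr.two_le
  have : Fintype.card F ^ 1 < Fintype.card F ^ r := Nat.pow_lt_pow_right h1 (by omega)
  rw [pow_one] at this
  omega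

/-- the standard subfield group is maximal in `Sp_2m(F)` -/
theorem sp_subfield_core [Fintype F] (hm : 3 ≤ m) (F₀ : Subfield F) (r : ℕ) (hr : r.Prime)
    (hcard : Fintype.card F = Nat.card F₀ ^ r) :
    Cfsg.Geo.IsMaximalIn (Cfsg.spGL m F)
      (((Matrix.GeneralLinearGroup.map (F₀.subtype : F₀ →+* F)).range ⊔
        Cfsg.Geo.scalars (Fin m ⊕ Fin m) F) ⊓ Cfsg.spGL m F) := by
  have hi : Fin m := ⟨0, by omega⟩
  refine ⟨?_, ?_⟩
  · refine lt_of_le_of_ne inf_le_right ?_
    intro heq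
    obtain ⟨a, ha⟩ := exists_not_mem_subfield F₀ r hr hcard
    have h1 : toGL m F (T (Pi.single (Sum.inl hi) 1) a) ∈ Cfsg.spGL m F := by
      rw [← toGL_range]; exact ⟨_, rfl⟩
    rw [← heq] at h1
    have h2 := (inN_iff_mem F₀ _).2 h1.1
    rw [toGL_coe] at h2
    exact not_inN_T F₀ hi a ha h2
  · intro M hHM hMS
    set M' : Subgroup (Matrix.symplecticGroup (Fin m) F) := M.comap (toGL m F) with hM'
    have hT : HasRatT F₀ M' := by
      intro v hv c hc
      rw [hM', Subgroup.mem_comap]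
      apply hHM
      refine Subgroup.mem_inf.2 ⟨?_, ?_⟩
      · rw [← inN_iff_mem, toGL_coe]
        exact ⟨1, one_ne_zero, by rw [one_smul]; exact ratMat_T hv hc⟩
      · rw [← toGL_range]; exact ⟨_, rfl⟩
    rcases sp_dichotomy hm F₀ r hr hcard M' hT with h | h
    · right
      apply le_antisymm hMS
      intro g hg
      rw [← toGL_range] at hg
      obtain ⟨A, rfl⟩ := hg
      have : A ∈ M' := by rw [h]; exact Subgroup.mem_top _
      exact this
    · left
      apply le_antisymm _ hHM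
      intro g hg
      refine Subgroup.mem_inf.2 ⟨?_, hMS hg⟩
      have hg' := hMS hg
      rw [← toGL_range] at hg'
      obtain ⟨A, rfl⟩ := hg'
      rw [← inN_iff_mem, toGL_coe]
      exact h A hg

end Cfsg.Agent.Lib.Helper7.SpSub
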