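import Mathlib
import Cfsg.Prelude.Def_GeometricClasses
import Cfsg.Agent.Lib.Helper7.SpSubDefs
import Cfsg.Agent.Lib.Helper7.SpSub_TR
import Cfsg.Agent.Lib.Helper7.SpSubBridge
import Cfsg.Agent.Lib.Helper7.Subg_F

set_option autoImplicit false
set_option linter.unusedSectionVars false

/-!
# S5650, package PK-O: odd characteristic without quadratic elements, `odd_sp` (Dickson)
-/

namespace Cfsg.Agent.Lib.Helper7.SpSub

open Matrix Cfsg.Agent.Lib.Helper1.SpBasic Cfsg.Agent.Lib.Helper2.Symp Cfsg.Agent.Lib.Helper7.Subg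

variable {F : Type*} [Field F] {m : ℕ}

namespace PkO

/-- all the values `B(g v', v)` at rational vectors are rational -/
theorem form_mem [Fintype F] (h2 : (2 : F) ≠ 0) (F₀ : Subfield F)
    (M : Subgroup (Matrix.symplecticGroup (Fin m) F)) (hT : HasRatT F₀ M) (hS : SSl F₀ M)
    (hQ : ∀ lam : F, lam ^ 2 ∈ F₀ → lam ∈ F₀) (g : Matrix.symplecticGroup (Fin m) F) (hg : g ∈ M)
    (v v' : Fin m ⊕ Fin m → F) (hv : Rat F₀ v) (hv' : Rat F₀ v') (hv0 : v ≠ 0) :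
    Cfsg.sympForm m F ((g : Matrix (Fin m ⊕ Fin m) (Fin m ⊕ Fin m) F) *ᵥ v') v ∈ F₀ := by
  set w := (g : Matrix (Fin m ⊕ Fin m) (Fin m ⊕ Fin m) F) *ᵥ v' with hw
  set x := Cfsg.sympForm m F w v with hx
  by_cases hx0 : x = 0
  · rw [hx0]; exact F₀.zero_mem
  have hDT : DT (MG M) := dickson_transport h2 (MG M)
  have hφv : (Matrix.J (Fin m) F *ᵥ v) ⬝ᵥ v = 0 := by rw [J_dot, sympForm_self]
  have hψw : (Matrix.J (Fin m) F *ᵥ w) ⬝ᵥ w = 0 := by rw [J_dot, sympForm_self]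
  have hM1 : Mm (MG M) (tvm 1 v (Matrix.J (Fin m) F *ᵥ v)) :=
    (mm_MG_iff M _).2 ⟨T v 1, hT v hv 1 F₀.one_mem, T_coe_tvm v 1⟩
  have hTw : T w 1 ∈ M := by
    rw [hw, ← conj_T]
    exact M.mul_mem (M.mul_mem hg (hT v' hv' 1 F₀.one_mem)) (M.inv_mem hg)
  have hM2 : Mm (MG M) (tvm 1 w (Matrix.J (Fin m) F *ᵥ w)) :=
    (mm_MG_iff M _).2 ⟨T w 1, hTw, T_coe_tvm w 1⟩
  have e1 : (Matrix.J (Fin m) F *ᵥ v) ⬝ᵥ w = x := by rw [J_dot]
  have e2 : (Matrix.J (Fin m) F *ᵥ w) ⬝ᵥ v = -x := by rw [J_dot, sympForm_swap]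
  have hlam : x * -x ∈ F₀ := by
    by_cases hsq : (x * -x) ^ 2 = -1
    · apply hQ
      rw [hsq]
      exact F₀.neg_mem F₀.one_mem
    · have hne : x * -x ≠ 0 := mul_ne_zero hx0 (neg_ne_zero.mpr hx0)
      have h := hDT v (Matrix.J (Fin m) F *ᵥ v) w (Matrix.J (Fin m) F *ᵥ w) hφv hψw hM1 hM2
        (by rw [e1, e2]; exact hne) (by rw [e1, e2]; exact hsq) (x * -x)
        (by rw [e1, e2]; exact Subfield.subset_closure rfl)
      obtain ⟨A, hA, hAe⟩ := (mm_MG_iff M _).1 h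
      have : A = T v (x * -x) := Subtype.ext (by rw [hAe, T_coe_tvm])
      rw [this] at hA
      exact hS v _ hv hv0 hA
  apply hQ
  have : x ^ 2 = -(x * -x) := by ring
  rw [this]
  exact F₀.neg_mem hlam

end PkO

open PkO PkTR in
theorem odd_sp [Fintype F] (h2 : (2 : F) ≠ 0) (hm : 1 ≤ m) (F₀ : Subfield F)
    (M : Subgroup (Matrix.symplecticGroup (Fin m) F)) (hT : HasRatT F₀ M) (hS : SSl F₀ M)
    (hQ : ∀ lam : F, lam ^ 2 ∈ F₀ → lam ∈ F₀) :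
    ∀ g ∈ M, InN F₀ (g : Matrix (Fin m ⊕ Fin m) (Fin m ⊕ Fin m) F) := by
  intro g hg
  refine ⟨1, one_ne_zero, ?_⟩
  rw [one_smul]
  intro k l
  have hne : (Pi.single (pr k) 1 : Fin m ⊕ Fin m → F) ≠ 0 := by
    intro h
    have := congrFun h (pr k)
    simp at this
  have h := form_mem h2 F₀ M hT hS hQ g hg (Pi.single (pr k) 1) (Pi.single l 1)
    (Rat.single F₀ _ F₀.one_mem) (Rat.single F₀ _ F₀.one_mem) hne
  have e : ((g : Matrix (Fin m ⊕ Fin m) (Fin m ⊕ Fin m) F) *ᵥ Pi.single l 1) k =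
      (g : Matrix (Fin m ⊕ Fin m) (Fin m ⊕ Fin m) F) k l := by
    rw [Matrix.mulVec_single_one]; rfl
  rcases form_single ((g : Matrix (Fin m ⊕ Fin m) (Fin m ⊕ Fin m) F) *ᵥ Pi.single l 1) k with h1 | h1
  · rw [h1, e] at h; exact h
  · rw [h1, e] at h; simpa using F₀.neg_mem h

end Cfsg.Agent.Lib.Helper7.SpSub
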