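import Mathlib
import Cfsg.Agent.Lib.Helper5.SpUn0

set_option autoImplicit false

/-!
# S2316, package D1: the Cayley--Wall bijection `g ↦ (g - 1)⁻¹`
-/

namespace Cfsg.Agent.Lib.Helper7.SpUnD1

open Matrix Cfsg.Agent.Lib.Helper5.SpUn

section lemmas
variable {F : Type*} [Field F] {ι : Type*} [Fintype ι] [DecidableEq ι]

/-- the isometry condition in terms of `D = g - 1`. -/
theorem mem_spSet_iff_sub_one (Ω g : Matrix ι ι F) :
    g ∈ spSet Ω ↔ Ω * (g - 1) + (g - 1)ᵀ * Ω + (g - 1)ᵀ * Ω * (g - 1) = 0 := by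
  rw [mem_spSet, Matrix.transpose_sub, Matrix.transpose_one]
  have h : Ω * (g - 1) + (gᵀ - 1) * Ω + (gᵀ - 1) * Ω * (g - 1) = gᵀ * Ω * g - Ω := by
    noncomm_ring
  rw [h, sub_eq_zero]

/-- the `aSet` condition for `A = D⁻¹`. -/
theorem inv_mem_aSet_iff (Ω D : Matrix ι ι F) (hD : IsUnit D.det) :
    D⁻¹ ∈ aSet Ω ↔ Ω * D + Dᵀ * Ω + Dᵀ * Ω * D = 0 := by
  rw [mem_aSet]
  have h1 : D⁻¹ * D = 1 := Matrix.nonsing_inv_mul D hD
  have h2 : D * D⁻¹ = 1 := Matrix.mul_nonsing_inv D hD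
  have h3 : Dᵀ * (D⁻¹)ᵀ = 1 := by rw [← Matrix.transpose_mul, h1, Matrix.transpose_one]
  have h4 : (D⁻¹)ᵀ * Dᵀ = 1 := by rw [← Matrix.transpose_mul, h2, Matrix.transpose_one]
  constructor
  · intro h
    have key : Dᵀ * ((D⁻¹)ᵀ * Ω + Ω * D⁻¹ + Ω) * D = Ω * D + Dᵀ * Ω + Dᵀ * Ω * D := by
      calc Dᵀ * ((D⁻¹)ᵀ * Ω + Ω * D⁻¹ + Ω) * D
          = (Dᵀ * (D⁻¹)ᵀ) * Ω * D + Dᵀ * Ω * (D⁻¹ * D) + Dᵀ * Ω * D := by noncomm_ring
        _ = Ω * D + Dᵀ * Ω + Dᵀ * Ω * D := by rw [h3, h1, Matrix.one_mul, Matrix.mul_one]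
    rw [← key, h, Matrix.mul_zero, Matrix.zero_mul]
  · intro h
    have key : (D⁻¹)ᵀ * (Ω * D + Dᵀ * Ω + Dᵀ * Ω * D) * D⁻¹ = (D⁻¹)ᵀ * Ω + Ω * D⁻¹ + Ω := by
      calc (D⁻¹)ᵀ * (Ω * D + Dᵀ * Ω + Dᵀ * Ω * D) * D⁻¹
          = (D⁻¹)ᵀ * Ω * (D * D⁻¹) + ((D⁻¹)ᵀ * Dᵀ) * Ω * D⁻¹
            + ((D⁻¹)ᵀ * Dᵀ) * Ω * (D * D⁻¹) := by noncomm_ring
        _ = (D⁻¹)ᵀ * Ω + Ω * D⁻¹ + Ω := by
          rw [h4, h2, Matrix.one_mul, Matrix.mul_one, Matrix.mul_one]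
    rw [← key, h, Matrix.mul_zero, Matrix.zero_mul]

end lemmas

section main
variable (F : Type*) [Field F] [Fintype F]

/-- **PACKAGE D1 (Cayley--Wall).**  `g ↦ (g - 1)⁻¹` is a bijection from the isometries without
eigenvalue `1` onto the invertible elements of `aSet`. -/
theorem iN_eq_eN (n : ℕ) : iN F n = eN F n := by
  classical
  let e : {g : Matrix (Fin n ⊕ Fin n) (Fin n ⊕ Fin n) F //
        g ∈ spSet (J (Fin n) F) ∧ IsUnit (g - 1)} ≃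
      {A : Matrix (Fin n ⊕ Fin n) (Fin n ⊕ Fin n) F // A ∈ aSet (J (Fin n) F) ∧ IsUnit A} :=
    { toFun := fun g => ⟨(g.1 - 1)⁻¹, by
        have hu : IsUnit (g.1 - 1).det := (Matrix.isUnit_iff_isUnit_det _).mp g.2.2
        refine ⟨(inv_mem_aSet_iff _ _ hu).mpr ((mem_spSet_iff_sub_one _ _).mp g.2.1), ?_⟩
        rw [Matrix.isUnit_iff_isUnit_det]
        exact Matrix.isUnit_nonsing_inv_det _ hu⟩
      invFun := fun A => ⟨1 + (A.1)⁻¹, by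
        have hu : IsUnit (A.1).det := (Matrix.isUnit_iff_isUnit_det _).mp A.2.2
        have hu' : IsUnit ((A.1)⁻¹).det := Matrix.isUnit_nonsing_inv_det _ hu
        have hsub : (1 + (A.1)⁻¹ - 1 : Matrix (Fin n ⊕ Fin n) (Fin n ⊕ Fin n) F) = (A.1)⁻¹ := by
          abel
        refine ⟨?_, ?_⟩
        · rw [mem_spSet_iff_sub_one, hsub, ← inv_mem_aSet_iff _ _ hu',
            Matrix.nonsing_inv_nonsing_inv _ hu]
          exact A.2.1
        · rw [hsub, Matrix.isUnit_iff_isUnit_det]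
          exact hu'⟩
      left_inv := fun g => by
        apply Subtype.ext
        have hu : IsUnit (g.1 - 1).det := (Matrix.isUnit_iff_isUnit_det _).mp g.2.2
        simp only
        rw [Matrix.nonsing_inv_nonsing_inv _ hu]
        abel
      right_inv := fun A => by
        apply Subtype.ext
        have hu : IsUnit (A.1).det := (Matrix.isUnit_iff_isUnit_det _).mp A.2.2
        simp only
        have hsub : (1 + (A.1)⁻¹ - 1 : Matrix (Fin n ⊕ Fin n) (Fin n ⊕ Fin n) F) = (A.1)⁻¹ := by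
          abel
        rw [hsub, Matrix.nonsing_inv_nonsing_inv _ hu] }
  unfold iN eN
  exact (Nat.card_congr e).symm

end main

end Cfsg.Agent.Lib.Helper7.SpUnD1
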