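import Mathlib
import Cfsg.Agent.Lib.Helper5.SpUn0

set_option autoImplicit false

/-!
# S2316, package D2: `aSet (J n)` is an affine space over the symmetric matrices
-/

namespace Cfsg.Agent.Lib.Helper7.SpUnD2

open Matrix Cfsg.Agent.Lib.Helper5.SpUn

section sym
variable (F : Type*) [Field F] [Fintype F] (ι : Type*) [Fintype ι] [DecidableEq ι]

/-- symmetric matrices correspond to functions on unordered pairs. -/
noncomputable def symEquiv : {M : Matrix ι ι F // Mᵀ = M} ≃ (Sym2 ι → F) where
  toFun M := Sym2.lift ⟨fun i j => M.1 i j, fun i j => by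
    have h := congrFun (congrFun M.2 j) i
    rw [Matrix.transpose_apply] at h
    exact h⟩
  invFun f := ⟨Matrix.of fun i j => f s(i, j), by
    ext i j
    rw [Matrix.transpose_apply, Matrix.of_apply, Matrix.of_apply, Sym2.eq_swap]⟩
  left_inv M := by
    apply Subtype.ext
    ext i j
    simp
  right_inv f := by
    ext z
    induction z using Sym2.ind with
    | _ i j => simp

omit [Field F] in
theorem card_symm :
    Nat.card {M : Matrix ι ι F // Mᵀ = M} = Fintype.card F ^ ((Fintype.card ι + 1).choose 2) := by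
  classical
  rw [Nat.card_congr (symEquiv F ι), Nat.card_eq_fintype_card, Fintype.card_fun, Sym2.card]

end sym

section main
variable (F : Type*) [Field F] [Fintype F]

/-- a particular solution of `B - Bᵀ = -J`. -/
def b0 (n : ℕ) : Matrix (Fin n ⊕ Fin n) (Fin n ⊕ Fin n) F := fromBlocks 0 1 0 0

omit [Fintype F] in
theorem b0_sub (n : ℕ) : b0 F n - (b0 F n)ᵀ = -J (Fin n) F := by
  unfold b0 J
  rw [Matrix.fromBlocks_transpose, sub_eq_add_neg, Matrix.fromBlocks_neg, Matrix.fromBlocks_add,
    Matrix.fromBlocks_neg]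
  simp

/-- **PACKAGE D2.**  `aSet` is an affine space over the symmetric matrices. -/
theorem aN_eq (n : ℕ) : aN F n = Fintype.card F ^ (n * (2 * n + 1)) := by
  classical
  have hJT : (J (Fin n) F)ᵀ = -J (Fin n) F := Matrix.J_transpose (Fin n) F
  have hJJ : J (Fin n) F * J (Fin n) F = -1 := Matrix.J_squared (Fin n) F
  let e : {A : Matrix (Fin n ⊕ Fin n) (Fin n ⊕ Fin n) F // A ∈ aSet (J (Fin n) F)} ≃
      {M : Matrix (Fin n ⊕ Fin n) (Fin n ⊕ Fin n) F // Mᵀ = M} :=
    { toFun := fun A => ⟨J (Fin n) F * A.1 - b0 F n, by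
        have hA : (A.1)ᵀ * J (Fin n) F + J (Fin n) F * A.1 + J (Fin n) F = 0 := A.2
        have h1 : (J (Fin n) F * A.1)ᵀ = -((A.1)ᵀ * J (Fin n) F) := by
          rw [Matrix.transpose_mul, hJT, Matrix.mul_neg]
        have h2 := b0_sub F n
        rw [Matrix.transpose_sub, h1]
        have h3 : (b0 F n)ᵀ = b0 F n + J (Fin n) F := by
          rw [← sub_eq_zero]
          have : (b0 F n)ᵀ - (b0 F n + J (Fin n) F) = -(b0 F n - (b0 F n)ᵀ) - J (Fin n) F := by
            abel
          rw [this, h2]; abel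
        rw [h3]
        have h4 : -((A.1)ᵀ * J (Fin n) F) = J (Fin n) F * A.1 + J (Fin n) F := by
          rw [neg_eq_iff_add_eq_zero]
          rw [← hA]; abel
        rw [h4]; abel⟩
      invFun := fun M => ⟨-J (Fin n) F * (M.1 + b0 F n), by
        rw [mem_aSet]
        have hM : (M.1)ᵀ = M.1 := M.2
        have h2 := b0_sub F n
        have h3 : (b0 F n)ᵀ = b0 F n + J (Fin n) F := by
          rw [← sub_eq_zero]
          have : (b0 F n)ᵀ - (b0 F n + J (Fin n) F) = -(b0 F n - (b0 F n)ᵀ) - J (Fin n) F := by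
            abel
          rw [this, h2]; abel
        have hXT : (M.1 + b0 F n)ᵀ = (M.1 + b0 F n) + J (Fin n) F := by
          rw [Matrix.transpose_add, hM, h3, add_assoc]
        have e1 : (-J (Fin n) F * (M.1 + b0 F n))ᵀ = (M.1 + b0 F n)ᵀ * J (Fin n) F := by
          rw [Matrix.transpose_mul, Matrix.transpose_neg, hJT, neg_neg]
        have e2 : (M.1 + b0 F n)ᵀ * J (Fin n) F * J (Fin n) F = -(M.1 + b0 F n)ᵀ := by
          rw [Matrix.mul_assoc, hJJ, Matrix.mul_neg, Matrix.mul_one]
        have e3 : J (Fin n) F * (-J (Fin n) F * (M.1 + b0 F n)) = M.1 + b0 F n := by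
          rw [← Matrix.mul_assoc, Matrix.mul_neg, hJJ, neg_neg, Matrix.one_mul]
        rw [e1, e2, e3, hXT]
        abel⟩
      left_inv := fun A => by
        apply Subtype.ext
        simp only [sub_add_cancel]
        rw [Matrix.neg_mul, ← Matrix.mul_assoc, hJJ, Matrix.neg_mul, Matrix.one_mul, neg_neg]
      right_inv := fun M => by
        apply Subtype.ext
        simp only
        rw [← Matrix.mul_assoc, Matrix.mul_neg, hJJ, neg_neg, Matrix.one_mul, add_sub_cancel_right] }
  unfold aN
  rw [Nat.card_congr e, card_symm, Fintype.card_sum, Fintype.card_fin, Nat.choose_two_right]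
  congr 1
  have : (n + n + 1) * (n + n + 1 - 1) = (n * (2 * n + 1)) * 2 := by
    rw [Nat.add_sub_cancel]; ring
  rw [this, Nat.mul_div_cancel _ (by norm_num)]

end main

end Cfsg.Agent.Lib.Helper7.SpUnD2
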