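import Mathlib
import Cfsg.Prelude.Def_KGroupFacts
import Cfsg.Agent.Lib.Helper7.StemCore

set_option autoImplicit false

open scoped commutatorElement

namespace Cfsg.Agent.Lib.Helper7

/-- a homomorphism from `ZMod n` (multiplicative) with `1 ↦ w` when `w ^ n = 1`. -/
theorem exists_hom_of_pow_eq_one {K : Type*} [Group K] (n : ℕ) (w : K) (hw : w ^ n = 1) :
    ∃ π : Multiplicative (ZMod n) →* K, ∀ j : ℤ, w ^ j ∈ Set.range π := by
  let f : ℤ →+ Additive K := zmultiplesHom (Additive K) (Additive.ofMul w)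
  have hf : f ((n : ℕ) : ℤ) = 0 := by
    change (zmultiplesHom (Additive K) (Additive.ofMul w)) ((n : ℕ) : ℤ) = 0
    rw [zmultiplesHom_apply, natCast_zsmul, ← ofMul_pow, hw]
    rfl
  let g : ZMod n →+ Additive K := ZMod.lift n ⟨f, hf⟩
  refine ⟨AddMonoidHom.toMultiplicativeLeft g, ?_⟩
  intro j
  refine ⟨Multiplicative.ofAdd ((j : ℤ) : ZMod n), ?_⟩
  change Additive.toMul (g ((j : ℤ) : ZMod n)) = w ^ j
  have : g ((j : ℤ) : ZMod n) = f (j : ℤ) := ZMod.lift_coe n ⟨f, hf⟩ (j : ℤ)
  rw [this]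
  change Additive.toMul ((zmultiplesHom (Additive K) (Additive.ofMul w)) (j : ℤ)) = w ^ j
  rw [zmultiplesHom_apply, ← ofMul_zpow]
  rfl

/-- a subgroup of `⟨k⟩` with `k ^ n = 1` is a homomorphic image of `ZMod n`. -/
theorem exists_surj_of_le_zpowers {Γ : Type*} [Group Γ] (K : Subgroup Γ) (k : Γ) (n : ℕ)
    (hkn : k ^ n = 1) (hK : K ≤ Subgroup.zpowers k) :
    ∃ π : Multiplicative (ZMod n) →* K, Function.Surjective π := by
  haveI : IsCyclic K := Subgroup.isCyclic_of_le hK
  obtain ⟨w, hw⟩ := IsCyclic.exists_generator (α := K)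
  have hwn : w ^ n = 1 := by
    obtain ⟨j, hj⟩ := Subgroup.mem_zpowers_iff.mp (hK w.2)
    apply Subtype.ext
    change (w : Γ) ^ n = 1
    rw [← hj, ← zpow_natCast, ← zpow_mul, mul_comm, zpow_mul, zpow_natCast, hkn, one_zpow]
  obtain ⟨π, hπ⟩ := exists_hom_of_pow_eq_one n w hwn
  refine ⟨π, ?_⟩
  intro z
  obtain ⟨j, hj⟩ := Subgroup.mem_zpowers_iff.mp (hw z)
  obtain ⟨x, hx⟩ := hπ j
  exact ⟨x, hx.trans hj⟩

/-- stem extensions of a group generated by two commuting elements `a, b` with `b ^ n = 1`: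
the kernel lies in `⟨k⟩` with `k ^ n = 1`. -/
theorem two_gen_abelian_stem {Γ Q : Type*} [Group Γ] [Group Q] (σ : Γ →* Q)
    (hσ : Cfsg.IsStemExtension σ) (a b : Q) (hgen : Subgroup.closure {a, b} = ⊤)
    (hab : a * b = b * a) (n : ℕ) (hb : b ^ n = 1) :
    ∃ k ∈ σ.ker, k ^ n = 1 ∧ σ.ker ≤ Subgroup.zpowers k := by
  obtain ⟨hsurj, hcen, hcomm⟩ := hσ
  obtain ⟨α, hα⟩ := hsurj a
  obtain ⟨β, hβ⟩ := hsurj b
  set k := ⁅α, β⁆ with hkdef
  have hk : k ∈ σ.ker := by
    rw [MonoidHom.mem_ker, hkdef, map_commutatorElement, hα, hβ,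
      commutatorElement_eq_one_iff_mul_comm]
    exact hab
  have hkc : ∀ g, g * k = k * g := fun g => Subgroup.mem_center_iff.mp (hcen hk) g
  have hrel : α * β * α⁻¹ = k * β := by rw [hkdef, commutatorElement_def]; group
  have hpow : ∀ i : ℕ, α * β ^ i * α⁻¹ = k ^ i * β ^ i := by
    intro i
    have h1 : α * β ^ i * α⁻¹ = (α * β * α⁻¹) ^ i := by rw [conj_pow]
    rw [h1, hrel]
    have hc : Commute k β := (hkc β).symm
    exact hc.mul_pow i
  have hkn : k ^ n = 1 := by
    have hβn : β ^ n ∈ σ.ker := by rw [MonoidHom.mem_ker, map_pow, hβ, hb]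
    have h1 := hpow n
    have h2 : α * β ^ n * α⁻¹ = β ^ n := by
      have := Subgroup.mem_center_iff.mp (hcen hβn) α
      rw [this]; group
    rw [h2] at h1
    exact mul_eq_right.mp h1.symm
  refine ⟨k, hk, hkn, ?_⟩
  have hgenΓ : Subgroup.closure (({α, β} : Set Γ) ∪ (σ.ker : Set Γ)) = ⊤ := by
    rw [Subgroup.closure_union, Subgroup.closure_eq, eq_top_iff]
    intro g _
    have h1 : σ g ∈ (Subgroup.closure {α, β}).map σ := by
      rw [MonoidHom.map_closure, Set.image_pair, hα, hβ, hgen]; exact Subgroup.mem_top _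
    obtain ⟨w, hw, hwg⟩ := h1
    have h2 : w⁻¹ * g ∈ σ.ker := by
      rw [MonoidHom.mem_ker, map_mul, map_inv, hwg]; group
    have : g = w * (w⁻¹ * g) := by group
    rw [this]
    exact Subgroup.mul_mem _ (Subgroup.mem_sup_left hw) (Subgroup.mem_sup_right h2)
  haveI hnorm : (Subgroup.zpowers k).Normal := by
    constructor
    intro x hx g
    have hxc : x ∈ Subgroup.center Γ := (Subgroup.zpowers_le.mpr (hcen hk)) hx
    have := Subgroup.mem_center_iff.mp hxc g
    rw [this, mul_inv_cancel_right]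
    exact hx
  have hcen' : ∀ z ∈ σ.ker, ∀ g : Γ, ⁅z, g⁆ = 1 ∧ ⁅g, z⁆ = 1 := by
    intro z hz g
    have := Subgroup.mem_center_iff.mp (hcen hz) g
    constructor
    · rw [commutatorElement_eq_one_iff_mul_comm, this]
    · rw [commutatorElement_eq_one_iff_mul_comm, this]
  have hle : commutator Γ ≤ Subgroup.zpowers k := by
    apply commutator_le_of_generators (Subgroup.zpowers k) _ hgenΓ
    intro s hs t ht
    rcases hs with hs | hs
    · rcases ht with ht | ht
      · rcases hs with rfl | hs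
        · rcases ht with rfl | ht
          · rw [commutatorElement_self]; exact Subgroup.one_mem _
          · rw [Set.mem_singleton_iff] at ht; subst ht
            exact Subgroup.mem_zpowers _
        · rw [Set.mem_singleton_iff] at hs; subst hs
          rcases ht with rfl | ht
          · rw [← commutatorElement_inv]
            exact Subgroup.inv_mem _ (Subgroup.mem_zpowers _)
          · rw [Set.mem_singleton_iff] at ht; subst ht
            rw [commutatorElement_self]; exact Subgroup.one_mem _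
      · rw [(hcen' t ht s).2]; exact Subgroup.one_mem _
    · rw [(hcen' s hs t).1]; exact Subgroup.one_mem _
  exact hcomm.trans hle

end Cfsg.Agent.Lib.Helper7

namespace Cfsg.Agent.Lib.Helper7

section pullback

variable {G Q H : Type*} [CommGroup G] [Group Q] [Group H]

/-- fibre product of `f : G → Q` and `τ : H → Q`. -/
def pb (f : G →* Q) (τ : H →* Q) : Subgroup (G × H) :=
  (f.comp (MonoidHom.fst G H)).eqLocus (τ.comp (MonoidHom.snd G H))

theorem mem_pb (f : G →* Q) (τ : H →* Q) (x : G × H) : x ∈ pb f τ ↔ f x.1 = τ x.2 := Iff.rfl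

/-- the projection of the fibre product to `G`. -/
def pbFst (f : G →* Q) (τ : H →* Q) : pb f τ →* G := (MonoidHom.fst G H).comp (pb f τ).subtype

/-- the projection of the fibre product to `H`. -/
def pbSnd (f : G →* Q) (τ : H →* Q) : pb f τ →* H := (MonoidHom.snd G H).comp (pb f τ).subtype

/-- Pulling back a stem extension of `Q` along a surjection from an abelian group `G` gives a
stem extension of `G`. -/
theorem pb_isStemExtension (f : G →* Q) (hf : Function.Surjective f) (τ : H →* Q)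
    (hτ : Cfsg.IsStemExtension τ) : Cfsg.IsStemExtension (pbFst f τ) := by
  obtain ⟨hsurj, hcen, hcomm⟩ := hτ
  have hker : ∀ x : pb f τ, x ∈ (pbFst f τ).ker → x.1.1 = 1 ∧ x.1.2 ∈ τ.ker := by
    intro x hx
    have h1 : x.1.1 = 1 := hx
    refine ⟨h1, ?_⟩
    rw [MonoidHom.mem_ker, ← (mem_pb f τ x.1).mp x.2, h1, map_one]
  refine ⟨?_, ?_, ?_⟩
  · intro g
    obtain ⟨h, hh⟩ := hsurj (f g)
    exact ⟨⟨(g, h), hh.symm⟩, rfl⟩
  · intro x hx
    obtain ⟨h1, h2⟩ := hker x hx
    rw [Subgroup.mem_center_iff]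
    intro y
    apply Subtype.ext
    apply Prod.ext
    · change y.1.1 * x.1.1 = x.1.1 * y.1.1
      exact mul_comm _ _
    · change y.1.2 * x.1.2 = x.1.2 * y.1.2
      exact Subgroup.mem_center_iff.mp (hcen h2) _
  · intro x hx
    obtain ⟨h1, h2⟩ := hker x hx
    have hsnd : Function.Surjective (pbSnd f τ) := by
      intro h
      obtain ⟨g, hg⟩ := hf (τ h)
      exact ⟨⟨(g, h), hg⟩, rfl⟩
    have hmap : (commutator (pb f τ)).map (pbSnd f τ) = commutator H := by
      rw [commutator_def, Subgroup.map_commutator, ← MonoidHom.range_eq_map,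
        MonoidHom.range_eq_top.mpr hsnd, commutator_def]
    have hx2 : x.1.2 ∈ (commutator (pb f τ)).map (pbSnd f τ) := by
      rw [hmap]; exact hcomm h2
    obtain ⟨γ, hγ, hγx⟩ := hx2
    have hγ1 : pbFst f τ γ = 1 := by
      have hle : commutator (pb f τ) ≤ (pbFst f τ).ker := by
        rw [commutator_def, Subgroup.commutator_le]
        intro a _ b _
        rw [MonoidHom.mem_ker, map_commutatorElement, commutatorElement_eq_one_iff_mul_comm]
        exact mul_comm _ _
      exact hle hγ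
    have : γ = x := by
      apply Subtype.ext
      apply Prod.ext
      · change pbFst f τ γ = x.1.1
        rw [hγ1, h1]
      · exact hγx
    rw [← this]; exact hγ

theorem pb_ker_ne_bot (f : G →* Q) (τ : H →* Q) (hτ : τ.ker ≠ ⊥) : (pbFst f τ).ker ≠ ⊥ := by
  intro h
  apply hτ
  rw [eq_bot_iff]
  intro z hz
  have hmem : ((1 : G), z) ∈ pb f τ := by
    rw [mem_pb, map_one]
    exact (MonoidHom.mem_ker.mp hz).symm
  have h1 : (⟨((1 : G), z), hmem⟩ : pb f τ) ∈ (pbFst f τ).ker := rfl
  rw [h, Subgroup.mem_bot] at h1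
  have := congrArg (fun x : pb f τ => x.1.2) h1
  exact Subgroup.mem_bot.mpr this

end pullback

end Cfsg.Agent.Lib.Helper7
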