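import Mathlib
import Cfsg.Agent.Lib.Helper7.StemCore

set_option autoImplicit false

namespace Cfsg.Agent.Lib.Helper7

open DihedralGroup

theorem dihedral_closure_gens (n : ℕ) [NeZero n] :
    Subgroup.closure {(r 1 : DihedralGroup n), sr 0} = ⊤ := by
  rw [eq_top_iff]
  have ha : ∀ i : ZMod n, (r i : DihedralGroup n) ∈ Subgroup.closure {(r 1 : DihedralGroup n), sr 0} := by
    intro i
    have h1 : (r 1 : DihedralGroup n) ^ i.val = r i := by
      rw [r_one_pow, ZMod.natCast_zmod_val]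
    rw [← h1]
    exact Subgroup.pow_mem _ (Subgroup.subset_closure (by simp)) _
  rintro (i | i) _
  · exact ha i
  · have : (sr i : DihedralGroup n) = sr 0 * r i := by rw [sr_mul_r, zero_add]
    rw [this]
    exact Subgroup.mul_mem _ (Subgroup.subset_closure (by simp)) (ha i)

theorem dihedral_relQ (n : ℕ) : (sr 0 : DihedralGroup n) * r 1 * (sr 0)⁻¹ = (r 1)⁻¹ := by
  rw [inv_sr, inv_r, sr_mul_r, sr_mul_sr]
  congr 1
  ring

/-- analysis of a finite stem extension of the dihedral group of order `2n`. -/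
theorem dihedral_stem_analysis (n : ℕ) [NeZero n] {Γ : Type*} [Group Γ] [Finite Γ]
    (σ : Γ →* DihedralGroup n) (hσ : Cfsg.IsStemExtension σ) :
    ∃ α k : Γ, σ α = r 1 ∧ k ∈ σ.ker ∧ α ^ (2 * n) = k ^ n ∧
      ∀ z ∈ σ.ker, ∃ i : ℕ, z = α ^ (2 * i) * (k⁻¹) ^ i ∧ n ∣ 2 * i := by
  obtain ⟨α, ξ, k, hα, hξ, hk, hrel, hker, hrel2⟩ :=
    stem_analysis σ hσ (r 1) (sr 0) (dihedral_closure_gens n) (dihedral_relQ n)
  have hcen : σ.ker ≤ Subgroup.center Γ := hσ.2.1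
  have hαn : α ^ n ∈ σ.ker := by
    rw [MonoidHom.mem_ker, map_pow, hα, r_one_pow_n]
  have hcomm : ξ * α ^ n = α ^ n * ξ := Subgroup.mem_center_iff.mp (hcen hαn) ξ
  refine ⟨α, k, hα, hk, hrel2 n hcomm, ?_⟩
  intro z hz
  obtain ⟨i, hzi, hai⟩ := hker z hz
  refine ⟨i, hzi, ?_⟩
  have h1 : ((r 1 : DihedralGroup n) * r 1) ^ i = r ((2 * i : ℕ) : ZMod n) := by
    rw [← pow_two, ← pow_mul, r_one_pow]
  rw [h1, one_def] at hai
  have h2 : ((2 * i : ℕ) : ZMod n) = 0 := by injection hai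
  rwa [ZMod.natCast_eq_zero_iff] at h2

end Cfsg.Agent.Lib.Helper7
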