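import Mathlib
import Cfsg.Prelude.Def_TwoFusion
import Cfsg.Agent.Lib.Helper4.AlperinGold3
import Cfsg.Agent.Lib.Helper4.AlperinTame5
import Cfsg.Agent.Lib.Lead.FrobNPC5

set_option autoImplicit false

/-! Chain stabilizers inside the normalizer of a `p`-subgroup, and their position relative to
`O_{p',p}`. -/

namespace Cfsg.Agent.Lib.Helper7.StrongFrob

open Cfsg Cfsg.Agent.Lib.Helper4 Cfsg.Agent.Lib.Lead

variable {G : Type*} [Group G]

/-- a subgroup closed under conjugation by the elements of `H` is normalized by `H` -/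
theorem le_normalizer_of_conj_mem {H K : Subgroup G} (h : ∀ t ∈ H, ∀ x ∈ K, t * x * t⁻¹ ∈ K) :
    H ≤ Subgroup.normalizer (K : Set G) := by
  intro n hn
  rw [Subgroup.mem_normalizer_iff]
  intro x
  constructor
  · exact h n hn x
  · intro hx
    have := h n⁻¹ (H.inv_mem hn) _ hx
    have e : n⁻¹ * (n * x * n⁻¹) * n⁻¹⁻¹ = x := by group
    rwa [e] at this

theorem conj_inv_mem_of_mem_normalizer {K : Subgroup G} {n x : G}
    (hn : n ∈ Subgroup.normalizer (K : Set G)) (hx : x ∈ K) : n⁻¹ * x * n ∈ K := by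
  have := (Subgroup.mem_normalizer_iff.mp (Subgroup.inv_mem _ hn) x).mp hx
  rwa [inv_inv] at this

/-- the elements of `N` centralizing `U` and acting trivially on `T` modulo `U` -/
def chainStab (N U T : Subgroup G) : Subgroup G where
  carrier := {g | g ∈ N ∧ (∀ u ∈ U, g * u = u * g) ∧ ∀ t ∈ T, t⁻¹ * (g * t * g⁻¹) ∈ U}
  one_mem' := by
    refine ⟨N.one_mem, fun u _ => by rw [one_mul, mul_one], fun t _ => ?_⟩
    have : t⁻¹ * (1 * t * 1⁻¹) = 1 := by group
    rw [this]; exact U.one_mem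
  mul_mem' := by
    rintro g h ⟨hgN, hgU, hgT⟩ ⟨hhN, hhU, hhT⟩
    refine ⟨N.mul_mem hgN hhN, fun u hu => ?_, fun t ht => ?_⟩
    · rw [mul_assoc, hhU u hu, ← mul_assoc, hgU u hu, mul_assoc]
    · have h1 := hgT t ht
      have h2 := hhT t ht
      have h3 : g * (t⁻¹ * (h * t * h⁻¹)) * g⁻¹ = t⁻¹ * (h * t * h⁻¹) := by
        rw [hgU _ h2]; group
      have e : t⁻¹ * (g * h * t * (g * h)⁻¹) =
          (t⁻¹ * (g * t * g⁻¹)) * (g * (t⁻¹ * (h * t * h⁻¹)) * g⁻¹) := by group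
      rw [e, h3]
      exact U.mul_mem h1 h2
  inv_mem' := by
    rintro g ⟨hgN, hgU, hgT⟩
    refine ⟨N.inv_mem hgN, fun u hu => ?_, fun t ht => ?_⟩
    · have := hgU u hu
      calc g⁻¹ * u = g⁻¹ * (u * g) * g⁻¹ := by group
        _ = g⁻¹ * (g * u) * g⁻¹ := by rw [this]
        _ = u * g⁻¹ := by group
    · have h1 := hgT t ht
      have h2 := hgU _ (U.inv_mem h1)
      have e : t⁻¹ * (g⁻¹ * t * g⁻¹⁻¹) = g⁻¹ * ((t⁻¹ * (g * t * g⁻¹))⁻¹ * g) := by group
      rw [e, ← h2]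
      have e2 : g⁻¹ * (g * (t⁻¹ * (g * t * g⁻¹))⁻¹) = (t⁻¹ * (g * t * g⁻¹))⁻¹ := by group
      rw [e2]; exact U.inv_mem h1

theorem mem_chainStab {N U T : Subgroup G} {g : G} : g ∈ chainStab N U T ↔
    g ∈ N ∧ (∀ u ∈ U, g * u = u * g) ∧ ∀ t ∈ T, t⁻¹ * (g * t * g⁻¹) ∈ U := Iff.rfl

theorem chainStab_le (N U T : Subgroup G) : chainStab N U T ≤ N := fun _ hg => hg.1

theorem le_normalizer_chainStab {N U T : Subgroup G}
    (hU : N ≤ Subgroup.normalizer (U : Set G)) (hT : N ≤ Subgroup.normalizer (T : Set G)) :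
    N ≤ Subgroup.normalizer ((chainStab N U T : Subgroup G) : Set G) := by
  apply le_normalizer_of_conj_mem
  intro n hn g hg
  obtain ⟨hgN, hgU, hgT⟩ := hg
  refine ⟨N.mul_mem (N.mul_mem hn hgN) (N.inv_mem hn), fun u hu => ?_, fun t ht => ?_⟩
  · have h1 : n⁻¹ * u * n ∈ U := conj_inv_mem_of_mem_normalizer (hU hn) hu
    have h2 := hgU _ h1
    calc n * g * n⁻¹ * u = n * (g * (n⁻¹ * u * n)) * n⁻¹ := by group
      _ = n * ((n⁻¹ * u * n) * g) * n⁻¹ := by rw [h2]
      _ = u * (n * g * n⁻¹) := by group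
  · have h1 : n⁻¹ * t * n ∈ T := conj_inv_mem_of_mem_normalizer (hT hn) ht
    have h2 := hgT _ h1
    have h3 : n * ((n⁻¹ * t * n)⁻¹ * (g * (n⁻¹ * t * n) * g⁻¹)) * n⁻¹ ∈ U :=
      (Subgroup.mem_normalizer_iff.mp (hU hn) _).mp h2
    have e : t⁻¹ * (n * g * n⁻¹ * t * (n * g * n⁻¹)⁻¹) =
        n * ((n⁻¹ * t * n)⁻¹ * (g * (n⁻¹ * t * n) * g⁻¹)) * n⁻¹ := by group
    rw [e]; exact h3

/-- a `p'`-element stabilizing the chain `1 ≤ U ≤ T` with `U` a `p`-group centralizes `T` -/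
theorem mem_centralizer_of_coprime {p : ℕ} {N U T : Subgroup G} (hUp : IsPGroup p U) {g : G}
    (hg : g ∈ chainStab N U T) (hcop : (orderOf g).Coprime p) :
    g ∈ Subgroup.centralizer (T : Set G) := by
  obtain ⟨hgN, hgU, hgT⟩ := hg
  rw [Subgroup.mem_centralizer_iff]
  intro t ht
  obtain ⟨w, hw⟩ : ∃ w, w = t⁻¹ * (g * t * g⁻¹) := ⟨_, rfl⟩
  have hwU : w ∈ U := by rw [hw]; exact hgT t ht
  have hgw : Commute g w := hgU w hwU
  have htw : g * t * g⁻¹ = t * w := by rw [hw]; group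
  have hpow : ∀ n : ℕ, g ^ n * t * (g ^ n)⁻¹ = t * w ^ n := by
    intro n
    induction n with
    | zero => simp
    | succ n ih =>
      have hgwn : g * w ^ n * g⁻¹ = w ^ n := by
        rw [(hgw.pow_right n).eq]; group
      calc g ^ (n + 1) * t * (g ^ (n + 1))⁻¹ = g * (g ^ n * t * (g ^ n)⁻¹) * g⁻¹ := by
            rw [pow_succ']; group
        _ = g * (t * w ^ n) * g⁻¹ := by rw [ih]
        _ = (g * t * g⁻¹) * (g * w ^ n * g⁻¹) := by group
        _ = (t * w) * w ^ n := by rw [hgwn, htw]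
        _ = t * w ^ (n + 1) := by rw [pow_succ', mul_assoc]
  have h1 := hpow (orderOf g)
  rw [pow_orderOf_eq_one, inv_one, one_mul, mul_one] at h1
  have h2 : w ^ orderOf g = 1 := by
    have h1' : t * 1 = t * w ^ orderOf g := by rw [mul_one]; exact h1
    exact (mul_left_cancel h1').symm
  obtain ⟨k, hk⟩ := hUp ⟨w, hwU⟩
  have hk' : w ^ p ^ k = 1 := by simpa using congrArg Subtype.val hk
  have h3 : orderOf w ∣ Nat.gcd (orderOf g) (p ^ k) :=
    Nat.dvd_gcd (orderOf_dvd_of_pow_eq_one h2) (orderOf_dvd_of_pow_eq_one hk')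
  have h4 : Nat.gcd (orderOf g) (p ^ k) = 1 := Nat.Coprime.pow_right k hcop
  rw [h4, Nat.dvd_one, orderOf_eq_one_iff] at h3
  rw [h3, mul_one] at htw
  calc t * g = (g * t * g⁻¹) * g := by rw [htw]
    _ = g * t := by group

variable [Finite G] {p : ℕ} [Fact p.Prime]

/-- the chain stabilizer lies in `O_{p',p}(N_G(T))` when `C_G(T)` does -/
theorem chainStab_le_LG {U T : Subgroup G} (hUT : U ≤ T) (hTp : IsPGroup p T)
    (hNU : Subgroup.normalizer (T : Set G) ≤ Subgroup.normalizer (U : Set G))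
    (hC : Subgroup.centralizer (T : Set G) ≤ LG p (Subgroup.normalizer (T : Set G))) :
    chainStab (Subgroup.normalizer (T : Set G)) U T ≤ LG p (Subgroup.normalizer (T : Set G)) := by
  obtain ⟨N, hNdef⟩ : ∃ N : Subgroup G, N = Subgroup.normalizer (T : Set G) := ⟨_, rfl⟩
  rw [← hNdef] at hNU hC ⊢
  obtain ⟨A, hA⟩ : ∃ A : Subgroup G, A = chainStab N U T := ⟨_, rfl⟩
  rw [← hA]
  have hAN : A ≤ N := by rw [hA]; exact chainStab_le N U T
  have hNA : N ≤ Subgroup.normalizer (A : Set G) := by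
    rw [hA]; exact le_normalizer_chainStab hNU (by rw [hNdef])
  haveI hn : (A.subgroupOf N).Normal := Subgroup.normal_subgroupOf_of_le_normalizer hNA
  haveI hKn : (pPrimeCore p ↥N).Normal := by
    unfold pPrimeCore
    exact Subgroup.sSup_normal _ (fun _ hH => hH.1)
  have hpg : IsPGroup p ((A.subgroupOf N).map (QuotientGroup.mk' (pPrimeCore p ↥N))) := by
    rintro ⟨_, a, ha, rfl⟩
    obtain ⟨u, v, huv, hu, hv, ⟨k, hk⟩, hcop⟩ := exists_ppart_decomp' p a
    have hvA : v ∈ A.subgroupOf N := (Subgroup.zpowers_le.mpr ha) hv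
    have hvG : (v : G) ∈ chainStab N U T := by rw [← hA]; exact Subgroup.mem_subgroupOf.mp hvA
    have hcop' : (orderOf (v : G)).Coprime p := by rw [Subgroup.orderOf_coe]; exact hcop
    have hvC : (v : G) ∈ Subgroup.centralizer (T : Set G) :=
      mem_centralizer_of_coprime (hTp.to_le hUT) hvG hcop'
    have hvK : (v : G) ∈ KG p N := mem_KG_of_mem_LG (hC hvC) hcop'
    have hvK' : v ∈ pPrimeCore p ↥N := by
      obtain ⟨v', hv', hvv⟩ := hvK
      have : v' = v := Subtype.ext hvv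
      rwa [← this]
    have hcomm : Commute u v := by
      obtain ⟨i, rfl⟩ := Subgroup.mem_zpowers_iff.mp hu
      obtain ⟨j, rfl⟩ := Subgroup.mem_zpowers_iff.mp hv
      exact (Commute.refl a).zpow_zpow i j
    refine ⟨k, ?_⟩
    apply Subtype.ext
    rw [Subgroup.coe_pow, Subgroup.coe_one]
    show (QuotientGroup.mk' (pPrimeCore p ↥N) a) ^ p ^ k = 1
    rw [← map_pow, huv, hcomm.mul_pow, hk, one_mul]
    exact (QuotientGroup.eq_one_iff _).mpr ((pPrimeCore p ↥N).pow_mem hvK' _)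
  have h1 : (A.subgroupOf N).map (QuotientGroup.mk' (pPrimeCore p ↥N)) ≤
      pCore p (↥N ⧸ pPrimeCore p ↥N) := by
    apply Cfsg.Agent.Lib.Lead.le_pCore
    · exact Subgroup.Normal.map hn _ (QuotientGroup.mk'_surjective _)
    · exact hpg
  have h2 : A.subgroupOf N ≤ pPrimePCore p ↥N := by
    rw [Cfsg.Agent.Lib.Helper2.PConstrained.pPrimePCore_def]
    exact Subgroup.map_le_iff_le_comap.mp h1
  rw [LG_def, ← Subgroup.map_subgroupOf_eq_of_le hAN]
  exact Subgroup.map_mono h2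

omit [Finite G] in
/-- a `p`-element of `K × T` with `K` a `p'`-group lies in `T` -/
theorem mem_of_mem_directProduct {K T L : Subgroup G} (hprod : IsInternalDirectProduct K T L)
    (hK : (Nat.card K).Coprime p) [Finite K] {x : G} (hx : x ∈ L) {k : ℕ} (hxp : x ^ p ^ k = 1) :
    x ∈ T := by
  obtain ⟨_, _, hcomm, hinf, hsup⟩ := hprod
  have hTK : T ≤ Subgroup.normalizer (K : Set G) := by
    apply le_normalizer_of_conj_mem
    intro t ht a ha
    have := hcomm a ha t ht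
    have e : t * a * t⁻¹ = a := by rw [← this]; group
    rw [e]; exact ha
  have hset := Subgroup.coe_mul_of_right_le_normalizer_left K T hTK
  rw [← hsup] at hx
  have hx' : x ∈ ((K ⊔ T : Subgroup G) : Set G) := hx
  rw [hset] at hx'
  obtain ⟨a, ha, b, hb, rfl⟩ := hx'
  have hab : Commute a b := hcomm a ha b hb
  rw [hab.mul_pow] at hxp
  have h1 : a ^ p ^ k ∈ K ⊓ T := by
    refine Subgroup.mem_inf.mpr ⟨K.pow_mem ha _, ?_⟩
    have : a ^ p ^ k = (b ^ p ^ k)⁻¹ := eq_inv_of_mul_eq_one_left hxp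
    rw [this]; exact T.inv_mem (T.pow_mem hb _)
  rw [hinf, Subgroup.mem_bot] at h1
  have h2 : orderOf a ∣ Nat.gcd (Nat.card K) (p ^ k) := by
    apply Nat.dvd_gcd _ (orderOf_dvd_of_pow_eq_one h1)
    have := orderOf_dvd_natCard (⟨a, ha⟩ : K)
    rwa [Subgroup.orderOf_mk] at this
  have h3 : Nat.gcd (Nat.card K) (p ^ k) = 1 := Nat.Coprime.pow_right k hK
  rw [h3, Nat.dvd_one, orderOf_eq_one_iff] at h2
  show a * b ∈ T
  rw [h2, one_mul]; exact hb

end Cfsg.Agent.Lib.Helper7.StrongFrob
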