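import Mathlib
import Cfsg.Agent.Lib.Helper7.StrongFrob1

set_option autoImplicit false
open Pointwise

/-! The Frobenius normal `p`-complement criterion relative to a strongly closed subgroup. -/

namespace Cfsg.Agent.Lib.Helper7.StrongFrob

open Cfsg Cfsg.Agent.Lib.Helper4 Cfsg.Agent.Lib.Lead

variable {G : Type*} [Group G]

/-- a strongly closed subgroup is normalized by the Sylow subgroup -/
theorem IsStronglyClosed.conj_mem {D S : Subgroup G} (hD : IsStronglyClosed D S) {s d : G}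
    (hs : s ∈ S) (hd : d ∈ D) : s * d * s⁻¹ ∈ D :=
  hD.2 d hd s (S.mul_mem (S.mul_mem hs (hD.1 hd)) (S.inv_mem hs))

/-- `N_G(T) ≤ N_G(T ∩ D)` for `D` strongly closed in `S ≥ T` -/
theorem normalizer_le_of_stronglyClosed {D S T : Subgroup G} (hD : IsStronglyClosed D S)
    (hTS : T ≤ S) :
    Subgroup.normalizer (T : Set G) ≤ Subgroup.normalizer ((T ⊓ D : Subgroup G) : Set G) := by
  apply le_normalizer_of_conj_mem
  intro n hn u hu
  have huT : u ∈ T := (Subgroup.mem_inf.mp hu).1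
  have huD : u ∈ D := (Subgroup.mem_inf.mp hu).2
  have h1 : n * u * n⁻¹ ∈ T := (Subgroup.mem_normalizer_iff.mp hn u).mp huT
  exact Subgroup.mem_inf.mpr ⟨h1, hD.2 u huD n (hTS h1)⟩

/-- if every step acts like an element of `P`, so does every chain -/
theorem via_exists_conj {𝓕 : Set (Subgroup G)} (P : Subgroup G)
    (hP : ∀ T ∈ 𝓕, ∀ x ∈ Subgroup.normalizer (T : Set G),
      ∃ y ∈ P, ∀ a ∈ T, x⁻¹ * a * x = y⁻¹ * a * y)
    {A : Set G} {g : G} (h : Via 𝓕 A g) : ∃ y ∈ P, ∀ a ∈ A, g⁻¹ * a * g = y⁻¹ * a * y := by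
  induction h with
  | nil A =>
    exact ⟨1, P.one_mem, fun a _ => rfl⟩
  | cons A T x g hT hx hA _ ih =>
    obtain ⟨y1, hy1, h1⟩ := hP T hT x hx
    obtain ⟨y2, hy2, h2⟩ := ih
    refine ⟨y1 * y2, P.mul_mem hy1 hy2, ?_⟩
    intro a ha
    have h3 := h2 (x⁻¹ * a * x) ⟨a, ha, rfl⟩
    have h4 := h1 a (hA ha)
    calc (x * g)⁻¹ * a * (x * g) = g⁻¹ * (x⁻¹ * a * x) * g := by group
      _ = y2⁻¹ * (x⁻¹ * a * x) * y2 := h3
      _ = y2⁻¹ * (y1⁻¹ * a * y1) * y2 := by rw [h4]
      _ = (y1 * y2)⁻¹ * a * (y1 * y2) := by group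

variable [Finite G] {p : ℕ} [Fact p.Prime]

/-- if `N_G(T) ≤ M` and `M` has a normal `p`-complement, then `N_G(T)/C_G(T)` is a `p`-group -/
theorem isPGroup_automizer_of_le {M T : Subgroup G} (hM : HasNormalPComplement p ↥M)
    (hTp : IsPGroup p T) (hNM : Subgroup.normalizer (T : Set G) ≤ M) :
    IsPGroup p (Subgroup.normalizer (T : Set G) ⧸
      (Subgroup.centralizer (T : Set G)).subgroupOf (Subgroup.normalizer (T : Set G))) := by
  have hloc : PLocalCentral p ↥M := hasNormalPComplement_iff_plocalCentral.mp hM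
  have hTM : T ≤ M := Subgroup.le_normalizer.trans hNM
  have key : ∀ g ∈ Subgroup.normalizer (T : Set G), (orderOf g).Coprime p →
      g ∈ Subgroup.centralizer (T : Set G) := by
    intro g hg hcop
    have hgM : g ∈ M := hNM hg
    have h1 : (⟨g, hgM⟩ : M) ∈ Subgroup.normalizer ((T.subgroupOf M : Subgroup M) : Set M) := by
      rw [Subgroup.mem_normalizer_iff]
      intro h
      rw [Subgroup.mem_subgroupOf, Subgroup.mem_subgroupOf]
      exact Subgroup.mem_normalizer_iff.mp hg (h : G)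
    have h2 : (orderOf (⟨g, hgM⟩ : M)).Coprime p := by rw [Subgroup.orderOf_mk]; exact hcop
    have h3 := hloc (T.subgroupOf M) hTp.comap_subtype _ h1 h2
    rw [Subgroup.mem_centralizer_iff] at h3 ⊢
    intro t ht
    have h4 := h3 ⟨t, hTM ht⟩ (Subgroup.mem_subgroupOf.mpr ht)
    exact congrArg Subtype.val h4
  intro q
  obtain ⟨y, rfl⟩ := QuotientGroup.mk_surjective q
  obtain ⟨u, v, huv, hu, hv, ⟨k, hk⟩, hcop⟩ := exists_ppart_decomp' p (y : G)
  have hzN : Subgroup.zpowers (y : G) ≤ Subgroup.normalizer (T : Set G) :=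
    (Subgroup.zpowers_le).mpr y.2
  have hvC : v ∈ Subgroup.centralizer (T : Set G) := key v (hzN hv) hcop
  have hcomm : Commute u v := by
    obtain ⟨i, rfl⟩ := Subgroup.mem_zpowers_iff.mp hu
    obtain ⟨j, rfl⟩ := Subgroup.mem_zpowers_iff.mp hv
    exact (Commute.refl (y : G)).zpow_zpow i j
  refine ⟨k, ?_⟩
  rw [← QuotientGroup.mk_pow, QuotientGroup.eq_one_iff, Subgroup.mem_subgroupOf]
  rw [Subgroup.coe_pow, huv, hcomm.mul_pow, hk, one_mul]
  exact Subgroup.pow_mem _ hvC _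

/-- for `T` in the Alperin–Goldschmidt family, `T ∩ D` is self-centralizing in `D` -/
theorem centric_of_goldFam (S : Sylow p G) {D : Subgroup G}
    (hD : IsStronglyClosed D (S : Subgroup G)) {T : Subgroup G} (hT : T ∈ GoldFam S) :
    D ⊓ Subgroup.centralizer ((T ⊓ D : Subgroup G) : Set G) ≤ T ⊓ D := by
  obtain ⟨hTS, hC, hprod, -⟩ := hT
  obtain ⟨U, hUdef⟩ : ∃ U : Subgroup G, U = T ⊓ D := ⟨_, rfl⟩
  obtain ⟨X, hXdef⟩ : ∃ X : Subgroup G, X = D ⊓ Subgroup.centralizer (U : Set G) := ⟨_, rfl⟩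
  rw [← hUdef, ← hXdef]
  have hXD : X ≤ D := by rw [hXdef]; exact inf_le_left
  have hUT : U ≤ T := by rw [hUdef]; exact inf_le_left
  have hTp : IsPGroup p T := S.isPGroup'.to_le hTS
  have hNU : Subgroup.normalizer (T : Set G) ≤ Subgroup.normalizer (U : Set G) := by
    rw [hUdef]; exact normalizer_le_of_stronglyClosed hD hTS
  suffices hXT : X ≤ T by
    rw [hUdef]; exact le_inf hXT hXD
  by_contra hXT
  -- `T` normalizes `X`
  have hTX : T ≤ Subgroup.normalizer (X : Set G) := by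
    apply le_normalizer_of_conj_mem
    intro t ht x hx
    rw [hXdef] at hx ⊢
    obtain ⟨hxD, hxC⟩ := Subgroup.mem_inf.mp hx
    refine Subgroup.mem_inf.mpr ⟨IsStronglyClosed.conj_mem hD (hTS ht) hxD, ?_⟩
    rw [Subgroup.mem_centralizer_iff] at hxC ⊢
    intro u hu
    have hu' : t⁻¹ * u * t ∈ U := by
      rw [hUdef] at hu ⊢
      obtain ⟨huT, huD⟩ := Subgroup.mem_inf.mp hu
      refine Subgroup.mem_inf.mpr ⟨T.mul_mem (T.mul_mem (T.inv_mem ht) huT) ht, ?_⟩
      have := IsStronglyClosed.conj_mem hD ((S : Subgroup G).inv_mem (hTS ht)) huD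
      rwa [inv_inv] at this
    have h1 := hxC _ hu'
    calc u * (t * x * t⁻¹) = t * ((t⁻¹ * u * t) * x) * t⁻¹ := by group
      _ = t * (x * (t⁻¹ * u * t)) * t⁻¹ := by rw [h1]
      _ = t * x * t⁻¹ * u := by group
  obtain ⟨H, hHdef⟩ : ∃ H : Subgroup G, H = T ⊔ X := ⟨_, rfl⟩
  have hTH : T ≤ H := by rw [hHdef]; exact le_sup_left
  have hHS : H ≤ (S : Subgroup G) := by
    rw [hHdef]; exact sup_le hTS (hXD.trans hD.1)
  have hHp : IsPGroup p H := S.isPGroup'.to_le hHS
  haveI : Group.IsNilpotent H := hHp.isNilpotent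
  have hlt : T.subgroupOf H < ⊤ := by
    rw [lt_top_iff_ne_top, Ne, Subgroup.subgroupOf_eq_top]
    intro hHT
    apply hXT
    rw [hHdef] at hHT
    exact le_sup_right.trans hHT
  have hnc := Group.normalizerCondition_of_isNilpotent (G := H) (T.subgroupOf H) hlt
  obtain ⟨y, hyN, hyT⟩ := SetLike.exists_of_lt hnc
  have hyT' : (y : G) ∉ T := fun h => hyT (Subgroup.mem_subgroupOf.mpr h)
  have hyN' : (y : G) ∈ Subgroup.normalizer (T : Set G) := by
    rw [Subgroup.mem_normalizer_iff] at hyN ⊢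
    intro h
    constructor
    · intro hh
      have := (hyN ⟨h, hTH hh⟩).mp (Subgroup.mem_subgroupOf.mpr hh)
      exact Subgroup.mem_subgroupOf.mp this
    · intro hh
      have hhH : h ∈ H := by
        have h1 : (y : G)⁻¹ * ((y : G) * h * (y : G)⁻¹) * (y : G) ∈ H :=
          H.mul_mem (H.mul_mem (H.inv_mem y.2) (hTH hh)) y.2
        have e : (y : G)⁻¹ * ((y : G) * h * (y : G)⁻¹) * (y : G) = h := by group
        rwa [e] at h1
      have := (hyN ⟨h, hhH⟩).mpr (Subgroup.mem_subgroupOf.mpr hh)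
      exact Subgroup.mem_subgroupOf.mp this
  have hyH : (y : G) ∈ ((T ⊔ X : Subgroup G) : Set G) := by
    rw [← hHdef]; exact y.2
  rw [Subgroup.coe_mul_of_left_le_normalizer_right T X hTX] at hyH
  obtain ⟨t, ht, x, hx, htx⟩ := hyH
  have htx' : t * x = (y : G) := htx
  have hxe : x = t⁻¹ * (y : G) := by rw [← htx']; group
  have hxN : x ∈ Subgroup.normalizer (T : Set G) := by
    rw [hxe]
    exact Subgroup.mul_mem _ (Subgroup.inv_mem _ (Subgroup.le_normalizer ht)) hyN'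
  have hxT : x ∉ T := by
    intro h
    apply hyT'
    rw [← htx']
    exact T.mul_mem ht h
  have hxD : x ∈ D := hXD hx
  have hxS : x ∈ (S : Subgroup G) := hD.1 hxD
  have hxC : x ∈ Subgroup.centralizer (U : Set G) := by
    rw [hXdef] at hx; exact (Subgroup.mem_inf.mp hx).2
  have hxA : x ∈ chainStab (Subgroup.normalizer (T : Set G)) U T := by
    refine ⟨hxN, fun u hu => ((Subgroup.mem_centralizer_iff.mp hxC) u hu).symm, fun s hs => ?_⟩
    rw [hUdef]
    refine Subgroup.mem_inf.mpr ⟨?_, ?_⟩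
    · exact T.mul_mem (T.inv_mem hs) ((Subgroup.mem_normalizer_iff.mp hxN s).mp hs)
    · have h1 : s⁻¹ * x * s⁻¹⁻¹ ∈ D :=
        IsStronglyClosed.conj_mem hD ((S : Subgroup G).inv_mem (hTS hs)) hxD
      have e : s⁻¹ * (x * s * x⁻¹) = (s⁻¹ * x * s⁻¹⁻¹) * x⁻¹ := by group
      rw [e]
      exact D.mul_mem h1 (D.inv_mem hxD)
  have hxL := chainStab_le_LG hUT hTp hNU hC hxA
  obtain ⟨k, hk⟩ := S.isPGroup' ⟨x, hxS⟩
  have hk' : x ^ p ^ k = 1 := by simpa using congrArg Subtype.val hk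
  exact hxT (mem_of_mem_directProduct hprod (KG_coprime _) hxL hk')

/-- the criterion: local `p`-nilpotence at the subgroups of `D` self-centralizing in `D`
implies `p`-nilpotence -/
theorem hasNormalPComplement_of_local (S : Sylow p G) (D : Subgroup G)
    (hD : IsStronglyClosed D (S : Subgroup G))
    (h : ∀ U : Subgroup G, U ≤ D → D ⊓ Subgroup.centralizer (U : Set G) ≤ U →
      HasNormalPComplement p ↥(Subgroup.normalizer (U : Set G))) :
    HasNormalPComplement p G := by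
  rw [hasNormalPComplement_iff_plocalCentral]
  apply plocalCentral_of_sylow S
  intro Q hQS g hg hcop
  have hA : (Q : Set G) ⊆ ((S : Subgroup G) : Set G) := fun a ha => hQS ha
  have hAg : cs g (Q : Set G) ⊆ ((S : Subgroup G) : Set G) := by
    rintro _ ⟨b, hb, rfl⟩
    apply hQS
    exact conj_inv_mem_of_mem_normalizer hg hb
  obtain ⟨c, g', hc, hgc, hv⟩ := alperin_goldschmidt_set S (Q : Set G) g hA hAg
  have key := via_exists_conj (𝓕 := GoldFam S) (S : Subgroup G) ?_ hv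
  · obtain ⟨y, hyS, hy⟩ := key
    obtain ⟨k, hk⟩ := (S.isPGroup' ⟨y, hyS⟩)
    have hk' : y ^ p ^ k = 1 := by simpa using congrArg Subtype.val hk
    apply mem_centralizer_of_conj_eq hg hcop hk'
    intro a ha
    rw [← hy a ha, hgc]
    have h1 := Subgroup.mem_centralizer_iff.mp hc a ha
    calc (c * g')⁻¹ * a * (c * g') = g'⁻¹ * (c⁻¹ * (a * c)) * g' := by group
      _ = g'⁻¹ * (c⁻¹ * (c * a)) * g' := by rw [h1]
      _ = g'⁻¹ * a * g' := by group
  · intro T hT x hx
    have hU := centric_of_goldFam S hD hT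
    have hM := h (T ⊓ D) inf_le_right hU
    have hNM := normalizer_le_of_stronglyClosed hD hT.1
    exact exists_conj_of_isPGroup_automizer (S : Subgroup G) T hT.2.2.2
      (isPGroup_automizer_of_le hM (S.isPGroup'.to_le hT.1) hNM) hx

end Cfsg.Agent.Lib.Helper7.StrongFrob
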