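import Mathlib
import Cfsg.Agent.Lib.Helper7.SubfDefs
import Cfsg.Agent.Lib.Helper7.SubfDefs2
import Cfsg.Agent.Lib.Helper7.Subf_C
import Cfsg.Agent.Lib.Helper3.Subf_H

set_option autoImplicit false
set_option linter.unusedVariables false

/-!
# S5639, PK-G: odd characteristic, no quadratic elements
-/

namespace Cfsg.Agent.Lib.Helper7.Subf

open Matrix

variable {F : Type*} [Field F] {n : ℕ}

open PkB PkC in
theorem odd_case [Fintype F] (h2 : (2 : F) ≠ 0) (hn : 4 ≤ n) (F₀ : Subfield F)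
    (M : Subgroup (GL (Fin n) F)) (hT : HasRatTv F₀ M) (hS : SS F₀ M) (hSL3 : SL3 F₀ M) (hDT : DT M)
    (hQ : ∀ lam : F, lam ^ 2 ∈ F₀ → lam ∈ F₀) :
    ∀ g ∈ M, InN F₀ (g : Matrix (Fin n) (Fin n) F) := by
  intro g hg
  set e0 : Fin n → F := Pi.single (⟨0, by omega⟩ : Fin n) 1 with he0def
  have he0 : Rat F₀ e0 := Rat.single F₀ _ F₀.one_mem
  have he00 : e0 ≠ 0 := by
    intro h0
    have := congrFun h0 (⟨0, by omega⟩ : Fin n)
    rw [he0def, Pi.single_eq_same, Pi.zero_apply] at this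
    exact one_ne_zero this
  have H : ∀ v φ φ' : Fin n → F, Rat F₀ v → Rat F₀ φ → Rat F₀ φ' → φ ⬝ᵥ v = 0 → φ' ⬝ᵥ e0 = 0 →
      (φ ⬝ᵥ ((g : Matrix (Fin n) (Fin n) F) *ᵥ e0)) *
        (φ' ⬝ᵥ (((g⁻¹ : GL (Fin n) F) : Matrix (Fin n) (Fin n) F) *ᵥ v)) ∈ F₀ := by
    intro v φ φ' hv hφ hφ' h1 h1'
    set w : Fin n → F := (g : Matrix (Fin n) (Fin n) F) *ᵥ e0 with hw
    set ψ : Fin n → F := φ' ᵥ* ((g⁻¹ : GL (Fin n) F) : Matrix (Fin n) (Fin n) F) with hψ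
    have hM2 : Mm M (tvm 1 w ψ) := by
      have := (hT e0 φ' he0 hφ' h1').conj hg
      rwa [conj_tvm] at this
    have hinc2 : ψ ⬝ᵥ w = 0 := by
      rw [hψ, hw, ← dotProduct_mulVec, gl_inv_mulVec_mulVec, h1']
    have hψv : φ' ⬝ᵥ (((g⁻¹ : GL (Fin n) F) : Matrix (Fin n) (Fin n) F) *ᵥ v) = ψ ⬝ᵥ v := by
      rw [hψ, dotProduct_mulVec]
    rw [hψv]
    set lam : F := (φ ⬝ᵥ w) * (ψ ⬝ᵥ v) with hlam
    by_cases hl0 : lam = 0
    · rw [hl0]; exact F₀.zero_mem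
    by_cases hl1 : lam ^ 2 = -1
    · exact hQ lam (by rw [hl1]; exact F₀.neg_mem F₀.one_mem)
    have hv0 : v ≠ 0 := by
      intro h0
      apply hl0
      rw [hlam, h0, dotProduct_zero, mul_zero]
    have hφ0 : φ ≠ 0 := by
      intro h0
      apply hl0
      rw [hlam, h0, zero_dotProduct, zero_mul]
    have := hDT v φ w ψ h1 hinc2 (hT v φ hv hφ h1) hM2 hl0 hl1 lam
      (Subfield.subset_closure (Set.mem_singleton _))
    exact hS lam v φ hv hφ hv0 hφ0 h1 this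
  obtain ⟨c, v₂, hc, hv₂, hgv⟩ := rank_one_of_products hn F₀ g e0 he0 he00 H
  have := hSL3 g hg e0 v₂ c he0 hv₂ he00 hc hgv
  exact ⟨c⁻¹, inv_ne_zero hc, this⟩

end Cfsg.Agent.Lib.Helper7.Subf
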