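import Mathlib
import Cfsg.Prelude.Def_GeometricClasses
import Cfsg.Agent.Lib.Helper7.SubfDefs
import Cfsg.Agent.Lib.Helper7.SubfDefs2
import Cfsg.Agent.Lib.Helper1.Subf_A1
import Cfsg.Agent.Lib.Helper1.Subf_A4
import Cfsg.Agent.Lib.Helper5.Subf_A2
import Cfsg.Agent.Lib.Helper5.Subf_A5
import Cfsg.Agent.Lib.Helper3.Subf_N
import Cfsg.Agent.Lib.Helper3.Subf_D
import Cfsg.Agent.Lib.Helper7.Subf_B
import Cfsg.Agent.Lib.Helper7.Subf_C
import Cfsg.Agent.Lib.Helper7.Subf_G
import Cfsg.Agent.Lib.Helper7.Subf_Q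
import Cfsg.Agent.Lib.Helper5.Subf_F
import Cfsg.Agent.Lib.Helper3.Subf_E

set_option autoImplicit false

/-!
# S5639: the dichotomy for subgroups of `GL_n(F)` containing the rational transvections
-/

namespace Cfsg.Agent.Lib.Helper7.Subf

open Matrix

variable {F : Type*} [Field F] {n : ℕ}

/-- a subgroup of `GL_n(F)` containing the rational transvections (w.r.t. a subfield `F₀` of prime degree) contains
`SL_n(F)` or lies in `F^* GL_n(F₀)` -/
theorem main_dichotomy [Fintype F] (hn : 13 ≤ n) (F₀ : Subfield F) (r : ℕ) (hr : r.Prime)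
    (hcard : Fintype.card F = Nat.card F₀ ^ r) (M : Subgroup (GL (Fin n) F)) (hT : HasRatTv F₀ M) :
    Cfsg.Geo.specialLinear (Fin n) F ≤ M ∨ ∀ g ∈ M, InN F₀ (g : Matrix (Fin n) (Fin n) F) := by
  obtain ⟨𝔸, h𝔸, hle⟩ := aa_subfield (by omega) F₀ M hT
  rcases subfield_eq_or_eq_top F₀ 𝔸 hle r hr hcard with h | h
  · right
    have hS : SS F₀ M := by
      intro a v φ hv hφ hv0 hφ0 hinc hM
      have ha : a ∈ AA F₀ M := mem_AA_of_mm (by omega) F₀ M hT a v φ hv hφ hv0 hφ0 hinc hM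
      rw [← h𝔸, h] at ha
      exact ha
    have hRL : RL F₀ M := rank_lemma (by omega) F₀ M hT hS
    have hSL3 : SL3 F₀ M := stab_lemma (by omega) F₀ M hT hRL
    by_cases h2 : (2 : F) = 0
    · exact even_case h2 (by omega) F₀ M hT (no_kill (by omega) F₀ M hT hSL3)
    · by_cases hQ : ∀ lam : F, lam ^ 2 ∈ F₀ → lam ∈ F₀
      · exact odd_case h2 (by omega) F₀ M hT hS hSL3 (dickson_transport h2 M) hQ
      · simp only [not_forall] at hQ
        obtain ⟨lam, hl2, hl⟩ := hQ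
        exact quad_case (by omega) F₀ r hr hcard M hT hRL hSL3 lam hl hl2
  · left
    apply sl_le_of_AA_univ (by omega) F₀ M
    rw [← h𝔸, h]
    rfl

end Cfsg.Agent.Lib.Helper7.Subf
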