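import Mathlib
import Cfsg.Agent.Lib.Helper7.Ito1
import Cfsg.Agent.Lib.Helper8.Fitting
import Cfsg.Agent.Lib.Lead.Core

set_option autoImplicit false

/-!
# A family of solvable groups `N ⋊ T` in which a non-subnormal involution is subnormal in
`⟨a, g⟩` for a representative `g` of every class
-/

namespace Cfsg.Agent.Lib.Helper7.SubnEx

open SemidirectProduct
open scoped Pointwise

variable {N T : Type*} [CommGroup N] [Finite N] [Group T] [Finite T] (φ : T →* MulAut N)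

theorem card_sdp : Nat.card (N ⋊[φ] T) = Nat.card N * Nat.card T := SemidirectProduct.card

instance finite_sdp : Finite (N ⋊[φ] T) :=
  Nat.finite_of_card_ne_zero (by
    rw [card_sdp]
    exact Nat.mul_ne_zero Nat.card_pos.ne' Nat.card_pos.ne')

/-- every element is conjugate to `⟨v₀, t⟩` with `t` fixing `v₀` -/
theorem exists_conj_fixed (hN : Odd (Nat.card N)) (hT : IsPGroup 2 T) (c : N ⋊[φ] T) :
    ∃ (g₀ : N ⋊[φ] T) (v₀ : N) (t : T), g₀ * c * g₀⁻¹ = inl v₀ * inr t ∧ φ t v₀ = v₀ := by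
  classical
  haveI : Fact (Nat.Prime 2) := ⟨Nat.prime_two⟩
  obtain ⟨x, y, hx, hy, hxy, hxo, k, hyo⟩ := Cfsg.Agent.Lib.Helper7.Ito.pdecomp (G := N ⋊[φ] T) 2 c
  -- the Sylow 2-subgroup `range inr`
  set R : Subgroup (N ⋊[φ] T) := (inr : T →* N ⋊[φ] T).range with hR
  have hR2 : IsPGroup 2 R := by
    rintro ⟨_, t, rfl⟩
    obtain ⟨j, hj⟩ := hT t
    refine ⟨j, Subtype.ext ?_⟩
    show (inr t : N ⋊[φ] T) ^ 2 ^ j = 1
    rw [← map_pow, hj, map_one]
  have hRcard : Nat.card R = Nat.card T :=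
    (Nat.card_congr (Equiv.ofInjective _ (inr_injective (φ := φ)))).symm
  have hRidx : R.index = Nat.card N := by
    have h1 := R.card_mul_index
    rw [hRcard, card_sdp, mul_comm] at h1
    exact Nat.eq_of_mul_eq_mul_right Nat.card_pos h1
  have hRnd : ¬ 2 ∣ R.index := by
    rw [hRidx]
    exact fun h => (Nat.not_even_iff_odd.mpr hN) (even_iff_two_dvd.mpr h)
  set PR : Sylow 2 (N ⋊[φ] T) := hR2.toSylow hRnd with hPR
  -- y lies in a Sylow 2-subgroup
  have hyz : IsPGroup 2 (Subgroup.zpowers y) := by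
    apply IsPGroup.of_card (n := k)
    rw [Nat.card_zpowers, hyo]
  obtain ⟨P₁, hP₁⟩ := hyz.exists_le_sylow
  obtain ⟨g, hg⟩ := MulAction.exists_smul_eq (N ⋊[φ] T) P₁ PR
  have hy' : g * y * g⁻¹ ∈ R := by
    have h1 : g * y * g⁻¹ ∈ ((g • P₁ : Sylow 2 (N ⋊[φ] T)) : Subgroup (N ⋊[φ] T)) := by
      rw [Sylow.coe_subgroup_smul]
      exact Subgroup.smul_mem_pointwise_smul _ _ _ (hP₁ (Subgroup.mem_zpowers y))
    rw [hg] at h1
    exact (IsPGroup.mem_toSylow hR2 hRnd).mp h1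
  obtain ⟨t, ht⟩ := hy'
  -- x' has odd order hence lies in the kernel
  have hx' : g * x * g⁻¹ ∈ (rightHom : N ⋊[φ] T →* T).ker := by
    rw [MonoidHom.mem_ker]
    set z := (rightHom : N ⋊[φ] T →* T) (g * x * g⁻¹) with hz
    have h1 : orderOf z ∣ orderOf (g * x * g⁻¹) := orderOf_map_dvd _ _
    have h2 : orderOf (g * x * g⁻¹) = orderOf x := by
      have := (MulAut.conj g).orderOf_eq x
      simpa using this
    obtain ⟨j, hj⟩ := hT z
    have h3 : orderOf z ∣ 2 ^ j := orderOf_dvd_of_pow_eq_one hj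
    have h4 : (orderOf x).Coprime (2 ^ j) := Nat.Coprime.pow_right j hxo
    have h5 : orderOf z ∣ 1 := by
      rw [← h4.gcd_eq_one]
      exact Nat.dvd_gcd (h2 ▸ h1) h3
    exact orderOf_eq_one_iff.mp (Nat.dvd_one.mp h5)
  rw [← range_inl_eq_ker_rightHom] at hx'
  obtain ⟨v₀, hv₀⟩ := hx'
  refine ⟨g, v₀, t, ?_, ?_⟩
  · rw [hv₀, ht, hxy]; group
  · -- x and y commute
    have hcomm : x * y = y * x := by
      obtain ⟨i, rfl⟩ := Subgroup.mem_zpowers_iff.mp hx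
      obtain ⟨j, rfl⟩ := Subgroup.mem_zpowers_iff.mp hy
      rw [← zpow_add, ← zpow_add, add_comm]
    have hcomm' : (inl v₀ : N ⋊[φ] T) * inr t = inr t * inl v₀ := by
      rw [hv₀, ht]
      calc g * x * g⁻¹ * (g * y * g⁻¹) = g * (x * y) * g⁻¹ := by group
        _ = g * (y * x) * g⁻¹ := by rw [hcomm]
        _ = g * y * g⁻¹ * (g * x * g⁻¹) := by group
    have h1 : (inl (φ t v₀) : N ⋊[φ] T) = inl v₀ := by
      rw [inl_aut, ← hcomm', map_inv]
      group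
    exact inl_injective h1

/-- the subgroup of elements `⟨v, t⟩` with `v` a power of `v₁` and `t` fixing `v₁` -/
def fixSub (v₁ : N) : Subgroup (N ⋊[φ] T) where
  carrier := {x | x.left ∈ Subgroup.zpowers v₁ ∧ φ x.right v₁ = v₁}
  one_mem' := ⟨Subgroup.one_mem _, by simp⟩
  mul_mem' := by
    rintro x y ⟨hx1, hx2⟩ ⟨hy1, hy2⟩
    refine ⟨?_, ?_⟩
    · rw [mul_left]
      refine Subgroup.mul_mem _ hx1 ?_
      obtain ⟨j, hj⟩ := Subgroup.mem_zpowers_iff.mp hy1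
      rw [← hj, map_zpow, hx2]
      exact Subgroup.zpow_mem _ (Subgroup.mem_zpowers _) _
    · rw [mul_right, map_mul, MulAut.mul_apply, hy2, hx2]
  inv_mem' := by
    rintro x ⟨hx1, hx2⟩
    have hinv : φ x.right⁻¹ v₁ = v₁ := by
      rw [map_inv]
      exact (MulEquiv.symm_apply_eq _).mpr hx2.symm
    refine ⟨?_, ?_⟩
    · rw [inv_left]
      obtain ⟨j, hj⟩ := Subgroup.mem_zpowers_iff.mp hx1
      rw [← hj, ← zpow_neg, map_zpow, hinv]
      exact Subgroup.zpow_mem _ (Subgroup.mem_zpowers _) _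
    · rw [inv_right]; exact hinv

theorem mem_fixSub {v₁ : N} {x : N ⋊[φ] T} :
    x ∈ fixSub φ v₁ ↔ x.left ∈ Subgroup.zpowers v₁ ∧ φ x.right v₁ = v₁ := Iff.rfl

/-- subgroups of `fixSub` are nilpotent when `T` is a `2`-group -/
theorem isNilpotent_of_le_fixSub (hT : IsPGroup 2 T) (v₁ : N) (L : Subgroup (N ⋊[φ] T))
    (hL : L ≤ fixSub φ v₁) : Group.IsNilpotent ↥L := by
  haveI : Fact (Nat.Prime 2) := ⟨Nat.prime_two⟩
  haveI : Group.IsNilpotent T := hT.isNilpotent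
  apply _root_.isNilpotent_of_ker_le_center ((rightHom : N ⋊[φ] T →* T).comp L.subtype)
  intro x hx
  rw [MonoidHom.mem_ker] at hx
  have hx1 : (x : N ⋊[φ] T).right = 1 := hx
  rw [Subgroup.mem_center_iff]
  intro y
  apply Subtype.ext
  show (y : N ⋊[φ] T) * x = x * y
  have hxK := hL x.2
  have hyK := hL y.2
  rw [mem_fixSub] at hxK hyK
  obtain ⟨j, hj⟩ := Subgroup.mem_zpowers_iff.mp hxK.1
  apply SemidirectProduct.ext
  · rw [mul_left, mul_left, hx1, map_one, MulAut.one_apply, ← hj, map_zpow, hyK.2, mul_comm]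
  · rw [mul_right, mul_right, hx1, mul_one, one_mul]

/-- The main theorem. -/
theorem main (hN : Odd (Nat.card N)) (hT : IsPGroup 2 T) (a : T) (ha : orderOf a = 2)
    (h1 : ∀ v : N, ∃ t : T, φ a (φ t v) = φ t v) (h2 : ∃ v : N, φ a v ≠ v) :
    Group.IsSolvable (N ⋊[φ] T) ∧
      Nat.card (Subgroup.zpowers (inr a : N ⋊[φ] T)) = 2 ∧
      (∀ c : N ⋊[φ] T, ∃ g : N ⋊[φ] T, IsConj c g ∧
        ((Subgroup.zpowers (inr a : N ⋊[φ] T)).subgroupOf
          (Subgroup.zpowers (inr a : N ⋊[φ] T) ⊔ Subgroup.zpowers g)).IsSubnormal) ∧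
      ¬ Subgroup.zpowers (inr a : N ⋊[φ] T) ≤ Cfsg.pCore 2 (N ⋊[φ] T) := by
  classical
  haveI : Fact (Nat.Prime 2) := ⟨Nat.prime_two⟩
  refine ⟨?_, ?_, ?_, ?_⟩
  · haveI : Group.IsNilpotent T := hT.isNilpotent
    haveI : Group.IsSolvable T := IsNilpotent.to_isSolvable
    exact Group.isSolvable_of_ker_le_range (inl : N →* N ⋊[φ] T) (rightHom : N ⋊[φ] T →* T)
      (range_inl_eq_ker_rightHom (φ := φ)).ge
  · rw [Nat.card_zpowers, orderOf_injective (inr : T →* N ⋊[φ] T) inr_injective, ha]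
  · intro c
    obtain ⟨g₀, v₀, t, hc, hfix⟩ := exists_conj_fixed φ hN hT c
    obtain ⟨s, hs⟩ := h1 v₀
    set v₁ := φ s v₀ with hv₁
    set t₁ := s * t * s⁻¹ with ht₁
    have hg : (inr s : N ⋊[φ] T) * (inl v₀ * inr t) * (inr s)⁻¹ = inl v₁ * inr t₁ := by
      rw [hv₁, inl_aut, ht₁, map_mul, map_mul, map_inv]
      group
    refine ⟨inl v₁ * inr t₁, ?_, ?_⟩
    · rw [isConj_iff]
      refine ⟨inr s * g₀, ?_⟩
      rw [← hg, ← hc]
      group
    · set L : Subgroup (N ⋊[φ] T) :=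
        Subgroup.zpowers (inr a : N ⋊[φ] T) ⊔ Subgroup.zpowers (inl v₁ * inr t₁) with hL
      have hLK : L ≤ fixSub φ v₁ := by
        rw [hL, sup_le_iff, Subgroup.zpowers_le, Subgroup.zpowers_le]
        constructor
        · rw [mem_fixSub]
          exact ⟨by rw [left_inr]; exact Subgroup.one_mem _, by rw [right_inr]; exact hs⟩
        · rw [mem_fixSub]
          refine ⟨?_, ?_⟩
          · have : (inl v₁ * inr t₁ : N ⋊[φ] T).left = v₁ := by simp
            rw [this]; exact Subgroup.mem_zpowers _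
          · have : (inl v₁ * inr t₁ : N ⋊[φ] T).right = t₁ := by simp
            rw [this, ht₁, map_mul, map_mul, MulAut.mul_apply, MulAut.mul_apply, hv₁]
            have e1 : φ s⁻¹ (φ s v₀) = v₀ := by
              rw [map_inv]; exact (MulEquiv.symm_apply_eq _).mpr rfl
            rw [e1, hfix]
      haveI : Group.IsNilpotent ↥L := isNilpotent_of_le_fixSub φ hT v₁ L hLK
      exact Cfsg.Agent.Lib.Helper8.isSubnormal_of_isNilpotent _
  · intro hle
    obtain ⟨v, hv⟩ := h2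
    have haQ : (inr a : N ⋊[φ] T) ∈ Cfsg.pCore 2 (N ⋊[φ] T) := hle (Subgroup.mem_zpowers _)
    have hQn : (Cfsg.pCore 2 (N ⋊[φ] T)).Normal := Cfsg.Agent.Lib.Lead.pCore_normal 2
    have hQ2 : IsPGroup 2 (Cfsg.pCore 2 (N ⋊[φ] T)) := Cfsg.Agent.Lib.Lead.pCore_isPGroup 2
    -- the commutator
    have hw : (inl (v * (φ a v)⁻¹) : N ⋊[φ] T) ∈ Cfsg.pCore 2 (N ⋊[φ] T) := by
      have e : (inl (v * (φ a v)⁻¹) : N ⋊[φ] T)
          = (inl v * inr a * (inl v)⁻¹) * (inr a)⁻¹ := by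
        rw [map_mul, map_inv, inl_aut, map_inv]
        group
      rw [e]
      exact Subgroup.mul_mem _ (hQn.conj_mem _ haQ _) (Subgroup.inv_mem _ haQ)
    obtain ⟨j, hj⟩ := hQ2 ⟨_, hw⟩
    have hj' : (inl (v * (φ a v)⁻¹) : N ⋊[φ] T) ^ 2 ^ j = 1 := congrArg Subtype.val hj
    rw [← map_pow] at hj'
    have hj'' : (v * (φ a v)⁻¹) ^ 2 ^ j = 1 := inl_injective (by rw [hj', map_one])
    have h3 : orderOf (v * (φ a v)⁻¹) ∣ 2 ^ j := orderOf_dvd_of_pow_eq_one hj''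
    have h4 : orderOf (v * (φ a v)⁻¹) ∣ Nat.card N := orderOf_dvd_natCard _
    have h5 : (Nat.card N).Coprime (2 ^ j) := Nat.Coprime.pow_right j (Nat.coprime_two_right.mpr hN)
    have h6 : orderOf (v * (φ a v)⁻¹) ∣ 1 := by
      rw [← h5.gcd_eq_one]; exact Nat.dvd_gcd h4 h3
    have h7 : v * (φ a v)⁻¹ = 1 := orderOf_eq_one_iff.mp (Nat.dvd_one.mp h6)
    exact hv (mul_inv_eq_one.mp h7).symm

end Cfsg.Agent.Lib.Helper7.SubnEx
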