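import Mathlib
import Cfsg.Agent.Lib.Helper7.Syl21J

set_option autoImplicit false

/-!
# Fewer than `p²` Sylow `p`-subgroups in a simple group: the Sylow subgroups have order `p`
-/

namespace Cfsg.Agent.Lib.Helper7.SylGen

open Subgroup MulAction
open Cfsg.Agent.Lib.Helper7.Syl35

universe u

variable {G : Type u} [Group G] [Finite G] {p : ℕ} [Fact p.Prime]

/-- any two distinct Sylow `p`-subgroups meet in a subgroup of index `p` when there are at most
`p²` of them -/
theorem relIndex_eq (hn : Nat.card (Sylow p G) ≤ p ^ 2) (Q Q' : Sylow p G) (hne : Q ≠ Q') :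
    (Q' : Subgroup G).relIndex (Q : Subgroup G) = p := by
  have hp : p.Prime := Fact.out
  have hstab : stabilizer (Q : Subgroup G) Q' = (Q' : Subgroup G).subgroupOf (Q : Subgroup G) := by
    ext x
    rw [mem_stabilizer_iff, mem_subgroupOf]
    have h1 : x • Q' = (x : G) • Q' := rfl
    rw [h1, Sylow.smul_eq_iff_mem_normalizer]
    have h2 := IsPGroup.inf_normalizer_sylow Q.2 Q'
    constructor
    · intro hx
      exact (h2.le ⟨x.2, hx⟩).2
    · intro hx
      exact le_normalizer hx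
  have hidx : (Q' : Subgroup G).relIndex (Q : Subgroup G) =
      (orbit (Q : Subgroup G) Q').ncard := by
    rw [← index_stabilizer, hstab]; rfl
  obtain ⟨k, hk⟩ := IsPGroup.index Q.2 ((Q' : Subgroup G).subgroupOf (Q : Subgroup G))
  have hk' : (Q' : Subgroup G).relIndex (Q : Subgroup G) = p ^ k := hk
  have hk0 : k ≠ 0 := by
    intro h0
    rw [h0, pow_zero, relIndex_eq_one] at hk'
    exact hne (Sylow.ext (Q.3 Q'.2 hk')).symm
  have hle : (orbit (Q : Subgroup G) Q').ncard < p ^ 2 := by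
    have hsub : orbit (Q : Subgroup G) Q' ⊆ {Q}ᶜ := by
      rintro _ ⟨x, rfl⟩ hmem
      have h1 : x • Q' = Q := hmem
      have h2 : Q' = x⁻¹ • Q := by rw [eq_inv_smul_iff]; exact h1
      have h3 : x⁻¹ • Q = Q := sylow_smul_self Q (x⁻¹).2
      exact hne (h2.trans h3).symm
    have h1 : (orbit (Q : Subgroup G) Q').ncard ≤ ({Q}ᶜ : Set (Sylow p G)).ncard :=
      Set.ncard_le_ncard hsub (Set.toFinite _)
    have h2 : ({Q}ᶜ : Set (Sylow p G)).ncard = Nat.card (Sylow p G) - 1 := by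
      rw [Set.ncard_compl, Set.ncard_singleton]
    have h3 : 0 < Nat.card (Sylow p G) := Nat.card_pos
    omega
  rw [hidx] at hk'
  rw [hidx, hk']
  rcases Nat.lt_or_ge k 2 with h2 | h2
  · have : k = 1 := by omega
    rw [this, pow_one]
  · exfalso
    have : p ^ 2 ≤ p ^ k := Nat.pow_le_pow_right hp.pos h2
    omega

/-- consequently `|Q ∩ Q'| * p = |Q|` -/
theorem card_inf_mul (hn : Nat.card (Sylow p G) ≤ p ^ 2) (Q Q' : Sylow p G) (hne : Q ≠ Q') :
    Nat.card ((Q : Subgroup G) ⊓ Q' : Subgroup G) * p = Nat.card Q := by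
  have h1 := card_inf_mul_relIndex (Q' : Subgroup G) (Q : Subgroup G)
  rw [relIndex_eq hn Q Q' hne, inf_comm] at h1
  exact h1

/-- the intersection of two distinct Sylow subgroups is normal in each -/
theorem le_normalizer_inf (hn : Nat.card (Sylow p G) ≤ p ^ 2) (Q1 Q2 : Sylow p G) (hne : Q1 ≠ Q2) :
    (Q1 : Subgroup G) ≤ normalizer (((Q1 : Subgroup G) ⊓ Q2 : Subgroup G) : Set G) := by
  have hp : p.Prime := Fact.out
  rw [← normal_subgroupOf_iff_le_normalizer inf_le_left]
  apply normal_of_index_eq_minFac_card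
  have h1 : (((Q1 : Subgroup G) ⊓ Q2).subgroupOf (Q1 : Subgroup G)).index = p := by
    have := relIndex_eq hn Q1 Q2 hne
    rw [← inf_relIndex_right, inf_comm] at this
    exact this
  rw [h1]
  obtain ⟨k, hk⟩ := Q1.2.exists_card_eq
  have hk0 : k ≠ 0 := by
    intro h0
    have h2 := card_inf_mul hn Q1 Q2 hne
    rw [hk, h0, pow_zero] at h2
    have : p ∣ 1 := Dvd.intro_left _ h2
    exact hp.one_lt.ne' (Nat.dvd_one.mp this)
  rw [hk, Nat.Prime.pow_minFac hp hk0]

/-- the number of Sylow subgroups containing the intersection of two distinct ones -/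
theorem card_ge_inf (hsimp : ∀ M : Subgroup G, M.Normal → M = ⊥ ∨ M = ⊤)
    (hn : Nat.card (Sylow p G) ≤ p ^ 2) (Q1 Q2 : Sylow p G) (hne : Q1 ≠ Q2)
    (hbig : p ^ 2 ∣ Nat.card Q1) :
    p + 1 ≤ Nat.card {Q : Sylow p G | (Q1 : Subgroup G) ⊓ Q2 ≤ (Q : Subgroup G)} ∧
    Nat.card {Q : Sylow p G | (Q1 : Subgroup G) ⊓ Q2 ≤ (Q : Subgroup G)} <
      Nat.card (Sylow p G) := by
  have hp : p.Prime := Fact.out
  set D : Subgroup G := (Q1 : Subgroup G) ⊓ Q2 with hD
  have hcard := card_inf_mul hn Q1 Q2 hne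
  have hDn := le_normalizer_inf hn Q1 Q2 hne
  have hmod := card_ge_modEq Q1 D inf_le_left hDn
  set c := Nat.card {Q : Sylow p G | D ≤ (Q : Subgroup G)} with hc
  have hle : c ≤ Nat.card (Sylow p G) :=
    Nat.card_le_card_of_injective (fun Q => (Q : Sylow p G)) Subtype.val_injective
  have hge : 2 ≤ c := by
    have : Fintype {Q : Sylow p G | D ≤ (Q : Subgroup G)} := Fintype.ofFinite _
    rw [hc, Nat.card_eq_fintype_card]
    have h1 : (⟨Q1, (show D ≤ (Q1 : Subgroup G) from inf_le_left)⟩ :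
        {Q : Sylow p G | D ≤ (Q : Subgroup G)}) ≠
        ⟨Q2, (show D ≤ (Q2 : Subgroup G) from inf_le_right)⟩ := by
      intro h; exact hne (congrArg Subtype.val h)
    exact Fintype.one_lt_card_iff.mpr ⟨_, _, h1⟩
  have hn1 : Nat.card (Sylow p G) ≠ 1 := by
    intro h
    have : Subsingleton (Sylow p G) := (Nat.card_eq_one_iff_unique.mp h).1
    exact hne (Subsingleton.elim _ _)
  have hnen : c ≠ Nat.card (Sylow p G) := by
    intro h
    have hall : ∀ Q : Sylow p G, D ≤ (Q : Subgroup G) := by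
      intro Q
      have hbij : Function.Bijective
          (Subtype.val : {Q : Sylow p G | D ≤ (Q : Subgroup G)} → Sylow p G) :=
        Function.Injective.bijective_of_nat_card_le Subtype.val_injective
          (by rw [← hc, h])
      obtain ⟨⟨Q', hQ'⟩, rfl⟩ := hbij.2 Q
      exact hQ'
    have hD1 : D ≠ ⊥ := by
      intro h0
      rw [hD] at h0
      rw [h0, card_bot, one_mul] at hcard
      rw [← hcard] at hbig
      have h2 : p * p ∣ p * 1 := by rw [mul_one, ← sq]; exact hbig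
      have := Nat.dvd_of_mul_dvd_mul_left hp.pos h2
      exact hp.one_lt.ne' (Nat.dvd_one.mp this)
    exact false_of_le_all hsimp hn1 D hD1 hall
  refine ⟨?_, lt_of_le_of_ne hle hnen⟩
  -- c ≡ 1 mod p and c ≥ 2
  have h1 : p ∣ c - 1 := (Nat.modEq_iff_dvd' (by omega)).mp hmod.symm
  have h2 : p ≤ c - 1 := Nat.le_of_dvd (by omega) h1
  omega

/-- two Sylow subgroups containing the intersection `D` of two others meet exactly in `D` -/
theorem inf_eq_of_le (hn : Nat.card (Sylow p G) ≤ p ^ 2) (Q1 Q2 R R' : Sylow p G)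
    (hne : Q1 ≠ Q2) (hRR : R ≠ R')
    (hR : (Q1 : Subgroup G) ⊓ Q2 ≤ (R : Subgroup G))
    (hR' : (Q1 : Subgroup G) ⊓ Q2 ≤ (R' : Subgroup G)) :
    (R : Subgroup G) ⊓ R' = (Q1 : Subgroup G) ⊓ Q2 := by
  have hp : p.Prime := Fact.out
  symm
  apply eq_of_le_of_card_ge (le_inf hR hR')
  have c1 := card_inf_mul hn Q1 Q2 hne
  have c2 := card_inf_mul hn R R' hRR
  rw [sylow_card_eq R Q1] at c2
  have : Nat.card ((R : Subgroup G) ⊓ R' : Subgroup G) * p =
      Nat.card ((Q1 : Subgroup G) ⊓ Q2 : Subgroup G) * p := by rw [c1, c2]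
  exact (Nat.eq_of_mul_eq_mul_right hp.pos this).le

end Cfsg.Agent.Lib.Helper7.SylGen
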