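import Mathlib
import Cfsg.Agent.Lib.Helper7.SylGenA

set_option autoImplicit false

/-!
# Fewer than `p²` Sylow `p`-subgroups in a simple group: the Sylow subgroups have order `p`
-/

namespace Cfsg.Agent.Lib.Helper7.SylGen

open Subgroup MulAction
open Cfsg.Agent.Lib.Helper7.Syl35

universe u

variable {G : Type u} [Group G] [Finite G] {p : ℕ} [Fact p.Prime]

/-- Sylow `p`-subgroups of order at least `p²` are impossible in a simple group with at most `p²`
(and more than one) of them -/
theorem false_of_big (hsimp : ∀ M : Subgroup G, M.Normal → M = ⊥ ∨ M = ⊤)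
    (hn : Nat.card (Sylow p G) ≤ p ^ 2) (hn1 : Nat.card (Sylow p G) ≠ 1)
    (P : Sylow p G) (hbig : p ^ 2 ∣ Nat.card P) : False := by
  classical
  have hp : p.Prime := Fact.out
  haveI : Fintype (Sylow p G) := Fintype.ofFinite _
  have hU : (Finset.univ : Finset (Sylow p G)).card = Nat.card (Sylow p G) := by
    rw [Finset.card_univ, ← Nat.card_eq_fintype_card]
  have hbigQ : ∀ Q : Sylow p G, p ^ 2 ∣ Nat.card Q := by
    intro Q; rw [sylow_card_eq Q P]; exact hbig
  obtain ⟨Q1, Q2, hne⟩ : ∃ Q1 Q2 : Sylow p G, Q1 ≠ Q2 := by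
    have : 1 < Fintype.card (Sylow p G) := by
      rw [← Nat.card_eq_fintype_card]
      have : 0 < Nat.card (Sylow p G) := Nat.card_pos
      omega
    exact Fintype.one_lt_card_iff.mp this
  set D : Subgroup G := (Q1 : Subgroup G) ⊓ Q2 with hD
  set T : Finset (Sylow p G) := Finset.univ.filter (fun Q => D ≤ (Q : Subgroup G)) with hT
  have hTc := card_ge_inf hsimp hn Q1 Q2 hne (hbigQ Q1)
  have hTcard : T.card = Nat.card {Q : Sylow p G | D ≤ (Q : Subgroup G)} := by
    rw [hT, Nat.card_eq_fintype_card]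
    exact (Fintype.card_subtype _).symm
  rw [← hTcard] at hTc
  obtain ⟨X, hX⟩ : ∃ X : Sylow p G, X ∉ T := by
    by_contra hcon
    push Not at hcon
    have : T = Finset.univ := Finset.eq_univ_iff_forall.mpr hcon
    rw [this, hU] at hTc
    omega
  have hXD : ¬ D ≤ (X : Subgroup G) := by
    intro h
    apply hX
    rw [hT, Finset.mem_filter]
    exact ⟨Finset.mem_univ _, h⟩
  let Φ : Sylow p G → Subgroup G := fun Y => (X : Subgroup G) ⊓ Y
  set U : Finset (Sylow p G) := Finset.univ.erase X with hUe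
  have hUcard : U.card = Nat.card (Sylow p G) - 1 := by
    rw [hUe, Finset.card_erase_of_mem (Finset.mem_univ _), hU]
  have hTU : T ⊆ U := by
    intro R hR
    rw [hUe, Finset.mem_erase]
    refine ⟨?_, Finset.mem_univ _⟩
    rintro rfl
    exact hX hR
  have hTmem : ∀ R ∈ T, D ≤ (R : Subgroup G) := by
    intro R hR
    rw [hT, Finset.mem_filter] at hR
    exact hR.2
  have hinj : Set.InjOn Φ (T : Set (Sylow p G)) := by
    intro R hR R' hR' hΦ
    by_contra hRR
    have hΦ' : (X : Subgroup G) ⊓ R = (X : Subgroup G) ⊓ R' := hΦ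
    have hRX : R ≠ X := by rintro rfl; exact hX hR
    have h1 := inf_eq_of_le hn Q1 Q2 R R' hne hRR (hTmem R hR) (hTmem R' hR')
    have h2 : (X : Subgroup G) ⊓ R ≤ D := by
      rw [hD, ← h1]
      apply le_inf inf_le_right
      rw [hΦ']; exact inf_le_right
    have h3 : (X : Subgroup G) ⊓ R = D := by
      apply eq_of_le_of_card_ge h2
      have c1 : Nat.card D * p = Nat.card Q1 := card_inf_mul hn Q1 Q2 hne
      have c2 := card_inf_mul hn X R (Ne.symm hRX)
      rw [sylow_card_eq X Q1] at c2
      have : Nat.card D * p = Nat.card ((X : Subgroup G) ⊓ R : Subgroup G) * p := by rw [c1, c2]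
      exact (Nat.eq_of_mul_eq_mul_right hp.pos this).le
    apply hXD
    rw [← h3]; exact inf_le_left
  have hfib : ∀ E ∈ T.image Φ, p ≤ (U.filter (fun Y => Φ Y = E)).card := by
    intro E hE
    obtain ⟨R, hR, rfl⟩ := Finset.mem_image.mp hE
    have hRX : R ≠ X := by rintro rfl; exact hX hR
    have hnX := le_normalizer_inf hn X R (Ne.symm hRX)
    have hmod := card_ge_modEq X ((X : Subgroup G) ⊓ R) inf_le_left hnX
    set A : Finset (Sylow p G) :=
      Finset.univ.filter (fun Y => (X : Subgroup G) ⊓ R ≤ (Y : Subgroup G)) with hA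
    have hAcard : A.card = Nat.card {Y : Sylow p G | (X : Subgroup G) ⊓ R ≤ (Y : Subgroup G)} := by
      rw [hA, Nat.card_eq_fintype_card]
      exact (Fintype.card_subtype _).symm
    rw [← hAcard] at hmod
    have hXA : X ∈ A := by
      rw [hA, Finset.mem_filter]; exact ⟨Finset.mem_univ _, inf_le_left⟩
    have hRA : R ∈ A := by
      rw [hA, Finset.mem_filter]; exact ⟨Finset.mem_univ _, inf_le_right⟩
    have h2 : 2 ≤ A.card := by
      have : ({X, R} : Finset (Sylow p G)) ⊆ A := by
        intro Y hY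
        rw [Finset.mem_insert, Finset.mem_singleton] at hY
        rcases hY with rfl | rfl
        · exact hXA
        · exact hRA
      have h3 := Finset.card_le_card this
      rw [Finset.card_pair (Ne.symm hRX)] at h3
      exact h3
    have h6 : p + 1 ≤ A.card := by
      have h1 : p ∣ A.card - 1 := (Nat.modEq_iff_dvd' (by omega)).mp hmod.symm
      have h3 : p ≤ A.card - 1 := Nat.le_of_dvd (by omega) h1
      omega
    have hsub : A.erase X ⊆ U.filter (fun Y => Φ Y = Φ R) := by
      intro Y hY
      rw [Finset.mem_erase] at hY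
      obtain ⟨hYX, hYA⟩ := hY
      rw [hA, Finset.mem_filter] at hYA
      rw [Finset.mem_filter, hUe, Finset.mem_erase]
      refine ⟨⟨hYX, Finset.mem_univ _⟩, ?_⟩
      show (X : Subgroup G) ⊓ Y = (X : Subgroup G) ⊓ R
      symm
      apply eq_of_le_of_card_ge (le_inf inf_le_left hYA.2)
      have c1 := card_inf_mul hn X R (Ne.symm hRX)
      have c2 := card_inf_mul hn X Y (Ne.symm hYX)
      have : Nat.card ((X : Subgroup G) ⊓ Y : Subgroup G) * p =
          Nat.card ((X : Subgroup G) ⊓ R : Subgroup G) * p := by rw [c1, c2]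
      exact (Nat.eq_of_mul_eq_mul_right hp.pos this).le
    have h7 := Finset.card_le_card hsub
    rw [Finset.card_erase_of_mem hXA] at h7
    omega
  have hsum := Finset.card_eq_sum_card_image Φ U
  have himg : T.image Φ ⊆ U.image Φ := Finset.image_subset_image hTU
  have h1 : ∑ E ∈ T.image Φ, (U.filter (fun Y => Φ Y = E)).card ≤
      ∑ E ∈ U.image Φ, (U.filter (fun Y => Φ Y = E)).card :=
    Finset.sum_le_sum_of_subset himg
  have h2 : (T.image Φ).card • p ≤ ∑ E ∈ T.image Φ, (U.filter (fun Y => Φ Y = E)).card :=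
    Finset.card_nsmul_le_sum _ _ _ hfib
  have h3 : (T.image Φ).card = T.card := Finset.card_image_of_injOn hinj
  rw [h3, smul_eq_mul] at h2
  rw [← hsum, hUcard] at h1
  have h4 : (p + 1) * p ≤ T.card * p := Nat.mul_le_mul_right p hTc.1
  have h5 : (p + 1) * p = p ^ 2 + p := by ring
  have h6 : 0 < p := hp.pos
  omega

end Cfsg.Agent.Lib.Helper7.SylGen
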