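import Mathlib
import Cfsg.Agent.Lib.Helper7.SylGenB

set_option autoImplicit false

/-!
# A minimal group with `n` Sylow `p`-subgroups has no proper nontrivial normal subgroup
(for suitable `n`)
-/

namespace Cfsg.Agent.Lib.Helper7.SylGen

open Subgroup
open Cfsg.Agent.Lib.Helper7.Syl35

universe u

variable {G : Type u} [Group G] [Finite G] {p : ℕ} [Fact p.Prime]

theorem card_sylow_one_or {n : ℕ} {H : Type u} [Group H] [Finite H]
    (hdiv : ∀ d : ℕ, d ∣ n → d ≡ 1 [MOD p] → d = 1 ∨ d = n)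
    (IH : Nat.card (Sylow p H) ≠ n) (hd : Nat.card (Sylow p H) ∣ n) :
    Nat.card (Sylow p H) = 1 := by
  rcases hdiv _ hd (card_sylow_modEq_one p H) with h | h
  · exact h
  · exact absurd h IH

theorem normal_facts {n : ℕ}
    (hdiv : ∀ d : ℕ, d ∣ n → d ≡ 1 [MOD p] → d = 1 ∨ d = n)
    (IH : ∀ (H : Type u) [Group H] [Finite H], Nat.card H < Nat.card G →
      Nat.card (Sylow p H) ≠ n)
    (hn : Nat.card (Sylow p G) = n) (M : Subgroup G) [M.Normal] (hM1 : M ≠ ⊥) (hM2 : M ≠ ⊤) :
    (¬ p ∣ Nat.card M) ∧ ∀ P : Sylow p G, (P : Subgroup G) ⊔ M = ⊤ := by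
  constructor
  · obtain ⟨R⟩ : Nonempty (Sylow p M) := inferInstance
    have hd : Nat.card (Sylow p M) ∣ n := hn ▸ card_sylow_normal_dvd M
    have h1 : Nat.card (Sylow p M) = 1 :=
      card_sylow_one_or hdiv (IH M (card_subgroup_lt M hM2)) hd
    set D : Subgroup G := (R : Subgroup M).map M.subtype with hD
    have hDn : D.Normal := by
      have := card_sylow_normal M R
      rw [h1] at this
      exact normalizer_eq_top_iff.mp (index_eq_one.mp this.symm)
    have hDbot : D = ⊥ := by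
      by_contra hne
      have hDp : IsPGroup p D := R.2.map M.subtype
      obtain ⟨P, hDP⟩ := hDp.exists_le_sylow
      have h2 := card_sylow_quotient_eq D P hDP
      rw [hn] at h2
      exact IH (G ⧸ D) (card_quotient_lt D hne) h2
    have hRbot : (R : Subgroup M) = ⊥ :=
      (map_eq_bot_iff_of_injective _ M.subtype_injective).mp hDbot
    intro hdvd
    exact R.ne_bot_of_dvd_card hdvd hRbot
  · intro P
    have hd : Nat.card (Sylow p (G ⧸ M)) ∣ n := hn ▸ card_sylow_quotient_dvd M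
    have h1 : Nat.card (Sylow p (G ⧸ M)) = 1 :=
      card_sylow_one_or hdiv (IH (G ⧸ M) (card_quotient_lt M hM1)) hd
    haveI hnorm : ((P : Subgroup G) ⊔ M).Normal :=
      sup_normal_of_card_sylow_quotient_eq_one M P h1
    by_contra hne
    have h2 := card_sylow_normal_eq ((P : Subgroup G) ⊔ M) P le_sup_left
    rw [hn] at h2
    exact IH _ (card_subgroup_lt _ hne) h2

/-- `G = MP` with `M` a normal `p'`-group is impossible when the number `n` of Sylow
`p`-subgroups has a prime divisor `r` with `n < r²` and `r` not `1` modulo `p` -/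
theorem false_of_split {n r : ℕ} (hr : r.Prime) (hrn : r ∣ n) (hnr : n < r ^ 2) (hpr : p ≠ r)
    (hrp : ¬ p ∣ r - 1)
    (hn : Nat.card (Sylow p G) = n) (M : Subgroup G) [hMn : M.Normal]
    (hpM : ¬ p ∣ Nat.card M) (hsup : ∀ P : Sylow p G, (P : Subgroup G) ⊔ M = ⊤) : False := by
  have hp : p.Prime := Fact.out
  haveI : Fact r.Prime := ⟨hr⟩
  obtain ⟨Rr⟩ : Nonempty (Sylow r M) := inferInstance
  set R' : Subgroup G := (Rr : Subgroup M).map M.subtype with hR'
  have hR'M : R' ≤ M := map_subtype_le _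
  have hfr := Sylow.normalizer_sup_eq_top Rr
  have hidx : ¬ p ∣ (normalizer (R' : Set G)).index := by
    rw [index_eq_relIndex_of_sup_eq_top _ M hfr]
    intro h
    exact hpM (h.trans (relIndex_dvd_card _ _))
  obtain ⟨P, hPN⟩ := exists_sylow_le_of_not_dvd_index _ hidx
  have hPM := hsup P
  set NP : Subgroup G := normalizer ((P : Subgroup G) : Set G) with hNP
  have hNPM : NP ⊔ M = ⊤ := by
    rw [eq_top_iff, ← hPM]
    exact sup_le_sup_right le_normalizer M
  have hrel : NP.relIndex M = n := by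
    rw [← index_eq_relIndex_of_sup_eq_top NP M hNPM, ← hn, P.card_eq_index_normalizer]
    rfl
  have hn0 : 0 < n := by
    rw [← hn]; exact Nat.card_pos
  have hPMbot : (P : Subgroup G) ⊓ M = ⊥ := by
    have hpg : IsPGroup p ((P : Subgroup G) ⊓ M : Subgroup G) := P.2.to_le inf_le_left
    obtain ⟨k, hk⟩ := hpg.exists_card_eq
    have hdvd : p ^ k ∣ Nat.card M := hk ▸ card_dvd_of_le inf_le_right
    rcases Nat.eq_zero_or_pos k with h0 | h0
    · rw [h0, pow_zero] at hk
      exact card_eq_one.mp hk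
    · exact absurd ((dvd_pow_self p h0.ne').trans hdvd) hpM
  have hcent : M ⊓ NP ≤ centralizer ((P : Subgroup G) : Set G) := by
    rintro s ⟨hsM, hsN⟩
    rw [mem_centralizer_iff]
    intro x hx
    have hx' : x ∈ (P : Subgroup G) := hx
    have h1 : s * x * s⁻¹ ∈ (P : Subgroup G) := (mem_normalizer_iff.mp hsN x).mp hx'
    have h2 : s * x * s⁻¹ * x⁻¹ ∈ (P : Subgroup G) ⊓ M := by
      refine ⟨(P : Subgroup G).mul_mem h1 ((P : Subgroup G).inv_mem hx'), ?_⟩
      have h3 : x * s⁻¹ * x⁻¹ ∈ M := hMn.conj_mem _ (M.inv_mem hsM) x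
      have e : s * x * s⁻¹ * x⁻¹ = s * (x * s⁻¹ * x⁻¹) := by group
      rw [e]; exact M.mul_mem hsM h3
    rw [hPMbot, mem_bot] at h2
    calc x * s = (s * x * s⁻¹ * x⁻¹)⁻¹ * (s * x) := by group
      _ = s * x := by rw [h2, inv_one, one_mul]
  set F : Subgroup G := R' ⊓ centralizer ((P : Subgroup G) : Set G) with hF
  have hmod := card_modEq_card_inf_centralizer (P : Subgroup G) R' P.2 hPN
  obtain ⟨e, he⟩ := Rr.2.exists_card_eq
  have hcR' : Nat.card R' = r ^ e := by
    rw [hR', card_map_of_injective M.subtype_injective]; exact he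
  have hpR' : IsPGroup r R' := Rr.2.map M.subtype
  have hpF : IsPGroup r F := hpR'.to_le inf_le_left
  obtain ⟨j, hj⟩ := hpF.exists_card_eq
  have hje : j ≤ e := by
    have : r ^ j ∣ r ^ e := by rw [← hj, ← hcR']; exact card_dvd_of_le inf_le_left
    exact (Nat.pow_dvd_pow_iff_le_right hr.one_lt).mp this
  set C : Subgroup G := NP ⊓ M with hC
  have hCcard : Nat.card C * n = Nat.card M := by
    rw [← hrel]; exact card_inf_mul_relIndex NP M
  rcases Nat.lt_or_ge j e with hlt | hge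
  · have h1 : NP.relIndex R' ≤ NP.relIndex M :=
      relIndex_le_of_le_right hR'M (by rw [hrel]; exact hn0.ne')
    have h2 : Nat.card (NP ⊓ R' : Subgroup G) * NP.relIndex R' = Nat.card R' :=
      card_inf_mul_relIndex NP R'
    have h3 : Nat.card (NP ⊓ R' : Subgroup G) ≤ Nat.card F := by
      apply Nat.card_le_card_of_injective (Subgroup.inclusion _) (Subgroup.inclusion_injective _)
      rintro x ⟨hxN, hxR⟩
      exact ⟨hxR, hcent ⟨hR'M hxR, hxN⟩⟩
    rw [hrel] at h1
    rw [hcR'] at h2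
    rw [hj] at h3
    have h4 : r ^ e ≤ r ^ j * n := by
      calc r ^ e = Nat.card (NP ⊓ R' : Subgroup G) * NP.relIndex R' := h2.symm
        _ ≤ r ^ j * n := Nat.mul_le_mul h3 h1
    have h9 : 0 < r ^ j := Nat.pow_pos hr.pos
    have h5 : e = j + 1 := by
      by_contra hne
      have h6 : j + 2 ≤ e := by omega
      have h7 : r ^ (j + 2) ≤ r ^ e := Nat.pow_le_pow_right hr.pos h6
      have h8 : r ^ (j + 2) = r ^ j * r ^ 2 := by ring
      have h10 : r ^ j * n < r ^ j * r ^ 2 := Nat.mul_lt_mul_of_pos_left hnr h9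
      omega
    rw [hcR', hj, h5] at hmod
    have h6 : p ∣ r ^ (j + 1) - r ^ j :=
      (Nat.modEq_iff_dvd' (Nat.pow_le_pow_right hr.pos (Nat.le_succ j))).mp hmod.symm
    have h7 : r ^ (j + 1) - r ^ j = r ^ j * (r - 1) := by
      rw [pow_succ, Nat.mul_sub, mul_one]
    rw [h7] at h6
    rcases (Nat.Prime.dvd_mul hp).mp h6 with h8 | h8
    · have := Nat.Prime.dvd_of_dvd_pow hp h8
      exact hpr ((Nat.prime_dvd_prime_iff_eq hp hr).mp this)
    · exact hrp h8
  · have hje' : j = e := le_antisymm hje hge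
    have hFR : F = R' := by
      apply eq_of_le_of_card_ge inf_le_left
      rw [hj, hcR', hje']
    have hR'C : R' ≤ C := by
      intro x hx
      have hxF : x ∈ F := hFR ▸ hx
      exact ⟨(centralizer_le_normalizer ((P : Subgroup G) : Set G)) hxF.2, hR'M hx⟩
    have h1 : r ^ e ∣ Nat.card C := hcR' ▸ card_dvd_of_le hR'C
    have h2 : r ^ (e + 1) ∣ Nat.card M := by
      rw [← hCcard, pow_succ]
      exact Nat.mul_dvd_mul h1 hrn
    have h3 := Rr.pow_dvd_card_of_pow_dvd_card h2
    rw [he] at h3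
    have := (Nat.pow_dvd_pow_iff_le_right hr.one_lt).mp h3
    omega

/-- a minimal counterexample has no proper nontrivial normal subgroup -/
theorem false_of_normal {n r : ℕ}
    (hdiv : ∀ d : ℕ, d ∣ n → d ≡ 1 [MOD p] → d = 1 ∨ d = n)
    (hr : r.Prime) (hrn : r ∣ n) (hnr : n < r ^ 2) (hpr : p ≠ r) (hrp : ¬ p ∣ r - 1)
    (IH : ∀ (H : Type u) [Group H] [Finite H], Nat.card H < Nat.card G →
      Nat.card (Sylow p H) ≠ n)
    (hn : Nat.card (Sylow p G) = n) (M : Subgroup G) [M.Normal] (hM1 : M ≠ ⊥) (hM2 : M ≠ ⊤) :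
    False := by
  obtain ⟨h1, h2⟩ := normal_facts hdiv IH hn M hM1 hM2
  exact false_of_split hr hrn hnr hpr hrp hn M h1 h2

end Cfsg.Agent.Lib.Helper7.SylGen
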