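import Mathlib
import Cfsg.Agent.Lib.Helper7.SylGenC

set_option autoImplicit false

/-!
# Fixed point counts on the Sylow `p`-subgroups of a simple group; Burnside-type lemmas
-/

namespace Cfsg.Agent.Lib.Helper7.SylGen

open Subgroup MulAction
open Cfsg.Agent.Lib.Helper7.Syl35
open scoped Pointwise

universe u

variable {G : Type u} [Group G] [Finite G]

/-- the number of Sylow `p`-subgroups normalized by `g` -/
noncomputable def fxp (p : ℕ) (g : G) : ℕ := Nat.card {Q : Sylow p G | g • Q = Q}

theorem fxp_le (p : ℕ) (g : G) : fxp p g ≤ Nat.card (Sylow p G) :=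
  Nat.card_le_card_of_injective (fun Q => (Q : Sylow p G)) Subtype.val_injective

/-- an even involution: the number of moved points is divisible by 4 -/
theorem card_moved_mod_four {α : Type*} [Fintype α] [DecidableEq α] (σ : Equiv.Perm α)
    (h2 : orderOf σ = 2) (hs : Equiv.Perm.sign σ = 1) :
    ∃ m : ℕ, Fintype.card (Function.fixedPoints σ) + 4 * m = Fintype.card α := by
  have hpr : (orderOf σ).Prime := by rw [h2]; exact Nat.prime_two
  obtain ⟨n, hn⟩ := Equiv.Perm.cycleType_prime_order hpr
  have h3 := Equiv.Perm.card_fixedPoints σ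
  rw [hn, h2, Multiset.sum_replicate, smul_eq_mul] at h3
  rw [Equiv.Perm.sign_of_cycleType, hn, h2, Multiset.sum_replicate, Multiset.card_replicate,
    smul_eq_mul] at hs
  have hle : (n + 1) * 2 ≤ Fintype.card α := by
    have := Equiv.Perm.sum_cycleType_le σ
    rw [hn, h2, Multiset.sum_replicate, smul_eq_mul] at this
    exact this
  have heven : Even ((n + 1) * 2 + (n + 1)) := by
    by_contra hodd
    rw [Nat.not_even_iff_odd] at hodd
    rw [Odd.neg_one_pow hodd] at hs
    exact absurd hs (by decide)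
  obtain ⟨m, hm⟩ := heven
  obtain ⟨k, hk⟩ : ∃ k, n + 1 = 2 * k := by
    have : Even (n + 1) := by
      rcases Nat.even_or_odd (n + 1) with h | h
      · exact h
      · exfalso
        obtain ⟨c, hc⟩ := h
        omega
    obtain ⟨k, hk⟩ := this
    exact ⟨k, by omega⟩
  refine ⟨k, ?_⟩
  omega

/-- in a simple group with at least 3 Sylow `p`-subgroups every element acts evenly -/
theorem sign_eq_one {p : ℕ} [Fact p.Prime] (hsimp : ∀ M : Subgroup G, M.Normal → M = ⊥ ∨ M = ⊤)
    (hn : 3 ≤ Nat.card (Sylow p G)) [Fintype (Sylow p G)] [DecidableEq (Sylow p G)] (g : G) :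
    Equiv.Perm.sign (MulAction.toPerm g : Equiv.Perm (Sylow p G)) = 1 := by
  let ε : G →* ℤˣ := Equiv.Perm.sign.comp (MulAction.toPermHom G (Sylow p G))
  rcases hsimp ε.ker inferInstance with h | h
  · exfalso
    have hinj : Function.Injective ε := (MonoidHom.ker_eq_bot_iff ε).mp h
    have h2 : Nat.card G ≤ Nat.card ℤˣ := Nat.card_le_card_of_injective ε hinj
    have h3 : Nat.card ℤˣ = 2 := by
      rw [Nat.card_eq_fintype_card]; rfl
    obtain ⟨P⟩ : Nonempty (Sylow p G) := inferInstance
    have h4 : Nat.card (Sylow p G) ∣ Nat.card G :=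
      (P.card_dvd_index).trans (index_dvd_card _)
    have h5 : Nat.card (Sylow p G) ≤ Nat.card G := Nat.le_of_dvd Nat.card_pos h4
    omega
  · have : g ∈ ε.ker := by rw [h]; exact mem_top g
    rw [MonoidHom.mem_ker] at this
    exact this

/-- involutions move a multiple of 4 Sylow subgroups -/
theorem fxp_involution {p : ℕ} [Fact p.Prime]
    (hsimp : ∀ M : Subgroup G, M.Normal → M = ⊥ ∨ M = ⊤)
    (hn : 3 ≤ Nat.card (Sylow p G)) (g : G) (hg : orderOf g = 2) :
    ∃ m : ℕ, fxp p g + 4 * m = Nat.card (Sylow p G) := by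
  classical
  haveI : Fintype (Sylow p G) := Fintype.ofFinite _
  have hn1 : Nat.card (Sylow p G) ≠ 1 := by omega
  have hg1 : g ≠ 1 := by
    intro h; rw [h, orderOf_one] at hg; norm_num at hg
  let σ : Equiv.Perm (Sylow p G) := MulAction.toPerm g
  have hσ2 : σ ^ 2 = 1 := by
    show (MulAction.toPermHom G (Sylow p G) g) ^ 2 = 1
    rw [← map_pow, ← hg, pow_orderOf_eq_one, map_one]
  have hσ1 : σ ≠ 1 := by
    intro h
    apply hg1
    apply eq_one_of_fixes_all hsimp hn1
    intro Q
    have : σ Q = Q := by rw [h]; rfl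
    exact this
  have hσo : orderOf σ = 2 := orderOf_eq_prime hσ2 hσ1
  have hs : Equiv.Perm.sign σ = 1 := sign_eq_one hsimp hn g
  obtain ⟨m, hm⟩ := card_moved_mod_four σ hσo hs
  have hF : Fintype.card (Function.fixedPoints σ) = fxp p g := by
    unfold fxp
    rw [Nat.card_eq_fintype_card]
    rfl
  refine ⟨m, ?_⟩
  rw [← hF, hm, Nat.card_eq_fintype_card]

/-- the fixed point count of an element of prime order `t` -/
theorem fxp_modEq_prime {p : ℕ} [Fact p.Prime] (z : G) {t : ℕ} (ht : t.Prime)
    (hzt : orderOf z = t) : Nat.card (Sylow p G) ≡ fxp p z [MOD t] := by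
  classical
  haveI : Fact t.Prime := ⟨ht⟩
  haveI : Fintype (Sylow p G) := Fintype.ofFinite _
  let f : Function.End (Sylow p G) := fun Q => z • Q
  have hf : f ^ t ^ 1 = 1 := by
    funext Q
    rw [pow_one, pow_smul_end z f (fun _ => rfl), ← hzt, pow_orderOf_eq_one, one_smul]; rfl
  have hmodt := Equiv.Perm.card_fixedPoints_modEq (p := t) (n := 1) (f := f) hf
  have hFeq : Fintype.card (Function.fixedPoints f) = fxp p z := by
    unfold fxp
    rw [Nat.card_eq_fintype_card]
    rfl
  rw [hFeq, ← Nat.card_eq_fintype_card] at hmodt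
  exact hmodt

/-- elements centralizing a Sylow subgroup -/
theorem fxp_modEq_of_centralizing {p : ℕ} [Fact p.Prime] (P : Sylow p G) (z : G)
    (hz : z ∈ centralizer ((P : Subgroup G) : Set G)) : fxp p z ≡ 1 [MOD p] :=
  card_fixed_modEq P z hz

/-- `fxp p z = n` forces `z = 1` in a simple group -/
theorem eq_one_of_fxp_eq {p : ℕ} [Fact p.Prime]
    (hsimp : ∀ M : Subgroup G, M.Normal → M = ⊥ ∨ M = ⊤)
    (hn1 : Nat.card (Sylow p G) ≠ 1) (z : G) (h : fxp p z = Nat.card (Sylow p G)) : z = 1 := by
  apply eq_one_of_fixes_all hsimp hn1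
  intro Q
  have hbij : Function.Bijective
      (Subtype.val : {Q : Sylow p G | z • Q = Q} → Sylow p G) :=
    Function.Injective.bijective_of_nat_card_le Subtype.val_injective h.ge
  obtain ⟨⟨Q', hQ'⟩, rfl⟩ := hbij.2 Q
  exact hQ'

/-- Sylow 2-subgroups of a simple group whose order has an odd prime divisor are not cyclic -/
theorem false_of_cyclic_sylow_two (hsimp : ∀ M : Subgroup G, M.Normal → M = ⊥ ∨ M = ⊤)
    (S : Sylow 2 G) (h2 : 2 ∣ Nat.card G) (hScyc : IsCyclic (S : Subgroup G))
    (q : ℕ) (hq : q.Prime) (hq2 : q ≠ 2) (hqG : q ∣ Nat.card G) : False := by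
  haveI : Fact (Nat.Prime 2) := ⟨Nat.prime_two⟩
  have hmin : (Nat.card G).minFac = 2 := (Nat.minFac_eq_two_iff _).mpr h2
  have hcomp := IsCyclic.isComplement' hmin hScyc
  rcases hsimp _ (inferInstance : (MonoidHom.transferSylow S
      (hScyc.normalizer_le_centralizer hmin)).ker.Normal) with h | h
  · rw [h, isComplement'_bot_left] at hcomp
    obtain ⟨m, hm⟩ := S.2.exists_card_eq
    have hcG : Nat.card G = 2 ^ m := by
      rw [← hm, ← card_top (G := G), ← hcomp]
    rw [hcG] at hqG
    have := Nat.Prime.dvd_of_dvd_pow hq hqG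
    exact hq2 ((Nat.prime_dvd_prime_iff_eq hq Nat.prime_two).mp this)
  · rw [h, isComplement'_top_left] at hcomp
    exact S.ne_bot_of_dvd_card h2 hcomp

/-- Burnside: in a simple group a nontrivial Sylow subgroup central in its normalizer is
everything -/
theorem eq_top_of_normalizer_le {q : ℕ} [Fact q.Prime]
    (hsimp : ∀ M : Subgroup G, M.Normal → M = ⊥ ∨ M = ⊤) (R : Sylow q G)
    (hR : (R : Subgroup G) ≠ ⊥)
    (hNC : normalizer ((R : Subgroup G) : Set G) ≤ centralizer ((R : Subgroup G) : Set G)) :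
    (R : Subgroup G) = ⊤ := by
  have hcomp := MonoidHom.ker_transferSylow_isComplement' R hNC
  rcases hsimp _ (inferInstance : (MonoidHom.transferSylow R hNC).ker.Normal) with h | h
  · rw [h, isComplement'_bot_left] at hcomp
    exact hcomp
  · rw [h, isComplement'_top_left] at hcomp
    exact absurd hcomp hR

/-- a Sylow subgroup of prime order `q` with `q - 1` prime to `|G|` is central in its
normalizer -/
theorem normalizer_le_of_coprime {q : ℕ} [Fact q.Prime] (R : Sylow q G) (hR : Nat.card R = q)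
    (hcop : Nat.Coprime (q - 1) (Nat.card G)) :
    normalizer ((R : Subgroup G) : Set G) ≤ centralizer ((R : Subgroup G) : Set G) := by
  have hq : q.Prime := Fact.out
  haveI : IsCyclic (R : Subgroup G) := isCyclic_of_prime_card hR
  have key := card_dvd_of_injective _
    (QuotientGroup.kerLift_injective (R : Subgroup G).normalizerMonoidHom)
  rw [normalizerMonoidHom_ker, ← index, ← relIndex] at key
  rw [IsCyclic.card_mulAut, hR, Nat.totient_prime hq] at key
  have h3 : (centralizer ((R : Subgroup G) : Set G)).relIndex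
      (normalizer ((R : Subgroup G) : Set G)) ∣ Nat.card G :=
    (relIndex_dvd_card _ _).trans (card_subgroup_dvd_card _)
  exact relIndex_eq_one.mp (Nat.eq_one_of_dvd_coprimes hcop key h3)

end Cfsg.Agent.Lib.Helper7.SylGen
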