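import Mathlib
import Cfsg.Agent.Lib.Helper7.SylGenD

set_option autoImplicit false

/-!
# No finite group has exactly 15 Sylow 7-subgroups
-/

namespace Cfsg.Agent.Lib.Helper7.Syl15

open Subgroup MulAction
open Cfsg.Agent.Lib.Helper7.Syl35
open Cfsg.Agent.Lib.Helper7.SylGen
open scoped Pointwise

universe u

variable {G : Type u} [Group G] [Finite G]

theorem dvd15_modEq (d : ℕ) (h1 : d ∣ 15) (h2 : d ≡ 1 [MOD 7]) : d = 1 ∨ d = 15 := by
  have hle : d ≤ 15 := Nat.le_of_dvd (by norm_num) h1
  interval_cases d <;> first | (left; rfl) | (right; rfl) | (exfalso; revert h1 h2; decide)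

/-- a centralizing element of prime order `t ≠ 7` does not exist -/
theorem false_of_centralizing (hsimp : ∀ M : Subgroup G, M.Normal → M = ⊥ ∨ M = ⊤)
    (h15 : Nat.card (Sylow 7 G) = 15) (P : Sylow 7 G) (z : G)
    (hz : z ∈ centralizer ((P : Subgroup G) : Set G)) {t : ℕ} (ht : t.Prime) (hzt : orderOf z = t)
    (ht7 : t ≠ 7) : False := by
  haveI : Fact (Nat.Prime 7) := ⟨prime7⟩
  have hn1 : Nat.card (Sylow 7 G) ≠ 1 := by rw [h15]; norm_num
  have hz1 : z ≠ 1 := by
    intro h; rw [h, orderOf_one] at hzt; exact ht.one_lt.ne hzt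
  have h7 : fxp 7 z % 7 = 1 := by
    have := fxp_modEq_of_centralizing P z hz
    unfold Nat.ModEq at this
    rw [this]
  have hle : fxp 7 z ≤ 15 := h15 ▸ fxp_le 7 z
  have hmodt := fxp_modEq_prime (p := 7) z ht hzt
  rw [h15] at hmodt
  have hne : fxp 7 z ≠ 15 := by
    intro h
    exact hz1 (eq_one_of_fxp_eq hsimp hn1 z (by rw [h, h15]))
  have hcases : fxp 7 z = 1 ∨ fxp 7 z = 8 := by omega
  rcases hcases with h1 | h8
  · rw [h1] at hmodt
    have hdvd : t ∣ 15 - 1 := (Nat.modEq_iff_dvd' (by norm_num)).mp hmodt.symm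
    have ht2 : t = 2 := by
      have h14 : t ∣ 2 * 7 := by norm_num at hdvd ⊢; exact hdvd
      rcases (Nat.Prime.dvd_mul ht).mp h14 with h | h
      · exact (Nat.prime_dvd_prime_iff_eq ht Nat.prime_two).mp h
      · exact absurd ((Nat.prime_dvd_prime_iff_eq ht prime7).mp h) ht7
    obtain ⟨m, hm⟩ := fxp_involution hsimp (by rw [h15]; norm_num) z (by rw [hzt, ht2])
    rw [h1, h15] at hm
    omega
  · rw [h8] at hmodt
    have hdvd : t ∣ 15 - 8 := (Nat.modEq_iff_dvd' (by norm_num)).mp hmodt.symm
    have : t ∣ 7 := by norm_num at hdvd ⊢; exact hdvd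
    exact ht7 ((Nat.prime_dvd_prime_iff_eq ht prime7).mp this)

/-- Sylow 7-subgroups of order 7 are self-centralizing -/
theorem centralizer_eq (hsimp : ∀ M : Subgroup G, M.Normal → M = ⊥ ∨ M = ⊤)
    (h15 : Nat.card (Sylow 7 G) = 15) (P : Sylow 7 G) (hP : Nat.card P = 7) :
    centralizer ((P : Subgroup G) : Set G) = (P : Subgroup G) := by
  haveI : Fact (Nat.Prime 7) := ⟨prime7⟩
  haveI : IsCyclic (P : Subgroup G) := isCyclic_of_prime_card hP
  have hPC : (P : Subgroup G) ≤ centralizer ((P : Subgroup G) : Set G) := by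
    intro x hx
    rw [mem_centralizer_iff]
    intro y hy
    have hy' : y ∈ (P : Subgroup G) := hy
    have := IsCyclic.commGroup.mul_comm (⟨y, hy'⟩ : (P : Subgroup G)) ⟨x, hx⟩
    exact congrArg Subtype.val this
  have hpg : IsPGroup 7 (centralizer ((P : Subgroup G) : Set G)) := by
    rintro ⟨g, hg⟩
    have hpow : orderOf g = 7 ^ (orderOf g).primeFactorsList.length := by
      apply Nat.eq_prime_pow_of_unique_prime_dvd (orderOf_pos g).ne'
      intro t ht htd
      by_contra hne
      have hz : g ^ (orderOf g / t) ∈ centralizer ((P : Subgroup G) : Set G) := pow_mem hg _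
      have ho : orderOf (g ^ (orderOf g / t)) = t :=
        orderOf_pow_orderOf_div (orderOf_pos g).ne' htd
      exact false_of_centralizing hsimp h15 P _ hz ht ho hne
    refine ⟨(orderOf g).primeFactorsList.length, ?_⟩
    apply Subtype.ext
    show g ^ 7 ^ (orderOf g).primeFactorsList.length = 1
    rw [← hpow, pow_orderOf_eq_one]
  exact P.3 hpg hPC

/-- the conclusion in the case `|P| = 7` -/
theorem false_of_small (hsimp : ∀ M : Subgroup G, M.Normal → M = ⊥ ∨ M = ⊤)
    (h15 : Nat.card (Sylow 7 G) = 15) (P : Sylow 7 G) (hP : Nat.card P = 7) : False := by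
  haveI : Fact (Nat.Prime 7) := ⟨prime7⟩
  haveI : Fact (Nat.Prime 5) := ⟨Syl21.prime5⟩
  haveI : Fact (Nat.Prime 2) := ⟨Nat.prime_two⟩
  have h7G : 7 ∣ Nat.card G := hP ▸ card_subgroup_dvd_card (P : Subgroup G)
  by_cases h2 : 2 ∣ Nat.card G
  · obtain ⟨S⟩ : Nonempty (Sylow 2 G) := inferInstance
    have hodd : ¬ 2 ∣ Nat.card (Sylow 7 G) := by rw [h15]; norm_num
    obtain ⟨Q, hQ⟩ := S.2.nonempty_fixed_point_of_prime_not_dvd_card (Sylow 7 G) hodd
    have hSN : (S : Subgroup G) ≤ normalizer ((Q : Subgroup G) : Set G) :=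
      (Subgroup.sylow_mem_fixedPoints_iff (S : Subgroup G)).mp hQ
    have hQc : Nat.card Q = 7 := by rw [sylow_card_eq Q P]; exact hP
    have hCQ := centralizer_eq hsimp h15 Q hQc
    haveI : IsCyclic (Q : Subgroup G) := isCyclic_of_prime_card hQc
    haveI : Fact (Nat.card (Q : Subgroup G)).Prime := ⟨by rw [hQc]; exact prime7⟩
    haveI : IsCyclic (MulAut (Q : Subgroup G)) :=
      isCyclic_of_injective (IsCyclic.mulAutMulEquiv (Q : Subgroup G)).toMonoidHom
        (MulEquiv.injective _)
    let ψ : (S : Subgroup G) →* MulAut (Q : Subgroup G) :=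
      (Q : Subgroup G).normalizerMonoidHom.comp (Subgroup.inclusion hSN)
    have hψ : Function.Injective ψ := by
      rw [← MonoidHom.ker_eq_bot_iff, eq_bot_iff]
      intro x hx
      rw [MonoidHom.mem_ker] at hx
      have h1 : Subgroup.inclusion hSN x ∈ (Q : Subgroup G).normalizerMonoidHom.ker := hx
      rw [normalizerMonoidHom_ker, mem_subgroupOf] at h1
      have h3 : (x : G) ∈ centralizer ((Q : Subgroup G) : Set G) := h1
      rw [hCQ] at h3
      have h4 : (x : G) ∈ (S : Subgroup G) ⊓ (Q : Subgroup G) := ⟨x.2, h3⟩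
      have h5 : (S : Subgroup G) ⊓ (Q : Subgroup G) = ⊥ :=
        inf_eq_bot_of_coprime
          (IsPGroup.coprime_card_of_ne 2 7 (by norm_num) (S : Subgroup G) (Q : Subgroup G) S.2 Q.2)
      rw [h5, mem_bot] at h4
      rw [mem_bot]
      exact Subtype.ext h4
    have hScyc : IsCyclic (S : Subgroup G) := isCyclic_of_injective ψ hψ
    exact false_of_cyclic_sylow_two hsimp S h2 hScyc 7 prime7 (by norm_num) h7G
  · -- odd order: a Sylow 5-subgroup has order 5 and is central in its normalizer
    have hCP := centralizer_eq hsimp h15 P hP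
    haveI : IsCyclic (P : Subgroup G) := isCyclic_of_prime_card hP
    have key := card_dvd_of_injective _
      (QuotientGroup.kerLift_injective (P : Subgroup G).normalizerMonoidHom)
    rw [normalizerMonoidHom_ker, ← index, ← relIndex] at key
    rw [IsCyclic.card_mulAut, hP, Nat.totient_prime prime7, hCP] at key
    set e := (P : Subgroup G).relIndex (normalizer ((P : Subgroup G) : Set G)) with he
    have h1 : Nat.card (P : Subgroup G) * e =
        Nat.card (normalizer ((P : Subgroup G) : Set G)) := by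
      have := card_inf_mul_relIndex (P : Subgroup G) (normalizer ((P : Subgroup G) : Set G))
      rw [inf_of_le_left le_normalizer] at this
      exact this
    have h2' : Nat.card (normalizer ((P : Subgroup G) : Set G)) * 15 = Nat.card G := by
      rw [← h15, P.card_eq_index_normalizer]
      exact card_mul_index _
    have hG : Nat.card G = 105 * e := by rw [← h2', ← h1, hP]; ring
    have he6 : e ∣ 6 := key
    have hele : e ≤ 6 := Nat.le_of_dvd (by norm_num) he6
    have h5G : 5 ∣ Nat.card G := by rw [hG]; exact Dvd.dvd.mul_right (by norm_num) e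
    have h25 : ¬ 25 ∣ Nat.card G := by
      rw [hG]
      interval_cases e <;> first | omega | (revert he6; decide)
    obtain ⟨R⟩ : Nonempty (Sylow 5 G) := inferInstance
    have hR : Nat.card R = 5 := by
      obtain ⟨k, hk⟩ := R.2.exists_card_eq
      have hk1 : k ≠ 0 := by
        intro h0
        rw [h0, pow_zero, card_eq_one] at hk
        exact R.ne_bot_of_dvd_card h5G hk
      have hk2 : k < 2 := by
        by_contra hge
        push Not at hge
        apply h25
        have : 5 ^ 2 ∣ 5 ^ k := pow_dvd_pow 5 hge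
        rw [← hk] at this
        exact this.trans (card_subgroup_dvd_card _)
      have : k = 1 := by omega
      rw [hk, this, pow_one]
    have hcop : Nat.Coprime (5 - 1) (Nat.card G) := by
      have : (5 - 1 : ℕ) = 2 ^ 2 := by norm_num
      rw [this]
      exact Nat.Coprime.pow_left _ ((Nat.Prime.coprime_iff_not_dvd Nat.prime_two).mpr h2)
    have hNC := normalizer_le_of_coprime R hR hcop
    have hRbot : (R : Subgroup G) ≠ ⊥ := R.ne_bot_of_dvd_card h5G
    have htop := eq_top_of_normalizer_le hsimp R hRbot hNC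
    have : Nat.card G = 5 := by
      rw [← hR, htop, card_top]
    rw [this] at h7G
    norm_num at h7G

theorem no_15_aux : ∀ n : ℕ, ∀ (G : Type u) [Group G] [Finite G], Nat.card G = n →
    Nat.card (Sylow 7 G) ≠ 15 := by
  intro n
  induction n using Nat.strong_induction_on with
  | _ n IH =>
    intro G _ _ hcard h15
    haveI : Fact (Nat.Prime 7) := ⟨prime7⟩
    have IH' : ∀ (H : Type u) [Group H] [Finite H], Nat.card H < Nat.card G →
        Nat.card (Sylow 7 H) ≠ 15 := by
      intro H _ _ hlt
      exact IH (Nat.card H) (hcard ▸ hlt) H rfl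
    by_cases hs : ∃ M : Subgroup G, M.Normal ∧ M ≠ ⊥ ∧ M ≠ ⊤
    · obtain ⟨M, hMn, hM1, hM2⟩ := hs
      haveI := hMn
      exact false_of_normal (p := 7) (n := 15) (r := 5) dvd15_modEq Syl21.prime5 (by norm_num)
        (by norm_num) (by norm_num) (by norm_num) IH' h15 M hM1 hM2
    · have hsimp : ∀ M : Subgroup G, M.Normal → M = ⊥ ∨ M = ⊤ := by
        intro M hM
        by_contra hcon
        push Not at hcon
        exact hs ⟨M, hM, hcon.1, hcon.2⟩
      obtain ⟨P⟩ : Nonempty (Sylow 7 G) := inferInstance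
      obtain ⟨k, hk⟩ := P.2.exists_card_eq
      rcases Nat.lt_or_ge k 2 with hlt | hge
      · interval_cases k
        · have hall : ∀ Q : Sylow 7 G, (Q : Subgroup G) = ⊥ := by
            intro Q
            apply card_eq_one.mp
            rw [sylow_card_eq Q P, hk, pow_zero]
          have : Nat.card (Sylow 7 G) = 1 := by
            rw [Nat.card_eq_one_iff_unique]
            refine ⟨⟨fun Q Q' => Sylow.ext ?_⟩, ⟨P⟩⟩
            rw [hall Q, hall Q']
          omega
        · exact false_of_small hsimp h15 P (by rw [hk, pow_one])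
      · apply false_of_big (p := 7) hsimp (by rw [h15]; norm_num) (by rw [h15]; norm_num) P
        rw [hk]
        exact pow_dvd_pow 7 hge

/-- no finite group has exactly 15 Sylow 7-subgroups -/
theorem no_15 (G : Type u) [Group G] [Finite G] : Nat.card (Sylow 7 G) ≠ 15 :=
  no_15_aux _ G rfl

end Cfsg.Agent.Lib.Helper7.Syl15
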