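import Mathlib
import Cfsg.Agent.Lib.Helper7.SylGenD

set_option autoImplicit false

/-!
# 22 Sylow 3-subgroups: intersections of index 3 or 9, lines
-/

namespace Cfsg.Agent.Lib.Helper7.Syl22

open Subgroup MulAction
open Cfsg.Agent.Lib.Helper7.Syl35
open Cfsg.Agent.Lib.Helper7.SylGen

universe u

variable {G : Type u} [Group G] [Finite G]

/-- the stabilizer of `Q'` in the `p`-group `Q` -/
theorem stabilizer_sylow_eq {p : ℕ} [Fact p.Prime] (Q Q' : Sylow p G) :
    stabilizer (Q : Subgroup G) Q' = (Q' : Subgroup G).subgroupOf (Q : Subgroup G) := by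
  ext x
  rw [mem_stabilizer_iff, mem_subgroupOf]
  have h1 : x • Q' = (x : G) • Q' := rfl
  rw [h1, Sylow.smul_eq_iff_mem_normalizer]
  have h2 := IsPGroup.inf_normalizer_sylow Q.2 Q'
  constructor
  · intro hx
    exact (h2.le ⟨x.2, hx⟩).2
  · intro hx
    exact le_normalizer hx

/-- the orbit of `Q'` under `Q` has `|Q : Q ∩ Q'|` elements -/
theorem relIndex_eq_ncard_orbit {p : ℕ} [Fact p.Prime] (Q Q' : Sylow p G) :
    (Q' : Subgroup G).relIndex (Q : Subgroup G) = (orbit (Q : Subgroup G) Q').ncard := by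
  rw [← index_stabilizer, stabilizer_sylow_eq]; rfl

/-- two distinct Sylow 3-subgroups meet in a subgroup of index 3 or 9 when there are 22 of them -/
theorem relIndex_cases (hn : Nat.card (Sylow 3 G) = 22) (Q Q' : Sylow 3 G) (hne : Q ≠ Q') :
    (Q' : Subgroup G).relIndex (Q : Subgroup G) = 3 ∨
    (Q' : Subgroup G).relIndex (Q : Subgroup G) = 9 := by
  have hidx := relIndex_eq_ncard_orbit Q Q'
  obtain ⟨k, hk⟩ := IsPGroup.index Q.2 ((Q' : Subgroup G).subgroupOf (Q : Subgroup G))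
  have hk' : (Q' : Subgroup G).relIndex (Q : Subgroup G) = 3 ^ k := hk
  have hk0 : k ≠ 0 := by
    intro h0
    rw [h0, pow_zero, relIndex_eq_one] at hk'
    exact hne (Sylow.ext (Q.3 Q'.2 hk')).symm
  have hle : (orbit (Q : Subgroup G) Q').ncard < 22 := by
    have hsub : orbit (Q : Subgroup G) Q' ⊆ {Q}ᶜ := by
      rintro _ ⟨x, rfl⟩ hmem
      have h1 : x • Q' = Q := hmem
      have h2 : Q' = x⁻¹ • Q := by rw [eq_inv_smul_iff]; exact h1
      have h3 : x⁻¹ • Q = Q := sylow_smul_self Q (x⁻¹).2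
      exact hne (h2.trans h3).symm
    have h1 : (orbit (Q : Subgroup G) Q').ncard ≤ ({Q}ᶜ : Set (Sylow 3 G)).ncard :=
      Set.ncard_le_ncard hsub (Set.toFinite _)
    have h2 : ({Q}ᶜ : Set (Sylow 3 G)).ncard = Nat.card (Sylow 3 G) - 1 := by
      rw [Set.ncard_compl, Set.ncard_singleton]
    omega
  rw [hidx] at hk'
  rw [hidx, hk']
  rcases Nat.lt_or_ge k 3 with h2 | h2
  · interval_cases k
    · exact absurd rfl hk0
    · left; norm_num
    · right; norm_num
  · exfalso
    have : 3 ^ 3 ≤ 3 ^ k := Nat.pow_le_pow_right (by norm_num) h2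
    omega

/-- the index of the intersection is symmetric -/
theorem relIndex_symm {p : ℕ} [Fact p.Prime] (Q Q' : Sylow p G) :
    (Q' : Subgroup G).relIndex (Q : Subgroup G) = (Q : Subgroup G).relIndex (Q' : Subgroup G) := by
  have h1 := card_inf_mul_relIndex (Q' : Subgroup G) (Q : Subgroup G)
  have h2 := card_inf_mul_relIndex (Q : Subgroup G) (Q' : Subgroup G)
  rw [inf_comm, ← sylow_card_eq Q Q', ← h1] at h2
  have hpos : 0 < Nat.card ((Q' : Subgroup G) ⊓ Q : Subgroup G) := Nat.card_pos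
  exact (Nat.eq_of_mul_eq_mul_left hpos h2).symm

/-- `|Q ∩ Q'| * |Q : Q ∩ Q'| = |Q|` -/
theorem card_inf_mul_idx {p : ℕ} [Fact p.Prime] (Q Q' : Sylow p G) :
    Nat.card ((Q : Subgroup G) ⊓ Q' : Subgroup G) * (Q' : Subgroup G).relIndex (Q : Subgroup G) =
      Nat.card Q := by
  have h1 := card_inf_mul_relIndex (Q' : Subgroup G) (Q : Subgroup G)
  rw [inf_comm] at h1
  exact h1

/-- an intersection of index `p` is normal in `Q` -/
theorem le_normalizer_inf_of_relIndex {p : ℕ} [Fact p.Prime] (Q1 Q2 : Sylow p G)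
    (h : (Q2 : Subgroup G).relIndex (Q1 : Subgroup G) = p) :
    (Q1 : Subgroup G) ≤ normalizer (((Q1 : Subgroup G) ⊓ Q2 : Subgroup G) : Set G) := by
  have hp : p.Prime := Fact.out
  rw [← normal_subgroupOf_iff_le_normalizer inf_le_left]
  apply normal_of_index_eq_minFac_card
  have h1 : (((Q1 : Subgroup G) ⊓ Q2).subgroupOf (Q1 : Subgroup G)).index = p := by
    rw [← inf_relIndex_right, inf_comm] at h
    exact h
  rw [h1]
  obtain ⟨k, hk⟩ := Q1.2.exists_card_eq
  have hk0 : k ≠ 0 := by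
    intro h0
    have h2 := card_inf_mul_idx Q1 Q2
    rw [h, hk, h0, pow_zero] at h2
    have : p ∣ 1 := Dvd.intro_left _ h2
    exact hp.one_lt.ne' (Nat.dvd_one.mp this)
  rw [hk, Nat.Prime.pow_minFac hp hk0]

/-- a subgroup `D` of index `p` in a Sylow `p`-subgroup `Q` is normalized by `Q` -/
theorem le_normalizer_of_card_mul {p : ℕ} [Fact p.Prime] (Q : Sylow p G) (D : Subgroup G)
    (hD : D ≤ (Q : Subgroup G)) (hcard : Nat.card D * p = Nat.card Q) :
    (Q : Subgroup G) ≤ normalizer (D : Set G) := by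
  have hp : p.Prime := Fact.out
  rw [← normal_subgroupOf_iff_le_normalizer hD]
  apply normal_of_index_eq_minFac_card
  have h1 : (D.subgroupOf (Q : Subgroup G)).index = p := by
    have h2 := card_inf_mul_relIndex D (Q : Subgroup G)
    rw [inf_of_le_left hD, ← hcard] at h2
    have hpos : 0 < Nat.card D := Nat.card_pos
    exact Nat.eq_of_mul_eq_mul_left hpos h2
  rw [h1]
  obtain ⟨k, hk⟩ := Q.2.exists_card_eq
  have hk0 : k ≠ 0 := by
    intro h0
    rw [hk, h0, pow_zero] at hcard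
    have : p ∣ 1 := Dvd.intro_left _ hcard
    exact hp.one_lt.ne' (Nat.dvd_one.mp this)
  rw [hk, Nat.Prime.pow_minFac hp hk0]

end Cfsg.Agent.Lib.Helper7.Syl22
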