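import Mathlib
import Cfsg.Agent.Lib.Helper7.Syl22A

set_option autoImplicit false

/-!
# Lines: the Sylow subgroups containing a subgroup `D` of index `p`
-/

namespace Cfsg.Agent.Lib.Helper7.Syl22

open Subgroup MulAction
open Cfsg.Agent.Lib.Helper7.Syl35
open Cfsg.Agent.Lib.Helper7.SylGen

universe u

variable {G : Type u} [Group G] [Finite G] {p : ℕ} [Fact p.Prime]

/-- Sylow's theorem inside a subgroup `H` -/
theorem exists_smul_eq_of_le (H : Subgroup G) (Q Q' : Sylow p G)
    (hQ : (Q : Subgroup G) ≤ H) (hQ' : (Q' : Subgroup G) ≤ H) : ∃ m ∈ H, m • Q = Q' := by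
  obtain ⟨h, hh⟩ := MulAction.exists_smul_eq H (Q.subtype hQ) (Q'.subtype hQ')
  refine ⟨h, h.2, ?_⟩
  rw [Sylow.smul_subtype] at hh
  exact Sylow.subtype_injective hh

/-- the Sylow subgroups containing `D` -/
def line (p : ℕ) (D : Subgroup G) : Set (Sylow p G) := {Q | D ≤ (Q : Subgroup G)}

theorem mem_line {D : Subgroup G} {Q : Sylow p G} : Q ∈ line p D ↔ D ≤ (Q : Subgroup G) :=
  Iff.rfl

/-- the normalizer of `D` permutes the line of `D` -/
theorem smul_mem_line {D : Subgroup G} {Q : Sylow p G} (hQ : Q ∈ line p D) {m : G}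
    (hm : m ∈ normalizer (D : Set G)) : m • Q ∈ line p D := by
  intro d hd
  rw [mem_smul_sylow_iff]
  apply hQ
  have := (mem_normalizer_iff.mp (inv_mem hm) d).mp hd
  rwa [inv_inv] at this

/-- the line of `D` is the orbit of `P` under the normalizer of `D` -/
theorem line_eq_orbit (P : Sylow p G) (D : Subgroup G) (hD : D ≤ (P : Subgroup G))
    (hcard : Nat.card D * p = Nat.card P) :
    line p D = orbit (normalizer (D : Set G)) P := by
  ext Q
  constructor
  · intro hQ
    have h1 : (P : Subgroup G) ≤ normalizer (D : Set G) := le_normalizer_of_card_mul P D hD hcard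
    have h2 : (Q : Subgroup G) ≤ normalizer (D : Set G) :=
      le_normalizer_of_card_mul Q D hQ (by rw [hcard, sylow_card_eq P Q])
    obtain ⟨m, hm, hmQ⟩ := exists_smul_eq_of_le _ P Q h1 h2
    exact ⟨⟨m, hm⟩, hmQ⟩
  · rintro ⟨m, rfl⟩
    exact smul_mem_line (show P ∈ line p D from hD) m.2

/-- the stabilizer of a Sylow subgroup in a subgroup `H` -/
theorem stabilizer_subgroup_sylow (H : Subgroup G) (P : Sylow p G) :
    stabilizer H P = (normalizer ((P : Subgroup G) : Set G)).subgroupOf H := by
  ext x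
  rw [mem_stabilizer_iff, mem_subgroupOf]
  have h1 : x • P = (x : G) • P := rfl
  rw [h1, Sylow.smul_eq_iff_mem_normalizer]
  exact Iff.rfl

/-- the number of points of a line -/
theorem card_line_eq (P : Sylow p G) (D : Subgroup G) (hD : D ≤ (P : Subgroup G))
    (hcard : Nat.card D * p = Nat.card P) :
    Nat.card (line p D) =
      (normalizer ((P : Subgroup G) : Set G)).relIndex (normalizer (D : Set G)) := by
  rw [line_eq_orbit P D hD hcard, Nat.card_coe_set_eq, ← index_stabilizer,
    stabilizer_subgroup_sylow]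
  rfl

/-- two points of the line of `D` meet in `D` -/
theorem inf_eq_of_mem_line (D : Subgroup G) (Q Q' : Sylow p G) (hne : Q ≠ Q')
    (hQ : Q ∈ line p D) (hQ' : Q' ∈ line p D) (hcard : Nat.card D * p = Nat.card Q) :
    (Q : Subgroup G) ⊓ Q' = D := by
  have hp : p.Prime := Fact.out
  symm
  apply eq_of_le_of_card_ge (le_inf hQ hQ')
  have h1 := card_inf_mul_idx Q Q'
  obtain ⟨k, hk⟩ := IsPGroup.index Q.2 ((Q' : Subgroup G).subgroupOf (Q : Subgroup G))
  have hk' : (Q' : Subgroup G).relIndex (Q : Subgroup G) = p ^ k := hk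
  have hk0 : k ≠ 0 := by
    intro h0
    rw [h0, pow_zero, relIndex_eq_one] at hk'
    exact hne (Sylow.ext (Q.3 Q'.2 hk')).symm
  have h2 : p ∣ (Q' : Subgroup G).relIndex (Q : Subgroup G) := by
    rw [hk']; exact dvd_pow_self p hk0
  obtain ⟨c, hc⟩ := h2
  rw [hc, ← hcard] at h1
  have hcpos : 0 < c := by
    rcases Nat.eq_zero_or_pos c with h0 | h0
    · rw [h0, mul_zero, mul_zero] at h1
      have : 0 < Nat.card D * p := Nat.mul_pos Nat.card_pos hp.pos
      omega
    · exact h0
  have h3 : Nat.card ((Q : Subgroup G) ⊓ Q' : Subgroup G) * c = Nat.card D := by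
    have : Nat.card ((Q : Subgroup G) ⊓ Q' : Subgroup G) * c * p = Nat.card D * p := by
      rw [← h1]; ring
    exact Nat.eq_of_mul_eq_mul_right hp.pos this
  calc Nat.card ((Q : Subgroup G) ⊓ Q' : Subgroup G)
      ≤ Nat.card ((Q : Subgroup G) ⊓ Q' : Subgroup G) * c := Nat.le_mul_of_pos_right _ hcpos
    _ = Nat.card D := h3

/-- the counting identity `|G : N(D)| * |line D| = n_p * |N(P) : N(P) ∩ N(D)|` -/
theorem index_mul_card_line (P : Sylow p G) (D : Subgroup G) (hD : D ≤ (P : Subgroup G))
    (hcard : Nat.card D * p = Nat.card P) :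
    (normalizer (D : Set G)).index * Nat.card (line p D) =
      Nat.card (Sylow p G) *
        (normalizer (D : Set G)).relIndex (normalizer ((P : Subgroup G) : Set G)) := by
  have h3 : Nat.card (Sylow p G) = (normalizer ((P : Subgroup G) : Set G)).index :=
    P.card_eq_index_normalizer
  rw [card_line_eq P D hD hcard, h3]
  have h1 := relIndex_mul_index (H := normalizer ((P : Subgroup G) : Set G) ⊓ normalizer (D : Set G))
    (K := normalizer (D : Set G)) inf_le_right
  have h2 := relIndex_mul_index (H := normalizer ((P : Subgroup G) : Set G) ⊓ normalizer (D : Set G))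
    (K := normalizer ((P : Subgroup G) : Set G)) inf_le_left
  rw [inf_relIndex_right] at h1
  rw [inf_relIndex_left] at h2
  rw [mul_comm, h1, mul_comm, h2]

end Cfsg.Agent.Lib.Helper7.Syl22
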