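import Mathlib
import Cfsg.Agent.Lib.Helper7.Syl22B

set_option autoImplicit false

/-!
# The lines through a point that are conjugate under its normalizer
-/

namespace Cfsg.Agent.Lib.Helper7.Syl22

open Subgroup MulAction
open Cfsg.Agent.Lib.Helper7.Syl35
open Cfsg.Agent.Lib.Helper7.SylGen
open scoped Pointwise

universe u

variable {G : Type u} [Group G] [Finite G] {p : ℕ} [Fact p.Prime]

/-- simultaneous conjugation does not change the index of the intersection -/
theorem relIndex_smul (g : G) (Q Q' : Sylow p G) :
    ((g • Q' : Sylow p G) : Subgroup G).relIndex ((g • Q : Sylow p G) : Subgroup G) =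
      (Q' : Subgroup G).relIndex (Q : Subgroup G) := by
  rw [Sylow.smul_def, Sylow.smul_def, Sylow.pointwise_smul_def, Sylow.pointwise_smul_def,
    Subgroup.relIndex_pointwise_smul]

/-- elements of the normalizer fix the point -/
theorem smul_eq_self_of_mem_normalizer (P : Sylow p G) {n : G}
    (hn : n ∈ normalizer ((P : Subgroup G) : Set G)) : n • P = P :=
  Sylow.smul_eq_iff_mem_normalizer.mpr hn

/-- the key injection: translates of the punctured line of `D` under coset representatives of
`N(P) ∩ N(D)` in `N(P)` are pairwise disjoint -/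
theorem exists_injective_translate (P : Sylow p G) (D : Subgroup G) (hD : D ≤ (P : Subgroup G))
    (hcard : Nat.card D * p = Nat.card P) :
    ∃ f : ((normalizer ((P : Subgroup G) : Set G)) ⧸
        ((normalizer (D : Set G)).subgroupOf (normalizer ((P : Subgroup G) : Set G)))) ×
        (line p D \ {P} : Set (Sylow p G)) → Sylow p G,
      Function.Injective f ∧
      ∀ x, ∃ n ∈ normalizer ((P : Subgroup G) : Set G), f x = n • (x.2 : Sylow p G) := by
  classical
  set N := normalizer ((P : Subgroup G) : Set G) with hN
  set M := normalizer (D : Set G) with hM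
  refine ⟨fun x => ((Quotient.out x.1 : N) : G) • (x.2 : Sylow p G), ?_, ?_⟩
  · rintro ⟨c, ⟨Q, hQ, hQP⟩⟩ ⟨c', ⟨Q', hQ', hQP'⟩⟩ h
    have h' : ((Quotient.out c : N) : G) • Q = ((Quotient.out c' : N) : G) • Q' := h
    set n : G := ((Quotient.out c : N) : G) with hn
    set n' : G := ((Quotient.out c' : N) : G) with hn'
    have hnN : n ∈ N := (Quotient.out c : N).2
    have hn'N : n' ∈ N := (Quotient.out c' : N).2
    have hQP1 : Q ≠ P := hQP
    have hQP1' : Q' ≠ P := hQP'
    -- g = n⁻¹ n' maps Q' to Q
    set g : G := n⁻¹ * n' with hg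
    have hgN : g ∈ N := mul_mem (inv_mem hnN) hn'N
    have hgQ : g • Q' = Q := by
      rw [hg, mul_smul, ← h', inv_smul_smul]
    have hgP : g • P = P := smul_eq_self_of_mem_normalizer P hgN
    have hPQ : (P : Subgroup G) ⊓ Q = D :=
      inf_eq_of_mem_line D P Q (Ne.symm hQP1) hD hQ hcard
    have hgM : g ∈ M := by
      apply mem_normalizer_fintype
      intro d hd
      have hd' : d ∈ D := hd
      show g * d * g⁻¹ ∈ D
      rw [← hPQ]
      constructor
      · have : g * d * g⁻¹ ∈ ((g • P : Sylow p G) : Subgroup G) := by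
          rw [mem_smul_sylow_iff]
          have : g⁻¹ * (g * d * g⁻¹) * g = d := by group
          rw [this]; exact hD hd'
        rw [hgP] at this
        exact this
      · have : g * d * g⁻¹ ∈ ((g • Q' : Sylow p G) : Subgroup G) := by
          rw [mem_smul_sylow_iff]
          have : g⁻¹ * (g * d * g⁻¹) * g = d := by group
          rw [this]; exact hQ' hd'
        rw [hgQ] at this
        exact this
    have hcc : c = c' := by
      rw [← QuotientGroup.out_eq' c, ← QuotientGroup.out_eq' c', QuotientGroup.eq, mem_subgroupOf]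
      exact hgM
    subst hcc
    have : Q = Q' := by
      have := h'
      rw [smul_left_cancel_iff] at this
      exact this
    subst this
    rfl
  · rintro ⟨c, Q⟩
    exact ⟨_, (Quotient.out c : N).2, rfl⟩

/-- the counting inequality `r (s - 1) ≤ n_p - 1` -/
theorem relIndex_mul_le (P : Sylow p G) (D : Subgroup G) (hD : D ≤ (P : Subgroup G))
    (hcard : Nat.card D * p = Nat.card P) :
    (normalizer (D : Set G)).relIndex (normalizer ((P : Subgroup G) : Set G)) *
      (Nat.card (line p D) - 1) ≤ Nat.card (Sylow p G) - 1 := by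
  classical
  obtain ⟨f, hf, hfn⟩ := exists_injective_translate P D hD hcard
  have hne : ∀ x, f x ∈ ({P}ᶜ : Set (Sylow p G)) := by
    intro x
    obtain ⟨n, hn, hx⟩ := hfn x
    rw [hx]
    intro h
    have h1 : n • (x.2 : Sylow p G) = P := h
    have h2 : (x.2 : Sylow p G) = P :=
      smul_left_cancel n (h1.trans (smul_eq_self_of_mem_normalizer P hn).symm)
    exact x.2.2.2 h2
  let f' : _ → ({P}ᶜ : Set (Sylow p G)) := fun x => ⟨f x, hne x⟩
  have hf' : Function.Injective f' := by
    intro x y h
    exact hf (congrArg Subtype.val h)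
  have h1 := Nat.card_le_card_of_injective f' hf'
  rw [Nat.card_prod, Nat.card_coe_set_eq, Nat.card_coe_set_eq, Set.ncard_compl,
    Set.ncard_singleton, Set.ncard_diff_singleton_of_mem (show P ∈ line p D from hD)] at h1
  rw [← Nat.card_coe_set_eq] at h1
  exact h1

end Cfsg.Agent.Lib.Helper7.Syl22
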