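import Mathlib
import Cfsg.Agent.Lib.Helper7.Syl22C

set_option autoImplicit false

/-!
# All lines have four points
-/

namespace Cfsg.Agent.Lib.Helper7.Syl22

open Subgroup MulAction
open Cfsg.Agent.Lib.Helper7.Syl35
open Cfsg.Agent.Lib.Helper7.SylGen
open scoped Pointwise

universe u

variable {G : Type u} [Group G] [Finite G]

/-- the arithmetic behind the line size -/
theorem line_arith {i s r : ℕ} (h1 : i * s = 22 * r) (h2 : r * (s - 1) ≤ 21) (hr : 0 < r)
    (hs3 : s % 3 = 1) (hs2 : 2 ≤ s) (hs22 : s < 22) : s = 4 ∧ 2 * i = 11 * r := by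
  have hs : s = 4 ∨ s = 7 ∨ s = 10 ∨ s = 13 ∨ s = 16 ∨ s = 19 := by omega
  rcases hs with rfl | rfl | rfl | rfl | rfl | rfl
  · exact ⟨rfl, by omega⟩
  · exfalso
    have : r ≤ 3 := by omega
    interval_cases r <;> omega
  · exfalso
    have : r ≤ 2 := by omega
    interval_cases r <;> omega
  · exfalso
    have : r ≤ 1 := by omega
    interval_cases r <;> omega
  · exfalso
    have : r ≤ 1 := by omega
    interval_cases r <;> omega
  · exfalso
    have : r ≤ 1 := by omega
    interval_cases r <;> omega

/-- every line with at least two points has exactly four, and the number of its conjugates through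
a point is even -/
theorem card_line_eq_four (hsimp : ∀ M : Subgroup G, M.Normal → M = ⊥ ∨ M = ⊤)
    (hn : Nat.card (Sylow 3 G) = 22) (P : Sylow 3 G) (D : Subgroup G)
    (hD : D ≤ (P : Subgroup G)) (hcard : Nat.card D * 3 = Nat.card P) (hD1 : D ≠ ⊥)
    (Q : Sylow 3 G) (hQ : Q ∈ line 3 D) (hQP : Q ≠ P) :
    Nat.card (line 3 D) = 4 ∧
    2 * (normalizer (D : Set G)).index =
      11 * (normalizer (D : Set G)).relIndex (normalizer ((P : Subgroup G) : Set G)) := by
  have hDn := le_normalizer_of_card_mul P D hD hcard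
  have hmod : Nat.card (line 3 D) ≡ 1 [MOD 3] := card_ge_modEq P D hD hDn
  have h1 := index_mul_card_line P D hD hcard
  have h2 := relIndex_mul_le P D hD hcard
  rw [hn] at h1 h2
  have hr : 0 < (normalizer (D : Set G)).relIndex (normalizer ((P : Subgroup G) : Set G)) :=
    Nat.pos_of_ne_zero (by unfold relIndex; exact index_ne_zero_of_finite)
  have hle : Nat.card (line 3 D) ≤ Nat.card (Sylow 3 G) :=
    Nat.card_le_card_of_injective (fun Q => (Q : Sylow 3 G)) Subtype.val_injective
  have hge : 2 ≤ Nat.card (line 3 D) := by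
    have : Fintype (line 3 D) := Fintype.ofFinite _
    rw [Nat.card_eq_fintype_card]
    have h1 : (⟨Q, hQ⟩ : line 3 D) ≠ ⟨P, (show P ∈ line 3 D from hD)⟩ := by
      intro h; exact hQP (congrArg Subtype.val h)
    exact Fintype.one_lt_card_iff.mpr ⟨_, _, h1⟩
  have hn1 : Nat.card (Sylow 3 G) ≠ 1 := by rw [hn]; norm_num
  have hnen : Nat.card (line 3 D) ≠ Nat.card (Sylow 3 G) := by
    intro h
    have hall : ∀ R : Sylow 3 G, D ≤ (R : Subgroup G) := by
      intro R
      have hbij : Function.Bijective (Subtype.val : line 3 D → Sylow 3 G) :=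
        Function.Injective.bijective_of_nat_card_le Subtype.val_injective (by rw [h])
      obtain ⟨⟨R', hR'⟩, rfl⟩ := hbij.2 R
      exact hR'
    exact false_of_le_all hsimp hn1 D hD1 hall
  rw [hn] at hle hnen
  exact line_arith h1 h2 hr hmod (by omega) (by omega)

end Cfsg.Agent.Lib.Helper7.Syl22
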