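import Mathlib
import Cfsg.Agent.Lib.Helper7.Syl22D

set_option autoImplicit false

/-!
# The points at distance 3 and at distance 9
-/

namespace Cfsg.Agent.Lib.Helper7.Syl22

open Subgroup MulAction
open Cfsg.Agent.Lib.Helper7.Syl35
open Cfsg.Agent.Lib.Helper7.SylGen
open scoped Pointwise

universe u

/-- an invariant set all of whose orbits have `m` elements has a multiple of `m` elements -/
theorem dvd_ncard_of_orbit_ncard {H X : Type*} [Group H] [MulAction H X] [Finite X] (m : ℕ) :
    ∀ (k : ℕ) (A : Set X), A.ncard = k → (∀ h : H, ∀ a ∈ A, h • a ∈ A) →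
      (∀ a ∈ A, (orbit H a).ncard = m) → m ∣ k := by
  intro k
  induction k using Nat.strong_induction_on with
  | _ k IH =>
    intro A hk hA hm
    rcases Set.eq_empty_or_nonempty A with h0 | ⟨a, ha⟩
    · rw [h0, Set.ncard_empty] at hk
      rw [← hk]; exact dvd_zero m
    · have hO : orbit H a ⊆ A := by
        rintro _ ⟨h, rfl⟩
        exact hA h a ha
      have hcard : (A \ orbit H a).ncard + m = k := by
        rw [← hm a ha, ← hk]
        exact Set.ncard_diff_add_ncard_of_subset hO (Set.toFinite _)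
      have hmpos : 0 < m := by
        rw [← hm a ha]
        exact (Set.ncard_pos (Set.toFinite _)).mpr ⟨a, mem_orbit_self a⟩
      have h1 : m ∣ (A \ orbit H a).ncard := by
        apply IH _ (by omega) (A \ orbit H a) rfl
        · intro h b hb
          refine ⟨hA h b hb.1, ?_⟩
          intro hmem
          apply hb.2
          have : b = h⁻¹ • (h • b) := by rw [inv_smul_smul]
          rw [this]
          exact (orbit_eq_iff.mpr hmem) ▸ mem_orbit _ _
        · intro b hb
          exact hm b hb.1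
      rw [← hcard]
      exact Dvd.dvd.add h1 (dvd_refl m)

variable {G : Type u} [Group G] [Finite G]

/-- the points at distance 3 from `P` -/
def S3 (P : Sylow 3 G) : Set (Sylow 3 G) :=
  {Q | (Q : Subgroup G).relIndex (P : Subgroup G) = 3}

/-- the points at distance 9 from `P` -/
def S9 (P : Sylow 3 G) : Set (Sylow 3 G) :=
  {Q | (Q : Subgroup G).relIndex (P : Subgroup G) = 9}

theorem mem_S3 {P Q : Sylow 3 G} : Q ∈ S3 P ↔ (Q : Subgroup G).relIndex (P : Subgroup G) = 3 :=
  Iff.rfl

theorem mem_S9 {P Q : Sylow 3 G} : Q ∈ S9 P ↔ (Q : Subgroup G).relIndex (P : Subgroup G) = 9 :=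
  Iff.rfl

theorem ne_of_mem_S3 {P Q : Sylow 3 G} (h : Q ∈ S3 P) : Q ≠ P := by
  rintro rfl
  rw [mem_S3, relIndex_self] at h
  norm_num at h

theorem ne_of_mem_S9 {P Q : Sylow 3 G} (h : Q ∈ S9 P) : Q ≠ P := by
  rintro rfl
  rw [mem_S9, relIndex_self] at h
  norm_num at h

theorem S3_symm {P Q : Sylow 3 G} (h : Q ∈ S3 P) : P ∈ S3 Q := by
  rw [mem_S3] at h ⊢
  rw [← relIndex_symm]; exact h

theorem S9_symm {P Q : Sylow 3 G} (h : Q ∈ S9 P) : P ∈ S9 Q := by
  rw [mem_S9] at h ⊢
  rw [← relIndex_symm]; exact h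

theorem smul_mem_S3 {P Q : Sylow 3 G} (g : G) (h : Q ∈ S3 P) : g • Q ∈ S3 (g • P) := by
  rw [mem_S3] at h ⊢
  rw [relIndex_smul]; exact h

theorem smul_mem_S9 {P Q : Sylow 3 G} (g : G) (h : Q ∈ S9 P) : g • Q ∈ S9 (g • P) := by
  rw [mem_S9] at h ⊢
  rw [relIndex_smul]; exact h

/-- `S3 (g • P)` is the translate of `S3 P` -/
theorem ncard_S3_smul (g : G) (P : Sylow 3 G) : (S3 (g • P)).ncard = (S3 P).ncard := by
  have h : S3 (g • P) = (fun Q => g • Q) '' S3 P := by
    ext Q
    constructor
    · intro hQ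
      refine ⟨g⁻¹ • Q, ?_, by simp⟩
      have := smul_mem_S3 g⁻¹ hQ
      rwa [inv_smul_smul] at this
    · rintro ⟨Q', hQ', rfl⟩
      exact smul_mem_S3 g hQ'
  rw [h, Set.ncard_image_of_injective _ (MulAction.injective g)]

theorem ncard_S9_smul (g : G) (P : Sylow 3 G) : (S9 (g • P)).ncard = (S9 P).ncard := by
  have h : S9 (g • P) = (fun Q => g • Q) '' S9 P := by
    ext Q
    constructor
    · intro hQ
      refine ⟨g⁻¹ • Q, ?_, by simp⟩
      have := smul_mem_S9 g⁻¹ hQ
      rwa [inv_smul_smul] at this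
    · rintro ⟨Q', hQ', rfl⟩
      exact smul_mem_S9 g hQ'
  rw [h, Set.ncard_image_of_injective _ (MulAction.injective g)]

/-- the 21 other points are at distance 3 or 9 -/
theorem ncard_S3_add_S9 (hn : Nat.card (Sylow 3 G) = 22) (P : Sylow 3 G) :
    (S3 P).ncard + (S9 P).ncard = 21 := by
  have hdisj : Disjoint (S3 P) (S9 P) := by
    rw [Set.disjoint_left]
    intro Q h3 h9
    rw [mem_S3] at h3
    rw [mem_S9] at h9
    omega
  have hunion : S3 P ∪ S9 P = {P}ᶜ := by
    ext Q
    constructor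
    · rintro (h | h)
      · exact ne_of_mem_S3 h
      · exact ne_of_mem_S9 h
    · intro h
      have hne : P ≠ Q := fun h' => h h'.symm
      rcases relIndex_cases hn P Q hne with h3 | h9
      · left; exact h3
      · right; exact h9
  rw [← Set.ncard_union_eq hdisj (Set.toFinite _) (Set.toFinite _), hunion, Set.ncard_compl,
    Set.ncard_singleton, hn]

/-- the number of points at distance 9 is a multiple of 9 -/
theorem nine_dvd_ncard_S9 (P : Sylow 3 G) : 9 ∣ (S9 P).ncard := by
  apply dvd_ncard_of_orbit_ncard (H := (P : Subgroup G)) 9 _ (S9 P) rfl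
  · intro h Q hQ
    have h1 : h • Q = (h : G) • Q := rfl
    have h2 := smul_mem_S9 (h : G) hQ
    rw [sylow_smul_self P h.2] at h2
    rw [h1]; exact h2
  · intro Q hQ
    rw [← relIndex_eq_ncard_orbit]
    exact hQ

/-- the number of points at distance 3 is a multiple of 3 -/
theorem three_dvd_ncard_S3 (P : Sylow 3 G) : 3 ∣ (S3 P).ncard := by
  apply dvd_ncard_of_orbit_ncard (H := (P : Subgroup G)) 3 _ (S3 P) rfl
  · intro h Q hQ
    have h1 : h • Q = (h : G) • Q := rfl
    have h2 := smul_mem_S3 (h : G) hQ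
    rw [sylow_smul_self P h.2] at h2
    rw [h1]; exact h2
  · intro Q hQ
    rw [← relIndex_eq_ncard_orbit]
    exact hQ

end Cfsg.Agent.Lib.Helper7.Syl22
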