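import Mathlib
import Cfsg.Agent.Lib.Helper7.Syl22E

set_option autoImplicit false

/-!
# Counting collinear pairs: exactly 12 points at distance 3
-/

namespace Cfsg.Agent.Lib.Helper7.Syl22

open Subgroup MulAction
open Cfsg.Agent.Lib.Helper7.Syl35
open Cfsg.Agent.Lib.Helper7.SylGen
open scoped Pointwise

universe u

variable {G : Type u} [Group G] [Finite G]

/-- data of a collinear pair -/
theorem pair_facts (Q Q' : Sylow 3 G) (h : Q' ∈ S3 Q) (h9 : 9 ∣ Nat.card Q) :
    Nat.card ((Q : Subgroup G) ⊓ Q' : Subgroup G) * 3 = Nat.card Q ∧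
    ((Q : Subgroup G) ⊓ Q' : Subgroup G) ≠ ⊥ := by
  have h1 := card_inf_mul_idx Q Q'
  rw [mem_S3] at h
  rw [h] at h1
  refine ⟨h1, ?_⟩
  intro h0
  rw [h0, card_bot, one_mul] at h1
  rw [← h1] at h9
  norm_num at h9

/-- every line through a collinear pair has four points -/
theorem card_line_pair (hsimp : ∀ M : Subgroup G, M.Normal → M = ⊥ ∨ M = ⊤)
    (hn : Nat.card (Sylow 3 G) = 22) (Q Q' : Sylow 3 G) (h : Q' ∈ S3 Q) (h9 : 9 ∣ Nat.card Q) :
    Nat.card (line 3 ((Q : Subgroup G) ⊓ Q' : Subgroup G)) = 4 := by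
  obtain ⟨h1, h2⟩ := pair_facts Q Q' h h9
  exact (card_line_eq_four hsimp hn Q _ inf_le_left h1 h2 Q'
    (show ((Q : Subgroup G) ⊓ Q' : Subgroup G) ≤ Q' from inf_le_right) (ne_of_mem_S3 h)).1

/-- two distinct points of a line are at distance 3 -/
theorem mem_S3_of_mem_line (D : Subgroup G) (Q Q' : Sylow 3 G) (hne : Q ≠ Q')
    (hQ : Q ∈ line 3 D) (hQ' : Q' ∈ line 3 D) (hcard : Nat.card D * 3 = Nat.card Q) :
    Q' ∈ S3 Q := by
  have h1 := inf_eq_of_mem_line D Q Q' hne hQ hQ' hcard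
  have h2 := card_inf_mul_idx Q Q'
  rw [h1, ← hcard] at h2
  rw [mem_S3]
  exact Nat.eq_of_mul_eq_mul_left Nat.card_pos h2

/-- the global count of collinear pairs -/
theorem twelve_dvd (hsimp : ∀ M : Subgroup G, M.Normal → M = ⊥ ∨ M = ⊤)
    (hn : Nat.card (Sylow 3 G) = 22) (P : Sylow 3 G) (h9 : 9 ∣ Nat.card P) :
    12 ∣ 22 * (S3 P).ncard := by
  classical
  haveI : Fintype (Sylow 3 G) := Fintype.ofFinite _
  have h9' : ∀ Q : Sylow 3 G, 9 ∣ Nat.card Q := by
    intro Q; rw [sylow_card_eq Q P]; exact h9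
  let Pairs : Finset (Sylow 3 G × Sylow 3 G) := Finset.univ.filter (fun x => x.2 ∈ S3 x.1)
  let φ : Sylow 3 G × Sylow 3 G → Subgroup G := fun x => (x.1 : Subgroup G) ⊓ x.2
  -- the number of pairs
  have hPairs : Pairs.card = 22 * (S3 P).ncard := by
    have h1 : Pairs = (Finset.univ : Finset (Sylow 3 G)).biUnion
        (fun Q => ((S3 Q).toFinset).image (fun Q' => (Q, Q'))) := by
      ext ⟨Q, Q'⟩
      simp only [Pairs, Finset.mem_filter, Finset.mem_univ, true_and, Finset.mem_biUnion,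
        Finset.mem_image, Set.mem_toFinset, Prod.mk.injEq]
      constructor
      · intro h; exact ⟨Q, Q', h, rfl, rfl⟩
      · rintro ⟨R, R', h, rfl, rfl⟩; exact h
    rw [h1, Finset.card_biUnion]
    · have h2 : ∀ Q ∈ (Finset.univ : Finset (Sylow 3 G)),
          (((S3 Q).toFinset).image (fun Q' => (Q, Q'))).card = (S3 P).ncard := by
        intro Q _
        rw [Finset.card_image_of_injective _ (Prod.mk_right_injective Q), Set.toFinset_card,
          ← Nat.card_eq_fintype_card, Nat.card_coe_set_eq]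
        obtain ⟨g, rfl⟩ := MulAction.exists_smul_eq G P Q
        exact ncard_S3_smul g P
      rw [Finset.sum_congr rfl h2, Finset.sum_const, Finset.card_univ, ← Nat.card_eq_fintype_card,
        hn, smul_eq_mul]
    · intro Q _ R _ hQR
      rw [Function.onFun, Finset.disjoint_left]
      intro x hx hx'
      simp only [Finset.mem_image, Set.mem_toFinset] at hx hx'
      obtain ⟨_, _, rfl⟩ := hx
      obtain ⟨_, _, h⟩ := hx'
      exact hQR (congrArg Prod.fst h).symm
  -- the fibres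
  have hfib : ∀ D ∈ Pairs.image φ, (Pairs.filter (fun x => φ x = D)).card = 12 := by
    intro D hD
    obtain ⟨⟨Q0, Q0'⟩, h0, rfl⟩ := Finset.mem_image.mp hD
    have h0' : Q0' ∈ S3 Q0 := by
      simpa [Pairs] using h0
    obtain ⟨hc, _⟩ := pair_facts Q0 Q0' h0' (h9' Q0)
    have hline := card_line_pair hsimp hn Q0 Q0' h0' (h9' Q0)
    set D : Subgroup G := (Q0 : Subgroup G) ⊓ Q0' with hDdef
    have heq : Pairs.filter (fun x => φ x = D) = ((line 3 D).toFinset).offDiag := by
      ext ⟨Q, Q'⟩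
      simp only [Pairs, φ, Finset.mem_filter, Finset.mem_univ, true_and, Finset.mem_offDiag,
        Set.mem_toFinset]
      constructor
      · rintro ⟨h1, h2⟩
        refine ⟨?_, ?_, (ne_of_mem_S3 h1).symm⟩
        · rw [mem_line, ← h2]; exact inf_le_left
        · rw [mem_line, ← h2]; exact inf_le_right
      · rintro ⟨h1, h2, h3⟩
        have hcQ : Nat.card D * 3 = Nat.card Q := by rw [hc, sylow_card_eq Q0 Q]
        exact ⟨mem_S3_of_mem_line D Q Q' h3 h1 h2 hcQ, inf_eq_of_mem_line D Q Q' h3 h1 h2 hcQ⟩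
    rw [heq, Finset.offDiag_card, Set.toFinset_card, ← Nat.card_eq_fintype_card, hline]
  have hsum := Finset.card_eq_sum_card_image φ Pairs
  rw [Finset.sum_congr rfl hfib, Finset.sum_const, smul_eq_mul, hPairs] at hsum
  exact ⟨_, hsum.trans (mul_comm _ _)⟩

/-- in the case `|P| ≥ 9` there are 12 points at distance 3 and 9 at distance 9 -/
theorem ncard_S3_eq (hsimp : ∀ M : Subgroup G, M.Normal → M = ⊥ ∨ M = ⊤)
    (hn : Nat.card (Sylow 3 G) = 22) (P : Sylow 3 G) (h9 : 9 ∣ Nat.card P) :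
    (S3 P).ncard = 12 ∧ (S9 P).ncard = 9 := by
  have h1 := twelve_dvd hsimp hn P h9
  have h2 := ncard_S3_add_S9 hn P
  have h3 := nine_dvd_ncard_S9 P
  omega

end Cfsg.Agent.Lib.Helper7.Syl22
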