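import Mathlib

set_option autoImplicit false

/-!
# There is no strongly regular graph on 22 points of valency 9 (matrix form)
-/

namespace Cfsg.Agent.Lib.Helper7.Syl22

open Matrix

variable {Ω : Type*} [Fintype Ω] [DecidableEq Ω]

/-- the trace of an idempotent rational matrix is a natural number -/
theorem trace_idempotent_nat (E : Matrix Ω Ω ℚ) (h : E * E = E) : ∃ k : ℕ, E.trace = (k : ℚ) := by
  have hid : IsIdempotentElem (Matrix.toLin' E) := by
    show Matrix.toLin' E * Matrix.toLin' E = Matrix.toLin' E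
    rw [Module.End.mul_eq_comp, ← Matrix.toLin'_mul, h]
  have hproj := LinearMap.IsIdempotentElem.isProj_range _ hid
  have htr := hproj.trace
  rw [Matrix.trace_toLin'_eq] at htr
  exact ⟨_, htr⟩

/-- the all-ones matrix -/
def allOnes (Ω : Type*) : Matrix Ω Ω ℚ := Matrix.of fun _ _ => 1

theorem allOnes_apply (a b : Ω) : allOnes Ω a b = 1 := rfl

theorem allOnes_mul_allOnes : allOnes Ω * allOnes Ω = (Fintype.card Ω : ℚ) • allOnes Ω := by
  ext a b
  simp [Matrix.mul_apply, allOnes_apply]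

theorem trace_allOnes : (allOnes Ω).trace = (Fintype.card Ω : ℚ) := by
  simp [Matrix.trace, allOnes_apply]

theorem three_not_square : ¬ IsSquare (3 : ℚ) := by
  rw [show (3 : ℚ) = ((3 : ℕ) : ℚ) by norm_num, Rat.isSquare_natCast_iff]
  rintro ⟨r, hr⟩
  have h2 : r ≤ 2 := by nlinarith
  interval_cases r <;> omega

/-- the determinant of `12 + 6J` -/
theorem det_twelve_add (hΩ : Fintype.card Ω = 22) :
    ((12 : ℚ) • (1 : Matrix Ω Ω ℚ) + (6 : ℚ) • allOnes Ω).det = 12 ^ 23 := by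
  let u : Matrix Ω Unit ℚ := Matrix.of fun _ _ => (1 / 2 : ℚ)
  let v : Matrix Unit Ω ℚ := Matrix.of fun _ _ => (1 : ℚ)
  have h1 : (12 : ℚ) • (1 : Matrix Ω Ω ℚ) + (6 : ℚ) • allOnes Ω =
      (12 : ℚ) • ((1 : Matrix Ω Ω ℚ) + u * v) := by
    ext a b
    simp only [Matrix.add_apply, Matrix.smul_apply, Matrix.mul_apply, allOnes_apply, u, v,
      Matrix.of_apply, smul_eq_mul, Finset.univ_unique, Finset.sum_singleton]
    ring
  rw [h1, Matrix.det_smul, Matrix.det_one_add_mul_comm, hΩ]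
  have h2 : ((1 : Matrix Unit Unit ℚ) + v * u).det = 12 := by
    rw [Matrix.det_unique]
    simp only [Matrix.add_apply, Matrix.one_apply_eq, Matrix.mul_apply, u, v, Matrix.of_apply,
      one_mul, Finset.sum_const, Finset.card_univ, hΩ]
    norm_num
  rw [h2]
  norm_num

/-- there is no strongly regular graph with parameters `(22, 9, lam, mu)` -/
theorem no_srg (hΩ : Fintype.card Ω = 22) (A : Matrix Ω Ω ℚ) (lam mu : ℕ)
    (hA2 : A * A = (9 : ℚ) • (1 : Matrix Ω Ω ℚ) + (lam : ℚ) • A +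
      (mu : ℚ) • (allOnes Ω - 1 - A))
    (hAJ : A * allOnes Ω = (9 : ℚ) • allOnes Ω) (hJA : allOnes Ω * A = (9 : ℚ) • allOnes Ω)
    (htr : A.trace = 0) : False := by
  have hJJ : allOnes Ω * allOnes Ω = (22 : ℚ) • allOnes Ω := by
    rw [allOnes_mul_allOnes, hΩ]; norm_num
  have htrJ : (allOnes Ω).trace = 22 := by rw [trace_allOnes, hΩ]; norm_num
  have htr1 : (1 : Matrix Ω Ω ℚ).trace = 22 := by
    rw [Matrix.trace_one, hΩ]; norm_num
  obtain ⟨a⟩ : Nonempty Ω := by
    rw [← Fintype.card_pos_iff, hΩ]; norm_num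
  -- the parameter equation
  have hpar : 9 * (lam : ℚ) + 12 * (mu : ℚ) = 72 := by
    have h1 : A * A * allOnes Ω = (81 : ℚ) • allOnes Ω := by
      rw [Matrix.mul_assoc, hAJ, Matrix.mul_smul, hAJ, smul_smul]; norm_num
    rw [hA2] at h1
    simp only [Matrix.add_mul, Matrix.smul_mul, Matrix.sub_mul, Matrix.one_mul, hAJ, hJJ] at h1
    have h2 := congrFun (congrFun h1 a) a
    simp only [Matrix.add_apply, Matrix.smul_apply, Matrix.sub_apply, allOnes_apply,
      smul_eq_mul] at h2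
    linarith
  have hpar' : 3 * lam + 4 * mu = 24 := by
    have : ((3 * lam + 4 * mu : ℕ) : ℚ) = ((24 : ℕ) : ℚ) := by push_cast; linarith
    exact_mod_cast this
  have hcases : (lam = 8 ∧ mu = 0) ∨ (lam = 4 ∧ mu = 3) ∨ (lam = 0 ∧ mu = 6) := by omega
  rcases hcases with ⟨rfl, rfl⟩ | ⟨rfl, rfl⟩ | ⟨rfl, rfl⟩
  · -- A² = 9 + 8A
    have hA2' : A * A = (9 : ℚ) • (1 : Matrix Ω Ω ℚ) + (8 : ℚ) • A := by
      rw [hA2]; simp
    let E : Matrix Ω Ω ℚ := (1 / 10 : ℚ) • (A + 1)
    have hE : E * E = E := by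
      simp only [E, Matrix.smul_mul, Matrix.mul_smul, Matrix.add_mul, Matrix.mul_add,
        Matrix.one_mul, Matrix.mul_one, hA2', smul_smul]
      ext i j
      simp only [Matrix.add_apply, Matrix.smul_apply, smul_eq_mul]
      ring
    obtain ⟨k, hk⟩ := trace_idempotent_nat E hE
    simp only [E, Matrix.trace_smul, Matrix.trace_add, htr, htr1, smul_eq_mul] at hk
    have h5 : (5 * k : ℕ) = 11 := by
      have : ((5 * k : ℕ) : ℚ) = ((11 : ℕ) : ℚ) := by push_cast; linarith
      exact_mod_cast this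
    omega
  · -- A² = 6 + A + 3J
    have hA2' : A * A = (6 : ℚ) • (1 : Matrix Ω Ω ℚ) + A + (3 : ℚ) • allOnes Ω := by
      rw [hA2]
      ext i j
      simp only [Matrix.add_apply, Matrix.smul_apply, Matrix.sub_apply, smul_eq_mul]
      push_cast
      ring
    let B : Matrix Ω Ω ℚ := A - (1 / 2 : ℚ) • allOnes Ω
    have hB : B * B = B + (6 : ℚ) • (1 : Matrix Ω Ω ℚ) := by
      simp only [B, Matrix.sub_mul, Matrix.mul_sub, Matrix.smul_mul, Matrix.mul_smul, hA2', hAJ,
        hJA, hJJ, smul_smul]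
      ext i j
      simp only [Matrix.add_apply, Matrix.smul_apply, Matrix.sub_apply, smul_eq_mul]
      ring
    let E : Matrix Ω Ω ℚ := (1 / 5 : ℚ) • (B + (2 : ℚ) • (1 : Matrix Ω Ω ℚ))
    have hE : E * E = E := by
      simp only [E, Matrix.smul_mul, Matrix.mul_smul, Matrix.add_mul, Matrix.mul_add,
        Matrix.one_mul, Matrix.mul_one, hB, smul_smul]
      ext i j
      simp only [Matrix.add_apply, Matrix.smul_apply, smul_eq_mul]
      ring
    obtain ⟨k, hk⟩ := trace_idempotent_nat E hE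
    simp only [E, B, Matrix.trace_smul, Matrix.trace_add, Matrix.trace_sub, htr, htr1, htrJ,
      smul_eq_mul] at hk
    have h5 : (5 * k : ℕ) = 33 := by
      have : ((5 * k : ℕ) : ℚ) = ((33 : ℕ) : ℚ) := by push_cast; linarith
      exact_mod_cast this
    omega
  · -- A² = 3 - 6A + 6J
    let C : Matrix Ω Ω ℚ := A + (3 : ℚ) • (1 : Matrix Ω Ω ℚ)
    have hC : C * C = (12 : ℚ) • (1 : Matrix Ω Ω ℚ) + (6 : ℚ) • allOnes Ω := by
      simp only [C, Matrix.add_mul, Matrix.mul_add, Matrix.smul_mul, Matrix.mul_smul,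
        Matrix.one_mul, Matrix.mul_one, hA2, smul_smul]
      ext i j
      simp only [Matrix.add_apply, Matrix.smul_apply, Matrix.sub_apply, smul_eq_mul]
      push_cast
      ring
    have hdet : C.det * C.det = 12 ^ 23 := by
      rw [← Matrix.det_mul, hC, det_twelve_add hΩ]
    apply three_not_square
    refine ⟨C.det / (2 * 12 ^ 11), ?_⟩
    rw [div_mul_div_comm, hdet]
    norm_num

end Cfsg.Agent.Lib.Helper7.Syl22
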