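import Mathlib
import Cfsg.Agent.Lib.Helper7.Syl22F
import Cfsg.Agent.Lib.Helper7.Syl22G

set_option autoImplicit false

/-!
# The rank 3 case
-/

namespace Cfsg.Agent.Lib.Helper7.Syl22

open Subgroup MulAction
open Cfsg.Agent.Lib.Helper7.Syl35
open Cfsg.Agent.Lib.Helper7.SylGen
open scoped Pointwise

universe u

variable {G : Type u} [Group G] [Finite G]

/-- the number of common neighbours in the distance 9 graph -/
noncomputable def cnb (Q Q' : Sylow 3 G) : ℕ := (S9 Q ∩ S9 Q').ncard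

theorem S9_smul_eq (g : G) (P : Sylow 3 G) : S9 (g • P) = (fun Q => g • Q) '' S9 P := by
  ext Q
  constructor
  · intro hQ
    refine ⟨g⁻¹ • Q, ?_, by simp⟩
    have := smul_mem_S9 g⁻¹ hQ
    rwa [inv_smul_smul] at this
  · rintro ⟨Q', hQ', rfl⟩
    exact smul_mem_S9 g hQ'

theorem cnb_smul (g : G) (Q Q' : Sylow 3 G) : cnb (g • Q) (g • Q') = cnb Q Q' := by
  unfold cnb
  rw [S9_smul_eq, S9_smul_eq, ← Set.image_inter (MulAction.injective g),
    Set.ncard_image_of_injective _ (MulAction.injective g)]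

/-- `P` is transitive on the points at distance 9 when there are 9 of them -/
theorem exists_smul_eq_of_mem_S9 (P : Sylow 3 G) (h9 : (S9 P).ncard = 9) (Q Q' : Sylow 3 G)
    (hQ : Q ∈ S9 P) (hQ' : Q' ∈ S9 P) : ∃ x ∈ (P : Subgroup G), x • Q = Q' := by
  have hsub : orbit (P : Subgroup G) Q ⊆ S9 P := by
    rintro _ ⟨x, rfl⟩
    have h2 := smul_mem_S9 (x : G) hQ
    rw [sylow_smul_self P x.2] at h2
    exact h2
  have hcard : (orbit (P : Subgroup G) Q).ncard = 9 := by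
    rw [← relIndex_eq_ncard_orbit]; exact hQ
  have heq : orbit (P : Subgroup G) Q = S9 P :=
    Set.eq_of_subset_of_ncard_le hsub (by rw [hcard, h9]) (Set.toFinite _)
  rw [← heq] at hQ'
  obtain ⟨x, hx⟩ := hQ'
  exact ⟨x, x.2, hx⟩

/-- the rank 3 configuration is impossible -/
theorem false_of_rank_three (hn : Nat.card (Sylow 3 G) = 22) (P₀ : Sylow 3 G)
    (h9 : (S9 P₀).ncard = 9) (h12 : (S3 P₀).ncard = 12)
    (h3 : ∀ Q ∈ S3 P₀, ∀ Q' ∈ S3 P₀,
      ∃ g ∈ normalizer ((P₀ : Subgroup G) : Set G), g • Q = Q') : False := by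
  classical
  haveI : Fintype (Sylow 3 G) := Fintype.ofFinite _
  have hΩ : Fintype.card (Sylow 3 G) = 22 := by rw [← Nat.card_eq_fintype_card, hn]
  have h9all : ∀ P : Sylow 3 G, (S9 P).ncard = 9 := by
    intro P
    obtain ⟨g, rfl⟩ := MulAction.exists_smul_eq G P₀ P
    rw [ncard_S9_smul, h9]
  obtain ⟨Q₀, hQ₀⟩ : (S9 P₀).Nonempty := by
    rw [← Set.ncard_pos (Set.toFinite _), h9]; norm_num
  obtain ⟨Q₁, hQ₁⟩ : (S3 P₀).Nonempty := by
    rw [← Set.ncard_pos (Set.toFinite _), h12]; norm_num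
  -- the two parameters
  have hlam : ∀ Q Q' : Sylow 3 G, Q' ∈ S9 Q → cnb Q Q' = cnb P₀ Q₀ := by
    intro Q Q' hQQ'
    obtain ⟨g, rfl⟩ := MulAction.exists_smul_eq G P₀ Q
    have h1 : g⁻¹ • Q' ∈ S9 P₀ := by
      have := smul_mem_S9 g⁻¹ hQQ'
      rwa [inv_smul_smul] at this
    obtain ⟨x, hx, hxQ⟩ := exists_smul_eq_of_mem_S9 P₀ h9 Q₀ (g⁻¹ • Q') hQ₀ h1
    have h2 : (g * x) • P₀ = g • P₀ := by rw [mul_smul, sylow_smul_self P₀ hx]
    have h3 : (g * x) • Q₀ = Q' := by rw [mul_smul, hxQ, smul_inv_smul]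
    rw [← h2, ← h3, cnb_smul]
  have hmu : ∀ Q Q' : Sylow 3 G, Q' ∈ S3 Q → cnb Q Q' = cnb P₀ Q₁ := by
    intro Q Q' hQQ'
    obtain ⟨g, rfl⟩ := MulAction.exists_smul_eq G P₀ Q
    have h1 : g⁻¹ • Q' ∈ S3 P₀ := by
      have := smul_mem_S3 g⁻¹ hQQ'
      rwa [inv_smul_smul] at this
    obtain ⟨x, hx, hxQ⟩ := h3 Q₁ hQ₁ (g⁻¹ • Q') h1
    have h2 : (g * x) • P₀ = g • P₀ := by
      rw [mul_smul, smul_eq_self_of_mem_normalizer P₀ hx]
    have h3 : (g * x) • Q₁ = Q' := by rw [mul_smul, hxQ, smul_inv_smul]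
    rw [← h2, ← h3, cnb_smul]
  have hdiag : ∀ Q : Sylow 3 G, cnb Q Q = 9 := by
    intro Q
    unfold cnb
    rw [Set.inter_self, h9all]
  -- the adjacency matrix
  let A : Matrix (Sylow 3 G) (Sylow 3 G) ℚ := Matrix.of fun Q Q' => if Q' ∈ S9 Q then 1 else 0
  have hAapp : ∀ Q Q', A Q Q' = if Q' ∈ S9 Q then 1 else 0 := fun _ _ => rfl
  have hrow : ∀ Q : Sylow 3 G, ∑ X, A Q X = 9 := by
    intro Q
    simp only [hAapp]
    rw [Finset.sum_boole]
    have : (Finset.univ.filter (fun X => X ∈ S9 Q)).card = (S9 Q).ncard := by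
      rw [Set.ncard_eq_toFinset_card']
      congr 1
      ext X
      simp
    rw [this, h9all]
    norm_num
  have hsymm : ∀ Q Q', A Q Q' = A Q' Q := by
    intro Q Q'
    simp only [hAapp]
    by_cases h : Q' ∈ S9 Q
    · rw [if_pos h, if_pos (S9_symm h)]
    · have h' : Q ∉ S9 Q' := fun h' => h (S9_symm h')
      rw [if_neg h, if_neg h']
  have hAA : ∀ Q Q', (A * A) Q Q' = (cnb Q Q' : ℚ) := by
    intro Q Q'
    rw [Matrix.mul_apply]
    have h1 : ∀ X, A Q X * A X Q' = if X ∈ S9 Q ∩ S9 Q' then 1 else 0 := by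
      intro X
      rw [hsymm X Q']
      simp only [hAapp, Set.mem_inter_iff]
      by_cases ha : X ∈ S9 Q <;> by_cases hb : X ∈ S9 Q' <;> simp [ha, hb]
    simp only [h1]
    rw [Finset.sum_boole]
    unfold cnb
    rw [Set.ncard_eq_toFinset_card']
    congr 2
    ext X
    simp
  apply no_srg hΩ A (cnb P₀ Q₀) (cnb P₀ Q₁)
  · ext Q Q'
    rw [hAA]
    simp only [Matrix.add_apply, Matrix.smul_apply, Matrix.sub_apply, allOnes_apply,
      smul_eq_mul, hAapp]
    by_cases hQQ : Q = Q'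
    · subst hQQ
      have hnot : Q ∉ S9 Q := fun h => ne_of_mem_S9 h rfl
      rw [hdiag, if_neg hnot, Matrix.one_apply_eq]
      push_cast
      ring
    · rw [Matrix.one_apply_ne hQQ]
      rcases relIndex_cases hn Q Q' hQQ with h | h
      · have h3' : Q' ∈ S3 Q := h
        have hnot : Q' ∉ S9 Q := by
          intro h'
          rw [mem_S9] at h'
          omega
        rw [hmu Q Q' h3', if_neg hnot]
        ring
      · have h9' : Q' ∈ S9 Q := h
        rw [hlam Q Q' h9', if_pos h9']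
        ring
  · ext Q Q'
    rw [Matrix.mul_apply]
    simp only [allOnes_apply, mul_one, Matrix.smul_apply, smul_eq_mul]
    exact hrow Q
  · ext Q Q'
    rw [Matrix.mul_apply]
    simp only [allOnes_apply, one_mul, Matrix.smul_apply, smul_eq_mul, mul_one]
    have : ∑ X, A X Q' = ∑ X, A Q' X := Finset.sum_congr rfl (fun X _ => hsymm X Q')
    rw [this]
    exact hrow Q'
  · rw [Matrix.trace]
    apply Finset.sum_eq_zero
    intro Q _
    rw [Matrix.diag_apply, hAapp]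
    have hnot : Q ∉ S9 Q := fun h => ne_of_mem_S9 h rfl
    rw [if_neg hnot]

end Cfsg.Agent.Lib.Helper7.Syl22
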