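import Mathlib
import Cfsg.Agent.Lib.Helper7.Syl22H

set_option autoImplicit false

/-!
# Four conjugate lines through a point: the rank 3 case is reached and refuted
-/

namespace Cfsg.Agent.Lib.Helper7.Syl22

open Subgroup MulAction
open Cfsg.Agent.Lib.Helper7.Syl35
open Cfsg.Agent.Lib.Helper7.SylGen
open scoped Pointwise

universe u

variable {G : Type u} [Group G] [Finite G]

/-- `P` is transitive on the other three points of a line with four points -/
theorem exists_smul_eq_of_mem_line (P : Sylow 3 G) (D : Subgroup G)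
    (hD : D ≤ (P : Subgroup G)) (hcard : Nat.card D * 3 = Nat.card P)
    (hline : Nat.card (line 3 D) = 4) (Q Q' : Sylow 3 G) (hQ : Q ∈ line 3 D) (hQP : Q ≠ P)
    (hQ' : Q' ∈ line 3 D) (hQP' : Q' ≠ P) : ∃ x ∈ (P : Subgroup G), x • Q = Q' := by
  have hDn := le_normalizer_of_card_mul P D hD hcard
  have hsub : orbit (P : Subgroup G) Q ⊆ line 3 D \ {P} := by
    rintro _ ⟨x, rfl⟩
    refine ⟨smul_mem_line hQ (hDn x.2), ?_⟩
    intro h
    have h1 : (x : G) • Q = P := h
    have h2 : (x : G) • P = P := sylow_smul_self P x.2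
    exact hQP (smul_left_cancel (x : G) (h1.trans h2.symm))
  have hQ3 : Q ∈ S3 P := mem_S3_of_mem_line D P Q (Ne.symm hQP) hD hQ hcard
  have hcard' : (orbit (P : Subgroup G) Q).ncard = 3 := by
    rw [← relIndex_eq_ncard_orbit]; exact hQ3
  have hc3 : (line 3 D \ {P}).ncard = 3 := by
    rw [Set.ncard_diff_singleton_of_mem (show P ∈ line 3 D from hD), ← Nat.card_coe_set_eq, hline]
  have heq : orbit (P : Subgroup G) Q = line 3 D \ {P} :=
    Set.eq_of_subset_of_ncard_le hsub (by rw [hcard', hc3]) (Set.toFinite _)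
  have hmem : Q' ∈ orbit (P : Subgroup G) Q := by
    rw [heq]; exact ⟨hQ', hQP'⟩
  obtain ⟨x, hx⟩ := hmem
  exact ⟨x, x.2, hx⟩

/-- the translates of the punctured line stay at distance 3 -/
theorem translate_mem_S3 (P : Sylow 3 G) (D : Subgroup G)
    (hD : D ≤ (P : Subgroup G)) (hcard : Nat.card D * 3 = Nat.card P)
    (Q : Sylow 3 G) (hQ : Q ∈ line 3 D) (hQP : Q ≠ P) (n : G)
    (hn : n ∈ normalizer ((P : Subgroup G) : Set G)) : n • Q ∈ S3 P := by
  have hQ3 : Q ∈ S3 P := mem_S3_of_mem_line D P Q (Ne.symm hQP) hD hQ hcard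
  have := smul_mem_S3 n hQ3
  rwa [smul_eq_self_of_mem_normalizer P hn] at this

/-- three points for each conjugate line -/
theorem relIndex_mul_three_le (P : Sylow 3 G) (D : Subgroup G)
    (hD : D ≤ (P : Subgroup G)) (hcard : Nat.card D * 3 = Nat.card P)
    (hline : Nat.card (line 3 D) = 4) :
    (normalizer (D : Set G)).relIndex (normalizer ((P : Subgroup G) : Set G)) * 3 ≤
      (S3 P).ncard := by
  obtain ⟨f, hf, hfn⟩ := exists_injective_translate P D hD hcard
  have hmem : ∀ x, f x ∈ S3 P := by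
    intro x
    obtain ⟨n, hn, hx⟩ := hfn x
    rw [hx]
    exact translate_mem_S3 P D hD hcard _ x.2.2.1 x.2.2.2 n hn
  let f' : _ → S3 P := fun x => ⟨f x, hmem x⟩
  have hf' : Function.Injective f' := by
    intro x y h
    exact hf (congrArg Subtype.val h)
  have h1 := Nat.card_le_card_of_injective f' hf'
  rw [Nat.card_prod, Nat.card_coe_set_eq, Nat.card_coe_set_eq,
    Set.ncard_diff_singleton_of_mem (show P ∈ line 3 D from hD), ← Nat.card_coe_set_eq (line 3 D),
    hline] at h1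
  exact h1

/-- if there are four conjugate lines, the normalizer of `P` is transitive on the points at
distance 3 -/
theorem transitive_of_relIndex_eq_four (P : Sylow 3 G) (D : Subgroup G)
    (hD : D ≤ (P : Subgroup G)) (hcard : Nat.card D * 3 = Nat.card P)
    (hline : Nat.card (line 3 D) = 4) (h12 : (S3 P).ncard = 12)
    (hr : (normalizer (D : Set G)).relIndex (normalizer ((P : Subgroup G) : Set G)) = 4)
    (Q₁ : Sylow 3 G) (hQ₁ : Q₁ ∈ line 3 D) (hQ₁P : Q₁ ≠ P) :
    ∀ Q ∈ S3 P, ∀ Q' ∈ S3 P, ∃ g ∈ normalizer ((P : Subgroup G) : Set G), g • Q = Q' := by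
  obtain ⟨f, hf, hfn⟩ := exists_injective_translate P D hD hcard
  have hmem : ∀ x, f x ∈ S3 P := by
    intro x
    obtain ⟨n, hn, hx⟩ := hfn x
    rw [hx]
    exact translate_mem_S3 P D hD hcard _ x.2.2.1 x.2.2.2 n hn
  have hrange : Set.range f = S3 P := by
    apply Set.eq_of_subset_of_ncard_le
    · rintro _ ⟨x, rfl⟩; exact hmem x
    · rw [← Nat.card_coe_set_eq (Set.range f), Nat.card_range_of_injective hf, Nat.card_prod, h12]
      have h1 : Nat.card ((normalizer ((P : Subgroup G) : Set G)) ⧸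
          ((normalizer (D : Set G)).subgroupOf (normalizer ((P : Subgroup G) : Set G)))) = 4 := hr
      rw [h1, Nat.card_coe_set_eq,
        Set.ncard_diff_singleton_of_mem (show P ∈ line 3 D from hD),
        ← Nat.card_coe_set_eq (line 3 D), hline]
    · exact Set.toFinite _
  have hall : ∀ Q ∈ S3 P, ∃ a ∈ normalizer ((P : Subgroup G) : Set G), a • Q₁ = Q := by
    intro Q hQ
    rw [← hrange] at hQ
    obtain ⟨x, rfl⟩ := hQ
    obtain ⟨n, hn, hx⟩ := hfn x
    obtain ⟨y, hy, hyQ⟩ := exists_smul_eq_of_mem_line P D hD hcard hline Q₁ (x.2 : Sylow 3 G)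
      hQ₁ hQ₁P x.2.2.1 x.2.2.2
    refine ⟨n * y, mul_mem hn (le_normalizer hy), ?_⟩
    rw [mul_smul, hyQ, hx]
  intro Q hQ Q' hQ'
  obtain ⟨a, ha, haQ⟩ := hall Q hQ
  obtain ⟨a', ha', haQ'⟩ := hall Q' hQ'
  refine ⟨a' * a⁻¹, mul_mem ha' (inv_mem ha), ?_⟩
  rw [← haQ, ← haQ', mul_smul, inv_smul_smul]

/-- there are not four conjugate lines through a point -/
theorem relIndex_ne_four (hsimp : ∀ M : Subgroup G, M.Normal → M = ⊥ ∨ M = ⊤)
    (hn : Nat.card (Sylow 3 G) = 22) (P : Sylow 3 G) (h9 : 9 ∣ Nat.card P)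
    (Q₁ : Sylow 3 G) (hQ₁ : Q₁ ∈ S3 P) :
    (normalizer (((P : Subgroup G) ⊓ Q₁ : Subgroup G) : Set G)).relIndex
      (normalizer ((P : Subgroup G) : Set G)) ≠ 4 := by
  intro hr
  obtain ⟨hc, _⟩ := pair_facts P Q₁ hQ₁ h9
  have hline := card_line_pair hsimp hn P Q₁ hQ₁ h9
  obtain ⟨h12, h9'⟩ := ncard_S3_eq hsimp hn P h9
  have htrans := transitive_of_relIndex_eq_four P _ inf_le_left hc hline h12 hr Q₁
    (show ((P : Subgroup G) ⊓ Q₁ : Subgroup G) ≤ Q₁ from inf_le_right) (ne_of_mem_S3 hQ₁)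
  exact false_of_rank_three hn P h9' h12 htrans

/-- hence there are exactly two, and the normalizer of the line has index 11 -/
theorem relIndex_eq_two (hsimp : ∀ M : Subgroup G, M.Normal → M = ⊥ ∨ M = ⊤)
    (hn : Nat.card (Sylow 3 G) = 22) (P : Sylow 3 G) (h9 : 9 ∣ Nat.card P)
    (Q₁ : Sylow 3 G) (hQ₁ : Q₁ ∈ S3 P) :
    (normalizer (((P : Subgroup G) ⊓ Q₁ : Subgroup G) : Set G)).relIndex
      (normalizer ((P : Subgroup G) : Set G)) = 2 ∧
    (normalizer (((P : Subgroup G) ⊓ Q₁ : Subgroup G) : Set G)).index = 11 := by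
  obtain ⟨hc, hD1⟩ := pair_facts P Q₁ hQ₁ h9
  have h1 := card_line_eq_four hsimp hn P _ inf_le_left hc hD1 Q₁
    (show ((P : Subgroup G) ⊓ Q₁ : Subgroup G) ≤ Q₁ from inf_le_right) (ne_of_mem_S3 hQ₁)
  have h2 := relIndex_mul_three_le P _ inf_le_left hc h1.1
  have h3 := relIndex_ne_four hsimp hn P h9 Q₁ hQ₁
  obtain ⟨h12, _⟩ := ncard_S3_eq hsimp hn P h9
  have hr : 0 < (normalizer (((P : Subgroup G) ⊓ Q₁ : Subgroup G) : Set G)).relIndex
      (normalizer ((P : Subgroup G) : Set G)) :=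
    Nat.pos_of_ne_zero (by unfold relIndex; exact index_ne_zero_of_finite)
  have h4 := h1.2
  omega

end Cfsg.Agent.Lib.Helper7.Syl22
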