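import Mathlib
import Cfsg.Agent.S0675

set_option autoImplicit false

/-!
# A subgroup of index 11 in a simple group, via Burnside's theorem on prime degree
-/

namespace Cfsg.Agent.Lib.Helper7.Syl22

open Subgroup MulAction
open scoped commutatorElement

universe u

variable {G : Type u} [Group G] [Finite G]

/-- a solvable group without proper nontrivial normal subgroups is commutative -/
theorem comm_of_solvable (hsimp : ∀ M : Subgroup G, M.Normal → M = ⊥ ∨ M = ⊤)
    (hsol : Group.IsSolvable G) (a b : G) : a * b = b * a := by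
  haveI := hsol
  rcases subsingleton_or_nontrivial G with h | h
  · exact Subsingleton.elim _ _
  · have h1 := Group.IsSolvable.commutator_lt_top_of_nontrivial G
    rcases hsimp (commutator G) inferInstance with h2 | h2
    · have h3 : ⁅a, b⁆ ∈ commutator G := by
        rw [_root_.commutator_def]
        exact commutator_mem_commutator (mem_top a) (mem_top b)
      rw [h2, mem_bot, commutatorElement_eq_one_iff_mul_comm] at h3
      exact h3
    · rw [h2] at h1
      exact absurd h1 (lt_irrefl _)

/-- a simple noncommutative group has no subgroup `M` of index 11 together with a subgroup `N` of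
index 22 such that `|N : N ∩ M| = 2` -/
theorem false_of_index_eleven (hsimp : ∀ M : Subgroup G, M.Normal → M = ⊥ ∨ M = ⊤)
    (hnonab : ¬ ∀ a b : G, a * b = b * a) (M N : Subgroup G) (hM : M.index = 11)
    (hN : N.index = 22) (hr : M.relIndex N = 2) : False := by
  classical
  haveI : Fintype (G ⧸ M) := Fintype.ofFinite _
  have hcard : Fintype.card (G ⧸ M) = 11 := by
    rw [← Nat.card_eq_fintype_card, ← index_eq_card, hM]
  -- the subgroup K = M ⊓ N of index 44
  have hK : (M ⊓ N).index = 44 := by
    have h1 := relIndex_mul_index (H := M ⊓ N) (K := N) inf_le_right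
    rw [inf_relIndex_right, hr, hN] at h1
    rw [← h1]
  obtain ⟨n, hnN, hnM⟩ : ∃ n ∈ N, n ∉ M := by
    by_contra hcon
    push Not at hcon
    have : M.relIndex N = 1 := relIndex_eq_one.mpr hcon
    omega
  haveI hnorm : (M.subgroupOf N).Normal := normal_of_index_eq_two hr
  set a : G ⧸ M := ((1 : G) : G ⧸ M) with ha
  set b : G ⧸ M := ((n : G) : G ⧸ M) with hb
  have hab : a ≠ b := by
    intro h
    rw [ha, hb, QuotientGroup.eq, inv_one, one_mul] at h
    exact hnM h
  have hKa : ∀ k ∈ M ⊓ N, k • a = a := by
    intro k hk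
    show ((k * 1 : G) : G ⧸ M) = ((1 : G) : G ⧸ M)
    rw [QuotientGroup.eq, mul_one, mul_one]
    exact inv_mem hk.1
  have hKb : ∀ k ∈ M ⊓ N, k • b = b := by
    intro k hk
    show ((k * n : G) : G ⧸ M) = ((n : G) : G ⧸ M)
    rw [QuotientGroup.eq]
    have h1 : (⟨k⁻¹, inv_mem hk.2⟩ : N) ∈ M.subgroupOf N := by
      rw [mem_subgroupOf]; exact inv_mem hk.1
    have h2 := hnorm.conj_mem _ h1 ⟨n⁻¹, inv_mem hnN⟩
    rw [mem_subgroupOf] at h2
    have h3 : (k * n)⁻¹ * n = n⁻¹ * k⁻¹ * n⁻¹⁻¹ := by group
    rw [h3]
    exact h2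
  -- Burnside
  let H : Subgroup (Equiv.Perm (G ⧸ M)) := (MulAction.toPermHom G (G ⧸ M)).range
  haveI : MulAction.IsPretransitive H (G ⧸ M) := by
    constructor
    intro x y
    obtain ⟨g, hg⟩ := MulAction.exists_smul_eq G x y
    exact ⟨⟨MulAction.toPermHom G (G ⧸ M) g, ⟨g, rfl⟩⟩, hg⟩
  have hprime : (Fintype.card (G ⧸ M)).Prime := by rw [hcard]; norm_num
  rcases Cfsg.Agent.S0675.result hprime H with hsol | h2t
  · -- solvable
    apply hnonab
    have hker : (MulAction.toPermHom G (G ⧸ M)).ker = ⊥ := by
      rcases hsimp _ (inferInstance : (MulAction.toPermHom G (G ⧸ M)).ker.Normal) with h | h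
      · exact h
      · exfalso
        have : n ∈ (MulAction.toPermHom G (G ⧸ M)).ker := by rw [h]; exact mem_top n
        rw [MonoidHom.mem_ker] at this
        have h1 : (MulAction.toPermHom G (G ⧸ M) n) a = a := by rw [this]; rfl
        have h2 : (MulAction.toPermHom G (G ⧸ M) n) a = b := by
          show ((n * 1 : G) : G ⧸ M) = ((n : G) : G ⧸ M)
          rw [mul_one]
        exact hab (h1.symm.trans h2)
    have hinj : Function.Injective (MulAction.toPermHom G (G ⧸ M)).rangeRestrict := by
      rw [← MonoidHom.ker_eq_bot_iff, MonoidHom.ker_rangeRestrict]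
      exact hker
    haveI : Group.IsSolvable H := hsol
    have hGsol : Group.IsSolvable G := Group.isSolvable_of_isSolvable_injective hinj
    exact comm_of_solvable hsimp hGsol
  · -- doubly transitive
    have h2G : ∀ e e' : Fin 2 ↪ (G ⧸ M), ∃ g : G, g • e = e' := by
      intro e e'
      obtain ⟨⟨_, ⟨g, rfl⟩⟩, hh⟩ := h2t.exists_smul_eq e e'
      refine ⟨g, ?_⟩
      rw [← hh]
      rfl
    let e₁ : Fin 2 ↪ (G ⧸ M) := ⟨![a, b], by
      intro i j hij
      fin_cases i <;> fin_cases j <;> simp_all⟩
    have horb : orbit G e₁ = Set.univ := by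
      ext e
      simp only [Set.mem_univ, iff_true]
      obtain ⟨g, hg⟩ := h2G e₁ e
      exact ⟨g, hg⟩
    have hidx : (stabilizer G e₁).index = 110 := by
      rw [index_stabilizer, horb, Set.ncard_univ, Nat.card_eq_fintype_card,
        Fintype.card_embedding_eq, hcard]
      rfl
    have hle : M ⊓ N ≤ stabilizer G e₁ := by
      intro k hk
      rw [mem_stabilizer_iff]
      ext i
      rw [Function.Embedding.smul_apply]
      fin_cases i
      · exact hKa k hk
      · exact hKb k hk
    have hdvd := index_dvd_of_le hle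
    rw [hidx, hK] at hdvd
    norm_num at hdvd

end Cfsg.Agent.Lib.Helper7.Syl22
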