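import Mathlib
import Cfsg.Agent.Lib.Helper7.Syl22I
import Cfsg.Agent.Lib.Helper7.Syl22J

set_option autoImplicit false

/-!
# Sylow 3-subgroups of order at least 9 are impossible
-/

namespace Cfsg.Agent.Lib.Helper7.Syl22

open Subgroup MulAction
open Cfsg.Agent.Lib.Helper7.Syl35
open Cfsg.Agent.Lib.Helper7.SylGen
open scoped Pointwise

universe u

variable {G : Type u} [Group G] [Finite G]

/-- a group with 22 Sylow 3-subgroups is not commutative -/
theorem not_comm (hn : Nat.card (Sylow 3 G) = 22) : ¬ ∀ a b : G, a * b = b * a := by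
  intro hcomm
  have : Nat.card (Sylow 3 G) = 1 := by
    rw [Nat.card_eq_one_iff_unique]
    refine ⟨⟨fun Q Q' => ?_⟩, inferInstance⟩
    obtain ⟨g, hg⟩ := MulAction.exists_smul_eq G Q Q'
    have h1 : g • Q = Q := by
      have hgn : g ∈ normalizer ((Q : Subgroup G) : Set G) := by
        rw [mem_normalizer_iff]
        intro h
        have : g * h * g⁻¹ = h := by rw [hcomm g h, mul_assoc, mul_inv_cancel, mul_one]
        rw [this]
      exact Sylow.smul_eq_iff_mem_normalizer.mpr hgn
    rw [← hg, h1]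
  omega

/-- the case `|P| ≥ 9` -/
theorem false_of_big (hsimp : ∀ M : Subgroup G, M.Normal → M = ⊥ ∨ M = ⊤)
    (hn : Nat.card (Sylow 3 G) = 22) (P : Sylow 3 G) (h9 : 9 ∣ Nat.card P) : False := by
  obtain ⟨h12, _⟩ := ncard_S3_eq hsimp hn P h9
  obtain ⟨Q₁, hQ₁⟩ : (S3 P).Nonempty := by
    rw [← Set.ncard_pos (Set.toFinite _), h12]; norm_num
  obtain ⟨hr, hi⟩ := relIndex_eq_two hsimp hn P h9 Q₁ hQ₁
  have hN : (normalizer ((P : Subgroup G) : Set G)).index = 22 := by
    rw [← hn]; exact P.card_eq_index_normalizer.symm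
  exact false_of_index_eleven hsimp (not_comm hn) _ _ hi hN hr

end Cfsg.Agent.Lib.Helper7.Syl22
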