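import Mathlib
import Cfsg.Agent.Lib.Helper7.Syl22B

set_option autoImplicit false

/-!
# Fixed point tools for the case `|P| = 3`
-/

namespace Cfsg.Agent.Lib.Helper7.Syl22

open Subgroup MulAction
open Cfsg.Agent.Lib.Helper7.Syl35
open Cfsg.Agent.Lib.Helper7.SylGen

universe u

variable {G : Type u} [Group G] [Finite G]

/-- elements of odd order normalizing a Sylow 3-subgroup of order 3 centralize it -/
theorem mem_centralizer_of_odd (P : Sylow 3 G) (hP : Nat.card P = 3) (z : G)
    (hz : z ∈ normalizer ((P : Subgroup G) : Set G)) (hodd : Odd (orderOf z)) :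
    z ∈ centralizer ((P : Subgroup G) : Set G) := by
  haveI : IsCyclic (P : Subgroup G) := isCyclic_of_prime_card hP
  have hcard : Nat.card (MulAut (P : Subgroup G)) = 2 := by
    rw [IsCyclic.card_mulAut, hP, Nat.totient_prime Nat.prime_three]
  set z' : normalizer ((P : Subgroup G) : Set G) := ⟨z, hz⟩ with hz'
  have h1 : orderOf ((P : Subgroup G).normalizerMonoidHom z') ∣ 2 := by
    rw [← hcard]; exact orderOf_dvd_natCard _
  have h2 : orderOf ((P : Subgroup G).normalizerMonoidHom z') ∣ orderOf z' :=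
    orderOf_map_dvd _ z'
  have h3 : orderOf z' = orderOf z := Subgroup.orderOf_mk z hz
  rw [h3] at h2
  have h4 : orderOf ((P : Subgroup G).normalizerMonoidHom z') = 1 := by
    have hcop : Nat.Coprime 2 (orderOf z) := (Nat.coprime_two_left).mpr hodd
    exact Nat.eq_one_of_dvd_coprimes hcop h1 h2
  rw [orderOf_eq_one_iff] at h4
  have h5 : z' ∈ ((P : Subgroup G).normalizerMonoidHom).ker := h4
  rw [normalizerMonoidHom_ker, mem_subgroupOf] at h5
  exact h5

/-- fixed points of an element of prime order on an invariant set of Sylow subgroups -/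
theorem card_invariant_modEq_prime {p : ℕ} (w : G) {t : ℕ} (ht : t.Prime) (hw : orderOf w = t)
    (A : Set (Sylow p G)) (hA : ∀ Q ∈ A, w • Q ∈ A) :
    Nat.card A ≡ Nat.card {Q : Sylow p G | Q ∈ A ∧ w • Q = Q} [MOD t] := by
  classical
  haveI : Fact t.Prime := ⟨ht⟩
  haveI : Fintype A := Fintype.ofFinite _
  let f : Function.End A := fun Q => ⟨w • Q.1, hA Q.1 Q.2⟩
  have hpow : ∀ (n : ℕ) (Q : A), (((f ^ n) Q : A) : Sylow p G) = w ^ n • (Q : Sylow p G) := by
    intro n
    induction n with
    | zero => intro Q; rw [pow_zero, pow_zero, one_smul]; rfl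
    | succ n ih =>
      intro Q
      rw [pow_succ, pow_succ]
      show (((f ^ n) (f Q) : A) : Sylow p G) = _
      rw [ih, mul_smul]
  have hf : f ^ t ^ 1 = 1 := by
    funext Q
    apply Subtype.ext
    rw [pow_one, hpow, ← hw, pow_orderOf_eq_one, one_smul]; rfl
  have hmodt := Equiv.Perm.card_fixedPoints_modEq (p := t) (n := 1) (f := f) hf
  have e : Function.fixedPoints f ≃ {Q : Sylow p G | Q ∈ A ∧ w • Q = Q} :=
    { toFun := fun x => ⟨x.1.1, x.1.2, congrArg Subtype.val x.2⟩
      invFun := fun y => ⟨⟨y.1, y.2.1⟩, Subtype.ext y.2.2⟩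
      left_inv := fun x => rfl
      right_inv := fun y => rfl }
  rw [← Nat.card_eq_fintype_card, ← Nat.card_eq_fintype_card, Nat.card_congr e] at hmodt
  exact hmodt

/-- a fixed point exists when `fxp` is positive -/
theorem exists_fixed_of_fxp_pos {p : ℕ} (z : G) (h : 0 < fxp p z) :
    ∃ Q : Sylow p G, z • Q = Q := by
  unfold fxp at h
  obtain ⟨⟨Q, hQ⟩⟩ := (Nat.card_pos_iff.mp h).1
  exact ⟨Q, hQ⟩

/-- uniqueness of the fixed point when `fxp = 1` -/
theorem eq_of_fxp_eq_one {p : ℕ} (z : G) (h : fxp p z = 1) (Q Q' : Sylow p G)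
    (hQ : z • Q = Q) (hQ' : z • Q' = Q') : Q = Q' := by
  unfold fxp at h
  have := (Nat.card_eq_one_iff_unique.mp h).1
  have h1 : (⟨Q, hQ⟩ : {Q : Sylow p G | z • Q = Q}) = ⟨Q', hQ'⟩ := Subsingleton.elim _ _
  exact congrArg Subtype.val h1

/-- `fxp` is at least the size of any set of fixed points -/
theorem ncard_le_fxp {p : ℕ} (z : G) (A : Set (Sylow p G)) (hA : ∀ Q ∈ A, z • Q = Q) :
    A.ncard ≤ fxp p z := by
  unfold fxp
  rw [Nat.card_coe_set_eq]
  exact Set.ncard_le_ncard hA (Set.toFinite _)

/-- an element centralizing `Q` lies in ... -/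
theorem le_centralizer_singleton {H : Subgroup G} {z : G}
    (hz : z ∈ centralizer (H : Set G)) : H ≤ centralizer ({z} : Set G) := by
  intro q hq
  rw [mem_centralizer_singleton_iff]
  exact (mem_centralizer_iff.mp hz) q hq

/-- if `z` centralizes every Sylow subgroup which it normalizes then the number of these divides
the order of the centralizer of `z` -/
theorem fxp_dvd_card_centralizer {p : ℕ} [Fact p.Prime] (z : G) (P : Sylow p G) (hP : z • P = P)
    (hcent : ∀ Q : Sylow p G, z • Q = Q → z ∈ centralizer ((Q : Subgroup G) : Set G)) :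
    fxp p z ∣ Nat.card (centralizer ({z} : Set G)) := by
  set Z := centralizer ({z} : Set G) with hZ
  have horb : orbit Z P = {Q : Sylow p G | z • Q = Q} := by
    ext Q
    constructor
    · rintro ⟨c, rfl⟩
      show z • ((c : G) • P) = (c : G) • P
      have hc : (c : G) * z = z * c := mem_centralizer_singleton_iff.mp c.2
      rw [← mul_smul, ← hc, mul_smul, hP]
    · intro hQ
      have h1 : (P : Subgroup G) ≤ Z := le_centralizer_singleton (hcent P hP)
      have h2 : (Q : Subgroup G) ≤ Z := le_centralizer_singleton (hcent Q hQ)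
      obtain ⟨m, hm, hmQ⟩ := exists_smul_eq_of_le Z P Q h1 h2
      exact ⟨⟨m, hm⟩, hmQ⟩
  have h3 : fxp p z = (stabilizer Z P).index := by
    rw [index_stabilizer, horb]
    unfold fxp
    rw [Nat.card_coe_set_eq]
  rw [h3]
  exact index_dvd_card _

end Cfsg.Agent.Lib.Helper7.Syl22
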