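import Mathlib
import Cfsg.Agent.Lib.Helper7.Syl22L

set_option autoImplicit false

/-!
# The case `|P| = 3`: the order of the group is prime to 5
-/

namespace Cfsg.Agent.Lib.Helper7.Syl22

open Subgroup MulAction
open Cfsg.Agent.Lib.Helper7.Syl35
open Cfsg.Agent.Lib.Helper7.SylGen

universe u

variable {G : Type u} [Group G] [Finite G]

/-- basic facts on the fixed points of an element of odd prime order -/
theorem fxp_facts (hsimp : ∀ M : Subgroup G, M.Normal → M = ⊥ ∨ M = ⊤)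
    (hn : Nat.card (Sylow 3 G) = 22) (hP3 : ∀ P : Sylow 3 G, Nat.card P = 3) (z : G) {t : ℕ}
    (ht : t.Prime) (ht2 : t ≠ 2) (hz : orderOf z = t) :
    (∀ Q : Sylow 3 G, z • Q = Q → z ∈ centralizer ((Q : Subgroup G) : Set G)) ∧
    22 ≡ fxp 3 z [MOD t] ∧ fxp 3 z < 22 ∧ (0 < fxp 3 z → fxp 3 z ≡ 1 [MOD 3]) := by
  have hcent : ∀ Q : Sylow 3 G, z • Q = Q → z ∈ centralizer ((Q : Subgroup G) : Set G) := by
    intro Q hQ
    apply mem_centralizer_of_odd Q (hP3 Q) z (Sylow.smul_eq_iff_mem_normalizer.mp hQ)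
    rw [hz]
    exact ht.odd_of_ne_two ht2
  refine ⟨hcent, ?_, ?_, ?_⟩
  · have := fxp_modEq_prime (p := 3) z ht hz
    rwa [hn] at this
  · have h1 := fxp_le 3 z
    rw [hn] at h1
    have h2 : fxp 3 z ≠ 22 := by
      intro h
      have hn1 : Nat.card (Sylow 3 G) ≠ 1 := by rw [hn]; norm_num
      have h3 := eq_one_of_fxp_eq hsimp hn1 z (by rw [h, hn])
      rw [h3, orderOf_one] at hz
      exact ht.one_lt.ne hz
    omega
  · intro hpos
    obtain ⟨Q, hQ⟩ := exists_fixed_of_fxp_pos z hpos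
    exact fxp_modEq_of_centralizing Q z (hcent Q hQ)

/-- elements of order 5 fix exactly 7 points -/
theorem fxp_of_order_five (hsimp : ∀ M : Subgroup G, M.Normal → M = ⊥ ∨ M = ⊤)
    (hn : Nat.card (Sylow 3 G) = 22) (hP3 : ∀ P : Sylow 3 G, Nat.card P = 3) (z : G)
    (hz : orderOf z = 5) : fxp 3 z = 7 := by
  obtain ⟨_, h2, h3, h4⟩ := fxp_facts hsimp hn hP3 z (by norm_num : Nat.Prime 5) (by norm_num) hz
  unfold Nat.ModEq at h2 h4
  have hpos : 0 < fxp 3 z := by omega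
  have := h4 hpos
  omega

/-- elements of order 7 fix exactly 1 point -/
theorem fxp_of_order_seven (hsimp : ∀ M : Subgroup G, M.Normal → M = ⊥ ∨ M = ⊤)
    (hn : Nat.card (Sylow 3 G) = 22) (hP3 : ∀ P : Sylow 3 G, Nat.card P = 3) (z : G)
    (hz : orderOf z = 7) : fxp 3 z = 1 := by
  obtain ⟨_, h2, h3, h4⟩ := fxp_facts hsimp hn hP3 z (by norm_num : Nat.Prime 7) (by norm_num) hz
  unfold Nat.ModEq at h2 h4
  have hpos : 0 < fxp 3 z := by omega
  have := h4 hpos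
  omega

/-- the order of the group is prime to 5 -/
theorem five_not_dvd (hsimp : ∀ M : Subgroup G, M.Normal → M = ⊥ ∨ M = ⊤)
    (hn : Nat.card (Sylow 3 G) = 22) (hP3 : ∀ P : Sylow 3 G, Nat.card P = 3) :
    ¬ 5 ∣ Nat.card G := by
  intro h5
  haveI : Fact (Nat.Prime 5) := ⟨by norm_num⟩
  haveI : Fact (Nat.Prime 7) := ⟨by norm_num⟩
  obtain ⟨z, hz⟩ := exists_prime_orderOf_dvd_card' 5 h5
  have hfz := fxp_of_order_five hsimp hn hP3 z hz
  obtain ⟨hcent, _, _, _⟩ :=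
    fxp_facts hsimp hn hP3 z (by norm_num : Nat.Prime 5) (by norm_num) hz
  obtain ⟨P', hP'⟩ := exists_fixed_of_fxp_pos z (by rw [hfz]; norm_num)
  have h7 := fxp_dvd_card_centralizer z P' hP' hcent
  rw [hfz] at h7
  obtain ⟨w', hw'⟩ := exists_prime_orderOf_dvd_card' 7 h7
  set w : G := (w' : G) with hw
  have hwo : orderOf w = 7 := by rw [hw, Subgroup.orderOf_coe]; exact hw'
  have hcomm : w * z = z * w := mem_centralizer_singleton_iff.mp w'.2
  have hfw := fxp_of_order_seven hsimp hn hP3 w hwo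
  obtain ⟨P₁, hP₁⟩ := exists_fixed_of_fxp_pos w (by rw [hfw]; norm_num)
  have hzP₁ : z • P₁ = P₁ := by
    apply eq_of_fxp_eq_one w hfw _ _ _ hP₁
    rw [← mul_smul, hcomm, mul_smul, hP₁]
  -- w acts on the fixed points of z
  have hmod := card_invariant_modEq_prime w (by norm_num : Nat.Prime 7) hwo
    {Q : Sylow 3 G | z • Q = Q} (by
      intro Q hQ
      have hQ' : z • Q = Q := hQ
      show z • (w • Q) = w • Q
      rw [← mul_smul, ← hcomm, mul_smul, hQ'])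
  have h1 : Nat.card {Q : Sylow 3 G | z • Q = Q} = 7 := hfz
  have h2 : Nat.card {Q : Sylow 3 G | Q ∈ {Q : Sylow 3 G | z • Q = Q} ∧ w • Q = Q} = 1 := by
    rw [Nat.card_eq_one_iff_unique]
    refine ⟨⟨?_⟩, ⟨⟨P₁, hzP₁, hP₁⟩⟩⟩
    rintro ⟨Q, _, hQ⟩ ⟨Q', _, hQ'⟩
    apply Subtype.ext
    exact eq_of_fxp_eq_one w hfw Q Q' hQ hQ'
  rw [h1, h2] at hmod
  exact absurd hmod (by decide)

end Cfsg.Agent.Lib.Helper7.Syl22
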