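import Mathlib
import Cfsg.Agent.Lib.Helper7.Syl22M

set_option autoImplicit false

/-!
# The case `|P| = 3`: the centralizer of `P` has odd order
-/

namespace Cfsg.Agent.Lib.Helper7.Syl22

open Subgroup MulAction
open Cfsg.Agent.Lib.Helper7.Syl35
open Cfsg.Agent.Lib.Helper7.SylGen

universe u

variable {G : Type u} [Group G] [Finite G]

/-- distinct Sylow subgroups of prime order meet trivially -/
theorem inf_eq_bot_of_ne (P Q : Sylow 3 G) (hP : Nat.card P = 3) (hne : P ≠ Q) :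
    (P : Subgroup G) ⊓ Q = ⊥ := by
  have h1 : Nat.card ((P : Subgroup G) ⊓ Q : Subgroup G) ∣ 3 := by
    have h0 := card_dvd_of_le (inf_le_left : (P : Subgroup G) ⊓ Q ≤ P)
    rwa [hP] at h0
  rcases (Nat.dvd_prime Nat.prime_three).mp h1 with h | h
  · exact card_eq_one.mp h
  · exfalso
    have h2 : (P : Subgroup G) ⊓ Q = P :=
      eq_of_le_of_card_ge inf_le_left (by rw [h, hP])
    have h3 : (P : Subgroup G) ≤ Q := by rw [← h2]; exact inf_le_right
    exact hne (Sylow.ext (P.3 Q.2 h3)).symm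

/-- the core of the counting argument for an inverting element -/
theorem smul_not_fixed (P' : Sylow 3 G) (hP' : Nat.card P' = 3) (k : G)
    (hkN : k ∈ normalizer ((P' : Subgroup G) : Set G)) (v : G) (hv : v ∈ (P' : Subgroup G))
    (hvk : v * k ≠ k * v) (Y : Sylow 3 G) (hY : k • Y = Y) (hYP : Y ≠ P') :
    k • (v • Y) ≠ v • Y := by
  intro h
  set w : G := v⁻¹ * (k * v * k⁻¹) with hw
  have hwY : w • Y = Y := by
    have h1 : k⁻¹ • Y = Y := by rw [inv_smul_eq_iff, hY]
    rw [hw, mul_smul, mul_smul, mul_smul, h1, h, inv_smul_smul]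
  have hwP : w ∈ (P' : Subgroup G) := by
    apply mul_mem (inv_mem hv)
    exact (mem_normalizer_iff.mp hkN v).mp hv
  have hw1 : w ≠ 1 := by
    intro h1
    apply hvk
    have h2 : k * v * k⁻¹ = v := by
      have : v * w = v := by rw [h1, mul_one]
      rw [hw, mul_inv_cancel_left] at this
      exact this
    calc v * k = (k * v * k⁻¹) * k := by rw [h2]
      _ = k * v := by group
  have hwN : w ∈ normalizer ((Y : Subgroup G) : Set G) :=
    Sylow.smul_eq_iff_mem_normalizer.mp hwY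
  have h2 := IsPGroup.inf_normalizer_sylow P'.2 Y
  have h3 : w ∈ (P' : Subgroup G) ⊓ Y := by
    rw [← h2]; exact ⟨hwP, hwN⟩
  rw [inf_eq_bot_of_ne P' Y hP' (Ne.symm hYP), mem_bot] at h3
  exact hw1 h3

/-- an element normalizing but not centralizing `P'` has at most 8 fixed points -/
theorem fxp_le_eight (hn : Nat.card (Sylow 3 G) = 22) (P' : Sylow 3 G) (hP' : Nat.card P' = 3)
    (k : G) (hkN : k ∈ normalizer ((P' : Subgroup G) : Set G))
    (hkC : k ∉ centralizer ((P' : Subgroup G) : Set G)) : fxp 3 k ≤ 8 := by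
  obtain ⟨u, hu, huk⟩ : ∃ u ∈ (P' : Subgroup G), u * k ≠ k * u := by
    by_contra hcon
    push Not at hcon
    exact hkC (mem_centralizer_iff.mpr hcon)
  have hu3 : u ^ 3 = 1 := by
    have := pow_card_eq_one' (G := (P' : Subgroup G)) (x := ⟨u, hu⟩)
    rw [hP'] at this
    exact congrArg Subtype.val this
  have huinv : u * u = u⁻¹ := by
    rw [eq_inv_iff_mul_eq_one, ← pow_two, ← pow_succ, hu3]
  have hu'k : u⁻¹ * k ≠ k * u⁻¹ := by
    intro h
    apply huk
    calc u * k = u * (k * u⁻¹) * u := by group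
      _ = u * (u⁻¹ * k) * u := by rw [h]
      _ = k * u := by group
  set F : Set (Sylow 3 G) := {Y | k • Y = Y ∧ Y ≠ P'} with hF
  set F₁ : Set (Sylow 3 G) := (fun Y => u • Y) '' F with hF₁
  set F₂ : Set (Sylow 3 G) := (fun Y => u⁻¹ • Y) '' F with hF₂
  have hd1 : Disjoint F F₁ := by
    rw [Set.disjoint_left]
    rintro X hX ⟨Y, hY, rfl⟩
    exact smul_not_fixed P' hP' k hkN u hu huk Y hY.1 hY.2 hX.1
  have hd2 : Disjoint F F₂ := by
    rw [Set.disjoint_left]
    rintro X hX ⟨Y, hY, rfl⟩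
    exact smul_not_fixed P' hP' k hkN u⁻¹ (inv_mem hu) hu'k Y hY.1 hY.2 hX.1
  have hd3 : Disjoint F₁ F₂ := by
    rw [Set.disjoint_left]
    rintro X ⟨Y, hY, rfl⟩ ⟨Y', hY', h⟩
    have h1 : Y' = u⁻¹ • Y := by
      have h2 : u⁻¹ • Y' = u • Y := h
      have h3 : Y' = u • (u • Y) := by rw [← h2, smul_inv_smul]
      rw [h3, ← mul_smul, huinv]
    rw [h1] at hY'
    exact smul_not_fixed P' hP' k hkN u⁻¹ (inv_mem hu) hu'k Y hY.1 hY.2 hY'.1
  have hsub : F ∪ F₁ ∪ F₂ ⊆ {P'}ᶜ := by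
    rintro X ((hX | ⟨Y, hY, rfl⟩) | ⟨Y, hY, rfl⟩)
    · exact hX.2
    · intro h
      have h1 : u • Y = P' := h
      have h2 : u • P' = P' := sylow_smul_self P' hu
      exact hY.2 (smul_left_cancel u (h1.trans h2.symm))
    · intro h
      have h1 : u⁻¹ • Y = P' := h
      have h2 : u⁻¹ • P' = P' := sylow_smul_self P' (inv_mem hu)
      exact hY.2 (smul_left_cancel u⁻¹ (h1.trans h2.symm))
  have hc1 : F₁.ncard = F.ncard := Set.ncard_image_of_injective _ (MulAction.injective u)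
  have hc2 : F₂.ncard = F.ncard := Set.ncard_image_of_injective _ (MulAction.injective u⁻¹)
  have hcu : (F ∪ F₁ ∪ F₂).ncard = F.ncard + F₁.ncard + F₂.ncard := by
    rw [Set.ncard_union_eq (Set.disjoint_union_left.mpr ⟨hd2, hd3⟩) (Set.toFinite _)
      (Set.toFinite _), Set.ncard_union_eq hd1 (Set.toFinite _) (Set.toFinite _)]
  have hle := Set.ncard_le_ncard hsub (Set.toFinite _)
  rw [hcu, hc1, hc2, Set.ncard_compl, Set.ncard_singleton, hn] at hle
  have hfx : fxp 3 k = F.ncard + 1 := by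
    unfold fxp
    rw [Nat.card_coe_set_eq]
    have hmem : P' ∈ {Q : Sylow 3 G | k • Q = Q} := Sylow.smul_eq_iff_mem_normalizer.mpr hkN
    have : F = {Q : Sylow 3 G | k • Q = Q} \ {P'} := by
      ext Y; rfl
    rw [this, Set.ncard_sdiff_singleton_add_one hmem (Set.toFinite _)]
  omega

/-- no involution centralizes a Sylow 3-subgroup -/
theorem no_involution_centralizing (hsimp : ∀ M : Subgroup G, M.Normal → M = ⊥ ∨ M = ⊤)
    (hn : Nat.card (Sylow 3 G) = 22) (hP3 : ∀ P : Sylow 3 G, Nat.card P = 3) (P : Sylow 3 G)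
    (k : G) (hk : k ∈ centralizer ((P : Subgroup G) : Set G)) (hk2 : orderOf k = 2) : False := by
  have h1 : fxp 3 k ≡ 1 [MOD 3] := fxp_modEq_of_centralizing P k hk
  obtain ⟨m, hm⟩ := fxp_involution (p := 3) hsimp (by rw [hn]; norm_num) k hk2
  rw [hn] at hm
  have hk1 : k ≠ 1 := by
    intro h; rw [h, orderOf_one] at hk2; norm_num at hk2
  have h22 : fxp 3 k ≠ 22 := by
    intro h
    have hn1 : Nat.card (Sylow 3 G) ≠ 1 := by rw [hn]; norm_num
    exact hk1 (eq_one_of_fxp_eq hsimp hn1 k (by rw [h, hn]))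
  have h10 : fxp 3 k = 10 := by
    unfold Nat.ModEq at h1
    omega
  have hcent : ∀ Q : Sylow 3 G, k • Q = Q → k ∈ centralizer ((Q : Subgroup G) : Set G) := by
    intro Q hQ
    by_contra hcon
    have := fxp_le_eight hn Q (hP3 Q) k (Sylow.smul_eq_iff_mem_normalizer.mp hQ) hcon
    omega
  have hPfix : k • P = P :=
    Sylow.smul_eq_iff_mem_normalizer.mpr (centralizer_le_normalizer _ hk)
  have hdvd := fxp_dvd_card_centralizer k P hPfix hcent
  rw [h10] at hdvd
  apply five_not_dvd hsimp hn hP3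
  exact (Dvd.intro_left 2 rfl : 5 ∣ 10).trans (hdvd.trans (card_subgroup_dvd_card _))

end Cfsg.Agent.Lib.Helper7.Syl22
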