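import Mathlib
import Cfsg.Agent.Lib.Helper7.Syl22N

set_option autoImplicit false

/-!
# The case `|P| = 3`: the order of the group and the final contradiction
-/

namespace Cfsg.Agent.Lib.Helper7.Syl22

open Subgroup MulAction
open Cfsg.Agent.Lib.Helper7.Syl35
open Cfsg.Agent.Lib.Helper7.SylGen

universe u

variable {G : Type u} [Group G] [Finite G]

/-- arithmetic: prime divisors of `22 - f` -/
theorem prime_dvd_cases {t f : ℕ} (ht : t.Prime)
    (hf : f = 4 ∨ f = 7 ∨ f = 10 ∨ f = 13 ∨ f = 16 ∨ f = 19) (hdvd : t ∣ 22 - f) :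
    t = 2 ∨ t = 3 ∨ t = 5 := by
  rcases hf with rfl | rfl | rfl | rfl | rfl | rfl
  all_goals
    norm_num at hdvd
    have hle := Nat.le_of_dvd (by norm_num) hdvd
    interval_cases t
    all_goals first | omega | (exfalso; norm_num at hdvd; done) | (exfalso; norm_num at ht; done)

/-- no nontrivial element centralizes `P` and normalizes another Sylow subgroup `P'` -/
theorem centralizer_inf_normalizer_eq_bot (hsimp : ∀ M : Subgroup G, M.Normal → M = ⊥ ∨ M = ⊤)
    (hn : Nat.card (Sylow 3 G) = 22) (hP3 : ∀ P : Sylow 3 G, Nat.card P = 3)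
    (P P' : Sylow 3 G) (hne : P ≠ P') :
    centralizer ((P : Subgroup G) : Set G) ⊓ normalizer ((P' : Subgroup G) : Set G) = ⊥ := by
  by_contra hT
  set T := centralizer ((P : Subgroup G) : Set G) ⊓ normalizer ((P' : Subgroup G) : Set G)
    with hTdef
  have hT1 : Nat.card T ≠ 1 := fun h => hT (card_eq_one.mp h)
  obtain ⟨t, ht, htd⟩ := Nat.exists_prime_and_dvd hT1
  haveI : Fact t.Prime := ⟨ht⟩
  obtain ⟨z', hz'⟩ := exists_prime_orderOf_dvd_card' t htd
  set z : G := (z' : G) with hz
  have hzo : orderOf z = t := by rw [hz, Subgroup.orderOf_coe]; exact hz'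
  have hzC : z ∈ centralizer ((P : Subgroup G) : Set G) := z'.2.1
  have hzN' : z ∈ normalizer ((P' : Subgroup G) : Set G) := z'.2.2
  have hzN : z ∈ normalizer ((P : Subgroup G) : Set G) := centralizer_le_normalizer _ hzC
  have hz1 : z ≠ 1 := by
    intro h; rw [h, orderOf_one] at hzo; exact ht.one_lt.ne hzo
  -- fixed points
  have hfP : z • P = P := Sylow.smul_eq_iff_mem_normalizer.mpr hzN
  have hfP' : z • P' = P' := Sylow.smul_eq_iff_mem_normalizer.mpr hzN'
  have h2 : 2 ≤ fxp 3 z := by
    have := ncard_le_fxp z {P, P'} (by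
      intro Q hQ
      rcases hQ with rfl | rfl
      · exact hfP
      · exact hfP')
    rwa [Set.ncard_pair hne] at this
  have h3 : fxp 3 z ≡ 1 [MOD 3] := fxp_modEq_of_centralizing P z hzC
  have h22 : fxp 3 z < 22 := by
    have h1 := fxp_le 3 z
    rw [hn] at h1
    have h2 : fxp 3 z ≠ 22 := by
      intro h
      have hn1 : Nat.card (Sylow 3 G) ≠ 1 := by rw [hn]; norm_num
      exact hz1 (eq_one_of_fxp_eq hsimp hn1 z (by rw [h, hn]))
    omega
  have hmod := fxp_modEq_prime (p := 3) z ht hzo
  rw [hn] at hmod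
  have hdvd : t ∣ 22 - fxp 3 z := (Nat.modEq_iff_dvd' h22.le).mp hmod.symm
  have ht235 : t = 2 ∨ t = 3 ∨ t = 5 := by
    unfold Nat.ModEq at h3
    have hcases : fxp 3 z = 4 ∨ fxp 3 z = 7 ∨ fxp 3 z = 10 ∨ fxp 3 z = 13 ∨ fxp 3 z = 16 ∨
        fxp 3 z = 19 := by omega
    exact prime_dvd_cases ht hcases hdvd
  rcases ht235 with rfl | rfl | rfl
  · exact no_involution_centralizing hsimp hn hP3 P z hzC hzo
  · -- a 3-element normalizing P and P' lies in both
    have hpg : IsPGroup 3 (zpowers z) := by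
      apply IsPGroup.of_card (n := 1)
      rw [Nat.card_zpowers, hzo, pow_one]
    have hzP : z ∈ (P : Subgroup G) := by
      have h4 := IsPGroup.inf_normalizer_sylow hpg P
      have : z ∈ zpowers z ⊓ (P : Subgroup G) := by
        rw [← h4]; exact ⟨mem_zpowers z, hzN⟩
      exact this.2
    have hzP' : z ∈ (P' : Subgroup G) := by
      have h4 := IsPGroup.inf_normalizer_sylow hpg P'
      have : z ∈ zpowers z ⊓ (P' : Subgroup G) := by
        rw [← h4]; exact ⟨mem_zpowers z, hzN'⟩
      exact this.2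
    have : z ∈ (P : Subgroup G) ⊓ P' := ⟨hzP, hzP'⟩
    rw [inf_eq_bot_of_ne P P' (hP3 P) hne, mem_bot] at this
    exact hz1 this
  · apply five_not_dvd hsimp hn hP3
    rw [← hzo]
    exact orderOf_dvd_natCard z

/-- the order of the centralizer of `P` is 3 or 21 -/
theorem card_centralizer (hsimp : ∀ M : Subgroup G, M.Normal → M = ⊥ ∨ M = ⊤)
    (hn : Nat.card (Sylow 3 G) = 22) (hP3 : ∀ P : Sylow 3 G, Nat.card P = 3) (P : Sylow 3 G) :
    Nat.card (centralizer ((P : Subgroup G) : Set G)) = 3 ∨
    Nat.card (centralizer ((P : Subgroup G) : Set G)) = 21 := by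
  haveI : Fact (Nat.Prime 2) := ⟨Nat.prime_two⟩
  set C := centralizer ((P : Subgroup G) : Set G) with hC
  have hP := hP3 P
  haveI : IsCyclic (P : Subgroup G) := isCyclic_of_prime_card hP
  have hPC : (P : Subgroup G) ≤ C := by
    intro x hx
    rw [hC, mem_centralizer_iff]
    intro y hy
    have hy' : y ∈ (P : Subgroup G) := hy
    have := IsCyclic.commGroup.mul_comm (⟨y, hy'⟩ : (P : Subgroup G)) ⟨x, hx⟩
    exact congrArg Subtype.val this
  have h3 : 3 ∣ Nat.card C := by
    rw [← hP]; exact card_dvd_of_le hPC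
  have h2 : ¬ 2 ∣ Nat.card C := by
    intro h
    obtain ⟨k', hk'⟩ := exists_prime_orderOf_dvd_card' 2 h
    have hko : orderOf (k' : G) = 2 := by rw [Subgroup.orderOf_coe]; exact hk'
    exact no_involution_centralizing hsimp hn hP3 P (k' : G) k'.2 hko
  have h5 : ¬ 5 ∣ Nat.card C := fun h =>
    five_not_dvd hsimp hn hP3 (h.trans (card_subgroup_dvd_card _))
  have h9 : ¬ 9 ∣ Nat.card C := by
    intro h
    have h9G : 3 ^ 2 ∣ Nat.card G := h.trans (card_subgroup_dvd_card _)
    have hf := P.card_eq_multiplicity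
    rw [hP] at hf
    have hf1 : (Nat.card G).factorization 3 = 1 := by
      have : 3 ^ 1 = 3 ^ (Nat.card G).factorization 3 := by rw [pow_one]; exact hf
      exact (Nat.pow_right_injective (by norm_num : 2 ≤ 3) this).symm
    have := (Nat.Prime.pow_dvd_iff_le_factorization Nat.prime_three Nat.card_pos.ne').mp h9G
    omega
  -- the bound
  have hle : Nat.card C ≤ 21 := by
    obtain ⟨P', hne⟩ : ∃ P' : Sylow 3 G, P ≠ P' := by
      by_contra hcon
      push Not at hcon
      have : Nat.card (Sylow 3 G) = 1 := by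
        rw [Nat.card_eq_one_iff_unique]
        exact ⟨⟨fun a b => (hcon a).symm.trans (hcon b)⟩, ⟨P⟩⟩
      omega
    have hstab : stabilizer C P' = ⊥ := by
      rw [stabilizer_subgroup_sylow, eq_bot_iff]
      intro x hx
      rw [mem_subgroupOf] at hx
      have : (x : G) ∈ C ⊓ normalizer ((P' : Subgroup G) : Set G) := ⟨x.2, hx⟩
      rw [centralizer_inf_normalizer_eq_bot hsimp hn hP3 P P' hne, mem_bot] at this
      rw [mem_bot]
      exact Subtype.ext this
    have h1 : (orbit C P').ncard = Nat.card C := by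
      rw [← index_stabilizer, hstab, index_bot]
    have hsub : orbit C P' ⊆ {P}ᶜ := by
      rintro _ ⟨c, rfl⟩ h
      have h1 : (c : G) • P' = P := h
      have h2 : (c : G) • P = P :=
        Sylow.smul_eq_iff_mem_normalizer.mpr (centralizer_le_normalizer _ c.2)
      exact hne (smul_left_cancel (c : G) (h1.trans h2.symm)).symm
    have h4 := Set.ncard_le_ncard hsub (Set.toFinite _)
    rw [Set.ncard_compl, Set.ncard_singleton, hn, h1] at h4
    exact h4
  have hpos : 0 < Nat.card C := Nat.card_pos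
  generalize Nat.card C = c at h3 h2 h5 h9 hle hpos ⊢
  interval_cases c <;> omega

/-- the order of the group -/
theorem card_group (hsimp : ∀ M : Subgroup G, M.Normal → M = ⊥ ∨ M = ⊤)
    (hn : Nat.card (Sylow 3 G) = 22) (hP3 : ∀ P : Sylow 3 G, Nat.card P = 3) :
    Nat.card G = 66 ∨ Nat.card G = 132 ∨ Nat.card G = 462 ∨ Nat.card G = 924 := by
  obtain ⟨P⟩ : Nonempty (Sylow 3 G) := inferInstance
  have hP := hP3 P
  haveI : IsCyclic (P : Subgroup G) := isCyclic_of_prime_card hP
  have key := card_dvd_of_injective _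
    (QuotientGroup.kerLift_injective (P : Subgroup G).normalizerMonoidHom)
  rw [normalizerMonoidHom_ker, ← index, ← relIndex] at key
  rw [IsCyclic.card_mulAut, hP, Nat.totient_prime Nat.prime_three] at key
  have h1 := card_inf_mul_relIndex (centralizer ((P : Subgroup G) : Set G))
    (normalizer ((P : Subgroup G) : Set G))
  rw [inf_of_le_left (centralizer_le_normalizer _)] at h1
  have h2 := index_mul_card (normalizer ((P : Subgroup G) : Set G))
  have h3 : (normalizer ((P : Subgroup G) : Set G)).index = 22 := by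
    rw [← hn]; exact P.card_eq_index_normalizer.symm
  rw [h3] at h2
  have h4 : (centralizer ((P : Subgroup G) : Set G)).relIndex
      (normalizer ((P : Subgroup G) : Set G)) = 1 ∨
      (centralizer ((P : Subgroup G) : Set G)).relIndex
      (normalizer ((P : Subgroup G) : Set G)) = 2 :=
    (Nat.dvd_prime Nat.prime_two).mp key
  rcases card_centralizer hsimp hn hP3 P with h5 | h5 <;> rcases h4 with h4 | h4 <;>
    rw [h5, h4] at h1 <;> omega

end Cfsg.Agent.Lib.Helper7.Syl22
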