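import Mathlib
import Cfsg.Agent.Lib.Helper7.Syl22K
import Cfsg.Agent.Lib.Helper7.Syl22O

set_option autoImplicit false

/-!
# No finite group has exactly 22 Sylow 3-subgroups
-/

namespace Cfsg.Agent.Lib.Helper7.Syl22

open Subgroup MulAction
open Cfsg.Agent.Lib.Helper7.Syl35
open Cfsg.Agent.Lib.Helper7.SylGen

universe u

variable {G : Type u} [Group G] [Finite G]

theorem prime11 : Nat.Prime 11 := by norm_num

/-- arithmetic of the Sylow 11-normalizer -/
theorem sylow11_arith {g m c : ℕ} (hg : g = 66 ∨ g = 132 ∨ g = 462 ∨ g = 924) (hmc : m * c = g)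
    (hm : m % 11 = 1) (hc : 11 ∣ c) : m = 1 ∨ (m = 12 ∧ (c = 11 ∨ c = 77)) := by
  obtain ⟨c', rfl⟩ := hc
  have hmle : m ≤ 84 := by
    rcases hg with rfl | rfl | rfl | rfl
    all_goals
      have hc'pos : 0 < c' := by
        rcases Nat.eq_zero_or_pos c' with h | h
        · rw [h] at hmc; omega
        · exact h
      nlinarith
  have hcases : m = 1 ∨ m = 12 ∨ m = 23 ∨ m = 34 ∨ m = 45 ∨ m = 56 ∨ m = 67 ∨ m = 78 := by omega
  rcases hcases with rfl | rfl | rfl | rfl | rfl | rfl | rfl | rfl
  · left; rfl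
  · right
    refine ⟨rfl, ?_⟩
    rcases hg with rfl | rfl | rfl | rfl <;> omega
  all_goals exfalso; rcases hg with rfl | rfl | rfl | rfl <;> omega

/-- the conclusion in the case `|P| = 3` -/
theorem false_of_small (hsimp : ∀ M : Subgroup G, M.Normal → M = ⊥ ∨ M = ⊤)
    (hn : Nat.card (Sylow 3 G) = 22) (P₀ : Sylow 3 G) (hP₀ : Nat.card P₀ = 3) : False := by
  haveI : Fact (Nat.Prime 11) := ⟨prime11⟩
  have hP3 : ∀ P : Sylow 3 G, Nat.card P = 3 := by
    intro P; rw [sylow_card_eq P P₀]; exact hP₀
  have hG := card_group hsimp hn hP3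
  obtain ⟨Q⟩ : Nonempty (Sylow 11 G) := inferInstance
  have h11 : 11 ∣ Nat.card G := by
    rcases hG with h | h | h | h <;> rw [h] <;> norm_num
  have hQbot : (Q : Subgroup G) ≠ ⊥ := Q.ne_bot_of_dvd_card h11
  have hQ : Nat.card Q = 11 := by
    obtain ⟨j, hj⟩ := Q.2.exists_card_eq
    have hj0 : j ≠ 0 := by
      intro h0
      rw [h0, pow_zero] at hj
      exact hQbot (card_eq_one.mp hj)
    have hj1 : j < 2 := by
      by_contra hge
      push Not at hge
      have h1 : 11 ^ 2 ∣ 11 ^ j := pow_dvd_pow 11 hge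
      have h2 : 11 ^ j ∣ Nat.card G := hj ▸ card_subgroup_dvd_card (Q : Subgroup G)
      have h3 := h1.trans h2
      rcases hG with h | h | h | h <;> rw [h] at h3 <;> norm_num at h3
    have : j = 1 := by omega
    rw [hj, this, pow_one]
  have hQtop : (Q : Subgroup G) ≠ ⊤ := by
    intro h
    have h1 : Nat.card G = 11 := by
      rw [← hQ, h, card_top]
    rcases hG with h | h | h | h <;> omega
  have hmod : Nat.card (Sylow 11 G) ≡ 1 [MOD 11] := card_sylow_modEq_one 11 G
  have hidx : Nat.card (Sylow 11 G) = (normalizer ((Q : Subgroup G) : Set G)).index :=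
    Q.card_eq_index_normalizer
  have hmc := index_mul_card (normalizer ((Q : Subgroup G) : Set G))
  rw [← hidx] at hmc
  have hc : 11 ∣ Nat.card (normalizer ((Q : Subgroup G) : Set G)) := by
    have h0 := card_dvd_of_le (le_normalizer : (Q : Subgroup G) ≤ normalizer ((Q : Subgroup G) : Set G))
    rwa [hQ] at h0
  rcases sylow11_arith hG hmc hmod hc with h1 | ⟨h12, hc'⟩
  · -- normal Sylow 11-subgroup
    rw [hidx, index_eq_one] at h1
    have hQn : (Q : Subgroup G).Normal := normalizer_eq_top_iff.mp h1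
    rcases hsimp _ hQn with h | h
    · exact hQbot h
    · exact hQtop h
  · -- the normalizer has order 11 or 77
    haveI : IsCyclic (Q : Subgroup G) := isCyclic_of_prime_card hQ
    have key := card_dvd_of_injective _
      (QuotientGroup.kerLift_injective (Q : Subgroup G).normalizerMonoidHom)
    rw [normalizerMonoidHom_ker, ← index, ← relIndex] at key
    rw [IsCyclic.card_mulAut, hQ, Nat.totient_prime prime11] at key
    have h3 : (centralizer ((Q : Subgroup G) : Set G)).relIndex
        (normalizer ((Q : Subgroup G) : Set G)) ∣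
        Nat.card (normalizer ((Q : Subgroup G) : Set G)) := relIndex_dvd_card _ _
    have hcop : Nat.Coprime (11 - 1) (Nat.card (normalizer ((Q : Subgroup G) : Set G))) := by
      rcases hc' with h | h <;> rw [h] <;> decide
    have hNC : normalizer ((Q : Subgroup G) : Set G) ≤ centralizer ((Q : Subgroup G) : Set G) :=
      relIndex_eq_one.mp (Nat.eq_one_of_dvd_coprimes hcop key h3)
    exact hQtop (eq_top_of_normalizer_le hsimp Q hQbot hNC)

theorem no_22_aux : ∀ n : ℕ, ∀ (G : Type u) [Group G] [Finite G], Nat.card G = n →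
    Nat.card (Sylow 3 G) ≠ 22 := by
  intro n
  induction n using Nat.strong_induction_on with
  | _ n IH =>
    intro G _ _ hcard h22
    have IH' : ∀ (H : Type u) [Group H] [Finite H], Nat.card H < Nat.card G →
        Nat.card (Sylow 3 H) ≠ 22 := by
      intro H _ _ hlt
      exact IH (Nat.card H) (hcard ▸ hlt) H rfl
    have hdiv : ∀ d : ℕ, d ∣ 22 → d ≡ 1 [MOD 3] → d = 1 ∨ d = 22 := by
      intro d h1 h2
      have hle : d ≤ 22 := Nat.le_of_dvd (by norm_num) h1
      interval_cases d <;> first | (left; rfl) | (right; rfl) | (exfalso; revert h1 h2; decide)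
    by_cases hs : ∃ M : Subgroup G, M.Normal ∧ M ≠ ⊥ ∧ M ≠ ⊤
    · obtain ⟨M, hMn, hM1, hM2⟩ := hs
      haveI := hMn
      exact false_of_normal (p := 3) (r := 11) hdiv prime11 (by norm_num) (by norm_num)
        (by norm_num) (by norm_num) IH' h22 M hM1 hM2
    · have hsimp : ∀ M : Subgroup G, M.Normal → M = ⊥ ∨ M = ⊤ := by
        intro M hM
        by_contra hcon
        push Not at hcon
        exact hs ⟨M, hM, hcon.1, hcon.2⟩
      obtain ⟨P⟩ : Nonempty (Sylow 3 G) := inferInstance
      obtain ⟨k, hk⟩ := P.2.exists_card_eq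
      rcases Nat.lt_or_ge k 2 with hlt | hge
      · interval_cases k
        · have hall : ∀ Q : Sylow 3 G, (Q : Subgroup G) = ⊥ := by
            intro Q
            apply card_eq_one.mp
            rw [sylow_card_eq Q P, hk, pow_zero]
          have : Nat.card (Sylow 3 G) = 1 := by
            rw [Nat.card_eq_one_iff_unique]
            refine ⟨⟨fun Q Q' => Sylow.ext ?_⟩, ⟨P⟩⟩
            rw [hall Q, hall Q']
          omega
        · exact false_of_small hsimp h22 P (by rw [hk, pow_one])
      · apply false_of_big hsimp h22 P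
        rw [hk]
        exact pow_dvd_pow 3 hge

/-- no finite group has exactly 22 Sylow 3-subgroups -/
theorem no_22 (G : Type u) [Group G] [Finite G] : Nat.card (Sylow 3 G) ≠ 22 :=
  no_22_aux _ G rfl

end Cfsg.Agent.Lib.Helper7.Syl22
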