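import Mathlib
import Cfsg.Agent.Lib.Helper7.SylNorm1
import Cfsg.Agent.Lib.Helper7.IndexLemmas

set_option autoImplicit false

/-! Sylow `p` normalizing Sylow `q`: the `q`-solvable induction step over a normal `q'`-subgroup. -/

namespace Cfsg.Agent.Lib.Helper7.SylNorm

open Cfsg Cfsg.Agent.Lib.Lead Cfsg.Agent.Lib.Helper4 Cfsg.Agent.Lib.Helper6
open scoped Pointwise

universe u

variable {G : Type u} [Group G]

theorem isSolvable_zpowers (x : G) : Group.IsSolvable (Subgroup.zpowers x) := by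
  apply isSolvable_of_comm
  intro a b
  obtain ⟨i, hi⟩ := Subgroup.mem_zpowers_iff.mp a.2
  obtain ⟨j, hj⟩ := Subgroup.mem_zpowers_iff.mp b.2
  apply Subtype.ext
  rw [Subgroup.coe_mul, Subgroup.coe_mul, ← hi, ← hj, ← zpow_add, ← zpow_add, add_comm]

/-- if `x` is a `q`-element whose class size is prime to `p`, then `x` centralizes every
`⟨x⟩`-invariant Sylow `p`-subgroup of a normal `q'`-subgroup `M` -/
theorem centralizes_invariant_sylow [Finite G] {p q : ℕ} [hp : Fact p.Prime] [hq : Fact q.Prime]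
    (M : Subgroup G) [hMn : M.Normal] (hM : (Nat.card M).Coprime q) {x : G}
    (hxq : ∃ k : ℕ, orderOf x = q ^ k)
    (hx : ¬ p ∣ (Subgroup.centralizer ({x} : Set G)).index) (S₀ : Sylow p M)
    (hS : Subgroup.zpowers x ≤ Subgroup.normalizer ((S₀ : Subgroup M).map M.subtype : Set G)) :
    ∀ s ∈ (S₀ : Subgroup M).map M.subtype, x * s = s * x := by
  obtain ⟨k, hk⟩ := hxq
  have hrel : ¬ p ∣ (Subgroup.centralizer ({x} : Set G)).relIndex M := by
    intro h0
    apply hx
    rw [Cfsg.Agent.Lib.Helper7.relIndex_eq_relIndex_sup_of_normal] at h0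
    exact h0.trans (Subgroup.relIndex_dvd_index_of_le le_sup_left)
  obtain ⟨T₀, hT₀⟩ := exists_sylow_le_of_not_dvd_index
    ((Subgroup.centralizer ({x} : Set G)).subgroupOf M) hrel
  have hAM : Subgroup.zpowers x ≤ Subgroup.normalizer (M : Set G) := by
    rw [Subgroup.normalizer_eq_top_iff.mpr hMn]; exact le_top
  have hcopA : (Nat.card (Subgroup.zpowers x)).Coprime (Nat.card M) := by
    rw [Nat.card_zpowers, hk]; exact (Nat.Coprime.pow_right k hM).symm
  have hTcen : ∀ t ∈ (T₀ : Subgroup M).map M.subtype, t * x = x * t := by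
    rintro _ ⟨t, ht, rfl⟩
    have := hT₀ ht
    rw [Subgroup.mem_subgroupOf, Subgroup.mem_centralizer_singleton_iff] at this
    exact this
  have hT : Subgroup.zpowers x ≤
      Subgroup.normalizer ((T₀ : Subgroup M).map M.subtype : Set G) := by
    intro a ha
    obtain ⟨i, rfl⟩ := Subgroup.mem_zpowers_iff.mp ha
    rw [Subgroup.mem_normalizer_iff]
    intro t
    have hconj : ∀ t ∈ (T₀ : Subgroup M).map M.subtype, x ^ i * t * (x ^ i)⁻¹ = t := by
      intro t ht
      have hc : Commute t x := hTcen t ht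
      rw [(hc.zpow_right i).symm.eq, mul_inv_cancel_right]
    constructor
    · intro ht; rw [hconj t ht]; exact ht
    · intro ht
      have h1 := hconj _ ht
      have h3 : x ^ i * t * (x ^ i)⁻¹ = t := mul_left_cancel (mul_right_cancel h1)
      rw [← h3]; exact ht
  obtain ⟨c, hcA, hc⟩ := coprime_invariant_sylow_conj (Subgroup.zpowers x) M hAM hcopA
    (Or.inl (isSolvable_zpowers x)) p T₀ S₀ hT hS
  have hcx : (c : G) * x = x * c := by
    have := (Subgroup.mem_centralizer_iff.mp hcA) x (Subgroup.mem_zpowers x)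
    exact this.symm
  rintro _ ⟨s, hs, rfl⟩
  rw [← hc] at hs
  have hs' : s ∈ MulAut.conj c • (T₀ : Subgroup M) := hs
  rw [Subgroup.mem_smul_pointwise_iff_exists] at hs'
  obtain ⟨t, ht, rfl⟩ := hs'
  have htx : (t : G) * x = x * t := hTcen _ ⟨t, ht, rfl⟩
  simp only [MulAut.smul_def, MulAut.conj_apply, Subgroup.coe_subtype, Subgroup.coe_mul,
    Subgroup.coe_inv]
  have hcinv : x * (c : G)⁻¹ = (c : G)⁻¹ * x := by
    calc x * (c : G)⁻¹ = (c : G)⁻¹ * ((c : G) * x) * (c : G)⁻¹ := by group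
      _ = (c : G)⁻¹ * (x * c) * (c : G)⁻¹ := by rw [hcx]
      _ = (c : G)⁻¹ * x := by group
  calc x * ((c : G) * t * (c : G)⁻¹) = (x * c) * t * (c : G)⁻¹ := by group
    _ = (c * x) * t * (c : G)⁻¹ := by rw [hcx]
    _ = c * (x * t) * (c : G)⁻¹ := by group
    _ = c * (t * x) * (c : G)⁻¹ := by rw [htx]
    _ = c * t * (x * (c : G)⁻¹) := by group
    _ = c * t * ((c : G)⁻¹ * x) := by rw [hcinv]
    _ = (c : G) * t * (c : G)⁻¹ * x := by group

end Cfsg.Agent.Lib.Helper7.SylNorm
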