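import Mathlib
import Cfsg.Agent.Lib.Helper7.SylNorm2

set_option autoImplicit false

/-! Sylow `p` normalizing Sylow `q`: the `q`-solvable case. -/

namespace Cfsg.Agent.Lib.Helper7.SylNorm

open Cfsg Cfsg.Agent.Lib.Lead Cfsg.Agent.Lib.Helper4 Cfsg.Agent.Lib.Helper6
open scoped Pointwise

universe u

variable {G : Type u} [Group G]

/-- induction step over a normal `q'`-subgroup -/
theorem step_qprime [Finite G] {p q : ℕ} [hp : Fact p.Prime] [hq : Fact q.Prime]
    (h : ∀ y : G, (∃ k : ℕ, orderOf y = q ^ k) →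
      ¬ p ∣ (Subgroup.centralizer ({y} : Set G)).index)
    (M : Subgroup G) [hMn : M.Normal] (hM : (Nat.card M).Coprime q)
    (P : Sylow p G) (Q : Sylow q G)
    (hL : ∀ g ∈ (P : Subgroup G), ∀ x ∈ (Q : Subgroup G),
      g * x * g⁻¹ ∈ (Q : Subgroup G) ⊔ M) :
    ∃ P' : Sylow p G, (P' : Subgroup G) ≤ Subgroup.normalizer ((Q : Subgroup G) : Set G) := by
  -- a `Q`-invariant Sylow `p`-subgroup of `M`
  have hQM : (Q : Subgroup G) ≤ Subgroup.normalizer (M : Set G) := by
    rw [Subgroup.normalizer_eq_top_iff.mpr hMn]; exact le_top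
  have hcop : (Nat.card (Q : Subgroup G)).Coprime (Nat.card M) := by
    obtain ⟨n, hn⟩ := IsPGroup.iff_card.mp Q.2
    rw [hn]; exact (Nat.Coprime.pow_right n hM).symm
  have hsol : Group.IsSolvable (Q : Subgroup G) := by
    haveI := Q.2.isNilpotent
    infer_instance
  obtain ⟨S₀, hS₀⟩ := coprime_invariant_sylow_exists (Q : Subgroup G) M hQM hcop (Or.inl hsol) p
  -- `Q` centralizes it
  have hcen : ∀ x ∈ (Q : Subgroup G), ∀ s ∈ (S₀ : Subgroup M).map M.subtype, x * s = s * x := by
    intro x hx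
    have hxq : ∃ k : ℕ, orderOf x = q ^ k := by
      obtain ⟨k, hk⟩ := (IsPGroup.iff_orderOf.mp Q.2) ⟨x, hx⟩
      exact ⟨k, by rw [← hk]; simp⟩
    apply centralizes_invariant_sylow M hM hxq (h x hxq) S₀
    exact (Subgroup.zpowers_le.mpr hx).trans hS₀
  have hSN : (S₀ : Subgroup M).map M.subtype ≤
      Subgroup.normalizer ((Q : Subgroup G) : Set G) ⊓ M := by
    intro s hs
    rw [Subgroup.mem_inf]
    refine ⟨?_, Subgroup.map_subtype_le _ hs⟩
    rw [Subgroup.mem_normalizer_iff]
    intro x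
    constructor
    · intro hx
      rw [← hcen x hx s hs, mul_inv_cancel_right]; exact hx
    · intro hx
      have h1 := hcen _ hx s hs
      -- (s x s⁻¹) s = s (s x s⁻¹) gives x = s x s⁻¹
      have h2 : s * x * s⁻¹ = x := by
        have : s * x * s⁻¹ * s = s * (s * x * s⁻¹) := h1
        have h3 : s * x = s * (s * x * s⁻¹) := by
          calc s * x = s * x * s⁻¹ * s := by group
            _ = s * (s * x * s⁻¹) := this
        exact (mul_left_cancel h3).symm
      rw [← h2]; exact hx
  -- Frattini argument: `P ≤ M ⊔ N(Q)`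
  have hPR : (P : Subgroup G) ≤ Subgroup.normalizer ((Q : Subgroup G) : Set G) ⊔ M := by
    intro g hg
    have hgQ : ((g • Q : Sylow q G) : Subgroup G) ≤ (Q : Subgroup G) ⊔ M := by
      rw [Sylow.coe_subgroup_smul]
      intro z hz
      rw [Subgroup.mem_smul_pointwise_iff_exists] at hz
      obtain ⟨x, hx, rfl⟩ := hz
      simp only [MulAut.smul_def, MulAut.conj_apply]
      exact hL g hg x hx
    have hQB : (Q : Subgroup G) ≤ (Q : Subgroup G) ⊔ M := le_sup_left
    obtain ⟨b, hb⟩ := MulAction.exists_smul_eq ((Q : Subgroup G) ⊔ M : Subgroup G)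
      (Q.subtype hQB) ((g • Q).subtype hgQ)
    rw [Sylow.smul_subtype] at hb
    have hb' : b • Q = g • Q := Sylow.subtype_injective hb
    -- decompose `b`
    have hbmem : (b : G) ∈ ((Q : Subgroup G) : Set G) * (M : Set G) := by
      rw [← Subgroup.mul_normal]; exact b.2
    obtain ⟨x, hx, m, hm, hxm⟩ := Set.mem_mul.mp hbmem
    have h1 : ((b : G)⁻¹ * g) • Q = Q := by
      rw [mul_smul, ← hb', Subgroup.smul_def, inv_smul_smul]
    have h2 : (b : G)⁻¹ * g ∈ Subgroup.normalizer ((Q : Subgroup G) : Set G) :=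
      Sylow.smul_eq_iff_mem_normalizer.mp h1
    have hxN : x ∈ Subgroup.normalizer ((Q : Subgroup G) : Set G) := Subgroup.le_normalizer hx
    -- g = x * (m * (b⁻¹ g))... use normality of M: g = x * m * (b⁻¹ * g)
    have h3 : g = x * m * ((b : G)⁻¹ * g) := by rw [hxm]; group
    rw [h3]
    -- x * m * n with x, n ∈ N(Q), m ∈ M
    have h4 : x * m * ((b : G)⁻¹ * g) = (x * ((b : G)⁻¹ * g)) *
        (((b : G)⁻¹ * g)⁻¹ * m * ((b : G)⁻¹ * g)) := by group
    rw [h4]
    apply Subgroup.mul_mem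
    · exact (le_sup_left : Subgroup.normalizer ((Q : Subgroup G) : Set G) ≤ _)
        (Subgroup.mul_mem _ hxN h2)
    · apply (le_sup_right : M ≤ Subgroup.normalizer ((Q : Subgroup G) : Set G) ⊔ M)
      have := hMn.conj_mem m hm ((b : G)⁻¹ * g)⁻¹
      simpa using this
  -- index count
  have h1 : ¬ p ∣ (Subgroup.normalizer ((Q : Subgroup G) : Set G) ⊔ M).index := by
    intro h0
    exact P.not_dvd_index (h0.trans (Subgroup.index_dvd_of_le hPR))
  have h2 : ¬ p ∣ (Subgroup.normalizer ((Q : Subgroup G) : Set G)).relIndex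
      (Subgroup.normalizer ((Q : Subgroup G) : Set G) ⊔ M) := by
    rw [← Cfsg.Agent.Lib.Helper7.relIndex_eq_relIndex_sup_of_normal]
    intro h0
    -- N.relIndex M = (N ⊓ M).relIndex M divides S.relIndex M
    have h3 : (Subgroup.normalizer ((Q : Subgroup G) : Set G)).relIndex M ∣
        ((S₀ : Subgroup M).map M.subtype).relIndex M := by
      rw [← Subgroup.inf_relIndex_right]
      exact Subgroup.relIndex_dvd_of_le_left M hSN
    have h4 : ((S₀ : Subgroup M).map M.subtype).relIndex M = (S₀ : Subgroup M).index := by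
      show (((S₀ : Subgroup M).map M.subtype).comap M.subtype).index = _
      rw [Subgroup.comap_map_eq_self_of_injective M.subtype_injective]
    rw [h4] at h3
    exact S₀.not_dvd_index (h0.trans h3)
  have h3 : ¬ p ∣ (Subgroup.normalizer ((Q : Subgroup G) : Set G)).index := by
    rw [← Subgroup.relIndex_mul_index (le_sup_left :
      Subgroup.normalizer ((Q : Subgroup G) : Set G) ≤ _ ⊔ M)]
    intro h0
    rcases (Nat.Prime.dvd_mul hp.out).mp h0 with h0 | h0
    · exact h2 h0
    · exact h1 h0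
  exact exists_sylow_le_of_not_dvd_index _ h3

end Cfsg.Agent.Lib.Helper7.SylNorm
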