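import Mathlib
import Cfsg.Agent.Lib.Helper7.SylNorm3

set_option autoImplicit false

/-! Sylow `p` normalizing Sylow `q`: the `q`-solvable case, induction. -/

namespace Cfsg.Agent.Lib.Helper7.SylNorm

open Cfsg Cfsg.Agent.Lib.Lead Cfsg.Agent.Lib.Helper4 Cfsg.Agent.Lib.Helper6
open scoped Pointwise

universe u

theorem qsolv_aux {p q : ℕ} [hp : Fact p.Prime] [hq : Fact q.Prime] (n : ℕ) :
    ∀ (G : Type u) [Group G] [Finite G], Nat.card G = n → IsPSolvable q G →
      (∀ y : G, (∃ k : ℕ, orderOf y = q ^ k) →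
        ¬ p ∣ (Subgroup.centralizer ({y} : Set G)).index) →
      ∃ (P : Sylow p G) (Q : Sylow q G),
        (P : Subgroup G) ≤ Subgroup.normalizer ((Q : Subgroup G) : Set G) := by
  induction n using Nat.strong_induction_on with
  | _ n ih =>
  intro G _ _ hn hsolv h
  by_cases hnt : Nontrivial G
  swap
  · rw [not_nontrivial_iff_subsingleton] at hnt
    obtain ⟨P⟩ : Nonempty (Sylow p G) := inferInstance
    obtain ⟨Q⟩ : Nonempty (Sylow q G) := inferInstance
    refine ⟨P, Q, fun g _ => ?_⟩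
    rw [Subsingleton.elim g 1]; exact Subgroup.one_mem _
  obtain ⟨M, hMn, hM1, hM⟩ := exists_normal_of_isPSolvable hsolv
  haveI := hMn
  have hcard : Nat.card (G ⧸ M) < n := by
    have h1 := Subgroup.card_eq_card_quotient_mul_card_subgroup M
    have h2 : 1 < Nat.card M := (Subgroup.one_lt_card_iff_ne_bot M).mpr hM1
    have h3 : 0 < Nat.card (G ⧸ M) := Nat.card_pos
    rw [← hn, h1]
    nlinarith
  have hsolv' := isPSolvable_quotient hsolv M
  have h' := hyp_quotient (p := p) M h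
  obtain ⟨P₀, Q₀, hPQ⟩ := ih _ hcard (G ⧸ M) rfl hsolv' h'
  obtain ⟨P, rfl⟩ := Sylow.mapSurjective_surjective (QuotientGroup.mk'_surjective M) p P₀
  obtain ⟨Q, rfl⟩ := Sylow.mapSurjective_surjective (QuotientGroup.mk'_surjective M) q Q₀
  rw [Sylow.coe_mapSurjective, Sylow.coe_mapSurjective] at hPQ
  have hL : ∀ g ∈ (P : Subgroup G), ∀ x ∈ (Q : Subgroup G),
      g * x * g⁻¹ ∈ (Q : Subgroup G) ⊔ M := by
    intro g hg x hx
    have h1 : (QuotientGroup.mk' M) g ∈ Subgroup.normalizer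
        (((Q : Subgroup G).map (QuotientGroup.mk' M) : Subgroup (G ⧸ M)) : Set (G ⧸ M)) :=
      hPQ ⟨g, hg, rfl⟩
    have h2 := (Subgroup.mem_normalizer_iff.mp h1 ((QuotientGroup.mk' M) x)).mp ⟨x, hx, rfl⟩
    obtain ⟨x', hx', hxx'⟩ := h2
    have h3 : x'⁻¹ * (g * x * g⁻¹) ∈ M := by
      rw [← QuotientGroup.eq]
      have : (QuotientGroup.mk' M) x' = (QuotientGroup.mk' M) (g * x * g⁻¹) := by
        rw [hxx', map_mul, map_mul, map_inv]
      exact this
    have h4 : g * x * g⁻¹ = x' * (x'⁻¹ * (g * x * g⁻¹)) := by group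
    rw [h4]
    exact Subgroup.mul_mem _ ((le_sup_left : (Q : Subgroup G) ≤ _) hx')
      ((le_sup_right : M ≤ (Q : Subgroup G) ⊔ M) h3)
  rcases hM with ⟨m, hm⟩ | hM
  · have hMQ : M ≤ (Q : Subgroup G) := (IsPGroup.of_card hm).le_sylow_of_normal Q
    have hkey : ∀ g ∈ (P : Subgroup G), ∀ x ∈ (Q : Subgroup G),
        g * x * g⁻¹ ∈ (Q : Subgroup G) := by
      intro g hg x hx
      have := hL g hg x hx
      rwa [sup_eq_left.mpr hMQ] at this
    refine ⟨P, Q, ?_⟩
    intro g hg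
    rw [Subgroup.mem_normalizer_iff]
    intro x
    constructor
    · exact hkey g hg x
    · intro hx
      have h1 := hkey g⁻¹ (Subgroup.inv_mem _ hg) _ hx
      have h2 : g⁻¹ * (g * x * g⁻¹) * g⁻¹⁻¹ = x := by group
      rwa [h2] at h1
  · obtain ⟨P', hP'⟩ := step_qprime h M hM P Q hL
    exact ⟨P', Q, hP'⟩

/-- `q`-solvable case -/
theorem qsolv {G : Type u} [Group G] [Finite G] {p q : ℕ} [Fact p.Prime] [Fact q.Prime]
    (hsolv : IsPSolvable q G)
    (h : ∀ y : G, (∃ k : ℕ, orderOf y = q ^ k) →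
      ¬ p ∣ (Subgroup.centralizer ({y} : Set G)).index) :
    ∃ (P : Sylow p G) (Q : Sylow q G),
      (P : Subgroup G) ≤ Subgroup.normalizer ((Q : Subgroup G) : Set G) :=
  qsolv_aux _ G rfl hsolv h

/-- `p`-solvable case -/
theorem psolv {G : Type u} [Group G] [Finite G] {p q : ℕ} [hp : Fact p.Prime] [hq : Fact q.Prime]
    (hpq : p ≠ q) (hsolv : IsPSolvable p G)
    (h : ∀ y : G, (∃ k : ℕ, orderOf y = q ^ k) →
      ¬ p ∣ (Subgroup.centralizer ({y} : Set G)).index) :
    ∃ (P : Sylow p G) (Q : Sylow q G),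
      (P : Subgroup G) ≤ Subgroup.normalizer ((Q : Subgroup G) : Set G) := by
  haveI : (pPrimeCore p G).Normal := pPrimeCore_normal' p
  have hq' : ¬ q ∣ (pPrimeCore p G).index := by
    intro hdvd
    rw [Subgroup.index_eq_card] at hdvd
    obtain ⟨y₀, hy₀⟩ := exists_prime_orderOf_dvd_card' q hdvd
    obtain ⟨y, hy, hyq⟩ := exists_lift_qElt (pPrimeCore p G) y₀ ⟨1, by rw [hy₀, pow_one]⟩
    obtain ⟨P, hP⟩ := exists_sylow_le_of_not_dvd_index _ (h y hyq)
    have hzq : IsPGroup q (Subgroup.zpowers y) := by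
      obtain ⟨k, hk⟩ := hyq
      rw [IsPGroup.iff_card, Nat.card_zpowers, hk]
      exact ⟨k, rfl⟩
    have hPz : (P : Subgroup G) ≤ Subgroup.normalizer ((Subgroup.zpowers y : Subgroup G) : Set G) := by
      intro g hg
      have hgy : g * y = y * g := Subgroup.mem_centralizer_singleton_iff.mp (hP hg)
      rw [Subgroup.mem_normalizer_iff]
      intro z
      have hconj : ∀ z ∈ Subgroup.zpowers y, g * z * g⁻¹ = z := by
        intro z hz
        obtain ⟨i, rfl⟩ := Subgroup.mem_zpowers_iff.mp hz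
        have hc : Commute g y := hgy
        rw [(hc.zpow_right i).eq, mul_inv_cancel_right]
      constructor
      · intro hz; rw [hconj z hz]; exact hz
      · intro hz
        have h1 := hconj _ hz
        have h3 : g * z * g⁻¹ = z := mul_left_cancel (mul_right_cancel h1)
        rw [← h3]; exact hz
    have hle := le_pPrimeCore_of_normalizes hpq hsolv P (Subgroup.zpowers y) hzq hPz
    have hy1 : (QuotientGroup.mk' (pPrimeCore p G)) y = 1 :=
      (QuotientGroup.eq_one_iff y).mpr (hle (Subgroup.mem_zpowers y))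
    rw [hy] at hy1
    rw [hy1, orderOf_one] at hy₀
    exact hq.out.one_lt.ne hy₀
  obtain ⟨P⟩ : Nonempty (Sylow p G) := inferInstance
  obtain ⟨Q, hQ⟩ := exists_normalized_sylow (pPrimeCore p G) (pPrimeCore_coprime p) hq' P
  exact ⟨P, Q, hQ⟩

end Cfsg.Agent.Lib.Helper7.SylNorm
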