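import Mathlib

set_option autoImplicit false

namespace Cfsg.Agent.Lib.Helper7

/-- A subgroup containing a Sylow `q`-subgroup for every prime `q` is everything. -/
theorem eq_top_of_forall_sylow_le {G : Type*} [Group G] [Finite G] (H : Subgroup G)
    (h : ∀ (q : ℕ) [Fact q.Prime], ∃ Q : Sylow q G, (Q : Subgroup G) ≤ H) : H = ⊤ := by
  rw [← Subgroup.index_eq_one]
  by_contra hne
  obtain ⟨q, hq, hqd⟩ := Nat.exists_prime_and_dvd hne
  haveI : Fact q.Prime := ⟨hq⟩
  obtain ⟨Q, hQ⟩ := h q
  exact Q.not_dvd_index (dvd_trans hqd (Subgroup.index_dvd_of_le hQ))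

/-- An element of order coprime to `p` lies in any subgroup containing all elements of
prime power order for primes other than `p`. -/
theorem mem_of_coprime_order {G : Type*} [Group G] [Finite G] (p : ℕ) [Fact p.Prime]
    (C : Subgroup G)
    (hC : ∀ y : G, (∃ q b : ℕ, q.Prime ∧ q ≠ p ∧ orderOf y = q ^ b) → y ∈ C)
    (h : G) (hh : Nat.Coprime (orderOf h) p) : h ∈ C := by
  set Z := Subgroup.zpowers h with hZ
  have hD : C.subgroupOf Z = ⊤ := by
    apply eq_top_of_forall_sylow_le
    intro q hq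
    obtain ⟨Q⟩ : Nonempty (Sylow q Z) := inferInstance
    refine ⟨Q, ?_⟩
    intro z hz
    rw [Subgroup.mem_subgroupOf]
    obtain ⟨k, hk⟩ := (IsPGroup.iff_orderOf.mp Q.isPGroup') ⟨z, hz⟩
    rw [Subgroup.orderOf_mk] at hk
    have hk' : orderOf (z : G) = q ^ k := by rw [Subgroup.orderOf_coe]; exact hk
    by_cases hqp : q = p
    · -- then z = 1
      have h1 : orderOf (z : G) ∣ orderOf h := by
        have h3 := orderOf_dvd_natCard z
        have h4 : Nat.card Z = orderOf h := Nat.card_zpowers h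
        rw [h4] at h3
        rw [Subgroup.orderOf_coe]; exact h3
      have h2 : orderOf (z : G) ∣ p ^ k := by rw [hk', hqp]
      have hcop : Nat.Coprime (orderOf h) (p ^ k) := Nat.Coprime.pow_right k hh
      have := Nat.dvd_gcd h1 h2
      rw [hcop] at this
      have hz1 : (z : G) = 1 := orderOf_eq_one_iff.mp (Nat.dvd_one.mp this)
      rw [hz1]; exact C.one_mem
    · apply hC
      exact ⟨q, k, hq.out, hqp, hk'⟩
  have : (⟨h, Subgroup.mem_zpowers h⟩ : Z) ∈ C.subgroupOf Z := by rw [hD]; exact Subgroup.mem_top _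
  exact Subgroup.mem_subgroupOf.mp this

end Cfsg.Agent.Lib.Helper7
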