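import Mathlib

set_option autoImplicit false

/-!
# Derived length of `p`-groups of permutations: the upper bound
-/

namespace Cfsg.Agent.Lib.Helper7.SymSylow

open MulAction

universe u v

theorem derivedSeries_succ_eq_map (P : Type u) [Group P] (k : ℕ) :
    derivedSeries P (k + 1) = (derivedSeries (commutator P) k).map (commutator P).subtype := by
  induction k with
  | zero =>
    rw [derivedSeries_succ, derivedSeries_zero, derivedSeries_zero, ← MonoidHom.range_eq_map,
      Subgroup.range_subtype, commutator_def]
  | succ k ih =>
    rw [derivedSeries_succ, ih, derivedSeries_succ, Subgroup.map_commutator]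

/-- In a finite `p`-group every proper subgroup lies in a normal subgroup of index `p`. -/
theorem exists_normal_index_p {p : ℕ} [Fact p.Prime] {P : Type u} [Group P] [Finite P]
    (hP : IsPGroup p P) (H : Subgroup P) (hH : H ≠ ⊤) :
    ∃ M : Subgroup P, M.Normal ∧ M.index = p ∧ H ≤ M := by
  have hp := (Fact.out : p.Prime)
  obtain ⟨a, ha⟩ := IsPGroup.iff_card.mp hP
  obtain ⟨b, hb⟩ := IsPGroup.iff_card.mp (hP.to_subgroup H)
  have hba : b < a := by
    have h1 : Nat.card H < Nat.card P := by
      by_contra hcon
      push Not at hcon
      exact hH (Subgroup.eq_top_of_card_eq H (le_antisymm (Subgroup.card_le_card_group H) hcon))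
    rw [ha, hb] at h1
    exact (Nat.pow_lt_pow_iff_right hp.one_lt).mp h1
  obtain ⟨M, hM, hHM⟩ := Sylow.exists_subgroup_card_pow_prime_le p (m := a - 1)
    (by rw [ha]; exact pow_dvd_pow p (Nat.sub_le a 1)) H hb (by omega)
  have hidx : M.index = p := by
    have h1 := M.card_mul_index
    rw [hM, ha] at h1
    have h2 : p ^ a = p ^ (a - 1) * p := by rw [← pow_succ]; congr 1; omega
    rw [h2] at h1
    exact Nat.eq_of_mul_eq_mul_left (pow_pos hp.pos _) h1
  refine ⟨M, ?_, hidx, hHM⟩
  apply Subgroup.normal_of_index_eq_minFac_card
  rw [hidx, ha, Nat.Prime.pow_minFac hp (by omega)]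

theorem commutator_le_of_index_prime {p : ℕ} [Fact p.Prime] {P : Type u} [Group P]
    (M : Subgroup P) [M.Normal] (hM : M.index = p) : commutator P ≤ M := by
  have hp := (Fact.out : p.Prime)
  have h1 : Nat.card (P ⧸ M) = p := by rw [← Subgroup.index_eq_card]; exact hM
  haveI : IsCyclic (P ⧸ M) := isCyclic_of_prime_card h1
  rw [← Subgroup.Normal.quotient_commutative_iff_commutator_le]
  exact ⟨⟨fun a b => IsCyclic.commGroup.mul_comm a b⟩⟩

theorem derivedSeries_eq_bot_of_orbits {p : ℕ} [Fact p.Prime] : ∀ (k : ℕ) (P : Type u) [Group P]
    [Finite P] (X : Type v) [MulAction P X] [FaithfulSMul P X], IsPGroup p P →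
    (∀ x : X, (orbit P x).ncard ≤ p ^ k) → derivedSeries P k = ⊥ := by
  intro k
  induction k with
  | zero =>
    intro P _ _ X _ _ hP horb
    rw [derivedSeries_zero, eq_bot_iff]
    intro g _
    rw [Subgroup.mem_bot]
    apply FaithfulSMul.eq_of_smul_eq_smul (α := X)
    intro x
    rw [one_smul]
    have h1 : (orbit P x).ncard ≤ 1 := by simpa using horb x
    haveI : Finite (orbit P x) := Set.finite_range _
    have h2 := Set.ncard_le_one_iff_subsingleton.mp h1
    exact h2 (mem_orbit x g) (mem_orbit_self x)
  | succ k ih =>
    intro P _ _ X _ _ hP horb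
    have hp := (Fact.out : p.Prime)
    rw [derivedSeries_succ_eq_map]
    have h0 : derivedSeries (commutator P) k = ⊥ := by
      apply ih (commutator P) X (hP.to_subgroup _)
      intro x
      by_cases hst : stabilizer P x = ⊤
      · -- `x` is a fixed point
        have : orbit (commutator P) x = {x} := by
          ext y
          constructor
          · rintro ⟨g, rfl⟩
            have : (g : P) ∈ stabilizer P x := hst ▸ Subgroup.mem_top _
            exact this
          · rintro rfl
            exact mem_orbit_self _
        rw [this, Set.ncard_singleton]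
        exact Nat.one_le_pow _ _ hp.pos
      · obtain ⟨M, hMn, hMidx, hMst⟩ := exists_normal_index_p hP (stabilizer P x) hst
        haveI := hMn
        have hcM : commutator P ≤ M := commutator_le_of_index_prime M hMidx
        have h1 : (orbit (commutator P) x).ncard ≤ (orbit M x).ncard := by
          apply Set.ncard_le_ncard _ (Set.finite_range _)
          rintro y ⟨g, rfl⟩
          exact ⟨⟨(g : P), hcM g.2⟩, rfl⟩
        have h2 : (orbit M x).ncard * p = (orbit P x).ncard := by
          rw [← index_stabilizer, ← index_stabilizer]
          have e : stabilizer M x = (stabilizer P x).subgroupOf M := by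
            ext m
            rw [mem_stabilizer_iff, Subgroup.mem_subgroupOf, mem_stabilizer_iff]
            rfl
          rw [e, ← hMidx]
          exact Subgroup.relIndex_mul_index hMst
        have h3 := horb x
        rw [← h2, pow_succ] at h3
        exact h1.trans (Nat.le_of_mul_le_mul_right h3 hp.pos)
    rw [h0, Subgroup.map_bot]

end Cfsg.Agent.Lib.Helper7.SymSylow
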