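import Mathlib

set_option autoImplicit false

/-!
# Derived length of wreath products: the lower bound
-/

namespace Cfsg.Agent.Lib.Helper7.SymSylow

open RegularWreathProduct
open scoped commutatorElement

universe u

section

variable (D Q : Type*) [Group D] [Group Q]

/-- values at `1` of the base-group elements of the `(j+1)`-st derived subgroup -/
def coordSub (j : ℕ) : Subgroup D where
  carrier := {w | ∃ x ∈ derivedSeries (D ≀ᵣ Q) (j + 1), x.right = 1 ∧ x.left 1 = w}
  one_mem' := ⟨1, Subgroup.one_mem _, rfl, rfl⟩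
  mul_mem' := by
    rintro a b ⟨x, hx, hx1, rfl⟩ ⟨y, hy, hy1, rfl⟩
    refine ⟨x * y, Subgroup.mul_mem _ hx hy, ?_, ?_⟩
    · rw [mul_right, hx1, hy1, one_mul]
    · rw [mul_left, Pi.mul_apply, hx1, inv_one, one_mul]
  inv_mem' := by
    rintro a ⟨x, hx, hx1, rfl⟩
    refine ⟨x⁻¹, Subgroup.inv_mem _ hx, ?_, ?_⟩
    · rw [inv_right, hx1, inv_one]
    · rw [inv_left, hx1]
      show x.left⁻¹ (1 * 1) = _
      rw [one_mul]
      rfl

variable {D Q}

theorem derivedSeries_le_coordSub [DecidableEq Q] {q : Q} (hq : q ≠ 1) (j : ℕ) :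
    derivedSeries D j ≤ coordSub D Q j := by
  induction j with
  | zero =>
    intro w _
    -- the commutator of `(δ_w, 1)` and `(1, q)`
    let a : D ≀ᵣ Q := ⟨fun x => if x = 1 then w else 1, 1⟩
    let c : D ≀ᵣ Q := ⟨1, q⟩
    refine ⟨⁅a, c⁆, ?_, ?_, ?_⟩
    · rw [derivedSeries_succ, derivedSeries_zero]
      exact Subgroup.commutator_mem_commutator (Subgroup.mem_top a) (Subgroup.mem_top c)
    · rw [commutatorElement_def]
      simp only [mul_right, inv_right]
      show 1 * q * 1⁻¹ * q⁻¹ = 1
      group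
    · rw [commutatorElement_def]
      simp only [mul_left, inv_left, Pi.mul_apply, mul_right, inv_right]
      have hq' : q⁻¹ ≠ 1 := inv_ne_one.mpr hq
      simp [a, c, hq']
  | succ j ih =>
    rw [derivedSeries_succ, Subgroup.commutator_le]
    intro u hu v hv
    obtain ⟨x, hx, hx1, hxu⟩ := ih hu
    obtain ⟨y, hy, hy1, hyv⟩ := ih hv
    refine ⟨⁅x, y⁆, ?_, ?_, ?_⟩
    · rw [derivedSeries_succ]
      exact Subgroup.commutator_mem_commutator hx hy
    · rw [commutatorElement_def]
      simp only [mul_right, inv_right, hx1, hy1]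
      group
    · rw [commutatorElement_def]
      simp only [mul_left, inv_left, Pi.mul_apply, mul_right, inv_right, hx1, hy1]
      simp only [inv_one, one_mul, mul_one, Pi.inv_apply]
      rw [hxu, hyv, commutatorElement_def]

theorem derivedSeries_wreath_ne_bot {q : Q} (hq : q ≠ 1) (j : ℕ) (h : derivedSeries D j ≠ ⊥) :
    derivedSeries (D ≀ᵣ Q) (j + 1) ≠ ⊥ := by
  classical
  obtain ⟨⟨w, hw⟩, hw1⟩ := (Subgroup.ne_bot_iff_exists_ne_one).mp h
  obtain ⟨x, hx, _, hxw⟩ := derivedSeries_le_coordSub hq j hw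
  intro hbot
  rw [hbot, Subgroup.mem_bot] at hx
  apply hw1
  apply Subtype.ext
  show w = 1
  rw [← hxw, hx]
  rfl

end

/-- the iterated wreath product of a nontrivial group has derived length at least `k` -/
theorem derivedSeries_iterated_ne_bot (G : Type u) [Group G] [Nontrivial G] (k : ℕ) :
    derivedSeries (IteratedWreathProduct G (k + 1)) k ≠ ⊥ := by
  obtain ⟨q, hq⟩ := exists_ne (1 : G)
  induction k with
  | zero =>
    rw [derivedSeries_zero]
    intro h
    let z : IteratedWreathProduct G 1 := (inl q : IteratedWreathProduct G 0 ≀ᵣ G)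
    have h1 : z ∈ (⊤ : Subgroup (IteratedWreathProduct G 1)) := Subgroup.mem_top _
    rw [h, Subgroup.mem_bot] at h1
    apply hq
    have h2 : (inl q : IteratedWreathProduct G 0 ≀ᵣ G) = 1 := h1
    have := congrArg RegularWreathProduct.right h2
    exact this
  | succ k ih =>
    exact derivedSeries_wreath_ne_bot (D := IteratedWreathProduct G (k + 1)) (Q := G) hq k ih

end Cfsg.Agent.Lib.Helper7.SymSylow
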