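import Cfsg.Agent.Lib.Helper7.SzGD2

set_option autoImplicit false

namespace Cfsg.Agent.Lib.Helper7.SzG

set_option maxRecDepth 100000

theorem ord_chunk2 : ordRange 336 168 = true := by decide +kernel

end Cfsg.Agent.Lib.Helper7.SzG
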