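import Cfsg.Agent.Lib.Helper1.MatCode2

/-!
# Closure of a coded list under right multiplication, with an index certificate
-/

set_option autoImplicit false

namespace Cfsg.Agent.Lib.Helper7.SzG

section generic

variable {M : Type*} [Monoid M] (D : ℕ → M) (mu : ℕ → ℕ → ℕ)

/-- `L` is closed under right multiplication by `s`: `perm` lists the positions of the products -/
def chkRCI (L : List ℕ) (s : ℕ) (perm : List ℕ) : Bool :=
  (perm.length == L.length) && (L.zip perm).all (fun x =>
    decide (x.2 < L.length) && (mu x.1 s == L.getD x.2 0))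

theorem chkRCI_sound (C : ℕ → Prop) (hmu : ∀ a b, C b → D (mu a b) = D a * D b) {L : List ℕ}
    {s : ℕ} {perm : List ℕ} (hs : C s) (h : chkRCI mu L s perm = true) :
    ∀ q ∈ L, ∃ q' ∈ L, D q * D s = D q' := by
  intro q hq
  unfold chkRCI at h
  rw [Bool.and_eq_true, beq_iff_eq, List.all_eq_true] at h
  obtain ⟨hlen, hall⟩ := h
  obtain ⟨k, hk, rfl⟩ := List.getElem_of_mem hq
  have hk' : k < perm.length := by omega
  have hmem : (L[k], perm[k]) ∈ L.zip perm := by
    have : (L.zip perm)[k]'(by rw [List.length_zip]; omega) = (L[k], perm[k]) := List.getElem_zip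
    rw [← this]
    exact List.getElem_mem _
  have h3 := hall _ hmem
  simp only [Bool.and_eq_true, decide_eq_true_eq, beq_iff_eq] at h3
  obtain ⟨h4, h5⟩ := h3
  refine ⟨L.getD perm[k] 0, ?_, ?_⟩
  · rw [List.getD_eq_getElem _ _ h4]; exact List.getElem_mem _
  · rw [← hmu _ _ hs, h5]

end generic

end Cfsg.Agent.Lib.Helper7.SzG
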