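import Cfsg.Agent.Lib.Helper1.MatCode3
import Cfsg.Agent.Lib.Helper7.Bit48F
import Cfsg.Agent.Lib.Helper7.SzGD1
import Cfsg.Agent.Lib.Helper7.SzGR

/-!
# Kernel checks for the coded group of `48 × 48` matrices over `ZMod 2`
-/

set_option autoImplicit false

namespace Cfsg.Agent.Lib.Helper7.SzG

open Cfsg.Agent.Lib.Helper1.MatCode

/-- coded product -/
def mu (a b : ℕ) : ℕ := Bit48.muU a b

/-- coded sum -/
def addN (a b : ℕ) : ℕ := Bit48.add a b

/-- coded powers -/
def q2 (g : ℕ) : ℕ := mu g g
/-- coded powers -/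
def q3 (g : ℕ) : ℕ := mu (q2 g) g
/-- coded powers -/
def q6 (g : ℕ) : ℕ := mu (q3 g) (q3 g)
/-- coded powers -/
def q7 (g : ℕ) : ℕ := mu (q6 g) g
/-- coded powers -/
def q12 (g : ℕ) : ℕ := mu (q6 g) (q6 g)
/-- coded powers -/
def q13 (g : ℕ) : ℕ := mu (q12 g) g
/-- coded powers -/
def q15 (g : ℕ) : ℕ := mu (q12 g) (q3 g)

/-- the coded sum `1 + g + … + g ^ k` -/
def hor (g : ℕ) : ℕ → ℕ
  | 0 => c1
  | k + 1 => addN c1 (mu (hor g k) g)

/-- the order divides `12`, `15` or `7`, or it is `13` and the element has no fixed point -/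
def okU (g : ℕ) : Bool :=
  q12 g == c1 || (q15 g == c1 || (q7 g == c1 || (q13 g == c1 && hor g 12 == 0)))

/-- the double coset representatives -/
def rep (r : ℕ) : ℕ := T.getD (Rk.getD r 0) 0

/-- the check of the double coset certificate at `k` -/
def dcOK (k : ℕ) : Bool :=
  decide (dcL.getD k 0 % 2048 < 1344) && (decide (dcL.getD k 0 / 2048 % 2 < 2) &&
    (decide (dcL.getD k 0 / 4096 < 1344) &&
      (mu (mu (A.getD (dcL.getD k 0 % 2048) 0) (rep (dcL.getD k 0 / 2048 % 2)))
        (A.getD (dcL.getD k 0 / 4096) 0) == T.getD k 0)))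

/-- the order check for the elements `A i * R r` with `lo ≤ i < lo + n` -/
def ordRange (lo n : ℕ) : Bool :=
  (List.range' lo n).all (fun i => (List.range 2).all (fun r => okU (mu (A.getD i 0) (rep r))))

/-- coded powers -/
def pwU (c k : ℕ) : ℕ := powN mu c1 c k

/-- coded words in the generators -/
def evU (w : List ℕ) : ℕ := evalW mu [cX, cY] c1 w

set_option maxRecDepth 100000

theorem canon_all :
    ([cX, cY, cXi, cYi, c1, cH, cU, cS] ++ (A ++ T)).all Bit48.canonB = true := by
  decide +kernel

theorem rc_H : chkRCI mu A cH permH = true := by decide +kernel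

theorem rc_U : chkRCI mu A cU permU = true := by decide +kernel

theorem rc_S : chkRCI mu A cS permS = true := by decide +kernel

theorem tree_A : chkTree mu A [cH, cU, cS] parA = true := by decide +kernel

theorem step_X : chkStep mu A T cX certX = true := by decide +kernel

theorem step_Y : chkStep mu A T cY certY = true := by decide +kernel

theorem len_A : A.length = 1344 := by decide +kernel

theorem len_T : T.length = 65 := by decide +kernel

theorem head_A : A.getD 0 0 = c1 := by decide +kernel

theorem head_T : T.getD 0 0 = c1 := by decide +kernel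

theorem dc_all : (List.range 65).all dcOK = true := by decide +kernel

theorem len_Rk : Rk.length = 2 := by decide +kernel

theorem Rk_lt : Rk.all (fun k => decide (k < 65)) = true := by decide +kernel

theorem inv_X : (mu cX cXi == c1 && mu cXi cX == c1) = true := by decide +kernel

theorem inv_Y : (mu cY cYi == c1 && mu cYi cY == c1) = true := by decide +kernel

/-- a word of order `6` -/
def w6 : List ℕ := [0, 1, 0, 1]
/-- a word of order `15` -/
def w15 : List ℕ := [0, 0, 1, 0, 0, 1, 0, 1, 0, 1, 0, 1, 0, 1]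
/-- a word of order `13` -/
def w13 : List ℕ := [0, 0, 1, 0, 0, 1, 0, 1, 0, 0, 1, 0, 1, 0, 1]
/-- a word of order `5` -/
def w5 : List ℕ := [0, 0, 1, 0, 0, 1, 0, 1, 0, 1, 0, 0, 1, 0, 1]
/-- a word of order `7` -/
def w7 : List ℕ := [0, 0, 1, 0, 1]

theorem ord_w6 : (pwU (evU w6) 6 == c1 && (pwU (evU w6) 3 != c1 &&
    pwU (evU w6) 2 != c1)) = true := by decide +kernel

theorem ord_w15 : (pwU (evU w15) 15 == c1 && (pwU (evU w15) 5 != c1 &&
    pwU (evU w15) 3 != c1)) = true := by decide +kernel

theorem ord_w13 : (pwU (evU w13) 13 == c1 && evU w13 != c1) = true := by decide +kernel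

theorem ord_w5 : (pwU (evU w5) 5 == c1 && (evU w5 != c1 && hor (evU w5) 4 != 0)) = true := by
  decide +kernel

theorem ord_w7 : (pwU (evU w7) 7 == c1 && (evU w7 != c1 && hor (evU w7) 6 != 0)) = true := by
  decide +kernel

end Cfsg.Agent.Lib.Helper7.SzG
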