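import Cfsg.Agent.Lib.Helper1.MatCode2
import Cfsg.Agent.Lib.Helper7.SzGC0
import Cfsg.Agent.Lib.Helper7.SzGC1
import Cfsg.Agent.Lib.Helper7.SzGC2
import Cfsg.Agent.Lib.Helper7.SzGC3
import Cfsg.Agent.Lib.Helper7.SzGC4
import Cfsg.Agent.Lib.Helper7.SzGC5
import Cfsg.Agent.Lib.Helper7.SzGC6
import Cfsg.Agent.Lib.Helper7.SzGC7

/-!
# The coded group of `48 × 48` matrices over `ZMod 2`: soundness of the checks

Every element `M` of a group generated by two elements with the coded matrices satisfies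
`M ^ 12 = 1`, `M ^ 15 = 1`, `M ^ 7 = 1`, or `M ^ 13 = 1` and `1 + M + … + M ^ 12 = 0`.
-/

set_option autoImplicit false

namespace Cfsg.Agent.Lib.Helper7.SzG

open Cfsg.Agent.Lib.Helper1.MatCode

/-- the matrices -/
abbrev MatU : Type := Matrix (Fin 48) (Fin 48) (ZMod 2)

/-- decoding -/
def DU (c : ℕ) : MatU := Bit48.dec c

theorem hmu (a b : ℕ) (hb : Bit48.Canon b) : DU (mu a b) = DU a * DU b :=
  Bit48.hmuU a b hb

theorem hC (a b : ℕ) : Bit48.Canon (mu a b) := Bit48.canon_muU a b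

set_option maxRecDepth 100000 in
theorem DU_c1 : DU c1 = 1 := by
  unfold DU
  decide +kernel

theorem DU_zero : DU 0 = 0 := Bit48.dec_zero

theorem DU_addN (a b : ℕ) : DU (addN a b) = DU a + DU b := Bit48.dec_add a b

theorem canon_addN {a b : ℕ} (ha : Bit48.Canon a) (hb : Bit48.Canon b) :
    Bit48.Canon (addN a b) := Bit48.canon_add ha hb

theorem canon_of_mem {c : ℕ} (hc : c ∈ [cX, cY, cXi, cYi, c1, cH, cU, cS] ++ (A ++ T)) :
    Bit48.Canon c := Bit48.canon_of_all canon_all c hc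

theorem canon_cX : Bit48.Canon cX := canon_of_mem (by simp)
theorem canon_cY : Bit48.Canon cY := canon_of_mem (by simp)
theorem canon_cXi : Bit48.Canon cXi := canon_of_mem (by simp)
theorem canon_cYi : Bit48.Canon cYi := canon_of_mem (by simp)
theorem canon_c1 : Bit48.Canon c1 := canon_of_mem (by simp)
theorem canon_cH : Bit48.Canon cH := canon_of_mem (by simp)
theorem canon_cU : Bit48.Canon cU := canon_of_mem (by simp)
theorem canon_cS : Bit48.Canon cS := canon_of_mem (by simp)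

theorem canon_of_mem_A {a : ℕ} (ha : a ∈ A) : Bit48.Canon a :=
  canon_of_mem (List.mem_append_right _ (List.mem_append_left _ ha))

theorem canon_of_mem_T {t : ℕ} (ht : t ∈ T) : Bit48.Canon t :=
  canon_of_mem (List.mem_append_right _ (List.mem_append_right _ ht))

theorem getD_mem_A {i : ℕ} (hi : i < 1344) : A.getD i 0 ∈ A := by
  have h : i < A.length := by rw [len_A]; exact hi
  rw [List.getD_eq_getElem _ _ h]
  exact List.getElem_mem h

theorem getD_mem_T {i : ℕ} (hi : i < 65) : T.getD i 0 ∈ T := by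
  have h : i < T.length := by rw [len_T]; exact hi
  rw [List.getD_eq_getElem _ _ h]
  exact List.getElem_mem h

theorem exists_getD_of_mem_A {a : ℕ} (ha : a ∈ A) : ∃ i, i < 1344 ∧ A.getD i 0 = a := by
  obtain ⟨i, hi, rfl⟩ := List.getElem_of_mem ha
  refine ⟨i, by rw [← len_A]; exact hi, ?_⟩
  rw [List.getD_eq_getElem _ _ hi]

theorem exists_getD_of_mem_T {t : ℕ} (ht : t ∈ T) : ∃ i, i < 65 ∧ T.getD i 0 = t := by
  obtain ⟨i, hi, rfl⟩ := List.getElem_of_mem ht
  refine ⟨i, by rw [← len_T]; exact hi, ?_⟩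
  rw [List.getD_eq_getElem _ _ hi]

theorem rep_mem_T {r : ℕ} (hr : r < 2) : rep r ∈ T := by
  unfold rep
  apply getD_mem_T
  have h : r < Rk.length := by rw [len_Rk]; exact hr
  rw [List.getD_eq_getElem _ _ h]
  have h2 := Rk_lt
  rw [List.all_eq_true] at h2
  exact of_decide_eq_true (h2 _ (List.getElem_mem h))

theorem canon_rep {r : ℕ} (hr : r < 2) : Bit48.Canon (rep r) := canon_of_mem_T (rep_mem_T hr)

theorem c1_mem_A : c1 ∈ A := by
  have := getD_mem_A (i := 0) (by norm_num)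
  rwa [head_A] at this

theorem c1_mem_T : c1 ∈ T := by
  have := getD_mem_T (i := 0) (by norm_num)
  rwa [head_T] at this

theorem rc_sound (s : ℕ) (perm : List ℕ) (hs : Bit48.Canon s) (h : chkRCI mu A s perm = true) :
    ∀ q ∈ A, ∃ q' ∈ A, DU q * DU s = DU q' := by
  have h1 := @chkRCI_sound MatU _ DU mu Bit48.Canon hmu
  have h2 := @h1 A
  have h3 := @h2 s
  have h4 := @h3 perm
  have h5 := h4 hs
  exact h5 h

theorem tree_sound : ∀ a ∈ A, DU a ∈ Submonoid.closure {m | ∃ s ∈ [cH, cU, cS], m = DU s} := by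
  have h1 := @chkTree_sound MatU _ DU mu Bit48.Canon hmu
  have h2 := @h1 A
  have h3 := @h2 [cH, cU, cS]
  have h4 := @h3 parA
  have hSA : ∀ s ∈ [cH, cU, cS], Bit48.Canon s := by
    intro s hs
    simp only [List.mem_cons, List.not_mem_nil, or_false] at hs
    rcases hs with rfl | rfl | rfl
    · exact canon_cH
    · exact canon_cU
    · exact canon_cS
  have h5 := h4 hSA
  have h6 : DU (A.getD 0 0) = 1 := by rw [head_A]; exact DU_c1
  have h7 := h5 h6
  exact h7 tree_A

theorem A_mul_closed : ∀ a ∈ A, ∀ a' ∈ A, ∃ a'' ∈ A, DU a * DU a' = DU a'' := by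
  have h1 := @mul_closed MatU _ DU A [cH, cU, cS]
  have hRC : ∀ s ∈ [cH, cU, cS], ∀ q ∈ A, ∃ q' ∈ A, DU q * DU s = DU q' := by
    intro s hs
    simp only [List.mem_cons, List.not_mem_nil, or_false] at hs
    rcases hs with rfl | rfl | rfl
    · exact rc_sound cH permH canon_cH rc_H
    · exact rc_sound cU permU canon_cU rc_U
    · exact rc_sound cS permS canon_cS rc_S
  have h2 := h1 hRC
  exact h2 tree_sound

theorem step_sound (s : ℕ) (cert : List (ℕ × ℕ)) (hs : Bit48.Canon s)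
    (h : chkStep mu A T s cert = true) :
    ∀ t ∈ T, ∃ a ∈ A, ∃ t' ∈ T, DU t * DU s = DU a * DU t' := by
  have h1 := @chkStep_sound MatU _ DU mu Bit48.Canon hmu
  have h2 := @h1 A
  have h3 := @h2 T
  have h4 := @h3 s
  have h5 := @h4 cert
  have h6 := h5 hs
  have h7 := h6 (fun t ht => canon_of_mem_T ht)
  exact h7 h

theorem step_all : ∀ s ∈ [cX, cY], ∀ t ∈ T, ∃ a ∈ A, ∃ t' ∈ T, DU t * DU s = DU a * DU t' := by
  intro s hs
  simp only [List.mem_cons, List.not_mem_nil, or_false] at hs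
  rcases hs with rfl | rfl
  · exact step_sound cX certX canon_cX step_X
  · exact step_sound cY certY canon_cY step_Y

theorem one_mem_AT : (1 : MatU) ∈ AT DU A T :=
  ⟨c1, c1_mem_A, c1, c1_mem_T, by rw [DU_c1, mul_one]⟩

/-- the property of the matrices of the group -/
def Good (M : MatU) : Prop :=
  M ^ 12 = 1 ∨ M ^ 15 = 1 ∨ M ^ 7 = 1 ∨ (M ^ 13 = 1 ∧ ∑ i ∈ Finset.range 13, M ^ i = 0)

section powers

variable (g : ℕ) (hg : Bit48.Canon g)
include hg

theorem DU_q2 : DU (q2 g) = DU g ^ 2 := by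
  unfold q2; rw [hmu _ _ hg, sq]

theorem DU_q3 : DU (q3 g) = DU g ^ 3 := by
  unfold q3; rw [hmu _ _ hg, DU_q2 g hg]; rfl

theorem DU_q6 : DU (q6 g) = DU g ^ 6 := by
  unfold q6; rw [hmu _ _ (show Bit48.Canon (q3 g) from hC _ _), DU_q3 g hg, ← pow_add]

theorem DU_q7 : DU (q7 g) = DU g ^ 7 := by
  unfold q7; rw [hmu _ _ hg, DU_q6 g hg]; rfl

theorem DU_q12 : DU (q12 g) = DU g ^ 12 := by
  unfold q12; rw [hmu _ _ (show Bit48.Canon (q6 g) from hC _ _), DU_q6 g hg, ← pow_add]

theorem DU_q13 : DU (q13 g) = DU g ^ 13 := by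
  unfold q13; rw [hmu _ _ hg, DU_q12 g hg]; rfl

theorem DU_q15 : DU (q15 g) = DU g ^ 15 := by
  unfold q15
  rw [hmu _ _ (show Bit48.Canon (q3 g) from hC _ _), DU_q12 g hg, DU_q3 g hg, ← pow_add]

theorem DU_hor (k : ℕ) : DU (hor g k) = ∑ i ∈ Finset.range (k + 1), DU g ^ i := by
  induction k with
  | zero => simp [hor, DU_c1]
  | succ k ih =>
    rw [hor, DU_addN, hmu _ _ hg, ih, DU_c1, Finset.sum_range_succ' _ (k + 1), Finset.sum_mul,
      pow_zero, add_comm]
    congr 1

theorem okU_sound (h : okU g = true) : Good (DU g) := by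
  unfold okU at h
  simp only [Bool.or_eq_true, Bool.and_eq_true, beq_iff_eq] at h
  rcases h with h | h | h | ⟨h, h'⟩
  · exact Or.inl (by rw [← DU_q12 g hg, h, DU_c1])
  · exact Or.inr (Or.inl (by rw [← DU_q15 g hg, h, DU_c1]))
  · exact Or.inr (Or.inr (Or.inl (by rw [← DU_q7 g hg, h, DU_c1])))
  · refine Or.inr (Or.inr (Or.inr ⟨by rw [← DU_q13 g hg, h, DU_c1], ?_⟩))
    rw [← DU_hor g hg 12, h', DU_zero]

end powers

theorem good_swap (P Q : MatU) (hu : IsUnit (P * Q)) (h : Good (Q * P)) : Good (P * Q) := by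
  have hpow : ∀ n : ℕ, (P * Q) ^ (n + 1) = P * (Q * P) ^ n * Q := by
    intro n
    rw [pow_succ, ← mul_assoc, mul_pow_mul]
  have key : ∀ n : ℕ, (Q * P) ^ n = 1 → (P * Q) ^ n = 1 := by
    intro n hn
    have h1 : (P * Q) ^ (n + 1) = P * Q := by rw [hpow, hn, mul_one]
    obtain ⟨u, hu'⟩ := hu
    rw [← hu'] at h1 ⊢
    have : (u : MatU) ^ n * u = 1 * u := by rw [one_mul, ← pow_succ]; exact h1
    exact u.isUnit.mul_right_cancel this
  rcases h with h | h | h | ⟨h, h'⟩
  · exact Or.inl (key 12 h)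
  · exact Or.inr (Or.inl (key 15 h))
  · exact Or.inr (Or.inr (Or.inl (key 7 h)))
  · refine Or.inr (Or.inr (Or.inr ⟨key 13 h, ?_⟩))
    have h1 : (P * Q) * ∑ i ∈ Finset.range 13, (P * Q) ^ i = 0 := by
      rw [Finset.mul_sum]
      have : ∀ i ∈ Finset.range 13, (P * Q) * (P * Q) ^ i = P * (Q * P) ^ i * Q := by
        intro i _
        rw [← pow_succ', hpow]
      rw [Finset.sum_congr rfl this, ← Finset.sum_mul, ← Finset.mul_sum, h', mul_zero, zero_mul]
    obtain ⟨u, hu'⟩ := hu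
    rw [← hu'] at h1 ⊢
    have h2 : (u : MatU) * ∑ i ∈ Finset.range 13, (u : MatU) ^ i = (u : MatU) * 0 := by
      rw [mul_zero]; exact h1
    exact u.isUnit.mul_left_cancel h2

/-- every coset representative is `a' * r * h` -/
theorem T_decomp {t : ℕ} (ht : t ∈ T) :
    ∃ a' ∈ A, ∃ r, r < 2 ∧ ∃ h ∈ A, DU t = DU a' * DU (rep r) * DU h := by
  obtain ⟨k, hk, rfl⟩ := exists_getD_of_mem_T ht
  have h := dc_all
  rw [List.all_eq_true] at h
  have hk' := h k (List.mem_range.mpr hk)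
  unfold dcOK at hk'
  simp only [Bool.and_eq_true, decide_eq_true_eq, beq_iff_eq] at hk'
  obtain ⟨h1, h2, h3, h4⟩ := hk'
  refine ⟨_, getD_mem_A h1, _, h2, _, getD_mem_A h3, ?_⟩
  rw [← h4, hmu _ _ (canon_of_mem_A (getD_mem_A h3)), hmu _ _ (canon_rep h2)]

theorem ordRange_sound {lo n : ℕ} (h : ordRange lo n = true) {i : ℕ} (h1 : lo ≤ i) (h2 : i < lo + n)
    {r : ℕ} (hr : r < 2) : Good (DU (A.getD i 0) * DU (rep r)) := by
  unfold ordRange at h
  rw [List.all_eq_true] at h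
  have h3 := h i (List.mem_range'_1.mpr ⟨h1, h2⟩)
  rw [List.all_eq_true] at h3
  have h4 := h3 r (List.mem_range.mpr hr)
  rw [← hmu _ _ (canon_rep hr)]
  exact okU_sound _ (hC _ _) h4

/-- the elements `a * r` have the property -/
theorem AR_good {a : ℕ} (ha : a ∈ A) {r : ℕ} (hr : r < 2) : Good (DU a * DU (rep r)) := by
  obtain ⟨i, hi, rfl⟩ := exists_getD_of_mem_A ha
  by_cases c0 : i < 168
  · exact ordRange_sound ord_chunk0 (by omega) (by omega) hr
  by_cases c1 : i < 336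
  · exact ordRange_sound ord_chunk1 (by omega) (by omega) hr
  by_cases c2 : i < 504
  · exact ordRange_sound ord_chunk2 (by omega) (by omega) hr
  by_cases c3 : i < 672
  · exact ordRange_sound ord_chunk3 (by omega) (by omega) hr
  by_cases c4 : i < 840
  · exact ordRange_sound ord_chunk4 (by omega) (by omega) hr
  by_cases c5 : i < 1008
  · exact ordRange_sound ord_chunk5 (by omega) (by omega) hr
  by_cases c6 : i < 1176
  · exact ordRange_sound ord_chunk6 (by omega) (by omega) hr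
  · exact ordRange_sound ord_chunk7 (by omega) (by omega) hr

/-- every unit of `A * T` has the property -/
theorem AT_good {M : MatU} (hM : M ∈ AT DU A T) (hu : IsUnit M) : Good M := by
  obtain ⟨a, ha, t, ht, rfl⟩ := hM
  obtain ⟨a', ha', r, hr, h, hh, hdec⟩ := T_decomp ht
  obtain ⟨a2, ha2, e2⟩ := A_mul_closed a ha a' ha'
  obtain ⟨a3, ha3, e3⟩ := A_mul_closed h hh a2 ha2
  have e : DU a * DU t = (DU a2 * DU (rep r)) * DU h := by
    rw [hdec, ← e2]; simp only [mul_assoc]
  rw [e] at hu ⊢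
  apply good_swap _ _ hu
  rw [← mul_assoc, e3]
  exact AR_good ha3 hr

section abstract

variable {Γ : Type*} [Group Γ] (φ : Γ →* MatU) (x y : Γ)
variable (hx : φ x = DU cX) (hy : φ y = DU cY)
include hx hy

theorem step_mem : ∀ u ∈ ({x, y} : Set Γ), ∀ q ∈ AT DU A T, q * φ u ∈ AT DU A T := by
  intro u hu q hq
  have key := closure_subset DU A T [cX, cY] A_mul_closed step_all
  rcases hu with rfl | hu
  · rw [hx]; exact key cX (by simp) q hq
  · rw [Set.mem_singleton_iff.mp hu, hy]; exact key cY (by simp) q hq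

/-- every element of the generated subgroup has the property -/
theorem good_of_mem (g : Γ) (hg : g ∈ Subgroup.closure ({x, y} : Set Γ)) : Good (φ g) := by
  have hmem : φ g ∈ AT DU A T :=
    subgroup_closure_subset φ (AT_finite DU A T) one_mem_AT _ (step_mem φ x y hx hy) g hg
  exact AT_good hmem ((Group.isUnit g).map φ)

end abstract

end Cfsg.Agent.Lib.Helper7.SzG
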