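import Cfsg.Agent.Lib.Helper7.SzGD3
import Cfsg.Agent.Lib.Helper7.AffFrob

/-!
# Groups of arbitrarily large order with the prime graph of `PSp(6,3)`

The group `LU` generated by the two coded matrices acts on the vectors `VU = (ZMod 2) ^ 48`; the
elements of order `13` have no fixed points.  In the semidirect products `HK k = VU ^ k ⋊ LU` every
element `w` satisfies `w ^ 24 = 1`, `w ^ 30 = 1`, `w ^ 14 = 1` or `w ^ 13 = 1`.
-/

set_option autoImplicit false

namespace Cfsg.Agent.Lib.Helper7.SzG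

open Cfsg.Agent.Lib.Helper1.MatCode

theorem X_mul : DU cX * DU cXi = 1 := by
  have h := inv_X
  rw [Bool.and_eq_true, beq_iff_eq, beq_iff_eq] at h
  rw [← hmu _ _ canon_cXi, h.1, DU_c1]

theorem Xi_mul : DU cXi * DU cX = 1 := by
  have h := inv_X
  rw [Bool.and_eq_true, beq_iff_eq, beq_iff_eq] at h
  rw [← hmu _ _ canon_cX, h.2, DU_c1]

theorem Y_mul : DU cY * DU cYi = 1 := by
  have h := inv_Y
  rw [Bool.and_eq_true, beq_iff_eq, beq_iff_eq] at h
  rw [← hmu _ _ canon_cYi, h.1, DU_c1]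

theorem Yi_mul : DU cYi * DU cY = 1 := by
  have h := inv_Y
  rw [Bool.and_eq_true, beq_iff_eq, beq_iff_eq] at h
  rw [← hmu _ _ canon_cY, h.2, DU_c1]

/-- the first generator -/
def xU : GL (Fin 48) (ZMod 2) := ⟨DU cX, DU cXi, X_mul, Xi_mul⟩

/-- the second generator -/
def yU : GL (Fin 48) (ZMod 2) := ⟨DU cY, DU cYi, Y_mul, Yi_mul⟩

/-- the group -/
def LU : Subgroup (GL (Fin 48) (ZMod 2)) := Subgroup.closure {xU, yU}

/-- the matrices of the elements -/
def phiU : ↥LU →* MatU := (Units.coeHom MatU).comp LU.subtype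

theorem phiU_injective : Function.Injective phiU := by
  intro a b h
  apply Subtype.ext
  apply Units.ext
  exact h

/-- the first generator in the group -/
def xL : ↥LU := ⟨xU, Subgroup.subset_closure (by simp)⟩

/-- the second generator in the group -/
def yL : ↥LU := ⟨yU, Subgroup.subset_closure (by simp)⟩

theorem closure_xL_yL : Subgroup.closure ({xL, yL} : Set ↥LU) = ⊤ := by
  have h : Subgroup.closure (((↑) : ↥LU → GL (Fin 48) (ZMod 2)) ⁻¹'
      ({xU, yU} : Set (GL (Fin 48) (ZMod 2)))) = ⊤ :=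
    Subgroup.closure_closure_coe_preimage (k := ({xU, yU} : Set (GL (Fin 48) (ZMod 2))))
  have e : ((↑) ⁻¹' ({xU, yU} : Set (GL (Fin 48) (ZMod 2))) : Set ↥LU) = {xL, yL} := by
    ext g
    simp only [Set.mem_preimage, Set.mem_insert_iff, Set.mem_singleton_iff, xL, yL]
    constructor
    · rintro (h | h)
      · left; exact Subtype.ext h
      · right; exact Subtype.ext h
    · rintro (h | h)
      · left; rw [h]
      · right; rw [h]
  rw [e] at h
  exact h

theorem phiU_xL : phiU xL = DU cX := rfl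

theorem phiU_yL : phiU yL = DU cY := rfl

theorem good_LU (g : ↥LU) : Good (phiU g) :=
  good_of_mem phiU xL yL phiU_xL phiU_yL g (by rw [closure_xL_yL]; trivial)

/-- the product of a word in the generators -/
def wpU (w : List ℕ) : ↥LU := wordProd [xL, yL] w

theorem canon_evU (w : List ℕ) : Bit48.Canon (evU w) :=
  canon_evalW mu (Bit48.Canon) hC canon_c1 [cX, cY] w

theorem phiU_wpU (w : List ℕ) : phiU (wpU w) = DU (evU w) := by
  unfold wpU evU
  have h1 := @dec_evalW MatU _ DU mu Bit48.Canon hmu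
  have h2 := @h1 ↥LU _ phiU c1 DU_c1 canon_c1
  have h3 := h2 [xL, yL] [cX, cY] rfl
  have hG : ∀ i, ∀ (h : i < [xL, yL].length) (h' : i < [cX, cY].length),
      phiU [xL, yL][i] = DU [cX, cY][i] := by
    intro i h h'
    have hi : i < 2 := h
    interval_cases i
    · exact phiU_xL
    · exact phiU_yL
  have hcan : ∀ c ∈ [cX, cY], Bit48.Canon c := by
    intro c hc
    simp only [List.mem_cons, List.not_mem_nil, or_false] at hc
    rcases hc with rfl | rfl
    · exact canon_cX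
    · exact canon_cY
  have h4 := h3 hG
  have h5 := h4 hcan
  exact h5 w

theorem DU_pwU (c : ℕ) (hc : Bit48.Canon c) (m : ℕ) : DU (pwU c m) = DU c ^ m := by
  unfold pwU
  have h1 := @dec_powN MatU _ DU mu Bit48.Canon hmu
  have h2 := @h1 c1 c DU_c1
  have h3 := h2 hc
  exact h3 m

theorem phiU_wpU_pow (w : List ℕ) (m : ℕ) : phiU (wpU w ^ m) = DU (pwU (evU w) m) := by
  rw [map_pow, phiU_wpU, DU_pwU _ (canon_evU w)]

theorem wpU_pow_eq_one (w : List ℕ) (m : ℕ) (h : pwU (evU w) m = c1) : wpU w ^ m = 1 := by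
  apply phiU_injective
  rw [phiU_wpU_pow, h, DU_c1, map_one]

theorem canon_pwU (w : List ℕ) (m : ℕ) : Bit48.Canon (pwU (evU w) m) :=
  canon_powN mu Bit48.Canon hC canon_c1 m

theorem wpU_pow_ne_one (w : List ℕ) (m : ℕ) (h : (pwU (evU w) m != c1) = true) :
    wpU w ^ m ≠ 1 := by
  intro h1
  have h2 := congrArg phiU h1
  rw [phiU_wpU_pow, map_one, ← DU_c1] at h2
  have h3 : pwU (evU w) m ≠ c1 := by simpa using h
  exact Bit48.dec_ne_of_ne (canon_pwU w m) canon_c1 h3 h2

theorem wpU_ne_one (w : List ℕ) (h : (evU w != c1) = true) : wpU w ≠ 1 := by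
  intro h1
  have h2 := congrArg phiU h1
  rw [phiU_wpU, map_one, ← DU_c1] at h2
  have h3 : evU w ≠ c1 := by simpa using h
  exact Bit48.dec_ne_of_ne (canon_evU w) canon_c1 h3 h2

theorem orderOf_w6 : orderOf (wpU w6) = 6 := by
  have h := ord_w6
  simp only [Bool.and_eq_true, beq_iff_eq] at h
  obtain ⟨h1, h2, h3⟩ := h
  have e1 := wpU_pow_eq_one w6 6 h1
  have e2 := wpU_pow_ne_one w6 3 h2
  have e3 := wpU_pow_ne_one w6 2 h3
  have hd : orderOf (wpU w6) ∣ 6 := orderOf_dvd_of_pow_eq_one e1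
  have hm : orderOf (wpU w6) ∈ Nat.divisors 6 := Nat.mem_divisors.mpr ⟨hd, by norm_num⟩
  have hdiv : Nat.divisors 6 = {1, 2, 3, 6} := by decide
  rw [hdiv] at hm
  simp only [Finset.mem_insert, Finset.mem_singleton] at hm
  rcases hm with hm | hm | hm | hm
  · exfalso; apply e3
    have := pow_orderOf_eq_one (wpU w6); rw [hm, pow_one] at this; rw [this, one_pow]
  · exfalso; apply e3
    have := pow_orderOf_eq_one (wpU w6); rw [hm] at this; exact this
  · exfalso; apply e2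
    have := pow_orderOf_eq_one (wpU w6); rw [hm] at this; exact this
  · exact hm

theorem orderOf_w15 : orderOf (wpU w15) = 15 := by
  have h := ord_w15
  simp only [Bool.and_eq_true, beq_iff_eq] at h
  obtain ⟨h1, h2, h3⟩ := h
  have e1 := wpU_pow_eq_one w15 15 h1
  have e2 := wpU_pow_ne_one w15 5 h2
  have e3 := wpU_pow_ne_one w15 3 h3
  have hd : orderOf (wpU w15) ∣ 15 := orderOf_dvd_of_pow_eq_one e1
  have hm : orderOf (wpU w15) ∈ Nat.divisors 15 := Nat.mem_divisors.mpr ⟨hd, by norm_num⟩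
  have hdiv : Nat.divisors 15 = {1, 3, 5, 15} := by decide
  rw [hdiv] at hm
  simp only [Finset.mem_insert, Finset.mem_singleton] at hm
  rcases hm with hm | hm | hm | hm
  · exfalso; apply e3
    have := pow_orderOf_eq_one (wpU w15); rw [hm, pow_one] at this; rw [this, one_pow]
  · exfalso; apply e3
    have := pow_orderOf_eq_one (wpU w15); rw [hm] at this; exact this
  · exfalso; apply e2
    have := pow_orderOf_eq_one (wpU w15); rw [hm] at this; exact this
  · exact hm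

theorem orderOf_w13 : orderOf (wpU w13) = 13 := by
  have h := ord_w13
  simp only [Bool.and_eq_true, beq_iff_eq] at h
  obtain ⟨h1, h2⟩ := h
  have e1 := wpU_pow_eq_one w13 13 h1
  have e2 : wpU w13 ≠ 1 := wpU_ne_one w13 h2
  have : Fact (Nat.Prime 13) := ⟨by norm_num⟩
  exact orderOf_eq_prime e1 e2

theorem orderOf_w5 : orderOf (wpU w5) = 5 := by
  have h := ord_w5
  simp only [Bool.and_eq_true, beq_iff_eq] at h
  obtain ⟨h1, h2, -⟩ := h
  have e1 := wpU_pow_eq_one w5 5 h1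
  have e2 : wpU w5 ≠ 1 := wpU_ne_one w5 h2
  have : Fact (Nat.Prime 5) := ⟨by norm_num⟩
  exact orderOf_eq_prime e1 e2

theorem orderOf_w7 : orderOf (wpU w7) = 7 := by
  have h := ord_w7
  simp only [Bool.and_eq_true, beq_iff_eq] at h
  obtain ⟨h1, h2, -⟩ := h
  have e1 := wpU_pow_eq_one w7 7 h1
  have e2 : wpU w7 ≠ 1 := wpU_ne_one w7 h2
  have : Fact (Nat.Prime 7) := ⟨by norm_num⟩
  exact orderOf_eq_prime e1 e2

theorem canon_hor (g : ℕ) (k : ℕ) : Bit48.Canon (hor g k) := by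
  induction k with
  | zero => exact canon_c1
  | succ k _ => exact canon_addN canon_c1 (hC _ _)

theorem sum_ne_zero_of_hor (w : List ℕ) (k : ℕ) (h : (hor (evU w) k != 0) = true) :
    ∑ i ∈ Finset.range (k + 1), phiU (wpU w) ^ i ≠ 0 := by
  rw [phiU_wpU, ← DU_hor (evU w) (canon_evU w) k, ← DU_zero]
  have h3 : hor (evU w) k ≠ 0 := by simpa using h
  have h0 : Bit48.Canon 0 := by
    unfold Bit48.Canon
    exact Nat.pos_of_ne_zero (pow_ne_zero _ (by decide))
  exact Bit48.dec_ne_of_ne (canon_hor _ k) h0 h3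

theorem sum_w5_ne_zero : ∑ i ∈ Finset.range 5, phiU (wpU w5) ^ i ≠ 0 := by
  have h := ord_w5
  simp only [Bool.and_eq_true] at h
  exact sum_ne_zero_of_hor w5 4 h.2.2

theorem sum_w7_ne_zero : ∑ i ∈ Finset.range 7, phiU (wpU w7) ^ i ≠ 0 := by
  have h := ord_w7
  simp only [Bool.and_eq_true] at h
  exact sum_ne_zero_of_hor w7 6 h.2.2

/-- the module -/
def VU : Type := Fin 48 → ZMod 2

instance : AddCommGroup VU := inferInstanceAs (AddCommGroup (Fin 48 → ZMod 2))

instance : Finite VU := inferInstanceAs (Finite (Fin 48 → ZMod 2))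

instance : SMul ↥LU VU := ⟨fun g v => Matrix.mulVec (phiU g) v⟩

theorem smul_def (g : ↥LU) (v : VU) : g • v = Matrix.mulVec (phiU g) v := rfl

instance : DistribMulAction ↥LU VU where
  one_smul v := by rw [smul_def, map_one]; exact Matrix.one_mulVec v
  mul_smul g h v := by
    rw [smul_def, smul_def, smul_def, map_mul]
    exact (Matrix.mulVec_mulVec v (phiU g) (phiU h)).symm
  smul_zero g := by rw [smul_def]; exact Matrix.mulVec_zero _
  smul_add g v w := by rw [smul_def, smul_def, smul_def]; exact Matrix.mulVec_add _ _ _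

/-- the semidirect products -/
abbrev HK (k : ℕ) : Type := AffGp ↥LU (Fin k → VU)

theorem two_smul_eq_zero (k : ℕ) (v : Fin k → VU) : 2 • v = 0 := by
  funext i
  funext j
  have key : ∀ a : ZMod 2, 2 • a = 0 := by decide
  exact key _

theorem sum_smul_eq_zero (k : ℕ) (g : ↥LU) (v : Fin k → VU)
    (h : ∑ i ∈ Finset.range 13, phiU g ^ i = 0) :
    ∑ i ∈ Finset.range 13, (g ^ i) • v = 0 := by
  funext j
  rw [Finset.sum_apply]
  have h1 : ∀ i ∈ Finset.range 13, ((g ^ i) • v) j = Matrix.mulVec (phiU g ^ i) (v j) := by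
    intro i _
    show (g ^ i) • (v j) = _
    rw [smul_def, map_pow]
  rw [Finset.sum_congr rfl h1]
  have h2 : ∀ u : Fin 48 → ZMod 2,
      ∑ i ∈ Finset.range 13, Matrix.mulVec (phiU g ^ i) u = 0 := by
    intro u
    rw [← Matrix.sum_mulVec, h]
    exact Matrix.zero_mulVec _
  exact h2 (v j)

theorem pow_v_eq {H V : Type*} [Group H] [AddCommGroup V] [DistribMulAction H V] (w : AffGp H V)
    (n : ℕ) : (w ^ n).v = ∑ i ∈ Finset.range n, (w.g ^ i) • w.v := by
  induction n with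
  | zero => simp
  | succ n ih =>
    rw [pow_succ, AffGp.mul_v, ih, AffGp.pow_g, Finset.sum_range_succ]

/-- the fundamental property of the elements of `HK k` -/
theorem HK_pow (k : ℕ) (w : HK k) : w ^ 24 = 1 ∨ w ^ 30 = 1 ∨ w ^ 14 = 1 ∨ w ^ 13 = 1 := by
  have key : ∀ n : ℕ, phiU w.g ^ n = 1 → w ^ (n * 2) = 1 := by
    intro n hn
    have h1 : w.g ^ n = 1 := by
      apply phiU_injective
      rw [map_pow, hn, map_one]
    have h2 : w ^ n = ⟨(w ^ n).v, 1⟩ := AffGp.ext' rfl (by rw [AffGp.pow_g, h1])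
    rw [pow_mul, h2, AffGp.trans_pow, two_smul_eq_zero]
    rfl
  rcases good_LU w.g with h | h | h | ⟨h, h'⟩
  · exact Or.inl (key 12 h)
  · exact Or.inr (Or.inl (key 15 h))
  · exact Or.inr (Or.inr (Or.inl (key 7 h)))
  · refine Or.inr (Or.inr (Or.inr ?_))
    have h1 : w.g ^ 13 = 1 := by
      apply phiU_injective
      rw [map_pow, h, map_one]
    apply AffGp.ext'
    · rw [pow_v_eq, sum_smul_eq_zero k w.g w.v h']
      rfl
    · rw [AffGp.pow_g, h1]
      rfl

theorem orderOf_dvd_HK (k : ℕ) (w : HK k) :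
    orderOf w ∣ 24 ∨ orderOf w ∣ 30 ∨ orderOf w ∣ 14 ∨ orderOf w ∣ 13 := by
  rcases HK_pow k w with h | h | h | h
  · exact Or.inl (orderOf_dvd_of_pow_eq_one h)
  · exact Or.inr (Or.inl (orderOf_dvd_of_pow_eq_one h))
  · exact Or.inr (Or.inr (Or.inl (orderOf_dvd_of_pow_eq_one h)))
  · exact Or.inr (Or.inr (Or.inr (orderOf_dvd_of_pow_eq_one h)))

theorem prime_cases {p : ℕ} (hp : p.Prime) (h : p ∣ 24 ∨ p ∣ 30 ∨ p ∣ 14 ∨ p ∣ 13) :
    p = 2 ∨ p = 3 ∨ p = 5 ∨ p = 7 ∨ p = 13 := by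
  have hle : p ≤ 30 := by
    rcases h with h | h | h | h <;> have := Nat.le_of_dvd (by norm_num) h <;> omega
  interval_cases p <;> first | (exfalso; revert hp; norm_num; done) | (exfalso; revert h; norm_num; done) | simp

/-- which products of two primes divide one of the four exponents -/
theorem edge_cases {p q : ℕ} (hp : p.Prime) (hq : q.Prime) (hne : p ≠ q)
    (h : p * q ∣ 24 ∨ p * q ∣ 30 ∨ p * q ∣ 14 ∨ p * q ∣ 13) :
    (p = 2 ∧ q = 3) ∨ (p = 3 ∧ q = 2) ∨ (p = 2 ∧ q = 5) ∨ (p = 5 ∧ q = 2) ∨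
      (p = 3 ∧ q = 5) ∨ (p = 5 ∧ q = 3) ∨ (p = 2 ∧ q = 7) ∨ (p = 7 ∧ q = 2) := by
  have hp' := prime_cases hp (by
    rcases h with h | h | h | h
    · exact Or.inl ((dvd_mul_right p q).trans h)
    · exact Or.inr (Or.inl ((dvd_mul_right p q).trans h))
    · exact Or.inr (Or.inr (Or.inl ((dvd_mul_right p q).trans h)))
    · exact Or.inr (Or.inr (Or.inr ((dvd_mul_right p q).trans h))))
  have hq' := prime_cases hq (by
    rcases h with h | h | h | h
    · exact Or.inl ((dvd_mul_left q p).trans h)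
    · exact Or.inr (Or.inl ((dvd_mul_left q p).trans h))
    · exact Or.inr (Or.inr (Or.inl ((dvd_mul_left q p).trans h)))
    · exact Or.inr (Or.inr (Or.inr ((dvd_mul_left q p).trans h))))
  rcases hp' with rfl | rfl | rfl | rfl | rfl <;> rcases hq' with rfl | rfl | rfl | rfl | rfl <;>
    first | (exfalso; exact hne rfl) | (exfalso; revert h; norm_num; done) | simp

theorem exists_orderOf_HK (k : ℕ) (n : ℕ) (g : ↥LU) (hg : orderOf g = n) :
    ∃ w : HK k, orderOf w = n :=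
  ⟨AffGp.inr g, by rw [AffGp.orderOf_inr, hg]⟩

instance (k : ℕ) : Finite (HK k) := inferInstance

theorem exists_mulVec_ne_zero (N : MatU) (hN : N ≠ 0) : ∃ u : Fin 48 → ZMod 2, N.mulVec u ≠ 0 := by
  by_contra hcon
  push Not at hcon
  apply hN
  ext i j
  have h1 := congrFun (hcon (Pi.single j 1)) i
  rw [Matrix.mulVec_single_one] at h1
  exact h1

theorem smul_pow_eq (g : ↥LU) (i : ℕ) (u : VU) :
    (g ^ i) • u = Matrix.mulVec (phiU g ^ i) u := by
  rw [smul_def, map_pow]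

/-- an element of odd prime order `p` whose norm is not zero gives an element of order `2 * p` -/
theorem exists_orderOf_two_mul (k : ℕ) (g : ↥LU) (p : ℕ) (hp : p.Prime) (hp2 : p ≠ 2)
    (hg : orderOf g = p) (hN : ∑ i ∈ Finset.range p, phiU g ^ i ≠ 0) :
    ∃ w : HK (k + 1), orderOf w = 2 * p := by
  obtain ⟨u, hu⟩ := exists_mulVec_ne_zero _ hN
  let v : Fin (k + 1) → VU := fun _ => u
  let w : HK (k + 1) := ⟨v, g⟩
  refine ⟨w, ?_⟩
  have hV2 : ∀ x : Fin (k + 1) → VU, x + x = 0 := by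
    intro x
    have := two_smul_eq_zero (k + 1) x
    rwa [two_smul] at this
  have h1 : orderOf w ∣ 2 * p := by
    have := AffGp.orderOf_dvd_two_mul hV2 w
    rwa [show w.g = g from rfl, hg] at this
  have h2 : p ∣ orderOf w := by
    have := AffGp.orderOf_g_dvd w
    rwa [show w.g = g from rfl, hg] at this
  have h3 : w ^ p ≠ 1 := by
    intro h
    have h4 : (w ^ p).v = 0 := by rw [h]; rfl
    rw [pow_v_eq] at h4
    have h5 := congrFun h4 0
    rw [Finset.sum_apply] at h5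
    have h6 : ∀ i ∈ Finset.range p, ((w.g ^ i) • w.v) 0 = Matrix.mulVec (phiU g ^ i) u := by
      intro i _
      exact smul_pow_eq g i u
    rw [Finset.sum_congr rfl h6] at h5
    apply hu
    have h7 : ∀ u' : Fin 48 → ZMod 2, ∑ i ∈ Finset.range p, Matrix.mulVec (phiU g ^ i) u' =
        Matrix.mulVec (∑ i ∈ Finset.range p, phiU g ^ i) u' := by
      intro u'
      rw [Matrix.sum_mulVec]
    rw [← h7]
    exact h5
  have h4 : ¬ orderOf w ∣ p := fun h => h3 (orderOf_dvd_iff_pow_eq_one.mp h)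
  have h5 : 2 ∣ orderOf w := by
    by_contra hc
    apply h4
    have hcop : Nat.Coprime (orderOf w) 2 := by
      rw [Nat.coprime_comm, Nat.Prime.coprime_iff_not_dvd Nat.prime_two]
      exact hc
    exact hcop.dvd_of_dvd_mul_left h1
  have hcop2 : Nat.Coprime 2 p := by
    rw [Nat.coprime_primes Nat.prime_two hp]
    exact fun h => hp2 h.symm
  exact Nat.dvd_antisymm h1 (hcop2.mul_dvd_of_dvd_of_dvd h5 h2)

theorem HK_primes (k : ℕ) (p : ℕ) (hp : p.Prime) :
    p ∣ Nat.card (HK (k + 1)) ↔ (p = 2 ∨ p = 3 ∨ p = 5 ∨ p = 7 ∨ p = 13) := by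
  constructor
  · intro h
    have : Fact p.Prime := ⟨hp⟩
    obtain ⟨w, hw⟩ := exists_prime_orderOf_dvd_card' p h
    have := orderOf_dvd_HK (k + 1) w
    rw [hw] at this
    exact prime_cases hp this
  · intro h
    obtain ⟨w6, h6⟩ := exists_orderOf_HK (k + 1) 6 _ orderOf_w6
    obtain ⟨w15, h15⟩ := exists_orderOf_HK (k + 1) 15 _ orderOf_w15
    obtain ⟨w13, h13⟩ := exists_orderOf_HK (k + 1) 13 _ orderOf_w13
    obtain ⟨w7, h7⟩ := exists_orderOf_HK (k + 1) 7 _ orderOf_w7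
    have d6 : 6 ∣ Nat.card (HK (k + 1)) := h6 ▸ orderOf_dvd_natCard w6
    have d15 : 15 ∣ Nat.card (HK (k + 1)) := h15 ▸ orderOf_dvd_natCard w15
    have d13 : 13 ∣ Nat.card (HK (k + 1)) := h13 ▸ orderOf_dvd_natCard w13
    have d7 : 7 ∣ Nat.card (HK (k + 1)) := h7 ▸ orderOf_dvd_natCard w7
    rcases h with rfl | rfl | rfl | rfl | rfl
    · exact (by norm_num : 2 ∣ 6).trans d6
    · exact (by norm_num : 3 ∣ 6).trans d6
    · exact (by norm_num : 5 ∣ 15).trans d15
    · exact d7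
    · exact d13

theorem HK_edges (k : ℕ) (p q : ℕ) (hp : p.Prime) (hq : q.Prime) (hne : p ≠ q) :
    (∃ w : HK (k + 1), orderOf w = p * q) ↔
      ((p = 2 ∧ q = 3) ∨ (p = 3 ∧ q = 2) ∨ (p = 2 ∧ q = 5) ∨ (p = 5 ∧ q = 2) ∨
        (p = 3 ∧ q = 5) ∨ (p = 5 ∧ q = 3) ∨ (p = 2 ∧ q = 7) ∨ (p = 7 ∧ q = 2)) := by
  constructor
  · rintro ⟨w, hw⟩
    have := orderOf_dvd_HK (k + 1) w
    rw [hw] at this
    exact edge_cases hp hq hne this
  · have e10 := exists_orderOf_two_mul k (wpU w5) 5 (by norm_num) (by norm_num) orderOf_w5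
      sum_w5_ne_zero
    have e14 := exists_orderOf_two_mul k (wpU w7) 7 (by norm_num) (by norm_num) orderOf_w7
      sum_w7_ne_zero
    rintro (⟨rfl, rfl⟩ | ⟨rfl, rfl⟩ | ⟨rfl, rfl⟩ | ⟨rfl, rfl⟩ | ⟨rfl, rfl⟩ | ⟨rfl, rfl⟩ |
      ⟨rfl, rfl⟩ | ⟨rfl, rfl⟩)
    · exact exists_orderOf_HK (k + 1) _ _ orderOf_w6
    · exact exists_orderOf_HK (k + 1) _ _ orderOf_w6
    · exact e10
    · obtain ⟨w, hw⟩ := e10
      exact ⟨w, by rw [hw]⟩
    · exact exists_orderOf_HK (k + 1) _ _ orderOf_w15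
    · exact exists_orderOf_HK (k + 1) _ _ orderOf_w15
    · exact e14
    · obtain ⟨w, hw⟩ := e14
      exact ⟨w, by rw [hw]⟩

theorem lt_card_HK (N : ℕ) : N < Nat.card (HK (N + 1)) := by
  have h1 : Nat.card (Fin (N + 1) → VU) ≤ Nat.card (HK (N + 1)) := AffGp.card_ge
  have h2 : Nat.card (Fin (N + 1) → VU) = (2 ^ 48) ^ (N + 1) := by
    have e : Nat.card VU = 2 ^ 48 := by
      show Nat.card (Fin 48 → ZMod 2) = 2 ^ 48
      rw [Nat.card_eq_fintype_card, Fintype.card_fun, ZMod.card, Fintype.card_fin]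
    rw [Nat.card_fun, e, Nat.card_eq_fintype_card, Fintype.card_fin]
  have h3 : N + 1 < (2 ^ 48) ^ (N + 1) := Nat.lt_pow_self (by norm_num)
  omega

end Cfsg.Agent.Lib.Helper7.SzG
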