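import Cfsg.Agent.Lib.Helper5.PGBC.IfaceSp
import Cfsg.Agent.Lib.Helper5.SpecBC.Core5
import Cfsg.Agent.Lib.Helper5.AltForm

/-!
# Elements of order `13` of `Sp(6,3)` commute with no involution of `PSp(6,3)`
-/

set_option autoImplicit false

namespace Cfsg.Agent.Lib.Helper7.SzG

open Module Polynomial Cfsg.Agent.Lib.Helper5.SpecBC Cfsg.Agent.Lib.Helper5.PGBC

section alt

variable {F : Type*} [Field F] {V : Type*} [AddCommGroup V] [Module F V]

theorem alt_fix_mov {B : LinearMap.BilinForm F V} {s : Module.End F V} (hs : Pres B s)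
    {x y : V} (hx : x ∈ fixS s) (hy : y ∈ movS s) : B x y = 0 := by
  rw [mem_fixS] at hx
  obtain ⟨z, rfl⟩ := mem_movS.1 hy
  rw [map_sub, sub_eq_zero]
  conv_lhs => rw [← hx]
  exact hs x z

theorem even_finrank_fixS [Fintype F] [FiniteDimensional F V] {B : LinearMap.BilinForm F V} (hB : B.IsAlt)
    (hnd : ∀ x, (∀ y, B x y = 0) → x = 0) {s : Module.End F V} (hs : Pres B s) {r : ℕ}
    (hsr : s ^ r = 1) (hr : (r : F) ≠ 0) : Even (finrank F (fixS s)) := by
  apply Cfsg.Agent.Lib.Helper5.AltForm.even_finrank_of_nondegenerate (B := B.restrict (fixS s))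
  · intro x
    exact hB x
  · intro x hx
    apply Subtype.ext
    apply hnd
    intro y
    obtain ⟨a, ha, b, hb, rfl⟩ := decomp_of_isCompl hsr hr y
    rw [map_add, alt_fix_mov hs x.2 hb, add_zero]
    exact hx ⟨a, ha⟩

/-- the cubic `t ^ 3 + a t ^ 2 + b t - 1` -/
def cubicOp (t : Module.End F V) (a b : F) : Module.End F V := t ^ 3 + a • t ^ 2 + b • t - 1

theorem cubicOp_apply (t : Module.End F V) (a b : F) (x : V) :
    cubicOp t a b x = t (t (t x)) + a • t (t x) + b • t x - x := by
  simp [cubicOp, pow_succ, Module.End.mul_apply]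

theorem commute_cubicOp {f t : Module.End F V} (h : Commute f t) (a b : F) :
    Commute f (cubicOp t a b) := by
  unfold cubicOp
  exact (((h.pow_right 3).add_right ((h.pow_right 2).smul_right a)).add_right
    (h.smul_right b)).sub_right (Commute.one_right f)

theorem cubicOp_ne_zero {B : LinearMap.BilinForm F V} (hB : B.IsAlt)
    (hnd : ∀ x, (∀ y, B x y = 0) → x = 0) {t : Module.End F V} (ht : Pres B t)
    (ht13 : t ^ 13 = 1) (h2 : (2 : F) ≠ 0) (hV : ∃ x : V, x ≠ 0) (a b : F) (hab : a + b ≠ 0) :
    cubicOp t a b ≠ 0 := by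
  intro h0
  have ht' : ∀ u v, B (t u) (t v) = B u v := ht
  have hg : ∀ x, t (t (t x)) + a • t (t x) + b • t x - x = 0 := by
    intro x
    rw [← cubicOp_apply, h0]
    rfl
  have hnd' : ∀ z, (∀ x, B x z = 0) → z = 0 := by
    intro z hz
    apply hnd
    intro y
    rw [Cfsg.Agent.Lib.Helper5.AltForm.alt_swap hB, hz, neg_zero]
  have h1 : ∀ y, y + a • t y + b • t (t y) - t (t (t y)) = 0 := by
    intro y
    apply hnd'
    intro x
    have e := congrArg (fun u => B u (t (t (t y)))) (hg x)
    simp only [map_sub, map_add, map_smul, LinearMap.sub_apply, LinearMap.add_apply,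
      LinearMap.smul_apply, map_zero, LinearMap.zero_apply, ht', smul_eq_mul] at e
    simp only [map_sub, map_add, map_smul, smul_eq_mul]
    linear_combination e
  have hinj : ∀ z, t z = 0 → z = 0 := by
    intro z hz
    have : (t ^ 12 * t) z = z := by
      rw [← pow_succ, ht13]
      rfl
    rw [Module.End.mul_apply, hz, map_zero] at this
    exact this.symm
  have hneg : ∀ y, t y = -y := by
    intro y
    have e1 := hg y
    have e2 := h1 y
    have e3 : (a + b) • (t (t y) + t y) = 0 := by
      have : (a + b) • (t (t y) + t y) =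
          (t (t (t y)) + a • t (t y) + b • t y - y) + (y + a • t y + b • t (t y) - t (t (t y))) := by
        rw [add_smul, smul_add, smul_add]
        abel
      rw [this, e1, e2, add_zero]
    have e4 : t (t y) + t y = 0 := (smul_eq_zero.mp e3).resolve_left hab
    have e5 : t (t y + y) = 0 := by rw [map_add]; exact e4
    exact eq_neg_of_add_eq_zero_left (hinj _ e5)
  have hpow : ∀ n : ℕ, ∀ y, (t ^ n) y = (-1 : F) ^ n • y := by
    intro n
    induction n with
    | zero => intro y; simp
    | succ n ih =>
      intro y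
      rw [pow_succ, Module.End.mul_apply, hneg, map_neg, ih, pow_succ]
      simp
  obtain ⟨x, hx⟩ := hV
  have e := hpow 13 x
  rw [ht13] at e
  have e' : x = -x := by
    have : (-1 : F) ^ 13 = -1 := by norm_num
    rw [this] at e
    simpa using e
  have e2 : (2 : F) • x = 0 := by
    rw [two_smul]
    nth_rewrite 1 [e']
    exact neg_add_cancel x
  exact hx ((smul_eq_zero.mp e2).resolve_left h2)

theorem fac_thirteen [CharP F 3] (t : Module.End F V) :
    cubicOp t 0 (-1) * cubicOp t 1 0 * cubicOp t 1 1 * cubicOp t (-1) (-1) =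
      ∑ i ∈ Finset.range 13, t ^ i := by
  have h3 : (3 : F[X]) = 0 := by
    have h : ((3 : ℕ) : F[X]) = 0 := by
      rw [← Polynomial.C_eq_natCast, CharP.cast_eq_zero F 3, map_zero]
    exact_mod_cast h
  have key : (X ^ 3 - X - 1 : F[X]) * (X ^ 3 + X ^ 2 - 1) * (X ^ 3 + X ^ 2 + X - 1) *
      (X ^ 3 - X ^ 2 - X - 1) = ∑ i ∈ Finset.range 13, X ^ i := by
    simp only [Finset.sum_range_succ, Finset.sum_range_zero]
    linear_combination (-X ^ 2 - 3 * X ^ 3 - 2 * X ^ 4 + 2 * X ^ 5 + 5 * X ^ 6 + 2 * X ^ 7
      - 2 * X ^ 8 - 3 * X ^ 9 - X ^ 10) * h3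
  have h := congrArg (Polynomial.aeval t) key
  simp only [map_mul, map_sub, map_add, map_pow, aeval_X, map_one, map_sum] at h
  rw [← h]
  unfold cubicOp
  simp only [zero_smul, add_zero, one_smul, neg_smul, ← sub_eq_add_neg]

end alt

section main

variable {F : Type*} [Field F] [Fintype F] {V : Type*} [AddCommGroup V] [Module F V]
  [FiniteDimensional F V]

omit [Field F] in
theorem ppd_13 (hF : Fintype.card F = 3) : PPD (Fintype.card F) 13 3 := by
  rw [hF]
  refine ⟨by norm_num, by norm_num, by norm_num, ?_⟩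
  intro k hk hk3
  interval_cases k <;> norm_num

omit [Field F] in
theorem ppd_2 (hF : Fintype.card F = 3) : PPD (Fintype.card F) 2 1 := by
  rw [hF]
  refine ⟨by norm_num, by norm_num, by norm_num, ?_⟩
  intro k hk hk1
  omega

theorem charP_three_of_card (hF : Fintype.card F = 3) : CharP F 3 := by
  obtain ⟨p, hp⟩ := CharP.exists F
  have hpp : p.Prime := CharP.char_is_prime F p
  obtain ⟨n, _, hn⟩ := FiniteField.card F p
  rw [hF] at hn
  have h1 : p ∣ 3 := by
    have hn0 : (n : ℕ) ≠ 0 := n.ne_zero
    have : p ∣ p ^ (n : ℕ) := dvd_pow_self p hn0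
    rw [← hn] at this
    exact this
  have h3 : p = 3 := (Nat.prime_dvd_prime_iff_eq hpp Nat.prime_three).mp h1
  rw [← h3]
  exact hp

theorem no_sqrt_neg_one (hF : Fintype.card F = 3) (x : F) : x * x ≠ -1 := by
  intro h
  have h2F : ((2 : ℕ) : F) ≠ 0 := (ppd_2 (F := F) hF).cast_ne_zero
  have h1 : x ^ 3 = x := by
    have := FiniteField.pow_card x
    rwa [hF] at this
  have h2 : x ^ 3 = -x := by
    rw [pow_succ, pow_two, h]
    ring
  have h3 : x = -x := h1.symm.trans h2
  have h4 : ((2 : ℕ) : F) * x = 0 := by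
    have : x + x = 0 := by nth_rewrite 1 [h3]; exact neg_add_cancel x
    rw [← this]
    push_cast
    ring
  have h5 : x = 0 := (mul_eq_zero.mp h4).resolve_left h2F
  rw [h5, mul_zero] at h
  have : (1 : F) = 0 := by
    have := congrArg Neg.neg h
    simpa using this.symm
  exact one_ne_zero this

/-- in a symplectic space of dimension `6` over the field with `3` elements, an isometry whose
square is `1` or `-1` and which commutes with an isometry of order `13` is `1` or `-1` -/
theorem centralizer_thirteen (hF : Fintype.card F = 3) (B : LinearMap.BilinForm F V)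
    (hB : B.IsAlt) (hnd : ∀ x, (∀ y, B x y = 0) → x = 0) (hdim : finrank F V = 6)
    {t c : Module.End F V} (ht : Pres B t) (hc : Pres B c) (hct : Commute c t)
    (ht13 : t ^ 13 = 1) (ht1 : t ≠ 1) (hc2 : c ^ 2 = 1 ∨ c ^ 2 = -1) : c = 1 ∨ c = -1 := by
  have h13 := ppd_13 (F := F) hF
  have h2' := ppd_2 (F := F) hF
  have h13F : ((13 : ℕ) : F) ≠ 0 := h13.cast_ne_zero
  have h2F : ((2 : ℕ) : F) ≠ 0 := h2'.cast_ne_zero
  have h2F' : (2 : F) ≠ 0 := by exact_mod_cast h2F
  have hmov3 : 3 ∣ finrank F (movS t) :=
    dvd_finrank_of_le_movS h13 ht13 (movS t) le_rfl (movS_invariant t)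
  have hmov0 : finrank F (movS t) ≠ 0 := by
    intro h
    exact movS_ne_bot ht1 (Submodule.finrank_eq_zero.mp h)
  have hsum := finrank_fix_add_mov t
  rw [hdim] at hsum
  have heven := even_finrank_fixS hB hnd ht ht13 h13F
  have hmov6 : finrank F (movS t) = 6 := by
    obtain ⟨k, hk⟩ := hmov3
    obtain ⟨m, hm⟩ := heven
    omega
  have hmovtop : movS t = ⊤ := Submodule.eq_top_of_finrank_eq (by rw [hmov6, hdim])
  have hfixbot : fixS t = ⊥ := by
    apply Submodule.finrank_eq_zero.mp
    omega
  have hinv3 : ∀ U : Submodule F V, (∀ x ∈ U, t x ∈ U) → 3 ∣ finrank F U := by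
    intro U hU
    exact dvd_finrank_of_le_movS h13 ht13 U (by rw [hmovtop]; exact le_top) hU
  rcases hc2 with hc2 | hc2
  · have hfc_inv : ∀ x ∈ fixS c, t x ∈ fixS c := fun x hx => map_mem_fixS hct.symm hx
    have h3 := hinv3 (fixS c) hfc_inv
    have hev := even_finrank_fixS hB hnd hc hc2 h2F
    have hsumc := finrank_fix_add_mov c
    rw [hdim] at hsumc
    have hcases : finrank F (fixS c) = 0 ∨ finrank F (fixS c) = 6 := by
      obtain ⟨k, hk⟩ := h3
      obtain ⟨m, hm⟩ := hev
      omega
    rcases hcases with h0 | h6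
    · right
      have hmc : movS c = ⊤ := Submodule.eq_top_of_finrank_eq (by rw [hdim]; omega)
      apply LinearMap.ext
      intro x
      have hx : x ∈ movS c := by rw [hmc]; trivial
      obtain ⟨z, rfl⟩ := mem_movS.1 hx
      have e : c (c z) = z := by
        have := congrArg (fun f : Module.End F V => f z) hc2
        simpa [pow_two, Module.End.mul_apply] using this
      rw [map_sub, e, LinearMap.neg_apply, Module.End.one_apply, neg_sub]
    · left
      have hfc : fixS c = ⊤ := Submodule.eq_top_of_finrank_eq (by rw [h6, hdim])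
      apply LinearMap.ext
      intro x
      have hx : x ∈ fixS c := by rw [hfc]; trivial
      exact mem_fixS.1 hx
  · exfalso
    have := charP_three_of_card hF
    have hgeom : ∑ i ∈ Finset.range 13, t ^ i = 0 := by
      apply LinearMap.ext
      intro x
      have h1 : (t - 1) * ∑ i ∈ Finset.range 13, t ^ i = 0 := by
        rw [mul_geom_sum, ht13, sub_self]
      have h2 : (∑ i ∈ Finset.range 13, t ^ i) x ∈ fixS t := by
        unfold fixS
        rw [LinearMap.mem_ker, ← Module.End.mul_apply, h1]
        rfl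
      rw [hfixbot] at h2
      exact (Submodule.mem_bot F).1 h2
    have hfac := fac_thirteen t
    have hV : ∃ x : V, x ≠ 0 := by
      have h : 0 < finrank F V := by rw [hdim]; norm_num
      exact Module.finrank_pos_iff_exists_ne_zero.mp h
    obtain ⟨x0, hx0⟩ := hV
    have hker : ∃ a b : F, a + b ≠ 0 ∧ ∃ x, x ≠ 0 ∧ cubicOp t a b x = 0 := by
      by_contra hcon
      push Not at hcon
      have n1 : (-1 : F) + (-1) ≠ 0 := by
        intro h
        apply h2F'
        have : (2 : F) = -((-1) + (-1)) := by ring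
        rw [this, h, neg_zero]
      have n2 : (1 : F) + 1 ≠ 0 := by
        intro h
        apply h2F'
        rw [← h]; ring
      have n3 : (1 : F) + 0 ≠ 0 := by rw [add_zero]; exact one_ne_zero
      have n4 : (0 : F) + (-1) ≠ 0 := by rw [zero_add]; exact neg_ne_zero.mpr one_ne_zero
      have e1 := hcon (-1) (-1) n1 x0 hx0
      have e2 := hcon 1 1 n2 _ e1
      have e3 := hcon 1 0 n3 _ e2
      have e4 := hcon 0 (-1) n4 _ e3
      apply e4
      have := congrArg (fun f : Module.End F V => f x0) (hfac.trans hgeom)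
      simpa [Module.End.mul_apply] using this
    obtain ⟨a, b, hab, x1, hx1, hx1'⟩ := hker
    have hKt : ∀ x ∈ LinearMap.ker (cubicOp t a b), t x ∈ LinearMap.ker (cubicOp t a b) := by
      intro x hx
      rw [LinearMap.mem_ker] at hx ⊢
      have hcm := commute_cubicOp (Commute.refl t) a b
      have e : cubicOp t a b (t x) = t (cubicOp t a b x) := by
        have := congrArg (fun f : Module.End F V => f x) hcm.eq
        simpa [Module.End.mul_apply] using this.symm
      rw [e, hx, map_zero]
    have hKc : ∀ x ∈ LinearMap.ker (cubicOp t a b), c x ∈ LinearMap.ker (cubicOp t a b) := by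
      intro x hx
      rw [LinearMap.mem_ker] at hx ⊢
      have hcm := commute_cubicOp hct a b
      have e : cubicOp t a b (c x) = c (cubicOp t a b x) := by
        have := congrArg (fun f : Module.End F V => f x) hcm.eq
        simpa [Module.End.mul_apply] using this.symm
      rw [e, hx, map_zero]
    have hK3 := hinv3 _ hKt
    have hKbot : LinearMap.ker (cubicOp t a b) ≠ ⊥ := by
      intro h
      have hm : x1 ∈ LinearMap.ker (cubicOp t a b) := LinearMap.mem_ker.2 hx1'
      rw [h] at hm
      exact hx1 ((Submodule.mem_bot F).1 hm)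
    have hKtop : LinearMap.ker (cubicOp t a b) ≠ ⊤ := by
      intro h
      have h0 : cubicOp t a b = 0 := LinearMap.ker_eq_top.mp h
      exact cubicOp_ne_zero hB hnd ht ht13 h2F' ⟨x0, hx0⟩ a b hab h0
    have hKdim : finrank F (LinearMap.ker (cubicOp t a b)) = 3 := by
      have h1 : finrank F (LinearMap.ker (cubicOp t a b)) ≠ 0 :=
        fun h => hKbot (Submodule.finrank_eq_zero.mp h)
      have h2 : finrank F (LinearMap.ker (cubicOp t a b)) < 6 := by
        rw [← hdim]
        exact Submodule.finrank_lt hKtop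
      obtain ⟨k, hk⟩ := hK3
      omega
    have hc' : c.restrict hKc * c.restrict hKc = -1 := by
      apply LinearMap.ext
      intro x
      apply Subtype.ext
      have := congrArg (fun f : Module.End F V => f x.1) hc2
      simpa [pow_two, Module.End.mul_apply, LinearMap.coe_restrict_apply] using this
    have hdet : LinearMap.det (c.restrict hKc) * LinearMap.det (c.restrict hKc) = -1 := by
      rw [← map_mul, hc']
      have e : (-1 : Module.End F (LinearMap.ker (cubicOp t a b))) =
          (-1 : F) • (1 : Module.End F (LinearMap.ker (cubicOp t a b))) :=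
        (neg_one_smul F _).symm
      rw [e, LinearMap.det_smul, hKdim, map_one]
      norm_num
    exact no_sqrt_neg_one hF _ hdet

end main

end Cfsg.Agent.Lib.Helper7.SzG
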