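import Cfsg.Agent.S2469
import Cfsg.Agent.S2472
import Cfsg.Agent.S0245
import Cfsg.Agent.S0246
import Cfsg.Agent.Lib.Helper5.PGBC.Torus
import Cfsg.Agent.Lib.Helper5.SpecBC.Sp2
import Cfsg.Agent.Lib.Helper7.SzGD5

/-!
# The prime graph of `PSp(6,3)`
-/

set_option autoImplicit false

namespace Cfsg.Agent.Lib.Helper7.SzG

open Module Cfsg.Agent.Lib.Helper5.SpecBC Cfsg.Agent.Lib.Helper5.PGBC
open Cfsg.Agent.Lib.Helper2.SpIsom

variable {F : Type*} [Field F] [Fintype F]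

theorem card_psp6 (hF : Fintype.card F = 3) : Nat.card (Cfsg.PSp 3 F) = 4585351680 := by
  have h1 := Cfsg.Agent.S0245.result hF 3
  have h2 := Cfsg.Agent.S0246.result hF 3 (by norm_num)
  have h3 := Subgroup.card_eq_card_quotient_mul_card_subgroup
    (Subgroup.center (Matrix.symplecticGroup (Fin 3) F))
  rw [h1, h2] at h3
  simp [Finset.prod_range_succ] at h3
  show Nat.card (Matrix.symplecticGroup (Fin 3) F ⧸
    Subgroup.center (Matrix.symplecticGroup (Fin 3) F)) = _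
  omega

theorem prime_dvd_card_psp6 {p : ℕ} (hp : p.Prime) (h : p ∣ 4585351680) :
    p = 2 ∨ p = 3 ∨ p = 5 ∨ p = 7 ∨ p = 13 := by
  have e : (4585351680 : ℕ) = 2 ^ 9 * 3 ^ 9 * 5 * 7 * 13 := by norm_num
  rw [e] at h
  rcases (Nat.Prime.dvd_mul hp).1 h with h | h
  · rcases (Nat.Prime.dvd_mul hp).1 h with h | h
    · rcases (Nat.Prime.dvd_mul hp).1 h with h | h
      · rcases (Nat.Prime.dvd_mul hp).1 h with h | h
        · left
          exact (Nat.prime_dvd_prime_iff_eq hp Nat.prime_two).1 (hp.dvd_of_dvd_pow h)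
        · right; left
          exact (Nat.prime_dvd_prime_iff_eq hp Nat.prime_three).1 (hp.dvd_of_dvd_pow h)
      · right; right; left
        exact (Nat.prime_dvd_prime_iff_eq hp (by norm_num)).1 h
    · right; right; right; left
      exact (Nat.prime_dvd_prime_iff_eq hp (by norm_num)).1 h
  · right; right; right; right
    exact (Nat.prime_dvd_prime_iff_eq hp (by norm_num)).1 h

theorem psp_primes (hF : Fintype.card F = 3) (p : ℕ) (hp : p.Prime) :
    p ∣ Nat.card (Cfsg.PSp 3 F) ↔ (p = 2 ∨ p = 3 ∨ p = 5 ∨ p = 7 ∨ p = 13) := by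
  rw [card_psp6 hF]
  constructor
  · exact prime_dvd_card_psp6 hp
  · rintro (rfl | rfl | rfl | rfl | rfl) <;> norm_num

theorem mem_range_of_dvd {G : Type*} [Group G] {m d : ℕ} (hm : m ∈ Set.range (orderOf : G → ℕ))
    (hd : d ∣ m) (hm0 : m ≠ 0) : d ∈ Set.range (orderOf : G → ℕ) := by
  obtain ⟨g, rfl⟩ := hm
  obtain ⟨e, he⟩ := hd
  have he0 : e ≠ 0 := by
    rintro rfl
    rw [mul_zero] at he
    exact hm0 he
  have hd0 : d ≠ 0 := by
    rintro rfl
    rw [zero_mul] at he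
    exact hm0 he
  refine ⟨g ^ e, ?_⟩
  rw [orderOf_pow_of_dvd he0 ⟨d, by rw [he, mul_comm]⟩, he, Nat.mul_div_cancel _ (Nat.pos_of_ne_zero he0)]

theorem ord3_mod5 : orderOf ((3 : ℕ) : ZMod 5) = 4 := by
  rw [orderOf_eq_iff (by norm_num)]
  refine ⟨by decide, ?_⟩
  intro m hm hm0
  interval_cases m <;> decide

theorem ord3_mod7 : orderOf ((3 : ℕ) : ZMod 7) = 6 := by
  rw [orderOf_eq_iff (by norm_num)]
  refine ⟨by decide, ?_⟩
  intro m hm hm0
  interval_cases m <;> decide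

theorem ord3_mod13 : orderOf ((3 : ℕ) : ZMod 13) = 3 := by
  rw [orderOf_eq_iff (by norm_num)]
  refine ⟨by decide, ?_⟩
  intro m hm hm0
  interval_cases m <;> decide

omit [Fintype F] in
theorem finrank_six : finrank F (Fin 3 ⊕ Fin 3 → F) = 6 := by
  rw [Module.finrank_fintype_fun_eq_card]
  rfl

/-- `PSp(6,3)` has no element of order `26` -/
theorem psp_no_26 (hF : Fintype.card F = 3) :
    26 ∉ Set.range (orderOf : Cfsg.PSp 3 F → ℕ) := by
  intro h
  obtain ⟨g, hg⟩ := exists_sp_of_psp (F := F) (n := 3) (by norm_num) h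
  set G := slin g with hG
  have hGpow : ∀ j : ℕ, (G ^ j = 1 ∨ G ^ j = -1) ↔ 26 ∣ j := by
    intro j
    rw [← hg j, hG, ← slin_pow, slin_eq_one_iff, slin_eq_neg_one_iff]
  have hP : Pres (sympBilin 3 F) G := slin_pres g
  have h26 : G ^ 26 = 1 ∨ G ^ 26 = -1 := (hGpow 26).2 dvd_rfl
  have h52 : G ^ 52 = 1 := by
    have e : G ^ 52 = G ^ 26 * G ^ 26 := by rw [← pow_add]
    rcases h26 with h | h
    · rw [e, h, mul_one]
    · rw [e, h]
      apply LinearMap.ext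
      intro x
      simp
  have ht13 : (G ^ 4) ^ 13 = 1 := by rw [← pow_mul]; exact h52
  have ht1 : G ^ 4 ≠ 1 := by
    intro h4
    have := (hGpow 4).1 (Or.inl h4)
    omega
  have hc2 : (G ^ 13) ^ 2 = 1 ∨ (G ^ 13) ^ 2 = -1 := by rw [← pow_mul]; exact h26
  have hct : Commute (G ^ 13) (G ^ 4) := (Commute.refl G).pow_pow 13 4
  have key := centralizer_thirteen hF (sympBilin 3 F) sympBilin_isAlt sympBilin_nondeg' finrank_six
    (hP.pow 4) (hP.pow 13) hct ht13 ht1 hc2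
  have := (hGpow 13).1 key
  omega

theorem psp_no_3r (hF : Fintype.card F = 3) (r k η : ℕ) (hr : r.Prime) (hr2 : r ≠ 2) (hr3 : r ≠ 3)
    (hrG : r ∣ 4585351680) (hk : orderOf ((3 : ℕ) : ZMod r) = k)
    (hη : (Odd k ∧ η = k) ∨ (Even k ∧ 2 * η = k)) (h : 2 < η) :
    r * 3 ∉ Set.range (orderOf : Cfsg.PSp 3 F → ℕ) := by
  have := charP_three_of_card hF
  have : Fact (Nat.Prime 3) := ⟨Nat.prime_three⟩
  rw [Cfsg.Agent.S2472.result (F := F) 3 3 (by norm_num) (by norm_num) r hr hr2 hr3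
    (by rw [card_psp6 hF]; exact hrG) k η (by rw [hF, hk]) hη]
  omega

theorem psp_no_rs (hF : Fintype.card F = 3) (r s k l ηk ηl : ℕ) (hr : r.Prime) (hs : s.Prime)
    (hr2 : r ≠ 2) (hs2 : s ≠ 2) (hr3 : r ≠ 3) (hs3 : s ≠ 3) (hrs : r ≠ s)
    (hrG : r ∣ 4585351680) (hsG : s ∣ 4585351680)
    (hk : orderOf ((3 : ℕ) : ZMod r) = k) (hl : orderOf ((3 : ℕ) : ZMod s) = l)
    (hηk : (Odd k ∧ ηk = k) ∨ (Even k ∧ 2 * ηk = k))
    (hηl : (Odd l ∧ ηl = l) ∨ (Even l ∧ 2 * ηl = l)) (hkl : ηk ≤ ηl)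
    (h1 : 3 < ηk + ηl) (h2 : ¬ ∃ t : ℕ, Odd t ∧ l = k * t) :
    r * s ∉ Set.range (orderOf : Cfsg.PSp 3 F → ℕ) := by
  have := charP_three_of_card hF
  have : Fact (Nat.Prime 3) := ⟨Nat.prime_three⟩
  rw [Cfsg.Agent.S2469.result (F := F) 3 3 (by norm_num) (by norm_num) r s hr hs hr2 hs2 hr3 hs3 hrs
    (by rw [card_psp6 hF]; exact hrG) (by rw [card_psp6 hF]; exact hsG) k l ηk ηl
    (by rw [hF, hk]) (by rw [hF, hl]) hηk hηl hkl]
  exact ⟨h1, h2⟩

theorem psp_no_orders (hF : Fintype.card F = 3) (m : ℕ)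
    (hm : m = 26 ∨ m = 21 ∨ m = 39 ∨ m = 35 ∨ m = 65 ∨ m = 91) :
    m ∉ Set.range (orderOf : Cfsg.PSp 3 F → ℕ) := by
  have o4 : (Even 4 ∧ 2 * 2 = 4) := ⟨by decide, by norm_num⟩
  have o6 : (Even 6 ∧ 2 * 3 = 6) := ⟨by decide, by norm_num⟩
  have o3 : (Odd 3 ∧ 3 = 3) := ⟨by decide, rfl⟩
  rcases hm with rfl | rfl | rfl | rfl | rfl | rfl
  · exact psp_no_26 hF
  · exact psp_no_3r hF 7 6 3 (by norm_num) (by norm_num) (by norm_num) (by norm_num) ord3_mod7
      (Or.inr o6) (by norm_num)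
  · exact psp_no_3r hF 13 3 3 (by norm_num) (by norm_num) (by norm_num) (by norm_num) ord3_mod13
      (Or.inl o3) (by norm_num)
  · refine psp_no_rs hF 5 7 4 6 2 3 (by norm_num) (by norm_num) (by norm_num) (by norm_num)
      (by norm_num) (by norm_num) (by norm_num) (by norm_num) (by norm_num) ord3_mod5 ord3_mod7
      (Or.inr o4) (Or.inr o6) (by norm_num) (by norm_num) ?_
    rintro ⟨t, _, ht⟩
    omega
  · refine psp_no_rs hF 5 13 4 3 2 3 (by norm_num) (by norm_num) (by norm_num) (by norm_num)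
      (by norm_num) (by norm_num) (by norm_num) (by norm_num) (by norm_num) ord3_mod5 ord3_mod13
      (Or.inr o4) (Or.inl o3) (by norm_num) (by norm_num) ?_
    rintro ⟨t, _, ht⟩
    omega
  · refine psp_no_rs hF 7 13 6 3 3 3 (by norm_num) (by norm_num) (by norm_num) (by norm_num)
      (by norm_num) (by norm_num) (by norm_num) (by norm_num) (by norm_num) ord3_mod7 ord3_mod13
      (Or.inr o6) (Or.inl o3) (by norm_num) (by norm_num) ?_
    rintro ⟨t, _, ht⟩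
    omega

theorem psp_has_orders (hF : Fintype.card F = 3) :
    30 ∈ Set.range (orderOf : Cfsg.PSp 3 F → ℕ) ∧ 14 ∈ Set.range (orderOf : Cfsg.PSp 3 F → ℕ) := by
  have := charP_three_of_card hF
  have : Fact (Nat.Prime 3) := ⟨Nat.prime_three⟩
  have h2 : (2 : F) ≠ 0 := by
    have h := (ppd_2 (F := F) hF).cast_ne_zero (F := F)
    exact_mod_cast h
  constructor
  · have h := exists_order_psp (F := F) 3 h2 2 (by norm_num)
    rw [hF] at h
    exact h
  · have h := psp_torus_nonsplit (F := F) 3 3 (by norm_num) (N := 7) (by norm_num)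
      (by rw [hF]; norm_num)
    exact h

theorem psp_edges (hF : Fintype.card F = 3) (p q : ℕ) (hp : p.Prime) (hq : q.Prime)
    (hne : p ≠ q) :
    (∃ w : Cfsg.PSp 3 F, orderOf w = p * q) ↔
      ((p = 2 ∧ q = 3) ∨ (p = 3 ∧ q = 2) ∨ (p = 2 ∧ q = 5) ∨ (p = 5 ∧ q = 2) ∨
        (p = 3 ∧ q = 5) ∨ (p = 5 ∧ q = 3) ∨ (p = 2 ∧ q = 7) ∨ (p = 7 ∧ q = 2)) := by
  constructor
  · rintro ⟨w, hw⟩
    have hmem : p * q ∈ Set.range (orderOf : Cfsg.PSp 3 F → ℕ) := ⟨w, hw⟩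
    have hno := psp_no_orders hF (p * q)
    have hd : p * q ∣ 4585351680 := by
      rw [← card_psp6 hF, ← hw]
      exact orderOf_dvd_natCard w
    have hp' := prime_dvd_card_psp6 hp ((dvd_mul_right p q).trans hd)
    have hq' := prime_dvd_card_psp6 hq ((dvd_mul_left q p).trans hd)
    rcases hp' with rfl | rfl | rfl | rfl | rfl <;> rcases hq' with rfl | rfl | rfl | rfl | rfl <;>
      first | (exfalso; exact hne rfl) | (exfalso; refine hno ?_ hmem; norm_num; done) | simp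
  · obtain ⟨h30, h14⟩ := psp_has_orders (F := F) hF
    have h6 := mem_range_of_dvd h30 (d := 6) (by norm_num) (by norm_num)
    have h10 := mem_range_of_dvd h30 (d := 10) (by norm_num) (by norm_num)
    have h15 := mem_range_of_dvd h30 (d := 15) (by norm_num) (by norm_num)
    rintro (⟨rfl, rfl⟩ | ⟨rfl, rfl⟩ | ⟨rfl, rfl⟩ | ⟨rfl, rfl⟩ | ⟨rfl, rfl⟩ | ⟨rfl, rfl⟩ |
      ⟨rfl, rfl⟩ | ⟨rfl, rfl⟩)
    · exact h6
    · exact h6
    · exact h10
    · exact h10
    · exact h15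
    · exact h15
    · exact h14
    · exact h14

end Cfsg.Agent.Lib.Helper7.SzG
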