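import Mathlib
import Cfsg.Prelude.Def_Local
import Cfsg.Agent.Lib.Helper6.PPrimeCore
import Cfsg.Agent.Lib.Helper6.PCore
import Cfsg.Agent.Lib.Helper9.PCore

set_option autoImplicit false

/-! S3797 package AUT: in a finite group `G` whose `O_{2',2}(G)` has odd index, the normaliser of a
Sylow `2`-subgroup `S` controls `G`-fusion of elements of `S` (Frattini + Schur–Zassenhaus-free
argument through `G/O(G)`); hence if all involutions of `G` are conjugate, a soluble group of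
automorphisms of `S` is transitive on the involutions of `S`. -/

namespace Cfsg.Agent.Lib.Helper7.TIAUT

open Cfsg

universe u

variable {G : Type u} [Group G] [Finite G]

/-- a Sylow `2`-subgroup maps into `O_2(G/O(G))` when the latter has odd index. -/
theorem sylow_le_comap (S : Sylow 2 G)
    (hidx : ((pCore 2 (G ⧸ pPrimeCore 2 G)).index).Coprime 2) :
    (S : Subgroup G) ≤
      (pCore 2 (G ⧸ pPrimeCore 2 G)).comap (QuotientGroup.mk' (pPrimeCore 2 G)) := by
  have hOn : (pPrimeCore 2 G).Normal := (Cfsg.Agent.Lib.Helper6.pPrimeCore_mem_set 2).1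
  have hQn : (pCore 2 (G ⧸ pPrimeCore 2 G)).Normal := Cfsg.Agent.Lib.Helper9.pCore_normal' 2
  intro s hs
  rw [Subgroup.mem_comap, ← QuotientGroup.eq_one_iff]
  obtain ⟨k, hk⟩ := S.2 ⟨s, hs⟩
  have hk' : s ^ 2 ^ k = 1 := by
    have := congrArg Subtype.val hk
    simpa using this
  set z : (G ⧸ pPrimeCore 2 G) ⧸ pCore 2 (G ⧸ pPrimeCore 2 G) :=
    ((QuotientGroup.mk' (pPrimeCore 2 G) s : G ⧸ pPrimeCore 2 G) :
      (G ⧸ pPrimeCore 2 G) ⧸ pCore 2 (G ⧸ pPrimeCore 2 G)) with hz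
  have h1 : z ^ 2 ^ k = 1 := by
    rw [hz, ← QuotientGroup.mk_pow, ← map_pow, hk', map_one]
    rfl
  have h2 : z ^ (pCore 2 (G ⧸ pPrimeCore 2 G)).index = 1 := by
    rw [Subgroup.index_eq_card]
    exact pow_card_eq_one'
  have h3 := pow_gcd_eq_one.mpr ⟨h2, h1⟩
  have h4 : Nat.gcd (pCore 2 (G ⧸ pPrimeCore 2 G)).index (2 ^ k) = 1 :=
    Nat.Coprime.pow_right k hidx
  rwa [h4, pow_one] at h3

/-- the normaliser of a Sylow `2`-subgroup controls fusion in it, when `O_{2',2}(G)` has odd index. -/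
theorem exists_normalizer_conj (S : Sylow 2 G)
    (hidx : ((pCore 2 (G ⧸ pPrimeCore 2 G)).index).Coprime 2)
    {x y : G} (hx : x ∈ (S : Subgroup G)) (hy : y ∈ (S : Subgroup G)) (hxy : IsConj x y) :
    ∃ n ∈ Subgroup.normalizer ((S : Subgroup G) : Set G), n * x * n⁻¹ = y := by
  have : Fact (Nat.Prime 2) := ⟨Nat.prime_two⟩
  have hOn : (pPrimeCore 2 G).Normal := (Cfsg.Agent.Lib.Helper6.pPrimeCore_mem_set 2).1
  have hOc : (Nat.card (pPrimeCore 2 G)).Coprime 2 := Cfsg.Agent.Lib.Helper6.pPrimeCore_coprime 2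
  have hQn : (pCore 2 (G ⧸ pPrimeCore 2 G)).Normal := Cfsg.Agent.Lib.Helper9.pCore_normal' 2
  set π : G →* G ⧸ pPrimeCore 2 G := QuotientGroup.mk' (pPrimeCore 2 G) with hπ
  have hπs : Function.Surjective π := QuotientGroup.mk'_surjective _
  set M : Subgroup G := (pCore 2 (G ⧸ pPrimeCore 2 G)).comap π with hM
  have hMn : M.Normal := Subgroup.Normal.comap hQn π
  have hSM : (S : Subgroup G) ≤ M := sylow_le_comap S hidx
  obtain ⟨g, hg⟩ := isConj_iff.mp hxy
  -- Frattini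
  have htop : Subgroup.normalizer ((S : Subgroup G) : Set G) ⊔ M = ⊤ := Sylow.normalizer_sup_eq_top' S hSM
  have hgm : g ∈ ((M ⊔ Subgroup.normalizer ((S : Subgroup G) : Set G) : Subgroup G) : Set G) := by
    rw [sup_comm, htop]; trivial
  rw [Subgroup.normal_mul] at hgm
  obtain ⟨m, hm, n, hn, rfl⟩ := Set.mem_mul.mp hgm
  have hm' : m ∈ M := hm
  have hn' : n ∈ Subgroup.normalizer ((S : Subgroup G) : Set G) := hn
  -- `π m` is the image of an element of `S`
  have hQS : pCore 2 (G ⧸ pPrimeCore 2 G) ≤ (S : Subgroup G).map π := by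
    have := Cfsg.Agent.Lib.Helper9.pCore_le_sylow (S.mapSurjective hπs)
    rwa [Sylow.coe_mapSurjective] at this
  obtain ⟨s, hs, hsm⟩ := Subgroup.mem_map.mp (hQS (Subgroup.mem_comap.mp hm'))
  have hsN : s ∈ Subgroup.normalizer ((S : Subgroup G) : Set G) := Subgroup.le_normalizer hs
  refine ⟨s * n, Subgroup.mul_mem _ hsN hn', ?_⟩
  have hx' : n * x * n⁻¹ ∈ (S : Subgroup G) := (Subgroup.mem_normalizer_iff.mp hn' x).mp hx
  have hy' : s * (n * x * n⁻¹) * s⁻¹ ∈ (S : Subgroup G) :=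
    (Subgroup.mem_normalizer_iff.mp hsN _).mp hx'
  have hπeq : π (s * (n * x * n⁻¹) * s⁻¹) = π y := by
    rw [← hg]
    have : m * n * x * (m * n)⁻¹ = m * (n * x * n⁻¹) * m⁻¹ := by group
    rw [this]
    simp only [map_mul, map_inv, hsm]
  have hmem : (s * (n * x * n⁻¹) * s⁻¹)⁻¹ * y ∈ (S : Subgroup G) ⊓ pPrimeCore 2 G := by
    refine Subgroup.mem_inf.mpr ⟨Subgroup.mul_mem _ (Subgroup.inv_mem _ hy') hy, ?_⟩
    rw [← QuotientGroup.eq_one_iff]
    change π ((s * (n * x * n⁻¹) * s⁻¹)⁻¹ * y) = 1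
    rw [map_mul, map_inv, hπeq, inv_mul_cancel]
  rw [Cfsg.Agent.Lib.Helper6.isPGroup_inf_coprime_eq_bot hOc S.2, Subgroup.mem_bot] at hmem
  have : s * (n * x * n⁻¹) * s⁻¹ = y := by
    rw [inv_mul_eq_one] at hmem
    exact hmem
  rw [← this]
  group

/-- package AUT of the S3797 plan. -/
theorem exists_aut (hG : Group.IsSolvable G) (S : Sylow 2 G)
    (hidx : ((pCore 2 (G ⧸ pPrimeCore 2 G)).index).Coprime 2)
    (hconj : ∀ x y : G, x ≠ 1 → x ^ 2 = 1 → y ≠ 1 → y ^ 2 = 1 → IsConj x y) :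
    ∃ Y : Subgroup (MulAut ↥(S : Subgroup G)), Group.IsSolvable Y ∧
      ∀ x y : ↥(S : Subgroup G), x ≠ 1 → x ^ 2 = 1 → y ≠ 1 → y ^ 2 = 1 → ∃ a ∈ Y, a x = y := by
  have hNn : ((S : Subgroup G).subgroupOf (Subgroup.normalizer ((S : Subgroup G) : Set G))).Normal :=
    Subgroup.normal_in_normalizer
  let e : ↥((S : Subgroup G).subgroupOf (Subgroup.normalizer ((S : Subgroup G) : Set G))) ≃* ↥(S : Subgroup G) :=
    Subgroup.subgroupOfEquivOfLe Subgroup.le_normalizer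
  let φ : ↥(Subgroup.normalizer ((S : Subgroup G) : Set G)) →* MulAut ↥(S : Subgroup G) :=
    (MulAut.congr e).toMonoidHom.comp MulAut.conjNormal
  refine ⟨φ.range, ?_, ?_⟩
  · exact Group.isSolvable_of_surjective φ.rangeRestrict_surjective
  · intro x y hx1 hx2 hy1 hy2
    have hxy : IsConj (x : G) (y : G) := by
      refine hconj x y ?_ ?_ ?_ ?_
      · intro h; exact hx1 (Subtype.ext h)
      · have := congrArg Subtype.val hx2; simpa using this
      · intro h; exact hy1 (Subtype.ext h)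
      · have := congrArg Subtype.val hy2; simpa using this
    obtain ⟨n, hn, hnxy⟩ := exists_normalizer_conj S hidx x.2 y.2 hxy
    refine ⟨φ ⟨n, hn⟩, ⟨⟨n, hn⟩, rfl⟩, ?_⟩
    apply Subtype.ext
    rw [← hnxy]
    simp [φ, e, MulAut.congr]

end Cfsg.Agent.Lib.Helper7.TIAUT
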