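import Mathlib
import Cfsg.Agent.Lib.Helper7.GYen3

set_option autoImplicit false
set_option linter.unusedSectionVars false

/-!
# S3797 swarm (Thompson: soluble, one class of involutions), package GY

Copy of the first half of `Helper7.GYen3.index_pCore_coprime` for `p = 2`: in the reduced case
`O_{2'}(X) = 1`, if `O_2(X)` is not a Sylow `2`-subgroup and all involutions are conjugate, then every
involution centralises `O_{2,2'}(X)`.
-/

namespace Cfsg.Agent.Lib.Helper7.TIGY

open Cfsg Cfsg.Agent.Lib.Lead Cfsg.Agent.Lib.Helper7.GYen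

universe u

variable {X : Type u} [Group X] [Finite X]

/-- if all involutions are conjugate then `Aut X` is transitive on the subgroups of order `2`. -/
theorem autTrans_of_conj
    (hconj : ∀ x y : X, x ≠ 1 → x ^ 2 = 1 → y ≠ 1 → y ^ 2 = 1 → IsConj x y) : AutTrans 2 X := by
  intro U V hU hV
  have key : ∀ W : Subgroup X, Nat.card W = 2 → ∃ w : X, w ≠ 1 ∧ w ^ 2 = 1 ∧ W = Subgroup.zpowers w := by
    intro W hW
    have hp2 : Fact (Nat.Prime 2) := ⟨Nat.prime_two⟩
    have hcyc : IsCyclic W := isCyclic_of_prime_card hW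
    obtain ⟨g, hg⟩ := hcyc.exists_generator
    have hord : orderOf g = 2 := by rw [orderOf_eq_card_of_forall_mem_zpowers hg, hW]
    refine ⟨(g : X), ?_, ?_, ?_⟩
    · intro h
      have : orderOf (g : X) = 2 := by rw [Subgroup.orderOf_coe]; exact hord
      rw [h, orderOf_one] at this
      omega
    · have : (g : X) ^ orderOf (g : X) = 1 := pow_orderOf_eq_one _
      rwa [Subgroup.orderOf_coe, hord] at this
    · ext z
      constructor
      · intro hz
        obtain ⟨k, hk⟩ := Subgroup.mem_zpowers_iff.1 (hg ⟨z, hz⟩)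
        rw [Subgroup.mem_zpowers_iff]
        refine ⟨k, ?_⟩
        have := congrArg (fun t : W => (t : X)) hk
        simpa using this
      · intro hz
        obtain ⟨k, rfl⟩ := Subgroup.mem_zpowers_iff.1 hz
        exact W.zpow_mem g.2 k
  obtain ⟨u, hu1, hu2, rfl⟩ := key U hU
  obtain ⟨v, hv1, hv2, rfl⟩ := key V hV
  obtain ⟨c, hc⟩ := isConj_iff.1 (hconj u v hu1 hu2 hv1 hv2)
  refine ⟨MulAut.conj c, ?_⟩
  have e : (MulAut.conj c).toMonoidHom u = v := by
    have : (MulAut.conj c) u = c * u * c⁻¹ := MulAut.conj_apply c u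
    exact this.trans hc
  rw [MonoidHom.map_zpowers, e]

/-- (GY) every involution centralises `O_{2,2'}(X)`. -/
theorem invol_commute_Kgrp (hX : IsPSolvable 2 X) (hO : pPrimeCore 2 X = ⊥)
    (hconj : ∀ x y : X, x ≠ 1 → x ^ 2 = 1 → y ≠ 1 → y ^ 2 = 1 → IsConj x y)
    (hnot : ¬ ((pCore 2 X).index).Coprime 2) :
    ∀ x : X, x ^ 2 = 1 → ∀ k ∈ Cfsg.Agent.Lib.Helper7.GYen.Kgrp 2 X, Commute x k := by
  classical
  have hp : Fact (Nat.Prime 2) := ⟨Nat.prime_two⟩
  have htr : AutTrans 2 X := autTrans_of_conj hconj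
  have hPn := pCore_normal (G := X) 2
  have hPp : IsPGroup 2 ↥(pCore 2 X) := pCore_isPGroup 2
  have hCP : Subgroup.centralizer ((pCore 2 X : Subgroup X) : Set X) ≤ pCore 2 X :=
    Cfsg.Agent.Lib.Helper4.centralizer_pCore_le_of_isPSolvable hX hO
  have hdvd : 2 ∣ Nat.card (X ⧸ pCore 2 X) := by
    rw [← Subgroup.index_eq_card]
    by_contra h
    exact hnot ((Nat.Prime.coprime_iff_not_dvd hp.out).mpr h).symm
  obtain ⟨ybar, hybar⟩ := exists_prime_orderOf_dvd_card' 2 hdvd
  obtain ⟨y₀, rfl⟩ := QuotientGroup.mk'_surjective (pCore 2 X) ybar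
  obtain ⟨K₀, hK₀K, hK₀cop, hPK₀, hKdec, hfrat⟩ := exists_compl (X := X) (p := 2)
  obtain ⟨u, hu, hnorm⟩ := hfrat y₀
  set y := u⁻¹ * y₀ with hy
  have hmk : QuotientGroup.mk' (pCore 2 X) y = QuotientGroup.mk' (pCore 2 X) y₀ := by
    have hu1 : QuotientGroup.mk' (pCore 2 X) u = 1 := (QuotientGroup.eq_one_iff u).mpr hu
    rw [hy, map_mul, map_inv, hu1, inv_one, one_mul]
  have hyP : y ∉ pCore 2 X := by
    intro h
    have h1 : QuotientGroup.mk' (pCore 2 X) y = 1 := (QuotientGroup.eq_one_iff y).mpr h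
    rw [hmk] at h1
    rw [h1, orderOf_one] at hybar
    exact hp.out.one_lt.ne hybar
  have hypP : y ^ 2 ∈ pCore 2 X := by
    have h1 : (QuotientGroup.mk' (pCore 2 X) y₀) ^ 2 = 1 := by
      have := pow_orderOf_eq_one (QuotientGroup.mk' (pCore 2 X) y₀)
      rwa [hybar] at this
    have h2 : QuotientGroup.mk' (pCore 2 X) (y ^ 2) = 1 := by
      rw [map_pow, hmk, h1]
    exact (QuotientGroup.eq_one_iff (y ^ 2)).mp h2
  have hPne : pCore 2 X ≠ ⊥ := by
    intro h
    apply hyP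
    have : Subgroup.centralizer ((pCore 2 X : Subgroup X) : Set X) = ⊤ := by
      rw [h]; simp
    rw [this] at hCP
    exact hCP (Subgroup.mem_top y)
  -- `y ^ 2` commutes with `K₀`
  have hcomm : ∀ h ∈ K₀, Commute (y ^ 2) h := by
    intro h hh
    have h1 : y ^ 2 * h * (y ^ 2)⁻¹ ∈ K₀ := by
      have : ∀ n : ℕ, y ^ n * h * (y ^ n)⁻¹ ∈ K₀ := by
        intro n
        induction n with
        | zero => simpa using hh
        | succ n ih =>
          have := hnorm _ ih
          have e : y * (y ^ n * h * (y ^ n)⁻¹) * y⁻¹ = y ^ (n + 1) * h * (y ^ (n + 1))⁻¹ := by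
            rw [pow_succ']; simp [mul_assoc]
          rwa [e] at this
      exact this 2
    have h2 : y ^ 2 * h * (y ^ 2)⁻¹ * h⁻¹ ∈ K₀ := K₀.mul_mem h1 (K₀.inv_mem hh)
    have h3 : y ^ 2 * h * (y ^ 2)⁻¹ * h⁻¹ ∈ pCore 2 X := by
      have : h * (y ^ 2)⁻¹ * h⁻¹ ∈ pCore 2 X := hPn.conj_mem _ ((pCore 2 X).inv_mem hypP) h
      have := (pCore 2 X).mul_mem hypP this
      simpa [mul_assoc] using this
    have h4 : y ^ 2 * h * (y ^ 2)⁻¹ * h⁻¹ ∈ pCore 2 X ⊓ K₀ := ⟨h3, h2⟩
    rw [hPK₀, Subgroup.mem_bot] at h4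
    have : y ^ 2 * h = h * y ^ 2 := by
      have := congrArg (fun t => t * h * y ^ 2) h4
      simpa [mul_assoc] using this
    exact this
  -- order of `y`
  obtain ⟨a, ha⟩ := exists_orderOf_eq_pow hypP
  have ha0 : a ≠ 0 := by
    rintro rfl
    rw [pow_zero, orderOf_eq_one_iff] at ha
    exact hyP (ha ▸ (pCore 2 X).one_mem)
  have ha1 : a ≠ 1 := by
    rintro rfl
    rw [pow_one] at ha
    exact hyP (order_p_central htr hPne ha).1
  obtain ⟨a', rfl⟩ : ∃ a', a = a' + 2 := ⟨a - 2, by omega⟩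
  set z := y ^ (2 ^ (a' + 1)) with hz
  have hzord : orderOf z = 2 := by
    rw [hz, orderOf_pow_of_dvd (pow_ne_zero _ hp.out.ne_zero) (by rw [ha]; exact pow_dvd_pow 2 (by omega)), ha]
    rw [show a' + 2 = (a' + 1) + 1 from rfl, pow_succ, Nat.mul_div_cancel_left _ (pow_pos hp.out.pos _)]
  have hzpow : z = (y ^ 2) ^ (2 ^ a') := by
    rw [hz, ← pow_mul, pow_succ']
  have hzK₀ : ∀ h ∈ K₀, Commute z h := by
    intro h hh
    rw [hzpow]
    exact (hcomm h hh).pow_left _
  have hzP := order_p_central htr hPne hzord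
  have hzK : ∀ k ∈ Kgrp 2 X, Commute z k := by
    intro k hk
    obtain ⟨u', hu', h, hh, rfl⟩ := hKdec k hk
    exact (show Commute z u' from hzP.2 u' hu').mul_right (hzK₀ h hh)
  -- every element of order `2` commutes with `K`
  have hall : ∀ x : X, orderOf x = 2 → ∀ k ∈ Kgrp 2 X, Commute x k := by
    intro x hx k hk
    obtain ⟨α, j, hαj⟩ := exists_aut_pow htr hzord hx
    have hk' : α.symm k ∈ Kgrp 2 X := aut_mem_Kgrp α.symm hk
    have h1 : Commute (z ^ j) (α.symm k) := (hzK _ hk').zpow_left j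
    have h2 := congrArg α h1.eq
    rw [map_mul, map_mul, hαj, MulEquiv.apply_symm_apply] at h2
    exact h2
  intro x hx k hk
  by_cases hx1 : x = 1
  · rw [hx1]; exact Commute.one_left k
  · exact hall x (orderOf_eq_prime hx hx1) k hk

end Cfsg.Agent.Lib.Helper7.TIGY
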