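import Mathlib
import Cfsg.Prelude.Def_OddOrderLocal
import Cfsg.Agent.Lib.Helper4.PiCore
import Cfsg.Agent.Lib.Helper7.Wielandt1
import Cfsg.Agent.Lib.Helper7.IrredCard

set_option autoImplicit false

/-!
# TI subgroups that are Hall subgroups of their normalizers: basic facts
-/

namespace Cfsg.Agent.Lib.Helper7.TIH

open Cfsg.Agent.Lib.Helper7 Cfsg.Agent.Lib.Helper4

variable {G : Type*} [Group G]

/-- the set of primes not dividing `n` -/
def npi (n : ℕ) : Set ℕ := {q | ¬ q ∣ n}

theorem isPiNum_npi_iff (n m : ℕ) : IsPiNum (npi n) m ↔ m.Coprime n := by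
  constructor
  · intro h
    exact Nat.coprime_of_dvd (fun k hk hkm => h k hk hkm)
  · intro h p hp hpm hpn
    exact hp.one_lt.ne' (Nat.eq_one_of_dvd_coprimes h hpm hpn)

/-- the largest normal subgroup of order coprime to `n` -/
def coreCoprime (n : ℕ) (G : Type*) [Group G] : Subgroup G :=
  sSup {K : Subgroup G | K.Normal ∧ (Nat.card K).Coprime n}

theorem coreCoprime_props [Finite G] (n : ℕ) :
    (coreCoprime n G).Normal ∧ (Nat.card (coreCoprime n G)).Coprime n := by
  have h := isPiNum_card_sSup (π := npi n) {K : Subgroup G | K.Normal ∧ (Nat.card K).Coprime n}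
    (fun N hN => ⟨hN.1, (isPiNum_npi_iff n _).mpr hN.2⟩)
  exact ⟨h.1, (isPiNum_npi_iff n _).mp h.2⟩

theorem le_coreCoprime {n : ℕ} {K : Subgroup G} (hK : K.Normal) (hc : (Nat.card K).Coprime n) :
    K ≤ coreCoprime n G := le_sSup ⟨hK, hc⟩

/-- in a TI subgroup, normalizers of nontrivial subgroups lie in the normalizer -/
theorem normalizer_le_of_TI {H P : Subgroup G} (hTI : Cfsg.IsTISubset (H : Set G)) (hPH : P ≤ H)
    (hP : P ≠ ⊥) : Subgroup.normalizer (P : Set G) ≤ Subgroup.normalizer (H : Set G) := by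
  intro g hg
  by_contra hgn
  obtain ⟨x, hx, hx1⟩ : ∃ x ∈ P, x ≠ 1 := by
    by_contra hall
    push Not at hall
    exact hP ((Subgroup.eq_bot_iff_forall P).mpr hall)
  have h1 : g * x * g⁻¹ ∈ P := (Subgroup.mem_normalizer_iff.mp hg x).mp hx
  exact hx1 (hTI g hgn x (hPH hx) (hPH h1))

/-- an element of order coprime to the index of a normal subgroup lies in it -/
theorem mem_of_coprime_index {X : Type*} [Group X] [Finite X] (K : Subgroup X) [K.Normal] (x : X)
    (h : (orderOf x).Coprime K.index) : x ∈ K := by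
  rw [← QuotientGroup.eq_one_iff]
  have h1 : orderOf (x : X ⧸ K) ∣ orderOf x := orderOf_map_dvd (QuotientGroup.mk' K) x
  have h2 : orderOf (x : X ⧸ K) ∣ K.index := by
    rw [Subgroup.index_eq_card]
    exact orderOf_dvd_natCard _
  have h3 := Nat.eq_one_of_dvd_coprimes h h1 h2
  exact orderOf_eq_one_iff.mp h3

/-- a TI subgroup which is a Hall subgroup of its normalizer is a Hall subgroup -/
theorem coprime_index_of_TI [Finite G] {H : Subgroup G} (hTI : Cfsg.IsTISubset (H : Set G))
    (hHall : (Nat.card H).Coprime (H.subgroupOf (Subgroup.normalizer (H : Set G))).index) :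
    (Nat.card H).Coprime H.index := by
  classical
  apply Nat.coprime_of_dvd
  intro p hp hpH hpidx
  haveI : Fact p.Prime := ⟨hp⟩
  obtain ⟨P₀⟩ : Nonempty (Sylow p H) := inferInstance
  set P : Subgroup G := (P₀ : Subgroup H).map H.subtype with hPdef
  have hPH : P ≤ H := Subgroup.map_subtype_le _
  have hPne : P ≠ ⊥ := by
    intro h
    exact P₀.ne_bot_of_dvd_card hpH
      ((Subgroup.map_eq_bot_iff_of_injective _ H.subtype_injective).mp h)
  have hPp : IsPGroup p P := P₀.2.map _
  obtain ⟨S, hPS⟩ := hPp.exists_le_sylow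
  -- `S ⊓ H = P`
  have hSH : (S : Subgroup G) ⊓ H = P := by
    have h1 : IsPGroup p (((S : Subgroup G) ⊓ H).subgroupOf H) :=
      (S.2.to_le inf_le_left).comap_of_injective H.subtype H.subtype_injective
    have h2 : (P₀ : Subgroup H) ≤ ((S : Subgroup G) ⊓ H).subgroupOf H := by
      intro x hx
      rw [Subgroup.mem_subgroupOf]
      exact ⟨hPS ⟨x, hx, rfl⟩, x.2⟩
    have h3 := P₀.is_maximal' h1 h2
    rw [hPdef, ← h3]
    exact (Subgroup.map_subgroupOf_eq_of_le inf_le_right).symm
  -- `P = S`
  have hPeq : P = S := by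
    by_contra hne
    have hlt : P.subgroupOf S < ⊤ := by
      rw [lt_top_iff_ne_top]
      intro h
      apply hne
      exact le_antisymm hPS (Subgroup.subgroupOf_eq_top.mp h)
    haveI : Group.IsNilpotent S := S.2.isNilpotent
    have hnc := Group.normalizerCondition_of_isNilpotent (G := S) (P.subgroupOf S) hlt
    obtain ⟨x, hxn, hxP⟩ := SetLike.exists_of_lt hnc
    have hxG : (x : G) ∈ Subgroup.normalizer (P : Set G) := by
      apply Subgroup.mem_normalizer_fintype
      intro y hy
      have hy' : (⟨y, hPS hy⟩ : S) ∈ P.subgroupOf S := Subgroup.mem_subgroupOf.mpr hy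
      have := (Subgroup.mem_normalizer_iff.mp hxn ⟨y, hPS hy⟩).mp hy'
      exact Subgroup.mem_subgroupOf.mp this
    have hxN : (x : G) ∈ Subgroup.normalizer (H : Set G) := normalizer_le_of_TI hTI hPH hPne hxG
    -- `x` lies in `H`
    have hxH : (x : G) ∈ H := by
      haveI : (H.subgroupOf (Subgroup.normalizer (H : Set G))).Normal :=
        Subgroup.normal_in_normalizer
      have h1 : (orderOf (⟨(x : G), hxN⟩ : Subgroup.normalizer (H : Set G))).Coprime
          (H.subgroupOf (Subgroup.normalizer (H : Set G))).index := by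
        rw [Subgroup.orderOf_mk]
        obtain ⟨k, hk⟩ := (IsPGroup.iff_orderOf.mp S.2) x
        rw [Subgroup.orderOf_coe, hk]
        apply Nat.Coprime.pow_left
        rw [Nat.Prime.coprime_iff_not_dvd hp]
        intro hd
        exact hp.one_lt.ne' (Nat.eq_one_of_dvd_coprimes hHall hpH hd)
      have := mem_of_coprime_index _ _ h1
      exact Subgroup.mem_subgroupOf.mp this
    apply hxP
    rw [Subgroup.mem_subgroupOf, ← hSH]
    exact ⟨x.2, hxH⟩
  have h1 : ¬ p ∣ (S : Subgroup G).index := S.not_dvd_index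
  rw [← hPeq] at h1
  exact h1 (hpidx.trans (Subgroup.index_dvd_of_le hPH))

end Cfsg.Agent.Lib.Helper7.TIH
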