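import Mathlib
import Cfsg.Agent.Lib.Lead.CoprimeSylow3
import Cfsg.Agent.Lib.Lead.CoprimeSylow5
import Cfsg.Agent.Lib.Lead.Coprime
import Cfsg.Agent.Lib.Lead.CoprimeAction2

set_option autoImplicit false

/-!
# Coprime action on a Z-group: the centralizer contains full Sylow subgroups
-/

namespace Cfsg.Agent.Lib.Helper7.TIH

open Cfsg.Agent.Lib.Lead

universe u

variable {G : Type u} [Group G]

/-- a subgroup centralized by `A` is normalized by `A` -/
theorem le_normalizer_of_le_centralizer {A U : Subgroup G}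
    (hU : U ≤ Subgroup.centralizer (A : Set G)) : A ≤ Subgroup.normalizer (U : Set G) := by
  intro a ha
  rw [Subgroup.mem_normalizer_iff]
  have key : ∀ u ∈ U, a * u * a⁻¹ = u := by
    intro u hu
    have h1 := Subgroup.mem_centralizer_iff.mp (hU hu) a ha
    rw [h1]
    group
  have key' : ∀ u ∈ U, a⁻¹ * u * a = u := by
    intro u hu
    have h1 := Subgroup.mem_centralizer_iff.mp (hU hu) a ha
    calc a⁻¹ * u * a = a⁻¹ * (u * a) := by group
      _ = a⁻¹ * (a * u) := by rw [h1]
      _ = u := by group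
  intro x
  constructor
  · intro hx
    rw [key x hx]
    exact hx
  · intro hx
    have h2 := key' _ hx
    have h3 : a⁻¹ * (a * x * a⁻¹) * a = x := by group
    rw [h3] at h2
    rw [h2]
    exact hx

/-- if `p` divides `|C_K(A)|`, some Sylow `p`-subgroup of the Z-group `K` is centralized by `A` -/
theorem exists_sylow_le_centralizer [Finite G] (A K : Subgroup G)
    (hAK : A ≤ Subgroup.normalizer (K : Set G)) (hcop : (Nat.card A).Coprime (Nat.card K))
    [IsZGroup K] {p : ℕ} [hp : Fact p.Prime]
    (hpC : p ∣ Nat.card (K ⊓ Subgroup.centralizer (A : Set G) : Subgroup G)) :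
    ∃ P : Sylow p K, (P : Subgroup K).map K.subtype ≤ Subgroup.centralizer (A : Set G) := by
  classical
  have hKs : Group.IsSolvable K := inferInstance
  set C : Subgroup G := K ⊓ Subgroup.centralizer (A : Set G) with hC
  obtain ⟨U₀⟩ : Nonempty (Sylow p C) := inferInstance
  set Ug : Subgroup G := (U₀ : Subgroup C).map C.subtype with hUg
  have hUgC : Ug ≤ C := Subgroup.map_subtype_le _
  have hUgne : Ug ≠ ⊥ := by
    intro h
    exact U₀.ne_bot_of_dvd_card hpC
      ((Subgroup.map_eq_bot_iff_of_injective _ C.subtype_injective).mp h)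
  have hUgp : IsPGroup p Ug := U₀.2.map _
  have hUA : A ≤ Subgroup.normalizer (Ug : Set G) :=
    le_normalizer_of_le_centralizer (hUgC.trans inf_le_right)
  obtain ⟨P, hUP, hPA⟩ := coprime_invariant_pgroup_le_sylow A K hAK hcop (Or.inr hKs) p Ug
    (hUgC.trans inf_le_left) hUgp hUA
  refine ⟨P, ?_⟩
  set Pg : Subgroup G := (P : Subgroup K).map K.subtype with hPg
  have hPgp : IsPGroup p Pg := P.2.map _
  have hPgK : Pg ≤ K := Subgroup.map_subtype_le _
  haveI hcyc : IsCyclic Pg := by
    let e : ↥(P : Subgroup K) ≃* Pg :=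
      (P : Subgroup K).equivMapOfInjective K.subtype K.subtype_injective
    exact isCyclic_of_surjective e e.surjective
  have hcop' : (Nat.card Pg).Coprime (Nat.card A) :=
    (Nat.Coprime.coprime_dvd_right (Subgroup.card_dvd_of_le hPgK) hcop).symm
  rcases hPgp.commutator_eq_bot_or_commutator_eq_self hPA hcop' with h | h
  · rw [Subgroup.commutator_eq_bot_iff_le_centralizer] at h
    exact Subgroup.le_centralizer_iff.mp h
  · exfalso
    haveI : IsMulCommutative Pg := IsCyclic.isMulCommutative
    obtain ⟨h1, -⟩ := coprime_abelian_decomp A Pg hPA hcop'.symm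
    rw [Subgroup.commutator_comm, h] at h1
    apply hUgne
    rw [eq_bot_iff, ← h1]
    exact le_inf (le_inf hUP (hUgC.trans inf_le_right)) hUP

/-- if `p` divides `|C_K(A)|`, every `A`-invariant Sylow `p`-subgroup of the Z-group `K` is
centralized by `A` -/
theorem sylow_le_centralizer_of_invariant [Finite G] (A K : Subgroup G)
    (hAK : A ≤ Subgroup.normalizer (K : Set G)) (hcop : (Nat.card A).Coprime (Nat.card K))
    [IsZGroup K] {p : ℕ} [hp : Fact p.Prime]
    (hpC : p ∣ Nat.card (K ⊓ Subgroup.centralizer (A : Set G) : Subgroup G))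
    (P₂ : Sylow p K)
    (hP₂ : A ≤ Subgroup.normalizer ((P₂ : Subgroup K).map K.subtype : Set G)) :
    (P₂ : Subgroup K).map K.subtype ≤ Subgroup.centralizer (A : Set G) := by
  classical
  have hKs : Group.IsSolvable K := inferInstance
  obtain ⟨P, hPc⟩ := exists_sylow_le_centralizer A K hAK hcop hpC
  have hPA : A ≤ Subgroup.normalizer ((P : Subgroup K).map K.subtype : Set G) :=
    le_normalizer_of_le_centralizer hPc
  obtain ⟨c, hcA, hc⟩ := coprime_invariant_sylow_conj A K hAK hcop (Or.inr hKs) p P P₂ hPA hP₂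
  rintro _ ⟨x, hx, rfl⟩
  rw [SetLike.mem_coe, ← hc, Sylow.pointwise_smul_def, Subgroup.mem_smul_pointwise_iff_exists] at hx
  obtain ⟨y, hy, rfl⟩ := hx
  have hyc : (y : G) ∈ Subgroup.centralizer (A : Set G) := hPc ⟨y, hy, rfl⟩
  have e : K.subtype (MulAut.conj c • y) = (c : G) * (y : G) * (c : G)⁻¹ := by
    rw [MulAut.smul_def, MulAut.conj_apply]
    rfl
  rw [e]
  exact Subgroup.mul_mem _ (Subgroup.mul_mem _ hcA hyc) (Subgroup.inv_mem _ hcA)

end Cfsg.Agent.Lib.Helper7.TIH
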