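import Mathlib
import Cfsg.Agent.Lib.Helper7.TIH1
import Cfsg.Agent.Lib.Helper7.TIH9

set_option autoImplicit false

/-!
# Coprime action on a Z-group: `[K, A]` and `C_K(A)` have coprime orders
-/

namespace Cfsg.Agent.Lib.Helper7.TIH

open Cfsg.Agent.Lib.Lead
open scoped commutatorElement

universe u

variable {G : Type u} [Group G]

/-- a Sylow subgroup contained in a commutative normal subgroup is normal -/
theorem sylow_conj_mem_of_le_comm {L : Type*} [Group L] [Finite L] {p : ℕ} [Fact p.Prime]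
    (S : Sylow p L) (D : Subgroup L) [D.Normal] (hD : ∀ a ∈ D, ∀ b ∈ D, a * b = b * a)
    (hSD : (S : Subgroup L) ≤ D) (l : L) {s : L} (hs : s ∈ (S : Subgroup L)) :
    l * s * l⁻¹ ∈ (S : Subgroup L) := by
  set S' : Sylow p L := l • S with hS'
  have hS'D : (S' : Subgroup L) ≤ D := by
    intro x hx
    rw [hS', Sylow.coe_subgroup_smul, Subgroup.mem_smul_pointwise_iff_exists] at hx
    obtain ⟨y, hy, rfl⟩ := hx
    rw [MulAut.smul_def, MulAut.conj_apply]
    exact ‹D.Normal›.conj_mem y (hSD hy) l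
  have hnorm : (S' : Subgroup L) ≤ Subgroup.normalizer ((S : Subgroup L) : Set L) := by
    intro x hx
    apply Subgroup.mem_normalizer_fintype
    intro n hn
    have h1 := hD x (hS'D hx) n (hSD hn)
    rw [h1]
    simpa using hn
  have hp : IsPGroup p ((S' : Subgroup L) ⊔ (S : Subgroup L) : Subgroup L) :=
    IsPGroup.to_sup_of_normal_right' S'.2 S.2 hnorm
  have h2 := S.is_maximal' hp le_sup_right
  have h3 : (S' : Subgroup L) ≤ S := by
    rw [← h2]
    exact le_sup_left
  apply h3
  rw [hS', Sylow.coe_subgroup_smul, Subgroup.mem_smul_pointwise_iff_exists]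
  exact ⟨s, hs, by rw [MulAut.smul_def, MulAut.conj_apply]⟩

/-- for a coprime action of `A` on the Z-group `K`, the orders of `[K, A]` and `C_K(A)` are
coprime -/
theorem coprime_card_commutator_card_centralizer [Finite G] (A K : Subgroup G)
    (hAK : A ≤ Subgroup.normalizer (K : Set G)) (hcop : (Nat.card A).Coprime (Nat.card K))
    [IsZGroup K] :
    (Nat.card (⁅K, A⁆ : Subgroup G)).Coprime
      (Nat.card (K ⊓ Subgroup.centralizer (A : Set G) : Subgroup G)) := by
  classical
  have hKs : Group.IsSolvable K := inferInstance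
  set L : Subgroup G := ⁅K, A⁆ with hL
  have hLK : L ≤ K := commutator_le_left_of_le_normalizer K A hAK
  have hAL : A ≤ Subgroup.normalizer (L : Set G) := le_normalizer_commutator_right K A hAK
  have hLL : ⁅L, A⁆ = L := coprime_commutator_stable A K hAK hcop (Or.inr hKs)
  apply Nat.coprime_of_dvd
  intro p hp hpL hpC
  haveI : Fact p.Prime := ⟨hp⟩
  have hcopL : (Nat.card A).Coprime (Nat.card L) :=
    Nat.Coprime.coprime_dvd_right (Subgroup.card_dvd_of_le hLK) hcop
  haveI hLz : IsZGroup L := IsZGroup.of_injective (Subgroup.inclusion_injective hLK)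
  have hLs : Group.IsSolvable L := inferInstance
  obtain ⟨S, hSA⟩ := coprime_invariant_sylow_exists A L hAL hcopL (Or.inr hLs) p
  set Sg : Subgroup G := (S : Subgroup L).map L.subtype with hSg
  have hSgL : Sg ≤ L := Subgroup.map_subtype_le _
  have hSgp : IsPGroup p Sg := S.2.map _
  obtain ⟨P₂, hSP₂, hP₂A⟩ := coprime_invariant_pgroup_le_sylow A K hAK hcop (Or.inr hKs) p Sg
    (hSgL.trans hLK) hSgp hSA
  have hP₂c := sylow_le_centralizer_of_invariant A K hAK hcop hpC P₂ hP₂A
  have hSc : Sg ≤ Subgroup.centralizer (A : Set G) := hSP₂.trans hP₂c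
  have hmemSg : ∀ s : L, s ∈ (S : Subgroup L) → (s : G) ∈ Sg := fun s hs => ⟨s, hs, rfl⟩
  -- the normalizer of `S` in `L` centralizes `S`
  have hNC : Subgroup.normalizer ((S : Subgroup L) : Set L) ≤
      Subgroup.centralizer ((S : Subgroup L) : Set L) := by
    rcases Sylow.normalizer_le_centralizer_or_le_commutator S with h | h
    · exact h
    · haveI : IsCyclic (commutator L) := IsZGroup.isCyclic_commutator L
      have hcomm : ∀ a ∈ commutator L, ∀ b ∈ commutator L, a * b = b * a := by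
        intro a ha b hb
        have h1 := (IsCyclic.isMulCommutative (α := commutator L)).is_comm.comm ⟨a, ha⟩ ⟨b, hb⟩
        exact congrArg Subtype.val h1
      have hSn : ∀ (l : L) (s : L), s ∈ (S : Subgroup L) → l * s * l⁻¹ ∈ (S : Subgroup L) :=
        fun l s hs => sylow_conj_mem_of_le_comm S (commutator L) hcomm h l hs
      -- `L = [L, A]` centralizes `Sg`
      have hLc : L ≤ Subgroup.centralizer (Sg : Set G) := by
        rw [← hLL, Subgroup.commutator_le]
        intro l hl a ha
        rw [Subgroup.mem_centralizer_iff]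
        rintro _ ⟨s, hs, rfl⟩
        have ht : (⟨l, hl⟩ : L)⁻¹ * s * (⟨l, hl⟩ : L)⁻¹⁻¹ ∈ (S : Subgroup L) := hSn _ s hs
        have ht' : l⁻¹ * (s : G) * l ∈ Sg := by
          have := hmemSg _ ht
          simpa using this
        have hsa : (s : G) * a = a * (s : G) :=
          (Subgroup.mem_centralizer_iff.mp (hSc (hmemSg s hs)) a ha).symm
        have hta : (l⁻¹ * (s : G) * l) * a = a * (l⁻¹ * (s : G) * l) :=
          (Subgroup.mem_centralizer_iff.mp (hSc ht') a ha).symm
        have hta' : a⁻¹ * (l⁻¹ * (s : G) * l) = (l⁻¹ * (s : G) * l) * a⁻¹ := by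
          calc a⁻¹ * (l⁻¹ * (s : G) * l) = a⁻¹ * ((l⁻¹ * (s : G) * l) * a) * a⁻¹ := by group
            _ = a⁻¹ * (a * (l⁻¹ * (s : G) * l)) * a⁻¹ := by rw [hta]
            _ = (l⁻¹ * (s : G) * l) * a⁻¹ := by group
        show L.subtype s * ⁅l, a⁆ = ⁅l, a⁆ * L.subtype s
        rw [commutatorElement_def]
        show (s : G) * (l * a * l⁻¹ * a⁻¹) = (l * a * l⁻¹ * a⁻¹) * (s : G)
        calc (s : G) * (l * a * l⁻¹ * a⁻¹) = l * ((l⁻¹ * (s : G) * l) * a) * l⁻¹ * a⁻¹ := by group
          _ = l * (a * (l⁻¹ * (s : G) * l)) * l⁻¹ * a⁻¹ := by rw [hta]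
          _ = l * a * l⁻¹ * ((s : G) * a⁻¹) := by group
          _ = l * a * l⁻¹ * (a⁻¹ * (s : G)) := by
              congr 1
              calc (s : G) * a⁻¹ = a⁻¹ * (a * (s : G)) * a⁻¹ := by group
                _ = a⁻¹ * ((s : G) * a) * a⁻¹ := by rw [hsa]
                _ = a⁻¹ * (s : G) := by group
          _ = (l * a * l⁻¹ * a⁻¹) * (s : G) := by group
      intro x _
      rw [Subgroup.mem_centralizer_iff]
      intro s hs
      apply Subtype.ext
      have h1 := Subgroup.mem_centralizer_iff.mp (hLc x.2) (s : G) (hmemSg s hs)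
      exact h1
  -- the normal `p`-complement
  set M : Subgroup L := (MonoidHom.transferSylow S hNC).ker with hM
  have hcompl : M.IsComplement' (S : Subgroup L) := MonoidHom.ker_transferSylow_isComplement' S hNC
  haveI hMn : M.Normal := MonoidHom.normal_ker _
  have hMidx : M.index = Nat.card (S : Subgroup L) := hcompl.symm.index_eq_card
  have hSidx : (S : Subgroup L).index = Nat.card M := hcompl.index_eq_card
  have hpM : ¬ p ∣ Nat.card M := by
    rw [← hSidx]
    exact S.not_dvd_index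
  have hMcop : (Nat.card M).Coprime M.index := by
    rw [hMidx]
    obtain ⟨k, hk⟩ := S.2.exists_card_eq
    rw [hk]
    exact Nat.Coprime.pow_right k ((Nat.Prime.coprime_iff_not_dvd hp).mpr hpM).symm
  -- `M` is `A`-invariant
  have hMA : ∀ a ∈ A, ∀ m : L, m ∈ M → ∀ (h : a * (m : G) * a⁻¹ ∈ L),
      (⟨a * (m : G) * a⁻¹, h⟩ : L) ∈ M := by
    intro a ha m hm h
    apply mem_of_coprime_index M
    have h1 : orderOf (⟨a * (m : G) * a⁻¹, h⟩ : L) = orderOf m := by
      rw [← orderOf_injective L.subtype L.subtype_injective,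
        ← orderOf_injective L.subtype L.subtype_injective m]
      show orderOf (a * (m : G) * a⁻¹) = orderOf (m : G)
      have := orderOf_injective (MulAut.conj a).toMonoidHom (MulAut.conj a).injective (m : G)
      simpa using this
    rw [h1]
    exact Nat.Coprime.coprime_dvd_left (Subgroup.orderOf_dvd_natCard M hm) hMcop
  -- `[L, A] ≤ M`
  have hLM : L ≤ M.map L.subtype := by
    refine hLL.symm.le.trans ?_
    rw [Subgroup.commutator_le]
    intro l hl a ha
    obtain ⟨⟨m, s⟩, hms⟩ := hcompl.2 ⟨l, hl⟩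
    have hms' : (m : L) * (s : L) = ⟨l, hl⟩ := hms
    have hl' : l = ((m : L) : G) * ((s : L) : G) := by
      have := congrArg Subtype.val hms'
      simpa using this.symm
    have hsa : ((s : L) : G) * a = a * ((s : L) : G) :=
      (Subgroup.mem_centralizer_iff.mp (hSc (hmemSg s s.2)) a ha).symm
    have hmL : a * ((m : L) : G) * a⁻¹ ∈ L := by
      have := (Subgroup.mem_normalizer_iff.mp (hAL ha) ((m : L) : G)).mp (m : L).2
      exact this
    have hm' := hMA a ha (m : L) m.2 hmL
    have hinv : (m : L) * (⟨a * ((m : L) : G) * a⁻¹, hmL⟩ : L)⁻¹ ∈ M :=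
      M.mul_mem m.2 (M.inv_mem hm')
    refine ⟨_, hinv, ?_⟩
    rw [commutatorElement_def, hl']
    show ((m : L) : G) * (a * ((m : L) : G) * a⁻¹)⁻¹ = _
    have hsa' : a * ((s : L) : G)⁻¹ = ((s : L) : G)⁻¹ * a := by
      calc a * ((s : L) : G)⁻¹ = ((s : L) : G)⁻¹ * (((s : L) : G) * a) * ((s : L) : G)⁻¹ := by group
        _ = ((s : L) : G)⁻¹ * (a * ((s : L) : G)) * ((s : L) : G)⁻¹ := by rw [hsa]
        _ = ((s : L) : G)⁻¹ * a := by group
    calc ((m : L) : G) * (a * ((m : L) : G) * a⁻¹)⁻¹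
        = ((m : L) : G) * ((s : L) : G) * (((s : L) : G)⁻¹ * a) * ((m : L) : G)⁻¹ * a⁻¹ := by group
      _ = ((m : L) : G) * ((s : L) : G) * (a * ((s : L) : G)⁻¹) * ((m : L) : G)⁻¹ * a⁻¹ := by
          rw [hsa']
      _ = ((m : L) : G) * ((s : L) : G) * a * (((m : L) : G) * ((s : L) : G))⁻¹ * a⁻¹ := by group
  -- hence `M = ⊤` and `S = ⊥`
  have hMtop : M = ⊤ := by
    rw [eq_top_iff]
    intro x _
    obtain ⟨y, hy, hxy⟩ := hLM x.2
    have : y = x := Subtype.ext hxy
    rw [← this]
    exact hy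
  have hS1 : Nat.card (S : Subgroup L) = 1 := by
    rw [← hMidx, hMtop]
    exact Subgroup.index_top
  have hpS : p ∣ Nat.card (S : Subgroup L) := S.dvd_card_of_dvd_card hpL
  rw [hS1] at hpS
  exact hp.one_lt.ne' (Nat.dvd_one.mp hpS)

end Cfsg.Agent.Lib.Helper7.TIH
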