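import Mathlib
import Cfsg.Agent.Lib.Helper7.TIH1

set_option autoImplicit false

/-!
# TI subgroups that are Hall subgroups of their normalizers: `G = O N_G(H)`
-/

namespace Cfsg.Agent.Lib.Helper7.TIH

open Cfsg.Agent.Lib.Helper7 Cfsg.Agent.Lib.Helper4

variable {G : Type*} [Group G]

theorem relIndex_sup_self_of_normal [Finite G] (H K : Subgroup G) [K.Normal] :
    H.relIndex (H ⊔ K) = H.relIndex K := by
  have h1 : Nat.card (H ⊓ K : Subgroup G) * H.relIndex K = Nat.card K := by
    rw [← Subgroup.inf_relIndex_right, ← Subgroup.relIndex_bot_left, ← Subgroup.relIndex_bot_left]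
    exact Subgroup.relIndex_mul_relIndex _ _ _ bot_le inf_le_right
  have h2 : Nat.card (H ⊓ K : Subgroup G) * K.relIndex H = Nat.card H := by
    rw [← Subgroup.inf_relIndex_left, ← Subgroup.relIndex_bot_left, ← Subgroup.relIndex_bot_left]
    exact Subgroup.relIndex_mul_relIndex _ _ _ bot_le inf_le_left
  have h3 : Nat.card K * K.relIndex H = Nat.card (H ⊔ K : Subgroup G) := by
    rw [← Subgroup.relIndex_sup_right H K, ← Subgroup.relIndex_bot_left,
      ← Subgroup.relIndex_bot_left]
    exact Subgroup.relIndex_mul_relIndex _ _ _ bot_le le_sup_right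
  have h4 : Nat.card H * H.relIndex (H ⊔ K) = Nat.card (H ⊔ K : Subgroup G) := by
    rw [← Subgroup.relIndex_bot_left, ← Subgroup.relIndex_bot_left]
    exact Subgroup.relIndex_mul_relIndex _ _ _ bot_le le_sup_left
  have h5 : Nat.card H * H.relIndex (H ⊔ K) = Nat.card H * H.relIndex K := by
    rw [h4, ← h3, ← h1, ← h2]
    ring
  exact Nat.eq_of_mul_eq_mul_left Nat.card_pos h5

theorem relIndex_dvd_index_of_normal_right [Finite G] (H K : Subgroup G) [K.Normal] :
    H.relIndex K ∣ H.index := by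
  rw [← relIndex_sup_self_of_normal]
  exact Subgroup.relIndex_dvd_index_of_le le_sup_left

/-- Frattini argument for a TI Hall subgroup -/
theorem sup_normalizer_eq_top_of_dvd [Finite G] {H K : Subgroup G}
    (hTI : Cfsg.IsTISubset (H : Set G)) (hcop : (Nat.card H).Coprime H.index) [K.Normal]
    (p : ℕ) [hp : Fact p.Prime] (hpK : p ∣ Nat.card K) (hpH : p ∣ Nat.card H) :
    K ⊔ Subgroup.normalizer (H : Set G) = ⊤ := by
  classical
  obtain ⟨T⟩ : Nonempty (Sylow p K) := inferInstance
  set TG : Subgroup G := (T : Subgroup K).map K.subtype with hTG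
  have hTGne : TG ≠ ⊥ := by
    intro h
    exact T.ne_bot_of_dvd_card hpK
      ((Subgroup.map_eq_bot_iff_of_injective _ K.subtype_injective).mp h)
  have hTGp : IsPGroup p TG := T.2.map _
  have hfrat : Subgroup.normalizer (TG : Set G) ⊔ K = ⊤ := Sylow.normalizer_sup_eq_top T
  -- a Sylow subgroup of `G` inside `H`
  obtain ⟨S₀⟩ : Nonempty (Sylow p H) := inferInstance
  set P : Subgroup G := (S₀ : Subgroup H).map H.subtype with hPdef
  have hPH : P ≤ H := Subgroup.map_subtype_le _
  have hPp : IsPGroup p P := S₀.2.map _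
  have hPidx : ¬ p ∣ P.index := by
    rw [hPdef, Subgroup.index_map_subtype]
    intro hd
    rcases (Nat.Prime.dvd_mul hp.out).mp hd with h | h
    · exact S₀.not_dvd_index h
    · exact hp.out.one_lt.ne' (Nat.eq_one_of_dvd_coprimes hcop hpH h)
  set S : Sylow p G := hPp.toSylow hPidx with hS
  have hSP : (S : Subgroup G) = P := IsPGroup.toSylow_coe hPp hPidx
  obtain ⟨Q, hTQ⟩ := hTGp.exists_le_sylow
  obtain ⟨g, hg⟩ := MulAction.exists_smul_eq G Q S
  have hgQ : cj g (Q : Subgroup G) = P := by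
    have h1 : ((g • Q : Sylow p G) : Subgroup G) = (S : Subgroup G) := by rw [hg]
    rw [Sylow.coe_subgroup_smul, hSP] at h1
    rw [← h1]
    rfl
  have hT'H : cj g TG ≤ H := ((cj_mono g hTQ).trans hgQ.le).trans hPH
  have hT'ne : cj g TG ≠ ⊥ := fun h => hTGne ((cj_eq_bot_iff g TG).mp h)
  have hnorm := normalizer_le_of_TI hTI hT'H hT'ne
  rw [normalizer_cj] at hnorm
  have hK : cj g K = K := by
    apply mem_normalizer_iff_cj.mp
    rw [Subgroup.normalizer_eq_top_iff.mpr inferInstance]
    trivial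
  have h2 : cj g (Subgroup.normalizer (TG : Set G) ⊔ K) = ⊤ := by
    rw [hfrat]
    rw [eq_top_iff]
    intro x _
    rw [mem_cj]
    trivial
  rw [cj_sup, hK] at h2
  rw [eq_top_iff, ← h2, sup_comm]
  exact sup_le_sup_left hnorm K

/-- the first layer above `O` is a `π`-group -/
theorem exists_layer [Finite G] (n : ℕ)
    (hsep : ∃ (m : ℕ) (M : Fin (m + 1) → Subgroup G), M 0 = ⊥ ∧ M (Fin.last m) = ⊤ ∧
      Monotone M ∧ (∀ i, (M i).Normal) ∧
      ∀ i : Fin m, (∀ q : ℕ, q.Prime → q ∣ (M i.castSucc).relIndex (M i.succ) → q ∣ n) ∨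
        ((M i.castSucc).relIndex (M i.succ)).Coprime n)
    (hO : coreCoprime n G ≠ ⊤) :
    ∃ K : Subgroup G, K.Normal ∧ coreCoprime n G ≤ K ∧ ¬ K ≤ coreCoprime n G ∧
      ∀ q : ℕ, q.Prime → q ∣ (coreCoprime n G).relIndex K → q ∣ n := by
  obtain ⟨m, M, hM0, hMl, -, hMn, hfac⟩ := hsep
  obtain ⟨hOn, hOc⟩ := coreCoprime_props (G := G) n
  set O := coreCoprime n G with hOdef
  by_contra hno
  have hall : ∀ i : Fin (m + 1), M i ≤ O := by
    intro i
    induction i using Fin.induction with
    | zero => rw [hM0]; exact bot_le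
    | succ i ih =>
      by_contra hle
      haveI := hMn i.succ
      haveI := hOn
      have hKn : (M i.succ ⊔ O).Normal := inferInstance
      have hKle : ¬ M i.succ ⊔ O ≤ O := fun h => hle (le_sup_left.trans h)
      have hrel : O.relIndex (M i.succ ⊔ O) ∣ (M i.castSucc).relIndex (M i.succ) := by
        rw [Subgroup.relIndex_sup_right]
        exact Subgroup.relIndex_dvd_of_le_left _ ih
      rcases hfac i with h | h
      · apply hno
        refine ⟨M i.succ ⊔ O, hKn, le_sup_right, hKle, ?_⟩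
        intro q hq hqd
        exact h q hq (hqd.trans hrel)
      · apply hKle
        apply le_coreCoprime hKn
        have h1 : Nat.card O * O.relIndex (M i.succ ⊔ O) = Nat.card (M i.succ ⊔ O : Subgroup G) := by
          rw [← Subgroup.relIndex_bot_left, ← Subgroup.relIndex_bot_left]
          exact Subgroup.relIndex_mul_relIndex _ _ _ bot_le le_sup_right
        rw [← h1]
        exact Nat.Coprime.mul_left hOc (Nat.Coprime.coprime_dvd_left hrel h)
  apply hO
  rw [eq_top_iff, ← hMl]
  exact hall _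

/-- `G = O N_G(H)` -/
theorem sup_normalizer_eq_top [Finite G] {H : Subgroup G} (hTI : Cfsg.IsTISubset (H : Set G))
    (hnn : ¬ H.Normal)
    (hHall : (Nat.card H).Coprime (H.subgroupOf (Subgroup.normalizer (H : Set G))).index)
    (hsep : ∃ (m : ℕ) (M : Fin (m + 1) → Subgroup G), M 0 = ⊥ ∧ M (Fin.last m) = ⊤ ∧
      Monotone M ∧ (∀ i, (M i).Normal) ∧
      ∀ i : Fin m, (∀ q : ℕ, q.Prime → q ∣ (M i.castSucc).relIndex (M i.succ) → q ∣ Nat.card H) ∨
        ((M i.castSucc).relIndex (M i.succ)).Coprime (Nat.card H)) :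
    coreCoprime (Nat.card H) G ⊔ Subgroup.normalizer (H : Set G) = ⊤ := by
  classical
  have hcop := coprime_index_of_TI hTI hHall
  obtain ⟨hOn, hOc⟩ := coreCoprime_props (G := G) (Nat.card H)
  set n := Nat.card H with hn
  set O := coreCoprime n G with hOdef
  haveI := hOn
  have hOtop : O ≠ ⊤ := by
    intro h
    rw [h, Subgroup.card_top] at hOc
    have h1 : n ∣ Nat.card G := Subgroup.card_subgroup_dvd_card H
    have h2 : n = 1 := Nat.eq_one_of_dvd_coprimes hOc h1 dvd_rfl
    apply hnn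
    rw [Subgroup.card_eq_one.mp h2]
    infer_instance
  obtain ⟨K, hKn, hOK, hKO, hKπ⟩ := exists_layer n hsep hOtop
  haveI := hKn
  have hd1 : O.relIndex K ≠ 1 := fun h => hKO (Subgroup.relIndex_eq_one.mp h)
  obtain ⟨p, hp, hpd⟩ := Nat.exists_prime_and_dvd hd1
  haveI : Fact p.Prime := ⟨hp⟩
  have hpn : p ∣ n := hKπ p hp hpd
  have hpK : p ∣ Nat.card K := hpd.trans (Subgroup.relIndex_dvd_card O K)
  have hfr := sup_normalizer_eq_top_of_dvd hTI hcop p hpK hpn
  -- `K ≤ O ⊔ H`
  have hKL : K ≤ O ⊔ H := by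
    rw [← Subgroup.relIndex_eq_one]
    by_contra hne
    obtain ⟨q, hq, hqd⟩ := Nat.exists_prime_and_dvd hne
    have h1 : q ∣ n := hKπ q hq (hqd.trans (Subgroup.relIndex_dvd_of_le_left K le_sup_left))
    have h2 : q ∣ H.index :=
      (hqd.trans (relIndex_dvd_index_of_normal_right (O ⊔ H) K)).trans
        (Subgroup.index_dvd_of_le le_sup_right)
    exact hq.one_lt.ne' (Nat.eq_one_of_dvd_coprimes hcop h1 h2)
  rw [eq_top_iff, ← hfr]
  apply sup_le
  · exact hKL.trans (sup_le le_sup_left (Subgroup.le_normalizer.trans le_sup_right))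
  · exact le_sup_right

end Cfsg.Agent.Lib.Helper7.TIH
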