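import Mathlib
import Cfsg.Agent.Lib.Helper7.TIH2
import Cfsg.Agent.Lib.Helper2.Zfp51
import Cfsg.Agent.Lib.Helper2.Zfp58

set_option autoImplicit false

/-!
# TI Hall subgroups: a section on which `H` acts fixed-point-freely
-/

namespace Cfsg.Agent.Lib.Helper7.TIH

open Cfsg.Agent.Lib.Helper7

universe u

variable {G : Type u} [Group G]

/-- `O ∩ N_G(H)` centralizes `H` -/
theorem comm_of_mem_inf_normalizer [Finite G] {H O : Subgroup G} (hOn : O.Normal)
    (hOc : (Nat.card O).Coprime (Nat.card H)) {c h : G} (hcO : c ∈ O)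
    (hcN : c ∈ Subgroup.normalizer (H : Set G)) (hh : h ∈ H) : c * h = h * c := by
  have h1 : c * h * c⁻¹ * h⁻¹ ∈ O ⊓ H := by
    refine Subgroup.mem_inf.mpr ⟨?_, ?_⟩
    · have h2 : h * c⁻¹ * h⁻¹ ∈ O := hOn.conj_mem c⁻¹ (O.inv_mem hcO) h
      have e : c * h * c⁻¹ * h⁻¹ = c * (h * c⁻¹ * h⁻¹) := by group
      rw [e]
      exact O.mul_mem hcO h2
    · have h2 : c * h * c⁻¹ ∈ H := (Subgroup.mem_normalizer_iff.mp hcN h).mp hh
      exact H.mul_mem h2 (H.inv_mem hh)
  have h3 : O ⊓ H = ⊥ := Subgroup.inf_eq_bot_of_coprime hOc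
  rw [h3, Subgroup.mem_bot] at h1
  calc c * h = (c * h * c⁻¹ * h⁻¹) * (h * c) := by group
    _ = h * c := by rw [h1, one_mul]

/-- centralizers of nonidentity elements of a TI subgroup lie in its normalizer -/
theorem mem_normalizer_of_comm {H : Subgroup G} (hTI : Cfsg.IsTISubset (H : Set G)) {h x : G}
    (hh : h ∈ H) (hh1 : h ≠ 1) (hx : x * h = h * x) : x ∈ Subgroup.normalizer (H : Set G) := by
  by_contra hxn
  apply hh1
  apply hTI x hxn h hh
  rw [hx, mul_inv_cancel_right]
  exact hh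

theorem exists_fpf_section [Finite G] {H O : Subgroup G} (hTI : Cfsg.IsTISubset (H : Set G))
    (hOn : O.Normal) (hOc : (Nat.card O).Coprime (Nat.card H)) (hOs : Group.IsSolvable O)
    (hON : ¬ O ≤ Subgroup.normalizer (H : Set G)) :
    ∃ (U : Type u) (_ : Group U) (_ : Finite U) (_ : Nontrivial U) (ψ : ↥H →* MulAut U),
      ∀ h : H, h ≠ 1 → ∀ u : U, ψ h u = u → u = 1 := by
  classical
  haveI := hOn
  set N := Subgroup.normalizer (H : Set G) with hN
  let D : ℕ → Subgroup G := fun j => (derivedSeries O j).map O.subtype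
  have hD0 : D 0 = O := by
    show (derivedSeries O 0).map O.subtype = O
    rw [derivedSeries_zero, ← MonoidHom.range_eq_map, Subgroup.range_subtype]
  have hDn : ∀ j, (D j).Normal := by
    intro j
    haveI := derivedSeries_characteristic O j
    exact ConjAct.normal_of_characteristic_of_normal
  have hDsucc : ∀ j, D (j + 1) = ⁅D j, D j⁆ := by
    intro j
    show (derivedSeries O (j + 1)).map O.subtype = _
    rw [derivedSeries_succ, Subgroup.map_commutator]
  have hex : ∃ j, D j ≤ N := by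
    obtain ⟨j, hj⟩ := hOs.solvable
    refine ⟨j, ?_⟩
    show (derivedSeries O j).map O.subtype ≤ N
    rw [hj, Subgroup.map_bot]
    exact bot_le
  set j₀ := Nat.find hex with hj₀
  have hj₀0 : j₀ ≠ 0 := by
    intro h0
    have h1 : D j₀ ≤ N := Nat.find_spec hex
    rw [h0, hD0] at h1
    exact hON h1
  obtain ⟨k, hk⟩ : ∃ k, j₀ = k + 1 := ⟨j₀ - 1, by omega⟩
  set X := D k with hX
  have hXN : ¬ X ≤ N := by
    have : k < j₀ := by omega
    exact Nat.find_min hex this
  have hX'N : ⁅X, X⁆ ≤ N := by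
    have h1 : D j₀ ≤ N := Nat.find_spec hex
    rw [hk, hDsucc] at h1
    exact h1
  have hXO : X ≤ O := Subgroup.map_subtype_le _
  haveI hXn : X.Normal := hDn k
  set E := X ⊓ N with hE
  -- `E` is normal in `X`
  haveI hEn : (E.subgroupOf X).Normal := by
    constructor
    intro e he x
    rw [Subgroup.mem_subgroupOf] at he ⊢
    have h1 : (x : G) * e * (x : G)⁻¹ * (e : G)⁻¹ ∈ ⁅X, X⁆ :=
      Subgroup.commutator_mem_commutator x.2 e.2
    have h2 : (x : G) * e * (x : G)⁻¹ * (e : G)⁻¹ ∈ E :=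
      Subgroup.mem_inf.mpr ⟨X.mul_mem (X.mul_mem (X.mul_mem x.2 e.2) (X.inv_mem x.2))
        (X.inv_mem e.2), hX'N h1⟩
    have e1 : ((x * e * x⁻¹ : X) : G) = ((x : G) * e * (x : G)⁻¹ * (e : G)⁻¹) * e := by
      push_cast
      group
    rw [e1]
    exact E.mul_mem h2 he
  -- the action
  have hmapE : ∀ h : H, (E.subgroupOf X).map ((MulAut.conjNormal (H := X) (h : G)) : X →* X) =
      E.subgroupOf X := by
    intro h
    apply le_antisymm
    · rintro _ ⟨e, he, rfl⟩
      rw [SetLike.mem_coe, Subgroup.mem_subgroupOf] at he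
      rw [Subgroup.mem_subgroupOf]
      show ((MulAut.conjNormal (h : G) e : X) : G) ∈ E
      rw [MulAut.conjNormal_apply]
      refine Subgroup.mem_inf.mpr ⟨hXn.conj_mem _ e.2 _, ?_⟩
      have hhN : (h : G) ∈ N := Subgroup.le_normalizer h.2
      exact N.mul_mem (N.mul_mem hhN he.2) (N.inv_mem hhN)
    · intro e he
      rw [Subgroup.mem_subgroupOf] at he
      refine ⟨MulAut.conjNormal (H := X) (h : G)⁻¹ e, ?_, ?_⟩
      · rw [SetLike.mem_coe, Subgroup.mem_subgroupOf, MulAut.conjNormal_apply]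
        refine Subgroup.mem_inf.mpr ⟨hXn.conj_mem _ e.2 _, ?_⟩
        have hhN : (h : G)⁻¹ ∈ N := N.inv_mem (Subgroup.le_normalizer h.2)
        exact N.mul_mem (N.mul_mem hhN he.2) (N.inv_mem hhN)
      · apply Subtype.ext
        show ((MulAut.conjNormal (h : G) (MulAut.conjNormal (h : G)⁻¹ e) : X) : G) = e
        rw [MulAut.conjNormal_apply, MulAut.conjNormal_apply]
        group
  let ψf : H → MulAut (X ⧸ E.subgroupOf X) := fun h =>
    QuotientGroup.congr (E.subgroupOf X) (E.subgroupOf X) (MulAut.conjNormal (H := X) (h : G))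
      (hmapE h)
  have hψf : ∀ (h : H) (x : X), ψf h (x : X ⧸ E.subgroupOf X) =
      ((MulAut.conjNormal (H := X) (h : G) x : X) : X ⧸ E.subgroupOf X) := fun h x => rfl
  let ψ : H →* MulAut (X ⧸ E.subgroupOf X) :=
    { toFun := ψf
      map_one' := by
        ext u
        induction u using QuotientGroup.induction_on with
        | H x =>
          rw [hψf]
          show _ = ((x : X) : X ⧸ E.subgroupOf X)
          congr 1
          apply Subtype.ext
          rw [MulAut.conjNormal_apply]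
          simp
      map_mul' := by
        intro a b
        ext u
        induction u using QuotientGroup.induction_on with
        | H x =>
          rw [hψf]
          show _ = ψf a (ψf b (x : X ⧸ E.subgroupOf X))
          rw [hψf, hψf]
          congr 1
          apply Subtype.ext
          rw [MulAut.conjNormal_apply, MulAut.conjNormal_apply, MulAut.conjNormal_apply]
          push_cast
          group }
  have hψ : ∀ (h : H) (x : X), ψ h (x : X ⧸ E.subgroupOf X) =
      ((MulAut.conjNormal (H := X) (h : G) x : X) : X ⧸ E.subgroupOf X) := fun h x => rfl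
  have hnt : Nontrivial (X ⧸ E.subgroupOf X) := by
    obtain ⟨x, hxX, hxN⟩ := SetLike.not_le_iff_exists.mp hXN
    refine ⟨⟨((⟨x, hxX⟩ : X) : X ⧸ E.subgroupOf X), 1, ?_⟩⟩
    intro h
    rw [QuotientGroup.eq_one_iff, Subgroup.mem_subgroupOf] at h
    exact hxN h.2
  refine ⟨X ⧸ E.subgroupOf X, inferInstance, inferInstance, hnt, ψ, ?_⟩
  intro h hh1 u hu
  induction u using QuotientGroup.induction_on with
  | H x =>
    rw [hψ, QuotientGroup.eq, Subgroup.mem_subgroupOf] at hu
    rw [QuotientGroup.eq_one_iff, Subgroup.mem_subgroupOf]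
    have hu' : ((MulAut.conjNormal (H := X) (h : G) x : X) : G)⁻¹ * (x : G) ∈ E := by
      have := hu
      push_cast at this
      exact this
    rw [MulAut.conjNormal_apply] at hu'
    set e : G := ((h : G) * x * (h : G)⁻¹)⁻¹ * (x : G) with he
    have heO : e ∈ O := hXO hu'.1
    have heN : e ∈ N := hu'.2
    have hh1' : (h : G) ≠ 1 := fun h0 => hh1 (Subtype.ext h0)
    -- `e` commutes with `h`
    have hcomm : e * (h : G) = (h : G) * e := comm_of_mem_inf_normalizer hOn hOc heO heN h.2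
    -- `h^k x h^-k = x e^-k`
    have hx : (h : G) * x * (h : G)⁻¹ = (x : G) * e⁻¹ := by
      rw [he]
      group
    have hcomm' : e⁻¹ * (h : G) = (h : G) * e⁻¹ := by
      calc e⁻¹ * (h : G) = e⁻¹ * ((h : G) * e) * e⁻¹ := by group
        _ = e⁻¹ * (e * (h : G)) * e⁻¹ := by rw [hcomm]
        _ = (h : G) * e⁻¹ := by group
    have hpow : ∀ k : ℕ, (h : G) ^ k * x * ((h : G) ^ k)⁻¹ = (x : G) * (e⁻¹) ^ k := by
      intro k
      induction k with
      | zero => simp
      | succ k ih =>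
        have hc : (e⁻¹) ^ k * (h : G)⁻¹ = (h : G)⁻¹ * (e⁻¹) ^ k := by
          have h1 : (h : G) * (e⁻¹) ^ k = (e⁻¹) ^ k * (h : G) :=
            ((Commute.pow_right (show Commute (h : G) e⁻¹ from hcomm'.symm) k)).eq
          calc (e⁻¹) ^ k * (h : G)⁻¹ = (h : G)⁻¹ * ((h : G) * (e⁻¹) ^ k) * (h : G)⁻¹ := by group
            _ = (h : G)⁻¹ * ((e⁻¹) ^ k * (h : G)) * (h : G)⁻¹ := by rw [h1]
            _ = (h : G)⁻¹ * (e⁻¹) ^ k := by group
        calc (h : G) ^ (k + 1) * x * ((h : G) ^ (k + 1))⁻¹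
            = (h : G) * ((h : G) ^ k * x * ((h : G) ^ k)⁻¹) * (h : G)⁻¹ := by
              rw [pow_succ']
              group
          _ = (h : G) * ((x : G) * (e⁻¹) ^ k) * (h : G)⁻¹ := by rw [ih]
          _ = ((h : G) * x * (h : G)⁻¹) * ((h : G) * (e⁻¹) ^ k * (h : G)⁻¹) := by group
          _ = ((x : G) * e⁻¹) * ((h : G) * ((e⁻¹) ^ k * (h : G)⁻¹)) := by rw [hx]; group
          _ = ((x : G) * e⁻¹) * ((h : G) * ((h : G)⁻¹ * (e⁻¹) ^ k)) := by rw [hc]
          _ = (x : G) * (e⁻¹) ^ (k + 1) := by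
              rw [pow_succ']
              group
    have h2 := hpow (orderOf (h : G))
    rw [pow_orderOf_eq_one, one_mul, inv_one, mul_one] at h2
    have h3 : (e⁻¹) ^ orderOf (h : G) = 1 := by
      have : (x : G) * 1 = (x : G) * (e⁻¹) ^ orderOf (h : G) := by rw [mul_one]; exact h2
      exact (mul_left_cancel this).symm
    have h4 : orderOf e⁻¹ ∣ orderOf (h : G) := orderOf_dvd_of_pow_eq_one h3
    have h5 : orderOf e⁻¹ ∣ Nat.card O := Subgroup.orderOf_dvd_natCard O (O.inv_mem heO)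
    have h6 : orderOf (h : G) ∣ Nat.card H := Subgroup.orderOf_dvd_natCard H h.2
    have h7 : orderOf e⁻¹ = 1 := Nat.eq_one_of_dvd_coprimes hOc h5 (h4.trans h6)
    have h8 : e⁻¹ = 1 := orderOf_eq_one_iff.mp h7
    rw [h8, mul_one] at hx
    have hxh : (x : G) * (h : G) = (h : G) * (x : G) := by
      calc (x : G) * (h : G) = ((h : G) * x * (h : G)⁻¹) * (h : G) := by rw [hx]
        _ = (h : G) * (x : G) := by group
    exact Subgroup.mem_inf.mpr ⟨x.2, mem_normalizer_of_comm hTI h.2 hh1' hxh⟩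

/-- `H` is solvable if it contains no copy of `SL₂(5)` -/
theorem isSolvable_of_no_SL25 [Finite G] {H O : Subgroup G} (hTI : Cfsg.IsTISubset (H : Set G))
    (hOn : O.Normal) (hOc : (Nat.card O).Coprime (Nat.card H)) (hOs : Group.IsSolvable O)
    (hON : ¬ O ≤ Subgroup.normalizer (H : Set G))
    (hSL : ∀ K : Subgroup G, K ≤ H →
      ¬ Nonempty (K ≃* Matrix.SpecialLinearGroup (Fin 2) (ZMod 5))) :
    Group.IsSolvable H := by
  obtain ⟨U, hUg, hUf, hUn, ψ, hfpf⟩ := exists_fpf_section hTI hOn hOc hOs hON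
  by_contra hns
  obtain ⟨_, _, _, S, _, _, _, _, ⟨e⟩, _⟩ :=
    Cfsg.Agent.Lib.Helper2.Zfp.nonsolvable_of_fpf_hom ψ hfpf hns
  apply hSL (S.map H.subtype) (Subgroup.map_subtype_le S)
  exact ⟨(S.equivMapOfInjective H.subtype H.subtype_injective).symm.trans e⟩

end Cfsg.Agent.Lib.Helper7.TIH
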