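import Mathlib
import Cfsg.Agent.Lib.Helper2.Zfc8
import Cfsg.Agent.Lib.Lead.UniqueOrderP5

set_option autoImplicit false
set_option linter.style.haveILetI false

/-!
# Groups of fixed-point-free automorphisms: abelian subgroups are cyclic, `p`-subgroups are cyclic
or generalized quaternion
-/

namespace Cfsg.Agent.Lib.Helper7.TIH

open scoped TensorProduct
open Cfsg.Agent.Lib.Helper2.Zfp Cfsg.Agent.Lib.Lead

universe u v

/-- abelian subgroups of a group of fixed-point-free automorphisms are cyclic -/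
theorem isCyclic_of_comm_of_fpf {K : Type u} [Group K] [Finite K] {U : Type v} [Group U]
    [Finite U] [Nontrivial U] (ψ : K →* MulAut U)
    (hfpf : ∀ g : K, g ≠ 1 → ∀ k : U, ψ g k = k → k = 1) (A : Subgroup K)
    (hA : ∀ a ∈ A, ∀ b ∈ A, a * b = b * a) : IsCyclic A := by
  by_cases hK : Nontrivial K
  · obtain ⟨ℓ, hℓ, hnt, hfpf'⟩ := exists_linear_of_fpf_hom ψ hfpf
    haveI := hℓ
    haveI := hnt
    haveI : Finite (Additive (torsionCenter U ℓ)) :=
      inferInstanceAs (Finite (torsionCenter U ℓ))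
    haveI : Module.Finite (ZMod ℓ) (Additive (torsionCenter U ℓ)) := Module.Finite.of_finite
    haveI : Nontrivial (AlgebraicClosure (ZMod ℓ) ⊗[ZMod ℓ] (Additive (torsionCenter U ℓ))) := by
      have h1 : Module.finrank (AlgebraicClosure (ZMod ℓ))
          (AlgebraicClosure (ZMod ℓ) ⊗[ZMod ℓ] (Additive (torsionCenter U ℓ))) =
          Module.finrank (ZMod ℓ) (Additive (torsionCenter U ℓ)) := Module.finrank_baseChange
      have h2 : 0 < Module.finrank (ZMod ℓ) (Additive (torsionCenter U ℓ)) := Module.finrank_pos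
      rw [← h1] at h2
      exact Module.nontrivial_of_finrank_pos h2
    exact (Rep.ofLinear (AlgebraicClosure (ZMod ℓ)) ((torsionCenter.act ℓ).comp ψ)
      hfpf').isCyclic_of_comm A hA
  · rw [not_nontrivial_iff_subsingleton] at hK
    haveI : Subsingleton A := ⟨fun a b => Subtype.ext (Subsingleton.elim _ _)⟩
    exact isCyclic_of_subsingleton

/-- a finite `p`-group all of whose abelian subgroups are cyclic has at most one subgroup of order
`p` -/
theorem uniqueOrderP_of_abelian_cyclic {P : Type*} [Group P] [Finite P] {p : ℕ}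
    [hp : Fact p.Prime] (hPp : IsPGroup p P)
    (hcyc : ∀ B : Subgroup P, (∀ a ∈ B, ∀ b ∈ B, a * b = b * a) → IsCyclic B) :
    UniqueOrderP p P := by
  classical
  have key : ∀ H₁ H₂ : Subgroup P, Nat.card H₁ = p → Nat.card H₂ = p →
      (∀ x ∈ H₁, ∀ y ∈ H₂, x * y = y * x) → H₁ ≤ H₂ := by
    intro H₁ H₂ h1 h2 hcomm
    have hc1 : ∀ x ∈ H₁, ∀ y ∈ H₁, x * y = y * x := by
      intro x hx y hy
      have : IsCyclic H₁ := isCyclic_of_prime_card h1
      have := (IsCyclic.commGroup (α := H₁)).mul_comm ⟨x, hx⟩ ⟨y, hy⟩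
      exact congrArg Subtype.val this
    have hc2 : ∀ x ∈ H₂, ∀ y ∈ H₂, x * y = y * x := by
      intro x hx y hy
      have : IsCyclic H₂ := isCyclic_of_prime_card h2
      have := (IsCyclic.commGroup (α := H₂)).mul_comm ⟨x, hx⟩ ⟨y, hy⟩
      exact congrArg Subtype.val this
    set B : Subgroup P := Subgroup.closure ((H₁ : Set P) ∪ (H₂ : Set P)) with hBdef
    have hBc : IsMulCommutative B := by
      apply Subgroup.isMulCommutative_closure
      rintro x (hx | hx) y (hy | hy)
      · exact hc1 x hx y hy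
      · exact hcomm x hx y hy
      · exact (hcomm y hy x hx).symm
      · exact hc2 x hx y hy
    have hH₁B : H₁ ≤ B := fun x hx => Subgroup.subset_closure (Or.inl hx)
    have hH₂B : H₂ ≤ B := fun x hx => Subgroup.subset_closure (Or.inr hx)
    have hcycB : IsCyclic B := by
      apply hcyc B
      intro a ha b hb
      have := hBc.is_comm.comm ⟨a, ha⟩ ⟨b, hb⟩
      exact congrArg Subtype.val this
    intro x hx
    have h3 : (⟨x, hH₁B hx⟩ : B) ∈ H₂.subgroupOf B := by
      rw [mem_iff_pow_card_of_isCyclic, card_subgroupOf_of_le hH₂B, h2]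
      apply Subtype.ext
      have := pow_card_eq_one' (G := H₁) (x := ⟨x, hx⟩)
      rw [h1] at this
      have h4 : x ^ p = 1 := congrArg Subtype.val this
      simpa using h4
    exact Subgroup.mem_subgroupOf.mp h3
  intro H₁ H₂ h1 h2
  have hnt : Nontrivial P := by
    have : 1 < Nat.card P := by
      have := Subgroup.card_subgroup_dvd_card H₁
      rw [h1] at this
      exact lt_of_lt_of_le hp.out.one_lt (Nat.le_of_dvd Nat.card_pos this)
    exact (Finite.one_lt_card_iff_nontrivial).mp this
  have hcen := hPp.center_nontrivial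
  obtain ⟨k, hk⟩ := IsPGroup.iff_card.mp (hPp.to_subgroup (Subgroup.center P))
  have hk0 : k ≠ 0 := by
    intro h0
    rw [h0, pow_zero] at hk
    have := (Finite.one_lt_card_iff_nontrivial).mpr hcen
    omega
  obtain ⟨z, hz⟩ := exists_prime_orderOf_dvd_card' (G := Subgroup.center P) p
    (by rw [hk]; exact dvd_pow_self p hk0)
  set Zc : Subgroup P := Subgroup.zpowers (z : P) with hZc
  have hZcard : Nat.card Zc = p := by rw [Nat.card_zpowers, Subgroup.orderOf_coe, hz]
  have hZcen : ∀ y ∈ Zc, ∀ x : P, x * y = y * x := by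
    intro y hy x
    have h3 : Zc ≤ Subgroup.center P := (Subgroup.zpowers_le).mpr z.2
    exact Subgroup.mem_center_iff.mp (h3 hy) x
  have e1 : H₁ = Zc :=
    Subgroup.eq_of_le_of_card_ge (key H₁ Zc h1 hZcard (fun x _ y hy => hZcen y hy x))
      (by rw [h1, hZcard])
  have e2 : H₂ = Zc :=
    Subgroup.eq_of_le_of_card_ge (key H₂ Zc h2 hZcard (fun x _ y hy => hZcen y hy x))
      (by rw [h2, hZcard])
  rw [e1, e2]

/-- `p`-subgroups of a group of fixed-point-free automorphisms are cyclic or generalized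
quaternion -/
theorem cyclic_or_quaternion_of_fpf {K : Type u} [Group K] [Finite K] {U : Type v} [Group U]
    [Finite U] [Nontrivial U] (ψ : K →* MulAut U)
    (hfpf : ∀ g : K, g ≠ 1 → ∀ k : U, ψ g k = k → k = 1) {p : ℕ} [Fact p.Prime]
    (R : Subgroup K) (hR : IsPGroup p R) :
    IsCyclic R ∨ (p = 2 ∧ ∃ n : ℕ, Nonempty (R ≃* QuaternionGroup (2 ^ n))) := by
  apply UniqueOrderP.main hR
  apply uniqueOrderP_of_abelian_cyclic hR
  intro B hB
  have h1 : IsCyclic (B.map R.subtype) := by
    apply isCyclic_of_comm_of_fpf ψ hfpf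
    rintro _ ⟨a, ha, rfl⟩ _ ⟨b, hb, rfl⟩
    exact congrArg Subtype.val (hB a ha b hb)
  exact isCyclic_of_surjective (B.equivMapOfInjective R.subtype R.subtype_injective).symm
    (B.equivMapOfInjective R.subtype R.subtype_injective).symm.surjective

end Cfsg.Agent.Lib.Helper7.TIH
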