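import Mathlib
import Cfsg.Agent.Lib.Helper7.TIH3
import Cfsg.Agent.Lib.Helper7.TIH5
import Cfsg.Agent.Lib.Lead.CoprimeSylow3

set_option autoImplicit false

/-!
# TI Hall subgroups: Sylow subgroups of `H` act fixed-point-freely (no solvability needed)
-/

namespace Cfsg.Agent.Lib.Helper7.TIH

open Cfsg Cfsg.Agent.Lib.Helper7 Cfsg.Agent.Lib.Helper4 Cfsg.Agent.Lib.Lead

universe u

variable {G : Type u} [Group G]

/-- TI passes to subgroups -/
theorem isTISubset_subgroupOf {H : Subgroup G} (hTI : Cfsg.IsTISubset (H : Set G))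
    (K : Subgroup G) : Cfsg.IsTISubset ((H.subgroupOf K : Subgroup K) : Set K) := by
  intro g hg x hx hgx
  have hgn : (g : G) ∉ Subgroup.normalizer (H : Set G) := by
    intro h
    apply hg
    rw [Subgroup.mem_normalizer_iff]
    intro y
    rw [Subgroup.mem_subgroupOf, Subgroup.mem_subgroupOf]
    exact Subgroup.mem_normalizer_iff.mp h y
  have h1 : (x : G) ∈ H := Subgroup.mem_subgroupOf.mp hx
  have h2 : (g : G) * x * (g : G)⁻¹ ∈ H := Subgroup.mem_subgroupOf.mp hgx
  exact Subtype.ext (hTI g hgn x h1 h2)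

/-- a prime for which the Sylow subgroups of `O` do not lie in `N` -/
theorem exists_prime_sylow_not_le [Finite G] {O N : Subgroup G} (hON : ¬ O ≤ N) :
    ∃ r : ℕ, r.Prime ∧ ∀ R : Subgroup G, R ≤ O →
      Nat.card R = r ^ (Nat.card O).factorization r → ¬ R ≤ N := by
  by_contra hno
  push Not at hno
  apply hON
  have hdvd : Nat.card O ∣ Nat.card (O ⊓ N : Subgroup G) := by
    rw [← Nat.factorization_prime_le_iff_dvd Nat.card_pos.ne' Nat.card_pos.ne']
    intro r hr
    obtain ⟨R, hRO, hRc, hRN⟩ := hno r hr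
    have h1 : Nat.card R ∣ Nat.card (O ⊓ N : Subgroup G) :=
      Subgroup.card_dvd_of_le (le_inf hRO hRN)
    rw [hRc] at h1
    exact (Nat.Prime.pow_dvd_iff_le_factorization hr Nat.card_pos.ne').mp h1
  have h2 : O ⊓ N = O :=
    Subgroup.eq_of_le_of_card_ge inf_le_left (Nat.le_of_dvd Nat.card_pos hdvd)
  rw [← h2]
  exact inf_le_right

/-- a `p`-subgroup of a TI subgroup `H` acts fixed-point-freely on some nontrivial group,
provided some normal subgroup `O` of coprime order is not contained in `N_G(H)` -/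
theorem exists_fpf_of_pgroup [Finite G] {H O : Subgroup G} (hTI : Cfsg.IsTISubset (H : Set G))
    (hOn : O.Normal) (hOc : (Nat.card O).Coprime (Nat.card H))
    (hON : ¬ O ≤ Subgroup.normalizer (H : Set G)) {p : ℕ} [hp : Fact p.Prime] (P : Subgroup G)
    (hPH : P ≤ H) (hP : IsPGroup p P) :
    ∃ (U : Type u) (_ : Group U) (_ : Finite U) (_ : Nontrivial U) (ψ : ↥P →* MulAut U),
      ∀ h : P, h ≠ 1 → ∀ u : U, ψ h u = u → u = 1 := by
  classical
  by_cases hP1 : P = ⊥
  · have hnt : Nontrivial O := by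
      by_contra h
      rw [not_nontrivial_iff_subsingleton] at h
      apply hON
      intro x hx
      have : (⟨x, hx⟩ : O) = 1 := Subsingleton.elim _ _
      have h1 : x = 1 := congrArg Subtype.val this
      rw [h1]
      exact Subgroup.one_mem _
    refine ⟨O, inferInstance, inferInstance, hnt, 1, ?_⟩
    intro h hh
    exfalso
    apply hh
    apply Subtype.ext
    exact (Subgroup.eq_bot_iff_forall P).mp hP1 h h.2
  · obtain ⟨x, hx, hx1⟩ : ∃ x ∈ P, x ≠ 1 := by
      by_contra hall
      push Not at hall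
      exact hP1 ((Subgroup.eq_bot_iff_forall P).mpr hall)
    obtain ⟨r, hr, hRN⟩ := exists_prime_sylow_not_le hON
    haveI : Fact r.Prime := ⟨hr⟩
    haveI := hOn
    have hPO : P ≤ Subgroup.normalizer (O : Set G) := by
      rw [Subgroup.normalizer_eq_top_iff.mpr hOn]
      exact le_top
    have hcopPO : (Nat.card P).Coprime (Nat.card O) :=
      (Nat.Coprime.coprime_dvd_right (Subgroup.card_dvd_of_le hPH) hOc).symm
    have hPs : Group.IsSolvable P := by
      haveI := hP.isNilpotent
      infer_instance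
    obtain ⟨R, hR⟩ := coprime_invariant_sylow_exists P O hPO hcopPO (Or.inl hPs) r
    set Rg : Subgroup G := (R : Subgroup O).map O.subtype with hRg
    have hRgO : Rg ≤ O := Subgroup.map_subtype_le _
    have hRgc : Nat.card Rg = r ^ (Nat.card O).factorization r := (sylow_card_facts O r R).1
    have hRgN : ¬ Rg ≤ Subgroup.normalizer (H : Set G) := hRN Rg hRgO hRgc
    have hRgp : IsPGroup r Rg := R.2.map _
    set K : Subgroup G := Subgroup.normalizer (Rg : Set G) with hK
    have hPK : P ≤ K := hR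
    have hRK : Rg ≤ K := Subgroup.le_normalizer
    have hTI' := isTISubset_subgroupOf hTI K
    haveI hOn' : (Rg.subgroupOf K).Normal := Subgroup.normal_in_normalizer
    have hc1 : Nat.card (Rg.subgroupOf K) = Nat.card Rg := Helper4.card_subgroupOf_of_le hRK
    have hc2 : Nat.card (H.subgroupOf K) = Nat.card (H ⊓ K : Subgroup G) := by
      rw [← Subgroup.inf_subgroupOf_right]
      exact Helper4.card_subgroupOf_of_le inf_le_right
    have hOc' : (Nat.card (Rg.subgroupOf K)).Coprime (Nat.card (H.subgroupOf K)) := by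
      rw [hc1, hc2]
      exact Nat.Coprime.coprime_dvd_left (Subgroup.card_dvd_of_le hRgO)
        (Nat.Coprime.coprime_dvd_right (Subgroup.card_dvd_of_le inf_le_left) hOc)
    have hOs' : Group.IsSolvable (Rg.subgroupOf K) := by
      have h1 : IsPGroup r (Rg.subgroupOf K) :=
        hRgp.of_equiv (Subgroup.subgroupOfEquivOfLe hRK).symm
      haveI := h1.isNilpotent
      infer_instance
    have hON' : ¬ Rg.subgroupOf K ≤ Subgroup.normalizer ((H.subgroupOf K : Subgroup K) : Set K) := by
      intro hle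
      apply hRgN
      intro y hy
      apply mem_normalizer_of_comm hTI (hPH hx) hx1
      have hy' : (⟨y, hRK hy⟩ : K) ∈ Rg.subgroupOf K := Subgroup.mem_subgroupOf.mpr hy
      have h1 := (Subgroup.mem_normalizer_iff.mp (hle hy') ⟨x, hPK hx⟩).mp
        (Subgroup.mem_subgroupOf.mpr (hPH hx))
      have h2 : y * x * y⁻¹ ∈ H := Subgroup.mem_subgroupOf.mp h1
      have h3 : y * x * y⁻¹ * x⁻¹ ∈ O ⊓ H := by
        refine Subgroup.mem_inf.mpr ⟨?_, H.mul_mem h2 (H.inv_mem (hPH hx))⟩
        have h4 : x * y⁻¹ * x⁻¹ ∈ O := hOn.conj_mem y⁻¹ (O.inv_mem (hRgO hy)) x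
        have e : y * x * y⁻¹ * x⁻¹ = y * (x * y⁻¹ * x⁻¹) := by group
        rw [e]
        exact O.mul_mem (hRgO hy) h4
      have h5 : O ⊓ H = ⊥ := Subgroup.inf_eq_bot_of_coprime hOc
      rw [h5, Subgroup.mem_bot] at h3
      calc y * x = (y * x * y⁻¹ * x⁻¹) * (x * y) := by group
        _ = x * y := by rw [h3, one_mul]
    obtain ⟨U, hUg, hUf, hUn, ψ', hfpf'⟩ := exists_fpf_section hTI' hOn' hOc' hOs' hON'
    let ι : ↥P →* ↥(H.subgroupOf K) :=
      { toFun := fun z => ⟨⟨(z : G), hPK z.2⟩, Subgroup.mem_subgroupOf.mpr (hPH z.2)⟩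
        map_one' := rfl
        map_mul' := fun _ _ => rfl }
    refine ⟨U, hUg, hUf, hUn, ψ'.comp ι, ?_⟩
    intro h hh u hu
    apply hfpf' (ι h) _ u hu
    intro h1
    apply hh
    apply Subtype.ext
    have h2 := congrArg (fun z : ↥(H.subgroupOf K) => ((z : K) : G)) h1
    exact h2

/-- `p`-subgroups of `H` are cyclic if `p` is odd or they are abelian -/
theorem isCyclic_of_pgroup [Finite G] {H O : Subgroup G} (hTI : Cfsg.IsTISubset (H : Set G))
    (hOn : O.Normal) (hOc : (Nat.card O).Coprime (Nat.card H))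
    (hON : ¬ O ≤ Subgroup.normalizer (H : Set G)) {p : ℕ} [hp : Fact p.Prime] (P : Subgroup G)
    (hPH : P ≤ H) (hP : IsPGroup p P) (h2 : p ≠ 2 ∨ ∀ a b : P, a * b = b * a) : IsCyclic P := by
  obtain ⟨U, hUg, hUf, hUn, ψ, hfpf⟩ := exists_fpf_of_pgroup hTI hOn hOc hON P hPH hP
  have htop : IsCyclic (⊤ : Subgroup P) := by
    rcases h2 with h2 | h2
    · have hP' : IsPGroup p (⊤ : Subgroup P) := hP.of_equiv Subgroup.topEquiv.symm
      rcases cyclic_or_quaternion_of_fpf ψ hfpf (⊤ : Subgroup P) hP' with h | ⟨h, -⟩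
      · exact h
      · exact absurd h h2
    · exact isCyclic_of_comm_of_fpf ψ hfpf ⊤ (fun a _ b _ => h2 a b)
  exact isCyclic_of_surjective (Subgroup.topEquiv (G := P)) Subgroup.topEquiv.surjective

/-- `H` is a Z-group when its Sylow `2`-subgroups are abelian -/
theorem isZGroup_of_TI [Finite G] {H O : Subgroup G} (hTI : Cfsg.IsTISubset (H : Set G))
    (hOn : O.Normal) (hOc : (Nat.card O).Coprime (Nat.card H))
    (hON : ¬ O ≤ Subgroup.normalizer (H : Set G))
    (h2 : ∀ P : Sylow 2 H, IsMulCommutative (P : Subgroup H)) : IsZGroup H := by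
  refine ⟨fun p hp P => ?_⟩
  haveI : Fact p.Prime := ⟨hp⟩
  set Pg : Subgroup G := (P : Subgroup H).map H.subtype with hPg
  have hPgH : Pg ≤ H := Subgroup.map_subtype_le _
  have hPgp : IsPGroup p Pg := P.2.map _
  have hcyc : IsCyclic Pg := by
    apply isCyclic_of_pgroup hTI hOn hOc hON Pg hPgH hPgp
    by_cases hp2 : p = 2
    · right
      subst hp2
      rintro ⟨_, a, ha, rfl⟩ ⟨_, b, hb, rfl⟩
      apply Subtype.ext
      have h3 := (h2 P).is_comm.comm ⟨a, ha⟩ ⟨b, hb⟩
      have h4 := congrArg (fun z : ↥(P : Subgroup H) => ((z : H) : G)) h3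
      exact h4
    · exact Or.inl hp2
  let e : ↥(P : Subgroup H) ≃* Pg := (P : Subgroup H).equivMapOfInjective H.subtype H.subtype_injective
  exact isCyclic_of_surjective e.symm e.symm.surjective

end Cfsg.Agent.Lib.Helper7.TIH
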