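import Mathlib
import Cfsg.Agent.Lib.Helper7.TIH2
import Cfsg.Agent.Lib.Helper7.TIH8
import Cfsg.Agent.Lib.Helper7.TIH10
import Cfsg.Agent.Lib.Lead.CoprimeTools

set_option autoImplicit false

/-!
# π-separable groups with a TI Hall-of-normalizer subgroup `H` with abelian Sylow 2-subgroups:
`C_H(Q)` is a Hall subgroup with a normal complement
-/

namespace Cfsg.Agent.Lib.Helper7.TIH

open Cfsg Cfsg.Agent.Lib.Helper7 Cfsg.Agent.Lib.Helper4 Cfsg.Agent.Lib.Lead
open scoped commutatorElement

universe u

variable {G : Type u} [Group G]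

/-- conjugation preserves a join if it maps each part into the join -/
theorem conj_mem_sup_of {A B C T : Subgroup G} (g : G)
    (hA : ∀ x ∈ A, g * x * g⁻¹ ∈ T) (hB : ∀ x ∈ B, g * x * g⁻¹ ∈ T)
    (hC : ∀ x ∈ C, g * x * g⁻¹ ∈ T) {x : G} (hx : x ∈ A ⊔ (B ⊔ C)) : g * x * g⁻¹ ∈ T := by
  have hle : A ⊔ (B ⊔ C) ≤ T.comap (MulAut.conj g).toMonoidHom := by
    refine sup_le ?_ (sup_le ?_ ?_)
    · intro y hy
      rw [Subgroup.mem_comap]
      exact hA y hy
    · intro y hy
      rw [Subgroup.mem_comap]
      exact hB y hy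
    · intro y hy
      rw [Subgroup.mem_comap]
      exact hC y hy
  exact hle hx

theorem main2 [Finite G] (H : Subgroup G)
    (hTI : Cfsg.IsTISubset (H : Set G)) (hnn : ¬ H.Normal)
    (hHall : (Nat.card H).Coprime (H.subgroupOf (Subgroup.normalizer (H : Set G))).index)
    (hsep : ∃ (n : ℕ) (M : Fin (n + 1) → Subgroup G), M 0 = ⊥ ∧ M (Fin.last n) = ⊤ ∧ Monotone M ∧
      (∀ i, (M i).Normal) ∧
      ∀ i : Fin n, (∀ q : ℕ, q.Prime → q ∣ (M i.castSucc).relIndex (M i.succ) → q ∣ Nat.card H) ∨
        ((M i.castSucc).relIndex (M i.succ)).Coprime (Nat.card H))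
    (h2 : ∀ P : Sylow 2 H, IsMulCommutative (P : Subgroup H))
    (Q : Subgroup G) (hQ : Q ≤ Subgroup.normalizer (H : Set G)) (hQH : Q ⊓ H = ⊥)
    (hQH' : Q ⊔ H = Subgroup.normalizer (H : Set G)) :
    (Nat.card ↥(H ⊓ Subgroup.centralizer (Q : Set G))).Coprime
      (H ⊓ Subgroup.centralizer (Q : Set G)).index ∧
    ∃ N : Subgroup G, N.Normal ∧ N.IsComplement' (H ⊓ Subgroup.centralizer (Q : Set G)) := by
  classical
  obtain ⟨hOn, hOc⟩ := coreCoprime_props (G := G) (Nat.card H)
  have htop := sup_normalizer_eq_top hTI hnn hHall hsep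
  set O := coreCoprime (Nat.card H) G with hOdef
  haveI := hOn
  have hON : ¬ O ≤ Subgroup.normalizer (H : Set G) := by
    intro hle
    apply hnn
    rw [sup_eq_right.mpr hle] at htop
    exact Subgroup.normalizer_eq_top_iff.mp htop
  haveI hZ : IsZGroup H := isZGroup_of_TI hTI hOn hOc hON h2
  have hHs : Group.IsSolvable H := inferInstance
  have hHidx := coprime_index_of_TI hTI hHall
  -- `|Q|` is the index of `H` in its normalizer
  have hQcard : (H.subgroupOf (Subgroup.normalizer (H : Set G))).index = Nat.card Q := by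
    have h1 : Nat.card (Q ⊔ H : Subgroup G) = Nat.card Q * Nat.card H :=
      card_sup_of_disjoint Q H hQ hQH
    have h3 := Subgroup.card_mul_index (H.subgroupOf (Subgroup.normalizer (H : Set G)))
    rw [Helper4.card_subgroupOf_of_le Subgroup.le_normalizer, ← hQH', h1] at h3
    have h4 : Nat.card H * (H.subgroupOf (Q ⊔ H)).index = Nat.card H * Nat.card Q := by
      rw [h3, mul_comm]
    rw [← hQH']
    exact Nat.eq_of_mul_eq_mul_left Nat.card_pos h4
  have hcop : (Nat.card Q).Coprime (Nat.card H) := by
    rw [← hQcard]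
    exact hHall.symm
  set C : Subgroup G := H ⊓ Subgroup.centralizer (Q : Set G) with hC
  have hCH : C ≤ H := inf_le_left
  refine ⟨?_, ?_⟩
  · apply Nat.coprime_of_dvd
    intro p hp hpC hpidx
    haveI : Fact p.Prime := ⟨hp⟩
    obtain ⟨P, hPc⟩ := exists_sylow_le_centralizer Q H hQ hcop hpC
    set Pg : Subgroup G := (P : Subgroup H).map H.subtype with hPg
    have hPgC : Pg ≤ C := le_inf (Subgroup.map_subtype_le _) hPc
    have h1 : C.index ∣ Pg.index := Subgroup.index_dvd_of_le hPgC
    have h3 : p ∣ (P : Subgroup H).index * H.index := by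
      rw [← Subgroup.index_map_subtype]
      exact hpidx.trans h1
    rcases (Nat.Prime.dvd_mul hp).mp h3 with h | h
    · exact P.not_dvd_index h
    · have hpH : p ∣ Nat.card H := hpC.trans (Subgroup.card_dvd_of_le hCH)
      exact hp.one_lt.ne' (Nat.eq_one_of_dvd_coprimes hHidx hpH h)
  · set L : Subgroup G := ⁅H, Q⁆ with hL
    have hLH : L ≤ H := commutator_le_left_of_le_normalizer H Q hQ
    have hQL : Q ≤ Subgroup.normalizer (L : Set G) := le_normalizer_commutator_right H Q hQ
    have hHL : H ≤ Subgroup.normalizer (L : Set G) := le_normalizer_commutator_left H Q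
    have hconjL : ∀ g ∈ Subgroup.normalizer (L : Set G), ∀ x ∈ L, g * x * g⁻¹ ∈ L :=
      fun g hg x hx => (Subgroup.mem_normalizer_iff.mp hg x).mp hx
    set M : Subgroup G := O ⊔ (L ⊔ Q) with hM
    have hOM : O ≤ M := le_sup_left
    have hLM : L ≤ M := le_sup_left.trans le_sup_right
    have hQM : Q ≤ M := le_sup_right.trans le_sup_right
    have hMn : M.Normal := by
      have hQn : Q ≤ Subgroup.normalizer (M : Set G) := by
        intro g hg
        apply Subgroup.mem_normalizer_fintype
        intro x hx
        apply conj_mem_sup_of g _ _ _ hx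
        · intro y hy
          exact hOM (hOn.conj_mem y hy g)
        · intro y hy
          exact hLM (hconjL g (hQL hg) y hy)
        · intro y hy
          exact hQM (Q.mul_mem (Q.mul_mem hg hy) (Q.inv_mem hg))
      have hHn : H ≤ Subgroup.normalizer (M : Set G) := by
        intro g hg
        apply Subgroup.mem_normalizer_fintype
        intro x hx
        apply conj_mem_sup_of g _ _ _ hx
        · intro y hy
          exact hOM (hOn.conj_mem y hy g)
        · intro y hy
          exact hLM (hconjL g (hHL hg) y hy)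
        · intro y hy
          have h1 : ⁅g, y⁆ ∈ L := Subgroup.commutator_mem_commutator hg hy
          have e : g * y * g⁻¹ = ⁅g, y⁆ * y := by
            rw [commutatorElement_def]
            group
          rw [e]
          exact M.mul_mem (hLM h1) (hQM hy)
      have hNn : Subgroup.normalizer (H : Set G) ≤ Subgroup.normalizer (M : Set G) := by
        rw [← hQH']
        exact sup_le hQn hHn
      apply normal_of_sup_eq_top htop
      · intro h hh b hb
        exact M.mul_mem (M.mul_mem (hOM hh) hb) (M.inv_mem (hOM hh))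
      · intro k hk b hb
        exact (Subgroup.mem_normalizer_iff.mp (hNn hk) b).mp hb
    haveI := hMn
    have hMC : M ⊔ C = ⊤ := by
      rw [eq_top_iff, ← htop, ← hQH']
      have hdec : L ⊔ C = H := coprime_commutator_sup_centralizer Q H hQ hcop (Or.inr hHs)
      refine sup_le (hOM.trans le_sup_left) (sup_le (hQM.trans le_sup_left) ?_)
      rw [← hdec]
      exact sup_le (hLM.trans le_sup_left) le_sup_right
    have hMcop : (Nat.card M).Coprime (Nat.card C) := by
      have h1 : Nat.card M ∣ Nat.card (L ⊔ Q : Subgroup G) * Nat.card O := by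
        rw [hM, sup_comm]
        exact card_sup_dvd (L ⊔ Q) O
      have h3 : Nat.card (L ⊔ Q : Subgroup G) = Nat.card Q * Nat.card L := by
        rw [sup_comm]
        apply card_sup_of_disjoint Q L hQL
        rw [eq_bot_iff, ← hQH]
        exact inf_le_inf_left Q hLH
      rw [h3] at h1
      apply Nat.Coprime.coprime_dvd_left h1
      have hCdvd : Nat.card C ∣ Nat.card H := Subgroup.card_dvd_of_le hCH
      apply Nat.Coprime.mul_left
      · apply Nat.Coprime.mul_left
        · exact Nat.Coprime.coprime_dvd_right hCdvd hcop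
        · exact coprime_card_commutator_card_centralizer Q H hQ hcop
      · exact Nat.Coprime.coprime_dvd_right hCdvd hOc
    refine ⟨M, hMn, ?_⟩
    apply Subgroup.isComplement'_of_disjoint_and_mul_eq_univ
    · exact Subgroup.disjoint_of_coprime_natCard hMcop
    · rw [← Subgroup.normal_mul, hMC, Subgroup.coe_top]

end Cfsg.Agent.Lib.Helper7.TIH
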