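import Mathlib
import Cfsg.Agent.Lib.Helper2.Zfc3
import Cfsg.Agent.Lib.Helper2.Zfp54

set_option autoImplicit false

/-!
# Commutators of coprime automorphisms act trivially on cyclic and quaternion layers
-/

namespace Cfsg.Agent.Lib.Helper7.TIH

variable {G : Type*} [Group G]

/-- the conjugation action of a subgroup normalizing `P` -/
def conjAct (P Q : Subgroup G) (hQ : Q ≤ Subgroup.normalizer (P : Set G)) : Q →* MulAut P where
  toFun q :=
    { toFun := fun x => ⟨(q : G) * x * (q : G)⁻¹, (Subgroup.mem_normalizer_iff.mp (hQ q.2) x).mp x.2⟩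
      invFun := fun x => ⟨(q : G)⁻¹ * x * (q : G), by
        have h := (Subgroup.mem_normalizer_iff.mp (Subgroup.inv_mem _ (hQ q.2)) x).mp x.2
        rwa [inv_inv] at h⟩
      left_inv := fun x => by
        apply Subtype.ext
        show (q : G)⁻¹ * ((q : G) * x * (q : G)⁻¹) * (q : G) = x
        group
      right_inv := fun x => by
        apply Subtype.ext
        show (q : G) * ((q : G)⁻¹ * x * (q : G)) * (q : G)⁻¹ = x
        group
      map_mul' := fun x y => by
        apply Subtype.ext
        show (q : G) * (x * y) * (q : G)⁻¹ = ((q : G) * x * (q : G)⁻¹) * ((q : G) * y * (q : G)⁻¹)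
        group }
  map_one' := by
    ext x
    show (1 : G) * x * (1 : G)⁻¹ = x
    group
  map_mul' := fun a b => by
    ext x
    show ((a : G) * (b : G)) * x * ((a : G) * (b : G))⁻¹ =
      (a : G) * ((b : G) * x * (b : G)⁻¹) * (a : G)⁻¹
    group

theorem conjAct_apply (P Q : Subgroup G) (hQ : Q ≤ Subgroup.normalizer (P : Set G)) (q : Q)
    (x : P) : ((conjAct P Q hQ q x : P) : G) = (q : G) * x * (q : G)⁻¹ := rfl

/-- `conjAct` is trivial at `q` iff `q` centralizes `P` -/
theorem conjAct_eq_one_iff (P Q : Subgroup G) (hQ : Q ≤ Subgroup.normalizer (P : Set G)) (q : Q) :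
    conjAct P Q hQ q = 1 ↔ (q : G) ∈ Subgroup.centralizer (P : Set G) := by
  rw [Subgroup.mem_centralizer_iff]
  constructor
  · intro h x hx
    have h1 := congrArg (fun σ : MulAut P => ((σ ⟨x, hx⟩ : P) : G)) h
    simp only [conjAct_apply, MulAut.one_apply] at h1
    calc x * (q : G) = ((q : G) * x * (q : G)⁻¹) * (q : G) := by rw [h1]
      _ = (q : G) * x := by group
  · intro h
    ext x
    rw [conjAct_apply, MulAut.one_apply]
    have h1 := h x x.2
    calc (q : G) * x * (q : G)⁻¹ = ((x : G) * (q : G)) * (q : G)⁻¹ := by rw [h1]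
      _ = x := by group

/-- automorphisms of a cyclic group commute -/
theorem mulAut_comm_of_isCyclic {P : Type*} [Group P] [IsCyclic P] (σ τ : MulAut P) :
    σ * τ = τ * σ := by
  apply (IsCyclic.mulAutMulEquiv P).injective
  rw [map_mul, map_mul, mul_comm]

/-- if the image of `Q` in `Aut P` is abelian, commutators of `Q` centralize `P` -/
theorem commutator_mem_centralizer_of_comm (P Q : Subgroup G)
    (hQ : Q ≤ Subgroup.normalizer (P : Set G)) {a b : G} (ha : a ∈ Q) (hb : b ∈ Q)
    (hcomm : conjAct P Q hQ ⟨a, ha⟩ * conjAct P Q hQ ⟨b, hb⟩ =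
      conjAct P Q hQ ⟨b, hb⟩ * conjAct P Q hQ ⟨a, ha⟩) :
    a * b * a⁻¹ * b⁻¹ ∈ Subgroup.centralizer (P : Set G) := by
  have hmem : a * b * a⁻¹ * b⁻¹ ∈ Q :=
    Q.mul_mem (Q.mul_mem (Q.mul_mem ha hb) (Q.inv_mem ha)) (Q.inv_mem hb)
  have h1 : conjAct P Q hQ ⟨a * b * a⁻¹ * b⁻¹, hmem⟩ = 1 := by
    have e : (⟨a * b * a⁻¹ * b⁻¹, hmem⟩ : Q) = ⟨a, ha⟩ * ⟨b, hb⟩ * ⟨a, ha⟩⁻¹ * ⟨b, hb⟩⁻¹ := rfl
    rw [e, map_mul, map_mul, map_mul, map_inv, map_inv, hcomm]
    group
  exact (conjAct_eq_one_iff P Q hQ _).mp h1

theorem commutator_mem_centralizer_of_isCyclic (P Q : Subgroup G) [IsCyclic P]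
    (hQ : Q ≤ Subgroup.normalizer (P : Set G)) {a b : G} (ha : a ∈ Q) (hb : b ∈ Q) :
    a * b * a⁻¹ * b⁻¹ ∈ Subgroup.centralizer (P : Set G) :=
  commutator_mem_centralizer_of_comm P Q hQ ha hb (mulAut_comm_of_isCyclic _ _)

/-- commutators of a group of odd order normalizing a generalized quaternion group centralize it -/
theorem commutator_mem_centralizer_of_quaternion [Finite G] (P Q : Subgroup G) (n : ℕ)
    (e : P ≃* QuaternionGroup (2 ^ n)) (hQ : Q ≤ Subgroup.normalizer (P : Set G))
    (hodd : Odd (Nat.card Q)) {a b : G} (ha : a ∈ Q) (hb : b ∈ Q) :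
    a * b * a⁻¹ * b⁻¹ ∈ Subgroup.centralizer (P : Set G) := by
  classical
  rcases Nat.lt_or_ge n 2 with hn | hn
  · interval_cases n
    · -- cyclic of order 4
      haveI : IsCyclic P := by
        haveI := QuaternionGroup.quaternionGroup_one_isCyclic
        exact isCyclic_of_surjective e.symm e.symm.surjective
      exact commutator_mem_centralizer_of_isCyclic P Q hQ ha hb
    · -- quaternion of order 8
      apply commutator_mem_centralizer_of_comm P Q hQ ha hb
      set κ := conjAct P Q hQ with hκ
      have h1 : Nat.card κ.range ∣ Nat.card Q := Subgroup.card_range_dvd κ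
      have h2 : Nat.card κ.range ∣ 24 := by
        have h3 : Nat.card (MulAut P) = 24 := by
          rw [Nat.card_congr (MulAut.congr e).toEquiv]
          exact Cfsg.Agent.Lib.Helper2.Zfp.card_mulAut_q8
        haveI : Finite (MulAut P) := Nat.finite_of_card_ne_zero (by rw [h3]; norm_num)
        rw [← h3]
        exact Subgroup.card_subgroup_dvd_card _
      have h3 : Odd (Nat.card κ.range) := by
        obtain ⟨c, hc⟩ := h1
        rw [hc] at hodd
        exact (Nat.odd_mul.mp hodd).1
      have h4 : Nat.card κ.range = 1 ∨ Nat.card κ.range = 3 := by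
        have h5 : Nat.card κ.range ∈ Nat.divisors 24 := by
          rw [Nat.mem_divisors]
          exact ⟨h2, by norm_num⟩
        have h6 : Nat.divisors 24 = {1, 2, 3, 4, 6, 8, 12, 24} := by decide
        rw [h6] at h5
        simp only [Finset.mem_insert, Finset.mem_singleton] at h5
        rcases h5 with h | h | h | h | h | h | h | h
        · exact Or.inl h
        · rw [h] at h3; exact absurd h3 (by decide)
        · exact Or.inr h
        · rw [h] at h3; exact absurd h3 (by decide)
        · rw [h] at h3; exact absurd h3 (by decide)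
        · rw [h] at h3; exact absurd h3 (by decide)
        · rw [h] at h3; exact absurd h3 (by decide)
        · rw [h] at h3; exact absurd h3 (by decide)
      have hcyc : IsCyclic κ.range := by
        rcases h4 with h | h
        · haveI : Subsingleton κ.range := (Nat.card_eq_one_iff_unique.mp h).1
          exact isCyclic_of_subsingleton
        · haveI : Fact (Nat.Prime 3) := ⟨Nat.prime_three⟩
          exact isCyclic_of_prime_card h
      have h7 := (IsCyclic.commGroup (α := κ.range)).mul_comm
        ⟨κ ⟨a, ha⟩, ⟨_, rfl⟩⟩ ⟨κ ⟨b, hb⟩, ⟨_, rfl⟩⟩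
      exact congrArg Subtype.val h7
  · -- order at least 16: odd automorphisms are trivial
    have key : ∀ q : Q, (q : G) ∈ Subgroup.centralizer (P : Set G) := by
      intro q
      rw [← conjAct_eq_one_iff P Q hQ q]
      set β := MulAut.congr e (conjAct P Q hQ q) with hβ
      have hm : Odd (orderOf q) := by
        obtain ⟨c, hc⟩ := orderOf_dvd_natCard q
        rw [hc] at hodd
        exact (Nat.odd_mul.mp hodd).1
      have hβm : β ^ orderOf q = 1 := by
        rw [hβ, ← map_pow, ← map_pow, pow_orderOf_eq_one, map_one, map_one]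
      have h1 := Cfsg.Agent.Lib.Helper2.Zfp.aut_quaternion hn β hm hβm
      rw [hβ] at h1
      exact (MulEquiv.map_eq_one_iff _).mp h1
    have h1 := key ⟨a, ha⟩
    have h2 := key ⟨b, hb⟩
    exact Subgroup.mul_mem _ (Subgroup.mul_mem _ (Subgroup.mul_mem _ h1 h2)
      (Subgroup.inv_mem _ h1)) (Subgroup.inv_mem _ h2)

end Cfsg.Agent.Lib.Helper7.TIH
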