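import Mathlib
import Cfsg.Agent.Lib.Helper7.TIH4
import Cfsg.Agent.Lib.Helper7.TIH5
import Cfsg.Agent.Lib.Helper4.BG8f

set_option autoImplicit false

/-!
# Coprime automorphisms of a solvable group of fixed-point-free automorphisms commute
-/

namespace Cfsg.Agent.Lib.Helper7.TIH

open Cfsg Cfsg.Agent.Lib.Helper4.BG8 Cfsg.Agent.Lib.Lead

universe u v

variable {G : Type u} [Group G]

/-- a coprime element normalizing the solvable group `H` and centralizing `F(H)` centralizes `H` -/
theorem mem_centralizer_of_centralizes_fitting [Finite G] {H : Subgroup G}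
    (hHs : Group.IsSolvable H) {q : G} (hq : q ∈ Subgroup.normalizer (H : Set G))
    (hcop : (orderOf q).Coprime (Nat.card H))
    (hqF : q ∈ Subgroup.centralizer (fittingOf H : Set G)) :
    q ∈ Subgroup.centralizer (H : Set G) := by
  rw [Subgroup.mem_centralizer_iff]
  intro x hx
  set F := fittingOf H with hF
  have hqF' : ∀ f ∈ F, f * q = q * f := Subgroup.mem_centralizer_iff.mp hqF
  set c := q * x * q⁻¹ * x⁻¹ with hc
  have hcH : c ∈ H :=
    H.mul_mem ((Subgroup.mem_normalizer_iff.mp hq x).mp hx) (H.inv_mem hx)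
  have hcC : c ∈ Subgroup.centralizer (F : Set G) := by
    rw [Subgroup.mem_centralizer_iff]
    intro f hf
    have hf' : x⁻¹ * f * x ∈ F := by
      have h1 := (Subgroup.mem_normalizer_iff.mp (le_normalizer_fittingOf H (H.inv_mem hx)) f).mp hf
      rwa [inv_inv] at h1
    have h1 := hqF' f hf
    have h2 := hqF' _ hf'
    have h3 : q⁻¹ * (x⁻¹ * f * x) = (x⁻¹ * f * x) * q⁻¹ := by
      calc q⁻¹ * (x⁻¹ * f * x) = q⁻¹ * ((x⁻¹ * f * x) * q) * q⁻¹ := by group
        _ = q⁻¹ * (q * (x⁻¹ * f * x)) * q⁻¹ := by rw [h2]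
        _ = (x⁻¹ * f * x) * q⁻¹ := by group
    calc f * c = (f * q) * x * q⁻¹ * x⁻¹ := by rw [hc]; group
      _ = q * f * x * q⁻¹ * x⁻¹ := by rw [h1]
      _ = q * x * ((x⁻¹ * f * x) * q⁻¹) * x⁻¹ := by group
      _ = q * x * (q⁻¹ * (x⁻¹ * f * x)) * x⁻¹ := by rw [h3]
      _ = c * f := by rw [hc]; group
  have hcF : c ∈ F := centralizer_fittingOf_le hHs (Subgroup.mem_inf.mpr ⟨hcH, hcC⟩)
  have hqc : c * q = q * c := hqF' c hcF
  have hx1 : q * x * q⁻¹ = c * x := by rw [hc]; group
  have hpow : ∀ k : ℕ, q ^ k * x * (q ^ k)⁻¹ = c ^ k * x := by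
    intro k
    induction k with
    | zero => simp
    | succ k ih =>
      have hqck : q * c ^ k = c ^ k * q :=
        ((Commute.pow_right (show Commute q c from hqc.symm) k)).eq
      calc q ^ (k + 1) * x * (q ^ (k + 1))⁻¹ = q * (q ^ k * x * (q ^ k)⁻¹) * q⁻¹ := by
            rw [pow_succ']
            group
        _ = q * (c ^ k * x) * q⁻¹ := by rw [ih]
        _ = (q * c ^ k) * x * q⁻¹ := by group
        _ = c ^ k * (q * x * q⁻¹) := by rw [hqck]; group
        _ = c ^ (k + 1) * x := by rw [hx1, pow_succ]; group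
  have h2 := hpow (orderOf q)
  rw [pow_orderOf_eq_one, one_mul, inv_one, mul_one] at h2
  have h3 : c ^ orderOf q = 1 := by
    have : 1 * x = c ^ orderOf q * x := by rw [one_mul]; exact h2
    exact (mul_right_cancel this).symm
  have h4 : orderOf c ∣ orderOf q := orderOf_dvd_of_pow_eq_one h3
  have h5 : orderOf c ∣ Nat.card H := Subgroup.orderOf_dvd_natCard H hcH
  have h6 : orderOf c = 1 := Nat.eq_one_of_dvd_coprimes hcop h4 h5
  have h7 : c = 1 := orderOf_eq_one_iff.mp h6
  rw [h7, one_mul] at hx1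
  calc x * q = (q * x * q⁻¹) * q := by rw [hx1]
    _ = q * x := by group

/-- commutators of a coprime group `Q` normalizing a solvable group `H` of fixed-point-free
automorphisms centralize `H` -/
theorem commutator_mem_centralizer [Finite G] {H Q : Subgroup G} {U : Type v} [Group U]
    [Finite U] [Nontrivial U] (ψ : H →* MulAut U)
    (hfpf : ∀ g : H, g ≠ 1 → ∀ k : U, ψ g k = k → k = 1) (hHs : Group.IsSolvable H)
    (hQ : Q ≤ Subgroup.normalizer (H : Set G)) (hcop : (Nat.card Q).Coprime (Nat.card H))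
    {a b : G} (ha : a ∈ Q) (hb : b ∈ Q) :
    a * b * a⁻¹ * b⁻¹ ∈ Subgroup.centralizer (H : Set G) := by
  classical
  have hz : a * b * a⁻¹ * b⁻¹ ∈ Q :=
    Q.mul_mem (Q.mul_mem (Q.mul_mem ha hb) (Q.inv_mem ha)) (Q.inv_mem hb)
  apply mem_centralizer_of_centralizes_fitting hHs (hQ hz)
  · exact Nat.Coprime.coprime_dvd_left (Subgroup.orderOf_dvd_natCard Q hz) hcop
  · rw [← Subgroup.zpowers_le, Subgroup.le_centralizer_iff, fittingOf_eq_iSup]
    apply iSup_le
    intro p
    haveI : Fact (p : ℕ).Prime := ⟨p.2⟩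
    rw [← Subgroup.le_centralizer_iff, Subgroup.zpowers_le]
    have hQP : Q ≤ Subgroup.normalizer (opOf (p : ℕ) H : Set G) :=
      hQ.trans (normalizer_le_normalizer_opOf (p : ℕ) H)
    have hRp : IsPGroup (p : ℕ) (Cfsg.pCore (p : ℕ) H) := pCore_isPGroup (p : ℕ)
    let e₀ : Cfsg.pCore (p : ℕ) H ≃* opOf (p : ℕ) H :=
      (Cfsg.pCore (p : ℕ) H).equivMapOfInjective H.subtype H.subtype_injective
    rcases cyclic_or_quaternion_of_fpf ψ hfpf (Cfsg.pCore (p : ℕ) H) hRp with h | ⟨hp2, n, ⟨e⟩⟩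
    · haveI : IsCyclic (opOf (p : ℕ) H) := isCyclic_of_surjective e₀ e₀.surjective
      exact commutator_mem_centralizer_of_isCyclic _ Q hQP ha hb
    · have hodd : Odd (Nat.card Q) := by
        have h1 : 2 ∣ Nat.card (Cfsg.pCore (p : ℕ) H) := by
          rw [Nat.card_congr e.toEquiv, Nat.card_eq_fintype_card]
          haveI : NeZero (2 ^ n) := ⟨by positivity⟩
          rw [QuaternionGroup.card]
          exact Dvd.dvd.mul_right (by norm_num) _
        have h2 : 2 ∣ Nat.card H := h1.trans (Subgroup.card_subgroup_dvd_card _)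
        rw [← Nat.not_even_iff_odd]
        intro hev
        have h3 : 2 ∣ Nat.card Q := even_iff_two_dvd.mp hev
        exact absurd (Nat.eq_one_of_dvd_coprimes hcop h3 h2) (by norm_num)
      exact commutator_mem_centralizer_of_quaternion _ Q n (e₀.symm.trans e) hQP hodd ha hb

end Cfsg.Agent.Lib.Helper7.TIH
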