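import Mathlib
import Cfsg.Agent.Lib.Helper7.TIH3
import Cfsg.Agent.Lib.Helper7.TIH6
import Cfsg.Agent.Lib.Helper3.Sig1

set_option autoImplicit false

/-!
# π-separable groups with a TI subgroup which is a Hall subgroup of its normalizer: assembly
-/

namespace Cfsg.Agent.Lib.Helper7.TIH

open Cfsg Cfsg.Agent.Lib.Helper7 Cfsg.Agent.Lib.Helper4

universe u

variable {G : Type u} [Group G]

/-- `O H` is normal when `G = O N_G(H)` -/
theorem sup_normal_of_sup_normalizer_eq_top [Finite G] {H O : Subgroup G} (hOn : O.Normal)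
    (htop : O ⊔ Subgroup.normalizer (H : Set G) = ⊤) : (O ⊔ H).Normal := by
  apply normal_of_sup_eq_top htop
  · intro h hh b hb
    have hh' : h ∈ O ⊔ H := (le_sup_left : O ≤ O ⊔ H) hh
    exact (O ⊔ H).mul_mem ((O ⊔ H).mul_mem hh' hb) ((O ⊔ H).inv_mem hh')
  · intro k hk b hb
    have h1 : O ⊔ H ≤ Subgroup.normalizer ((O ⊔ H : Subgroup G) : Set G) := Subgroup.le_normalizer
    have hkn : k ∈ Subgroup.normalizer ((O ⊔ H : Subgroup G) : Set G) := by
      rw [Subgroup.mem_normalizer_iff]
      have key : ∀ k' ∈ Subgroup.normalizer (H : Set G), ∀ b' ∈ O ⊔ H, k' * b' * k'⁻¹ ∈ O ⊔ H := by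
        intro k' hk' b' hb'
        have hle : O ⊔ H ≤ (O ⊔ H).comap (MulAut.conj k').toMonoidHom := by
          apply sup_le
          · intro x hx
            rw [Subgroup.mem_comap]
            exact (le_sup_left : O ≤ O ⊔ H) (hOn.conj_mem x hx k')
          · intro x hx
            rw [Subgroup.mem_comap]
            exact (le_sup_right : H ≤ O ⊔ H) ((Subgroup.mem_normalizer_iff.mp hk' x).mp hx)
        exact hle hb'
      intro x
      constructor
      · intro hx
        exact key k hk x hx
      · intro hx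
        have h2 := key k⁻¹ (Subgroup.inv_mem _ hk) _ hx
        have h3 : k⁻¹ * (k * x * k⁻¹) * k⁻¹⁻¹ = x := by group
        rwa [h3] at h2
    exact (Subgroup.mem_normalizer_iff.mp hkn b).mp hb

/-- the normalizer of `H` is solvable -/
theorem isSolvable_normalizer [Finite G] {H O : Subgroup G} (hTI : Cfsg.IsTISubset (H : Set G))
    (hHall : (Nat.card H).Coprime (H.subgroupOf (Subgroup.normalizer (H : Set G))).index)
    (hOn : O.Normal) (hOc : (Nat.card O).Coprime (Nat.card H)) (hOs : Group.IsSolvable O)
    (hOmax : ∀ K : Subgroup G, K.Normal → (Nat.card K).Coprime (Nat.card H) → K ≤ O)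
    (htop : O ⊔ Subgroup.normalizer (H : Set G) = ⊤)
    (hON : ¬ O ≤ Subgroup.normalizer (H : Set G))
    (hSL : ∀ K : Subgroup G, K ≤ H →
      ¬ Nonempty (K ≃* Matrix.SpecialLinearGroup (Fin 2) (ZMod 5))) :
    Group.IsSolvable (Subgroup.normalizer (H : Set G)) := by
  classical
  haveI := hOn
  have hHs : Group.IsSolvable H := isSolvable_of_no_SL25 hTI hOn hOc hOs hON hSL
  obtain ⟨U, hUg, hUf, hUn, ψ, hfpf⟩ := exists_fpf_section hTI hOn hOc hOs hON
  set N := Subgroup.normalizer (H : Set G) with hN
  have hHN : H ≤ N := Subgroup.le_normalizer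
  haveI hnorm : (H.subgroupOf N).Normal := Subgroup.normal_in_normalizer
  have hcard : Nat.card (H.subgroupOf N) = Nat.card H := card_subgroupOf_of_le hHN
  obtain ⟨Q₀, hQ₀⟩ := Subgroup.exists_right_complement'_of_coprime (N := H.subgroupOf N)
    (by rw [hcard]; exact hHall)
  set Q : Subgroup G := Q₀.map N.subtype with hQdef
  have hQN : Q ≤ N := Subgroup.map_subtype_le _
  have hQcard : Nat.card Q = (H.subgroupOf N).index := by
    rw [hQ₀.symm.index_eq_card]
    exact (Nat.card_congr (Q₀.equivMapOfInjective N.subtype N.subtype_injective).toEquiv).symm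
  have hQcop : (Nat.card Q).Coprime (Nat.card H) := by
    rw [hQcard]
    exact hHall.symm
  have hsup : H ⊔ Q = N := by
    have h1 := hQ₀.sup_eq_top
    have h2 := congrArg (Subgroup.map N.subtype) h1
    rw [Subgroup.map_sup, Subgroup.subgroupOf_map_subtype, ← MonoidHom.range_eq_map,
      Subgroup.range_subtype, inf_eq_left.mpr hHN] at h2
    exact h2
  -- the centralizer of `H` in `Q`
  set D : Subgroup G := Q ⊓ Subgroup.centralizer (H : Set G) with hD
  have hDQ : D ≤ Q := inf_le_left
  have hDO : D ≤ O := by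
    have hDOn : (D ⊔ O).Normal := by
      have hHn : H ≤ Subgroup.normalizer ((D ⊔ O : Subgroup G) : Set G) := by
        intro h hh
        apply Subgroup.mem_normalizer_fintype
        intro b hb
        have hle : D ⊔ O ≤ (D ⊔ O).comap (MulAut.conj h).toMonoidHom := by
          apply sup_le
          · intro x hx
            rw [Subgroup.mem_comap]
            show h * x * h⁻¹ ∈ D ⊔ O
            have hxC : x ∈ Subgroup.centralizer (H : Set G) := (Subgroup.mem_inf.mp hx).2
            have h2 := Subgroup.mem_centralizer_iff.mp hxC h hh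
            have h3 : h * x * h⁻¹ = x := by
              rw [h2]
              group
            rw [h3]
            exact (le_sup_left : D ≤ D ⊔ O) hx
          · intro x hx
            rw [Subgroup.mem_comap]
            exact (le_sup_right : O ≤ D ⊔ O) (hOn.conj_mem x hx h)
        exact hle hb
      have hQn : Q ≤ Subgroup.normalizer ((D ⊔ O : Subgroup G) : Set G) := by
        intro q hq
        apply Subgroup.mem_normalizer_fintype
        intro b hb
        have hle : D ⊔ O ≤ (D ⊔ O).comap (MulAut.conj q).toMonoidHom := by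
          apply sup_le
          · intro x hx
            rw [Subgroup.mem_comap]
            show q * x * q⁻¹ ∈ D ⊔ O
            have hxQ : x ∈ Q := hDQ hx
            have hxC : x ∈ Subgroup.centralizer (H : Set G) := (Subgroup.mem_inf.mp hx).2
            have hqx : q * x * q⁻¹ ∈ D := by
              refine Subgroup.mem_inf.mpr ⟨Q.mul_mem (Q.mul_mem hq hxQ) (Q.inv_mem hq), ?_⟩
              rw [Subgroup.mem_centralizer_iff]
              intro y hy
              have hqN : q ∈ N := hQN hq
              have hy' : q⁻¹ * y * q ∈ H := by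
                have := (Subgroup.mem_normalizer_iff.mp (Subgroup.inv_mem _ hqN) y).mp hy
                rwa [inv_inv] at this
              have h1 := Subgroup.mem_centralizer_iff.mp hxC _ hy'
              calc y * (q * x * q⁻¹) = q * ((q⁻¹ * y * q) * x) * q⁻¹ := by group
                _ = q * (x * (q⁻¹ * y * q)) * q⁻¹ := by rw [h1]
                _ = q * x * q⁻¹ * y := by group
            exact (le_sup_left : D ≤ D ⊔ O) hqx
          · intro x hx
            rw [Subgroup.mem_comap]
            exact (le_sup_right : O ≤ D ⊔ O) (hOn.conj_mem x hx q)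
        exact hle hb
      have hNn : N ≤ Subgroup.normalizer ((D ⊔ O : Subgroup G) : Set G) := by
        rw [← hsup]
        exact sup_le hHn hQn
      apply normal_of_sup_eq_top htop
      · intro h hh b hb
        have hh' : h ∈ D ⊔ O := (le_sup_right : O ≤ D ⊔ O) hh
        exact (D ⊔ O).mul_mem ((D ⊔ O).mul_mem hh' hb) ((D ⊔ O).inv_mem hh')
      · intro k hk b hb
        exact (Subgroup.mem_normalizer_iff.mp (hNn hk) b).mp hb
    have hDOc : (Nat.card (D ⊔ O : Subgroup G)).Coprime (Nat.card H) := by
      have h1 : Nat.card (D ⊔ O : Subgroup G) ∣ Nat.card D * Nat.card O := card_sup_dvd D O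
      have h2 : (Nat.card D).Coprime (Nat.card H) :=
        Nat.Coprime.coprime_dvd_left (Subgroup.card_dvd_of_le hDQ) hQcop
      exact Nat.Coprime.coprime_dvd_left h1 (Nat.Coprime.mul_left h2 hOc)
    exact le_sup_left.trans (hOmax _ hDOn hDOc)
  have hDs : Group.IsSolvable D :=
    solvable_of_solvable_injective (Subgroup.inclusion_injective hDO)
  -- `Q` is solvable
  have hQs : Group.IsSolvable Q := by
    let κ : Q →* MulAut H := conjAct H Q hQN
    have hcomm : ∀ x y : κ.range, x * y = y * x := by
      rintro ⟨x, a, rfl⟩ ⟨y, b, rfl⟩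
      apply Subtype.ext
      show κ a * κ b = κ b * κ a
      have h1 : κ (a * b * a⁻¹ * b⁻¹) = 1 := by
        rw [conjAct_eq_one_iff]
        exact commutator_mem_centralizer ψ hfpf hHs hQN hQcop a.2 b.2
      have h2 : κ a * κ b = κ (a * b * a⁻¹ * b⁻¹) * (κ b * κ a) := by
        rw [← map_mul, ← map_mul, ← map_mul]
        congr 1
        group
      rw [h2, h1, one_mul]
    haveI : Group.IsSolvable κ.range := isSolvable_of_comm hcomm
    haveI := hDs
    refine solvable_of_ker_le_range (Subgroup.inclusion hDQ) κ.rangeRestrict ?_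
    intro q hq
    rw [MonoidHom.mem_ker] at hq
    have hq1 : κ q = 1 := by
      have := congrArg Subtype.val hq
      simpa using this
    have hq2 : (q : G) ∈ Subgroup.centralizer (H : Set G) := (conjAct_eq_one_iff H Q hQN q).mp hq1
    exact ⟨⟨(q : G), Subgroup.mem_inf.mpr ⟨q.2, hq2⟩⟩, Subtype.ext rfl⟩
  have hHQs : Group.IsSolvable (H ⊔ Q : Subgroup G) :=
    Cfsg.Agent.Lib.Helper3.Sig.isSolvable_sup_of_le_normalizer hHs hQs hQN
  rw [hsup] at hHQs
  exact hHQs

/-- the main theorem -/
theorem main [Finite G] (H : Subgroup G)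
    (hTI : Cfsg.IsTISubset (H : Set G)) (hnn : ¬ H.Normal)
    (hHall : (Nat.card H).Coprime (H.subgroupOf (Subgroup.normalizer (H : Set G))).index)
    (hsep : ∃ (n : ℕ) (M : Fin (n + 1) → Subgroup G), M 0 = ⊥ ∧ M (Fin.last n) = ⊤ ∧ Monotone M ∧
      (∀ i, (M i).Normal) ∧
      ∀ i : Fin n, (∀ q : ℕ, q.Prime → q ∣ (M i.castSucc).relIndex (M i.succ) → q ∣ Nat.card H) ∨
        ((M i.castSucc).relIndex (M i.succ)).Coprime (Nat.card H))
    (O : Subgroup G)
    (hO : O = sSup {K : Subgroup G | K.Normal ∧ (Nat.card K).Coprime (Nat.card H)}) :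
    O ⊔ Subgroup.normalizer (H : Set G) = ⊤ ∧ (O ⊔ H).Normal ∧
    (Group.IsSolvable G ↔ Group.IsSolvable O ∧
      ∀ K : Subgroup G, K ≤ H →
        ¬ Nonempty (K ≃* Matrix.SpecialLinearGroup (Fin 2) (ZMod 5))) := by
  classical
  have hO' : O = coreCoprime (Nat.card H) G := hO
  obtain ⟨hOn, hOc⟩ := coreCoprime_props (G := G) (Nat.card H)
  rw [← hO'] at hOn hOc
  have htop : O ⊔ Subgroup.normalizer (H : Set G) = ⊤ := by
    rw [hO']
    exact sup_normalizer_eq_top hTI hnn hHall hsep
  have hOmax : ∀ K : Subgroup G, K.Normal → (Nat.card K).Coprime (Nat.card H) → K ≤ O := by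
    intro K hK hc
    rw [hO']
    exact le_coreCoprime hK hc
  refine ⟨htop, sup_normal_of_sup_normalizer_eq_top hOn htop, ?_, ?_⟩
  · intro hG
    haveI := hG
    refine ⟨inferInstance, ?_⟩
    rintro K hK ⟨e⟩
    have : Group.IsSolvable K := inferInstance
    exact Cfsg.Agent.Lib.Helper2.Zfp.not_solvable_SL25
      (solvable_of_surjective (f := e.toMonoidHom) e.surjective)
  · rintro ⟨hOs, hSL⟩
    have hON : ¬ O ≤ Subgroup.normalizer (H : Set G) := by
      intro hle
      apply hnn
      rw [sup_eq_right.mpr hle] at htop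
      exact Subgroup.normalizer_eq_top_iff.mp htop
    have hNs := isSolvable_normalizer hTI hHall hOn hOc hOs hOmax htop hON hSL
    have hn : Subgroup.normalizer (H : Set G) ≤ Subgroup.normalizer (O : Set G) := by
      haveI := hOn
      rw [Subgroup.normalizer_eq_top_iff.mpr hOn]
      exact le_top
    have h1 := Cfsg.Agent.Lib.Helper3.Sig.isSolvable_sup_of_le_normalizer hOs hNs hn
    rw [htop] at h1
    haveI := h1
    exact solvable_of_surjective (f := (Subgroup.topEquiv (G := G)).toMonoidHom)
      (Subgroup.topEquiv (G := G)).surjective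

end Cfsg.Agent.Lib.Helper7.TIH
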