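import Mathlib
import Cfsg.Agent.Lib.Helper7.EPPO4
import Cfsg.Agent.Lib.Helper3.PComp1
import Cfsg.Agent.Lib.Lead.OddStable2
import Cfsg.Agent.Lib.Lead.Core

set_option autoImplicit false

/-!
# Groups with TI Sylow `p`-subgroups and trivial `O_p`, `O_{p'}`: generic tools
-/

namespace Cfsg.Agent.Lib.Helper7.TISylow

open scoped Pointwise

universe u

section generic

variable {X : Type u} [Group X]

/-- A minimal normal subgroup `M` is simple as soon as no nontrivial `M`-invariant subgroup `K ≤ M`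
commutes elementwise with a conjugate of itself. -/
theorem isSimpleGroup_of_minimal_normal_of_no_commuting [Finite X]
    (M : Subgroup X) [hMn : M.Normal] (hM : M ≠ ⊥)
    (hmin : ∀ N : Subgroup X, N.Normal → N ≠ ⊥ → N ≤ M → N = M)
    (hno : ∀ K : Subgroup X, K ≤ M → (∀ m ∈ M, ∀ k ∈ K, m * k * m⁻¹ ∈ K) → K ≠ ⊥ →
      ∀ g : X, (∀ a ∈ K, ∀ b ∈ EPPO.cj g K, a * b = b * a) → False) : IsSimpleGroup M := by
  classical
  let T : Set (Subgroup X) :=
    {K | K ≤ M ∧ (∀ m ∈ M, ∀ k ∈ K, m * k * m⁻¹ ∈ K) ∧ K ≠ ⊥}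
  have hMT : M ∈ T :=
    ⟨le_rfl, fun m hm k hk => M.mul_mem (M.mul_mem hm hk) (M.inv_mem hm), hM⟩
  obtain ⟨K, hKT, hKmin⟩ :=
    WellFounded.has_min (measure (fun K : Subgroup X => Nat.card K)).wf T ⟨M, hMT⟩
  have hKmin' : ∀ L ∈ T, L ≤ K → L = K := by
    intro L hL hLK
    apply Subgroup.eq_of_le_of_card_ge hLK
    exact not_lt.mp (hKmin L hL)
  by_cases hKM : K = M
  · haveI : Nontrivial M := (Subgroup.nontrivial_iff_ne_bot M).mpr hM
    refine IsSimpleGroup.mk (fun H hH => ?_)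
    by_contra hcon
    push Not at hcon
    obtain ⟨hHb, hHt⟩ := hcon
    have hmem : H.map M.subtype ∈ T := by
      refine ⟨?_, ?_, ?_⟩
      · rintro x ⟨y, _, rfl⟩
        exact y.2
      · rintro m hm x ⟨y, hy, rfl⟩
        refine ⟨⟨m, hm⟩ * y * ⟨m, hm⟩⁻¹, hH.conj_mem y hy ⟨m, hm⟩, rfl⟩
      · intro h
        apply hHb
        rw [eq_bot_iff]
        intro y hy
        have h1 : M.subtype y ∈ H.map M.subtype := ⟨y, hy, rfl⟩
        rw [h, Subgroup.mem_bot] at h1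
        rw [Subgroup.mem_bot]
        exact Subtype.ext h1
    have h2 : H.map M.subtype ≤ K := by
      rw [hKM]
      exact hmem.1
    have h3 := hKmin' _ hmem h2
    apply hHt
    rw [eq_top_iff]
    intro y _
    have h4 : (y : X) ∈ H.map M.subtype := by
      rw [h3, hKM]
      exact y.2
    obtain ⟨y', hy', hyy⟩ := h4
    have : y' = y := Subtype.ext hyy
    rw [← this]
    exact hy'
  · exfalso
    obtain ⟨hKleM, hKnorm, hKne⟩ := hKT
    have hconjT : ∀ g : X, EPPO.cj g K ∈ T := by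
      intro g
      refine ⟨?_, ?_, ?_⟩
      · intro x hx
        obtain ⟨k, hk, rfl⟩ := EPPO.mem_cj.mp hx
        exact hMn.conj_mem k (hKleM hk) g
      · intro m hm x hx
        obtain ⟨k, hk, rfl⟩ := EPPO.mem_cj.mp hx
        rw [EPPO.mem_cj]
        have h1 : g⁻¹ * m * g ∈ M := hMn.conj_mem' m hm g
        refine ⟨(g⁻¹ * m * g) * k * (g⁻¹ * m * g)⁻¹, hKnorm _ h1 k hk, ?_⟩
        group
      · intro h
        apply hKne
        have h1 := EPPO.card_cj g K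
        rw [h, Subgroup.card_bot] at h1
        exact Subgroup.card_eq_one.mp h1.symm
    by_cases hall : ∀ g : X, EPPO.cj g K = K
    · have hKn : K.Normal := by
        refine ⟨fun k hk g => ?_⟩
        rw [← hall g, EPPO.mem_cj]
        exact ⟨k, hk, rfl⟩
      exact hKM (hmin K hKn hKne hKleM)
    · push Not at hall
      obtain ⟨g, hg⟩ := hall
      have hdisj : K ⊓ EPPO.cj g K = ⊥ := by
        by_contra hne
        have h1 : K ⊓ EPPO.cj g K ∈ T :=
          ⟨inf_le_left.trans hKleM,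
            fun m hm k hk => ⟨hKnorm m hm k hk.1, (hconjT g).2.1 m hm k hk.2⟩, hne⟩
        have h2 := hKmin' _ h1 inf_le_left
        have h3 : K ≤ EPPO.cj g K := by
          intro k hk
          rw [← h2] at hk
          exact hk.2
        have h4 : K = EPPO.cj g K :=
          Subgroup.eq_of_le_of_card_ge h3 (EPPO.card_cj g K).le
        exact hg h4.symm
      have hcomm : ∀ a ∈ K, ∀ b ∈ EPPO.cj g K, a * b = b * a := by
        intro a ha b hb
        have hbM : b ∈ M := (hconjT g).1 hb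
        have haM : a ∈ M := hKleM ha
        have h1 : a * b * a⁻¹ * b⁻¹ ∈ K ⊓ EPPO.cj g K := by
          refine ⟨?_, ?_⟩
          · have h2 : b * a⁻¹ * b⁻¹ ∈ K := hKnorm b hbM _ (K.inv_mem ha)
            have h3 := K.mul_mem ha h2
            have h4 : a * (b * a⁻¹ * b⁻¹) = a * b * a⁻¹ * b⁻¹ := by group
            rw [← h4]
            exact h3
          · have h2 : a * b * a⁻¹ ∈ EPPO.cj g K := (hconjT g).2.1 a haM b hb
            exact (EPPO.cj g K).mul_mem h2 ((EPPO.cj g K).inv_mem hb)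
        rw [hdisj, Subgroup.mem_bot] at h1
        calc a * b = (a * b * a⁻¹ * b⁻¹) * (b * a) := by group
          _ = b * a := by rw [h1, one_mul]
      exact hno K hKleM hKnorm hKne g hcomm

end generic

section TI

variable {H : Type u} [Group H]

/-- elementwise form of the TI property -/
def TI (Q : Subgroup H) : Prop :=
  ∀ g a : H, a ∈ Q → g * a * g⁻¹ ∈ Q → a ≠ 1 → g ∈ Subgroup.normalizer (Q : Set H)

theorem ti_of_inf (Q : Subgroup H)
    (h : ∀ g : H, g ∉ Subgroup.normalizer (Q : Set H) → Q ⊓ (MulAut.conj g • Q) = ⊥) : TI Q := by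
  intro g a ha hga ha1
  by_contra hg
  have hg' : g⁻¹ ∉ Subgroup.normalizer (Q : Set H) := by
    intro h'
    apply hg
    have := Subgroup.inv_mem _ h'
    rwa [inv_inv] at this
  have h1 := h g⁻¹ hg'
  have h2 : a ∈ Q ⊓ (MulAut.conj g⁻¹ • Q) := by
    rw [Subgroup.mem_inf]
    refine ⟨ha, ?_⟩
    rw [Subgroup.mem_pointwise_smul_iff_inv_smul_mem]
    have : (MulAut.conj g⁻¹)⁻¹ • a = g * a * g⁻¹ := by
      rw [← map_inv, inv_inv]
      rfl
    rw [this]
    exact hga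
  rw [h1, Subgroup.mem_bot] at h2
  exact ha1 h2

variable {p : ℕ} [Fact p.Prime]

theorem mem_smul_sylow_iff (P : Sylow p H) (h a : H) :
    a ∈ ((h • P : Sylow p H) : Subgroup H) ↔ h⁻¹ * a * h ∈ (P : Subgroup H) := by
  rw [Sylow.coe_subgroup_smul, Subgroup.mem_pointwise_smul_iff_inv_smul_mem]
  have : (MulAut.conj h)⁻¹ • a = h⁻¹ * a * h := by
    rw [← map_inv]
    show h⁻¹ * a * h⁻¹⁻¹ = _
    rw [inv_inv]
  rw [this]

theorem ti_smul (P : Sylow p H) (hP : TI (P : Subgroup H)) (h : H) :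
    TI ((h • P : Sylow p H) : Subgroup H) := by
  intro g a ha hga ha1
  rw [mem_smul_sylow_iff] at ha hga
  have h1 : (h⁻¹ * g * h) * (h⁻¹ * a * h) * (h⁻¹ * g * h)⁻¹ ∈ (P : Subgroup H) := by
    have : (h⁻¹ * g * h) * (h⁻¹ * a * h) * (h⁻¹ * g * h)⁻¹ = h⁻¹ * (g * a * g⁻¹) * h := by group
    rw [this]; exact hga
  have h2 : h⁻¹ * a * h ≠ 1 := by
    intro h3
    apply ha1
    have : a = h * (h⁻¹ * a * h) * h⁻¹ := by group
    rw [this, h3]; group
  have h3 := hP _ _ ha h1 h2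
  have h4 : (h⁻¹ * g * h) • P = P := Sylow.smul_eq_iff_mem_normalizer.mpr h3
  have h5 : g • (h • P) = h • P := by
    rw [smul_smul]
    have : g * h = h * (h⁻¹ * g * h) := by group
    rw [this, ← smul_smul, h4]
  exact Sylow.smul_eq_iff_mem_normalizer.mp h5

theorem ti_all [Finite H] (P : Sylow p H) (hP : TI (P : Subgroup H)) (P₁ : Sylow p H) :
    TI (P₁ : Subgroup H) := by
  obtain ⟨h, rfl⟩ := MulAction.exists_smul_eq H P P₁
  exact ti_smul P hP h

/-- a `p`-element normalizing a Sylow `p`-subgroup lies in it -/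
theorem mem_sylow_of_mem_normalizer (P₂ : Sylow p H) {x : H}
    (hx : x ∈ Subgroup.normalizer ((P₂ : Subgroup H) : Set H)) {k : ℕ} (hk : x ^ p ^ k = 1) :
    x ∈ (P₂ : Subgroup H) := by
  have hz : IsPGroup p (Subgroup.zpowers x) := by
    rintro ⟨y, hy⟩
    obtain ⟨j, rfl⟩ := Subgroup.mem_zpowers_iff.mp hy
    refine ⟨k, Subtype.ext ?_⟩
    show (x ^ j) ^ p ^ k = 1
    rw [← zpow_natCast, ← zpow_mul, mul_comm, zpow_mul, zpow_natCast, hk, one_zpow]
  have h1 := hz.inf_normalizer_sylow P₂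
  have h2 : x ∈ Subgroup.zpowers x ⊓ Subgroup.normalizer ((P₂ : Subgroup H) : Set H) :=
    ⟨Subgroup.mem_zpowers x, hx⟩
  have h3 : x ∈ Subgroup.zpowers x ⊓ (P₂ : Subgroup H) := by
    rw [← h1]; exact h2
  exact h3.2

end TI

section main

variable {H : Type u} [Group H] [Finite H] {p : ℕ} [Fact p.Prime]

/-- nontrivial subnormal subgroups (of defect two) have order divisible by `p` when `O_{p'} = 1` -/
theorem dvd_card_of_subnormal (hOp' : Cfsg.pPrimeCore p H = ⊥) (N : Subgroup H) [hN : N.Normal]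
    (S : Subgroup H) (hSN : S ≤ N) (hSn : ∀ m ∈ N, ∀ k ∈ S, m * k * m⁻¹ ∈ S) (hS : S ≠ ⊥) :
    p ∣ Nat.card S := by
  by_contra hnd
  have hcop : (Nat.card S).Coprime p :=
    ((Nat.Prime.coprime_iff_not_dvd (Fact.out : p.Prime)).mpr hnd).symm
  have hnorm : (S.subgroupOf N).Normal := by
    refine ⟨fun k hk m => ?_⟩
    rw [Subgroup.mem_subgroupOf] at hk ⊢
    exact hSn m m.2 k hk
  have hsub : S.IsSubnormal := Subgroup.IsSubnormal.step S N hSN hN.isSubnormal hnorm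
  have := Cfsg.Agent.Lib.Helper3.le_pPrimeCore_of_isSubnormal hsub hcop
  rw [hOp', le_bot_iff] at this
  exact hS this

/-- subnormal `p`-subgroups (of defect two) are trivial when `O_p = 1` -/
theorem pgroup_eq_bot_of_subnormal (hOp : Cfsg.pCore p H = ⊥) (N : Subgroup H) [hN : N.Normal]
    (R : Subgroup H) (hRN : R ≤ N) (hRn : ∀ m ∈ N, ∀ k ∈ R, m * k * m⁻¹ ∈ R) (hR : IsPGroup p R) :
    R = ⊥ := by
  have hnorm : (R.subgroupOf N).Normal := by
    refine ⟨fun k hk m => ?_⟩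
    rw [Subgroup.mem_subgroupOf] at hk ⊢
    exact hRn m m.2 k hk
  have hpg : IsPGroup p (R.subgroupOf N) := hR.comap_subtype
  have h1 : R.subgroupOf N ≤ Cfsg.pCore p ↥N := Cfsg.Agent.Lib.Lead.le_pCore hnorm hpg
  have h2 := Cfsg.Agent.Lib.Lead.OddStable.pCore_map_subtype_le_of_normal (p := p) N
  rw [hOp, le_bot_iff] at h2
  rw [eq_bot_iff]
  intro x hx
  have h3 : (⟨x, hRN hx⟩ : ↥N) ∈ Cfsg.pCore p ↥N := h1 (Subgroup.mem_subgroupOf.mpr hx)
  have h4 : x ∈ (Cfsg.pCore p ↥N).map N.subtype := ⟨_, h3, rfl⟩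
  rw [h2] at h4
  exact h4

/-- some Sylow subgroup meets a subgroup of order divisible by `p` -/
theorem exists_sylow_inf_ne_bot (S : Subgroup H) (hdvd : p ∣ Nat.card S) :
    ∃ P₂ : Sylow p H, S ⊓ (P₂ : Subgroup H) ≠ ⊥ := by
  obtain ⟨x, hx⟩ := exists_prime_orderOf_dvd_card' p hdvd
  rw [← Subgroup.orderOf_coe] at hx
  have hz : IsPGroup p (Subgroup.zpowers (x : H)) := by
    apply IsPGroup.of_card (n := 1)
    rw [Nat.card_zpowers, hx, pow_one]
  obtain ⟨P₂, hP₂⟩ := hz.exists_le_sylow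
  refine ⟨P₂, fun h => ?_⟩
  have h1 : (x : H) ∈ S ⊓ (P₂ : Subgroup H) := ⟨x.2, hP₂ (Subgroup.mem_zpowers _)⟩
  rw [h, Subgroup.mem_bot] at h1
  rw [h1, orderOf_one] at hx
  exact (Fact.out : p.Prime).one_lt.ne hx

/-- L3: a nontrivial subnormal subgroup does not normalize a Sylow `p`-subgroup -/
theorem not_le_normalizer (hOp : Cfsg.pCore p H = ⊥) (hOp' : Cfsg.pPrimeCore p H = ⊥)
    (N : Subgroup H) [hN : N.Normal]
    (S : Subgroup H) (hSN : S ≤ N) (hSn : ∀ m ∈ N, ∀ k ∈ S, m * k * m⁻¹ ∈ S) (hS : S ≠ ⊥)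
    (P₂ : Sylow p H) : ¬ S ≤ Subgroup.normalizer ((P₂ : Subgroup H) : Set H) := by
  intro hle
  have hchar : ∀ x : H, x ∈ S ⊓ (P₂ : Subgroup H) ↔ x ∈ S ∧ ∃ k : ℕ, x ^ p ^ k = 1 := by
    intro x
    constructor
    · rintro ⟨hxS, hxP⟩
      refine ⟨hxS, ?_⟩
      obtain ⟨k, hk⟩ := P₂.2 ⟨x, hxP⟩
      exact ⟨k, congrArg Subtype.val hk⟩
    · rintro ⟨hxS, k, hk⟩
      exact ⟨hxS, mem_sylow_of_mem_normalizer P₂ (hle hxS) hk⟩
  have hRn : ∀ m ∈ N, ∀ x ∈ S ⊓ (P₂ : Subgroup H), m * x * m⁻¹ ∈ S ⊓ (P₂ : Subgroup H) := by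
    intro m hm x hx
    rw [hchar] at hx ⊢
    obtain ⟨hxS, k, hk⟩ := hx
    refine ⟨hSn m hm x hxS, k, ?_⟩
    rw [conj_pow, hk, mul_one, mul_inv_cancel]
  have hRp : IsPGroup p (S ⊓ (P₂ : Subgroup H) : Subgroup H) := P₂.2.to_le inf_le_right
  have hR := pgroup_eq_bot_of_subnormal hOp N _ (inf_le_left.trans hSN) hRn hRp
  have hdvd := dvd_card_of_subnormal hOp' N S hSN hSn hS
  obtain ⟨x, hx⟩ := exists_prime_orderOf_dvd_card' p hdvd
  rw [← Subgroup.orderOf_coe] at hx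
  have h1 : (x : H) ∈ S ⊓ (P₂ : Subgroup H) := by
    rw [hchar]
    refine ⟨x.2, 1, ?_⟩
    rw [pow_one, ← hx]
    exact pow_orderOf_eq_one _
  rw [hR, Subgroup.mem_bot] at h1
  rw [h1, orderOf_one] at hx
  exact (Fact.out : p.Prime).one_lt.ne hx

/-- L1 -/
theorem le_normalizer_of_commute (P₁ : Sylow p H) (hTI : TI (P₁ : Subgroup H))
    (A B : Subgroup H) (hcomm : ∀ a ∈ A, ∀ b ∈ B, a * b = b * a)
    (hA : A ⊓ (P₁ : Subgroup H) ≠ ⊥) : B ≤ Subgroup.normalizer ((P₁ : Subgroup H) : Set H) := by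
  obtain ⟨⟨a, haA, haP⟩, ha1⟩ := (Subgroup.ne_bot_iff_exists_ne_one).mp hA
  have ha1' : a ≠ 1 := fun h => ha1 (Subtype.ext h)
  intro b hb
  apply hTI b a haP _ ha1'
  rw [← hcomm a haA b hb, mul_inv_cancel_right]
  exact haP

/-- Claim A -/
theorem normal_inf_sylow_ne_bot (hOp' : Cfsg.pPrimeCore p H = ⊥) (K : Subgroup H) [hK : K.Normal]
    (hK1 : K ≠ ⊥) (P₁ : Sylow p H) : K ⊓ (P₁ : Subgroup H) ≠ ⊥ := by
  have hdvd : p ∣ Nat.card K :=
    dvd_card_of_subnormal hOp' K K le_rfl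
      (fun m hm k hk => K.mul_mem (K.mul_mem hm hk) (K.inv_mem hm)) hK1
  obtain ⟨P₂, hP₂⟩ := exists_sylow_inf_ne_bot K hdvd
  obtain ⟨h, rfl⟩ := MulAction.exists_smul_eq H P₂ P₁
  obtain ⟨⟨a, haK, haP⟩, ha1⟩ := (Subgroup.ne_bot_iff_exists_ne_one).mp hP₂
  have ha1' : a ≠ 1 := fun h => ha1 (Subtype.ext h)
  intro hbot
  have h1 : h * a * h⁻¹ ∈ K ⊓ ((h • P₂ : Sylow p H) : Subgroup H) := by
    rw [Subgroup.mem_inf]
    refine ⟨hK.conj_mem a haK h, ?_⟩
    rw [mem_smul_sylow_iff]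
    have : h⁻¹ * (h * a * h⁻¹) * h = a := by group
    rw [this]; exact haP
  rw [hbot, Subgroup.mem_bot] at h1
  apply ha1'
  have : a = h⁻¹ * (h * a * h⁻¹) * h := by group
  rw [this, h1]; group

/-- The main structure theorem. -/
theorem structure_thm (hOp : Cfsg.pCore p H = ⊥) (hOp' : Cfsg.pPrimeCore p H = ⊥)
    (P : Sylow p H) (hP1 : (P : Subgroup H) ≠ ⊥) (hTI : TI (P : Subgroup H)) :
    ∃ N : Subgroup H, N.Normal ∧ N ≠ ⊥ ∧ (∀ K : Subgroup H, K.Normal → K ≠ ⊥ → N ≤ K) ∧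
      IsSimpleGroup N ∧ ¬ IsMulCommutative N ∧ Subgroup.centralizer (N : Set H) = ⊥ := by
  classical
  have hTIall := ti_all P hTI
  haveI : Nontrivial H := by
    obtain ⟨⟨a, _⟩, ha1⟩ := (Subgroup.ne_bot_iff_exists_ne_one).mp hP1
    exact ⟨⟨a, 1, fun h => ha1 (Subtype.ext h)⟩⟩
  let S : Set (Subgroup H) := {K | K.Normal ∧ K ≠ ⊥}
  have hS : (⊤ : Subgroup H) ∈ S := ⟨inferInstance, top_ne_bot⟩
  obtain ⟨M, hMS, hMmin⟩ :=
    WellFounded.has_min (measure (fun K : Subgroup H => Nat.card K)).wf S ⟨⊤, hS⟩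
  obtain ⟨hMn, hM⟩ := hMS
  have hmin : ∀ N : Subgroup H, N.Normal → N ≠ ⊥ → N ≤ M → N = M := by
    intro N hN hNne hNM
    apply Subgroup.eq_of_le_of_card_ge hNM
    exact not_lt.mp (hMmin N ⟨hN, hNne⟩)
  haveI := hMn
  -- L2
  have hL2 : ∀ K : Subgroup H, K.Normal → K ≠ ⊥ → ∀ P₁ : Sylow p H,
      ¬ K ≤ Subgroup.normalizer ((P₁ : Subgroup H) : Set H) := by
    intro K hK hK1 P₁
    haveI := hK
    exact not_le_normalizer hOp hOp' K K le_rfl
      (fun m hm k hk => K.mul_mem (K.mul_mem hm hk) (K.inv_mem hm)) hK1 P₁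
  -- uniqueness
  have huniq : ∀ K : Subgroup H, K.Normal → K ≠ ⊥ → M ≤ K := by
    intro K hK hK1
    haveI := hK
    by_contra hMK
    have hMK' : M ⊓ K = ⊥ := by
      by_contra hne
      have h1 := hmin (M ⊓ K) inferInstance hne inf_le_left
      apply hMK
      rw [← h1]; exact inf_le_right
    have hcomm : ∀ x ∈ M, ∀ y ∈ K, x * y = y * x := by
      intro x hx y hy
      exact Subgroup.commute_of_normal_of_disjoint M K hMn hK (disjoint_iff.mpr hMK') x y hx hy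
    have h2 := le_normalizer_of_commute P hTI M K hcomm (normal_inf_sylow_ne_bot hOp' M hM P)
    exact hL2 K hK hK1 P h2
  -- nonabelian
  have hnab : ¬ IsMulCommutative M := by
    intro h
    have hcomm : ∀ x ∈ M, ∀ y ∈ M, x * y = y * x := by
      intro x hx y hy
      have := h.is_comm.comm (⟨x, hx⟩ : M) ⟨y, hy⟩
      exact congrArg Subtype.val this
    have h2 := le_normalizer_of_commute P hTI M M hcomm (normal_inf_sylow_ne_bot hOp' M hM P)
    exact hL2 M hMn hM P h2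
  refine ⟨M, hMn, hM, huniq, ?_, hnab, ?_⟩
  · -- simple
    apply isSimpleGroup_of_minimal_normal_of_no_commuting M hM hmin
    intro K hKM hKn hK1 g hcomm
    have hdvd := dvd_card_of_subnormal hOp' M K hKM hKn hK1
    obtain ⟨P₂, hP₂⟩ := exists_sylow_inf_ne_bot K hdvd
    have h2 := le_normalizer_of_commute P₂ (hTIall P₂) K (EPPO.cj g K) hcomm hP₂
    -- EPPO.cj g K is subnormal too
    have hcjM : EPPO.cj g K ≤ M := by
      intro x hx
      obtain ⟨k, hk, rfl⟩ := EPPO.mem_cj.mp hx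
      exact hMn.conj_mem k (hKM hk) g
    have hcjn : ∀ m ∈ M, ∀ k ∈ EPPO.cj g K, m * k * m⁻¹ ∈ EPPO.cj g K := by
      intro m hm x hx
      obtain ⟨k, hk, rfl⟩ := EPPO.mem_cj.mp hx
      rw [EPPO.mem_cj]
      have h1 : g⁻¹ * m * g ∈ M := hMn.conj_mem' m hm g
      refine ⟨(g⁻¹ * m * g) * k * (g⁻¹ * m * g)⁻¹, hKn _ h1 k hk, ?_⟩
      group
    have hcj1 : EPPO.cj g K ≠ ⊥ := by
      intro h
      apply hK1
      have h1 := EPPO.card_cj g K
      rw [h, Subgroup.card_bot] at h1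
      exact Subgroup.card_eq_one.mp h1.symm
    exact not_le_normalizer hOp hOp' M (EPPO.cj g K) hcjM hcjn hcj1 P₂ h2
  · -- centralizer trivial
    by_contra hC
    have hCn : (Subgroup.centralizer (M : Set H)).Normal := Subgroup.normal_centralizer
    have h1 := huniq _ hCn hC
    apply hnab
    refine ⟨⟨fun a b => ?_⟩⟩
    have := (Subgroup.mem_centralizer_iff.mp (h1 a.2)) (b : H) b.2
    exact Subtype.ext this.symm

end main

end Cfsg.Agent.Lib.Helper7.TISylow
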