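import Mathlib
import Cfsg.Agent.Lib.Helper7.GYen3
import Cfsg.Agent.Lib.Helper7.TIGY
import Cfsg.Agent.Lib.Helper4.SolvBalance

set_option autoImplicit false
set_option linter.unusedSectionVars false
set_option linter.style.haveILetI false

/-!
# S3797 swarm (Thompson: soluble, one class of involutions), package TE

In the reduced case `O_{2'}(X) = 1`, all involutions conjugate and centralising `K = O_{2,2'}(X)`,
`O_2(X)` not a Sylow `2`-subgroup: some `2`-element outside `O_2(X)` centralises every involution.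
-/

namespace Cfsg.Agent.Lib.Helper7.TITE

open Cfsg Cfsg.Agent.Lib.Lead Cfsg.Agent.Lib.Helper7.GYen

universe u

variable {X : Type u} [Group X] [Finite X]

/-- a `2`-group acting (through `φ`) by conjugation on a non-trivial normal `2`-subgroup `Q`
centralises an involution of `Q`. -/
theorem exists_fixed_invol {A : Type*} [Group A] (hA : IsPGroup 2 A) (Q : Subgroup X) [Q.Normal]
    (hQ : IsPGroup 2 Q) (hQne : Q ≠ ⊥) (φ : A →* X) :
    ∃ v ∈ Q, v ≠ 1 ∧ v ^ 2 = 1 ∧ ∀ a : A, φ a * v * (φ a)⁻¹ = v := by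
  classical
  have hp : Fact (Nat.Prime 2) := ⟨Nat.prime_two⟩
  letI : MulAction A Q := MulAction.compHom Q ((MulAut.conjNormal (H := Q)).comp φ)
  have hsmul : ∀ (a : A) (x : Q), ((a • x : Q) : X) = φ a * x * (φ a)⁻¹ := fun a x =>
    MulAut.conjNormal_apply (φ a) x
  have hdvd : 2 ∣ Nat.card Q := by
    obtain ⟨n, hn⟩ := IsPGroup.iff_card.1 hQ
    have hn0 : n ≠ 0 := by
      rintro rfl
      rw [pow_zero, Subgroup.card_eq_one] at hn
      exact hQne hn
    rw [hn]; exact dvd_pow_self 2 hn0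
  have h1 : (1 : Q) ∈ MulAction.fixedPoints A Q := by
    intro a
    apply Subtype.ext
    rw [hsmul]; simp
  obtain ⟨b, hb, hb1⟩ := hA.exists_fixed_point_of_prime_dvd_card_of_fixed_point Q hdvd h1
  have hbfix : ∀ a : A, φ a * (b : X) * (φ a)⁻¹ = b := by
    intro a
    rw [← hsmul, hb a]
  obtain ⟨k, hk⟩ := (IsPGroup.iff_orderOf.1 hQ) b
  have hk0 : k ≠ 0 := by
    rintro rfl
    rw [pow_zero, orderOf_eq_one_iff] at hk
    exact hb1 hk.symm
  obtain ⟨k', rfl⟩ := Nat.exists_eq_succ_of_ne_zero hk0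
  have hordX : orderOf (b : X) = 2 ^ (k' + 1) := by rw [Subgroup.orderOf_coe]; exact hk
  have hv : orderOf ((b : X) ^ 2 ^ k') = 2 := by
    rw [orderOf_pow_of_dvd (pow_ne_zero _ two_ne_zero) (by rw [hordX]; exact pow_dvd_pow 2 (Nat.le_succ k')),
      hordX, pow_succ, Nat.mul_div_cancel_left _ (pow_pos two_pos _)]
  refine ⟨(b : X) ^ 2 ^ k', Q.pow_mem b.2 _, ?_, ?_, ?_⟩
  · intro h
    rw [h, orderOf_one] at hv
    omega
  · have := pow_orderOf_eq_one ((b : X) ^ 2 ^ k')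
    rwa [hv] at this
  · intro a
    have e : φ a * (b : X) ^ 2 ^ k' * (φ a)⁻¹ = (φ a * (b : X) * (φ a)⁻¹) ^ 2 ^ k' := by
      rw [conj_pow]
    rw [e, hbfix]

/-- (TE) a `2`-element outside `O_2(X)` centralising all involutions. -/
theorem exists_two_elt (hX : IsPSolvable 2 X) (hO : pPrimeCore 2 X = ⊥)
    (hconj : ∀ x y : X, x ≠ 1 → x ^ 2 = 1 → y ≠ 1 → y ^ 2 = 1 → IsConj x y)
    (htwo : ∃ x y : X, x ≠ y ∧ x ≠ 1 ∧ x ^ 2 = 1 ∧ y ≠ 1 ∧ y ^ 2 = 1)
    (hnot : ¬ ((pCore 2 X).index).Coprime 2)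
    (hK : ∀ x : X, x ^ 2 = 1 → ∀ k ∈ Cfsg.Agent.Lib.Helper7.GYen.Kgrp 2 X, Commute x k) :
    ∃ c : X, c ∉ pCore 2 X ∧ (∃ a : ℕ, orderOf c = 2 ^ a) ∧ ∀ x : X, x ^ 2 = 1 → Commute c x := by
  classical
  have hp : Fact (Nat.Prime 2) := ⟨Nat.prime_two⟩
  have hQn : (pCore 2 X).Normal := pCore_normal (G := X) 2
  have hQ2 : IsPGroup 2 ↥(pCore 2 X) := pCore_isPGroup 2
  have htr : AutTrans 2 X := Cfsg.Agent.Lib.Helper7.TIGY.autTrans_of_conj hconj
  have hCP : Subgroup.centralizer ((pCore 2 X : Subgroup X) : Set X) ≤ pCore 2 X :=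
    Cfsg.Agent.Lib.Helper4.centralizer_pCore_le_of_isPSolvable hX hO
  obtain ⟨x₀, _, _, hx₀1, hx₀2, _, _⟩ := htwo
  have hPne : pCore 2 X ≠ ⊥ := by
    intro h
    have : Subgroup.centralizer ((pCore 2 X : Subgroup X) : Set X) = ⊤ := by
      rw [h]; simp
    rw [this, h] at hCP
    exact hx₀1 ((Subgroup.mem_bot).1 (hCP (Subgroup.mem_top x₀)))
  -- the quotient `Z = (X / O_2) / O_{2'}`
  have hKn : (pPrimeCore 2 (X ⧸ pCore 2 X)).Normal :=
    (Cfsg.Agent.Lib.Helper6.pPrimeCore_mem_set 2).1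
  have hYs : IsPSolvable 2 (X ⧸ pCore 2 X) := isPSolvable_quotient hX _
  have hZs : IsPSolvable 2 ((X ⧸ pCore 2 X) ⧸ pPrimeCore 2 (X ⧸ pCore 2 X)) :=
    isPSolvable_quotient hYs _
  have hZ0 : pPrimeCore 2 ((X ⧸ pCore 2 X) ⧸ pPrimeCore 2 (X ⧸ pCore 2 X)) = ⊥ :=
    Cfsg.Agent.Lib.Helper4.pPrimeCore_quotient_self 2
  have hZnt : Nontrivial ((X ⧸ pCore 2 X) ⧸ pPrimeCore 2 (X ⧸ pCore 2 X)) := by
    by_contra hnt
    rw [not_nontrivial_iff_subsingleton] at hnt
    apply hnot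
    have h1 : (pPrimeCore 2 (X ⧸ pCore 2 X)).index = 1 := by
      rw [Subgroup.index_eq_card]
      exact Nat.card_eq_one_iff_unique.2 ⟨hnt, ⟨1⟩⟩
    rw [Subgroup.index_eq_one] at h1
    have h2 := Cfsg.Agent.Lib.Helper6.pPrimeCore_coprime (G := X ⧸ pCore 2 X) 2
    rw [h1, Subgroup.card_top] at h2
    rw [Subgroup.index_eq_card]
    exact h2
  obtain ⟨N, hNn, hNne, hN⟩ := exists_normal_of_isPSolvable hZs
  rcases hN with ⟨m, hm⟩ | hcop
  swap
  · exfalso
    have : N ≤ pPrimeCore 2 ((X ⧸ pCore 2 X) ⧸ pPrimeCore 2 (X ⧸ pCore 2 X)) :=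
      Cfsg.Agent.Lib.Helper6.le_pPrimeCore hNn hcop
    rw [hZ0, le_bot_iff] at this
    exact hNne this
  -- the projection
  set π : X →* ((X ⧸ pCore 2 X) ⧸ pPrimeCore 2 (X ⧸ pCore 2 X)) :=
    (QuotientGroup.mk' (pPrimeCore 2 (X ⧸ pCore 2 X))).comp (QuotientGroup.mk' (pCore 2 X)) with hπ
  have hπs : Function.Surjective π :=
    (QuotientGroup.mk'_surjective _).comp (QuotientGroup.mk'_surjective _)
  have hker : π.ker = Kgrp 2 X := by
    ext g
    rw [MonoidHom.mem_ker, mem_Kgrp_iff, hπ, MonoidHom.comp_apply, QuotientGroup.mk'_apply,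
      QuotientGroup.eq_one_iff]
  have hQK : pCore 2 X ≤ Kgrp 2 X := pCore_le_Kgrp
  set M : Subgroup X := N.comap π with hM
  have hMn : M.Normal := hNn.comap π
  have hKM : Kgrp 2 X ≤ M := by
    rw [← hker]
    intro g hg
    rw [hM, Subgroup.mem_comap, (MonoidHom.mem_ker).1 hg]
    exact N.one_mem
  have hN2 : IsPGroup 2 N := IsPGroup.of_card hm
  have hrel : (Kgrp 2 X).relIndex M = 2 ^ m := by
    rw [← hker, Subgroup.relIndex_ker, hM, Subgroup.map_comap_eq_self_of_surjective hπs, hm]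
  -- a Sylow 2-subgroup of `M` and an involution centralised by it
  obtain ⟨P⟩ : Nonempty (Sylow 2 ↥M) := inferInstance
  obtain ⟨v, hvQ, hv1, hv2, hvP⟩ := exists_fixed_invol (A := ↥(P : Subgroup ↥M)) P.2 (pCore 2 X) hQ2 hPne
    (M.subtype.comp (P : Subgroup ↥M).subtype)
  -- `M` centralises `v`
  set D : Subgroup X := M ⊓ Subgroup.centralizer ({v} : Set X) with hD
  have hKD : Kgrp 2 X ≤ D := by
    intro k hk
    refine Subgroup.mem_inf.2 ⟨hKM hk, ?_⟩
    rw [Subgroup.mem_centralizer_iff]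
    intro y hy
    rw [Set.mem_singleton_iff] at hy
    rw [hy]
    exact (hK v hv2 k hk).eq
  have hPD : (P : Subgroup ↥M) ≤ D.subgroupOf M := by
    intro g hg
    rw [Subgroup.mem_subgroupOf]
    refine Subgroup.mem_inf.2 ⟨g.2, ?_⟩
    rw [Subgroup.mem_centralizer_iff]
    intro y hy
    rw [Set.mem_singleton_iff] at hy
    rw [hy]
    have := hvP ⟨g, hg⟩
    simp only [MonoidHom.comp_apply, Subgroup.subtype_apply] at this
    have e := congrArg (fun t => t * (g : X)) this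
    simpa [mul_assoc] using e.symm
  have hMD : M ≤ D := by
    rw [← Subgroup.relIndex_eq_one]
    have h1 : D.relIndex M ∣ 2 ^ m := by
      rw [← hrel]; exact Subgroup.relIndex_dvd_of_le_left M hKD
    have h2 : D.relIndex M ∣ (P : Subgroup ↥M).index := Subgroup.index_dvd_of_le hPD
    obtain ⟨j, _, hj⟩ := (Nat.dvd_prime_pow Nat.prime_two).1 h1
    rcases Nat.eq_zero_or_pos j with rfl | hjpos
    · rw [hj, pow_zero]
    · exfalso
      have h3 : 2 ∣ (P : Subgroup ↥M).index := by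
        refine dvd_trans ?_ h2
        rw [hj]; exact dvd_pow_self 2 hjpos.ne'
      exact P.not_dvd_index h3
  -- `M` centralises every involution
  have hMall : ∀ g ∈ M, ∀ x : X, x ^ 2 = 1 → Commute g x := by
    intro g hg x hx
    by_cases hx1 : x = 1
    · rw [hx1]; exact Commute.one_right g
    obtain ⟨c, hc⟩ := isConj_iff.1 (hconj v x hv1 hv2 hx1 hx)
    have hg' : c⁻¹ * g * c ∈ M := by
      have := hMn.conj_mem g hg c⁻¹
      simpa using this
    have h1 := (Subgroup.mem_inf.1 (hMD hg')).2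
    rw [Subgroup.mem_centralizer_iff] at h1
    have h2 := h1 v (Set.mem_singleton v)
    -- h2 : v * (c⁻¹ g c) = (c⁻¹ g c) * v
    show g * x = x * g
    rw [← hc]
    have e1 : g * (c * v * c⁻¹) = c * ((c⁻¹ * g * c) * v) * c⁻¹ := by group
    have e2 : c * v * c⁻¹ * g = c * (v * (c⁻¹ * g * c)) * c⁻¹ := by group
    rw [e1, e2, h2]
  -- a 2-element of `M` outside `K`
  have hNne' : ∃ n ∈ N, n ≠ 1 := by
    by_contra h
    apply hNne
    rw [eq_bot_iff]
    intro n hn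
    by_contra hn1
    exact h ⟨n, hn, fun e => hn1 (by rw [e]; exact Subgroup.mem_bot.2 rfl)⟩
  obtain ⟨n, hnN, hn1⟩ := hNne'
  obtain ⟨g, rfl⟩ := hπs n
  obtain ⟨a, t, ht, hgo⟩ := Nat.exists_eq_two_pow_mul_odd (orderOf_pos g).ne'
  have hgM : g ^ t ∈ M := by
    rw [hM, Subgroup.mem_comap, map_pow]
    exact N.pow_mem hnN t
  refine ⟨g ^ t, ?_, ⟨a, ?_⟩, fun x hx => hMall _ hgM x hx⟩
  · intro hmem
    have h1 : π (g ^ t) = 1 := by
      rw [← MonoidHom.mem_ker, hker]; exact hQK hmem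
    rw [map_pow] at h1
    -- π g has 2-power order and (π g)^t = 1 with t odd
    obtain ⟨j, hj⟩ := (IsPGroup.iff_orderOf.1 hN2) ⟨π g, hnN⟩
    have hj' : orderOf (π g) = 2 ^ j := by
      rw [← hj, Subgroup.orderOf_mk]
    have h2 : orderOf (π g) ∣ t := orderOf_dvd_of_pow_eq_one h1
    rw [hj'] at h2
    have hj0 : j = 0 := by
      by_contra hj0
      have : 2 ∣ t := dvd_trans (dvd_pow_self 2 hj0) h2
      exact (Nat.not_even_iff_odd.2 ht) (even_iff_two_dvd.2 this)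
    rw [hj0, pow_zero, orderOf_eq_one_iff] at hj'
    exact hn1 hj'
  · rw [orderOf_pow_of_dvd ht.pos.ne' (by rw [hgo]; exact dvd_mul_left t _), hgo,
      Nat.mul_div_cancel _ ht.pos]

end Cfsg.Agent.Lib.Helper7.TITE
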