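import Mathlib
import Cfsg.Agent.Lib.Helper7.TSO0
import Cfsg.Agent.Lib.Helper2.OrthElE
import Cfsg.Agent.Lib.Helper5.OrthCls5

/-!
S5973 / S5987, PK-UP part 1: characteristic-free versions of helper2's lemmas on invariant totally
singular subspaces of the cyclotomic kernel of an isometry of odd prime order `r ≠ p`
(helper2's `OrthElD/E` assume `2 ≠ 0`); parity of the dimension in characteristic two.
-/

set_option autoImplicit false

namespace Cfsg.Agent.Lib.Helper7.TSO

open Module QuadraticMap Polynomial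
open Cfsg.Agent.Lib.Helper2.MaxTS2 Cfsg.Agent.Lib.Helper2.OrthEl
open Cfsg.Agent.H9SemiInv
open Cfsg.Agent.Lib.Helper9.H9Elus

section free

variable {F V : Type*} [Field F] [AddCommGroup V] [Module F V]
variable {Q : QuadraticForm F V} {y : V →ₗ[F] V}

/-- partial sums of the orbit of a vector with vanishing cross polars -/
theorem up_Q_partial_sum (hiso : ∀ v, Q (y v) = Q v) (r : ℕ) (u : V)
    (h : ∀ j, 1 ≤ j → j < r → polar (⇑Q) ((y ^ j) u) u = 0) :
    ∀ k, k ≤ r → Q (∑ j ∈ Finset.range k, (y ^ j) u) = (k : F) * Q u := by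
  intro k
  induction k with
  | zero =>
    intro _
    rw [Finset.sum_range_zero, map_zero, Nat.cast_zero, zero_mul]
  | succ k ih =>
    intro hk
    have hcross : polar (⇑Q) (∑ j ∈ Finset.range k, (y ^ j) u) ((y ^ k) u) = 0 := by
      have h1 : polarBilin Q (∑ j ∈ Finset.range k, (y ^ j) u) ((y ^ k) u) =
          ∑ j ∈ Finset.range k, polarBilin Q ((y ^ j) u) ((y ^ k) u) := by
        rw [map_sum, LinearMap.sum_apply]
      show polarBilin Q (∑ j ∈ Finset.range k, (y ^ j) u) ((y ^ k) u) = 0
      rw [h1]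
      apply Finset.sum_eq_zero
      intro j hj
      have hjk : j < k := Finset.mem_range.1 hj
      show polar (⇑Q) ((y ^ j) u) ((y ^ k) u) = 0
      have h3 := iso_polar_pow hiso j u ((y ^ (k - j)) u)
      rw [← Module.End.mul_apply, ← pow_add, Nat.add_sub_cancel' hjk.le] at h3
      rw [h3, polar_comm]
      exact h (k - j) (by omega) (by omega)
    rw [Finset.sum_range_succ]
    have h4 : Q (∑ j ∈ Finset.range k, (y ^ j) u + (y ^ k) u) =
        Q (∑ j ∈ Finset.range k, (y ^ j) u) + Q ((y ^ k) u) +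
          polar (⇑Q) (∑ j ∈ Finset.range k, (y ^ j) u) ((y ^ k) u) := by
      unfold polar
      ring
    rw [h4, hcross, add_zero, ih (by omega), iso_pow hiso]
    push_cast
    ring

/-- a vector of the cyclotomic kernel whose orbit has vanishing cross polars is singular -/
theorem up_Q_eq_zero (hiso : ∀ v, Q (y v) = Q v) {r : ℕ} (hr : r.Prime) (hr0 : (r : F) ≠ 0)
    {u : V} (hu : u ∈ cycS y r)
    (h : ∀ j, 1 ≤ j → j < r → polar (⇑Q) ((y ^ j) u) u = 0) : Q u = 0 := by
  have h1 := up_Q_partial_sum hiso r u h r le_rfl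
  rw [(mem_cycS hr u).1 hu, map_zero] at h1
  rcases mul_eq_zero.1 h1.symm with h2 | h2
  · exact absurd h2 hr0
  · exact h2

/-- an invariant subspace of the cyclotomic kernel which is totally isotropic for the polar form
is totally singular -/
theorem up_isTS_of_le_perp (hiso : ∀ v, Q (y v) = Q v) {r : ℕ} (hr : r.Prime)
    (hr0 : (r : F) ≠ 0) {Z : Submodule F V} (hZV : Z ≤ cycS y r) (hZ : Inv y Z)
    (h : Z ≤ perp Q Z) : IsTS Q Z := by
  intro v hv
  apply up_Q_eq_zero hiso hr hr0 (hZV hv)
  intro j _ _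
  rw [polar_comm]
  exact h (inv_pow hZ j v hv) v hv

end free

section fin

variable {F V : Type*} [Field F] [Fintype F] {p : ℕ} [Fact p.Prime] [CharP F p]
  [AddCommGroup V] [Module F V] [FiniteDimensional F V]
variable {Q : QuadraticForm F V} {y : V →ₗ[F] V}

/-- a minimal invariant subspace of the cyclotomic kernel is totally singular or nondegenerate
(any characteristic) -/
theorem up_isTS_or_ndeg (hiso : ∀ v, Q (y v) = Q v) (r : ℕ) [Fact r.Prime]
    (hrp : r ≠ p) (hy : y ^ r = 1) (Z : Submodule F V) (hZV : Z ≤ cycS y r) (hZ : Inv y Z)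
    (hZi : finrank F Z = orderOf ((Fintype.card F : ℕ) : ZMod r)) : IsTS Q Z ∨ NDeg Q Z := by
  by_cases hR : Z ⊓ perp Q Z = ⊥
  · right
    exact disjoint_iff.2 hR
  · left
    have hr1 : 1 ≤ r := (Fact.out : r.Prime).one_lt.le
    obtain ⟨Z', hZ'R, -, hZ'i⟩ := hmin_cyclotomic r hrp y (Z ⊓ perp Q Z) (inf_le_left.trans hZV)
      (hZ.inf (inv_perp hiso hr1 hy hZ)) hR
    have h3 : Z' = Z := by
      apply Submodule.eq_of_le_of_finrank_eq (hZ'R.trans inf_le_left)
      rw [hZ'i, hZi]
    rw [h3] at hZ'R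
    exact up_isTS_of_le_perp hiso Fact.out (cast_ne_zero_of_ne r hrp) hZV hZ
      (hZ'R.trans inf_le_right)

/-- a large invariant subspace of the cyclotomic kernel contains a totally singular invariant
subspace of dimension `i` (any characteristic) -/
theorem up_exists_isTS_inv_of_large (hiso : ∀ v, Q (y v) = Q v) (r : ℕ)
    [Fact r.Prime] (hrp : r ≠ p) (hr2 : r ≠ 2) (hy : y ^ r = 1) (M : Submodule F V)
    (hMV : M ≤ cycS y r) (hM : Inv y M) (hdim : r - 1 < finrank F M) :
    ∃ Z : Submodule F V, Z ≤ M ∧ Inv y Z ∧ IsTS Q Z ∧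
      finrank F Z = orderOf ((Fintype.card F : ℕ) : ZMod r) := by
  have hrprime : r.Prime := Fact.out
  obtain ⟨h, hh⟩ : ∃ h, r = 2 * h + 1 := by
    rcases hrprime.eq_two_or_odd with h6 | h6
    · exact absurd h6 hr2
    · exact ⟨r / 2, by omega⟩
  let B : Fin h → LinearMap.BilinForm F M := fun j =>
    (polarBilin Q).compl₁₂ ((y ^ (j.1 + 1)).comp M.subtype) M.subtype
  have hB : ∀ (j : Fin h) (u w : M), B j u w = polar (⇑Q) ((y ^ (j.1 + 1)) (u : V)) (w : V) :=
    fun j u w => rfl
  obtain ⟨u, hu0, hu⟩ := exists_common_zero h B (by omega)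
  have hu0' : (u : V) ≠ 0 := fun h0 => hu0 (Subtype.ext h0)
  have hA : ∀ j, 1 ≤ j → j ≤ h → polar (⇑Q) ((y ^ j) (u : V)) (u : V) = 0 := by
    intro j hj1 hjh
    have := hu ⟨j - 1, by omega⟩
    rw [hB] at this
    have e : j - 1 + 1 = j := by omega
    simpa only [e] using this
  have hBB : ∀ j, 1 ≤ j → j < r → polar (⇑Q) ((y ^ j) (u : V)) (u : V) = 0 := by
    intro j hj1 hjr
    by_cases hjh : j ≤ h
    · exact hA j hj1 hjh
    · have h3 := iso_polar_pow hiso (r - j) ((y ^ j) (u : V)) (u : V)
      rw [← Module.End.mul_apply, ← pow_add, Nat.sub_add_cancel hjr.le, hy,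
        Module.End.one_apply] at h3
      rw [← h3, polar_comm]
      exact hA (r - j) (by omega) (by omega)
  have hQu : Q (u : V) = 0 :=
    up_Q_eq_zero hiso hrprime (cast_ne_zero_of_ne r hrp) (hMV u.2) hBB
  have hC : ∀ m, polar (⇑Q) ((y ^ m) (u : V)) (u : V) = 0 := by
    intro m
    rw [pow_mod_apply hy]
    by_cases hm : m % r = 0
    · rw [hm, pow_zero, Module.End.one_apply, polar_self, hQu, smul_zero]
    · exact hBB _ (by omega) (Nat.mod_lt _ hrprime.pos)
  have hD : ∀ j l, polar (⇑Q) ((y ^ j) (u : V)) ((y ^ l) (u : V)) = 0 := by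
    intro j l
    rcases le_total l j with hlj | hlj
    · have h3 := iso_polar_pow hiso l ((y ^ (j - l)) (u : V)) (u : V)
      rw [← Module.End.mul_apply, ← pow_add, Nat.add_sub_cancel' hlj] at h3
      rw [h3]
      exact hC _
    · have h3 := iso_polar_pow hiso j ((y ^ (l - j)) (u : V)) (u : V)
      rw [← Module.End.mul_apply, ← pow_add, Nat.add_sub_cancel' hlj] at h3
      rw [polar_comm, h3]
      exact hC _
  set s : ℕ → V := fun j => (y ^ j) (u : V) with hs
  have hTS : IsTS Q (Submodule.span F (Set.range s)) := by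
    apply isTS_span
    · intro j
      show Q ((y ^ j) (u : V)) = 0
      rw [iso_pow hiso, hQu]
    · intro j l
      exact hD j l
  have hinv : Inv y (Submodule.span F (Set.range s)) := by
    intro x hx
    induction hx using Submodule.span_induction with
    | mem x hx =>
      obtain ⟨j, rfl⟩ := hx
      apply Submodule.subset_span
      refine ⟨j + 1, ?_⟩
      show (y ^ (j + 1)) (u : V) = y ((y ^ j) (u : V))
      rw [pow_succ', Module.End.mul_apply]
    | zero =>
      rw [map_zero]
      exact Submodule.zero_mem _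
    | add x z _ _ ihx ihz =>
      rw [map_add]
      exact Submodule.add_mem _ ihx ihz
    | smul c x _ ih =>
      rw [map_smul]
      exact Submodule.smul_mem _ c ih
  have hle : Submodule.span F (Set.range s) ≤ M := by
    rw [Submodule.span_le]
    rintro _ ⟨j, rfl⟩
    exact inv_pow hM j _ u.2
  have hne : Submodule.span F (Set.range s) ≠ ⊥ := by
    intro h0
    have h3 : (u : V) ∈ Submodule.span F (Set.range s) := by
      apply Submodule.subset_span
      refine ⟨0, ?_⟩
      show (y ^ 0) (u : V) = (u : V)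
      rw [pow_zero, Module.End.one_apply]
    rw [h0, Submodule.mem_bot] at h3
    exact hu0' h3
  obtain ⟨Z, hZle, hZinv, hZi⟩ := hmin_cyclotomic r hrp y _ (hle.trans hMV) hinv hne
  exact ⟨Z, hZle.trans hle, hZinv, isTS_mono hTS hZle, hZi⟩

end fin

section parity

variable {F : Type*} [Field F] [Finite F] {V : Type*} [AddCommGroup V] [Module F V]
  [FiniteDimensional F V]

/-- in characteristic two a quadratic space with nondegenerate polar form has even dimension -/
theorem up_even_finrank_of_two_eq_zero (h2 : (2 : F) = 0) (Q : QuadraticForm F V)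
    (hQ : (polarBilin Q).Nondegenerate) : Even (finrank F V) := by
  classical
  obtain ⟨k, e, f, W, hw, hd, hle⟩ := Cfsg.Agent.Lib.Helper5.OrthCls.exists_wdata Q hQ
  have hne1 : finrank F W ≠ 1 := by
    intro h1
    obtain ⟨w, hw0, hwspan⟩ := finrank_eq_one_iff'.1 h1
    have hw0' : (w : V) ≠ 0 := fun h0 => hw0 (Subtype.ext h0)
    obtain ⟨z, hzW, hz⟩ := hw.nondegW hQ (w : V) w.2 hw0'
    obtain ⟨c, hc⟩ := hwspan ⟨z, hzW⟩
    have hz' : z = c • (w : V) := by
      have := congrArg Subtype.val hc
      exact this.symm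
    apply hz
    rw [hz', polar_smul_right, polar_self, smul_eq_mul]
    have : 2 • Q (w : V) = 0 := by
      rw [two_smul, ← two_mul, h2, zero_mul]
    rw [this, mul_zero]
  have : finrank F W = 0 ∨ finrank F W = 2 := by omega
  rcases this with h0 | h0
  · exact ⟨k, by omega⟩
  · exact ⟨k + 1, by omega⟩

end parity

section odd

variable {F V : Type*} [Field F] [Fintype F] {p : ℕ} [Fact p.Prime] [CharP F p]
  [AddCommGroup V] [Module F V] [FiniteDimensional F V]
variable {Q : QuadraticForm F V} {y : V →ₗ[F] V}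

/-- for `i` odd every invariant subspace of dimension `i` of the cyclotomic kernel is totally
singular (any characteristic) -/
theorem up_isTS_of_odd (hiso : ∀ v, Q (y v) = Q v) (r : ℕ)
    [Fact r.Prime] (hrp : r ≠ p) (hr2 : r ≠ 2) (hy : y ^ r = 1) (Z : Submodule F V)
    (hZV : Z ≤ cycS y r) (hZ : Inv y Z)
    (hZi : finrank F Z = orderOf ((Fintype.card F : ℕ) : ZMod r))
    (hi : Odd (orderOf ((Fintype.card F : ℕ) : ZMod r))) : IsTS Q Z := by
  by_cases h2 : (2 : F) = 0
  · rcases up_isTS_or_ndeg hiso r hrp hy Z hZV hZ hZi with h | h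
    · exact h
    · exfalso
      have hev := up_even_finrank_of_two_eq_zero h2 (Q.comp Z.subtype) h.restrict
      rw [hZi] at hev
      exact (Nat.not_even_iff_odd.2 hi) hev
  · have hodd : Odd (Fintype.card F) := by
      obtain ⟨n, hp, hn⟩ := FiniteField.card F p
      have hp2 : p ≠ 2 := by
        intro hp2
        apply h2
        have := CharP.cast_eq_zero F p
        rw [hp2] at this
        exact_mod_cast this
      rw [hn]
      exact Odd.pow (hp.eq_two_or_odd'.resolve_left hp2)
    exact isTS_of_odd hodd hiso r hrp hr2 hy Z hZV hZ hZi hi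

end odd

end Cfsg.Agent.Lib.Helper7.TSO
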