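import Mathlib
import Cfsg.Agent.Lib.Helper7.TSO_UP1
import Cfsg.Agent.Lib.Helper2.OrthCfA
import Cfsg.Agent.Lib.Helper2.OrthNdF
import Cfsg.Agent.S0289
import Cfsg.Agent.S0290

/-!
S5973 / S5987, PK-UP part 2: number of singular vectors by type (any characteristic), and the type
of an invariant nondegenerate subspace of the cyclotomic kernel (`i` even): plus iff the number of
irreducible constituents is even.
-/

set_option autoImplicit false

namespace Cfsg.Agent.Lib.Helper7.TSO

open Module QuadraticMap Polynomial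
open Cfsg.Agent.Lib.Helper2.MaxTS2 Cfsg.Agent.Lib.Helper2.OrthEl Cfsg.Agent.Lib.Helper2.OrthNd
open Cfsg.Agent.H9SemiInv
open Cfsg.Agent.Lib.Helper9.H9Elus
open Cfsg.Agent.Lib.Helper5.OrthCls (IsPlus)
open Cfsg.Agent.Lib.Helper5.QuadGlue

section count

variable {F : Type*} [Field F] [Fintype F]
variable {V : Type*} [AddCommGroup V] [Module F V] [FiniteDimensional F V]
variable {Q : QuadraticForm F V}

theorem up_finrank_plus_space (a : ℕ) : finrank F (Fin a ⊕ Fin a → F) = 2 * a := by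
  rw [Module.finrank_fintype_fun_eq_card]
  simp only [Fintype.card_sum, Fintype.card_fin]
  ring

theorem up_finrank_minus_space (a : ℕ) :
    finrank F ((Fin a ⊕ Fin a) ⊕ Fin 2 → F) = 2 * (a + 1) := by
  rw [Module.finrank_fintype_fun_eq_card]
  simp only [Fintype.card_sum, Fintype.card_fin]
  ring

/-- singular vectors of a space of plus type (any characteristic) -/
theorem up_card_singular_plus (hQ : (polarBilin Q).Nondegenerate) (a : ℕ)
    (ha : 1 ≤ a) (hdim : finrank F V = 2 * a) (hplus : IsPlus Q) :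
    Nat.card {v : V // Q v = 0} =
      Fintype.card F ^ (2 * a - 1) + Fintype.card F ^ a - Fintype.card F ^ (a - 1) := by
  obtain ⟨e, he⟩ := Cfsg.Agent.Lib.Helper5.OrthCls.iso_of_type Q (QP a F) hQ
    (Cfsg.Agent.Lib.Helper2.QuadStd.QP_nondeg a)
    (by rw [hdim, up_finrank_plus_space]) (by rw [hdim]; exact ⟨a, by ring⟩)
    ⟨fun _ => Cfsg.Agent.Lib.Helper5.OrthCls.isPlus_QP a, fun _ => hplus⟩
  rw [← Cfsg.Agent.S0289.result (F := F) rfl a ha]
  apply Nat.card_congr
  refine ⟨fun v => ⟨e v.1, by rw [← QP_apply, he, v.2]⟩, fun u => ⟨e.symm u.1, ?_⟩, ?_, ?_⟩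
  · have := he (e.symm u.1)
    rw [LinearEquiv.apply_symm_apply, QP_apply, u.2] at this
    exact this.symm
  · intro v
    apply Subtype.ext
    exact e.symm_apply_apply _
  · intro u
    apply Subtype.ext
    exact e.apply_symm_apply _

/-- singular vectors of a space of minus type (any characteristic) -/
theorem up_card_singular_minus (hQ : (polarBilin Q).Nondegenerate) (a : ℕ)
    (ha : 1 ≤ a) (hdim : finrank F V = 2 * a) (hminus : ¬ IsPlus Q) :
    Nat.card {v : V // Q v = 0} =
      Fintype.card F ^ (2 * a - 1) + Fintype.card F ^ (a - 1) - Fintype.card F ^ a := by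
  obtain ⟨a', rfl⟩ : ∃ a', a = a' + 1 := ⟨a - 1, by omega⟩
  obtain ⟨ζ, hζ⟩ := Cfsg.Agent.Lib.Helper5.OrthCls.exists_aniso (F := F)
  obtain ⟨e, he⟩ := Cfsg.Agent.Lib.Helper5.OrthCls.iso_of_type Q
    (Cfsg.Agent.Lib.Helper2.OrthCard.QMn a' 1 ζ) hQ
    (Cfsg.Agent.Lib.Helper2.OrthCard.QMn_nondeg a' 1 ζ hζ)
    (by rw [hdim, up_finrank_minus_space]) (by rw [hdim]; exact ⟨a' + 1, by ring⟩)
    ⟨fun h => absurd h hminus,
      fun h => absurd h (Cfsg.Agent.Lib.Helper5.OrthCls.not_isPlus_QMn a' 1 ζ hζ)⟩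
  have h3 : Nat.card {v : (Fin a' ⊕ Fin a') ⊕ Fin 2 → F // Cfsg.quadFormMinus a' F 1 ζ v = 0} =
      Fintype.card F ^ (2 * (a' + 1) - 1) + Fintype.card F ^ (a' + 1 - 1) -
        Fintype.card F ^ (a' + 1) :=
    Cfsg.Agent.S0290.result (F := F) rfl (a' + 1) (by omega) 1 ζ hζ
  rw [← h3]
  apply Nat.card_congr
  refine ⟨fun v => ⟨e v.1, by
      rw [← Cfsg.Agent.Lib.Helper2.OrthCard.QMn_coe, he, v.2]⟩,
    fun u => ⟨e.symm u.1, ?_⟩, ?_, ?_⟩
  · have := he (e.symm u.1)
    rw [LinearEquiv.apply_symm_apply, Cfsg.Agent.Lib.Helper2.OrthCard.QMn_coe, u.2] at this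
    exact this.symm
  · intro v
    apply Subtype.ext
    exact e.symm_apply_apply _
  · intro u
    apply Subtype.ext
    exact e.apply_symm_apply _

end count

section zmod

/-- `q^(i/2) = -1` in `ZMod r` when the order `i` of `q` is even -/
theorem up_pow_half_order (r : ℕ) [Fact r.Prime] (x : ZMod r) (h : ℕ)
    (hi : orderOf x = 2 * h) (hpos : 0 < orderOf x) : x ^ h = -1 := by
  have h1 : x ^ (2 * h) = 1 := by rw [← hi]; exact pow_orderOf_eq_one x
  have h2 : (x ^ h) * (x ^ h) = 1 := by rw [← pow_add, ← two_mul, h1]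
  rcases mul_self_eq_one_iff.1 h2 with h3 | h3
  · exfalso
    have h4 := orderOf_dvd_of_pow_eq_one h3
    rw [hi] at h4
    have h5 : h = 0 := by
      by_contra hne
      have := Nat.le_of_dvd (Nat.pos_of_ne_zero hne) h4
      omega
    omega
  · exact h3

theorem up_neg_one_pow_eq_one_iff (r : ℕ) [Fact r.Prime] (hr2 : r ≠ 2) (γ : ℕ) :
    ((-1 : ZMod r)) ^ γ = 1 ↔ Even γ := by
  have hne : (-1 : ZMod r) ≠ 1 := by
    intro h
    have h2 : (2 : ZMod r) = 0 := by
      have : (1 : ZMod r) + 1 = 0 := by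
        nth_rewrite 1 [← h]
        ring
      rw [← this]
      ring
    have h3 : ((2 : ℕ) : ZMod r) = 0 := by exact_mod_cast h2
    rw [ZMod.natCast_eq_zero_iff] at h3
    have := (Nat.prime_dvd_prime_iff_eq (Fact.out : r.Prime) Nat.prime_two).1 h3
    exact hr2 this
  constructor
  · intro h
    by_contra hodd
    rw [Nat.not_even_iff_odd] at hodd
    rw [hodd.neg_one_pow] at h
    exact hne h
  · intro h
    exact h.neg_one_pow

end zmod

section type

variable {F : Type*} [Field F] [Fintype F] {p : ℕ} [Fact p.Prime] [CharP F p]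
variable {V : Type*} [AddCommGroup V] [Module F V] [FiniteDimensional F V]
variable {Q : QuadraticForm F V} {y : V →ₗ[F] V}

/-- the type of an invariant nondegenerate subspace of the cyclotomic kernel, `i` even -/
theorem up_plusS_cyc_iff (hiso : ∀ v, Q (y v) = Q v) (r : ℕ) [Fact r.Prime] (hrp : r ≠ p)
    (hr2 : r ≠ 2) (hy : y ^ r = 1) (N : Submodule F V) (hNV : N ≤ cycS y r) (hN : Inv y N)
    (hnd : NDeg Q N) (hi : Even (orderOf ((Fintype.card F : ℕ) : ZMod r))) (γ : ℕ)
    (hdim : finrank F N = orderOf ((Fintype.card F : ℕ) : ZMod r) * γ) :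
    PlusS Q N ↔ Even γ := by
  rw [Cfsg.Agent.Lib.Helper2.OrthCf.plusS_iff_isPlus]
  set q := Fintype.card F with hq
  set i := orderOf ((q : ℕ) : ZMod r) with hidef
  obtain ⟨h, hh⟩ := hi
  have hih : i = 2 * h := by rw [hh]; ring
  have hipos : 0 < i := order_pos r hrp
  rcases Nat.eq_zero_or_pos γ with hγ0 | hγ0
  · rw [hγ0, mul_zero] at hdim
    rw [hγ0]
    refine ⟨fun _ => ⟨0, rfl⟩, fun _ => ⟨⊥, ?_, ?_⟩⟩
    · intro u hu
      rw [(Submodule.mem_bot F).1 hu, map_zero]
    · rw [finrank_bot, hdim, mul_zero]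
  have hh1 : 1 ≤ h := by omega
  set a := h * γ with ha
  have ha1 : 1 ≤ a := Nat.mul_pos hh1 hγ0
  have hdim' : finrank F N = 2 * a := by rw [hdim, hih, ha]; ring
  have hmod := card_singular_modEq hiso r hrp hy N hNV hN
  set x : ZMod r := ((q : ℕ) : ZMod r) with hx
  have hxh : x ^ h = -1 := up_pow_half_order r x h hih hipos
  have hxa : x ^ a = (-1) ^ γ := by rw [ha, pow_mul, hxh]
  have hx2a : x ^ (2 * a) = 1 := by
    rw [mul_comm, pow_mul, hxa, ← pow_mul, mul_comm, pow_mul]
    rw [neg_one_sq, one_pow]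
  have hx1 : x ≠ 1 := by
    intro h1
    have := orderOf_eq_one_iff.2 h1
    omega
  have hcount : ((Nat.card {w : ↥N // (Q.comp N.subtype) w = 0} : ℕ) : ZMod r) = 1 := by
    have := (ZMod.natCast_eq_natCast_iff _ _ _).2 hmod
    rw [this, Nat.cast_one]
  obtain ⟨a', ha'⟩ : ∃ a', a = a' + 1 := ⟨a - 1, by omega⟩
  have hq1 : 1 ≤ q := Fintype.card_pos
  constructor
  · intro hplus
    have hc := up_card_singular_plus hnd.restrict a ha1 hdim' hplus
    rw [← hq, ha'] at hc
    have e1 : 2 * (a' + 1) - 1 = 2 * a' + 1 := by omega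
    have e2 : a' + 1 - 1 = a' := by omega
    rw [e1, e2] at hc
    have hle : q ^ a' ≤ q ^ (2 * a' + 1) + q ^ (a' + 1) :=
      (Nat.pow_le_pow_right hq1 (by omega)).trans (Nat.le_add_right _ _)
    have hc' : Nat.card {w : ↥N // (Q.comp N.subtype) w = 0} + q ^ a' =
        q ^ (2 * a' + 1) + q ^ (a' + 1) := by
      rw [hc]
      exact Nat.sub_add_cancel hle
    have hc2 : (1 : ZMod r) + x ^ a' = x ^ (2 * a' + 1) + x ^ (a' + 1) := by
      have := congrArg (fun n : ℕ => (n : ZMod r)) hc'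
      simp only [Nat.cast_add, Nat.cast_pow] at this
      rw [hcount] at this
      exact this
    have hc3 : x + x ^ (a' + 1) = x ^ (2 * (a' + 1)) + x ^ (a' + 1) * x := by
      have := congrArg (fun z : ZMod r => z * x) hc2
      beta_reduce at this
      have e3 : 2 * (a' + 1) = 2 * a' + 1 + 1 := by ring
      rw [e3, pow_succ x (2 * a' + 1), pow_succ x a']
      linear_combination this
    rw [← ha', hx2a, hxa] at hc3
    have hc4 : (x - 1) * (1 - (-1) ^ γ) = 0 := by linear_combination hc3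
    rcases mul_eq_zero.1 hc4 with h5 | h5
    · exact absurd (sub_eq_zero.1 h5) hx1
    · exact (up_neg_one_pow_eq_one_iff r hr2 γ).1 (sub_eq_zero.1 h5).symm
  · intro hev
    by_contra hminus
    have hc := up_card_singular_minus hnd.restrict a ha1 hdim' hminus
    rw [← hq, ha'] at hc
    have e1 : 2 * (a' + 1) - 1 = 2 * a' + 1 := by omega
    have e2 : a' + 1 - 1 = a' := by omega
    rw [e1, e2] at hc
    have hle : q ^ (a' + 1) ≤ q ^ (2 * a' + 1) + q ^ a' :=
      (Nat.pow_le_pow_right hq1 (by omega)).trans (Nat.le_add_right _ _)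
    have hc' : Nat.card {w : ↥N // (Q.comp N.subtype) w = 0} + q ^ (a' + 1) =
        q ^ (2 * a' + 1) + q ^ a' := by
      rw [hc]
      exact Nat.sub_add_cancel hle
    have hc2 : (1 : ZMod r) + x ^ (a' + 1) = x ^ (2 * a' + 1) + x ^ a' := by
      have := congrArg (fun n : ℕ => (n : ZMod r)) hc'
      simp only [Nat.cast_add, Nat.cast_pow] at this
      rw [hcount] at this
      exact this
    have hc3 : x + x ^ (a' + 1) * x = x ^ (2 * (a' + 1)) + x ^ (a' + 1) := by
      have := congrArg (fun z : ZMod r => z * x) hc2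
      beta_reduce at this
      have e3 : 2 * (a' + 1) = 2 * a' + 1 + 1 := by ring
      rw [e3, pow_succ x (2 * a' + 1), pow_succ x a']
      linear_combination this
    rw [← ha', hx2a, hxa, hev.neg_one_pow] at hc3
    have hc4 : (x - 1) * 2 = 0 := by linear_combination hc3
    rcases mul_eq_zero.1 hc4 with h5 | h5
    · exact absurd (sub_eq_zero.1 h5) hx1
    · have h3 : ((2 : ℕ) : ZMod r) = 0 := by exact_mod_cast h5
      rw [ZMod.natCast_eq_zero_iff] at h3
      have := (Nat.prime_dvd_prime_iff_eq (Fact.out : r.Prime) Nat.prime_two).1 h3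
      exact hr2 this

end type

end Cfsg.Agent.Lib.Helper7.TSO
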