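import Mathlib
import Cfsg.Agent.Lib.Helper7.TSO_UP2

/-!
S5973 / S5987, PK-UP part 3: the parameters `(τ, β, α, γ)` of an isometry of odd prime order
`r ≠ p` of a nondegenerate quadratic space of even dimension (any characteristic) and the invariant
totally singular subspaces inside a maximal invariant totally singular subspace.
-/

set_option autoImplicit false

namespace Cfsg.Agent.Lib.Helper7.TSO

open Module QuadraticMap Polynomial
open Cfsg.Agent.Lib.Helper2.MaxTS2 Cfsg.Agent.Lib.Helper2.OrthEl Cfsg.Agent.Lib.Helper2.OrthNd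
open Cfsg.Agent.H9SemiInv
open Cfsg.Agent.Lib.Helper9.H9Elus
open Cfsg.Agent.Lib.Helper5.OrthCls (IsPlus)

section basic

variable {F V : Type*} [Field F] [AddCommGroup V] [Module F V] [FiniteDimensional F V]
variable {Q : QuadraticForm F V} {y : V →ₗ[F] V}

/-- a maximal invariant totally singular subspace -/
theorem up_exists_max (Q : QuadraticForm F V) (y : V →ₗ[F] V) :
    ∃ W₀ : Submodule F V, Inv y W₀ ∧ IsTS Q W₀ ∧
      ∀ W' : Submodule F V, Inv y W' → IsTS Q W' → W₀ ≤ W' → W' = W₀ := by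
  classical
  let P : ℕ → Prop := fun k => ∃ W : Submodule F V, Inv y W ∧ IsTS Q W ∧ finrank F W = k
  have hP0 : P 0 := by
    refine ⟨⊥, ?_, ?_, finrank_bot F V⟩
    · intro x hx
      rw [(Submodule.mem_bot F).1 hx, map_zero]
      exact Submodule.zero_mem _
    · intro x hx
      rw [(Submodule.mem_bot F).1 hx, map_zero]
  have hspec : P (Nat.findGreatest P (finrank F V)) :=
    Nat.findGreatest_spec (Nat.zero_le _) hP0
  obtain ⟨W₀, hinv, hts, hdim⟩ := hspec
  refine ⟨W₀, hinv, hts, ?_⟩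
  intro W' hW'inv hW'ts hle
  have h1 : finrank F W' ≤ Nat.findGreatest P (finrank F V) :=
    Nat.le_findGreatest (Submodule.finrank_le W') ⟨W', hW'inv, hW'ts, rfl⟩
  rw [← hdim] at h1
  exact (Submodule.eq_of_le_of_finrank_le hle h1).symm

/-- an orthogonal summand of a nondegenerate subspace is nondegenerate -/
theorem up_ndeg_of_sup {W₁ W₂ : Submodule F V} (h : NDeg Q (W₁ ⊔ W₂))
    (horth : W₁ ≤ perp Q W₂) : NDeg Q W₁ := by
  unfold NDeg
  rw [Submodule.disjoint_def]
  intro x hx hxp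
  apply (Submodule.disjoint_def.1 h) x (Submodule.mem_sup_left hx)
  rw [orthogonal_sup']
  exact ⟨hxp, horth hx⟩

theorem up_isPlus_iff_plusS_top : IsPlus Q ↔ PlusS Q (⊤ : Submodule F V) := by
  constructor
  · rintro ⟨U, hU, hd⟩
    exact ⟨U, le_top, hU, by rw [finrank_top]; exact hd⟩
  · rintro ⟨U, -, hU, hd⟩
    rw [finrank_top] at hd
    exact ⟨U, hU, hd⟩

theorem up_plusS_of_finrank_eq_zero {W : Submodule F V} (h : finrank F W = 0) : PlusS Q W := by
  refine ⟨⊥, bot_le, ?_, ?_⟩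
  · intro x hx
    rw [(Submodule.mem_bot F).1 hx, map_zero]
  · rw [finrank_bot, h]

end basic

section main

variable {F : Type*} [Field F] [Fintype F] {p : ℕ} [Fact p.Prime] [CharP F p]
variable {V : Type*} [AddCommGroup V] [Module F V] [FiniteDimensional F V]

/-- an invariant subspace is the sum of its intersections with the cyclotomic kernel and the
fixed space -/
theorem up_inf_sup_inf (r : ℕ) [Fact r.Prime] (hrp : r ≠ p) (y : V →ₗ[F] V) (hy : y ^ r = 1)
    (W : Submodule F V) (hW : Inv y W) :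
    (W ⊓ cycS y r) ⊔ (W ⊓ fixS y) = W := by
  have hc := isCompl_ker r hrp y hy
  have hdisj : Disjoint (W ⊓ cycS y r) (W ⊓ fixS y) :=
    (hc.disjoint.mono inf_le_right inf_le_right).symm
  apply Submodule.eq_of_le_of_finrank_eq (sup_le inf_le_left inf_le_left)
  rw [finrank_sup_of_disjoint hdisj]
  exact (finrank_inv_eq r hrp y hy W hW).symm

theorem exists_params (Q : QuadraticForm F V) (hQ : (polarBilin Q).Nondegenerate)
    (hev : Even (finrank F V)) (y : V →ₗ[F] V) (hiso : ∀ v, Q (y v) = Q v) (r : ℕ) [Fact r.Prime]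
    (hrp : r ≠ p) (hr2 : r ≠ 2) (hy : y ^ r = 1) (hy1 : y ≠ 1) :
    ∃ τ β α γ : ℕ, Par (finrank F V) (orderOf ((Fintype.card F : ℕ) : ZMod r))
        ((r - 1) / orderOf ((Fintype.card F : ℕ) : ZMod r)) (IsPlus Q) τ β α γ ∧
      ∀ w₀ t', w₀ ≤ τ → t' ≤ β →
        FixTS Q y (w₀ + orderOf ((Fintype.card F : ℕ) : ZMod r) * t') := by
  classical
  have hrprime : r.Prime := Fact.out
  have hr1 : 1 ≤ r := hrprime.one_lt.le
  have hr0 : (r : F) ≠ 0 := cast_ne_zero_of_ne r hrp
  set i := orderOf ((Fintype.card F : ℕ) : ZMod r) with hi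
  have hi1 : 1 ≤ i := order_pos r hrp
  have hss := isSemisimple_of_pow_eq_one r hrp y hy
  have hc := isCompl_ker r hrp y hy
  have hcycinv : Inv y (cycS y r) := inv_ker_aeval y _
  have hfixinv : Inv y (fixS y) := inv_ker_aeval y _
  have hfc : Disjoint (fixS y) (cycS y r) := hc.disjoint
  obtain ⟨W₀, hW₀inv, hW₀ts, hW₀max⟩ := up_exists_max Q y
  have htopinv : Inv y (⊤ : Submodule F V) := fun x _ => Submodule.mem_top
  obtain ⟨A, hAle, hAinv, hAnd, hdisj, hAdim⟩ :=
    exists_peel hQ hiso r hrp hy (ndeg_top hQ) htopinv le_top hW₀inv hW₀ts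
  have hAperp : A ≤ perp Q W₀ := hAle.trans inf_le_right
  rw [finrank_top] at hAdim
  -- no invariant totally singular subspace in `A`
  have hnoTS : ∀ T : Submodule F V, T ≤ A → Inv y T → IsTS Q T → T = ⊥ := by
    intro T hTA hTinv hTts
    have h1 : IsTS Q (W₀ ⊔ T) := isTS_sup hW₀ts hTts (le_perp_comm (hTA.trans hAperp))
    have h2 := hW₀max (W₀ ⊔ T) (hW₀inv.sup hTinv) h1 le_sup_left
    have h3 : T ≤ W₀ := by
      rw [← h2]
      exact le_sup_right
    exact eq_bot_iff.2 (fun x hx =>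
      (Submodule.mem_bot F).2 (Submodule.disjoint_def.1 hdisj x (h3 hx) (hTA hx)))
  -- the four pieces
  set A₁ := A ⊓ fixS y with hA₁
  set A₂ := A ⊓ cycS y r with hA₂
  set Z₁ := W₀ ⊓ fixS y with hZ₁
  set Z₂ := W₀ ⊓ cycS y r with hZ₂
  have hA₂inv : Inv y A₂ := hAinv.inf hcycinv
  have hZ₂inv : Inv y Z₂ := hW₀inv.inf hcycinv
  have hAsplit : finrank F A = finrank F A₂ + finrank F A₁ := finrank_inv_eq r hrp y hy A hAinv
  have hWsplit : finrank F W₀ = finrank F Z₂ + finrank F Z₁ :=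
    finrank_inv_eq r hrp y hy W₀ hW₀inv
  obtain ⟨γ, hγ⟩ := order_dvd_finrank_inf r hrp y hy A hAinv
  obtain ⟨β, hβ⟩ := order_dvd_finrank_inf r hrp y hy W₀ hW₀inv
  rw [← hi, ← hA₂] at hγ
  rw [← hi, ← hZ₂] at hβ
  have hAsup : A₂ ⊔ A₁ = A := up_inf_sup_inf r hrp y hy A hAinv
  have hA12 : A₁ ≤ perp Q A₂ := by
    intro u hu
    rw [mem_perp_iff]
    intro w hw
    rw [polar_comm]
    exact polar_fix_cyc hiso hrprime hr0 hu.2 hw.2
  have hA₁nd : NDeg Q A₁ := by
    apply up_ndeg_of_sup (W₂ := A₂) _ hA12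
    rw [sup_comm, hAsup]
    exact hAnd
  have hA₂nd : NDeg Q A₂ := by
    apply up_ndeg_of_sup (W₂ := A₁) _ (le_perp_comm hA12)
    rw [hAsup]
    exact hAnd
  -- `A₁` is anisotropic
  have hA₁aniso : ∀ v ∈ A₁, Q v = 0 → v = 0 := by
    intro v hv hQv
    have hyv : y v = v := (mem_fixS v).1 hv.2
    have h1 : Submodule.span F {v} = ⊥ := by
      apply hnoTS
      · rw [Submodule.span_singleton_le_iff_mem]
        exact hv.1
      · intro x hx
        obtain ⟨c, rfl⟩ := Submodule.mem_span_singleton.1 hx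
        rw [map_smul, hyv]
        exact Submodule.smul_mem _ c (Submodule.mem_span_singleton_self v)
      · intro x hx
        obtain ⟨c, rfl⟩ := Submodule.mem_span_singleton.1 hx
        rw [QuadraticMap.map_smul, hQv, smul_zero]
    exact Submodule.span_singleton_eq_bot.1 h1
  have hα2 : finrank F A₁ ≤ 2 := by
    by_contra hcon
    obtain ⟨T, hTA, hTts, hTd⟩ := exists_isTS_of_ndeg hA₁nd 1 (by omega)
    have hTne : T ≠ ⊥ := by
      intro h0
      rw [h0, finrank_bot] at hTd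
      omega
    obtain ⟨v, hvT, hv0⟩ := Submodule.exists_mem_ne_zero_of_ne_bot hTne
    exact hv0 (hA₁aniso v (hTA hvT) (hTts v hvT))
  -- `i` odd forces `γ = 0`
  have hγodd : Odd i → γ = 0 := by
    intro hiodd
    by_contra hγ0
    have hne : A₂ ≠ ⊥ := by
      intro h0
      rw [h0, finrank_bot] at hγ
      rcases Nat.eq_zero_or_pos γ with h | h
      · exact hγ0 h
      · have := Nat.mul_pos hi1 h
        omega
    obtain ⟨Z, hZle, hZinv, hZd⟩ := hmin_cyclotomic r hrp y A₂ inf_le_right hA₂inv hne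
    have hZts := up_isTS_of_odd hiso r hrp hr2 hy Z (hZle.trans inf_le_right) hZinv hZd hiodd
    have := hnoTS Z (hZle.trans inf_le_left) hZinv hZts
    rw [this, finrank_bot] at hZd
    omega
  have hiγ : Even (i * γ) := by
    rcases Nat.even_or_odd i with h | h
    · exact h.mul_right γ
    · rw [hγodd h, mul_zero]
      exact ⟨0, rfl⟩
  have hdimV : finrank F V = 2 * finrank F Z₁ + 2 * i * β + finrank F A₁ + i * γ := by
    rw [← hAdim, hAsplit, hWsplit, hγ, hβ]
    ring
  have hαev : Even (finrank F A₁) := by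
    obtain ⟨c, hc⟩ := hiγ
    obtain ⟨e, he⟩ := hev
    have h1 : finrank F A₁ = 2 * e - (2 * finrank F Z₁ + 2 * (i * β) + 2 * c) := by
      have : 2 * i * β = 2 * (i * β) := by ring
      omega
    rw [h1, ← Nat.mul_add, ← Nat.mul_add, ← Nat.mul_sub]
    exact even_two_mul _
  have hα : finrank F A₁ = 0 ∨ finrank F A₁ = 2 := by
    obtain ⟨c, hc⟩ := hαev
    omega
  -- `γ ≤ t`
  have hγt : γ ≤ (r - 1) / i := by
    have h1 : finrank F A₂ ≤ r - 1 := by
      by_contra hcon
      obtain ⟨Z, hZle, hZinv, hZts, hZd⟩ :=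
        up_exists_isTS_inv_of_large hiso r hrp hr2 hy A₂ inf_le_right hA₂inv (by omega)
      have := hnoTS Z (hZle.trans inf_le_left) hZinv hZts
      rw [this, finrank_bot] at hZd
      omega
    rw [Nat.le_div_iff_mul_le (by omega)]
    rw [hγ, mul_comm] at h1
    exact h1
  -- `1 ≤ 2 β + γ`
  have hone : 1 ≤ 2 * β + γ := by
    by_contra hcon
    have hβ0 : β = 0 := by omega
    have hγ0 : γ = 0 := by omega
    rw [hβ0, mul_zero] at hβ
    rw [hγ0, mul_zero] at hγ
    have hZ₂bot : Z₂ = ⊥ := Submodule.finrank_eq_zero.1 hβ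
    have hA₂bot : A₂ = ⊥ := Submodule.finrank_eq_zero.1 hγ
    have hW₀fix : W₀ ≤ fixS y := by
      have := up_inf_sup_inf r hrp y hy W₀ hW₀inv
      rw [← hZ₂, hZ₂bot, bot_sup_eq] at this
      rw [← this]
      exact inf_le_right
    have hAfix : A ≤ fixS y := by
      rw [hA₂bot, bot_sup_eq] at hAsup
      rw [← hAsup]
      exact inf_le_right
    have hperp : perp Q W₀ = W₀ ⊔ A := by
      symm
      apply Submodule.eq_of_le_of_finrank_eq (sup_le (le_orthogonal_of_isTS hW₀ts) hAperp)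
      rw [finrank_sup_of_disjoint hdisj]
      have := finrank_perp_add hQ W₀
      omega
    have h1 : cycS y r ≤ W₀ := by
      rw [cycS_eq_perp hQ hiso r hrp hy, ← perp_perp hQ W₀]
      apply LinearMap.BilinForm.orthogonal_le
      rw [hperp]
      exact sup_le hW₀fix hAfix
    have h2 : cycS y r = ⊥ :=
      eq_bot_iff.2 (fun x hx =>
        (Submodule.mem_bot F).2 (Submodule.disjoint_def.1 hfc x (hW₀fix (h1 hx)) hx))
    have h3 : fixS y = ⊤ := by
      have h4 : fixS y ⊔ cycS y r = ⊤ := hc.sup_eq_top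
      rwa [h2, sup_bot_eq] at h4
    apply hy1
    apply LinearMap.ext
    intro v
    rw [Module.End.one_apply]
    exact (mem_fixS v).1 (by rw [h3]; exact Submodule.mem_top)
  -- the type
  have htype : IsPlus Q ↔ (finrank F A₁ = 0 ↔ Even γ) := by
    rw [up_isPlus_iff_plusS_top]
    have hpA : finrank F ↥(perp Q A) = 2 * finrank F W₀ := by
      have := finrank_perp_add hQ A
      omega
    have hevA : Even (finrank F A) := by
      rw [hAsplit, hγ]
      exact hiγ.add hαev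
    obtain ⟨-, -, h1⟩ := Cfsg.Agent.Lib.Helper2.OrthCf.plusS_sup (hAnd.perp hQ) hAnd le_rfl
      (by rw [hpA]; exact even_two_mul _) hevA
    have htop : perp Q A ⊔ A = ⊤ := by
      rw [sup_comm]
      exact hAnd.isCompl.sup_eq_top
    rw [htop] at h1
    have hpp : PlusS Q (perp Q A) :=
      ⟨W₀, le_perp_comm hAperp, hW₀ts, by rw [hpA]⟩
    have h2 : PlusS Q (⊤ : Submodule F V) ↔ PlusS Q A := by
      rw [h1]
      exact ⟨fun h => h.1 hpp, fun h => ⟨fun _ => h, fun _ => hpp⟩⟩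
    rw [h2]
    obtain ⟨-, -, h3⟩ := Cfsg.Agent.Lib.Helper2.OrthCf.plusS_sup hA₁nd hA₂nd hA12 hαev
      (by rw [hγ]; exact hiγ)
    rw [sup_comm, hAsup] at h3
    rw [h3]
    have h4 : PlusS Q A₁ ↔ finrank F A₁ = 0 := by
      constructor
      · rintro ⟨U, hUA, hU, hUd⟩
        have hU0 : U = ⊥ :=
          eq_bot_iff.2 (fun x hx => (Submodule.mem_bot F).2 (hA₁aniso x (hUA hx) (hU x hx)))
        rw [hU0, finrank_bot] at hUd
        omega
      · exact up_plusS_of_finrank_eq_zero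
    have h5 : PlusS Q A₂ ↔ Even γ := by
      rcases Nat.even_or_odd i with h | h
      · exact up_plusS_cyc_iff hiso r hrp hr2 hy A₂ inf_le_right hA₂inv hA₂nd h γ hγ
      · have hγ0 := hγodd h
        rw [hγ0, mul_zero] at hγ
        rw [hγ0]
        exact ⟨fun _ => ⟨0, rfl⟩, fun _ => up_plusS_of_finrank_eq_zero hγ⟩
    rw [h4, h5]
  refine ⟨finrank F Z₁, β, finrank F A₁, γ, ⟨hdimV, hα, hγt, hγodd, hone, htype⟩, ?_⟩
  -- the invariant totally singular subspaces
  intro w₀ t' hw₀ ht'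
  obtain ⟨E₁, hE₁le, hE₁d⟩ := exists_sub_finrank Z₁ w₀ hw₀
  obtain ⟨W₁, hW₁le, hW₁inv, hW₁d⟩ := (exists_inv_mul y hss i hi1 Z₂ hZ₂inv
    (fun Z hZ hZinv hZne => hmin_cyclotomic r hrp y Z (hZ.trans inf_le_right) hZinv hZne)).2 t'
    (by rw [hβ]; exact Nat.mul_le_mul_left i ht')
  have hE₁inv : Inv y E₁ := by
    intro v hv
    rw [(mem_fixS v).1 (hE₁le hv).2]
    exact hv
  have hd : Disjoint E₁ W₁ :=
    hfc.mono (hE₁le.trans inf_le_right) (hW₁le.trans inf_le_right)
  refine ⟨E₁ ⊔ W₁, ?_, ?_, hE₁inv.sup hW₁inv⟩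
  · rw [finrank_sup_of_disjoint hd, hE₁d, hW₁d]
  · intro w hw
    exact hW₀ts w ((sup_le (hE₁le.trans inf_le_left) (hW₁le.trans inf_le_left)) hw)

end main

end Cfsg.Agent.Lib.Helper7.TSO
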