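import Mathlib
import Cfsg.Agent.Lib.Helper7.TSO_UP3
import Cfsg.Agent.Lib.Helper2.OrthElO
import Cfsg.Agent.Lib.Helper2.OrthCfD
import Cfsg.Agent.Lib.Helper5.OrthCls8

/-!
S5973 / S5987, PK-LOW part 1: characteristic-free model spaces (helper2's `QIso` framework):
irreducible self-dual blocks (helper5's `oreal_self`), sums of pairwise non-isomorphic blocks,
the fixed part with prescribed Witt index, and the model with parameters `(τ, β, α, γ)`.
-/

set_option autoImplicit false

namespace Cfsg.Agent.Lib.Helper7.TSO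

open Module QuadraticMap Polynomial
open Cfsg.Agent.Lib.Helper2.MaxTS2 Cfsg.Agent.Lib.Helper2.OrthEl Cfsg.Agent.Lib.Helper2.OrthNd
open Cfsg.Agent.H9SemiInv
open Cfsg.Agent.Lib.Helper9.H9Elus
open Cfsg.Agent.Lib.Helper5.OrthCls (IsPlus)
open Cfsg.Agent.Lib.Helper5.QuadGlue

universe u

section blocks

variable {F : Type u} [Field F] [Fintype F] {p : ℕ} [Fact p.Prime] [CharP F p]

open QIso

/-- the irreducible self-dual block for `i` even (any characteristic) -/
theorem low_exists_self (r : ℕ) [Fact r.Prime] (hrp : r ≠ p) (hr2 : r ≠ 2)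
    (g : F[X]) (hg : Irreducible g) (hgm : g.Monic) (hgd : g ∣ cyclotomic r F)
    (hev : Even (orderOf ((Fintype.card F : ℕ) : ZMod r))) :
    ∃ B : QIso F, B.Good r ∧ B.Ann g ∧
      finrank F B.V = orderOf ((Fintype.card F : ℕ) : ZMod r) := by
  have hmem : g ∈ Cfsg.Agent.Lib.Helper5.SSOrder.cycFactors r F :=
    Cfsg.Agent.Lib.Helper5.SSOrder.mem_cycFactors.2 ⟨hgm, hg, hgd⟩
  obtain ⟨V, i1, i2, i3, Q, A, k, h1, h2, -, -, -, h6, -⟩ :=
    Cfsg.Agent.Lib.Helper5.OrthCls.oreal_self (F := F) (p := p) (q := Fintype.card F) rfl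
      (Fact.out : r.Prime) hrp hr2 hev hmem
  have hann : aeval A g = 0 := by
    rw [← h6]
    exact LinearMap.aeval_self_charpoly A
  have hgX : g ∣ (X ^ r - 1 : F[X]) :=
    hgd.trans (cyclotomic.dvd_X_pow_sub_one r F)
  refine ⟨{ V := V, Q := Q, y := A }, ⟨h1, h2, ?_⟩, hann, ?_⟩
  · exact pow_eq_one_of_ann (A := { V := V, Q := Q, y := A }) hann hgX
  · show finrank F V = _
    rw [← LinearMap.charpoly_natDegree A, h6]
    exact natDegree_of_dvd_cyclotomic r hrp g hg hgd

/-- a sum of pairwise non-isomorphic irreducible self-dual blocks has no nonzero invariant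
totally singular subspace (any characteristic) -/
theorem low_exists_singletons (r : ℕ) [Fact r.Prime] (hrp : r ≠ p) (hr2 : r ≠ 2)
    (hev : Even (orderOf ((Fintype.card F : ℕ) : ZMod r))) (S : Finset F[X])
    (hS : ∀ g ∈ S, Irreducible g ∧ g ∣ cyclotomic r F ∧ g.Monic) :
    ∃ B : QIso F, B.Good r ∧ B.Ann (∏ g ∈ S, g) ∧ B.Ann (cyclotomic r F) ∧
      finrank F B.V = orderOf ((Fintype.card F : ℕ) : ZMod r) * S.card ∧
      ∀ n ∈ B.TSset, n = 0 := by
  classical
  have hi1 : 1 ≤ orderOf ((Fintype.card F : ℕ) : ZMod r) := order_pos r hrp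
  induction S using Finset.induction_on with
  | empty =>
    refine ⟨triv F, triv_good r, triv_ann _, triv_ann _, ?_, ?_⟩
    · rw [triv_finrank, Finset.card_empty, mul_zero]
    · rintro n ⟨T, -, -, rfl⟩
      have := Submodule.finrank_le T
      rw [triv_finrank] at this
      omega
  | insert g S hgS ih =>
    obtain ⟨B, hB, hBann, hBcyc, hBdim, hBts⟩ :=
      ih (fun g' hg' => hS g' (Finset.mem_insert_of_mem hg'))
    obtain ⟨hgirr, hgd, hgn⟩ := hS g (Finset.mem_insert_self g S)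
    obtain ⟨H, hH, hHann, hHdim⟩ := low_exists_self r hrp hr2 g hgirr hgn hgd hev
    have hHcyc : H.Ann (cyclotomic r F) := ann_of_dvd hHann hgd
    refine ⟨B.prod H, prod_good hB hH, ?_, prod_ann_same hBcyc hHcyc, ?_, ?_⟩
    · rw [Finset.prod_insert hgS, mul_comm]
      exact prod_ann hBann hHann
    · rw [QIso.finrank_prod, hBdim, hHdim, Finset.card_insert_of_notMem hgS]
      ring
    · intro n hn
      have hcop : IsCoprime (∏ g' ∈ S, g') g := by
        apply IsCoprime.prod_left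
        intro g' hg'
        obtain ⟨h1, -, h3⟩ := hS g' (Finset.mem_insert_of_mem hg')
        apply isCoprime_of_ne hgirr h1 hgn h3
        rintro rfl
        exact hgS hg'
      obtain ⟨n₁, hn₁, n₂, hn₂, rfl⟩ := TSset_prod hBann hHann hcop hn
      have e1 := hBts n₁ hn₁
      obtain ⟨⟨c, hc⟩, hle⟩ := TSset_free r hrp hH hHcyc hn₂
      rw [hHdim] at hle
      have e2 : n₂ = 0 := by
        rcases Nat.eq_zero_or_pos c with h0 | h0
        · rw [hc, h0, mul_zero]
        · exfalso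
          have : orderOf ((Fintype.card F : ℕ) : ZMod r) ≤ n₂ := by
            rw [hc]
            exact Nat.le_mul_of_pos_right _ h0
          omega
      rw [e1, e2]

/-- the fixed part: Witt index `τ`, anisotropic kernel of dimension `α ∈ {0, 2}` -/
theorem low_exists_fixed (r τ α : ℕ) (hα : α = 0 ∨ α = 2) :
    ∃ E : QIso F, E.Good r ∧ E.Ann (X - 1 : F[X]) ∧ finrank F E.V = 2 * τ + α ∧
      (IsPlus E.Q ↔ α = 0) ∧ ∀ n ∈ E.TSset, n ≤ τ := by
  rcases hα with rfl | rfl
  · set E : QIso F := { V := Fin τ ⊕ Fin τ → F, Q := QP τ F, y := LinearMap.id } with hE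
    have hgood : E.Good r := by
      refine ⟨Cfsg.Agent.Lib.Helper2.QuadStd.QP_nondeg τ, fun v => rfl, ?_⟩
      show (1 : Module.End F (Fin τ ⊕ Fin τ → F)) ^ r = 1
      exact one_pow r
    have hdim : finrank F E.V = 2 * τ + 0 := by
      show finrank F (Fin τ ⊕ Fin τ → F) = 2 * τ + 0
      rw [up_finrank_plus_space, add_zero]
    refine ⟨E, hgood, ?_, hdim, ?_, ?_⟩
    · show aeval (1 : Module.End F (Fin τ ⊕ Fin τ → F)) (X - 1 : F[X]) = 0
      rw [map_sub, aeval_X, map_one, sub_self]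
    · exact iff_of_true (Cfsg.Agent.Lib.Helper5.OrthCls.isPlus_QP τ) rfl
    · intro n hn
      have h1 := TSset_le_half hgood hn
      rw [hdim] at h1
      omega
  · obtain ⟨ζ, hζ⟩ := Cfsg.Agent.Lib.Helper5.OrthCls.exists_aniso (F := F)
    have hnd := Cfsg.Agent.Lib.Helper2.OrthCard.QMn_nondeg τ 1 ζ hζ
    set E : QIso F := { V := (Fin τ ⊕ Fin τ) ⊕ Fin 2 → F,
                        Q := Cfsg.Agent.Lib.Helper2.OrthCard.QMn τ 1 ζ,
                        y := LinearMap.id } with hE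
    have hgood : E.Good r := by
      refine ⟨hnd, fun v => rfl, ?_⟩
      show (1 : Module.End F ((Fin τ ⊕ Fin τ) ⊕ Fin 2 → F)) ^ r = 1
      exact one_pow r
    refine ⟨E, hgood, ?_, ?_, ?_, ?_⟩
    · show aeval (1 : Module.End F ((Fin τ ⊕ Fin τ) ⊕ Fin 2 → F)) (X - 1 : F[X]) = 0
      rw [map_sub, aeval_X, map_one, sub_self]
    · show finrank F ((Fin τ ⊕ Fin τ) ⊕ Fin 2 → F) = 2 * τ + 2
      rw [up_finrank_minus_space]
      ring
    · refine iff_of_false (Cfsg.Agent.Lib.Helper5.OrthCls.not_isPlus_QMn τ 1 ζ hζ) (by omega)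
    · rintro n ⟨T, -, hT, rfl⟩
      apply Cfsg.Agent.Lib.Helper5.OrthCls.finrank_le_of_totallySingular_minus' 1 ζ hζ T
      intro u hu
      rw [← Cfsg.Agent.Lib.Helper2.OrthCard.QMn_coe]
      exact hT u hu

end blocks

end Cfsg.Agent.Lib.Helper7.TSO
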