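import Mathlib
import Cfsg.Agent.Lib.Helper7.TSO_LOW1

/-!
S5973 / S5987, PK-LOW part 2: the model with parameters `(τ, β, α, γ)` and its transport to a
given nondegenerate quadratic space of the same dimension and type (`exists_model`).
-/

set_option autoImplicit false

namespace Cfsg.Agent.Lib.Helper7.TSO

open Module QuadraticMap Polynomial
open Cfsg.Agent.Lib.Helper2.MaxTS2 Cfsg.Agent.Lib.Helper2.OrthEl Cfsg.Agent.Lib.Helper2.OrthNd
open Cfsg.Agent.H9SemiInv
open Cfsg.Agent.Lib.Helper9.H9Elus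
open Cfsg.Agent.Lib.Helper5.OrthCls (IsPlus)

universe u

section model

variable {F : Type u} [Field F] [Fintype F] {p : ℕ} [Fact p.Prime] [CharP F p]

open QIso

/-- the fixed-point-free part of the model -/
theorem low_exists_cyc (r : ℕ) [Fact r.Prime] (hrp : r ≠ p) (hr2 : r ≠ 2) (β γ : ℕ)
    (hγt : γ ≤ (r - 1) / orderOf ((Fintype.card F : ℕ) : ZMod r))
    (hγodd : Odd (orderOf ((Fintype.card F : ℕ) : ZMod r)) → γ = 0) :
    ∃ C : QIso F, C.Good r ∧ C.Ann (cyclotomic r F) ∧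
      finrank F C.V = orderOf ((Fintype.card F : ℕ) : ZMod r) * (2 * β + γ) ∧
      ∀ n ∈ C.TSset, ∃ b, b ≤ β ∧ n = orderOf ((Fintype.card F : ℕ) : ZMod r) * b := by
  classical
  set i := orderOf ((Fintype.card F : ℕ) : ZMod r) with hi
  have hi1 : 1 ≤ i := order_pos r hrp
  -- the arithmetic conclusion from `TSset_free`
  have harith : ∀ (n D : ℕ), i ∣ n → 2 * n ≤ i * D → D ≤ 2 * β + 1 → ∃ b, b ≤ β ∧ n = i * b := by
    intro n D hdvd hle hD
    obtain ⟨b, rfl⟩ := hdvd
    refine ⟨b, ?_, rfl⟩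
    by_contra hcon
    have h1 : β + 1 ≤ b := by omega
    have h2 : i * (2 * (β + 1)) ≤ i * D := by
      calc i * (2 * (β + 1)) ≤ i * (2 * b) := Nat.mul_le_mul_left i (by omega)
        _ = 2 * (i * b) := by ring
        _ ≤ i * D := hle
    have h3 := Nat.le_of_mul_le_mul_left h2 (by omega)
    omega
  rcases Nat.even_or_odd i with hev | hodd
  · -- `i` even
    obtain ⟨S₀, hS₀, hcard⟩ := exists_factors (F := F) r hrp
    rw [← hi] at hcard
    have ht : (r - 1) / i = S₀.card := by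
      rw [← hcard]
      exact Nat.mul_div_cancel _ (by omega)
    rw [ht] at hγt
    have hpos : 0 < S₀.card := by
      rcases Nat.eq_zero_or_pos S₀.card with h0 | h0
      · exfalso
        rw [h0, zero_mul] at hcard
        have := (Fact.out : r.Prime).two_le
        omega
      · exact h0
    rcases Nat.eq_zero_or_pos γ with hγ0 | hγ0
    · -- homogeneous part only
      obtain ⟨g₁, hg₁⟩ := Finset.card_pos.1 hpos
      obtain ⟨hgirr, hgd, hgn⟩ := hS₀ g₁ hg₁
      obtain ⟨H, hH, hHann, hHdim⟩ := low_exists_self r hrp hr2 g₁ hgirr hgn hgd hev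
      obtain ⟨R, hR, hRann, hRdim⟩ := exists_pow H hH hHann (2 * β)
      have hRcyc : R.Ann (cyclotomic r F) := ann_of_dvd hRann hgd
      rw [← hi] at hHdim
      refine ⟨R, hR, hRcyc, ?_, ?_⟩
      · rw [hRdim, hHdim, hγ0, add_zero, mul_comm]
      · intro n hn
        obtain ⟨hdvd, hle⟩ := TSset_free r hrp hR hRcyc hn
        rw [hRdim, hHdim] at hle
        exact harith n (2 * β) hdvd (by rw [mul_comm i]; exact hle) (by omega)
    · -- `γ - 1` singletons and a homogeneous part of odd multiplicity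
      obtain ⟨S, hSS₀, hScard⟩ := Finset.exists_subset_card_eq hγt
      have hSpos : 0 < S.card := by omega
      obtain ⟨g₁, hg₁⟩ := Finset.card_pos.1 hSpos
      obtain ⟨hgirr, hgd, hgn⟩ := hS₀ g₁ (hSS₀ hg₁)
      obtain ⟨B, hB, hBann, hBcyc, hBdim, hBts⟩ := low_exists_singletons r hrp hr2 hev
        (S.erase g₁) (fun g hg => hS₀ g (hSS₀ (Finset.mem_of_mem_erase hg)))
      obtain ⟨H, hH, hHann, hHdim⟩ := low_exists_self r hrp hr2 g₁ hgirr hgn hgd hev
      obtain ⟨R, hR, hRann, hRdim⟩ := exists_pow H hH hHann (2 * β + 1)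
      have hRcyc : R.Ann (cyclotomic r F) := ann_of_dvd hRann hgd
      rw [← hi] at hHdim hBdim
      refine ⟨B.prod R, prod_good hB hR, prod_ann_same hBcyc hRcyc, ?_, ?_⟩
      · rw [QIso.finrank_prod, hBdim, hRdim, hHdim, Finset.card_erase_of_mem hg₁, hScard]
        have : γ - 1 + (2 * β + 1) = 2 * β + γ := by omega
        rw [mul_comm (2 * β + 1) i, ← mul_add, this]
      · intro n hn
        have hcop : IsCoprime (∏ g' ∈ S.erase g₁, g') g₁ := by
          apply IsCoprime.prod_left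
          intro g' hg'
          obtain ⟨h1, -, h3⟩ := hS₀ g' (hSS₀ (Finset.mem_of_mem_erase hg'))
          apply isCoprime_of_ne hgirr h1 hgn h3
          exact Finset.ne_of_mem_erase hg'
        obtain ⟨n₁, hn₁, n₂, hn₂, rfl⟩ := TSset_prod hBann hRann hcop hn
        rw [hBts n₁ hn₁, zero_add]
        obtain ⟨hdvd, hle⟩ := TSset_free r hrp hR hRcyc hn₂
        rw [hRdim, hHdim] at hle
        exact harith n₂ (2 * β + 1) hdvd (by rw [mul_comm i]; exact hle) le_rfl
  · -- `i` odd: pair blocks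
    have hγ0 := hγodd hodd
    obtain ⟨P, hP, hPann, hPdim⟩ := exists_pair (F := F) r hrp
    obtain ⟨R, hR, hRann, hRdim⟩ := exists_pow P hP hPann β
    rw [← hi] at hPdim
    refine ⟨R, hR, hRann, ?_, ?_⟩
    · rw [hRdim, hPdim, hγ0]
      ring
    · intro n hn
      obtain ⟨hdvd, hle⟩ := TSset_free r hrp hR hRann hn
      rw [hRdim, hPdim] at hle
      exact harith n (2 * β) hdvd (by
        calc 2 * n ≤ β * (2 * i) := hle
          _ = i * (2 * β) := by ring) (by omega)

/-- the model with parameters `(τ, β, α, γ)` -/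
theorem low_exists_model (r : ℕ) [Fact r.Prime] (hrp : r ≠ p) (hr2 : r ≠ 2) (τ β α γ : ℕ)
    (hα : α = 0 ∨ α = 2)
    (hγt : γ ≤ (r - 1) / orderOf ((Fintype.card F : ℕ) : ZMod r))
    (hγodd : Odd (orderOf ((Fintype.card F : ℕ) : ZMod r)) → γ = 0)
    (hone : 1 ≤ 2 * β + γ) :
    ∃ M : QIso F, M.Good r ∧
      finrank F M.V = 2 * τ + 2 * orderOf ((Fintype.card F : ℕ) : ZMod r) * β + α +
        orderOf ((Fintype.card F : ℕ) : ZMod r) * γ ∧
      M.y ≠ 1 ∧ (IsPlus M.Q ↔ (α = 0 ↔ Even γ)) ∧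
      ∀ n ∈ M.TSset, Good n (orderOf ((Fintype.card F : ℕ) : ZMod r)) τ β := by
  set i := orderOf ((Fintype.card F : ℕ) : ZMod r) with hi
  have hi1 : 1 ≤ i := order_pos r hrp
  obtain ⟨E, hE, hEann, hEdim, hEtype, hEts⟩ := low_exists_fixed (F := F) r τ α hα
  obtain ⟨C, hC, hCann, hCdim, hCts⟩ := low_exists_cyc r hrp hr2 β γ hγt hγodd
  rw [← hi] at hCdim hCts
  have hCpos : 0 < finrank F C.V := by
    rw [hCdim]
    exact Nat.mul_pos hi1 hone
  have hiγ : Even (i * (2 * β + γ)) := by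
    rcases Nat.even_or_odd i with h | h
    · exact h.mul_right _
    · rw [hγodd h, add_zero]
      exact (even_two_mul β).mul_left i
  have hCtype : IsPlus C.Q ↔ Even γ := by
    rw [up_isPlus_iff_plusS_top]
    have htopinv : Inv C.y (⊤ : Submodule F C.V) := fun v _ => Submodule.mem_top
    have htop : (⊤ : Submodule F C.V) ≤ cycS C.y r := by rw [cycS_eq_top hCann]
    rcases Nat.even_or_odd i with h | h
    · rw [up_plusS_cyc_iff hC.2.1 r hrp hr2 hC.2.2 ⊤ htop htopinv (ndeg_top hC.1) h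
        (2 * β + γ) (by rw [finrank_top, hCdim])]
      rw [Nat.even_add]
      exact ⟨fun h1 => h1.1 (even_two_mul β), fun h1 => ⟨fun _ => h1, fun _ => even_two_mul β⟩⟩
    · rw [hγodd h]
      refine iff_of_true ?_ ⟨0, rfl⟩
      exact Cfsg.Agent.Lib.Helper2.OrthCf.plusS_of_odd' hC.1 hC.2.1 r hrp hr2 hC.2.2 h ⊤ htop
        htopinv (ndeg_top hC.1)
  refine ⟨E.prod C, prod_good hE hC, ?_, ?_, ?_, ?_⟩
  · rw [QIso.finrank_prod, hEdim, hCdim]
    ring
  · intro h1
    apply ne_one_of_free r hrp hC hCann hCpos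
    apply LinearMap.ext
    intro v
    have := congrArg (fun f : (E.prod C).V →ₗ[F] (E.prod C).V => (f (0, v)).2) h1
    exact this
  · have h1 : IsPlus (E.prod C).Q ↔ (IsPlus E.Q ↔ IsPlus C.Q) :=
      Cfsg.Agent.Lib.Helper5.OrthCls.isPlus_prod_iff hE.1 hC.1
        (by
          rw [hEdim]
          rcases hα with h | h <;> rw [h]
          · exact ⟨τ, by ring⟩
          · exact ⟨τ + 1, by ring⟩)
        (by rw [hCdim]; exact hiγ)
    rw [h1, hEtype, hCtype]
  · intro n hn
    obtain ⟨n₁, hn₁, n₂, hn₂, rfl⟩ := TSset_prod hEann hCann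
      (isCoprime_X_sub_one_cyclotomic (F := F) r hrp) hn
    obtain ⟨b, hb, rfl⟩ := hCts n₂ hn₂
    exact ⟨n₁, b, hEts n₁ hn₁, hb, rfl⟩

end model

section transport

variable {F : Type u} [Field F] [Fintype F] {p : ℕ} [Fact p.Prime] [CharP F p]
variable {V : Type u} [AddCommGroup V] [Module F V] [FiniteDimensional F V]

theorem exists_model (Q : QuadraticForm F V) (hQ : (polarBilin Q).Nondegenerate)
    (r : ℕ) [Fact r.Prime] (hrp : r ≠ p) (hr2 : r ≠ 2) (τ β α γ : ℕ)
    (hpar : Par (finrank F V) (orderOf ((Fintype.card F : ℕ) : ZMod r))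
        ((r - 1) / orderOf ((Fintype.card F : ℕ) : ZMod r)) (IsPlus Q) τ β α γ) :
    ∃ y : V →ₗ[F] V, (∀ v, Q (y v) = Q v) ∧ y ^ r = 1 ∧ y ≠ 1 ∧
      ∀ m, FixTS Q y m → Good m (orderOf ((Fintype.card F : ℕ) : ZMod r)) τ β := by
  obtain ⟨hdim, hα, hγt, hγodd, hone, htype⟩ := hpar
  set i := orderOf ((Fintype.card F : ℕ) : ZMod r) with hi
  obtain ⟨M, hM, hMdim, hMne, hMtype, hMts⟩ :=
    low_exists_model (F := F) r hrp hr2 τ β α γ hα hγt hγodd hone
  rw [← hi] at hMdim hMts
  have hev : Even (finrank F V) := by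
    have hiγ : Even (i * γ) := by
      rcases Nat.even_or_odd i with h | h
      · exact h.mul_right _
      · rw [hγodd h, mul_zero]
        exact ⟨0, rfl⟩
    obtain ⟨c, hc⟩ := hiγ
    rw [hdim, hc]
    rcases hα with h | h <;> rw [h]
    · exact ⟨τ + i * β + c, by ring⟩
    · exact ⟨τ + i * β + 1 + c, by ring⟩
  obtain ⟨g, hg⟩ := Cfsg.Agent.Lib.Helper5.OrthCls.iso_of_type Q M.Q hQ hM.1
    (by rw [hdim, hMdim]) hev (by rw [htype, hMtype])
  set y : V →ₗ[F] V := (g.symm : M.V →ₗ[F] V) ∘ₗ M.y ∘ₗ (g : V →ₗ[F] M.V) with hy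
  have hya : ∀ v, y v = g.symm (M.y (g v)) := fun v => rfl
  have hgy : ∀ v, g (y v) = M.y (g v) := by
    intro v
    rw [hya, LinearEquiv.apply_symm_apply]
  have hpow : ∀ (j : ℕ) (v : V), (y ^ j) v = g.symm ((M.y ^ j) (g v)) := by
    intro j
    induction j with
    | zero =>
      intro v
      rw [pow_zero, pow_zero, Module.End.one_apply, Module.End.one_apply,
        LinearEquiv.symm_apply_apply]
    | succ j ih =>
      intro v
      rw [pow_succ, Module.End.mul_apply, ih, hgy, pow_succ, Module.End.mul_apply]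
  refine ⟨y, ?_, ?_, ?_, ?_⟩
  · intro v
    rw [← hg (y v), hgy, hM.2.1, hg]
  · apply LinearMap.ext
    intro v
    rw [hpow, hM.2.2, Module.End.one_apply, Module.End.one_apply, LinearEquiv.symm_apply_apply]
  · intro h1
    apply hMne
    apply LinearMap.ext
    intro w
    have h2 := hgy (g.symm w)
    rw [h1, Module.End.one_apply, LinearEquiv.apply_symm_apply] at h2
    rw [Module.End.one_apply]
    exact h2.symm
  · rintro m ⟨W, hWd, hWts, hWinv⟩
    apply hMts
    refine ⟨W.map (g : V →ₗ[F] M.V), ?_, ?_, ?_⟩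
    · rintro _ ⟨w, hw, rfl⟩
      refine ⟨y w, hWinv w hw, ?_⟩
      exact hgy w
    · rintro _ ⟨w, hw, rfl⟩
      show M.Q (g w) = 0
      rw [hg]
      exact hWts w hw
    · rw [← hWd]
      exact LinearEquiv.finrank_map_eq g W

end transport

end Cfsg.Agent.Lib.Helper7.TSO
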