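import Mathlib
import Cfsg.Agent.Lib.Helper7.TSO_UP3
import Cfsg.Agent.Lib.Helper7.TSO_LOW2
import Cfsg.Agent.Lib.Helper2.OrthElF
import Cfsg.Agent.Lib.Helper5.OmegaCrit

/-!
S5973 / S5987: the row for odd `r ≠ p` in parameter form: every element of `Ω` of order `r` (mod
scalars) fixes a totally singular `m`-space iff every admissible parameter tuple is good for `m`.
-/

set_option autoImplicit false
open scoped MatrixGroups

namespace Cfsg.Agent.Lib.Helper7.TSO

open Module QuadraticMap Polynomial
open Cfsg.Agent.Lib.Helper5.OrthCls (IsPlus)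

universe u

section bridge
variable {F : Type u} [Field F] [Fintype F] {p : ℕ} [Fact p.Prime] [CharP F p]
variable {ι : Type} [Fintype ι] [DecidableEq ι]

/-- a nondegenerate quadratic form on a nonzero space takes a nonzero value -/
theorem exists_ne_zero (Q : QuadraticForm F (ι → F)) (hQ : (polarBilin Q).Nondegenerate)
    (hι : 0 < Fintype.card ι) : ∃ v, Q v ≠ 0 := by
  by_contra hcon
  push Not at hcon
  have : Nonempty ι := Fintype.card_pos_iff.1 hι
  obtain ⟨j⟩ := ‹Nonempty ι›
  have hv : (Pi.single j (1 : F) : ι → F) ≠ 0 := by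
    intro h
    have := congrFun h j
    simp at this
  apply hv
  apply hQ.1
  intro w
  show polar (⇑Q) _ w = 0
  unfold polar
  rw [hcon, hcon, hcon]; simp

/-- the row for odd `r ≠ p` in parameter form -/
theorem row_odd_iff (Q : QuadraticForm F (ι → F)) (hQ : (polarBilin Q).Nondegenerate)
    (hcard : 8 ≤ Fintype.card ι) (hev : Even (Fintype.card ι)) (r : ℕ) [Fact r.Prime]
    (hrp : r ≠ p) (hr2 : 2 < r) (m : ℕ) :
    (∀ x : GL ι F, x ∈ Cfsg.Geo.omegaGL ⇑Q →
      (∃ z : F, ((x ^ r : GL ι F) : Matrix ι ι F) = z • (1 : Matrix ι ι F)) →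
      (∀ z : F, (x : Matrix ι ι F) ≠ z • (1 : Matrix ι ι F)) →
      ∃ W : Submodule F (ι → F), finrank F W = m ∧ (∀ w ∈ W, Q w = 0) ∧
        W.map (Matrix.toLin' (x : Matrix ι ι F)) ≤ W) ↔
    ∀ τ β α γ : ℕ, Par (Fintype.card ι) (orderOf ((Fintype.card F : ℕ) : ZMod r))
        ((r - 1) / orderOf ((Fintype.card F : ℕ) : ZMod r)) (IsPlus Q) τ β α γ →
      Good m (orderOf ((Fintype.card F : ℕ) : ZMod r)) τ β := by
  have hr := (Fact.out : r.Prime)
  have hrodd : Odd r := hr.odd_of_ne_two (by omega)
  have hfr : finrank F (ι → F) = Fintype.card ι := Module.finrank_fintype_fun_eq_card F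
  obtain ⟨v₀, hv₀⟩ := exists_ne_zero Q hQ (by omega)
  constructor
  · intro hall τ β α γ hpar
    rw [← hfr] at hpar
    obtain ⟨y, hiso, hyr, hy1, hgood⟩ := exists_model Q hQ r hrp (by omega) τ β α γ hpar
    apply hgood
    -- the matrix of `y`
    set A : Matrix ι ι F := LinearMap.toMatrix' y with hA
    have hAr : A ^ r = 1 := by
      apply Matrix.toLin'.injective
      rw [Matrix.toLin'_pow, hA, Matrix.toLin'_toMatrix', hyr, Matrix.toLin'_one]
      rfl
    have hr1 : r = (r - 1) + 1 := by have := hr.one_lt; omega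
    have hAA : A * A ^ (r - 1) = 1 := by rw [← pow_succ', ← hr1, hAr]
    have hAA' : A ^ (r - 1) * A = 1 := by rw [← pow_succ, ← hr1, hAr]
    set x : GL ι F := ⟨A, A ^ (r - 1), hAA, hAA'⟩ with hx
    have hxr : x ^ r = 1 := by
      apply Units.ext
      rw [Units.val_pow_eq_pow_val]
      exact hAr
    have hxiso : x ∈ Cfsg.isometryGroup F ⇑Q := by
      intro u w
      show Q (A.mulVec u) = Q u
      rw [hA, LinearMap.toMatrix'_mulVec]
      exact hiso u
    have hxcomm : (⟨x, hxiso⟩ : ↥(Cfsg.isometryGroup F ⇑Q)) ∈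
        commutator ↥(Cfsg.isometryGroup F ⇑Q) := by
      obtain ⟨k, hk⟩ := hrodd
      set g : ↥(Cfsg.isometryGroup F ⇑Q) := ⟨x, hxiso⟩ with hg
      have hgr : g ^ r = 1 := by
        apply Subtype.ext
        rw [Subgroup.coe_pow]
        exact hxr
      have h1 : g = g ^ (k + 1) * g ^ (k + 1) := by
        rw [← pow_add, show k + 1 + (k + 1) = r + 1 by omega, pow_succ, hgr, one_mul]
      rw [h1]
      exact Cfsg.Agent.Lib.Helper5.OmegaCrit.sq_mem_commutator hQ (Or.inr (by omega)) (by omega) _
    have hxom : x ∈ Cfsg.Geo.omegaGL ⇑Q := Subgroup.mem_map.2 ⟨⟨x, hxiso⟩, hxcomm, rfl⟩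
    have hns : ∀ z : F, (x : Matrix ι ι F) ≠ z • (1 : Matrix ι ι F) := by
      intro z hz
      have hyz : ∀ v, y v = z • v := by
        intro v
        have : A.mulVec v = (z • (1 : Matrix ι ι F)).mulVec v := by
          show (x : Matrix ι ι F).mulVec v = _
          rw [hz]
        rw [hA, LinearMap.toMatrix'_mulVec, Matrix.smul_mulVec, Matrix.one_mulVec] at this
        exact this
      have hz2 : z * z = 1 := by
        have h1 := hiso v₀
        rw [hyz, QuadraticMap.map_smul] at h1
        have : (z * z - 1) * Q v₀ = 0 := by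
          rw [sub_mul, one_mul, sub_eq_zero]; exact h1
        rcases mul_eq_zero.1 this with h | h
        · exact sub_eq_zero.1 h
        · exact absurd h hv₀
      have hzr : z ^ r = 1 := by
        have h1 : (y ^ r) v₀ = z ^ r • v₀ := by
          have : ∀ n : ℕ, (y ^ n) v₀ = z ^ n • v₀ := by
            intro n
            induction n with
            | zero => simp
            | succ n ih => rw [pow_succ', Module.End.mul_apply, ih, map_smul, hyz, smul_smul, pow_succ]
          exact this r
        rw [hyr, Module.End.one_apply] at h1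
        have hv0 : v₀ ≠ 0 := by
          rintro rfl
          exact hv₀ (map_zero _)
        have : (z ^ r - 1) • v₀ = 0 := by rw [sub_smul, one_smul, ← h1, sub_self]
        rcases smul_eq_zero.1 this with h | h
        · exact sub_eq_zero.1 h
        · exact absurd h hv0
      have hz1 : z = 1 := by
        obtain ⟨k, hk⟩ := hrodd
        have : z ^ r = z := by
          rw [hk, pow_succ, pow_mul, pow_two, hz2, one_pow, one_mul]
        rw [this] at hzr
        exact hzr
      apply hy1
      apply LinearMap.ext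
      intro v
      rw [hyz, hz1, one_smul, Module.End.one_apply]
    obtain ⟨W, hWm, hWts, hWinv⟩ := hall x hxom ⟨1, by rw [hxr, one_smul]; rfl⟩ hns
    refine ⟨W, hWm, hWts, ?_⟩
    intro w hw
    have h1 : Matrix.toLin' (x : Matrix ι ι F) w ∈ W := hWinv (Submodule.mem_map_of_mem hw)
    have h2 : Matrix.toLin' (x : Matrix ι ι F) = y := by
      show Matrix.toLin' A = y
      rw [hA, Matrix.toLin'_toMatrix']
    rwa [h2] at h1
  · intro hpar x hxom ⟨z, hz⟩ hns
    have hxiso := Cfsg.Agent.Lib.Helper2.OrthEl.mem_iso_of_mem_omegaGL hxom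
    set y₀ := Matrix.toLin' (x : Matrix ι ι F) with hy₀
    have hiso₀ : ∀ v, Q (y₀ v) = Q v := fun v =>
      Cfsg.Agent.Lib.Helper2.OrthEl.iso_apply hxiso v
    have hy₀r : y₀ ^ r = z • (1 : Module.End F (ι → F)) := by
      rw [hy₀, ← Matrix.toLin'_pow, ← Units.val_pow_eq_pow_val, hz, map_smul, Matrix.toLin'_one]
      rfl
    have hisopow : ∀ n : ℕ, ∀ v, Q ((y₀ ^ n) v) = Q v := by
      intro n
      induction n with
      | zero => intro v; simp
      | succ n ih => intro v; rw [pow_succ', Module.End.mul_apply, hiso₀, ih]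
    have hz2 : z * z = 1 := by
      have h1 := hisopow r v₀
      rw [hy₀r, LinearMap.smul_apply, Module.End.one_apply, QuadraticMap.map_smul] at h1
      have : (z * z - 1) * Q v₀ = 0 := by
        rw [sub_mul, one_mul, sub_eq_zero]; exact h1
      rcases mul_eq_zero.1 this with h | h
      · exact sub_eq_zero.1 h
      · exact absurd h hv₀
    have hz0 : z ≠ 0 := by
      rintro rfl
      simp at hz2
    set y : Module.End F (ι → F) := z • y₀ with hy
    have hiso : ∀ v, Q (y v) = Q v := by
      intro v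
      rw [hy, LinearMap.smul_apply, QuadraticMap.map_smul, hz2, one_smul]
      exact hiso₀ v
    have hyr : y ^ r = 1 := by
      rw [hy, _root_.smul_pow, hy₀r, smul_smul]
      obtain ⟨k, hk⟩ := hrodd
      have : z ^ r * z = 1 := by
        rw [hk, pow_succ, pow_mul, pow_two, hz2, one_pow, one_mul, hz2]
      rw [this, one_smul]
    have hy1 : y ≠ 1 := by
      intro h
      apply hns z
      have h1 : y₀ = z • (1 : Module.End F (ι → F)) := by
        have : z • y = z • (1 : Module.End F (ι → F)) := by rw [h]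
        rw [hy, smul_smul, hz2, one_smul] at this
        exact this
      have h2 : Matrix.toLin' (x : Matrix ι ι F) = Matrix.toLin' (z • (1 : Matrix ι ι F)) := by
        rw [map_smul, Matrix.toLin'_one]
        exact h1
      exact Matrix.toLin'.injective h2
    obtain ⟨τ, β, α, γ, hP, hfix⟩ := exists_params Q hQ (by rw [hfr]; exact hev) y hiso r hrp
      (by omega) hyr hy1
    rw [hfr] at hP
    obtain ⟨w₀, t', hw₀, ht', rfl⟩ := hpar τ β α γ hP
    obtain ⟨W, hWm, hWts, hWinv⟩ := hfix w₀ t' hw₀ ht'
    refine ⟨W, hWm, hWts, ?_⟩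
    rintro _ ⟨w, hw, rfl⟩
    have h1 : y w ∈ W := hWinv w hw
    have h2 : y₀ w = z • y w := by
      rw [hy, LinearMap.smul_apply, smul_smul, hz2, one_smul]
    show y₀ w ∈ W
    rw [h2]
    exact W.smul_mem z h1

end bridge

end Cfsg.Agent.Lib.Helper7.TSO
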