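import Mathlib
import Cfsg.Agent.Lib.Helper7.TSO_UP3
import Cfsg.Agent.Lib.Helper2.OrthElW
import Cfsg.Agent.Lib.Helper2.OrthCfA
import Cfsg.Agent.Lib.Helper5.OPar_SQMA
import Cfsg.Agent.Lib.Helper9.Elus4

/-!
S5973 / S5987, r = 2 (q odd), abstract part: invariant totally singular subspaces of isometries `y`
with `y² = 1` (joining totally singular subspaces of the two eigenspaces) and with `y² = -1`
(`-1` a square: eigenspaces; `-1` a nonsquare: peeling invariant totally singular planes), and the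
bad involution for `q ≡ 3 (mod 4)`.
-/

set_option autoImplicit false

namespace Cfsg.Agent.Lib.Helper7.TSO

open Module QuadraticMap Polynomial
open Cfsg.Agent.Lib.Helper2.MaxTS2 Cfsg.Agent.Lib.Helper2.OrthEl Cfsg.Agent.Lib.Helper2.OrthNd
open Cfsg.Agent.H9SemiInv
open Cfsg.Agent.Lib.Helper9.H9Elus

section invol

variable {F V : Type*} [Field F] [Finite F] [AddCommGroup V] [Module F V] [FiniteDimensional F V]
variable {Q : QuadraticForm F V} {y : V →ₗ[F] V}

/-- a nondegenerate subspace contains a totally singular subspace of almost half the dimension -/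
theorem r2_exists_ts_half {M : Submodule F V} (hM : NDeg Q M) :
    ∃ T : Submodule F V, T ≤ M ∧ IsTS Q T ∧ finrank F M ≤ 2 * finrank F T + 2 := by
  by_cases h1 : 1 ≤ finrank F M
  · obtain ⟨T, hTM, hT, hTd⟩ := exists_isTS_of_ndeg hM ((finrank F M - 1) / 2) (by omega)
    exact ⟨T, hTM, hT, by omega⟩
  · refine ⟨⊥, bot_le, ?_, by omega⟩
    intro x hx
    rw [(Submodule.mem_bot F).1 hx, map_zero]

omit [Finite F] in
/-- joining totally singular subspaces of the two eigenspaces of an involution -/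
theorem r2_join (h2 : (2 : F) ≠ 0) (hQ : (polarBilin Q).Nondegenerate)
    (hiso : ∀ v, Q (y v) = Q v) (hy : y ^ 2 = 1) {T₁ T₂ : Submodule F V} (h1 : T₁ ≤ fixS y)
    (h3 : T₂ ≤ negS y) (hT₁ : IsTS Q T₁) (hT₂ : IsTS Q T₂) (m : ℕ)
    (hm : m ≤ finrank F T₁ + finrank F T₂) :
    ∃ W : Submodule F V, Inv y W ∧ IsTS Q W ∧ finrank F W = m := by
  obtain ⟨T₁', hT₁'le, hT₁'d⟩ := exists_sub_finrank T₁ (min m (finrank F T₁)) (min_le_right _ _)
  obtain ⟨T₂', hT₂'le, hT₂'d⟩ := exists_sub_finrank T₂ (m - min m (finrank F T₁)) (by omega)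
  obtain ⟨hinv, hts, hfr⟩ := exists_inv_isTS_of_parts h2 hQ hiso hy (hT₁'le.trans h1)
    (hT₂'le.trans h3) (isTS_mono hT₁ hT₁'le) (isTS_mono hT₂ hT₂'le)
  exact ⟨T₁' ⊔ T₂', hinv, hts, by rw [hfr, hT₁'d, hT₂'d]; omega⟩

/-- an isometric involution of a space of dimension `2d` fixes totally singular subspaces of every
dimension `m ≤ d - 2` -/
theorem r2_inv_gen (h2 : (2 : F) ≠ 0) (hQ : (polarBilin Q).Nondegenerate)
    (hiso : ∀ v, Q (y v) = Q v) (hy : y ^ 2 = 1) (d m : ℕ) (hdim : finrank F V = 2 * d)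
    (hmd : m + 2 ≤ d) :
    ∃ W : Submodule F V, Inv y W ∧ IsTS Q W ∧ finrank F W = m := by
  have hc := isCompl_fix_neg (y := y) h2 hy
  have hsum : finrank F (fixS y) + finrank F (negS y) = 2 * d := by
    rw [← hdim]
    exact Submodule.finrank_add_eq_of_isCompl hc
  obtain ⟨T₁, h1, hT₁, hd₁⟩ := r2_exists_ts_half (ndeg_fixS_inv h2 hQ hiso hy)
  obtain ⟨T₂, h3, hT₂, hd₂⟩ := r2_exists_ts_half (ndeg_negS h2 hQ hiso hy)
  exact r2_join h2 hQ hiso hy h1 h3 hT₁ hT₂ m (by omega)

/-- an isometric involution of a space of minus type of dimension `2d` fixes totally singular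
subspaces of every dimension `m ≤ d - 1` -/
theorem r2_inv_minus (h2 : (2 : F) ≠ 0) (hQ : (polarBilin Q).Nondegenerate)
    (hiso : ∀ v, Q (y v) = Q v) (hy : y ^ 2 = 1) (d m : ℕ) (hdim : finrank F V = 2 * d)
    (hmd : m + 1 ≤ d) (hminus : ¬ PlusS Q (⊤ : Submodule F V)) :
    ∃ W : Submodule F V, Inv y W ∧ IsTS Q W ∧ finrank F W = m := by
  have hc := isCompl_fix_neg (y := y) h2 hy
  have hsum : finrank F (fixS y) + finrank F (negS y) = 2 * d := by
    rw [← hdim]
    exact Submodule.finrank_add_eq_of_isCompl hc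
  have hnd₁ := ndeg_fixS_inv h2 hQ hiso hy
  have hnd₂ := ndeg_negS h2 hQ hiso hy
  obtain ⟨T₁, h1, hT₁, hd₁⟩ := r2_exists_ts_half hnd₁
  obtain ⟨T₂, h3, hT₂, hd₂⟩ := r2_exists_ts_half hnd₂
  rcases Nat.even_or_odd (finrank F (fixS y)) with hev | hodd
  · have hev₂ : Even (finrank F (negS y)) := by
      obtain ⟨c, hc'⟩ := hev
      exact ⟨d - c, by omega⟩
    have horth : fixS y ≤ perp Q (negS y) := by
      intro u hu
      rw [mem_perp_iff]
      intro w hw
      rw [polar_comm]
      exact polar_fix_neg h2 hiso hu hw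
    obtain ⟨-, -, h5⟩ := Cfsg.Agent.Lib.Helper2.OrthCf.plusS_sup hnd₁ hnd₂ horth hev hev₂
    rw [hc.sup_eq_top] at h5
    by_cases hp : PlusS Q (fixS y)
    · obtain ⟨U, hU1, hU, hUd⟩ := hp
      exact r2_join h2 hQ hiso hy hU1 h3 hU hT₂ m (by omega)
    · have hp₂ : PlusS Q (negS y) := by
        by_contra hp₂
        exact hminus (h5.2 ⟨fun h => absurd h hp, fun h => absurd h hp₂⟩)
      obtain ⟨U, hU1, hU, hUd⟩ := hp₂
      exact r2_join h2 hQ hiso hy h1 hU1 hT₁ hU m (by omega)
  · have hodd₂ : Odd (finrank F (negS y)) := by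
      obtain ⟨c, hc'⟩ := hodd
      exact ⟨d - c - 1, by omega⟩
    obtain ⟨c₁, hc₁⟩ := hodd
    obtain ⟨c₂, hc₂⟩ := hodd₂
    exact r2_join h2 hQ hiso hy h1 h3 hT₁ hT₂ m (by omega)

end invol

section sqm

variable {F V : Type*} [Field F] [AddCommGroup V] [Module F V] [FiniteDimensional F V]
variable {Q : QuadraticForm F V} {y : V →ₗ[F] V}

/-- `y² = -1` with `-1 = c²`: the eigenspaces are totally singular of dimension `d`, so `y` fixes
totally singular subspaces of every dimension `m ≤ d` -/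
theorem r2_sqm_split (c : F) (hc : c * c = -1) (h2 : (2 : F) ≠ 0)
    (hQ : (polarBilin Q).Nondegenerate) (hiso : ∀ v, Q (y v) = Q v)
    (hyy : ∀ v, y (y v) = -v) (d m : ℕ) (hdim : finrank F V = 2 * d) (hm : m ≤ d) :
    ∃ W : Submodule F V, Inv y W ∧ IsTS Q W ∧ finrank F W = m := by
  have hc0 : c ≠ 0 := by
    rintro rfl
    rw [mul_zero] at hc
    exact one_ne_zero (neg_eq_zero.1 hc.symm)
  set E : Submodule F V := LinearMap.ker (y - c • 1) with hE
  set E' : Submodule F V := LinearMap.ker (y + c • 1) with hE'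
  have hmemE : ∀ v, v ∈ E ↔ y v = c • v := by
    intro v
    rw [hE, LinearMap.mem_ker, LinearMap.sub_apply, LinearMap.smul_apply, Module.End.one_apply,
      sub_eq_zero]
  have hmemE' : ∀ v, v ∈ E' ↔ y v = -(c • v) := by
    intro v
    rw [hE', LinearMap.mem_ker, LinearMap.add_apply, LinearMap.smul_apply, Module.End.one_apply,
      add_eq_zero_iff_eq_neg]
  have hts : ∀ (s : F) (v : V), s * s = -1 → y v = s • v → Q v = 0 := by
    intro s v hs hv
    have h1 := hiso v
    rw [hv, QuadraticMap.map_smul, hs, smul_eq_mul] at h1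
    have h3 : (2 : F) * Q v = 0 := by linear_combination -h1
    rcases mul_eq_zero.1 h3 with h | h
    · exact absurd h h2
    · exact h
  have hEts : IsTS Q E := fun v hv => hts c v hc ((hmemE v).1 hv)
  have hE'ts : IsTS Q E' := by
    intro v hv
    apply hts (-c) v (by rw [neg_mul_neg, hc])
    rw [(hmemE' v).1 hv, neg_smul]
  have hdisj : Disjoint E E' := by
    rw [Submodule.disjoint_def]
    intro v h1 h3
    rw [hmemE] at h1
    rw [hmemE'] at h3
    have h4 : ((2 : F) * c) • v = 0 := by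
      rw [mul_smul, two_smul]
      nth_rewrite 1 [← h1]
      rw [h3]
      exact neg_add_cancel _
    rcases smul_eq_zero.1 h4 with h5 | h5
    · exact absurd h5 (mul_ne_zero h2 hc0)
    · exact h5
  have hsup : E ⊔ E' = ⊤ := by
    rw [eq_top_iff]
    intro v _
    have e : v = ((2 : F) * c)⁻¹ • (c • v + y v) + ((2 : F) * c)⁻¹ • (c • v - y v) := by
      rw [← smul_add]
      have : c • v + y v + (c • v - y v) = ((2 : F) * c) • v := by
        rw [mul_smul, two_smul]
        abel
      rw [this, smul_smul, inv_mul_cancel₀ (mul_ne_zero h2 hc0), one_smul]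
    rw [e]
    apply Submodule.add_mem_sup
    · apply Submodule.smul_mem
      rw [hmemE, map_add, map_smul, hyy, smul_add, smul_smul, hc, neg_smul, one_smul]
      abel
    · apply Submodule.smul_mem
      rw [hmemE', map_sub, map_smul, hyy, smul_sub, smul_smul, hc, neg_smul, one_smul]
      abel
  have hsum : finrank F E + finrank F E' = 2 * d := by
    rw [← finrank_sup_of_disjoint hdisj, hsup, finrank_top, hdim]
  have hle₁ := two_mul_finrank_le_of_isTS hQ (ndeg_top hQ) hEts le_top
  have hle₂ := two_mul_finrank_le_of_isTS hQ (ndeg_top hQ) hE'ts le_top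
  rw [finrank_top, hdim] at hle₁ hle₂
  obtain ⟨W, hWE, hWd⟩ := exists_sub_finrank E m (by omega)
  refine ⟨W, ?_, isTS_mono hEts hWE, hWd⟩
  intro v hv
  rw [(hmemE v).1 (hWE hv)]
  exact W.smul_mem c hv

/-- `y² = -1` with `-1` a nonsquare: invariant subspaces have even dimension -/
theorem r2_sqm_even (hns : ¬ IsSquare (-1 : F)) (hyy : ∀ v, y (y v) = -v) (W : Submodule F V)
    (hW : Inv y W) : Even (finrank F W) := by
  have hz : y ^ 2 = (-1 : F) • (1 : V →ₗ[F] V) := by
    apply LinearMap.ext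
    intro v
    rw [pow_two, Module.End.mul_apply, hyy, LinearMap.smul_apply, Module.End.one_apply, neg_smul,
      one_smul]
  have hc : ∀ b : F, b ^ 2 ≠ -1 := by
    intro b hb
    exact hns ⟨b, by rw [← hb, pow_two]⟩
  obtain ⟨k, hk⟩ := dvd_finrank_of_inv 2 Nat.prime_two (-1 : F) hc y hz W hW
  exact ⟨k, by omega⟩

/-- `y² = -1` with `-1` a nonsquare: peeling invariant totally singular planes -/
theorem r2_sqm_peel [Finite F] (h2 : (2 : F) ≠ 0) (hns : ¬ IsSquare (-1 : F))
    (hQ : (polarBilin Q).Nondegenerate) (hiso : ∀ v, Q (y v) = Q v)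
    (hyy : ∀ v, y (y v) = -v) :
    ∀ (k : ℕ) (M : Submodule F V), NDeg Q M → Inv y M → 4 * k ≤ finrank F M →
      ∃ T : Submodule F V, T ≤ M ∧ Inv y T ∧ IsTS Q T ∧ finrank F T = 2 * k := by
  have hz : y ^ 2 = (-1 : F) • (1 : V →ₗ[F] V) := by
    apply LinearMap.ext
    intro v
    rw [pow_two, Module.End.mul_apply, hyy, LinearMap.smul_apply, Module.End.one_apply, neg_smul,
      one_smul]
  have hc : ∀ b : F, b ^ 2 ≠ -1 := by
    intro b hb
    exact hns ⟨b, by rw [← hb, pow_two]⟩
  have hss := isSemisimple_of_pow_eq_smul 2 Nat.prime_two (-1 : F) hc y hz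
  intro k
  induction k with
  | zero =>
    intro M _ _ _
    refine ⟨⊥, bot_le, ?_, ?_, by rw [finrank_bot]⟩
    · intro x hx
      rw [(Submodule.mem_bot F).1 hx, map_zero]
      exact Submodule.zero_mem _
    · intro x hx
      rw [(Submodule.mem_bot F).1 hx, map_zero]
  | succ k ih =>
    intro M hM hMinv hdim
    obtain ⟨T₀, hT₀M, hT₀, hT₀d⟩ := exists_isTS_of_ndeg hM 1 (by omega)
    have hT₀ne : T₀ ≠ ⊥ := by
      intro h0
      rw [h0, finrank_bot] at hT₀d
      omega
    obtain ⟨v, hvT, hv0⟩ := Submodule.exists_mem_ne_zero_of_ne_bot hT₀ne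
    have hQv : Q v = 0 := hT₀ v hvT
    have hvM : v ∈ M := hT₀M hvT
    set Z : Submodule F V := Submodule.span F {v, y v} with hZ
    have hZM : Z ≤ M := by
      rw [hZ, Submodule.span_le]
      intro x hx
      rcases hx with hx | hx
      · rw [hx]; exact hvM
      · rw [Set.mem_singleton_iff] at hx
        rw [hx]; exact hMinv v hvM
    have hZinv : Inv y Z := by
      intro x hx
      rw [hZ, Submodule.mem_span_pair] at hx ⊢
      obtain ⟨a, b, rfl⟩ := hx
      refine ⟨-b, a, ?_⟩
      rw [map_add, map_smul, map_smul, hyy, neg_smul, smul_neg]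
      abel
    have hZts : IsTS Q Z := by
      intro x hx
      rw [hZ, Submodule.mem_span_pair] at hx
      obtain ⟨a, b, rfl⟩ := hx
      rw [QuadraticMap.map_add Q, QuadraticMap.map_smul, QuadraticMap.map_smul, hiso, hQv,
        polar_smul_left, polar_smul_right,
        Cfsg.Agent.Lib.Helper5.OPar.sqm_polar_self h2 hiso hyy v]
      simp only [smul_eq_mul, mul_zero, add_zero]
    have hZd : finrank F Z = 2 := by
      have hli : LinearIndependent F ![v, y v] := by
        rw [LinearIndependent.pair_iff]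
        intro s t hst
        by_cases ht : t = 0
        · subst ht
          rw [zero_smul, add_zero] at hst
          rcases smul_eq_zero.1 hst with h | h
          · exact ⟨h, rfl⟩
          · exact absurd h hv0
        · exfalso
          -- `y v = e • v` with `e² = -1`
          have hyv : y v = (-(s / t)) • v := by
            have h1 : t • y v = -(s • v) := eq_neg_of_add_eq_zero_right hst
            have h3 : y v = t⁻¹ • (t • y v) := by rw [smul_smul, inv_mul_cancel₀ ht, one_smul]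
            rw [h3, h1, smul_neg, smul_smul, neg_smul]
            congr 2
            field_simp
          have h4 := hyy v
          rw [hyv, map_smul, hyv, smul_smul] at h4
          have h5 : ((-(s / t)) * (-(s / t)) + 1) • v = 0 := by
            rw [add_smul, one_smul, h4]
            exact neg_add_cancel v
          rcases smul_eq_zero.1 h5 with h6 | h6
          · apply hns
            exact ⟨-(s / t), by linear_combination -h6⟩
          · exact hv0 h6
      have h := finrank_span_eq_card hli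
      have hr : Set.range ![v, y v] = {v, y v} := by
        simp [Matrix.range_cons]
        exact Set.pair_comm _ _
      rw [hr] at h
      rw [hZ, h]
      rfl
    -- an invariant complement of `Z` in `M ∩ Z^⊥`
    have hLinv : Inv y (M ⊓ perp Q Z) :=
      hMinv.inf (Cfsg.Agent.Lib.Helper5.OPar.sqm_inv_perp hiso hyy hZinv)
    have hZL : Z ≤ M ⊓ perp Q Z := le_inf hZM (le_orthogonal_of_isTS hZts)
    obtain ⟨M₂, hM₂L, hM₂inv, hdisj, hfr⟩ := exists_rel_compl y hss _ hLinv Z hZL hZinv
    obtain ⟨hnd, hdim₂⟩ := ndeg_of_compl hQ hM hZM hZts hM₂L hdisj hfr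
    obtain ⟨T', hT'le, hT'inv, hT'ts, hT'd⟩ := ih M₂ hnd hM₂inv (by omega)
    have hT'perp : T' ≤ perp Q Z := (hT'le.trans hM₂L).trans inf_le_right
    refine ⟨Z ⊔ T', sup_le hZM ((hT'le.trans hM₂L).trans inf_le_left), hZinv.sup hT'inv,
      isTS_sup hZts hT'ts (le_perp_comm hT'perp), ?_⟩
    rw [finrank_sup_of_disjoint (hdisj.mono_right hT'le), hZd, hT'd]
    ring

end sqm

section bad

variable {F V : Type*} [Field F] [Finite F] [AddCommGroup V] [Module F V] [FiniteDimensional F V]
variable {Q : QuadraticForm F V} {y : V →ₗ[F] V} {u₁ u₂ : V}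

/-- the product of the reflections in two orthogonal vectors of norm `1` (`-1` a nonsquare) in a
space of plus type of dimension `2d`: invariant totally singular subspaces have dimension at most
`d - 2` -/
theorem r2_bad_pair (h2 : (2 : F) ≠ 0) (hQ : (polarBilin Q).Nondegenerate)
    (hns : ¬ IsSquare (-1 : F)) (hu₁ : Q u₁ = 1) (hu₂ : Q u₂ = 1)
    (h12 : polar (⇑Q) u₁ u₂ = 0)
    (hy : ∀ v, y v = v - polar (⇑Q) u₁ v • u₁ - polar (⇑Q) u₂ v • u₂) (d : ℕ)
    (hdim : finrank F V = 2 * d) (hplus : PlusS Q (⊤ : Submodule F V))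
    (W : Submodule F V) (hinv : Inv y W) (hW : IsTS Q W) :
    finrank F W + 2 ≤ d := by
  have h11 : polar (⇑Q) u₁ u₁ = 2 := by rw [polar_self, hu₁, two_smul]; norm_num
  have h22 : polar (⇑Q) u₂ u₂ = 2 := by rw [polar_self, hu₂, two_smul]; norm_num
  have h21 : polar (⇑Q) u₂ u₁ = 0 := by rw [polar_comm]; exact h12
  have hperp : ∀ w ∈ W, polar (⇑Q) u₁ w = 0 ∧ polar (⇑Q) u₂ w = 0 := by
    intro w hw
    have h1 : w - y w ∈ W := W.sub_mem hw (hinv w hw)
    have h3 : w - y w = polar (⇑Q) u₁ w • u₁ + polar (⇑Q) u₂ w • u₂ := by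
      rw [hy]
      abel
    rw [h3] at h1
    have h4 := hW _ h1
    rw [Q_pair hu₁ hu₂ h12] at h4
    exact eq_zero_of_sq_add_sq hns h4
  obtain ⟨P, hP⟩ : ∃ P : Submodule F V, P = Submodule.span F {u₁, u₂} := ⟨_, rfl⟩
  have hWP : W ≤ perp Q P := by
    apply le_perp_comm
    rw [hP, Submodule.span_le]
    intro v hv
    rw [SetLike.mem_coe, mem_perp_iff']
    intro w hw
    rcases hv with hv | hv
    · rw [hv]; exact (hperp w hw).1
    · rw [Set.mem_singleton_iff] at hv
      rw [hv]; exact (hperp w hw).2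
  have hmemP : ∀ v ∈ P, ∃ α β : F, v = α • u₁ + β • u₂ := by
    intro v hv
    rw [hP, Submodule.mem_span_pair] at hv
    obtain ⟨α, β, rfl⟩ := hv
    exact ⟨α, β, rfl⟩
  have hu₁P : u₁ ∈ P := by
    rw [hP]
    exact Submodule.subset_span (Set.mem_insert _ _)
  have hu₂P : u₂ ∈ P := by
    rw [hP]
    exact Submodule.subset_span (Set.mem_insert_of_mem _ (Set.mem_singleton _))
  have hzero : ∀ α β : F, polar (⇑Q) u₁ (α • u₁ + β • u₂) = 0 →
      polar (⇑Q) u₂ (α • u₁ + β • u₂) = 0 → α = 0 ∧ β = 0 := by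
    intro α β h1 h3
    rw [polar_add_right, polar_smul_right, polar_smul_right, h11, h12, smul_eq_mul, smul_eq_mul,
      mul_zero, add_zero] at h1
    rw [polar_add_right, polar_smul_right, polar_smul_right, h21, h22, smul_eq_mul, smul_eq_mul,
      mul_zero, zero_add] at h3
    refine ⟨?_, ?_⟩
    · rcases mul_eq_zero.1 h1 with h | h
      · exact h
      · exact absurd h h2
    · rcases mul_eq_zero.1 h3 with h | h
      · exact h
      · exact absurd h h2
  have hPnd : NDeg Q P := by
    unfold NDeg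
    rw [Submodule.disjoint_def]
    intro v hv hv'
    obtain ⟨α, β, rfl⟩ := hmemP v hv
    rw [mem_perp_iff] at hv'
    obtain ⟨hα, hβ⟩ := hzero α β (hv' u₁ hu₁P) (hv' u₂ hu₂P)
    rw [hα, hβ, zero_smul, zero_smul, add_zero]
  have hPdim : finrank F P = 2 := by
    have hli : LinearIndependent F ![u₁, u₂] := by
      rw [LinearIndependent.pair_iff]
      intro s t hst
      apply hzero s t
      · rw [hst, polar_zero_right]
      · rw [hst, polar_zero_right]
    have h := finrank_span_eq_card hli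
    have hr : Set.range ![u₁, u₂] = {u₁, u₂} := by
      simp [Matrix.range_cons]
      exact Set.pair_comm _ _
    rw [hr] at h
    rw [hP, h]
    rfl
  have hPaniso : ∀ v ∈ P, Q v = 0 → v = 0 := by
    intro v hv hQv
    obtain ⟨α, β, rfl⟩ := hmemP v hv
    rw [Q_pair hu₁ hu₂ h12] at hQv
    obtain ⟨hα, hβ⟩ := eq_zero_of_sq_add_sq hns hQv
    rw [hα, hβ, zero_smul, zero_smul, add_zero]
  have hperpnd : NDeg Q (perp Q P) := hPnd.perp hQ
  have hperpdim : finrank F ↥(perp Q P) + 2 = 2 * d := by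
    have := finrank_perp_add hQ P
    omega
  by_contra hcon
  obtain ⟨W', hW'le, hW'd⟩ := exists_sub_finrank W (d - 1) (by omega)
  have hpp : PlusS Q (perp Q P) := ⟨W', hW'le.trans hWP, isTS_mono hW hW'le, by omega⟩
  obtain ⟨-, -, h5⟩ := Cfsg.Agent.Lib.Helper2.OrthCf.plusS_sup hPnd hperpnd
    (le_perp_comm le_rfl) (by rw [hPdim]; exact ⟨1, rfl⟩) ⟨d - 1, by omega⟩
  rw [hPnd.isCompl.sup_eq_top] at h5
  obtain ⟨U, hUP, hU, hUd⟩ := (h5.1 hplus).2 hpp
  have hUne : U ≠ ⊥ := by
    intro h0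
    rw [h0, finrank_bot, hPdim] at hUd
    omega
  obtain ⟨v, hvU, hv0⟩ := Submodule.exists_mem_ne_zero_of_ne_bot hUne
  exact hv0 (hPaniso v (hUP hvU) (hU v hvU))

end bad

end Cfsg.Agent.Lib.Helper7.TSO
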