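import Mathlib
import Cfsg.Prelude.Def_Classical
import Cfsg.Prelude.Def_GeometricClasses
import Cfsg.Agent.Lib.Helper7.TSO_R2A
import Cfsg.Agent.Lib.Helper2.OrthElX
import Cfsg.Agent.Lib.Helper5.OPar_ASM4

/-!
S5973 / S5987, r = 2 (q odd), matrix level, for an arbitrary nondegenerate quadratic form on
`ι → F` with `card ι = 2d`.
-/

set_option autoImplicit false

namespace Cfsg.Agent.Lib.Helper7.TSO

open Module QuadraticMap
open scoped Matrix
open Cfsg.Agent.Lib.Helper2.MaxTS2 Cfsg.Agent.Lib.Helper2.OrthEl Cfsg.Agent.Lib.Helper2.OrthNd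
open Cfsg.Agent.H9SemiInv
open Cfsg.Agent.Lib.Helper2
open Cfsg.Agent.Lib.Helper5.OPar
open Cfsg.Agent.Lib.Helper5.OrthCls (IsPlus)

section gen

variable {F : Type*} [Field F] [Fintype F] [DecidableEq F] {ι : Type} [Fintype ι] [DecidableEq ι]
variable (Q : QuadraticForm F (ι → F))

theorem r2_finrank (d : ℕ) (hcard : Fintype.card ι = 2 * d) : finrank F (ι → F) = 2 * d := by
  rw [Module.finrank_fintype_fun_eq_card, hcard]

theorem r2_sq_one {x : Matrix.GeneralLinearGroup ι F}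
    (h1 : (x : Matrix ι ι F) * (x : Matrix ι ι F) = 1) :
    (Matrix.toLin' (x : Matrix ι ι F)) ^ 2 = 1 := by
  rw [← Matrix.toLin'_pow, pow_two, h1, Matrix.toLin'_one]
  rfl

/-- packaging the conclusion -/
theorem r2_pack {x : Matrix.GeneralLinearGroup ι F} {m : ℕ}
    (h : ∃ W : Submodule F (ι → F), Inv (Matrix.toLin' (x : Matrix ι ι F)) W ∧ IsTS Q W ∧
      finrank F W = m) :
    ∃ W : Submodule F (ι → F), finrank F W = m ∧ (∀ w ∈ W, Q w = 0) ∧
      W.map (Matrix.toLin' (x : Matrix ι ι F)) ≤ W := by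
  obtain ⟨W, hinv, hts, hd⟩ := h
  exact ⟨W, hd, hts, (inv_iff _ W).1 hinv⟩

/-- involutions, `m ≤ d - 2` -/
theorem r2_fix_invol_gen (h2 : (2 : F) ≠ 0) (hQ : (polarBilin Q).Nondegenerate) (d m : ℕ)
    (hcard : Fintype.card ι = 2 * d) (hmd : m + 2 ≤ d) (x : Matrix.GeneralLinearGroup ι F)
    (hx : x ∈ Cfsg.isometryGroup F ⇑Q)
    (h1 : (x : Matrix ι ι F) * (x : Matrix ι ι F) = 1) :
    ∃ W : Submodule F (ι → F), finrank F W = m ∧ (∀ w ∈ W, Q w = 0) ∧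
      W.map (Matrix.toLin' (x : Matrix ι ι F)) ≤ W :=
  r2_pack Q (r2_inv_gen h2 hQ (fun v => iso_apply hx v) (r2_sq_one h1) d m (r2_finrank d hcard) hmd)

/-- involutions of a space of minus type, `m ≤ d - 1` -/
theorem r2_fix_invol_minus (h2 : (2 : F) ≠ 0) (hQ : (polarBilin Q).Nondegenerate)
    (hminus : ¬ IsPlus Q) (d m : ℕ)
    (hcard : Fintype.card ι = 2 * d) (hmd : m + 1 ≤ d) (x : Matrix.GeneralLinearGroup ι F)
    (hx : x ∈ Cfsg.isometryGroup F ⇑Q)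
    (h1 : (x : Matrix ι ι F) * (x : Matrix ι ι F) = 1) :
    ∃ W : Submodule F (ι → F), finrank F W = m ∧ (∀ w ∈ W, Q w = 0) ∧
      W.map (Matrix.toLin' (x : Matrix ι ι F)) ≤ W :=
  r2_pack Q (r2_inv_minus h2 hQ (fun v => iso_apply hx v) (r2_sq_one h1) d m (r2_finrank d hcard)
    hmd (fun h => hminus (up_isPlus_iff_plusS_top.2 h)))

/-- involutions of `Ω`, `-1` a square, `m ≤ d - 1` -/
theorem r2_fix_invol_sq (h2 : (2 : F) ≠ 0) (hQ : (polarBilin Q).Nondegenerate)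
    (hsq : IsSquare (-1 : F)) (d m : ℕ)
    (hcard : Fintype.card ι = 2 * d) (hmd : m + 1 ≤ d) (x : Matrix.GeneralLinearGroup ι F)
    (hx : x ∈ Cfsg.Geo.omegaGL ⇑Q)
    (h1 : (x : Matrix ι ι F) * (x : Matrix ι ι F) = 1) :
    ∃ W : Submodule F (ι → F), finrank F W = m ∧ (∀ w ∈ W, Q w = 0) ∧
      W.map (Matrix.toLin' (x : Matrix ι ι F)) ≤ W := by
  obtain ⟨g, hg, rfl⟩ := Subgroup.mem_map.1 hx
  have hg2 : g * g = 1 := by
    apply Subtype.ext
    apply Units.ext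
    exact h1
  apply r2_pack
  set y := Matrix.toLin' ((g : Matrix.GeneralLinearGroup ι F) : Matrix ι ι F) with hy
  have hiso : ∀ v, Q (y v) = Q v := fun v => iso_apply g.2 v
  have hyy : y ^ 2 = 1 := r2_sq_one h1
  obtain ⟨T₂, hT₂le, hT₂, hT₂d0⟩ := exists_isTS_negS h2 hQ g hg2 hg hsq
  have hT₂d : 2 * finrank F T₂ = finrank F (negS y) := hT₂d0
  obtain ⟨T₁, hT₁le, hT₁, hT₁d⟩ := r2_exists_ts_half (ndeg_fixS_inv h2 hQ hiso hyy)
  have hc := isCompl_fix_neg (y := y) h2 hyy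
  have hsum : finrank F (fixS y) + finrank F (negS y) = 2 * d := by
    rw [← r2_finrank (F := F) d hcard]
    exact Submodule.finrank_add_eq_of_isCompl hc
  exact r2_join h2 hQ hiso hyy hT₁le hT₂le hT₁ hT₂ m (by omega)

theorem r2_sq_neg {x : Matrix.GeneralLinearGroup ι F}
    (h1 : (x : Matrix ι ι F) * (x : Matrix ι ι F) = -1) (v : ι → F) :
    Matrix.toLin' (x : Matrix ι ι F) (Matrix.toLin' (x : Matrix ι ι F) v) = -v := by
  rw [← LinearMap.comp_apply, ← Matrix.toLin'_mul, h1, map_neg, Matrix.toLin'_one]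
  rfl

/-- `x² = -1`, `-1` a square, `m ≤ d` -/
theorem r2_fix_sqm_split (h2 : (2 : F) ≠ 0) (hQ : (polarBilin Q).Nondegenerate)
    (hsq : IsSquare (-1 : F)) (d m : ℕ)
    (hcard : Fintype.card ι = 2 * d) (hmd : m ≤ d) (x : Matrix.GeneralLinearGroup ι F)
    (hx : x ∈ Cfsg.isometryGroup F ⇑Q)
    (h1 : (x : Matrix ι ι F) * (x : Matrix ι ι F) = -1) :
    ∃ W : Submodule F (ι → F), finrank F W = m ∧ (∀ w ∈ W, Q w = 0) ∧
      W.map (Matrix.toLin' (x : Matrix ι ι F)) ≤ W := by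
  obtain ⟨c, hc⟩ := hsq
  exact r2_pack Q (r2_sqm_split c hc.symm h2 hQ (fun v => iso_apply hx v) (r2_sq_neg h1) d m
    (r2_finrank d hcard) hmd)

/-- `x² = -1`, `-1` a nonsquare, `m` even, `m ≤ d` -/
theorem r2_fix_sqm_peel (h2 : (2 : F) ≠ 0) (hQ : (polarBilin Q).Nondegenerate)
    (hns : ¬ IsSquare (-1 : F)) (d m : ℕ)
    (hcard : Fintype.card ι = 2 * d) (hmd : m ≤ d) (hmev : Even m)
    (x : Matrix.GeneralLinearGroup ι F)
    (hx : x ∈ Cfsg.isometryGroup F ⇑Q)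
    (h1 : (x : Matrix ι ι F) * (x : Matrix ι ι F) = -1) :
    ∃ W : Submodule F (ι → F), finrank F W = m ∧ (∀ w ∈ W, Q w = 0) ∧
      W.map (Matrix.toLin' (x : Matrix ι ι F)) ≤ W := by
  obtain ⟨k, hk⟩ := hmev
  obtain ⟨T, -, hTinv, hTts, hTd⟩ := r2_sqm_peel h2 hns hQ (fun v => iso_apply hx v)
    (r2_sq_neg h1) k ⊤ (ndeg_top hQ) (fun _ _ => Submodule.mem_top)
    (by rw [finrank_top, r2_finrank d hcard]; omega)
  exact r2_pack Q ⟨T, hTinv, hTts, by omega⟩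

/-- `x² = -1`, `-1` a nonsquare: no invariant subspace of odd dimension -/
theorem r2_sqm_no_odd (hns : ¬ IsSquare (-1 : F)) (x : Matrix.GeneralLinearGroup ι F)
    (h1 : (x : Matrix ι ι F) * (x : Matrix ι ι F) = -1) (W : Submodule F (ι → F))
    (hW : W.map (Matrix.toLin' (x : Matrix ι ι F)) ≤ W) : Even (finrank F W) :=
  r2_sqm_even hns (r2_sq_neg h1) W ((inv_iff _ W).2 hW)

/-- `x² = -1` lies in `Ω` iff `χ(2)^d = 1` -/
theorem r2_sqm_mem_omega (h2 : (2 : F) ≠ 0) (hQ : (polarBilin Q).Nondegenerate) (d : ℕ)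
    (hd : 1 ≤ d) (hcard : Fintype.card ι = 2 * d) (x : Matrix.GeneralLinearGroup ι F)
    (hx : x ∈ Cfsg.isometryGroup F ⇑Q)
    (h1 : (x : Matrix ι ι F) * (x : Matrix ι ι F) = -1) :
    x ∈ Cfsg.Geo.omegaGL ⇑Q ↔ chi' (2 : F) ^ d = 1 := by
  rw [asm_mem_omegaGL_iff h2 Q hQ (by omega) x hx, Phi_sq_neg_one h2 Q hQ d hcard ⟨x, hx⟩ h1,
    Prod.ext_iff]
  exact ⟨fun h => h.2, fun h => ⟨rfl, h⟩⟩

/-- `x² = -1` is not scalar -/
theorem r2_sqm_not_scalar (h2 : (2 : F) ≠ 0) (hQ : (polarBilin Q).Nondegenerate)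
    [Nonempty ι] (x : Matrix.GeneralLinearGroup ι F) (hx : x ∈ Cfsg.isometryGroup F ⇑Q)
    (h1 : (x : Matrix ι ι F) * (x : Matrix ι ι F) = -1) (z : F) :
    (x : Matrix ι ι F) ≠ z • (1 : Matrix ι ι F) := by
  intro hz
  have hzz := asm_sq_eq_one h2 Q hQ x hx 1 z (by rw [pow_one]; exact hz)
  rw [hz] at h1
  obtain ⟨j⟩ := (inferInstance : Nonempty ι)
  have h4 := congrFun (congrFun h1 j) j
  simp only [Matrix.smul_mul, Matrix.mul_smul, Matrix.one_mul, Matrix.smul_apply,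
    Matrix.one_apply_eq, smul_eq_mul, mul_one, Matrix.neg_apply] at h4
  rw [hzz] at h4
  have : (2 : F) = 0 := by linear_combination h4
  exact h2 this

/-- the bad involution for `-1` a nonsquare in a space of plus type -/
theorem r2_bad_invol (h2 : (2 : F) ≠ 0) (hQ : (polarBilin Q).Nondegenerate)
    (hplus : IsPlus Q) (hns : ¬ IsSquare (-1 : F)) (d : ℕ) (hd : 2 ≤ d)
    (hcard : Fintype.card ι = 2 * d) :
    ∃ x : Matrix.GeneralLinearGroup ι F, x ∈ Cfsg.Geo.omegaGL ⇑Q ∧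
      (x : Matrix ι ι F) * (x : Matrix ι ι F) = 1 ∧
      (∀ z : F, (x : Matrix ι ι F) ≠ z • (1 : Matrix ι ι F)) ∧
      ∀ W : Submodule F (ι → F), (∀ w ∈ W, Q w = 0) →
        W.map (Matrix.toLin' (x : Matrix ι ι F)) ≤ W → finrank F W + 2 ≤ d := by
  have hdim := r2_finrank (F := F) d hcard
  have hplusS : PlusS Q (⊤ : Submodule F (ι → F)) := up_isPlus_iff_plusS_top.1 hplus
  -- two orthogonal vectors of norm one
  obtain ⟨u₁, hu₁⟩ := Cfsg.Agent.Lib.Helper5.exists_represents_one Q hQ (by rw [hdim]; omega)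
  have hu₁0 : u₁ ≠ 0 := by
    rintro rfl
    rw [map_zero] at hu₁
    exact zero_ne_one hu₁
  have h11 : polar (⇑Q) u₁ u₁ = 2 := by rw [polar_self, hu₁, two_smul]; norm_num
  set L : Submodule F (ι → F) := Submodule.span F {u₁} with hL
  have hLnd : NDeg Q L := by
    unfold NDeg
    rw [Submodule.disjoint_def]
    intro v hv hv'
    obtain ⟨c, rfl⟩ := Submodule.mem_span_singleton.1 hv
    rw [mem_perp_iff] at hv'
    have h3 := hv' u₁ (Submodule.mem_span_singleton_self u₁)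
    rw [polar_smul_right, h11, smul_eq_mul] at h3
    rcases mul_eq_zero.1 h3 with h | h
    · rw [h, zero_smul]
    · exact absurd h h2
  have hLd : finrank F L = 1 := finrank_span_singleton hu₁0
  have hMnd : NDeg Q (perp Q L) := hLnd.perp hQ
  have hMd : finrank F ↥(perp Q L) + 1 = 2 * d := by
    have := finrank_perp_add hQ L
    omega
  obtain ⟨u₂', hu₂'⟩ := Cfsg.Agent.Lib.Helper5.exists_represents_one
    (Q.comp (perp Q L).subtype) hMnd.restrict (by omega)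
  set u₂ : ι → F := (u₂' : ι → F) with hu₂def
  have hu₂ : Q u₂ = 1 := by
    rw [QuadraticMap.comp_apply] at hu₂'
    exact hu₂'
  have h12 : polar (⇑Q) u₁ u₂ = 0 := by
    have := u₂'.2
    rw [mem_perp_iff] at this
    exact this u₁ (Submodule.mem_span_singleton_self u₁)
  have h₁ : Q u₁ ≠ 0 := by rw [hu₁]; exact one_ne_zero
  have h₂ : Q u₂ ≠ 0 := by rw [hu₂]; exact one_ne_zero
  have hn : 2 ≤ Fintype.card ι := by omega
  obtain ⟨g, hg⟩ : ∃ g, g = CDG.refl Q u₁ h₁ * CDG.refl Q u₂ h₂ := ⟨_, rfl⟩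
  have hgc : g ∈ commutator ↥(Cfsg.isometryGroup F ⇑Q) := by
    rw [hg]
    exact PhiDiag.refl_mul_refl_mem_commutator h2 hQ hn _ _ h₁ h₂ ⟨1, by rw [hu₁, hu₂]; ring⟩
  obtain ⟨hgg, -⟩ := two_refl_sq h2 hu₁ hu₂ h12 h₁ h₂
  rw [← hg] at hgg
  have hy : ∀ v, Matrix.toLin' ((g : Matrix.GeneralLinearGroup ι F) : Matrix ι ι F) v =
      v - polar (⇑Q) u₁ v • u₁ - polar (⇑Q) u₂ v • u₂ := by
    intro v
    rw [Matrix.toLin'_apply, hg]
    exact two_refl_mulVec hu₁ hu₂ h12 h₁ h₂ v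
  have hbad : ∀ W : Submodule F (ι → F), (∀ w ∈ W, Q w = 0) →
      W.map (Matrix.toLin' ((g : Matrix.GeneralLinearGroup ι F) : Matrix ι ι F)) ≤ W →
      finrank F W + 2 ≤ d := by
    intro W hW hmap
    exact r2_bad_pair h2 hQ hns hu₁ hu₂ h12 hy d hdim hplusS W ((inv_iff _ W).2 hmap) hW
  refine ⟨g, Subgroup.mem_map.2 ⟨g, hgc, rfl⟩, ?_, ?_, hbad⟩
  · have := congrArg (fun t : ↥(Cfsg.isometryGroup F ⇑Q) =>
      ((t : Matrix.GeneralLinearGroup ι F) : Matrix ι ι F)) hgg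
    exact this
  · intro z hz
    -- a scalar leaves every subspace invariant, in particular a maximal totally singular one
    obtain ⟨U, -, hU, hUd⟩ := hplusS
    rw [finrank_top, hdim] at hUd
    have := hbad U hU (by
      rintro _ ⟨w, hw, rfl⟩
      rw [hz, map_smul, Matrix.toLin'_one]
      exact U.smul_mem z hw)
    omega

end gen

end Cfsg.Agent.Lib.Helper7.TSO
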