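import Mathlib
import Cfsg.Agent.Lib.Helper7.TSO_R2B
import Cfsg.Agent.Lib.Helper5.OPar_ASM5

/-!
S5987, PK-R2M: `r = 2` for `Ω⁻_{2d}(q)`, `q` odd, acting on totally singular `m`-spaces.
-/

set_option autoImplicit false
open scoped MatrixGroups

namespace Cfsg.Agent.Lib.Helper7.TSO

open Module QuadraticMap
open scoped Matrix
open Cfsg.Agent.Lib.Helper2.MaxTS2 Cfsg.Agent.Lib.Helper2.OrthEl Cfsg.Agent.Lib.Helper2.OrthNd
open Cfsg.Agent.H9SemiInv
open Cfsg.Agent.Lib.Helper2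
open Cfsg.Agent.Lib.Helper5.OPar
open Cfsg.Agent.Lib.Helper5.QuadGlue
open Cfsg.Agent.Lib.Helper5.OrthCls (IsPlus)

section r2
variable {F : Type*} [Field F] [Fintype F]

theorem two_minus (hodd : Odd (Fintype.card F)) (d m : ℕ) (hd : 4 ≤ d) (hm : 1 ≤ m)
    (hmd : m + 1 ≤ d) (a b : F)
    (hab : ∀ x y : F, x ^ 2 + a * x * y + b * y ^ 2 = 0 → x = 0 ∧ y = 0) :
    (∀ x : GL ((Fin (d - 1) ⊕ Fin (d - 1)) ⊕ Fin 2) F,
      x ∈ Cfsg.Geo.omegaGL (Cfsg.quadFormMinus (d - 1) F a b) →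
      (∃ z : F, ((x ^ 2 : GL ((Fin (d - 1) ⊕ Fin (d - 1)) ⊕ Fin 2) F) :
          Matrix ((Fin (d - 1) ⊕ Fin (d - 1)) ⊕ Fin 2) ((Fin (d - 1) ⊕ Fin (d - 1)) ⊕ Fin 2) F) =
        z • (1 : Matrix ((Fin (d - 1) ⊕ Fin (d - 1)) ⊕ Fin 2) ((Fin (d - 1) ⊕ Fin (d - 1)) ⊕ Fin 2) F)) →
      (∀ z : F, (x : Matrix ((Fin (d - 1) ⊕ Fin (d - 1)) ⊕ Fin 2)
          ((Fin (d - 1) ⊕ Fin (d - 1)) ⊕ Fin 2) F) ≠
        z • (1 : Matrix ((Fin (d - 1) ⊕ Fin (d - 1)) ⊕ Fin 2) ((Fin (d - 1) ⊕ Fin (d - 1)) ⊕ Fin 2) F)) →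
      ∃ W : Submodule F ((Fin (d - 1) ⊕ Fin (d - 1)) ⊕ Fin 2 → F),
        (Module.finrank F ↥W = m ∧
          Cfsg.Geo.IsTotallySingularQuad (Cfsg.quadFormMinus (d - 1) F a b) W) ∧
        W.map (Matrix.toLin' (x : Matrix ((Fin (d - 1) ⊕ Fin (d - 1)) ⊕ Fin 2)
          ((Fin (d - 1) ⊕ Fin (d - 1)) ⊕ Fin 2) F)) ≤ W) ↔
    (Even d ∨ Even m ∨ Fintype.card F % 8 ≠ 7) := by
  classical
  have hd1 : 1 ≤ d := by omega
  have h2 : (2 : F) ≠ 0 := two_ne_zero_of_odd_card hodd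
  have hcoe := QuadStd.QM_coe (F := F) (d - 1) a b
  have hQ := QuadStd.QM_nondeg h2 (d - 1) a b hab
  haveI : Nonempty ((Fin (d - 1) ⊕ Fin (d - 1)) ⊕ Fin 2) := ⟨Sum.inr 0⟩
  have hcard : Fintype.card ((Fin (d - 1) ⊕ Fin (d - 1)) ⊕ Fin 2) = 2 * d := by
    simp only [Fintype.card_sum, Fintype.card_fin]
    omega
  have hminus : ¬ IsPlus (QM (d - 1) F a b) := by
    rintro ⟨U, hU, hUd⟩
    exact asm_minus_not_isTS h2 d hd1 a b hab ⟨U, hU, hUd⟩
  have hsq_iff : IsSquare (-1 : F) ↔ Fintype.card F % 4 ≠ 3 := FiniteField.isSquare_neg_one_iff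
  rw [← hcoe]
  constructor
  · intro hall
    by_contra hcon
    push Not at hcon
    obtain ⟨hdo, hmo, hq8⟩ := hcon
    have hdodd : Odd d := Nat.not_even_iff_odd.1 hdo
    have hns : ¬ IsSquare (-1 : F) := by
      rw [hsq_iff]
      omega
    have hnsq : ¬ IsSquare ((-1 : F) ^ d) := by
      rw [hdodd.neg_one_pow]
      exact hns
    obtain ⟨x, hxi0, hxx⟩ := exists_sq_neg_one_minus h2 d hd1 a b hab hnsq
    have hxi : x ∈ Cfsg.isometryGroup F ⇑(QM (d - 1) F a b) := by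
      rw [hcoe]
      exact hxi0
    have h4 : IsSquare (2 : F) := FiniteField.isSquare_two_iff.2 (by omega)
    have hchi : chi' (2 : F) = 1 := by
      unfold chi'
      rw [if_pos h4]
    have hxΩ : x ∈ Cfsg.Geo.omegaGL ⇑(QM (d - 1) F a b) :=
      (r2_sqm_mem_omega (QM (d - 1) F a b) h2 hQ d hd1 hcard x hxi hxx).2
        (by rw [hchi, one_pow])
    obtain ⟨W, ⟨hWd, hWts⟩, hWmap⟩ := hall x hxΩ
      ⟨-1, by rw [Units.val_pow_eq_pow_val, pow_two, hxx, neg_smul, one_smul]⟩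
      (r2_sqm_not_scalar (QM (d - 1) F a b) h2 hQ x hxi hxx)
    have := r2_sqm_no_odd hns x hxx W hWmap
    rw [hWd] at this
    exact hmo this
  · intro hcond x hxΩ hxr hxns
    have hxi : x ∈ Cfsg.isometryGroup F ⇑(QM (d - 1) F a b) := mem_iso_of_mem_omegaGL hxΩ
    rcases asm_sq_cases h2 (QM (d - 1) F a b) hQ x hxi hxr with h1 | h1
    · obtain ⟨W, hW1, hW2, hW3⟩ := r2_fix_invol_minus (QM (d - 1) F a b) h2 hQ hminus d m hcard
        hmd x hxi h1
      exact ⟨W, ⟨hW1, hW2⟩, hW3⟩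
    · have hxi0 : x ∈ Cfsg.isometryGroup F (Cfsg.quadFormMinus (d - 1) F a b) := by
        rw [← hcoe]
        exact hxi
      have hnsq := not_isSquare_of_minus_sq_neg_one h2 d hd1 a b hab x hxi0 h1
      have hdodd : Odd d := by
        rcases Nat.even_or_odd d with h | h
        · exfalso
          apply hnsq
          rw [h.neg_one_pow]
          exact IsSquare.one
        · exact h
      have hns : ¬ IsSquare (-1 : F) := by
        rwa [hdodd.neg_one_pow] at hnsq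
      have hchi := (r2_sqm_mem_omega (QM (d - 1) F a b) h2 hQ d hd1 hcard x hxi h1).1 hxΩ
      rw [asm_chi'_pow_odd _ d hdodd] at hchi
      have h4 : IsSquare (2 : F) := by
        unfold chi' at hchi
        by_contra hc
        rw [if_neg hc] at hchi
        exact absurd hchi (by decide)
      have h5 := FiniteField.isSquare_two_iff.1 h4
      have h43 : Fintype.card F % 4 = 3 := by
        by_contra h
        exact hns (hsq_iff.2 h)
      have hmev : Even m := by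
        rcases hcond with h | h | h
        · exact absurd h (Nat.not_even_iff_odd.2 hdodd)
        · exact h
        · exfalso
          omega
      obtain ⟨W, hW1, hW2, hW3⟩ := r2_fix_sqm_peel (QM (d - 1) F a b) h2 hQ hns d m hcard
        (by omega) hmev x hxi h1
      exact ⟨W, ⟨hW1, hW2⟩, hW3⟩

end r2

end Cfsg.Agent.Lib.Helper7.TSO
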