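import Mathlib
import Cfsg.Agent.Lib.Helper7.TSO_R2B

/-!
S5973, PK-R2P: `r = 2` for `Ω⁺_{2d}(q)`, `q` odd, acting on totally singular `m`-spaces.
-/

set_option autoImplicit false
open scoped MatrixGroups

namespace Cfsg.Agent.Lib.Helper7.TSO

open Module QuadraticMap
open scoped Matrix
open Cfsg.Agent.Lib.Helper2.MaxTS2 Cfsg.Agent.Lib.Helper2.OrthEl Cfsg.Agent.Lib.Helper2.OrthNd
open Cfsg.Agent.H9SemiInv
open Cfsg.Agent.Lib.Helper2
open Cfsg.Agent.Lib.Helper5.OPar
open Cfsg.Agent.Lib.Helper5.QuadGlue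
open Cfsg.Agent.Lib.Helper5.OrthCls (IsPlus)

section r2
variable {F : Type*} [Field F] [Fintype F]

theorem two_plus (hodd : Odd (Fintype.card F)) (d m : ℕ) (hd : 4 ≤ d) (hm : 1 ≤ m) (hmd : m < d) :
    (∀ x : GL (Fin d ⊕ Fin d) F, x ∈ Cfsg.Geo.omegaGL (Cfsg.quadFormPlus d F) →
      (∃ z : F, ((x ^ 2 : GL (Fin d ⊕ Fin d) F) : Matrix (Fin d ⊕ Fin d) (Fin d ⊕ Fin d) F) =
        z • (1 : Matrix (Fin d ⊕ Fin d) (Fin d ⊕ Fin d) F)) →
      (∀ z : F, (x : Matrix (Fin d ⊕ Fin d) (Fin d ⊕ Fin d) F) ≠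
        z • (1 : Matrix (Fin d ⊕ Fin d) (Fin d ⊕ Fin d) F)) →
      ∃ W : Submodule F (Fin d ⊕ Fin d → F), Module.finrank F ↥W = m ∧
        (∀ w ∈ W, Cfsg.quadFormPlus d F w = 0) ∧
        W.map (Matrix.toLin' (x : Matrix (Fin d ⊕ Fin d) (Fin d ⊕ Fin d) F)) ≤ W) ↔
    (Fintype.card F % 4 = 1 ∨
      (Fintype.card F % 4 = 3 ∧ m + 2 ≤ d ∧ (Even m ∨ (2 * d) % 4 = 2))) := by
  classical
  have h2 : (2 : F) ≠ 0 := two_ne_zero_of_odd_card hodd
  have hcoe := QuadStd.QP_coe (F := F) d
  have hQ := QuadStd.QP_nondeg (F := F) d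
  haveI : Nonempty (Fin d ⊕ Fin d) := ⟨Sum.inl ⟨0, by omega⟩⟩
  have hcard : Fintype.card (Fin d ⊕ Fin d) = 2 * d := by
    rw [Fintype.card_sum, Fintype.card_fin]
    ring
  have hq4 : Fintype.card F % 4 = 1 ∨ Fintype.card F % 4 = 3 := by
    obtain ⟨k, hk⟩ := hodd
    omega
  have hsq_iff : IsSquare (-1 : F) ↔ Fintype.card F % 4 ≠ 3 := FiniteField.isSquare_neg_one_iff
  rw [← hcoe]
  constructor
  · intro hall
    rcases hq4 with h41 | h43
    · left
      exact h41
    · right
      have hns : ¬ IsSquare (-1 : F) := by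
        rw [hsq_iff]
        exact not_not.2 h43
      refine ⟨h43, ?_, ?_⟩
      · by_contra hcon
        obtain ⟨x, hxΩ, hx1, hxns, hbad⟩ := r2_bad_invol (QP d F) h2 hQ
          (Cfsg.Agent.Lib.Helper5.OrthCls.isPlus_QP d) hns d (by omega) hcard
        obtain ⟨W, hWd, hWts, hWmap⟩ := hall x hxΩ
          ⟨1, by rw [Units.val_pow_eq_pow_val, pow_two, hx1, one_smul]⟩ hxns
        have := hbad W hWts hWmap
        omega
      · by_contra hcon
        push Not at hcon
        obtain ⟨hmo, hd4⟩ := hcon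
        have hdev : Even d := by
          rcases Nat.even_or_odd d with h | h
          · exact h
          · exfalso
            obtain ⟨k, hk⟩ := h
            omega
        obtain ⟨x, hxi0, hxx⟩ := exists_sq_neg_one_plus h2 d
          (by rw [hdev.neg_one_pow]; exact IsSquare.one)
        have hxi : x ∈ Cfsg.isometryGroup F ⇑(QP d F) := by
          rw [hcoe]
          exact hxi0
        have hxΩ : x ∈ Cfsg.Geo.omegaGL ⇑(QP d F) :=
          (r2_sqm_mem_omega (QP d F) h2 hQ d (by omega) hcard x hxi hxx).2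
            (asm_chi'_pow_even _ d hdev)
        obtain ⟨W, hWd, hWts, hWmap⟩ := hall x hxΩ
          ⟨-1, by rw [Units.val_pow_eq_pow_val, pow_two, hxx, neg_smul, one_smul]⟩
          (r2_sqm_not_scalar (QP d F) h2 hQ x hxi hxx)
        have := r2_sqm_no_odd hns x hxx W hWmap
        rw [hWd] at this
        exact hmo this
  · intro hcond x hxΩ hxr hxns
    have hxi : x ∈ Cfsg.isometryGroup F ⇑(QP d F) := mem_iso_of_mem_omegaGL hxΩ
    rcases asm_sq_cases h2 (QP d F) hQ x hxi hxr with h1 | h1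
    · rcases hcond with h41 | ⟨h43, hm2, -⟩
      · exact r2_fix_invol_sq (QP d F) h2 hQ (hsq_iff.2 (by omega)) d m hcard (by omega) x hxΩ h1
      · exact r2_fix_invol_gen (QP d F) h2 hQ d m hcard hm2 x hxi h1
    · rcases hcond with h41 | ⟨h43, hm2, hpar⟩
      · exact r2_fix_sqm_split (QP d F) h2 hQ (hsq_iff.2 (by omega)) d m hcard (by omega) x hxi h1
      · have hns : ¬ IsSquare (-1 : F) := by
          rw [hsq_iff]
          exact not_not.2 h43
        have hxi0 : x ∈ Cfsg.isometryGroup F (Cfsg.quadFormPlus d F) := by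
          rw [← hcoe]
          exact hxi
        have hsqd := isSquare_of_plus_sq_neg_one h2 d x hxi0 h1
        have hdev : Even d := by
          rcases Nat.even_or_odd d with h | h
          · exact h
          · exfalso
            rw [h.neg_one_pow] at hsqd
            exact hns hsqd
        have hmev : Even m := by
          rcases hpar with h | h
          · exact h
          · exfalso
            obtain ⟨k, hk⟩ := hdev
            omega
        exact r2_fix_sqm_peel (QP d F) h2 hQ hns d m hcard (by omega) hmev x hxi h1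

end r2

end Cfsg.Agent.Lib.Helper7.TSO
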