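import Mathlib
import Cfsg.Prelude.Def_CaseTheorems
import Cfsg.Agent.Lib.Helper8.TetDefs
import Cfsg.Agent.S2929

/-!
# S2928 swarm, package P2 (TetGroup): group-theoretic facts about `L = F*(H)` and tetrads
-/

set_option autoImplicit false

namespace Cfsg.Agent.Lib.Helper8.Tet

open Equiv Equiv.Perm Subgroup
open Cfsg.Agent.Lib.Helper3
open scoped commutatorElement

universe u

variable {Ω : Type u} [Fintype Ω] [DecidableEq Ω]

namespace TG

/-- four distinct named points of a 4-set, the first one prescribed -/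
theorem exists_four {Q : Finset Ω} (hQ : Q.card = 4) {a : Ω} (ha : a ∈ Q) :
    ∃ b c d : Ω, a ≠ b ∧ a ≠ c ∧ a ≠ d ∧ b ≠ c ∧ b ≠ d ∧ c ≠ d ∧ b ∈ Q ∧ c ∈ Q ∧ d ∈ Q := by
  have h3 : (Q.erase a).card = 3 := by rw [Finset.card_erase_of_mem ha, hQ]
  obtain ⟨b, c, d, hbc, hbd, hcd, he⟩ := Finset.card_eq_three.1 h3
  have hb : b ∈ Q.erase a := by rw [he]; simp
  have hc : c ∈ Q.erase a := by rw [he]; simp
  have hd : d ∈ Q.erase a := by rw [he]; simp
  rw [Finset.mem_erase] at hb hc hd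
  exact ⟨b, c, d, hb.1.symm, hc.1.symm, hd.1.symm, hbc, hbd, hcd, hb.2, hc.2, hd.2⟩

/-- four distinct named points of a 4-set, the first two prescribed -/
theorem exists_four' {Q : Finset Ω} (hQ : Q.card = 4) {a b : Ω} (ha : a ∈ Q) (hb : b ∈ Q)
    (hab : a ≠ b) :
    ∃ c d : Ω, a ≠ c ∧ a ≠ d ∧ b ≠ c ∧ b ≠ d ∧ c ≠ d ∧ c ∈ Q ∧ d ∈ Q := by
  have hb' : b ∈ Q.erase a := Finset.mem_erase.2 ⟨hab.symm, hb⟩
  have h2 : ((Q.erase a).erase b).card = 2 := by
    rw [Finset.card_erase_of_mem hb', Finset.card_erase_of_mem ha, hQ]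
  obtain ⟨c, d, hcd, he⟩ := Finset.card_eq_two.1 h2
  have hc : c ∈ (Q.erase a).erase b := by rw [he]; simp
  have hd : d ∈ (Q.erase a).erase b := by rw [he]; simp
  simp only [Finset.mem_erase] at hc hd
  exact ⟨c, d, hc.2.1.symm, hd.2.1.symm, hc.1.symm, hd.1.symm, hcd, hc.2.2, hd.2.2⟩

theorem conj_swap_of_fix (l : Perm Ω) {a b : Ω} (ha : l a = a) (hb : l b = b) :
    l * swap a b * l⁻¹ = swap a b := by
  have := Equiv.swap_apply_apply l a b
  rw [ha, hb] at this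
  exact this.symm

end TG

/-- (F1) `L` fixes no tetrad pointwise. -/
theorem not_fix_tet (H L : Subgroup (Perm Ω))
    (hC : H ⊓ centralizer (L : Set (Perm Ω)) ≤ L) {Q : Finset Ω} (hQ : IsTet H Q) :
    ¬ ∀ l ∈ L, ∀ x ∈ Q, l x = x := by
  intro hfix
  obtain ⟨a, ha⟩ : Q.Nonempty := by
    rw [← Finset.card_pos, hQ.1]; norm_num
  obtain ⟨b, c, d, hab, hac, had, hbc, hbd, hcd, hb, hc, hd⟩ := TG.exists_four hQ.1 ha
  have hz : swap a b * swap c d ∈ H := hQ.2 a ha b hb c hc d hd hab hac had hbc hbd hcd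
  have hcen : swap a b * swap c d ∈ centralizer (L : Set (Perm Ω)) := by
    rw [mem_centralizer_iff]
    intro l hl
    have h1 := TG.conj_swap_of_fix l (hfix l hl a ha) (hfix l hl b hb)
    have h2 := TG.conj_swap_of_fix l (hfix l hl c hc) (hfix l hl d hd)
    have h3 : l * (swap a b * swap c d) * l⁻¹ = swap a b * swap c d := by
      calc l * (swap a b * swap c d) * l⁻¹ = (l * swap a b * l⁻¹) * (l * swap c d * l⁻¹) := by
            group
        _ = swap a b * swap c d := by rw [h1, h2]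
    calc l * (swap a b * swap c d) = l * (swap a b * swap c d) * l⁻¹ * l := by group
      _ = swap a b * swap c d * l := by rw [h3]
  have hzL : swap a b * swap c d ∈ L := hC ⟨hz, hcen⟩
  have := hfix _ hzL a ha
  rw [Perm.mul_apply, swap_apply_of_ne_of_ne hac had, swap_apply_left] at this
  exact hab this.symm

/-- every point of a tetrad is moved by `L`. -/
theorem tet_subset_moved (H L : Subgroup (Perm Ω))
    (hN : H ≤ normalizer (L : Set (Perm Ω)))
    (hC : H ⊓ centralizer (L : Set (Perm Ω)) ≤ L) {Q : Finset Ω} (hQ : IsTet H Q) :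
    ∀ x ∈ Q, ∃ l ∈ L, l x ≠ x := by
  intro x hx
  have h1 := not_fix_tet H L hC hQ
  push Not at h1
  obtain ⟨l, hl, y, hy, hly⟩ := h1
  by_cases hxy : y = x
  · exact ⟨l, hl, hxy ▸ hly⟩
  · obtain ⟨c, d, hyc, hyd, hxc, hxd, hcd, hc, hd⟩ := TG.exists_four' hQ.1 hy hx hxy
    set k : Perm Ω := swap y x * swap c d with hk
    have hkH : k ∈ H := hQ.2 y hy x hx c hc d hd hxy hyc hyd hxc hxd hcd
    have hky : k y = x := by
      rw [hk, Perm.mul_apply, swap_apply_of_ne_of_ne hyc hyd, swap_apply_left]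
    have hkN := hN hkH
    rw [mem_normalizer_iff] at hkN
    refine ⟨k * l * k⁻¹, (hkN l).1 hl, ?_⟩
    have hkx : k⁻¹ x = y := by rw [← hky]; simp
    rw [Perm.mul_apply, Perm.mul_apply, hkx]
    intro h
    rw [← hky] at h
    exact hly (k.injective h)

/-- (F2) elements of `H` all of whose `H`-conjugates commute with each other are centralized
by `L` (their normal closure is an abelian normal subgroup of `H`). -/
theorem commute_of_conj_commute (H L : Subgroup (Perm Ω)) (hLH : L ≤ H)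
    (hN : H ≤ normalizer (L : Set (Perm Ω))) (hQs : Cfsg.IsQuasisimple L)
    (Z : Set (Perm Ω)) (hZH : ∀ z ∈ Z, z ∈ H)
    (hcomm : ∀ z ∈ Z, ∀ z' ∈ Z, ∀ h ∈ H, Commute z (h * z' * h⁻¹)) :
    ∀ z ∈ Z, ∀ l ∈ L, Commute l z := by
  -- the normal closure `A` of `Z` in `H`
  set S : Set (Perm Ω) := {x | ∃ z ∈ Z, ∃ h ∈ H, x = h * z * h⁻¹} with hS
  set A : Subgroup (Perm Ω) := closure S with hA
  have hSH : S ⊆ H := by
    rintro x ⟨z, hz, h, hh, rfl⟩
    exact H.mul_mem (H.mul_mem hh (hZH z hz)) (H.inv_mem hh)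
  have hAH : A ≤ H := (closure_le H).2 hSH
  have hScomm : ∀ x ∈ S, ∀ y ∈ S, x * y = y * x := by
    rintro x ⟨z, hz, h, hh, rfl⟩ y ⟨z', hz', h', hh', rfl⟩
    have := hcomm z hz z' hz' (h⁻¹ * h') (H.mul_mem (H.inv_mem hh) hh')
    have e : h * z * h⁻¹ * (h' * z' * h'⁻¹) = h * (z * (h⁻¹ * h' * z' * (h⁻¹ * h')⁻¹)) * h⁻¹ := by
      group
    have e' : h' * z' * h'⁻¹ * (h * z * h⁻¹) = h * ((h⁻¹ * h' * z' * (h⁻¹ * h')⁻¹) * z) * h⁻¹ := by
      group
    rw [e, e', this.eq]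
  have hAcomm : ∀ x ∈ A, ∀ y ∈ A, x * y = y * x := by
    intro x hx y hy
    have hc := (Subgroup.isMulCommutative_closure hScomm).is_comm.comm
      (⟨x, hx⟩ : closure S) ⟨y, hy⟩
    have := congrArg Subtype.val hc
    simpa using this
  have hAsolv : Group.IsSolvable A :=
    isSolvable_of_comm fun x y => Subtype.ext (hAcomm x x.2 y y.2)
  -- `H` normalizes `A`
  have hAN : ∀ h ∈ H, ∀ x ∈ A, h * x * h⁻¹ ∈ A := by
    intro h hh x hx
    refine closure_induction (p := fun x _ => h * x * h⁻¹ ∈ A) ?_ ?_ ?_ ?_ hx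
    · rintro x ⟨z, hz, h', hh', rfl⟩
      refine subset_closure ⟨z, hz, h * h', H.mul_mem hh hh', ?_⟩
      group
    · simp
    · intro x y _ _ hx hy
      have : h * (x * y) * h⁻¹ = (h * x * h⁻¹) * (h * y * h⁻¹) := by group
      rw [this]; exact A.mul_mem hx hy
    · intro x _ hx
      have : h * x⁻¹ * h⁻¹ = (h * x * h⁻¹)⁻¹ := by group
      rw [this]; exact A.inv_mem hx
  -- `[A, L] ≤ A ⊓ L`
  have hAL : ⁅A, L⁆ ≤ A ⊓ L := by
    rw [Subgroup.commutator_le]
    intro a ha l hl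
    refine ⟨?_, ?_⟩
    · have h1 : l * a⁻¹ * l⁻¹ ∈ A := hAN l (hLH hl) _ (A.inv_mem ha)
      have : ⁅a, l⁆ = a * (l * a⁻¹ * l⁻¹) := by rw [commutatorElement_def]; group
      rw [this]; exact A.mul_mem ha h1
    · have haN := hN (hAH ha)
      rw [mem_normalizer_iff] at haN
      have h1 : a * l * a⁻¹ ∈ L := (haN l).1 hl
      have : ⁅a, l⁆ = (a * l * a⁻¹) * l⁻¹ := by rw [commutatorElement_def]
      rw [this]; exact L.mul_mem h1 (L.inv_mem hl)
  -- `M = A ⊓ L` is normalized by `L`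
  have hMn : L ≤ normalizer ((A ⊓ L : Subgroup (Perm Ω)) : Set (Perm Ω)) := by
    intro l hl
    rw [mem_normalizer_iff]
    intro x
    constructor
    · rintro ⟨hxA, hxL⟩
      exact ⟨hAN l (hLH hl) x hxA, L.mul_mem (L.mul_mem hl hxL) (L.inv_mem hl)⟩
    · rintro ⟨hxA, hxL⟩
      have h1 := hAN l⁻¹ (H.inv_mem (hLH hl)) _ hxA
      have h2 : l⁻¹ * (l * x * l⁻¹) * l⁻¹⁻¹ = x := by group
      rw [h2] at h1
      have h3 : l⁻¹ * (l * x * l⁻¹) * l ∈ L := L.mul_mem (L.mul_mem (L.inv_mem hl) hxL) hl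
      have h4 : l⁻¹ * (l * x * l⁻¹) * l = x := by group
      rw [h4] at h3
      exact ⟨h1, h3⟩
  have hLM : ⁅L, A ⊓ L⁆ = ⊥ := by
    rcases IsQuasisimple.eq_or_commutator_eq_bot hQs inf_le_right hMn with h | h
    · exfalso
      have hLA : L ≤ A := by rw [← h]; exact inf_le_left
      exact IsQuasisimple.not_le_of_isSolvable hQs hAsolv hLA
    · exact h
  have h1 : ⁅⁅A, L⁆, L⁆ = ⊥ := by
    rw [eq_bot_iff, ← hLM, Subgroup.commutator_comm L]
    exact Subgroup.commutator_mono hAL le_rfl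
  have h2 : ⁅⁅L, A⁆, L⁆ = ⊥ := by
    rw [Subgroup.commutator_comm L A]; exact h1
  have h4 : ⁅⁅L, L⁆, A⁆ = ⊥ := Subgroup.commutator_commutator_eq_bot_of_rotate h2 h1
  rw [IsQuasisimple.commutator_eq_self hQs, Subgroup.commutator_eq_bot_iff_le_centralizer,
    Subgroup.le_centralizer_iff] at h4
  intro z hz l hl
  have hzA : z ∈ A := by
    refine subset_closure ⟨z, hz, 1, H.one_mem, ?_⟩
    simp
  have := h4 hzA
  rw [mem_centralizer_iff] at this
  exact (this l hl)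

/-- (PF) a perfect group leaving a set of at most 4 points invariant fixes it pointwise. -/
theorem fix_of_invariant_of_card_le_four (L : Subgroup (Perm Ω)) (hP : Group.IsPerfect L)
    (Y : Finset Ω) (hY : Y.card ≤ 4) (hinv : ∀ l ∈ L, ∀ x ∈ Y, l x ∈ Y) :
    ∀ l ∈ L, ∀ x ∈ Y, l x = x := by
  intro l hl x hx
  have hp : ∀ (l : L) (a : Ω), (l • a) ∈ Y ↔ a ∈ Y := by
    intro l a
    constructor
    · intro h
      have := hinv l.1⁻¹ (L.inv_mem l.2) _ h
      have e : (l.1)⁻¹ (l • a) = a := by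
        show (l.1)⁻¹ (l.1 a) = a
        simp
      rwa [e] at this
    · intro h
      exact hinv l.1 l.2 a h
  let φ := Cfsg.Agent.Lib.Helper5.NilSym.resHom (G := L) (fun a => a ∈ Y) hp
  haveI : Group.IsSolvable (Perm {a // a ∈ Y}) := by
    apply Cfsg.Agent.Lib.Helper8.isSolvable_of_card_dvd_24
    rw [Nat.card_perm, Nat.card_eq_fintype_card, Fintype.card_coe]
    have : Y.card = 0 ∨ Y.card = 1 ∨ Y.card = 2 ∨ Y.card = 3 ∨ Y.card = 4 := by omega
    rcases this with h | h | h | h | h <;> rw [h] <;> decide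
  have h1 := Cfsg.Agent.S2929.hom_eq_one_of_perfect φ ⟨l, hl⟩
  have h2 := congrArg (fun f : Perm {a // a ∈ Y} => ((f ⟨x, hx⟩ : {a // a ∈ Y}) : Ω)) h1
  simp only [Perm.coe_one, id_eq] at h2
  rw [Cfsg.Agent.Lib.Helper5.NilSym.resHom_apply] at h2
  exact h2

/-- (PF') a perfect group centralizing an abelian group `A` and mapping `x₀` into `A x₀`
fixes `x₀`. -/
theorem fix_of_commute_abelian (L : Subgroup (Perm Ω)) (hP : Group.IsPerfect L)
    (A : Subgroup (Perm Ω)) (hA : ∀ a ∈ A, ∀ b ∈ A, Commute a b)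
    (hLA : ∀ l ∈ L, ∀ a ∈ A, Commute l a) (x₀ : Ω)
    (hx : ∀ l ∈ L, ∃ a ∈ A, l x₀ = a x₀) : ∀ l ∈ L, l x₀ = x₀ := by
  have hcomm : ∀ l ∈ L, ∀ l' ∈ L, l (l' x₀) = l' (l x₀) := by
    intro l hl l' hl'
    obtain ⟨a, ha, hla⟩ := hx l hl
    obtain ⟨a', ha', hla'⟩ := hx l' hl'
    have c1 : l (a' x₀) = a' (l x₀) := by
      have := congrArg (fun f : Perm Ω => f x₀) (hLA l hl a' ha').eq
      simpa [Perm.mul_apply] using this
    have c2 : l' (a x₀) = a (l' x₀) := by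
      have := congrArg (fun f : Perm Ω => f x₀) (hLA l' hl' a ha).eq
      simpa [Perm.mul_apply] using this
    have c3 : a' (a x₀) = a (a' x₀) := by
      have := congrArg (fun f : Perm Ω => f x₀) (hA a' ha' a ha).eq
      simpa [Perm.mul_apply] using this
    calc l (l' x₀) = l (a' x₀) := by rw [hla']
      _ = a' (l x₀) := c1
      _ = a' (a x₀) := by rw [hla]
      _ = a (a' x₀) := c3
      _ = a (l' x₀) := by rw [hla']
      _ = l' (a x₀) := c2.symm
      _ = l' (l x₀) := by rw [hla]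
  have hle : ⁅L, L⁆ ≤ MulAction.stabilizer (Perm Ω) x₀ := by
    rw [Subgroup.commutator_le]
    intro l hl l' hl'
    rw [MulAction.mem_stabilizer_iff, commutatorElement_def]
    show (l * l' * l⁻¹ * l'⁻¹) x₀ = x₀
    have h1 := hcomm l⁻¹ (L.inv_mem hl) l'⁻¹ (L.inv_mem hl')
    simp only [Perm.mul_apply]
    rw [h1]
    simp
  haveI := hP
  rw [Subgroup.commutator_eq_self] at hle
  intro l hl
  have := hle hl
  rwa [MulAction.mem_stabilizer_iff] at this

end Cfsg.Agent.Lib.Helper8.Tet
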