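import Mathlib
import Cfsg.Agent.Lib.Lead.Core
import Cfsg.Agent.S0044

set_option autoImplicit false

/-!
# An involution of a solvable group with trivial `O_2` moves some `O_r`
-/

namespace Cfsg.Agent.Lib.Helper7.Trv

open Cfsg Cfsg.Agent.Lib.Lead

universe u

variable {X : Type u} [Group X]

/-- in a finite solvable group with `O_2 = 1`, a nontrivial involution fails to centralize
some `O_r`. -/
theorem exists_pCore_not_comm [Finite X] [Group.IsSolvable X] (hO : Cfsg.pCore 2 X = ⊥)
    (t : X) (ht : t ≠ 1) (ht2 : t * t = 1) :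
    ∃ (r : ℕ) (f : X), r.Prime ∧ f ∈ Cfsg.pCore r X ∧ f * t ≠ t * f := by
  by_contra hcon
  push Not at hcon
  set F := Cfsg.fittingSubgroup X with hF
  have hFn : F.Normal := fittingSubgroup_normal
  have hle : F ≤ Subgroup.centralizer ({t} : Set X) := by
    rw [hF, fittingSubgroup_eq_iSup_pCore]
    apply iSup_le
    intro p f hf
    rw [Subgroup.mem_centralizer_iff]
    intro y hy
    rw [Set.mem_singleton_iff] at hy
    subst hy
    exact (hcon p f p.2 hf).symm
  have htC : t ∈ Subgroup.centralizer (F : Set X) := by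
    rw [Subgroup.mem_centralizer_iff]
    intro f hf
    have := Subgroup.mem_centralizer_iff.mp (hle hf) t (Set.mem_singleton t)
    exact this.symm
  have htF : t ∈ F := Cfsg.Agent.S0044.result htC
  -- the subgroup of involutions of `Z(F)`
  let N : Subgroup X :=
    { carrier := {z | z ∈ F ∧ z ∈ Subgroup.centralizer (F : Set X) ∧ z * z = 1}
      one_mem' := ⟨F.one_mem, Subgroup.one_mem _, by simp⟩
      mul_mem' := by
        rintro a b ⟨ha1, ha2, ha3⟩ ⟨hb1, hb2, hb3⟩
        refine ⟨F.mul_mem ha1 hb1, Subgroup.mul_mem _ ha2 hb2, ?_⟩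
        have hab : b * a = a * b := Subgroup.mem_centralizer_iff.mp ha2 b hb1
        calc a * b * (a * b) = a * (b * a) * b := by group
          _ = a * (a * b) * b := by rw [hab]
          _ = (a * a) * (b * b) := by group
          _ = 1 := by rw [ha3, hb3, one_mul]
      inv_mem' := by
        rintro a ⟨ha1, ha2, ha3⟩
        refine ⟨F.inv_mem ha1, Subgroup.inv_mem _ ha2, ?_⟩
        calc a⁻¹ * a⁻¹ = (a * a)⁻¹ := by group
          _ = 1 := by rw [ha3, inv_one] }
  have hNn : N.Normal := by
    constructor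
    rintro z ⟨hz1, hz2, hz3⟩ g
    refine ⟨hFn.conj_mem z hz1 g, ?_, ?_⟩
    · rw [Subgroup.mem_centralizer_iff]
      intro f hf
      have hf' : g⁻¹ * f * g ∈ F := by
        have := hFn.conj_mem f hf g⁻¹
        simpa using this
      have h1 := Subgroup.mem_centralizer_iff.mp hz2 _ hf'
      calc f * (g * z * g⁻¹) = g * ((g⁻¹ * f * g) * z) * g⁻¹ := by group
        _ = g * (z * (g⁻¹ * f * g)) * g⁻¹ := by rw [h1]
        _ = g * z * g⁻¹ * f := by group
    · calc g * z * g⁻¹ * (g * z * g⁻¹) = g * (z * z) * g⁻¹ := by group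
        _ = 1 := by rw [hz3]; group
  have hNp : IsPGroup 2 N := by
    rintro ⟨z, hz1, hz2, hz3⟩
    refine ⟨1, ?_⟩
    apply Subtype.ext
    simp only [pow_one, Subgroup.coe_pow, Subgroup.coe_one]
    rw [pow_two]; exact hz3
  have hNle : N ≤ Cfsg.pCore 2 X := le_pCore hNn hNp
  rw [hO] at hNle
  have htN : t ∈ N := ⟨htF, htC, ht2⟩
  exact ht (Subgroup.mem_bot.mp (hNle htN))

end Cfsg.Agent.Lib.Helper7.Trv
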