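import Mathlib

set_option autoImplicit false
set_option linter.unusedSimpArgs false

/-!
# Transvections over the field with two elements: linear algebra lemmas
-/

namespace Cfsg.Agent.Lib.Helper7.Trv

variable {V : Type*} [AddCommGroup V] [Module (ZMod 2) V]

theorem c2 (a : V) : a + a = 0 := ZModModule.add_self a

theorem c2' (a b : V) : a + (a + b) = b := by rw [← add_assoc, c2, zero_add]

theorem eq_of_add_eq_zero {a b : V} (h : a + b = 0) : a = b := by
  have := congrArg (· + b) h
  simp only [add_assoc, c2, add_zero, zero_add] at this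
  exact this

/-- a nontrivial involution all of whose commutators are `0` or `v0` fixes `v0 ≠ 0` -/
theorem fix_center (t : V ≃ₗ[ZMod 2] V) (v0 : V) (ht : ∀ v, t v = v ∨ t v = v + v0)
    (ht2 : t * t = 1) (ht1 : t ≠ 1) : v0 ≠ 0 ∧ t v0 = v0 := by
  have h1 : ∃ v1, t v1 ≠ v1 := by
    by_contra hcon
    push Not at hcon
    exact ht1 (LinearEquiv.ext hcon)
  obtain ⟨v1, hv1⟩ := h1
  have h2 : t v1 = v1 + v0 := (ht v1).resolve_left hv1
  have h3 : v0 ≠ 0 := by
    intro h0
    rw [h0, add_zero] at h2
    exact hv1 h2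
  refine ⟨h3, ?_⟩
  have h4 : t (t v1) = v1 := by
    have : (t * t) v1 = v1 := by rw [ht2]; rfl
    rwa [LinearEquiv.mul_apply] at this
  rw [h2, map_add, h2] at h4
  -- v1 + v0 + t v0 = v1
  have h5 : v0 + t v0 = 0 := by
    have := congrArg (v1 + ·) h4
    simp only [add_assoc, c2, c2', add_zero] at this
    simpa [add_assoc] using this
  exact (eq_of_add_eq_zero h5).symm

/-- if `x - 1` has image in `{0, a, c, a + c}`, `x` fixes `c` and moves `a` by `0` or `c`,
then `x ^ 4 = 1`. -/
theorem pow_four_eq_one (x : V ≃ₗ[ZMod 2] V) (a c : V)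
    (hx : ∀ v, x v = v ∨ x v = v + a ∨ x v = v + c ∨ x v = v + (a + c))
    (hc : x c = c) (ha : x a = a ∨ x a = a + c) : x ^ 4 = 1 := by
  have h2 : ∀ v, x (x v) = v ∨ x (x v) = v + c := by
    intro v
    rcases hx v with h | h | h | h
    · left; rw [h, h]
    · rw [h, map_add, h]
      rcases ha with h' | h'
      · left; rw [h']
        simp only [add_comm, add_left_comm, add_assoc, c2, c2', add_zero, zero_add]
      · right; rw [h']
        simp only [add_comm, add_left_comm, add_assoc, c2, c2', add_zero, zero_add]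
    · left; rw [h, map_add, h, hc]
      simp only [add_comm, add_left_comm, add_assoc, c2, c2', add_zero, zero_add]
    · rw [h, map_add, h, map_add, hc]
      rcases ha with h' | h'
      · left; rw [h']
        simp only [add_comm, add_left_comm, add_assoc, c2, c2', add_zero, zero_add]
      · right; rw [h']
        simp only [add_comm, add_left_comm, add_assoc, c2, c2', add_zero, zero_add]
  have h2c : x (x c) = c := by rw [hc, hc]
  apply LinearEquiv.ext
  intro v
  have e : (x ^ 4) v = x (x (x (x v))) := by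
    have : x ^ 4 = x * x * x * x := by rw [pow_succ, pow_succ, pow_succ, pow_one]
    rw [this]
    simp only [LinearEquiv.mul_apply]
  rw [e]
  show x (x (x (x v))) = v
  rcases h2 v with h | h
  · rw [h, h]
  · rw [h, map_add, map_add, h, h2c]
    simp only [add_comm, add_left_comm, add_assoc, c2, c2', add_zero, zero_add]

theorem eq_one_of_pow_four (x : V ≃ₗ[ZMod 2] V) (h4 : x ^ 4 = 1) (k : ℕ) (hk : Odd k)
    (hxk : x ^ k = 1) : x = 1 := by
  have h1 : orderOf x ∣ 4 := orderOf_dvd_of_pow_eq_one h4
  have h2 : orderOf x ∣ k := orderOf_dvd_of_pow_eq_one hxk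
  have h3 : orderOf x ∣ Nat.gcd 4 k := Nat.dvd_gcd h1 h2
  have h4' : Nat.gcd 4 k = 1 := by
    have : Nat.Coprime (2 ^ 2) k := Nat.Coprime.pow_left 2 (Nat.coprime_two_left.mpr hk)
    simpa using this
  rw [h4'] at h3
  exact orderOf_eq_one_iff.mp (Nat.dvd_one.mp h3)

/-- the commutator of a transvection-like involution `t` with `f`, if nontrivial of odd order,
acts as an element of order three on the plane spanned by the two centres. -/
theorem key_x (t f : V ≃ₗ[ZMod 2] V) (v0 : V) (ht : ∀ v, t v = v ∨ t v = v + v0)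
    (ht2 : t * t = 1) (ht1 : t ≠ 1)
    (x : V ≃ₗ[ZMod 2] V) (hx : x = f⁻¹ * t * f * t) (hx1 : x ≠ 1) (k : ℕ) (hk : Odd k)
    (hxk : x ^ k = 1) :
    t (f⁻¹ v0) = f⁻¹ v0 + v0 ∧ x v0 = v0 + f⁻¹ v0 ∧ x (f⁻¹ v0) = v0 ∧ f⁻¹ v0 ≠ v0 ∧
      (∀ v, x v = v ∨ x v = v + v0 ∨ x v = v + f⁻¹ v0 ∨ x v = v + (v0 + f⁻¹ v0)) := by
  obtain ⟨hv0, htv0⟩ := fix_center t v0 ht ht2 ht1
  set w0 := f⁻¹ v0 with hw0
  -- the conjugate transvection
  have ht' : ∀ v, f⁻¹ (t (f v)) = v ∨ f⁻¹ (t (f v)) = v + w0 := by
    intro v
    rcases ht (f v) with h | h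
    · left; rw [h]; simp
    · right; rw [h, map_add]; simp [hw0]
  have ht'w0 : f⁻¹ (t (f w0)) = w0 := by
    rw [hw0]; simp [htv0]
  have hxv : ∀ v, x v = f⁻¹ (t (f (t v))) := by
    intro v; rw [hx]; simp only [LinearEquiv.mul_apply]
  have hall : ∀ v, x v = v ∨ x v = v + v0 ∨ x v = v + w0 ∨ x v = v + (v0 + w0) := by
    intro v
    rw [hxv]
    rcases ht v with h | h
    · rw [h]
      rcases ht' v with h' | h'
      · left; exact h'
      · right; right; left; exact h'
    · rw [h, map_add, map_add, map_add]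
      rcases ht' v with h' | h' <;> rcases ht' v0 with h'' | h'' <;> rw [h', h'']
      · right; left; rfl
      · right; right; right; rfl
      · right; right; right
        simp only [add_comm, add_left_comm, add_assoc, c2, c2', add_zero, zero_add]
      · right; left
        simp only [add_comm, add_left_comm, add_assoc, c2, c2', add_zero, zero_add]
  have hxv0 : x v0 = f⁻¹ (t (f v0)) := by rw [hxv, htv0]
  rcases ht' v0 with hA | hA
  · -- case A : t' v0 = v0
    exfalso
    apply hx1
    apply eq_one_of_pow_four x _ k hk hxk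
    apply pow_four_eq_one x w0 v0
    · intro v
      rcases hall v with h | h | h | h
      · left; exact h
      · right; right; left; exact h
      · right; left; exact h
      · right; right; right; rw [h, add_comm v0 w0]
    · rw [hxv0, hA]
    · rw [hxv]
      rcases ht w0 with h | h
      · left; rw [h, ht'w0]
      · right; rw [h, map_add, map_add, map_add, ht'w0, hA]
  · rcases ht w0 with hB | hB
    · -- case B : t w0 = w0
      exfalso
      apply hx1
      apply eq_one_of_pow_four x _ k hk hxk
      apply pow_four_eq_one x v0 w0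
      · exact hall
      · rw [hxv, hB, ht'w0]
      · right; rw [hxv0, hA]
    · -- case C
      have h1 : x v0 = v0 + w0 := by rw [hxv0, hA]
      have h2 : x w0 = v0 := by
        rw [hxv, hB, map_add, map_add, map_add, ht'w0, hA]
        simp only [add_comm, add_left_comm, add_assoc, c2, c2', add_zero, zero_add]
      refine ⟨hB, h1, h2, ?_, hall⟩
      intro h
      rw [h, c2] at h1
      have : x v0 = x 0 := by rw [h1, map_zero]
      exact hv0 (x.injective this)

/-- under the conclusion of `key_x`, `x ^ 3 = 1`. -/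
theorem pow_three_eq_one (x : V ≃ₗ[ZMod 2] V) (v0 w0 : V) (h1 : x v0 = v0 + w0) (h2 : x w0 = v0)
    (hall : ∀ v, x v = v ∨ x v = v + v0 ∨ x v = v + w0 ∨ x v = v + (v0 + w0)) : x ^ 3 = 1 := by
  apply LinearEquiv.ext
  intro v
  have e : (x ^ 3) v = x (x (x v)) := by
    have : x ^ 3 = x * x * x := by rw [pow_succ, pow_succ, pow_one]
    rw [this]
    simp only [LinearEquiv.mul_apply]
  rw [e]
  show x (x (x v)) = v
  rcases hall v with h | h | h | h
  · rw [h, h, h]
  · simp only [map_add, h, h1, h2, add_comm, add_left_comm, add_assoc, c2, c2', add_zero, zero_add]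
  · simp only [map_add, h, h1, h2, add_comm, add_left_comm, add_assoc, c2, c2', add_zero, zero_add]
  · simp only [map_add, h, h1, h2, add_comm, add_left_comm, add_assoc, c2, c2', add_zero, zero_add]

end Cfsg.Agent.Lib.Helper7.Trv
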