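import Mathlib
import Cfsg.Agent.Lib.Helper7.Trv2

set_option autoImplicit false
set_option linter.unusedSimpArgs false

/-!
# Two elements of order three sharing a transvection centre: the central element argument
-/

namespace Cfsg.Agent.Lib.Helper7.Trv

variable {V : Type*} [AddCommGroup V] [Module (ZMod 2) V]

/-- a `3`-element of `⟨x, x'⟩` commuting with `x` and `x'` is trivial, when the planes of `x`
and `x'` meet in the line of `v0` only. -/
theorem central_eq_one (x x' z : V ≃ₗ[ZMod 2] V) (v0 w0 w0' : V)
    (hx : ∀ v, x v = v ∨ x v = v + v0 ∨ x v = v + w0 ∨ x v = v + (v0 + w0))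
    (hx' : ∀ v, x' v = v ∨ x' v = v + v0 ∨ x' v = v + w0' ∨ x' v = v + (v0 + w0'))
    (hxv0 : x v0 = v0 + w0) (hxw0 : x w0 = v0)
    (hx'v0 : x' v0 = v0 + w0') (hx'w0' : x' w0' = v0)
    (hv0 : v0 ≠ 0)
    (hw3 : w0' ≠ w0) (hw4 : w0' ≠ v0 + w0)
    (hzx : z * x = x * z) (hzx' : z * x' = x' * z)
    (hzY : z ∈ Subgroup.closure ({x, x'} : Set (V ≃ₗ[ZMod 2] V))) (k : ℕ)
    (hzk : z ^ (3 ^ k) = 1) : z = 1 := by
  have hzxv : ∀ v, z (x v) = x (z v) := by
    intro v
    have := congrArg (fun g : V ≃ₗ[ZMod 2] V => g v) hzx
    simpa only [LinearEquiv.mul_apply] using this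
  have hzx'v : ∀ v, z (x' v) = x' (z v) := by
    intro v
    have := congrArg (fun g : V ≃ₗ[ZMod 2] V => g v) hzx'
    simpa only [LinearEquiv.mul_apply] using this
  have hzv0ne : z v0 ≠ 0 := by
    intro h
    have : z v0 = z 0 := by rw [h, map_zero]
    exact hv0 (z.injective this)
  -- z v0 lies in the plane of x
  have hA : z v0 = v0 ∨ z v0 = w0 ∨ z v0 = v0 + w0 := by
    have e : v0 = x (v0 + w0) + (v0 + w0) := by
      simp only [map_add, hxv0, hxw0, add_comm, add_left_comm, add_assoc, c2, c2', add_zero,
        zero_add]
    have e2 : z v0 = x (z (v0 + w0)) + z (v0 + w0) := by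
      conv_lhs => rw [e]
      rw [map_add, hzxv]
    rcases hx (z (v0 + w0)) with h | h | h | h
    · exfalso; rw [h, c2] at e2; exact hzv0ne e2
    · left; rw [e2, h]
      simp only [add_comm, add_left_comm, add_assoc, c2, c2', add_zero, zero_add]
    · right; left; rw [e2, h]
      simp only [add_comm, add_left_comm, add_assoc, c2, c2', add_zero, zero_add]
    · right; right; rw [e2, h]
      simp only [add_comm, add_left_comm, add_assoc, c2, c2', add_zero, zero_add]
  have hB : z v0 = v0 ∨ z v0 = w0' ∨ z v0 = v0 + w0' := by
    have e : v0 = x' (v0 + w0') + (v0 + w0') := by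
      simp only [map_add, hx'v0, hx'w0', add_comm, add_left_comm, add_assoc, c2, c2', add_zero,
        zero_add]
    have e2 : z v0 = x' (z (v0 + w0')) + z (v0 + w0') := by
      conv_lhs => rw [e]
      rw [map_add, hzx'v]
    rcases hx' (z (v0 + w0')) with h | h | h | h
    · exfalso; rw [h, c2] at e2; exact hzv0ne e2
    · left; rw [e2, h]
      simp only [add_comm, add_left_comm, add_assoc, c2, c2', add_zero, zero_add]
    · right; left; rw [e2, h]
      simp only [add_comm, add_left_comm, add_assoc, c2, c2', add_zero, zero_add]
    · right; right; rw [e2, h]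
      simp only [add_comm, add_left_comm, add_assoc, c2, c2', add_zero, zero_add]
  have hzv0 : z v0 = v0 := by
    rcases hA with h | h | h
    · exact h
    · rcases hB with h' | h' | h'
      · exact h'
      · exfalso; exact hw3 (h'.symm.trans h)
      · exfalso
        apply hw4
        have : w0 = v0 + w0' := h.symm.trans h'
        rw [this]
        simp only [add_comm, add_left_comm, add_assoc, c2, c2', add_zero, zero_add]
    · rcases hB with h' | h' | h'
      · exact h'
      · exfalso; exact hw4 (h'.symm.trans h)
      · exfalso
        apply hw3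
        have : v0 + w0 = v0 + w0' := h.symm.trans h'
        exact (add_left_cancel this).symm
  have hzw0 : z w0 = w0 := by
    have e : w0 = x v0 + v0 := by
      rw [hxv0]
      simp only [add_comm, add_left_comm, add_assoc, c2, c2', add_zero, zero_add]
    conv_lhs => rw [e]
    rw [map_add, hzxv, hzv0, ← e]
  have hzw0' : z w0' = w0' := by
    have e : w0' = x' v0 + v0 := by
      rw [hx'v0]
      simp only [add_comm, add_left_comm, add_assoc, c2, c2', add_zero, zero_add]
    conv_lhs => rw [e]
    rw [map_add, hzx'v, hzv0, ← e]
  -- the span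
  set W : Submodule (ZMod 2) V := Submodule.span (ZMod 2) {v0, w0, w0'} with hW
  have hv0W : v0 ∈ W := Submodule.subset_span (by simp)
  have hw0W : w0 ∈ W := Submodule.subset_span (by simp)
  have hw0'W : w0' ∈ W := Submodule.subset_span (by simp)
  have hQ : ∀ g ∈ Subgroup.closure ({x, x'} : Set (V ≃ₗ[ZMod 2] V)), ∀ v, g v + v ∈ W := by
    intro g hg
    induction hg using Subgroup.closure_induction with
    | mem g hg =>
      intro v
      rcases hg with rfl | hg
      · rcases hx v with h | h | h | h <;> rw [h]
        · rw [c2]; exact W.zero_mem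
        · have : v + v0 + v = v0 := by
            simp only [add_comm, add_left_comm, add_assoc, c2, c2', add_zero, zero_add]
          rw [this]; exact hv0W
        · have : v + w0 + v = w0 := by
            simp only [add_comm, add_left_comm, add_assoc, c2, c2', add_zero, zero_add]
          rw [this]; exact hw0W
        · have : v + (v0 + w0) + v = v0 + w0 := by
            simp only [add_comm, add_left_comm, add_assoc, c2, c2', add_zero, zero_add]
          rw [this]; exact W.add_mem hv0W hw0W
      · rw [Set.mem_singleton_iff] at hg
        subst hg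
        rcases hx' v with h | h | h | h <;> rw [h]
        · rw [c2]; exact W.zero_mem
        · have : v + v0 + v = v0 := by
            simp only [add_comm, add_left_comm, add_assoc, c2, c2', add_zero, zero_add]
          rw [this]; exact hv0W
        · have : v + w0' + v = w0' := by
            simp only [add_comm, add_left_comm, add_assoc, c2, c2', add_zero, zero_add]
          rw [this]; exact hw0'W
        · have : v + (v0 + w0') + v = v0 + w0' := by
            simp only [add_comm, add_left_comm, add_assoc, c2, c2', add_zero, zero_add]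
          rw [this]; exact W.add_mem hv0W hw0'W
    | one =>
      intro v
      show v + v ∈ W
      rw [c2]; exact W.zero_mem
    | mul g h _ _ ihg ihh =>
      intro v
      have : (g * h) v + v = (g (h v) + h v) + (h v + v) := by
        rw [LinearEquiv.mul_apply]
        simp only [add_comm, add_left_comm, add_assoc, c2, c2', add_zero, zero_add]
      rw [this]
      exact W.add_mem (ihg (h v)) (ihh v)
    | inv g _ ih =>
      intro v
      have h1 := ih (g⁻¹ v)
      have : g (g⁻¹ v) = v := by simp
      rw [this, add_comm] at h1
      exact h1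
  have hfix : ∀ w ∈ W, z w = w := by
    intro w hw
    induction hw using Submodule.span_induction with
    | mem w hw =>
      rcases hw with rfl | rfl | hw
      · exact hzv0
      · exact hzw0
      · rw [Set.mem_singleton_iff] at hw; subst hw; exact hzw0'
    | zero => exact map_zero z
    | add a b _ _ ha hb => rw [map_add, ha, hb]
    | smul c a _ ha => rw [map_smul, ha]
  have hzz : z * z = 1 := by
    apply LinearEquiv.ext
    intro v
    rw [LinearEquiv.mul_apply]
    show z (z v) = v
    have hd := hQ z hzY v
    have h1 : z v = v + (z v + v) := by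
      simp only [add_comm, add_left_comm, add_assoc, c2, c2', add_zero, zero_add]
    have h2 : z (z v) = z v + z (z v + v) := by
      conv_lhs => rw [h1]
      rw [map_add]
    rw [h2, hfix _ hd]
    simp only [add_comm, add_left_comm, add_assoc, c2, c2', add_zero, zero_add]
  have h1 : orderOf z ∣ 2 := orderOf_dvd_of_pow_eq_one (by rw [pow_two]; exact hzz)
  have h2 : orderOf z ∣ 3 ^ k := orderOf_dvd_of_pow_eq_one hzk
  have h3 : orderOf z ∣ Nat.gcd 2 (3 ^ k) := Nat.dvd_gcd h1 h2
  have h4 : Nat.gcd 2 (3 ^ k) = 1 := by
    have : Nat.Coprime 2 (3 ^ k) := Nat.Coprime.pow_right k (by norm_num)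
    exact this
  rw [h4] at h3
  exact orderOf_eq_one_iff.mp (Nat.dvd_one.mp h3)

end Cfsg.Agent.Lib.Helper7.Trv
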