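import Mathlib
import Cfsg.Agent.Lib.Helper7.Trv1
import Cfsg.Agent.Lib.Helper7.Trv3

set_option autoImplicit false
set_option linter.unusedSimpArgs false

/-!
# In a solvable linear group over `F_2` with `O_2 = 1` no transvection is a square
-/

namespace Cfsg.Agent.Lib.Helper7.Trv

open Cfsg Cfsg.Agent.Lib.Lead

variable {V : Type*} [AddCommGroup V] [Module (ZMod 2) V]

theorem no_transvection_square [Finite V] (S : Subgroup (V ≃ₗ[ZMod 2] V))
    (hS : Group.IsSolvable ↥S) (hO2 : Cfsg.pCore 2 ↥S = ⊥)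
    (P : V ≃ₗ[ZMod 2] V) (hPS : P ∈ S) (hP4 : P ^ 4 = 1) (hP2 : P * P ≠ 1) (v0 : V)
    (ht : ∀ v, P (P v) = v ∨ P (P v) = v + v0) : False := by
  classical
  haveI : Finite (V ≃ₗ[ZMod 2] V) :=
    Finite.of_injective (fun e => (e : V → V)) DFunLike.coe_injective
  haveI : Finite ↥S := inferInstance
  haveI := hS
  set t : V ≃ₗ[ZMod 2] V := P * P with ht_def
  have htS : t ∈ S := S.mul_mem hPS hPS
  have ht' : ∀ v, t v = v ∨ t v = v + v0 := by
    intro v; rw [ht_def, LinearEquiv.mul_apply]; exact ht v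
  have ht2 : t * t = 1 := by
    rw [ht_def]
    calc P * P * (P * P) = P ^ 4 := by rw [pow_succ, pow_succ, pow_succ, pow_one]; group
      _ = 1 := hP4
  obtain ⟨hv0, htv0⟩ := fix_center t v0 ht' ht2 hP2
  have htS1 : (⟨t, htS⟩ : ↥S) ≠ 1 := by
    intro h; apply hP2; exact congrArg Subtype.val h
  have htS2 : (⟨t, htS⟩ : ↥S) * ⟨t, htS⟩ = 1 := Subtype.ext ht2
  obtain ⟨r, fS, hr, hfS, hne⟩ := exists_pCore_not_comm hO2 ⟨t, htS⟩ htS1 htS2
  haveI : Fact r.Prime := ⟨hr⟩
  have hr2 : r ≠ 2 := by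
    rintro rfl
    rw [hO2, Subgroup.mem_bot] at hfS
    subst hfS
    simp at hne
  set f : V ≃ₗ[ZMod 2] V := (fS : V ≃ₗ[ZMod 2] V) with hf
  have hft : f * t ≠ t * f := by
    intro h; apply hne; exact Subtype.ext h
  set x : V ≃ₗ[ZMod 2] V := f⁻¹ * t * f * t with hx
  set xS : ↥S := fS⁻¹ * ⟨t, htS⟩ * fS * ⟨t, htS⟩ with hxS
  have hxSval : (xS : V ≃ₗ[ZMod 2] V) = x := rfl
  have hnorm : ∀ q : ℕ, (Cfsg.pCore q ↥S).Normal := fun q => pCore_normal q (G := ↥S)
  have htinv : (⟨t, htS⟩ : ↥S)⁻¹ = ⟨t, htS⟩ := inv_eq_of_mul_eq_one_left htS2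
  have hxSmem : xS ∈ Cfsg.pCore r ↥S := by
    have h1 : (⟨t, htS⟩ : ↥S) * fS * (⟨t, htS⟩ : ↥S)⁻¹ ∈ Cfsg.pCore r ↥S :=
      (hnorm r).conj_mem fS hfS _
    rw [htinv] at h1
    have : xS = fS⁻¹ * (⟨t, htS⟩ * fS * ⟨t, htS⟩) := by rw [hxS]; group
    rw [this]; exact Subgroup.mul_mem _ (Subgroup.inv_mem _ hfS) h1
  have hx1 : x ≠ 1 := by
    intro h
    apply hft
    have h' : f⁻¹ * t * f * t = 1 := h
    have e1 : t * f * t = f := by
      calc t * f * t = f * (f⁻¹ * t * f * t) := by group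
        _ = f := by rw [h', mul_one]
    calc f * t = (t * f * t) * t := by rw [e1]
      _ = t * f * (t * t) := by group
      _ = t * f := by rw [ht2, mul_one]
  obtain ⟨k, hk⟩ := (pCore_isPGroup r (G := ↥S)) ⟨xS, hxSmem⟩
  have hxk : x ^ (r ^ k) = 1 := by
    have := congrArg (fun y : ↥(Cfsg.pCore r ↥S) => ((y : ↥S) : V ≃ₗ[ZMod 2] V)) hk
    simp only [Subgroup.coe_pow, Subgroup.coe_one] at this
    rw [hxSval] at this
    exact this
  have hodd : Odd (r ^ k) := Odd.pow (hr.odd_of_ne_two hr2)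
  obtain ⟨htw0, hxv0, hxw0, hwne, hall⟩ :=
    key_x t f v0 ht' ht2 hP2 x hx hx1 (r ^ k) hodd hxk
  set w0 := f⁻¹ v0 with hw0
  have hx3 : x ^ 3 = 1 := pow_three_eq_one x v0 w0 hxv0 hxw0 hall
  have hr3 : r = 3 := by
    have h1 : orderOf x ∣ 3 := orderOf_dvd_of_pow_eq_one hx3
    have h2 : orderOf x ∣ r ^ k := orderOf_dvd_of_pow_eq_one hxk
    have h3 : orderOf x ≠ 1 := by rwa [Ne, orderOf_eq_one_iff]
    have h4 : orderOf x = 3 := ((Nat.dvd_prime Nat.prime_three).mp h1).resolve_left h3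
    rw [h4] at h2
    have := (Nat.prime_dvd_prime_iff_eq Nat.prime_three hr).mp
      (Nat.Prime.dvd_of_dvd_pow Nat.prime_three h2)
    exact this.symm
  subst hr3
  -- P fixes v0
  have hPtv : ∀ v, P (t v) = t (P v) := by
    intro v; rw [ht_def]; simp only [LinearEquiv.mul_apply]
  have hPv0 : P v0 = v0 := by
    have h1 : ∃ v1, t v1 ≠ v1 := by
      by_contra hcon
      push Not at hcon
      exact hP2 (LinearEquiv.ext hcon)
    obtain ⟨v1, hv1⟩ := h1
    have h2 : t v1 = v1 + v0 := (ht' v1).resolve_left hv1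
    have h3 := hPtv v1
    rw [h2, map_add] at h3
    rcases ht' (P v1) with h | h
    · exfalso
      rw [h] at h3
      have : P v0 = 0 := by
        have := congrArg (P v1 + ·) h3
        simpa only [c2, c2'] using this
      have : P v0 = P 0 := by rw [this, map_zero]
      exact hv0 (P.injective this)
    · rw [h] at h3
      exact add_left_cancel h3
  have hPiv0 : P⁻¹ v0 = v0 := by
    conv_lhs => rw [← hPv0]
    simp
  set x' : V ≃ₗ[ZMod 2] V := P⁻¹ * x * P with hx'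
  set w0' := P⁻¹ w0 with hw0'
  have hx'v : ∀ v, x' v = P⁻¹ (x (P v)) := by
    intro v; rw [hx']; simp only [LinearEquiv.mul_apply]
  have hall' : ∀ v, x' v = v ∨ x' v = v + v0 ∨ x' v = v + w0' ∨ x' v = v + (v0 + w0') := by
    intro v
    rw [hx'v]
    rcases hall (P v) with h | h | h | h <;> rw [h]
    · left; simp
    · right; left; rw [map_add, hPiv0]; simp
    · right; right; left; rw [map_add]; simp [hw0']
    · right; right; right; rw [map_add, map_add, hPiv0]; simp [hw0']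
  have hx'v0 : x' v0 = v0 + w0' := by
    rw [hx'v, hPv0, hxv0, map_add, hPiv0]
  have hx'w0' : x' w0' = v0 := by
    rw [hx'v, hw0']
    have : P (P⁻¹ w0) = w0 := by simp
    rw [this, hxw0, hPiv0]
  -- the key claim
  have hclaim : w0' = w0 ∨ w0' = v0 + w0 := by
    by_contra hcon
    push Not at hcon
    obtain ⟨hw3, hw4⟩ := hcon
    set Y : Subgroup (V ≃ₗ[ZMod 2] V) := Subgroup.closure {x, x'} with hY
    have hxY : x ∈ Y := Subgroup.subset_closure (by simp)
    have hx'Y : x' ∈ Y := Subgroup.subset_closure (by simp)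
    have hYle : Y ≤ (Cfsg.pCore 3 ↥S).map S.subtype := by
      rw [hY, Subgroup.closure_le]
      rintro g (rfl | hg)
      · exact ⟨xS, hxSmem, rfl⟩
      · rw [Set.mem_singleton_iff] at hg
        subst hg
        refine ⟨(⟨P, hPS⟩ : ↥S)⁻¹ * xS * ⟨P, hPS⟩, ?_, rfl⟩
        have := (hnorm 3).conj_mem xS hxSmem (⟨P, hPS⟩ : ↥S)⁻¹
        rwa [inv_inv] at this
    have hYp : IsPGroup 3 Y := ((pCore_isPGroup 3 (G := ↥S)).map S.subtype).to_le hYle
    haveI : Nontrivial Y := by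
      refine ⟨⟨⟨x, hxY⟩, 1, ?_⟩⟩
      intro h
      exact hx1 (congrArg Subtype.val h)
    haveI : Finite Y := inferInstance
    haveI : Nontrivial (Subgroup.center Y) := hYp.center_nontrivial
    obtain ⟨z, hz⟩ := exists_ne (1 : Subgroup.center Y)
    have hzc := Subgroup.mem_center_iff.mp z.2
    have h1 : ((z : Y) : V ≃ₗ[ZMod 2] V) * x = x * ((z : Y) : V ≃ₗ[ZMod 2] V) := by
      have := hzc ⟨x, hxY⟩
      exact (congrArg Subtype.val this).symm
    have h2 : ((z : Y) : V ≃ₗ[ZMod 2] V) * x' = x' * ((z : Y) : V ≃ₗ[ZMod 2] V) := by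
      have := hzc ⟨x', hx'Y⟩
      exact (congrArg Subtype.val this).symm
    obtain ⟨k', hk'⟩ := hYp (z : Y)
    have h3 : ((z : Y) : V ≃ₗ[ZMod 2] V) ^ (3 ^ k') = 1 := by
      have := congrArg Subtype.val hk'
      simpa using this
    have h4 := central_eq_one x x' ((z : Y) : V ≃ₗ[ZMod 2] V) v0 w0 w0' hall hall' hxv0 hxw0
      hx'v0 hx'w0' hv0 hw3 hw4 h1 h2 (z : Y).2 k' h3
    apply hz
    apply Subtype.ext
    apply Subtype.ext
    exact h4
  -- final contradiction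
  have hfin : P⁻¹ (P⁻¹ w0) = w0 := by
    rcases hclaim with h | h
    · rw [← hw0', h, ← hw0', h]
    · rw [← hw0', h, map_add, hPiv0, ← hw0', h]
      simp only [add_comm, add_left_comm, add_assoc, c2, c2', add_zero, zero_add]
  have h5 : t w0 = w0 := by
    conv_lhs => rw [← hfin]
    rw [ht_def, LinearEquiv.mul_apply]
    simp
  rw [h5] at htw0
  have : v0 = 0 := by
    have := congrArg (w0 + ·) htw0
    simp only [c2, c2'] at this
    exact this.symm
  exact hv0 this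

end Cfsg.Agent.Lib.Helper7.Trv
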