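import Mathlib

set_option autoImplicit false

/-!
# Classes of `2`-elements: subgroups with a non-`2` automizer

`Bad H` says that `H` is a `2`-subgroup whose automizer `N_G(H)/C_G(H)` is not a `2`-group.
For a `Bad` subgroup of largest order, every `2`-element of `C_G(H)` lies in `H`.
-/

namespace Cfsg.Agent.Lib.Helper7.TwoCl

variable {G : Type*} [Group G]

/-- in a finite group, an element mapping a subgroup into itself by conjugation normalizes it -/
theorem conj_mem_normalizer [Finite G] {H : Subgroup G} {g : G}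
    (h : ∀ x ∈ H, g * x * g⁻¹ ∈ H) : g ∈ Subgroup.normalizer (H : Set G) := by
  have hpow : ∀ j : ℕ, ∀ x ∈ H, g ^ j * x * (g ^ j)⁻¹ ∈ H := by
    intro j
    induction j with
    | zero => intro x hx; simpa using hx
    | succ j ih =>
      intro x hx
      have h1 := h _ (ih x hx)
      have h2 : g * (g ^ j * x * (g ^ j)⁻¹) * g⁻¹ = g ^ (j + 1) * x * (g ^ (j + 1))⁻¹ := by
        rw [pow_succ']; group
      rwa [h2] at h1
  have hinv : ∀ x ∈ H, g⁻¹ * x * g ∈ H := by
    intro x hx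
    have ho : 0 < orderOf g := orderOf_pos g
    have h1 := hpow (orderOf g - 1) x hx
    have h2 : g ^ (orderOf g - 1) = g⁻¹ := by
      have : g ^ (orderOf g - 1) * g = 1 := by
        rw [← pow_succ, Nat.sub_add_cancel ho, pow_orderOf_eq_one]
      exact eq_inv_of_mul_eq_one_left this
    rwa [h2, inv_inv] at h1
  rw [Subgroup.mem_normalizer_iff]
  intro x
  constructor
  · exact h x
  · intro hx
    have := hinv _ hx
    have e : g⁻¹ * (g * x * g⁻¹) * g = x := by group
    rwa [e] at this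

/-- `H` is a `2`-subgroup whose automizer is not a `2`-group -/
def Bad (H : Subgroup G) : Prop :=
  IsPGroup 2 H ∧ ∃ x ∈ Subgroup.normalizer (H : Set G),
    ∀ j : ℕ, x ^ (2 ^ j) ∉ Subgroup.centralizer (H : Set G)

theorem mem_centralizer_iff_conj {H : Subgroup G} {g : G} :
    g ∈ Subgroup.centralizer (H : Set G) ↔ ∀ h ∈ H, g * h * g⁻¹ = h := by
  rw [Subgroup.mem_centralizer_iff]
  constructor
  · intro hg h hh
    have := hg h hh
    rw [← this]; group
  · intro hg h hh
    have := hg h hh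
    calc h * g = (g * h * g⁻¹) * g := by rw [this]
      _ = g * h := by group

/-- the normalizer of `H` normalizes the centralizer of `H` -/
theorem conj_mem_centralizer {H : Subgroup G} {x c : G}
    (hx : x ∈ Subgroup.normalizer (H : Set G)) (hc : c ∈ Subgroup.centralizer (H : Set G)) :
    x * c * x⁻¹ ∈ Subgroup.centralizer (H : Set G) := by
  rw [mem_centralizer_iff_conj] at hc ⊢
  intro h hh
  have h1 : x⁻¹ * h * x ∈ H := by
    have := (Subgroup.mem_normalizer_iff'' .. |>.mp hx h).mp hh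
    exact this
  have h2 := hc _ h1
  calc x * c * x⁻¹ * h * (x * c * x⁻¹)⁻¹ = x * (c * (x⁻¹ * h * x) * c⁻¹) * x⁻¹ := by group
    _ = x * (x⁻¹ * h * x) * x⁻¹ := by rw [h2]
    _ = h := by group

/-- the action on `H` of `c * x` with `c` centralizing -/
theorem conj_pow_mul {H : Subgroup G} {x c : G}
    (hx : x ∈ Subgroup.normalizer (H : Set G)) (hc : c ∈ Subgroup.centralizer (H : Set G))
    (k : ℕ) : ∀ h ∈ H, (c * x) ^ k * h * ((c * x) ^ k)⁻¹ = x ^ k * h * (x ^ k)⁻¹ := by
  induction k with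
  | zero => intro h _; simp
  | succ k ih =>
    intro h hh
    have h1 : x ^ k * h * (x ^ k)⁻¹ ∈ H := by
      have hxk : x ^ k ∈ Subgroup.normalizer (H : Set G) := Subgroup.pow_mem _ hx k
      exact (Subgroup.mem_normalizer_iff.mp hxk h).mp hh
    have h2 : x * (x ^ k * h * (x ^ k)⁻¹) * x⁻¹ ∈ H :=
      (Subgroup.mem_normalizer_iff.mp hx _).mp h1
    have h3 := (mem_centralizer_iff_conj.mp hc) _ h2
    calc (c * x) ^ (k + 1) * h * ((c * x) ^ (k + 1))⁻¹
        = (c * x) * ((c * x) ^ k * h * ((c * x) ^ k)⁻¹) * (c * x)⁻¹ := by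
          rw [pow_succ', mul_inv_rev]; simp only [mul_assoc]
      _ = (c * x) * (x ^ k * h * (x ^ k)⁻¹) * (c * x)⁻¹ := by rw [ih h hh]
      _ = c * (x * (x ^ k * h * (x ^ k)⁻¹) * x⁻¹) * c⁻¹ := by group
      _ = x * (x ^ k * h * (x ^ k)⁻¹) * x⁻¹ := h3
      _ = x ^ (k + 1) * h * (x ^ (k + 1))⁻¹ := by
          rw [pow_succ', mul_inv_rev]; simp only [mul_assoc]

variable [Finite G]

/-- Frattini argument, element form -/
theorem exists_mul_mem_normalizer (C : Subgroup G) (D0 : Sylow 2 C) (x : G)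
    (hx : ∀ c ∈ C, x * c * x⁻¹ ∈ C) :
    ∃ c ∈ C, c * x ∈ Subgroup.normalizer (((D0 : Subgroup C).map C.subtype : Subgroup G) : Set G) := by
  set D : Subgroup G := (D0 : Subgroup C).map C.subtype with hD
  have hDC : D ≤ C := by
    rintro _ ⟨d, _, rfl⟩
    exact d.2
  set E : Subgroup G := D.map (MulAut.conj x).toMonoidHom with hE
  have hEC : E ≤ C := by
    rintro _ ⟨d, hd, rfl⟩
    exact hx d (hDC hd)
  have hcardD : Nat.card D = Nat.card (D0 : Subgroup C) :=
    Subgroup.card_map_of_injective C.subtype_injective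
  have hcardE : Nat.card E = Nat.card D :=
    Subgroup.card_map_of_injective (MulAut.conj x).injective
  have hcardE1 : Nat.card (E.subgroupOf C) = 2 ^ (Nat.card C).factorization 2 := by
    rw [Nat.card_congr (Subgroup.subgroupOfEquivOfLe hEC).toEquiv, hcardE, hcardD]
    exact D0.card_eq_multiplicity
  obtain ⟨c, hc⟩ := MulAction.exists_smul_eq C (Sylow.ofCard (E.subgroupOf C) hcardE1) D0
  refine ⟨c, c.2, ?_⟩
  apply conj_mem_normalizer
  rintro _ ⟨d, hd, rfl⟩
  have h1 : x * (d : G) * x⁻¹ ∈ E := ⟨d, ⟨d, hd, rfl⟩, rfl⟩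
  have h2 : (⟨x * (d : G) * x⁻¹, hEC h1⟩ : C) ∈
      ((Sylow.ofCard (E.subgroupOf C) hcardE1 : Sylow 2 C) : Subgroup C) := by
    rw [Sylow.coe_ofCard]
    exact Subgroup.mem_subgroupOf.mpr h1
  have h3 : c * (⟨x * (d : G) * x⁻¹, hEC h1⟩ : C) * c⁻¹ ∈ (D0 : Subgroup C) := by
    rw [← hc, Sylow.coe_subgroup_smul]
    have := Subgroup.smul_mem_pointwise_smul _ (MulAut.conj c) _ h2
    simpa [MulAut.smul_def] using this
  refine ⟨c * (⟨x * (d : G) * x⁻¹, hEC h1⟩ : C) * c⁻¹, h3, ?_⟩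
  show (c : G) * (x * (d : G) * x⁻¹) * (c : G)⁻¹ = (c : G) * x * (d : G) * ((c : G) * x)⁻¹
  group

/-- for a `Bad` subgroup of largest order, a Sylow `2`-subgroup of the centralizer lies in `H` -/
theorem sylow_centralizer_le (H : Subgroup G) (hH : Bad H)
    (hmax : ∀ K : Subgroup G, Bad K → Nat.card K ≤ Nat.card H)
    (C : Subgroup G) (hC : C = Subgroup.centralizer (H : Set G)) (D0 : Sylow 2 C) :
    ((D0 : Subgroup C).map C.subtype : Subgroup G) ≤ H := by
  obtain ⟨hH2, x, hxN, hxC⟩ := hH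
  have hDC : ((D0 : Subgroup C).map C.subtype : Subgroup G) ≤ C := by
    rintro _ ⟨d, _, rfl⟩
    exact d.2
  obtain ⟨c, hcC, hn⟩ := exists_mul_mem_normalizer C D0 x
    (fun c hc => by rw [hC] at hc ⊢; exact conj_mem_centralizer hxN hc)
  have hcC' : c ∈ Subgroup.centralizer (H : Set G) := hC ▸ hcC
  have hCN : C ≤ Subgroup.normalizer (H : Set G) := by
    rw [hC]; exact Subgroup.centralizer_le_normalizer _
  have hnN : c * x ∈ Subgroup.normalizer (H : Set G) :=
    Subgroup.mul_mem _ (hCN hcC) hxN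
  have hD2 : IsPGroup 2 ((D0 : Subgroup C).map C.subtype : Subgroup G) := by
    have : IsPGroup 2 (D0 : Subgroup C) := D0.2
    exact this.map C.subtype
  generalize hDdef : ((D0 : Subgroup C).map C.subtype : Subgroup G) = D at *
  have hcent : ∀ h ∈ H, ∀ y ∈ D, h * y * h⁻¹ = y := by
    intro h hh y hy
    have hyC : y ∈ Subgroup.centralizer (H : Set G) := hC ▸ hDC hy
    have := (Subgroup.mem_centralizer_iff.mp hyC) h hh
    calc h * y * h⁻¹ = y * h * h⁻¹ := by rw [this]
      _ = y := by group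
  have hHD : H ≤ Subgroup.normalizer (D : Set G) := by
    intro h hh
    apply conj_mem_normalizer
    intro y hy
    rw [hcent h hh y hy]; exact hy
  have hK2 : IsPGroup 2 (H ⊔ D : Subgroup G) :=
    IsPGroup.to_sup_of_normal_right' hH2 hD2 hHD
  have hnK : c * x ∈ Subgroup.normalizer ((H ⊔ D : Subgroup G) : Set G) := by
    apply conj_mem_normalizer
    intro y hy
    have h1 : (H ⊔ D).map (MulAut.conj (c * x)).toMonoidHom ≤ H ⊔ D := by
      rw [Subgroup.map_sup]
      apply sup_le_sup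
      · rintro _ ⟨h, hh, rfl⟩
        exact (Subgroup.mem_normalizer_iff.mp hnN h).mp hh
      · rintro _ ⟨d, hd, rfl⟩
        exact (Subgroup.mem_normalizer_iff.mp hn d).mp hd
    exact h1 ⟨y, hy, rfl⟩
  have hBadK : Bad (H ⊔ D) := by
    refine ⟨hK2, c * x, hnK, ?_⟩
    intro j hj
    apply hxC j
    have hj' : (c * x) ^ (2 ^ j) ∈ Subgroup.centralizer (H : Set G) := by
      rw [Subgroup.mem_centralizer_iff] at hj ⊢
      intro h hh
      exact hj h (Subgroup.mem_sup_left hh)
    rw [mem_centralizer_iff_conj] at hj' ⊢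
    intro h hh
    rw [← conj_pow_mul hxN hcC' (2 ^ j) h hh]
    exact hj' h hh
  have hle := hmax _ hBadK
  have hEq : H = H ⊔ D := Subgroup.eq_of_le_of_card_ge le_sup_left hle
  exact le_sup_right.trans hEq.ge

/-- for a `Bad` subgroup of largest order, every `2`-element of the centralizer lies in `H` -/
theorem two_element_centralizer_mem (H : Subgroup G) (hH : Bad H)
    (hmax : ∀ K : Subgroup G, Bad K → Nat.card K ≤ Nat.card H) (z : G)
    (hz : z ∈ Subgroup.centralizer (H : Set G)) (k : ℕ) (hk : orderOf z = 2 ^ k) : z ∈ H := by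
  obtain ⟨C, hC⟩ : ∃ C : Subgroup G, C = Subgroup.centralizer (H : Set G) := ⟨_, rfl⟩
  have hzC : z ∈ C := hC ▸ hz
  obtain D0 : Sylow 2 C := default
  have hD := sylow_centralizer_le H hH hmax C hC D0
  have hpg : IsPGroup 2 (Subgroup.zpowers (⟨z, hzC⟩ : C)) := by
    apply IsPGroup.of_card (n := k)
    rw [Nat.card_zpowers, Subgroup.orderOf_mk, hk]
  obtain ⟨D1, hD1⟩ := hpg.exists_le_sylow
  obtain ⟨c, hc⟩ := MulAction.exists_smul_eq C D1 D0
  have hzD1 : (⟨z, hzC⟩ : C) ∈ (D1 : Subgroup C) := hD1 (Subgroup.mem_zpowers _)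
  have h3 : c * (⟨z, hzC⟩ : C) * c⁻¹ ∈ (D0 : Subgroup C) := by
    rw [← hc, Sylow.coe_subgroup_smul]
    have := Subgroup.smul_mem_pointwise_smul _ (MulAut.conj c) _ hzD1
    simpa [MulAut.smul_def] using this
  have h4 : (c : G) * z * (c : G)⁻¹ ∈ H := hD ⟨c * (⟨z, hzC⟩ : C) * c⁻¹, h3, rfl⟩
  -- `c` centralizes `H`
  have hcC : (c : G)⁻¹ ∈ Subgroup.centralizer (H : Set G) := hC ▸ (Subgroup.inv_mem _ c.2)
  have h5 := (mem_centralizer_iff_conj.mp hcC) _ h4
  have e : (c : G)⁻¹ * ((c : G) * z * (c : G)⁻¹) * ((c : G)⁻¹)⁻¹ = z := by group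
  rw [e] at h5
  rw [h5]
  exact h4

end Cfsg.Agent.Lib.Helper7.TwoCl
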