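import Mathlib
import Cfsg.Agent.Lib.Helper7.TwoCl1

set_option autoImplicit false

/-!
# Classes of `2`-elements: the orbit count on a `Bad` subgroup
-/

namespace Cfsg.Agent.Lib.Helper7.TwoCl

variable {G : Type*} [Group G]

/-- the fixed points of `n ∈ N_G(H)` on `H` -/
def fixSub (H : Subgroup G) (n : Subgroup.normalizer (H : Set G)) : Subgroup H where
  carrier := {x | n • x = x}
  one_mem' := smul_one n
  mul_mem' := by
    intro a b ha hb
    show n • (a * b) = a * b
    rw [smul_mul', ha, hb]
  inv_mem' := by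
    intro a ha
    show n • a⁻¹ = a⁻¹
    rw [smul_inv', ha]

theorem mem_fixSub {H : Subgroup G} {n : Subgroup.normalizer (H : Set G)} {x : H} :
    x ∈ fixSub H n ↔ n • x = x := Iff.rfl

theorem smul_coe {H : Subgroup G} (n : Subgroup.normalizer (H : Set G)) (x : H) :
    ((n • x : H) : G) = (n : G) * x * (n : G)⁻¹ := rfl

theorem fixSub_eq_top_iff {H : Subgroup G} {n : Subgroup.normalizer (H : Set G)} :
    fixSub H n = ⊤ ↔ (n : G) ∈ Subgroup.centralizer (H : Set G) := by
  rw [mem_centralizer_iff_conj]
  constructor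
  · intro h x hx
    have h1 : (⟨x, hx⟩ : H) ∈ fixSub H n := by rw [h]; trivial
    exact congrArg Subtype.val (mem_fixSub.mp h1)
  · intro h
    rw [eq_top_iff]
    intro x _
    rw [mem_fixSub]
    apply Subtype.ext
    rw [smul_coe]
    exact h x x.2

theorem pow_smul_fix {H : Subgroup G} {n : Subgroup.normalizer (H : Set G)} {x : H}
    (hx : n • x = x) (j : ℕ) : n ^ j • x = x := by
  induction j with
  | zero => simp
  | succ j ih => rw [pow_succ, mul_smul, hx, ih]

variable [Finite G]

/-- the set of elements of the normalizer acting as non-`2`-elements -/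
def T (H : Subgroup G) : Set (Subgroup.normalizer (H : Set G)) :=
  {n | ∀ j : ℕ, (n : G) ^ (2 ^ j) ∉ Subgroup.centralizer (H : Set G)}

theorem card_fixSub_le_half (H : Subgroup G) (hH : IsPGroup 2 H)
    (n : Subgroup.normalizer (H : Set G))
    (hn : (n : G) ∉ Subgroup.centralizer (H : Set G)) :
    2 * Nat.card (fixSub H n) ≤ Nat.card H := by
  obtain ⟨k, hk⟩ := hH.exists_card_eq
  have hdvd : Nat.card (fixSub H n) ∣ 2 ^ k := by
    rw [← hk]
    exact Subgroup.card_subgroup_dvd_card _
  obtain ⟨j, hjk, hj⟩ := (Nat.dvd_prime_pow Nat.prime_two).mp hdvd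
  have hne : j ≠ k := by
    intro e
    apply hn
    rw [← fixSub_eq_top_iff]
    apply (Subgroup.card_eq_iff_eq_top _).mp
    rw [hj, hk, e]
  have hlt : j + 1 ≤ k := by omega
  rw [hj, hk, ← pow_succ']
  exact Nat.pow_le_pow_right (by norm_num) hlt

theorem card_fixSub_le_quarter (H : Subgroup G) (hH : IsPGroup 2 H)
    (n : Subgroup.normalizer (H : Set G)) (hn : n ∈ T H) :
    4 * Nat.card (fixSub H n) ≤ Nat.card H := by
  obtain ⟨k, hk⟩ := hH.exists_card_eq
  have hdvd : Nat.card (fixSub H n) ∣ 2 ^ k := by
    rw [← hk]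
    exact Subgroup.card_subgroup_dvd_card _
  obtain ⟨j, hjk, hj⟩ := (Nat.dvd_prime_pow Nat.prime_two).mp hdvd
  have hn0 : (n : G) ∉ Subgroup.centralizer (H : Set G) := by
    have := hn 0
    simpa using this
  have hne : j ≠ k := by
    intro e
    apply hn0
    rw [← fixSub_eq_top_iff]
    apply (Subgroup.card_eq_iff_eq_top _).mp
    rw [hj, hk, e]
  have hne2 : j + 1 ≠ k := by
    intro e
    -- the fixed subgroup has index 2
    have hidx : (fixSub H n).index = 2 := by
      have h1 := (fixSub H n).card_mul_index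
      rw [hj, hk, ← e, pow_succ] at h1
      exact Nat.eq_of_mul_eq_mul_left (pow_pos (by norm_num) j) h1
    -- an element outside
    obtain ⟨h, hh⟩ : ∃ h : H, h ∉ fixSub H n := by
      by_contra hcon
      push Not at hcon
      apply hn0
      rw [← fixSub_eq_top_iff, eq_top_iff]
      intro x _
      exact hcon x
    have hnh : n • h ∉ fixSub H n := by
      intro hcon
      apply hh
      have h1 : n⁻¹ • (n • h) = n • h := by
        have h2 : n • (n • h) = n • h := mem_fixSub.mp hcon
        calc n⁻¹ • (n • h) = n⁻¹ • (n • (n • h)) := by rw [h2]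
          _ = n • h := by rw [inv_smul_smul]
      rw [inv_smul_smul] at h1
      rw [mem_fixSub]
      exact h1.symm
    have hkK : h⁻¹ * (n • h) ∈ fixSub H n := by
      rw [Subgroup.mul_mem_iff_of_index_two hidx]
      constructor
      · intro h1
        exact absurd ((Subgroup.inv_mem_iff _).mp h1) hh
      · intro h1
        exact absurd h1 hnh
    set κ : H := h⁻¹ * (n • h) with hκ
    have hnκ : n • κ = κ := mem_fixSub.mp hkK
    have hnh' : n • h = h * κ := by rw [hκ]; group
    have hpow : ∀ i : ℕ, n ^ i • h = h * κ ^ i := by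
      intro i
      induction i with
      | zero => simp
      | succ i ih =>
        rw [pow_succ', mul_smul, ih, smul_mul', hnh', smul_pow', hnκ, pow_succ']
        group
    obtain ⟨i, hi⟩ := (IsPGroup.iff_orderOf.mp hH) κ
    have hfixh : n ^ (2 ^ i) • h = h := by
      rw [hpow, ← hi, pow_orderOf_eq_one, mul_one]
    apply hn i
    have : ((n ^ (2 ^ i) : Subgroup.normalizer (H : Set G)) : G) ∈
        Subgroup.centralizer (H : Set G) := by
      rw [← fixSub_eq_top_iff, eq_top_iff]
      intro y _
      by_cases hy : y ∈ fixSub H n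
      · rw [mem_fixSub]
        exact pow_smul_fix (mem_fixSub.mp hy) _
      · have h1 : h⁻¹ * y ∈ fixSub H n := by
          rw [Subgroup.mul_mem_iff_of_index_two hidx]
          constructor
          · intro h1
            exact absurd ((Subgroup.inv_mem_iff _).mp h1) hh
          · intro h1
            exact absurd h1 hy
        have h2 : n ^ (2 ^ i) • (h⁻¹ * y) = h⁻¹ * y := pow_smul_fix (mem_fixSub.mp h1) _
        rw [mem_fixSub]
        have e : y = h * (h⁻¹ * y) := by group
        rw [e, smul_mul', hfixh, h2]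
    simpa using this
  have hlt : j + 2 ≤ k := by omega
  rw [hj, hk]
  calc 4 * 2 ^ j = 2 ^ (j + 2) := by rw [pow_add]; ring
    _ ≤ 2 ^ k := Nat.pow_le_pow_right (by norm_num) hlt

theorem mul_mem_T {H : Subgroup G} {n c : Subgroup.normalizer (H : Set G)} (hn : n ∈ T H)
    (hc : (c : G) ∈ Subgroup.centralizer (H : Set G)) : c * n ∈ T H := by
  intro j hj
  apply hn j
  have hj' : ((c : G) * (n : G)) ^ (2 ^ j) ∈ Subgroup.centralizer (H : Set G) := hj
  rw [mem_centralizer_iff_conj] at hj' ⊢
  intro h hh
  rw [← conj_pow_mul n.2 hc (2 ^ j) h hh]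
  exact hj' h hh

theorem sq_mem_T {H : Subgroup G} {n : Subgroup.normalizer (H : Set G)} (hn : n ∈ T H) :
    n ^ 2 ∈ T H := by
  intro j hj
  apply hn (j + 1)
  have : ((n : G) ^ 2) ^ (2 ^ j) ∈ Subgroup.centralizer (H : Set G) := hj
  rw [← pow_mul] at this
  rw [pow_succ']
  exact this

theorem not_mem_centralizer_of_mem_T {H : Subgroup G} {n : Subgroup.normalizer (H : Set G)}
    (hn : n ∈ T H) : (n : G) ∉ Subgroup.centralizer (H : Set G) := by
  have := hn 0
  simpa using this

/-- `T` contains two cosets of the centralizer -/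
theorem two_mul_card_le_card_T (H : Subgroup G) (n0 : Subgroup.normalizer (H : Set G))
    (hn0 : n0 ∈ T H) :
    2 * Nat.card ((Subgroup.centralizer (H : Set G)).subgroupOf (Subgroup.normalizer (H : Set G)))
      ≤ Nat.card (T H) := by
  set C' := (Subgroup.centralizer (H : Set G)).subgroupOf (Subgroup.normalizer (H : Set G)) with hC'
  let f : C' ⊕ C' → T H := fun s =>
    match s with
    | Sum.inl c => ⟨(c : Subgroup.normalizer (H : Set G)) * n0,
        mul_mem_T hn0 (Subgroup.mem_subgroupOf.mp c.2)⟩
    | Sum.inr c => ⟨(c : Subgroup.normalizer (H : Set G)) * n0 ^ 2,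
        mul_mem_T (sq_mem_T hn0) (Subgroup.mem_subgroupOf.mp c.2)⟩
  have hf : Function.Injective f := by
    rintro (a | a) (b | b) hab
    · have h1 : (a : Subgroup.normalizer (H : Set G)) * n0 = b * n0 := congrArg Subtype.val hab
      rw [mul_right_cancel h1 |> Subtype.ext]
    · exfalso
      have h1 : (a : Subgroup.normalizer (H : Set G)) * n0 = b * n0 ^ 2 := congrArg Subtype.val hab
      have h2 : n0 = (b : Subgroup.normalizer (H : Set G))⁻¹ * a := by
        have : (b : Subgroup.normalizer (H : Set G))⁻¹ * a * n0 = n0 ^ 2 := by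
          rw [mul_assoc, h1]; group
        have h3 : (b : Subgroup.normalizer (H : Set G))⁻¹ * a * n0 = n0 * n0 := by
          rw [this, pow_two]
        exact (mul_right_cancel h3).symm
      apply not_mem_centralizer_of_mem_T hn0
      have h4 : (b : Subgroup.normalizer (H : Set G))⁻¹ * a ∈ C' :=
        C'.mul_mem (C'.inv_mem b.2) a.2
      rw [← h2] at h4
      exact Subgroup.mem_subgroupOf.mp h4
    · exfalso
      have h1 : (a : Subgroup.normalizer (H : Set G)) * n0 ^ 2 = b * n0 := congrArg Subtype.val hab
      have h2 : n0 = (a : Subgroup.normalizer (H : Set G))⁻¹ * b := by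
        have : (a : Subgroup.normalizer (H : Set G))⁻¹ * b * n0 = n0 ^ 2 := by
          rw [mul_assoc, ← h1]; group
        have h3 : (a : Subgroup.normalizer (H : Set G))⁻¹ * b * n0 = n0 * n0 := by
          rw [this, pow_two]
        exact (mul_right_cancel h3).symm
      apply not_mem_centralizer_of_mem_T hn0
      have h4 : (a : Subgroup.normalizer (H : Set G))⁻¹ * b ∈ C' :=
        C'.mul_mem (C'.inv_mem a.2) b.2
      rw [← h2] at h4
      exact Subgroup.mem_subgroupOf.mp h4
    · have h1 : (a : Subgroup.normalizer (H : Set G)) * n0 ^ 2 = b * n0 ^ 2 :=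
        congrArg Subtype.val hab
      rw [mul_right_cancel h1 |> Subtype.ext]
  have := Nat.card_le_card_of_injective f hf
  rw [Nat.card_sum] at this
  omega

/-- the orbit count -/
theorem two_mul_card_orbits_le (H : Subgroup G) (hH : Bad H) :
    2 * Nat.card (MulAction.orbitRel.Quotient (Subgroup.normalizer (H : Set G)) H)
      ≤ Nat.card H := by
  classical
  obtain ⟨hH2, x, hxN, hxC⟩ := hH
  set L := Subgroup.normalizer (H : Set G) with hL
  let n0 : L := ⟨x, hxN⟩
  have hn0 : n0 ∈ T H := hxC
  haveI : Fintype L := Fintype.ofFinite L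
  haveI : Fintype H := Fintype.ofFinite H
  haveI : Fintype (MulAction.orbitRel.Quotient L H) := Fintype.ofFinite _
  have hB := MulAction.sum_card_fixedBy_eq_card_orbits_mul_card_group L H
  set C' : Subgroup L := (Subgroup.centralizer (H : Set G)).subgroupOf L with hC'
  have hfix : ∀ n : L, Fintype.card (MulAction.fixedBy H n) = Nat.card (fixSub H n) := by
    intro n
    rw [← Nat.card_eq_fintype_card]
    rfl
  set h := Nat.card H with hh
  have hpt : ∀ n : L, 4 * Fintype.card (MulAction.fixedBy H n) + h * (if n ∈ T H then 1 else 0)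
      ≤ h * (2 + 2 * (if n ∈ C' then 1 else 0)) := by
    intro n
    rw [hfix]
    by_cases hnC : n ∈ C'
    · have hnT : n ∉ T H := fun hT =>
        not_mem_centralizer_of_mem_T hT (Subgroup.mem_subgroupOf.mp hnC)
      rw [if_pos hnC, if_neg hnT]
      have := Subgroup.card_le_card_group (fixSub H n)
      nlinarith
    · rw [if_neg hnC]
      have hnC' : (n : G) ∉ Subgroup.centralizer (H : Set G) :=
        fun h1 => hnC (Subgroup.mem_subgroupOf.mpr h1)
      by_cases hnT : n ∈ T H
      · rw [if_pos hnT]
        have := card_fixSub_le_quarter H hH2 n hnT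
        nlinarith
      · rw [if_neg hnT]
        have := card_fixSub_le_half H hH2 n hnC'
        nlinarith
  have hsum := Finset.sum_le_sum (s := (Finset.univ : Finset L)) (fun n _ => hpt n)
  rw [Finset.sum_add_distrib, ← Finset.mul_sum, ← Finset.mul_sum, ← Finset.mul_sum,
    Finset.sum_add_distrib, ← Finset.mul_sum] at hsum
  simp only [Finset.sum_boole, Finset.sum_const, Finset.card_univ, smul_eq_mul] at hsum
  rw [hB] at hsum
  have hT : ((Finset.univ.filter (fun n : L => n ∈ T H)).card : ℕ) = Nat.card (T H) := by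
    rw [Nat.card_eq_fintype_card, Fintype.card_subtype]
  have hC : ((Finset.univ.filter (fun n : L => n ∈ C')).card : ℕ) = Nat.card C' := by
    rw [Nat.card_eq_fintype_card, Fintype.card_subtype]
  have h2 := two_mul_card_le_card_T H n0 hn0
  rw [← hC'] at h2
  simp only [Nat.cast_id] at hsum
  rw [hT, hC] at hsum
  rw [Nat.card_eq_fintype_card (α := MulAction.orbitRel.Quotient L H)]
  set Ω := Fintype.card (MulAction.orbitRel.Quotient L H)
  set l := Fintype.card L
  have hl : 0 < l := Fintype.card_pos
  have key : 2 * Ω * (2 * l) ≤ h * (2 * l) := by nlinarith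
  have := Nat.le_of_mul_le_mul_right key (by omega)
  exact this

end Cfsg.Agent.Lib.Helper7.TwoCl
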