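import Mathlib
import Cfsg.Agent.Lib.Helper7.PClasses
import Cfsg.Agent.Lib.Helper7.TwoCl2

set_option autoImplicit false

/-!
# Classes of `2`-elements: the count
-/

namespace Cfsg.Agent.Lib.Helper7.TwoCl

open Cfsg.Agent.Lib.Helper7

variable {G : Type*} [Group G] [Finite G]

theorem mk_conj_eq (g a : G) : ConjClasses.mk (g * a * g⁻¹) = ConjClasses.mk a := by
  rw [ConjClasses.mk_eq_mk_iff_isConj, isConj_comm, isConj_iff]
  exact ⟨g, rfl⟩

theorem two_mul_card_cl_le (H : Subgroup G) (hBad : Bad H)
    (hmax : ∀ K : Subgroup G, Bad K → Nat.card K ≤ Nat.card H) (P : Sylow 2 G)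
    (hHP : H ≤ (P : Subgroup G)) :
    2 * Nat.card (PCl.Cl 2 G) ≤ Nat.card (P : Subgroup G) := by
  classical
  -- elements of `P` outside `H` are not central in `P`
  have hZ : ∀ a ∈ (P : Subgroup G), a ∉ H → ∃ u ∈ (P : Subgroup G), u * a * u⁻¹ ≠ a := by
    intro a haP haH
    by_contra hcon
    push Not at hcon
    apply haH
    obtain ⟨k, hk⟩ := PCl.orderOf_of_mem P a haP
    apply two_element_centralizer_mem H hBad hmax a _ k hk
    rw [Subgroup.mem_centralizer_iff]
    intro h hh
    have := hcon h (hHP hh)
    calc h * a = (h * a * h⁻¹) * h := by group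
      _ = a * h := by rw [this]
  let p1 : PCl.Cl 2 G → Prop := fun c => ∃ h ∈ H, ConjClasses.mk h = c.1
  -- classes meeting `H`
  have h1 : Nat.card {c : PCl.Cl 2 G // p1 c} ≤
      Nat.card (MulAction.orbitRel.Quotient (Subgroup.normalizer (H : Set G)) H) := by
    let f : {c : PCl.Cl 2 G // p1 c} →
        MulAction.orbitRel.Quotient (Subgroup.normalizer (H : Set G)) H :=
      fun c => Quotient.mk _ ⟨c.2.choose, c.2.choose_spec.1⟩
    apply Nat.card_le_card_of_injective f
    intro c c' hcc
    have h2 := Quotient.exact hcc
    obtain ⟨n, hn⟩ := h2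
    apply Subtype.ext
    apply Subtype.ext
    rw [← c.2.choose_spec.2, ← c'.2.choose_spec.2]
    have h3 : (n : G) * c'.2.choose * (n : G)⁻¹ = c.2.choose := congrArg Subtype.val hn
    rw [← h3, mk_conj_eq]
  -- classes not meeting `H`
  have h2 : 2 * Nat.card {c : PCl.Cl 2 G // ¬ p1 c} + Nat.card H ≤
      Nat.card (P : Subgroup G) := by
    have hrep : ∀ c : {c : PCl.Cl 2 G // ¬ p1 c}, ∃ a : (P : Subgroup G),
        PCl.clOf P a = c.1 := fun c => PCl.clOf_surjective P c.1
    choose a ha using hrep
    have haH : ∀ c, ((a c : (P : Subgroup G)) : G) ∉ H := by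
      intro c hcon
      apply c.2
      refine ⟨_, hcon, ?_⟩
      have := congrArg Subtype.val (ha c)
      exact this
    have hu : ∀ c, ∃ u ∈ (P : Subgroup G), u * ((a c : (P : Subgroup G)) : G) * u⁻¹ ≠ a c :=
      fun c => hZ _ (a c).2 (haH c)
    choose u huP hu using hu
    let b : {c : PCl.Cl 2 G // ¬ p1 c} → (P : Subgroup G) := fun c =>
      ⟨u c * (a c : G) * (u c)⁻¹,
        Subgroup.mul_mem _ (Subgroup.mul_mem _ (huP c) (a c).2) (Subgroup.inv_mem _ (huP c))⟩
    have hb : ∀ c, ((b c : (P : Subgroup G)) : G) = u c * (a c : G) * (u c)⁻¹ := fun c => rfl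
    have hab' : ∀ c, a c ≠ b c := by
      intro c h
      exact hu c (by rw [← hb, ← h])
    let f : {c : PCl.Cl 2 G // ¬ p1 c} × Fin 2 ⊕ H → (P : Subgroup G) := fun s =>
      match s with
      | Sum.inl (c, i) => if i = 0 then a c else b c
      | Sum.inr h => ⟨h, hHP h.2⟩
    have hcl : ∀ (c : {c : PCl.Cl 2 G // ¬ p1 c}) (i : Fin 2),
        ConjClasses.mk ((f (Sum.inl (c, i)) : (P : Subgroup G)) : G) = c.1.1 := by
      intro c i
      have h3 : ConjClasses.mk ((a c : (P : Subgroup G)) : G) = c.1.1 :=
        congrArg Subtype.val (ha c)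
      by_cases hi : i = 0
      · show ConjClasses.mk (((if i = 0 then a c else b c) : (P : Subgroup G)) : G) = _
        rw [if_pos hi]; exact h3
      · show ConjClasses.mk (((if i = 0 then a c else b c) : (P : Subgroup G)) : G) = _
        rw [if_neg hi, hb, mk_conj_eq]; exact h3
    have hf : Function.Injective f := by
      rintro (⟨c, i⟩ | h) (⟨c', i'⟩ | h') hab
      · have hc : c = c' := by
          apply Subtype.ext
          apply Subtype.ext
          rw [← hcl c i, ← hcl c' i', hab]
        subst hc
        by_cases hi : i = 0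
        · by_cases hi' : i' = 0
          · rw [hi, hi']
          · exfalso
            have h3 : a c = b c := by
              have : f (Sum.inl (c, i)) = a c := by
                show (if i = 0 then a c else b c) = a c
                rw [if_pos hi]
              rw [← this, hab]
              show (if i' = 0 then a c else b c) = _
              rw [if_neg hi']
            exact hab' c h3
        · by_cases hi' : i' = 0
          · exfalso
            have h3 : a c = b c := by
              have : f (Sum.inl (c, i')) = a c := by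
                show (if i' = 0 then a c else b c) = a c
                rw [if_pos hi']
              rw [← this, ← hab]
              show (if i = 0 then a c else b c) = _
              rw [if_neg hi]
            exact hab' c h3
          · have : i = i' := by omega
            rw [this]
      · exfalso
        apply c.2
        refine ⟨h', h'.2, ?_⟩
        rw [← hcl c i, hab]
      · exfalso
        apply c'.2
        refine ⟨h, h.2, ?_⟩
        rw [← hcl c' i', ← hab]
      · have h5 : ((f (Sum.inr h) : (P : Subgroup G)) : G) = f (Sum.inr h') := by rw [hab]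
        have : (h : G) = h' := h5
        rw [Subtype.ext this]
    have := Nat.card_le_card_of_injective f hf
    rw [Nat.card_sum, Nat.card_prod, Nat.card_fin] at this
    omega
  have h3 : Nat.card (PCl.Cl 2 G) = Nat.card {c : PCl.Cl 2 G // p1 c} +
      Nat.card {c : PCl.Cl 2 G // ¬ p1 c} := by
    rw [← Nat.card_sum]
    exact Nat.card_congr (Equiv.sumCompl p1).symm
  have h4 := two_mul_card_orbits_le H hBad
  omega

end Cfsg.Agent.Lib.Helper7.TwoCl
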