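import Mathlib
import Cfsg.Agent.S0071
import Cfsg.Agent.Lib.Helper7.TwoCl3

set_option autoImplicit false

/-!
# Classes of `2`-elements: the main statements
-/

namespace Cfsg.Agent.Lib.Helper7.TwoCl

open Cfsg.Agent.Lib.Helper7

variable {G : Type*} [Group G] [Finite G]

/-- a normal complement of one Sylow subgroup complements every Sylow subgroup -/
theorem isComplement'_of_sylow {p : ℕ} [Fact p.Prime] (P0 P : Sylow p G) (K : Subgroup G)
    (hKn : K.Normal) (hc : K.IsComplement' (P0 : Subgroup G)) :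
    K.IsComplement' (P : Subgroup G) := by
  have hcardP : Nat.card (P : Subgroup G) = Nat.card (P0 : Subgroup G) := by
    rw [Sylow.card_eq_multiplicity, Sylow.card_eq_multiplicity]
  have hKcop : ¬ p ∣ Nat.card K := by
    have h1 : (P0 : Subgroup G).index = Nat.card K := hc.index_eq_card
    rw [← h1]
    exact P0.not_dvd_index
  have hdisj : Disjoint K (P : Subgroup G) := by
    rw [disjoint_iff, eq_bot_iff]
    intro z hz
    have hpg : IsPGroup p (K ⊓ (P : Subgroup G) : Subgroup G) := P.2.to_le inf_le_right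
    rcases hpg.card_eq_or_dvd with h1 | h1
    · have := Subgroup.card_eq_one.mp h1
      rw [this] at hz
      exact hz
    · exfalso
      apply hKcop
      exact h1.trans (Subgroup.card_dvd_of_le inf_le_left)
  apply Subgroup.isComplement'_of_card_mul_and_disjoint _ hdisj
  rw [hcardP]
  exact hc.card_mul_card

/-- without a normal `2`-complement, at most half as many classes of `2`-elements as `|P|` -/
theorem two_mul_card_cl_le_of_not (hn : ¬ Cfsg.HasNormalPComplement 2 G) (P : Sylow 2 G) :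
    2 * Nat.card (PCl.Cl 2 G) ≤ Nat.card (P : Subgroup G) := by
  classical
  have h1 : ¬ ∃ N : Subgroup G, N.Normal ∧ N.IsComplement' (P : Subgroup G) := by
    rintro ⟨N, hN, hc⟩
    exact hn ⟨P, N, hN, hc⟩
  rw [Cfsg.Agent.S0071.result P] at h1
  push Not at h1
  obtain ⟨Q, hQP, g, hgN, hgco, hgC⟩ := h1
  have hBadQ : Bad Q := by
    refine ⟨P.2.to_le hQP, g, hgN, ?_⟩
    intro j hj
    apply hgC
    have hco : Nat.Coprime (2 ^ j) (orderOf g) := Nat.Coprime.pow_left j hgco.symm
    obtain ⟨m, hm⟩ := exists_pow_eq_self_of_coprime hco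
    rw [← hm]
    exact Subgroup.pow_mem _ hj m
  haveI : Fintype (Subgroup G) := Fintype.ofFinite _
  obtain ⟨H, hH, hmax⟩ := Finset.exists_max_image (Finset.univ.filter (fun K : Subgroup G => Bad K))
    (fun K => Nat.card K) ⟨Q, by simp [hBadQ]⟩
  have hBadH : Bad H := (Finset.mem_filter.mp hH).2
  have hmax' : ∀ K : Subgroup G, Bad K → Nat.card K ≤ Nat.card H := by
    intro K hK
    exact hmax K (by simp [hK])
  obtain ⟨P', hP'⟩ := hBadH.1.exists_le_sylow
  have h2 := two_mul_card_cl_le H hBadH hmax' P' hP'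
  have hcard : Nat.card (P' : Subgroup G) = Nat.card (P : Subgroup G) := by
    rw [Sylow.card_eq_multiplicity, Sylow.card_eq_multiplicity]
  rw [hcard] at h2
  exact h2

variable {p : ℕ} [Fact p.Prime]

/-- the map from classes of `P` to classes of `p`-elements of `G` -/
def clMap (P : Sylow p G) : ConjClasses (P : Subgroup G) → PCl.Cl p G :=
  Quotient.lift (PCl.clOf P) (by
    intro a b hab
    obtain ⟨c, hc⟩ := isConj_iff.mp hab
    apply Subtype.ext
    show ConjClasses.mk (a : G) = ConjClasses.mk (b : G)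
    have : (b : G) = (c : G) * a * (c : G)⁻¹ := by
      rw [← hc]; rfl
    rw [this, mk_conj_eq])

theorem clMap_surjective (P : Sylow p G) : Function.Surjective (clMap P) := by
  intro c
  obtain ⟨x, hx⟩ := PCl.clOf_surjective P c
  exact ⟨ConjClasses.mk x, hx⟩

theorem clMap_injective (P : Sylow p G) (hnc : Cfsg.HasNormalPComplement p G) :
    Function.Injective (clMap P) := by
  obtain ⟨P0, K, hKn, hc0⟩ := hnc
  have hc := isComplement'_of_sylow P0 P K hKn hc0
  have hdisj := hc.disjoint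
  intro a b hab
  obtain ⟨x, rfl⟩ := ConjClasses.exists_rep a
  obtain ⟨y, rfl⟩ := ConjClasses.exists_rep b
  have h1 : ConjClasses.mk (x : G) = ConjClasses.mk (y : G) := congrArg Subtype.val hab
  rw [ConjClasses.mk_eq_mk_iff_isConj, isConj_iff] at h1
  obtain ⟨g, hg⟩ := h1
  obtain ⟨⟨⟨k, hk⟩, ⟨u, hu⟩⟩, hku⟩ := hc.2 g
  have hku' : k * u = g := hku
  -- `y = k (u x u⁻¹) k⁻¹`
  set x' : G := u * (x : G) * u⁻¹ with hx'
  have hx'P : x' ∈ (P : Subgroup G) :=
    Subgroup.mul_mem _ (Subgroup.mul_mem _ hu x.2) (Subgroup.inv_mem _ hu)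
  have hy : (y : G) = k * x' * k⁻¹ := by
    rw [← hg, ← hku', hx']; group
  have hmem : x'⁻¹ * (y : G) ∈ K ⊓ (P : Subgroup G) := by
    refine Subgroup.mem_inf.mpr ⟨?_, Subgroup.mul_mem _ (Subgroup.inv_mem _ hx'P) y.2⟩
    rw [hy]
    have h3 : x'⁻¹ * k * (x'⁻¹)⁻¹ ∈ K := hKn.conj_mem k hk _
    have h4 : x'⁻¹ * (k * x' * k⁻¹) = (x'⁻¹ * k * (x'⁻¹)⁻¹) * k⁻¹ := by group
    rw [h4]
    exact Subgroup.mul_mem _ h3 (Subgroup.inv_mem _ hk)
  rw [disjoint_iff.mp hdisj, Subgroup.mem_bot] at hmem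
  have hyx : (y : G) = x' := (inv_mul_eq_one.mp hmem).symm
  rw [ConjClasses.mk_eq_mk_iff_isConj, isConj_iff]
  refine ⟨⟨u, hu⟩, ?_⟩
  apply Subtype.ext
  show u * (x : G) * u⁻¹ = y
  rw [hyx]

end Cfsg.Agent.Lib.Helper7.TwoCl
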