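import Mathlib
import Cfsg.Prelude.Def_Transfer
import Cfsg.Prelude.Def_Local
import Cfsg.Agent.Lib.Helper6.PRes
import Cfsg.Agent.Lib.Helper4.AlperinGold1
import Cfsg.Agent.Lib.Lead.Core

set_option autoImplicit false

/-! `O^p(L)` and `O_p(L)` of a subgroup `L`, viewed in the ambient group; a coprime action lemma. -/

namespace Cfsg.Agent.Lib.Helper7.TwoConj

open Cfsg

variable {G : Type*} [Group G]

/-- `O^p(L)` viewed in the ambient group -/
def resid (p : ℕ) (L : Subgroup G) : Subgroup G := (pResidual p ↥L).map L.subtype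

/-- `O_p(L)` viewed in the ambient group -/
def coreOf (p : ℕ) (L : Subgroup G) : Subgroup G := (pCore p ↥L).map L.subtype

theorem resid_le (p : ℕ) (L : Subgroup G) : resid p L ≤ L := Subgroup.map_subtype_le _

theorem coreOf_le (p : ℕ) (L : Subgroup G) : coreOf p L ≤ L := Subgroup.map_subtype_le _

theorem mem_resid_of_coprime {p : ℕ} {L : Subgroup G} {g : G} (hg : g ∈ L)
    (hc : (orderOf g).Coprime p) : g ∈ resid p L := by
  refine ⟨⟨g, hg⟩, Subgroup.subset_closure ?_, rfl⟩
  show Nat.Coprime (orderOf (⟨g, hg⟩ : L)) p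
  rw [Subgroup.orderOf_mk]; exact hc

/-- if every element of `L` has a `p`-power in `N` then `O^p(L) ≤ N` -/
theorem resid_le_of_forall_pow {p : ℕ} {L N : Subgroup G}
    (h : ∀ l ∈ L, ∃ k : ℕ, l ^ p ^ k ∈ N) : resid p L ≤ N := by
  unfold resid pResidual
  rw [MonoidHom.map_closure, Subgroup.closure_le]
  rintro _ ⟨g, hg, rfl⟩
  have hg' : Nat.Coprime (orderOf (g : G)) p := by
    rw [Subgroup.orderOf_coe]; exact hg
  obtain ⟨k, hk⟩ := h (g : G) g.2
  have hc : Nat.Coprime (p ^ k) (orderOf (g : G)) := (Nat.Coprime.pow_right k hg').symm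
  obtain ⟨m, hm⟩ := exists_pow_eq_self_of_coprime hc
  show (g : G) ∈ N
  rw [← hm]
  exact N.pow_mem hk m

theorem resid_eq_bot_of_isPGroup {p : ℕ} {L : Subgroup G} (hL : IsPGroup p L) : resid p L = ⊥ := by
  rw [eq_bot_iff]
  apply resid_le_of_forall_pow
  intro l hl
  obtain ⟨k, hk⟩ := hL ⟨l, hl⟩
  refine ⟨k, ?_⟩
  have : l ^ p ^ k = 1 := by simpa using congrArg Subtype.val hk
  rw [this]; exact Subgroup.one_mem _

theorem le_normalizer_resid (p : ℕ) (L : Subgroup G) :
    L ≤ Subgroup.normalizer ((resid p L : Subgroup G) : Set G) :=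
  Cfsg.Agent.Lib.Helper4.le_normalizer_map_subtype L _

theorem le_normalizer_coreOf (p : ℕ) (L : Subgroup G) :
    L ≤ Subgroup.normalizer ((coreOf p L : Subgroup G) : Set G) := by
  haveI : (pCore p ↥L).Normal := Cfsg.Agent.Lib.Lead.pCore_normal p
  exact Cfsg.Agent.Lib.Helper4.le_normalizer_map_subtype L _

theorem isPGroup_coreOf (p : ℕ) (L : Subgroup G) : IsPGroup p (coreOf p L) :=
  (Cfsg.Agent.Lib.Lead.pCore_isPGroup p).map _

/-- a `p`-subgroup of `L` normalized by `L` lies in `O_p(L)` -/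
theorem le_coreOf {p : ℕ} {P L : Subgroup G} (hPL : P ≤ L)
    (hLP : L ≤ Subgroup.normalizer (P : Set G)) (hP : IsPGroup p P) : P ≤ coreOf p L := by
  haveI hn : (P.subgroupOf L).Normal := Subgroup.normal_subgroupOf_of_le_normalizer hLP
  have h1 : P.subgroupOf L ≤ pCore p ↥L := Cfsg.Agent.Lib.Lead.le_pCore hn hP.comap_subtype
  unfold coreOf
  rw [← Subgroup.map_subgroupOf_eq_of_le hPL]
  exact Subgroup.map_mono h1

/-- `O^p` commutes with homomorphic images -/
theorem resid_map [Finite G] {H : Type*} [Group H] (p : ℕ) [Fact p.Prime] (f : G →* H)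
    (L : Subgroup G) : (resid p L).map f = resid p (L.map f) := by
  have h1 := Cfsg.Agent.Lib.Helper6.pResidual_map_of_surjective (p := p) (f.subgroupMap L)
    (f.subgroupMap_surjective L)
  unfold resid
  rw [← h1, Subgroup.map_map, Subgroup.map_map]
  rfl

/-- coprime action: if `a` commutes with `y⁻¹ (a y a⁻¹)` and their orders are coprime, then `a`
commutes with `y` -/
theorem commute_of_commute_comm {a y : G} (hc : Commute a (y⁻¹ * (a * y * a⁻¹)))
    (hcop : (orderOf a).Coprime (orderOf (y⁻¹ * (a * y * a⁻¹)))) : a * y = y * a := by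
  obtain ⟨w, hw⟩ : ∃ w, w = y⁻¹ * (a * y * a⁻¹) := ⟨_, rfl⟩
  rw [← hw] at hc hcop
  have htw : a * y * a⁻¹ = y * w := by rw [hw]; group
  have hpow : ∀ n : ℕ, a ^ n * y * (a ^ n)⁻¹ = y * w ^ n := by
    intro n
    induction n with
    | zero => simp
    | succ n ih =>
      have hgwn : a * w ^ n * a⁻¹ = w ^ n := by
        rw [(hc.pow_right n).eq]; group
      calc a ^ (n + 1) * y * (a ^ (n + 1))⁻¹ = a * (a ^ n * y * (a ^ n)⁻¹) * a⁻¹ := by
            rw [pow_succ']; group
        _ = a * (y * w ^ n) * a⁻¹ := by rw [ih]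
        _ = (a * y * a⁻¹) * (a * w ^ n * a⁻¹) := by group
        _ = (y * w) * w ^ n := by rw [hgwn, htw]
        _ = y * w ^ (n + 1) := by rw [pow_succ', mul_assoc]
  have h1 := hpow (orderOf a)
  rw [pow_orderOf_eq_one, inv_one, one_mul, mul_one] at h1
  have h2 : w ^ orderOf a = 1 := by
    have h1' : y * 1 = y * w ^ orderOf a := by rw [mul_one]; exact h1
    exact (mul_left_cancel h1').symm
  have h3 : orderOf w ∣ orderOf a := orderOf_dvd_of_pow_eq_one h2
  have h4 : orderOf w = 1 := Nat.Coprime.eq_one_of_dvd hcop.symm h3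
  rw [orderOf_eq_one_iff] at h4
  rw [h4, mul_one] at htw
  calc a * y = (a * y * a⁻¹) * a := by group
    _ = y * a := by rw [htw]

/-- powers of `a n` with `a` normalizing `N ∋ n` -/
theorem exists_pow_mul_eq {A N : Subgroup G} (hAN : A ≤ Subgroup.normalizer (N : Set G)) {a n : G}
    (ha : a ∈ A) (hn : n ∈ N) (m : ℕ) : ∃ n' ∈ N, (a * n) ^ m = a ^ m * n' := by
  induction m with
  | zero => exact ⟨1, N.one_mem, by simp⟩
  | succ m ih =>
    obtain ⟨n', hn', h⟩ := ih
    refine ⟨a⁻¹ * n' * a * n, N.mul_mem ?_ hn, ?_⟩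
    · have := (Subgroup.mem_normalizer_iff.mp (Subgroup.inv_mem _ (hAN ha)) n').mp hn'
      rwa [inv_inv] at this
    · rw [pow_succ, h, pow_succ]; group

end Cfsg.Agent.Lib.Helper7.TwoConj
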