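import Mathlib
import Cfsg.Agent.Lib.Helper7.TwoConj1
import Cfsg.Agent.Lib.Helper7.StrongFrob1
import Cfsg.Agent.Lib.Lead.GenCentralizers

set_option autoImplicit false

/-! An elementary abelian `p`-group acting on a `p'`-group: a minimal non-centralized invariant
subgroup and the element `x` with `x ∈ O^p(⟨A, A^x⟩)`. -/

namespace Cfsg.Agent.Lib.Helper7.TwoConj

open Cfsg Cfsg.Agent.Lib.Helper7.StrongFrob

variable {X : Type*} [Group X]

/-- in a cyclic group of prime order every nontrivial element is a generator -/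
theorem mem_zpowers_of_ne_one {p : ℕ} [Fact p.Prime] {a g : X} (ha : a ^ p = 1)
    (hg : g ∈ Subgroup.zpowers a) (hg1 : g ≠ 1) : a ∈ Subgroup.zpowers g := by
  have ha1 : a ≠ 1 := by
    rintro rfl
    rw [Subgroup.zpowers_one_eq_bot, Subgroup.mem_bot] at hg
    exact hg1 hg
  have hord : orderOf a = p := orderOf_eq_prime ha ha1
  have hcard : Nat.card (Subgroup.zpowers a) = p := by rw [Nat.card_zpowers, hord]
  have hne : (⟨g, hg⟩ : Subgroup.zpowers a) ≠ 1 := by
    intro h
    exact hg1 (congrArg Subtype.val h)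
  have htop := zpowers_eq_top_of_prime_card hcard hne
  have hmem : (⟨a, Subgroup.mem_zpowers a⟩ : Subgroup.zpowers a) ∈
      Subgroup.zpowers (⟨g, hg⟩ : Subgroup.zpowers a) := by rw [htop]; trivial
  obtain ⟨k, hk⟩ := Subgroup.mem_zpowers_iff.mp hmem
  rw [Subgroup.mem_zpowers_iff]
  refine ⟨k, ?_⟩
  have := congrArg Subtype.val hk
  simpa using this

/-- conjugation by an element commuting with `a` preserves `C(a)` -/
theorem conj_mem_centralizer_singleton {a b g : X} (hab : a * b = b * a)
    (hg : g ∈ Subgroup.centralizer ({a} : Set X)) :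
    b * g * b⁻¹ ∈ Subgroup.centralizer ({a} : Set X) := by
  rw [Subgroup.mem_centralizer_singleton_iff] at hg ⊢
  have hab' : b⁻¹ * a = a * b⁻¹ := by
    calc b⁻¹ * a = b⁻¹ * (a * b) * b⁻¹ := by group
      _ = b⁻¹ * (b * a) * b⁻¹ := by rw [hab]
      _ = a * b⁻¹ := by group
  calc b * g * b⁻¹ * a = b * g * (b⁻¹ * a) := by group
    _ = b * g * (a * b⁻¹) := by rw [hab']
    _ = b * (g * a) * b⁻¹ := by group
    _ = b * (a * g) * b⁻¹ := by rw [hg]
    _ = (b * a) * g * b⁻¹ := by group
    _ = (a * b) * g * b⁻¹ := by rw [hab]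
    _ = a * (b * g * b⁻¹) := by group

variable [Finite X] {p : ℕ} [Fact p.Prime]

/-- the index of `C_A(Y)` in `A` is `p` for a minimal non-centralized `A`-invariant subgroup `Y`
of the `p'`-group `K` -/
theorem relIndex_centralizer_eq (K A Y : Subgroup X) (hK : (Nat.card K).Coprime p)
    (hAc : ∀ a ∈ A, ∀ b ∈ A, a * b = b * a) (hAp : ∀ a ∈ A, a ^ p = 1)
    (hYK : Y ≤ K) (hAY : A ≤ Subgroup.normalizer (Y : Set X))
    (hnc : ¬ A ≤ Subgroup.centralizer (Y : Set X))
    (hmin : ∀ Y' : Subgroup X, Y' ≤ K → A ≤ Subgroup.normalizer (Y' : Set X) →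
      ¬ A ≤ Subgroup.centralizer (Y' : Set X) → Nat.card Y ≤ Nat.card Y') :
    (A ⊓ Subgroup.centralizer (Y : Set X)).relIndex A = p := by
  classical
  have hp : p.Prime := Fact.out
  obtain ⟨C, hCdef⟩ : ∃ C : Subgroup X, C = A ⊓ Subgroup.centralizer (Y : Set X) := ⟨_, rfl⟩
  rw [← hCdef]
  have hCA : C ≤ A := by rw [hCdef]; exact inf_le_left
  have hApg : IsPGroup p A := by
    intro a
    refine ⟨1, ?_⟩
    apply Subtype.ext
    rw [pow_one]
    simpa using hAp a a.2
  have hYcop : (Nat.card Y).Coprime p :=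
    Nat.Coprime.coprime_dvd_left (Subgroup.card_dvd_of_le hYK) hK
  obtain ⟨a₁, ha₁A, ha₁C⟩ := SetLike.not_le_iff_exists.mp
    (show ¬ A ≤ C from fun h => hnc (h.trans (by rw [hCdef]; exact inf_le_right)))
  have ha₁1 : a₁ ≠ 1 := by
    rintro rfl
    exact ha₁C C.one_mem
  have hord₁ : orderOf a₁ = p := orderOf_eq_prime (hAp a₁ ha₁A) ha₁1
  obtain ⟨Z, hZdef⟩ : ∃ Z : Subgroup X, Z = Subgroup.zpowers a₁ := ⟨_, rfl⟩
  have hZA : Z ≤ A := by rw [hZdef]; exact Subgroup.zpowers_le.mpr ha₁A
  have hZcard : Nat.card Z = p := by rw [hZdef, Nat.card_zpowers, hord₁]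
  -- `C ⊔ Z = A`
  have hsup : C ⊔ Z = A := by
    by_contra hne
    have hlt : C ⊔ Z < A := lt_of_le_of_ne (sup_le hCA hZA) hne
    obtain ⟨a₂, ha₂A, ha₂C⟩ := SetLike.exists_of_lt hlt
    obtain ⟨E, hEdef⟩ : ∃ E : Subgroup X, E = Z ⊔ Subgroup.zpowers a₂ := ⟨_, rfl⟩
    have hEA : E ≤ A := by
      rw [hEdef]; exact sup_le hZA (Subgroup.zpowers_le.mpr ha₂A)
    haveI hEc : IsMulCommutative E := by
      constructor
      constructor
      rintro ⟨a, ha⟩ ⟨b, hb⟩
      exact Subtype.ext (hAc a (hEA ha) b (hEA hb))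
    have hEpg : IsPGroup p E := hApg.to_le hEA
    have hZE : Z ≤ E := by rw [hEdef]; exact le_sup_left
    have ha₂E : a₂ ∈ E := by
      rw [hEdef]; exact Subgroup.mem_sup_right (Subgroup.mem_zpowers a₂)
    -- `E` is not cyclic
    have hEnc : ¬ IsCyclic E := by
      intro hcyc
      obtain ⟨g, hg⟩ := hcyc.exists_generator
      have hgp : g ^ p = 1 := Subtype.ext (by simpa using hAp (g : X) (hEA g.2))
      have hcardE : Nat.card E ∣ p := by
        rw [← orderOf_eq_card_of_forall_mem_zpowers hg]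
        exact orderOf_dvd_of_pow_eq_one hgp
      have hle : Nat.card E ≤ Nat.card Z := by
        rw [hZcard]; exact Nat.le_of_dvd hp.pos hcardE
      have hEZ : Z = E := Subgroup.eq_of_le_of_card_ge hZE hle
      apply ha₂C
      apply Subgroup.mem_sup_right
      rw [hEZ]; exact ha₂E
    -- nontrivial elements of `E` lie outside `C`
    have hEC : ∀ e ∈ E, e ≠ 1 → e ∉ C := by
      intro e heE he1 heC
      have hnorm : Z ≤ Subgroup.normalizer ((Subgroup.zpowers a₂ : Subgroup X) : Set X) := by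
        apply le_normalizer_of_conj_mem
        intro t ht x hx
        have htA : t ∈ A := hZA ht
        have hxA : x ∈ A := (Subgroup.zpowers_le.mpr ha₂A) hx
        have : t * x * t⁻¹ = x := by rw [hAc t htA x hxA]; group
        rw [this]; exact hx
      have heE' : e ∈ ((Z ⊔ Subgroup.zpowers a₂ : Subgroup X) : Set X) := by
        rw [← hEdef]; exact heE
      rw [Subgroup.coe_mul_of_left_le_normalizer_right Z _ hnorm] at heE'
      obtain ⟨z, hz, u, hu, hzu⟩ := heE'
      have hzu' : z * u = e := hzu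
      by_cases hu1 : u = 1
      · rw [hu1, mul_one] at hzu'
        rw [← hzu'] at heC he1
        rw [hZdef] at hz
        have := mem_zpowers_of_ne_one (hAp a₁ ha₁A) hz he1
        exact ha₁C ((Subgroup.zpowers_le.mpr heC) this)
      · have h1 := mem_zpowers_of_ne_one (hAp a₂ ha₂A) hu hu1
        apply ha₂C
        have hu' : u ∈ C ⊔ Z := by
          have : u = z⁻¹ * e := by rw [← hzu']; group
          rw [this]
          exact Subgroup.mul_mem _ (Subgroup.mem_sup_right (Z.inv_mem hz))
            (Subgroup.mem_sup_left heC)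
        exact (Subgroup.zpowers_le.mpr hu') h1
    have hEY : E ≤ Subgroup.normalizer (Y : Set X) := hEA.trans hAY
    have hcop : (Nat.card E).Coprime (Nat.card Y) := by
      obtain ⟨n, hn⟩ := IsPGroup.iff_card.mp hEpg
      rw [hn]
      exact Nat.Coprime.pow_left n hYcop.symm
    have hgen := Cfsg.Agent.Lib.Lead.generated_by_centralizers E Y hEnc hEY hcop
    apply hnc
    rw [Subgroup.le_centralizer_iff, ← hgen]
    apply iSup₂_le
    intro a ha
    obtain ⟨haE, ha1⟩ := ha
    rw [← Subgroup.le_centralizer_iff]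
    by_contra hnc'
    have haA : a ∈ A := hEA haE
    have hA' : A ≤ Subgroup.normalizer
        ((Y ⊓ Subgroup.centralizer ({a} : Set X) : Subgroup X) : Set X) := by
      apply le_normalizer_of_conj_mem
      intro b hb g hg
      obtain ⟨hgY, hgC⟩ := Subgroup.mem_inf.mp hg
      refine Subgroup.mem_inf.mpr ⟨(Subgroup.mem_normalizer_iff.mp (hAY hb) g).mp hgY, ?_⟩
      exact conj_mem_centralizer_singleton (hAc a haA b hb) hgC
    have hcard := hmin _ (inf_le_left.trans hYK) hA' hnc'
    have hYeq : Y ⊓ Subgroup.centralizer ({a} : Set X) = Y :=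
      Subgroup.eq_of_le_of_card_ge inf_le_left hcard
    have hYa : Y ≤ Subgroup.centralizer ({a} : Set X) := by
      rw [← hYeq]; exact inf_le_right
    apply hEC a haE ha1
    rw [hCdef]
    refine Subgroup.mem_inf.mpr ⟨haA, ?_⟩
    rw [Subgroup.mem_centralizer_iff]
    intro y hy
    have := Subgroup.mem_centralizer_singleton_iff.mp (hYa hy)
    exact this
  -- counting
  have hne1 : C.relIndex A ≠ 1 := by
    intro h
    rw [Subgroup.relIndex_eq_one] at h
    exact ha₁C (h ha₁A)
  have hmul : C.relIndex A * Nat.card C = Nat.card A := by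
    have h1 := (C.subgroupOf A).card_mul_index
    have h2 : Nat.card (C.subgroupOf A) = Nat.card C :=
      Nat.card_congr (Subgroup.subgroupOfEquivOfLe hCA).toEquiv
    rw [h2, mul_comm] at h1
    exact h1
  obtain ⟨n, hn⟩ := IsPGroup.iff_card.mp hApg
  have hdvd : C.relIndex A ∣ p ^ n := by
    rw [← hn]; exact Dvd.intro _ hmul
  obtain ⟨j, _, hj⟩ := (Nat.dvd_prime_pow hp).mp hdvd
  have hle : Nat.card A ≤ Nat.card C * p := by
    have hnorm : Z ≤ Subgroup.normalizer (C : Set X) := by
      apply le_normalizer_of_conj_mem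
      intro t ht x hx
      have : t * x * t⁻¹ = x := by rw [hAc t (hZA ht) x (hCA hx)]; group
      rw [this]; exact hx
    have hset := Subgroup.coe_mul_of_right_le_normalizer_left C Z hnorm
    rw [hsup] at hset
    have h1 : Nat.card A = Nat.card ((A : Set X)) := rfl
    rw [h1, hset, ← hZcard]
    have h2 := Set.natCard_mul_le (s := (C : Set X)) (t := (Z : Set X))
    exact h2
  have hCpos : 0 < Nat.card C := Nat.card_pos
  have hle' : C.relIndex A ≤ p := by
    have : C.relIndex A * Nat.card C ≤ p * Nat.card C := by rw [hmul, mul_comm p]; exact hle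
    exact Nat.le_of_mul_le_mul_right this hCpos
  rw [hj] at hne1 hle' ⊢
  have hj1 : j = 1 := by
    rcases j with _ | _ | j
    · simp at hne1
    · rfl
    · exfalso
      have : p ^ 2 ≤ p ^ (j + 1 + 1) := Nat.pow_le_pow_right hp.pos (by omega)
      have h2 : p < p ^ 2 := by
        rw [pow_two]; nlinarith [hp.two_le]
      omega
  rw [hj1, pow_one]

end Cfsg.Agent.Lib.Helper7.TwoConj
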