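import Mathlib
import Cfsg.Agent.Lib.Helper7.TwoConj2

set_option autoImplicit false

/-! The element `x` of the `p'`-group `K` with `x ∈ O^p(⟨A, A^x⟩)`. -/

namespace Cfsg.Agent.Lib.Helper7.TwoConj

open Cfsg Cfsg.Agent.Lib.Helper7.StrongFrob

variable {X : Type*} [Group X] [Finite X] {p : ℕ} [Fact p.Prime]

theorem exists_key (K A : Subgroup X) (hK : (Nat.card K).Coprime p)
    (hAK : A ≤ Subgroup.normalizer (K : Set X))
    (hAc : ∀ a ∈ A, ∀ b ∈ A, a * b = b * a) (hAp : ∀ a ∈ A, a ^ p = 1)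
    (hnc : ¬ A ≤ Subgroup.centralizer (K : Set X)) :
    ∃ x ∈ K, ∃ C : Subgroup X, x ≠ 1 ∧ C ≤ A ∧ C.relIndex A = p ∧
      C ≤ Subgroup.centralizer ({x} : Set X) ∧
      x ∈ resid p (A ⊔ A.map (MulAut.conj x).toMonoidHom) := by
  classical
  have hp : p.Prime := Fact.out
  -- a minimal non-centralized invariant subgroup
  obtain ⟨𝒴, h𝒴def⟩ : ∃ 𝒴 : Set (Subgroup X), 𝒴 = {Y | Y ≤ K ∧
      A ≤ Subgroup.normalizer (Y : Set X) ∧ ¬ A ≤ Subgroup.centralizer (Y : Set X)} := ⟨_, rfl⟩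
  have hne : 𝒴.Nonempty := ⟨K, by rw [h𝒴def]; exact ⟨le_rfl, hAK, hnc⟩⟩
  obtain ⟨Y, hY𝒴, hYmin⟩ := Set.exists_min_image 𝒴 (fun Y => Nat.card Y) (Set.toFinite _) hne
  rw [h𝒴def] at hY𝒴
  obtain ⟨hYK, hAY, hYnc⟩ := hY𝒴
  have hmin : ∀ Y' : Subgroup X, Y' ≤ K → A ≤ Subgroup.normalizer (Y' : Set X) →
      ¬ A ≤ Subgroup.centralizer (Y' : Set X) → Nat.card Y ≤ Nat.card Y' := by
    intro Y' h1 h2 h3
    exact hYmin Y' (by rw [h𝒴def]; exact ⟨h1, h2, h3⟩)
  have hrel := relIndex_centralizer_eq K A Y hK hAc hAp hYK hAY hYnc hmin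
  obtain ⟨C, hCdef⟩ : ∃ C : Subgroup X, C = A ⊓ Subgroup.centralizer (Y : Set X) := ⟨_, rfl⟩
  rw [← hCdef] at hrel
  have hCA : C ≤ A := by rw [hCdef]; exact inf_le_left
  have hCY : C ≤ Subgroup.centralizer (Y : Set X) := by rw [hCdef]; exact inf_le_right
  have hYcop : (Nat.card Y).Coprime p :=
    Nat.Coprime.coprime_dvd_left (Subgroup.card_dvd_of_le hYK) hK
  -- an element of `A` outside `C`
  obtain ⟨a, haA, haC⟩ := SetLike.not_le_iff_exists.mp hYnc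
  have ha1 : a ≠ 1 := by
    rintro rfl
    exact haC (Subgroup.one_mem _)
  have horda : orderOf a = p := orderOf_eq_prime (hAp a haA) ha1
  -- some `y ∈ Y` with `a` not commuting with `y⁻¹ (a y a⁻¹)`
  have hex : ∃ y ∈ Y, ¬ Commute a (y⁻¹ * (a * y * a⁻¹)) := by
    by_contra hall
    push Not at hall
    apply haC
    rw [Subgroup.mem_centralizer_iff]
    intro y hy
    have hwY : y⁻¹ * (a * y * a⁻¹) ∈ Y :=
      Y.mul_mem (Y.inv_mem hy) ((Subgroup.mem_normalizer_iff.mp (hAY haA) y).mp hy)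
    have hcop : (orderOf a).Coprime (orderOf (y⁻¹ * (a * y * a⁻¹))) := by
      rw [horda]
      have h1 : orderOf (y⁻¹ * (a * y * a⁻¹)) ∣ Nat.card Y := by
        have := orderOf_dvd_natCard (⟨_, hwY⟩ : Y)
        rwa [Subgroup.orderOf_mk] at this
      exact (Nat.Coprime.coprime_dvd_left h1 hYcop).symm
    exact (commute_of_commute_comm (hall y hy) hcop).symm
  obtain ⟨y, hyY, hycomm⟩ := hex
  obtain ⟨x, hxdef⟩ : ∃ x, x = y⁻¹ := ⟨_, rfl⟩
  have hxY : x ∈ Y := by rw [hxdef]; exact Y.inv_mem hyY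
  obtain ⟨w, hwdef⟩ : ∃ w, w = y⁻¹ * (a * y * a⁻¹) := ⟨_, rfl⟩
  rw [← hwdef] at hycomm
  have hwx : w = (x * a * x⁻¹) * a⁻¹ := by rw [hwdef, hxdef]; group
  have hwY : w ∈ Y := by
    rw [hwdef]
    exact Y.mul_mem (Y.inv_mem hyY) ((Subgroup.mem_normalizer_iff.mp (hAY haA) y).mp hyY)
  obtain ⟨L, hLdef⟩ : ∃ L : Subgroup X, L = A ⊔ A.map (MulAut.conj x).toMonoidHom := ⟨_, rfl⟩
  have hAL : A ≤ L := by rw [hLdef]; exact le_sup_left
  have hwL : w ∈ L := by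
    rw [hwx]
    apply L.mul_mem _ (L.inv_mem (hAL haA))
    rw [hLdef]
    apply Subgroup.mem_sup_right
    exact ⟨a, haA, by simp [MulAut.conj_apply]⟩
  have hwcop : (orderOf w).Coprime p := by
    have h1 : orderOf w ∣ Nat.card Y := by
      have := orderOf_dvd_natCard (⟨_, hwY⟩ : Y)
      rwa [Subgroup.orderOf_mk] at this
    exact Nat.Coprime.coprime_dvd_left h1 hYcop
  have hwT : w ∈ resid p L := mem_resid_of_coprime hwL hwcop
  -- `Y ⊓ O^p(L)` is again in the family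
  have hA0 : A ≤ Subgroup.normalizer ((Y ⊓ resid p L : Subgroup X) : Set X) := by
    apply le_normalizer_of_conj_mem
    intro b hb g hg
    obtain ⟨hgY, hgT⟩ := Subgroup.mem_inf.mp hg
    exact Subgroup.mem_inf.mpr ⟨(Subgroup.mem_normalizer_iff.mp (hAY hb) g).mp hgY,
      (Subgroup.mem_normalizer_iff.mp (le_normalizer_resid p L (hAL hb)) g).mp hgT⟩
  have hnc0 : ¬ A ≤ Subgroup.centralizer ((Y ⊓ resid p L : Subgroup X) : Set X) := by
    intro h
    have := Subgroup.mem_centralizer_iff.mp (h haA) w (Subgroup.mem_inf.mpr ⟨hwY, hwT⟩)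
    exact hycomm this.symm
  have hcard := hmin _ (inf_le_left.trans hYK) hA0 hnc0
  have hYeq : Y ⊓ resid p L = Y := Subgroup.eq_of_le_of_card_ge inf_le_left hcard
  have hYT : Y ≤ resid p L := by rw [← hYeq]; exact inf_le_right
  refine ⟨x, hYK hxY, C, ?_, hCA, hrel, ?_, ?_⟩
  · intro hx1
    apply hycomm
    have : w = 1 := by rw [hwx, hx1]; group
    rw [this]
    exact Commute.one_right a
  · intro c hc
    rw [Subgroup.mem_centralizer_singleton_iff]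
    exact (Subgroup.mem_centralizer_iff.mp (hCY hc) x hxY).symm
  · rw [← hLdef]
    exact hYT hxY

end Cfsg.Agent.Lib.Helper7.TwoConj
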