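import Mathlib
import Cfsg.Agent.Lib.Helper7.TwoConj3

set_option autoImplicit false
open scoped commutatorElement

/-! Lifting the element `x` through a quotient by a normal `p`-subgroup, and the properties of
`L = ⟨A, A^x⟩`. -/

namespace Cfsg.Agent.Lib.Helper7.TwoConj

open Cfsg Cfsg.Agent.Lib.Helper7.StrongFrob

variable {M : Type*} [Group M] {H : Type*} [Group H]

/-- the subgroup generated by `A` and its conjugate under `x` -/
def twoConj (A : Subgroup M) (x : M) : Subgroup M := A ⊔ A.map (MulAut.conj x).toMonoidHom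

theorem twoConj_def (A : Subgroup M) (x : M) :
    twoConj A x = A ⊔ A.map (MulAut.conj x).toMonoidHom := rfl

theorem le_twoConj (A : Subgroup M) (x : M) : A ≤ twoConj A x := le_sup_left

theorem conj_mem_twoConj (A : Subgroup M) (x : M) {a : M} (ha : a ∈ A) :
    x * a * x⁻¹ ∈ twoConj A x :=
  Subgroup.mem_sup_right ⟨a, ha, by simp [MulAut.conj_apply]⟩

theorem twoConj_le {A L : Subgroup M} {x : M} (hA : A ≤ L) (hx : x ∈ L) : twoConj A x ≤ L := by
  apply sup_le hA
  rintro _ ⟨a, ha, rfl⟩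
  simp only [MulEquiv.coe_toMonoidHom, MulAut.conj_apply]
  exact L.mul_mem (L.mul_mem hx (hA ha)) (L.inv_mem hx)

theorem twoConj_map (f : M →* H) (A : Subgroup M) (x : M) :
    (twoConj A x).map f = twoConj (A.map f) (f x) := by
  unfold twoConj
  rw [Subgroup.map_sup, Subgroup.map_map, Subgroup.map_map]
  congr 2
  ext a
  simp [MulAut.conj_apply]

/-- if `A ≤ C(x)` then `⟨A, A^x⟩ = A` -/
theorem twoConj_eq_of_le_centralizer {A : Subgroup M} {x : M}
    (h : A ≤ Subgroup.centralizer ({x} : Set M)) : twoConj A x = A := by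
  apply le_antisymm _ (le_twoConj A x)
  apply sup_le le_rfl
  rintro _ ⟨a, ha, rfl⟩
  simp only [MulEquiv.coe_toMonoidHom, MulAut.conj_apply]
  have := Subgroup.mem_centralizer_singleton_iff.mp (h ha)
  have e : x * a * x⁻¹ = a := by rw [← this]; group
  rw [e]; exact ha

variable [Finite M] {p : ℕ} [Fact p.Prime]

/-- lifting `x` with `x ∈ O^p(⟨A, A^x⟩)` through a surjective homomorphism -/
theorem exists_lift (f : M →* H) (hf : Function.Surjective f) (A : Subgroup M) (xb : H)
    (hxb : xb ∈ resid p (twoConj (A.map f) xb)) :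
    ∃ x : M, f x = xb ∧ x ∈ resid p (twoConj A x) := by
  classical
  have hne : {x₀ : M | f x₀ = xb}.Nonempty := hf xb
  obtain ⟨x₀, hx₀, hmin⟩ := Set.exists_min_image {x₀ : M | f x₀ = xb}
    (fun x₀ => Nat.card (twoConj A x₀)) (Set.toFinite _) hne
  have hx₀' : f x₀ = xb := hx₀
  have h1 : (resid p (twoConj A x₀)).map f = resid p (twoConj (A.map f) xb) := by
    rw [resid_map, twoConj_map, hx₀']
  rw [← h1] at hxb
  obtain ⟨y, hyT, hy⟩ := hxb
  have hyL : y ∈ twoConj A x₀ := resid_le p _ hyT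
  have hle : twoConj A y ≤ twoConj A x₀ := twoConj_le (le_twoConj A x₀) hyL
  have hcard := hmin y hy
  have heq : twoConj A y = twoConj A x₀ := Subgroup.eq_of_le_of_card_ge hle hcard
  exact ⟨y, hy, by rw [heq]; exact hyT⟩

omit [Finite M] [Fact p.Prime] in
/-- `O^p(⟨A, A^x⟩) ≤ K` for `x` in the normal subgroup `K` and `A` a `p`-group -/
theorem resid_twoConj_le (A K : Subgroup M) [K.Normal] (hA : IsPGroup p A) {x : M} (hx : x ∈ K) :
    resid p (twoConj A x) ≤ K := by
  apply resid_le_of_forall_pow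
  intro l hl
  have hL : twoConj A x ≤ A ⊔ K := by
    apply sup_le le_sup_left
    rintro _ ⟨a, ha, rfl⟩
    simp only [MulEquiv.coe_toMonoidHom, MulAut.conj_apply]
    have e : x * a * x⁻¹ = a * (a⁻¹ * x * a * x⁻¹) := by group
    rw [e]
    apply Subgroup.mul_mem _ (Subgroup.mem_sup_left ha) (Subgroup.mem_sup_right _)
    apply K.mul_mem _ (K.inv_mem hx)
    have := Subgroup.Normal.conj_mem inferInstance x hx a⁻¹
    rwa [inv_inv] at this
  obtain ⟨a, ha, k, hk, rfl⟩ := Subgroup.mem_sup_of_normal_right.mp (hL hl)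
  obtain ⟨n, hn⟩ := hA ⟨a, ha⟩
  have hn' : a ^ p ^ n = 1 := by simpa using congrArg Subtype.val hn
  have hAK : A ≤ Subgroup.normalizer (K : Set M) := by
    rw [Subgroup.normalizer_eq_top]; exact le_top
  obtain ⟨k', hk', h⟩ := exists_pow_mul_eq hAK ha hk (p ^ n)
  refine ⟨n, ?_⟩
  rw [h, hn', one_mul]; exact hk'

omit [Finite M] [Fact p.Prime] in
/-- `[O^p(L), A] = O^p(L)` for `L = ⟨A, A^x⟩` with `x ∈ O^p(L)` -/
theorem commutator_resid_eq (A : Subgroup M) (hA : IsPGroup p A) {x : M}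
    (hx : x ∈ resid p (twoConj A x)) :
    ⁅resid p (twoConj A x), A⁆ = resid p (twoConj A x) := by
  obtain ⟨L, hLdef⟩ : ∃ L : Subgroup M, L = twoConj A x := ⟨_, rfl⟩
  rw [← hLdef] at hx ⊢
  obtain ⟨T, hTdef⟩ : ∃ T : Subgroup M, T = resid p L := ⟨_, rfl⟩
  rw [← hTdef] at hx ⊢
  have hAL : A ≤ L := by rw [hLdef]; exact le_twoConj A x
  have hAT : A ≤ Subgroup.normalizer (T : Set M) := by
    rw [hTdef]; exact hAL.trans (le_normalizer_resid p L)
  apply le_antisymm
  · rw [Subgroup.commutator_le]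
    intro t ht a ha
    have h1 : a * t⁻¹ * a⁻¹ ∈ T := (Subgroup.mem_normalizer_iff.mp (hAT ha) t⁻¹).mp (T.inv_mem ht)
    have e : ⁅t, a⁆ = t * (a * t⁻¹ * a⁻¹) := by rw [commutatorElement_def]; group
    rw [e]; exact T.mul_mem ht h1
  · obtain ⟨N, hNdef⟩ : ∃ N : Subgroup M, N = ⁅T, A⁆ := ⟨_, rfl⟩
    rw [← hNdef]
    have hAN : A ≤ Subgroup.normalizer (N : Set M) := by
      intro a ha
      rw [Subgroup.mem_normalizer_iff_map_conj_eq, hNdef, Subgroup.map_commutator]
      have h1 := Subgroup.mem_normalizer_iff_map_conj_eq.mp (hAT ha)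
      have h2 := Subgroup.mem_normalizer_iff_map_conj_eq.mp (Subgroup.le_normalizer ha)
      rw [h1, h2]
    rw [hTdef]
    apply resid_le_of_forall_pow
    intro l hl
    have hL : L ≤ A ⊔ N := by
      rw [hLdef]
      apply sup_le le_sup_left
      rintro _ ⟨a, ha, rfl⟩
      simp only [MulEquiv.coe_toMonoidHom, MulAut.conj_apply]
      have e : x * a * x⁻¹ = a * ⁅a⁻¹, x⁆ := by rw [commutatorElement_def]; group
      rw [e]
      apply Subgroup.mul_mem _ (Subgroup.mem_sup_left ha) (Subgroup.mem_sup_right _)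
      rw [hNdef, Subgroup.commutator_comm]
      exact Subgroup.commutator_mem_commutator (A.inv_mem ha) hx
    have hset := Subgroup.coe_mul_of_left_le_normalizer_right A N hAN
    have hl' : l ∈ ((A ⊔ N : Subgroup M) : Set M) := hL hl
    rw [hset] at hl'
    obtain ⟨a, ha, n, hn, rfl⟩ := hl'
    obtain ⟨k, hk⟩ := hA ⟨a, ha⟩
    have hk' : a ^ p ^ k = 1 := by simpa using congrArg Subtype.val hk
    obtain ⟨n', hn', h⟩ := exists_pow_mul_eq hAN ha hn (p ^ k)
    refine ⟨k, ?_⟩
    show (a * n) ^ p ^ k ∈ N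
    rw [h, hk', one_mul]; exact hn'

end Cfsg.Agent.Lib.Helper7.TwoConj
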