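import Mathlib
import Cfsg.Prelude.Def_CaseTheorems
import Cfsg.Agent.Lib.Helper7.TwoConj4
import Cfsg.Agent.Lib.Helper7.PSolvable
import Cfsg.Agent.Lib.Lead.HHDual
import Cfsg.Agent.Lib.Lead.Frattini

set_option autoImplicit false
open scoped commutatorElement

/-! `A ∩ O_p(L)` for `L = ⟨A, A^x⟩`, and the final statement. -/

namespace Cfsg.Agent.Lib.Helper7.TwoConj

open Cfsg Cfsg.Agent.Lib.Helper7.StrongFrob

variable {M : Type*} [Group M] {H : Type*} [Group H] [Finite M] {p : ℕ} [Fact p.Prime]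

theorem core_props (f : M →* H) (hR : IsPGroup p f.ker) (A : Subgroup M) (hA : IsPGroup p A)
    (hAb : ∀ a ∈ A, ∀ b ∈ A, f a * f b = f b * f a)
    (Kb : Subgroup H) [Kb.Normal] [Finite Kb] (hKb : (Nat.card Kb).Coprime p)
    (x : M) (hxK : f x ∈ Kb) (hx1 : f x ≠ 1) (hxT : x ∈ resid p (twoConj A x))
    (Cb : Subgroup H) (hCb : Cb ≤ A.map f) (hrel : Cb.relIndex (A.map f) = p)
    (hCx : Cb ≤ Subgroup.centralizer ({f x} : Set H)) :
    (A ⊓ coreOf p (twoConj A x)).relIndex A = p ∧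
      ⁅A ⊓ coreOf p (twoConj A x), twoConj A x⁆ ≤ f.ker := by
  have hp : p.Prime := Fact.out
  obtain ⟨L, hLdef⟩ : ∃ L : Subgroup M, L = twoConj A x := ⟨_, rfl⟩
  rw [← hLdef] at hxT ⊢
  have hAL : A ≤ L := by rw [hLdef]; exact le_twoConj A x
  have hxL : x ∈ L := resid_le p L hxT
  have hLmap : L.map f = twoConj (A.map f) (f x) := by rw [hLdef, twoConj_map]
  -- `Cb` centralizes the image of `L`
  have hCL : ∀ c ∈ Cb, ∀ l ∈ L, f l * c = c * f l := by
    have h1 : L.map f ≤ Subgroup.centralizer (Cb : Set H) := by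
      rw [hLmap]
      apply sup_le
      · rintro _ ⟨a, ha, rfl⟩
        rw [Subgroup.mem_centralizer_iff]
        intro c hc
        obtain ⟨b, hb, rfl⟩ := hCb hc
        exact hAb b hb a ha
      · rintro _ ⟨_, ⟨a, ha, rfl⟩, rfl⟩
        rw [Subgroup.mem_centralizer_iff]
        intro c hc
        simp only [MulEquiv.coe_toMonoidHom, MulAut.conj_apply]
        have h2 : f x * c = c * f x := (Subgroup.mem_centralizer_singleton_iff.mp (hCx hc)).symm
        have h3 : c * f a = f a * c := by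
          obtain ⟨b, hb, rfl⟩ := hCb hc
          exact hAb b hb a ha
        have h4 : (f x)⁻¹ * c = c * (f x)⁻¹ := by
          calc (f x)⁻¹ * c = (f x)⁻¹ * (c * f x) * (f x)⁻¹ := by group
            _ = (f x)⁻¹ * (f x * c) * (f x)⁻¹ := by rw [h2]
            _ = c * (f x)⁻¹ := by group
        calc c * (f x * f a * (f x)⁻¹) = (c * f x) * f a * (f x)⁻¹ := by group
          _ = (f x * c) * f a * (f x)⁻¹ := by rw [h2]
          _ = f x * (c * f a) * (f x)⁻¹ := by group
          _ = f x * (f a * c) * (f x)⁻¹ := by rw [h3]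
          _ = f x * f a * (c * (f x)⁻¹) := by group
          _ = f x * f a * ((f x)⁻¹ * c) := by rw [h4]
          _ = f x * f a * (f x)⁻¹ * c := by group
    intro c hc l hl
    exact (Subgroup.mem_centralizer_iff.mp (h1 ⟨l, hl, rfl⟩) c hc).symm
  obtain ⟨A₀, hA₀def⟩ : ∃ A₀ : Subgroup M, A₀ = A ⊓ Cb.comap f := ⟨_, rfl⟩
  have hA₀A : A₀ ≤ A := by rw [hA₀def]; exact inf_le_left
  have hA₀C : ∀ a ∈ A₀, f a ∈ Cb := by
    intro a ha
    rw [hA₀def] at ha
    exact (Subgroup.mem_inf.mp ha).2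
  have hcomm_ker : ∀ a ∈ A₀, ∀ l ∈ L, l * a * l⁻¹ * a⁻¹ ∈ L ⊓ f.ker := by
    intro a ha l hl
    refine Subgroup.mem_inf.mpr ⟨?_, ?_⟩
    · exact L.mul_mem (L.mul_mem (L.mul_mem hl (hAL (hA₀A ha))) (L.inv_mem hl))
        (L.inv_mem (hAL (hA₀A ha)))
    · rw [MonoidHom.mem_ker, map_mul, map_mul, map_mul, map_inv, map_inv,
        hCL (f a) (hA₀C a ha) l hl]
      group
  -- `A₀ ≤ O_p(L)`
  have hA₀core : A₀ ≤ coreOf p L := by
    obtain ⟨P, hPdef⟩ : ∃ P : Subgroup M, P = A₀ ⊔ (L ⊓ f.ker) := ⟨_, rfl⟩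
    have hA₀P : A₀ ≤ P := by rw [hPdef]; exact le_sup_left
    have hPL : P ≤ L := by
      rw [hPdef]; exact sup_le (hA₀A.trans hAL) inf_le_left
    have hLker : L ≤ Subgroup.normalizer ((L ⊓ f.ker : Subgroup M) : Set M) := by
      apply le_normalizer_of_conj_mem
      intro l hl g hg
      obtain ⟨hgL, hgk⟩ := Subgroup.mem_inf.mp hg
      exact Subgroup.mem_inf.mpr ⟨L.mul_mem (L.mul_mem hl hgL) (L.inv_mem hl),
        Subgroup.Normal.conj_mem inferInstance g hgk l⟩
    have hP : IsPGroup p P := by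
      rw [hPdef]
      exact IsPGroup.to_sup_of_normal_right' (hA.to_le hA₀A) (hR.to_le inf_le_right)
        ((hA₀A.trans hAL).trans hLker)
    have hLP : L ≤ Subgroup.normalizer (P : Set M) := by
      apply le_normalizer_of_conj_mem
      intro l hl g hg
      have hmap : P.map (MulAut.conj l).toMonoidHom ≤ P := by
        rw [hPdef, Subgroup.map_sup]
        apply sup_le
        · rintro _ ⟨a, ha, rfl⟩
          simp only [MulEquiv.coe_toMonoidHom, MulAut.conj_apply]
          have e : l * a * l⁻¹ = (l * a * l⁻¹ * a⁻¹) * a := by group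
          rw [e]
          exact Subgroup.mul_mem _ (Subgroup.mem_sup_right (hcomm_ker a ha l hl))
            (Subgroup.mem_sup_left ha)
        · rintro _ ⟨g, hg, rfl⟩
          simp only [MulEquiv.coe_toMonoidHom, MulAut.conj_apply]
          apply Subgroup.mem_sup_right
          exact (Subgroup.mem_normalizer_iff.mp (hLker hl) g).mp hg
      apply hmap
      exact ⟨g, hg, by simp [MulAut.conj_apply]⟩
    exact hA₀P.trans (le_coreOf hPL hLP hP)
  -- `A ∩ O_p(L) ≤ A₀`
  have hcoreA₀ : A ⊓ coreOf p L ≤ A₀ := by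
    intro a' ha'
    obtain ⟨ha'A, ha'c⟩ := Subgroup.mem_inf.mp ha'
    rw [hA₀def]
    refine Subgroup.mem_inf.mpr ⟨ha'A, ?_⟩
    show f a' ∈ Cb
    by_contra hnot
    -- `f a'` commutes with `f x`
    have hcomm : f a' * f x = f x * f a' := by
      obtain ⟨c, hcdef⟩ : ∃ c, c = a' * x * a'⁻¹ * x⁻¹ := ⟨_, rfl⟩
      have hcc : c ∈ coreOf p L := by
        have h1 : x * a'⁻¹ * x⁻¹ ∈ coreOf p L :=
          (Subgroup.mem_normalizer_iff.mp (le_normalizer_coreOf p L hxL) a'⁻¹).mp
            (Subgroup.inv_mem _ ha'c)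
        have e : c = a' * (x * a'⁻¹ * x⁻¹) := by rw [hcdef]; group
        rw [e]; exact Subgroup.mul_mem _ ha'c h1
      have hfc : f c ∈ Kb := by
        have e : f c = (f a' * f x * (f a')⁻¹) * (f x)⁻¹ := by
          rw [hcdef]; simp only [map_mul, map_inv]
        rw [e]
        exact Kb.mul_mem (Subgroup.Normal.conj_mem inferInstance _ hxK _) (Kb.inv_mem hxK)
      obtain ⟨k, hk⟩ := isPGroup_coreOf p L ⟨c, hcc⟩
      have hk' : c ^ p ^ k = 1 := by simpa using congrArg Subtype.val hk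
      have h1 : orderOf (f c) ∣ p ^ k :=
        (orderOf_map_dvd f c).trans (orderOf_dvd_of_pow_eq_one hk')
      have h2 : orderOf (f c) ∣ Nat.card Kb := by
        have := orderOf_dvd_natCard (⟨f c, hfc⟩ : Kb)
        rwa [Subgroup.orderOf_mk] at this
      have h3 : orderOf (f c) ∣ Nat.gcd (Nat.card Kb) (p ^ k) := Nat.dvd_gcd h2 h1
      have h4 : Nat.gcd (Nat.card Kb) (p ^ k) = 1 := Nat.Coprime.pow_right k hKb
      rw [h4, Nat.dvd_one, orderOf_eq_one_iff] at h3
      have e : f c = f a' * f x * (f a')⁻¹ * (f x)⁻¹ := by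
        rw [hcdef]; simp only [map_mul, map_inv]
      rw [e] at h3
      calc f a' * f x = (f a' * f x * (f a')⁻¹ * (f x)⁻¹) * (f x * f a') := by group
        _ = f x * f a' := by rw [h3, one_mul]
    -- `A.map f = Cb ⊔ ⟨f a'⟩`
    obtain ⟨Cb', hCb'def⟩ : ∃ Cb' : Subgroup H, Cb' = Cb ⊔ Subgroup.zpowers (f a') := ⟨_, rfl⟩
    have hCC' : Cb ≤ Cb' := by rw [hCb'def]; exact le_sup_left
    have hC'A : Cb' ≤ A.map f := by
      rw [hCb'def]
      exact sup_le hCb (Subgroup.zpowers_le.mpr ⟨a', ha'A, rfl⟩)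
    have hmul := Subgroup.relIndex_mul_relIndex Cb Cb' (A.map f) hCC' hC'A
    rw [hrel] at hmul
    have h1 : Cb.relIndex Cb' ≠ 1 := by
      intro h
      rw [Subgroup.relIndex_eq_one] at h
      apply hnot
      apply h
      rw [hCb'def]
      exact Subgroup.mem_sup_right (Subgroup.mem_zpowers _)
    have h2 : Cb.relIndex Cb' = p := by
      have hd : Cb.relIndex Cb' ∣ p := Dvd.intro _ hmul
      rcases (Nat.dvd_prime hp).mp hd with h | h
      · exact absurd h h1
      · exact h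
    have h3 : Cb'.relIndex (A.map f) = 1 := by
      rw [h2] at hmul
      have : p * Cb'.relIndex (A.map f) = p * 1 := by rw [hmul, mul_one]
      exact Nat.eq_of_mul_eq_mul_left hp.pos this
    rw [Subgroup.relIndex_eq_one] at h3
    have hAcent : A.map f ≤ Subgroup.centralizer ({f x} : Set H) := by
      refine h3.trans ?_
      rw [hCb'def]
      apply sup_le hCx
      rw [Subgroup.zpowers_le, Subgroup.mem_centralizer_singleton_iff]
      exact hcomm
    have htc := twoConj_eq_of_le_centralizer hAcent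
    have hbot : resid p (twoConj (A.map f) (f x)) = ⊥ := by
      rw [htc]; exact resid_eq_bot_of_isPGroup (hA.map f)
    have hfx : f x ∈ resid p (twoConj (A.map f) (f x)) := by
      rw [← hLmap, ← resid_map]
      exact ⟨x, hxT, rfl⟩
    rw [hbot, Subgroup.mem_bot] at hfx
    exact hx1 hfx
  have heq : A ⊓ coreOf p L = A₀ :=
    le_antisymm hcoreA₀ (le_inf hA₀A hA₀core)
  constructor
  · rw [heq, hA₀def, Subgroup.inf_relIndex_left, Subgroup.relIndex_comap]
    exact hrel
  · rw [heq, Subgroup.commutator_le]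
    intro a ha l hl
    rw [MonoidHom.mem_ker, map_commutatorElement, commutatorElement_def,
      ← hCL (f a) (hA₀C a ha) l hl]
    group

end Cfsg.Agent.Lib.Helper7.TwoConj
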