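import Mathlib
import Cfsg.Agent.Lib.Helper7.TwoConj5

set_option autoImplicit false
open scoped commutatorElement

/-! The two-conjugate generation lemma in `p`-soluble groups. -/

namespace Cfsg.Agent.Lib.Helper7.TwoConj

open Cfsg

variable {M : Type*} [Group M] [Finite M] {p : ℕ} [Fact p.Prime]

theorem main (hM : Cfsg.IsPSolvable p M) (A : Subgroup M) (hA : IsPGroup p A)
    (hΦ : (frattini ↥A).map A.subtype ≤ Cfsg.pCore p M) (hnot : ¬ A ≤ Cfsg.pCore p M) :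
    ∃ x ∈ (Cfsg.pPrimeCore p (M ⧸ Cfsg.pCore p M)).comap (QuotientGroup.mk' (Cfsg.pCore p M)),
      x ∈ resid p (twoConj A x) ∧
      resid p (twoConj A x) ≤
        (Cfsg.pPrimeCore p (M ⧸ Cfsg.pCore p M)).comap (QuotientGroup.mk' (Cfsg.pCore p M)) ∧
      ⁅resid p (twoConj A x), A⁆ = resid p (twoConj A x) ∧
      (A ⊓ coreOf p (twoConj A x)).relIndex A = p ∧
      ⁅A ⊓ coreOf p (twoConj A x), twoConj A x⁆ ≤ Cfsg.pCore p M := by
  obtain ⟨f, hfdef⟩ : ∃ f : M →* M ⧸ Cfsg.pCore p M, f = QuotientGroup.mk' (Cfsg.pCore p M) :=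
    ⟨_, rfl⟩
  obtain ⟨Kb, hKbdef⟩ : ∃ Kb : Subgroup (M ⧸ Cfsg.pCore p M),
    Kb = Cfsg.pPrimeCore p (M ⧸ Cfsg.pCore p M) := ⟨_, rfl⟩
  rw [← hfdef, ← hKbdef]
  have hRp : IsPGroup p (Cfsg.pCore p M) := Cfsg.Agent.Lib.Lead.pCore_isPGroup p
  have hker : f.ker = Cfsg.pCore p M := by rw [hfdef]; exact QuotientGroup.ker_mk' _
  have hsurj : Function.Surjective f := by rw [hfdef]; exact QuotientGroup.mk'_surjective _
  haveI hKbn : Kb.Normal := by rw [hKbdef]; exact (Cfsg.Agent.Lib.Helper6.pPrimeCore_mem_set p).1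
  have hKb : (Nat.card Kb).Coprime p := by
    rw [hKbdef]; exact Cfsg.Agent.Lib.Helper6.pPrimeCore_coprime p
  have hsolv : Cfsg.IsPSolvable p (M ⧸ Cfsg.pCore p M) :=
    Cfsg.Agent.Lib.Helper7.isPSolvable_quotient hM _
  have hcore : Cfsg.pCore p (M ⧸ Cfsg.pCore p M) = ⊥ := by
    rw [Cfsg.Agent.Lib.Helper6.pCore_quotient_of_isPGroup (Cfsg.pCore p M) hRp]
    rw [Subgroup.map_eq_bot_iff, QuotientGroup.ker_mk']
  have hcent : Subgroup.centralizer (Kb : Set (M ⧸ Cfsg.pCore p M)) ≤ Kb := by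
    rw [hKbdef]
    exact Cfsg.Agent.Lib.Lead.centralizer_pPrimeCore_le_of_isPSolvable hsolv hcore
  -- membership in the kernel
  have hmemker : ∀ m : M, m ∈ Cfsg.pCore p M → f m = 1 := by
    intro m hm
    rw [← hker] at hm
    exact hm
  -- the image of `A` is abelian of exponent `p`
  have hAb : ∀ a ∈ A, ∀ b ∈ A, f a * f b = f b * f a := by
    intro a ha b hb
    have h1 : ⁅(⟨a, ha⟩ : A), ⟨b, hb⟩⁆ ∈ commutator ↥A := by
      rw [commutator_def]
      exact Subgroup.commutator_mem_commutator (Subgroup.mem_top _) (Subgroup.mem_top _)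
    have h2 := Cfsg.Agent.Lib.Lead.commutator_le_frattini_of_isPGroup hA h1
    have h3 : a * b * a⁻¹ * b⁻¹ ∈ Cfsg.pCore p M := by
      apply hΦ
      exact ⟨_, h2, by simp [commutatorElement_def]⟩
    have h4 := hmemker _ h3
    simp only [map_mul, map_inv] at h4
    calc f a * f b = (f a * f b * (f a)⁻¹ * (f b)⁻¹) * (f b * f a) := by group
      _ = f b * f a := by rw [h4, one_mul]
  have hAp : ∀ a ∈ A, (f a) ^ p = 1 := by
    intro a ha
    have h2 := Cfsg.Agent.Lib.Lead.pow_mem_frattini_of_isPGroup hA (⟨a, ha⟩ : A)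
    have h3 : a ^ p ∈ Cfsg.pCore p M := by
      apply hΦ
      exact ⟨_, h2, by simp⟩
    rw [← map_pow]
    exact hmemker _ h3
  have hAc' : ∀ a ∈ A.map f, ∀ b ∈ A.map f, a * b = b * a := by
    rintro _ ⟨a, ha, rfl⟩ _ ⟨b, hb, rfl⟩
    exact hAb a ha b hb
  have hAp' : ∀ a ∈ A.map f, a ^ p = 1 := by
    rintro _ ⟨a, ha, rfl⟩
    exact hAp a ha
  have hnc : ¬ A.map f ≤ Subgroup.centralizer (Kb : Set (M ⧸ Cfsg.pCore p M)) := by
    intro h
    apply hnot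
    intro a ha
    have h1 : f a ∈ Kb := hcent (h ⟨a, ha, rfl⟩)
    have h2 : orderOf (f a) ∣ Nat.card Kb := by
      have := orderOf_dvd_natCard (⟨f a, h1⟩ : Kb)
      rwa [Subgroup.orderOf_mk] at this
    have h3 : orderOf (f a) ∣ p := orderOf_dvd_of_pow_eq_one (hAp a ha)
    have h4 : orderOf (f a) ∣ Nat.gcd (Nat.card Kb) p := Nat.dvd_gcd h2 h3
    rw [hKb.gcd_eq_one, Nat.dvd_one, orderOf_eq_one_iff] at h4
    rw [← hker]
    exact h4
  have hAK : A.map f ≤ Subgroup.normalizer (Kb : Set (M ⧸ Cfsg.pCore p M)) := by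
    rw [Subgroup.normalizer_eq_top]; exact le_top
  obtain ⟨xb, hxbK, Cb, hxb1, hCbA, hrel, hCx, hxbT⟩ :=
    exists_key Kb (A.map f) hKb hAK hAc' hAp' hnc
  rw [← twoConj_def] at hxbT
  obtain ⟨x, hfx, hxT⟩ := exists_lift f hsurj A xb hxbT
  rw [← hfx] at hxbK hxb1 hCx
  have hxK : x ∈ Kb.comap f := hxbK
  have hprops := core_props f (by rw [hker]; exact hRp) A hA hAb Kb hKb x hxbK hxb1 hxT Cb hCbA
    hrel hCx
  rw [hker] at hprops
  exact ⟨x, hxK, hxT, resid_twoConj_le A (Kb.comap f) hA hxK, commutator_resid_eq A hA hxT,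
    hprops.1, hprops.2⟩

end Cfsg.Agent.Lib.Helper7.TwoConj
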