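import Mathlib
import Cfsg.Agent.Lib.Helper7.TwoFrob1

set_option autoImplicit false
open Pointwise

/-!
# 2-Frobenius groups: the middle section is cyclic of odd order, the top section is cyclic
-/

namespace Cfsg.Agent.Lib.Helper7.TwoFrob

open Cfsg.Agent.Lib.Lead

variable {G : Type*} [Group G]

namespace Data

variable {H K : Subgroup G} [H.Normal] [K.Normal] {C₁ : Subgroup K} {C₂ : Subgroup (G ⧸ H)}

/-- the projection restricted to the inner complement -/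
def ψ (h : Data H K C₁ C₂) : h.D →* G ⧸ H := (QuotientGroup.mk' H).comp h.D.subtype

theorem ψ_apply (h : Data H K C₁ C₂) (d : h.D) : h.ψ d = QuotientGroup.mk (d : G) := rfl

theorem ψ_injective (h : Data H K C₁ C₂) : Function.Injective h.ψ := by
  rw [injective_iff_map_eq_one]
  intro d hd
  rw [ψ_apply, QuotientGroup.eq_one_iff] at hd
  have h1 : (d : G) ∈ h.D ⊓ H := Subgroup.mem_inf.mpr ⟨d.2, hd⟩
  rw [h.D_inf, Subgroup.mem_bot] at h1
  exact Subtype.ext h1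

theorem ψ_mem (h : Data H K C₁ C₂) (d : h.D) : h.ψ d ∈ K.map (QuotientGroup.mk' H) :=
  ⟨(d : G), h.D_le d.2, rfl⟩

theorem exists_ψ_eq (h : Data H K C₁ C₂) {x : G ⧸ H} (hx : x ∈ K.map (QuotientGroup.mk' H)) :
    ∃ d : h.D, h.ψ d = x := by
  obtain ⟨k, hk, rfl⟩ := hx
  obtain ⟨y, hy, d, hd, rfl⟩ := h.exists_mul hk
  refine ⟨⟨d, hd⟩, ?_⟩
  rw [ψ_apply, QuotientGroup.mk'_apply, QuotientGroup.mk_mul,
    (QuotientGroup.eq_one_iff y).mpr hy, one_mul]

theorem Kb_ne_bot (h : Data H K C₁ C₂) : K.map (QuotientGroup.mk' H) ≠ ⊥ := h.f2.ne_bot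

theorem exists_C₂_ne_one (h : Data H K C₁ C₂) : ∃ x ∈ C₂, x ≠ 1 := by
  by_contra hall
  push Not at hall
  exact h.f2.frob.1 ((Subgroup.eq_bot_iff_forall C₂).mpr hall)

section fin

variable [Finite G]

/-- the middle section has odd order -/
theorem odd_n₁ (h : Data H K C₁ C₂) : ¬ 2 ∣ h.n₁ := by
  intro h2
  rw [← h.card_C₁] at h2
  obtain ⟨t, ht⟩ := exists_prime_orderOf_dvd_card' (G := C₁) 2 h2
  have htK : orderOf (t : K) = 2 := by rw [Subgroup.orderOf_coe]; exact ht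
  -- uniqueness of the involution in `D`
  have huniq : ∀ d : h.D, orderOf d = 2 → (d : G) = ((t : K) : G) := by
    intro d hd
    obtain ⟨hdK, hdC⟩ := h.mem_D_iff.mp d.2
    have h3 : orderOf (⟨(d : G), hdK⟩ : K) = 2 := by
      rw [← hd, ← Subgroup.orderOf_coe d, ← Subgroup.orderOf_coe (⟨(d : G), hdK⟩ : K)]
    have := h.f1.involution_unique (t : K) ⟨(d : G), hdK⟩ t.2 hdC htK h3
    exact (congrArg Subtype.val this).symm
  set td : h.D := ⟨((t : K) : G), ⟨(t : K), t.2, rfl⟩⟩ with htd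
  have htd2 : orderOf td = 2 := by
    rw [← Subgroup.orderOf_coe td, ← htK, ← Subgroup.orderOf_coe (t : K)]
  set tb := h.ψ td with htb
  have htb2 : orderOf tb = 2 := by
    rw [htb, orderOf_injective h.ψ h.ψ_injective, htd2]
  have htb1 : tb ≠ 1 := by
    intro e
    rw [e, orderOf_one] at htb2
    omega
  obtain ⟨x, hxC, hx1⟩ := h.exists_C₂_ne_one
  haveI := h.f2.normal
  have hs : x * tb * x⁻¹ ∈ K.map (QuotientGroup.mk' H) :=
    h.f2.normal.conj_mem _ (h.ψ_mem td) x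
  obtain ⟨d', hd'⟩ := h.exists_ψ_eq hs
  have hd'2 : orderOf d' = 2 := by
    rw [← orderOf_injective h.ψ h.ψ_injective, hd', ← htb2]
    have : x * tb * x⁻¹ = MulAut.conj x tb := by simp [MulAut.conj_apply]
    rw [this, MulEquiv.orderOf_eq]
  have h5 : d' = td := Subtype.ext (huniq d' hd'2)
  rw [h5] at hd'
  have hcomm : x * tb = tb * x := by
    have : x * tb * x⁻¹ = tb := hd'.symm
    calc x * tb = x * tb * x⁻¹ * x := by group
      _ = tb * x := by rw [this]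
  exact htb1 (h.f2.fpf hxC hx1 (h.ψ_mem td) hcomm)

theorem isCyclic_D (h : Data H K C₁ C₂) : IsCyclic h.D := by
  -- `C₁` is a Z-group
  have hodd : ¬ 2 ∣ Nat.card C₁ := by rw [h.card_C₁]; exact h.odd_n₁
  haveI hZ : IsZGroup C₁ := h.f1.isZGroup_of_odd hodd
  -- `D ≃ C₁`
  let e : C₁ →* h.D :=
    (K.subtype.comp C₁.subtype).codRestrict h.D (fun c => ⟨c, c.2, rfl⟩)
  have hesurj : Function.Surjective e := by
    intro d
    obtain ⟨c, hc, hcd⟩ := d.2
    exact ⟨⟨c, hc⟩, Subtype.ext hcd⟩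
  haveI : IsZGroup h.D := IsZGroup.of_surjective (f := e) hesurj
  -- nilpotency from the outer kernel
  obtain ⟨N, hN1, hN2, hN3⟩ := Cfsg.Agent.S0042.result C₂ h.f2.frob
  have hNeq : N = K.map (QuotientGroup.mk' H) := by
    apply SetLike.coe_injective
    rw [hN1, h.f2.coe_eq]
  subst hNeq
  let f : h.D →* (K.map (QuotientGroup.mk' H)) :=
    h.ψ.codRestrict _ (fun d => h.ψ_mem d)
  have hf : Function.Injective f := by
    intro a b hab
    apply h.ψ_injective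
    exact congrArg Subtype.val hab
  haveI : Group.IsNilpotent h.D := by
    apply Subgroup.isNilpotent_of_ker_le_center f
    rw [(MonoidHom.ker_eq_bot_iff f).mpr hf]
    exact bot_le
  infer_instance

theorem isCyclic_Kb (h : Data H K C₁ C₂) : IsCyclic (K.map (QuotientGroup.mk' H)) := by
  haveI := h.isCyclic_D
  let f : h.D →* (K.map (QuotientGroup.mk' H)) :=
    h.ψ.codRestrict _ (fun d => h.ψ_mem d)
  apply isCyclic_of_surjective f
  intro x
  obtain ⟨d, hd⟩ := h.exists_ψ_eq x.2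
  exact ⟨d, Subtype.ext hd⟩

theorem comm_C₂ (h : Data H K C₁ C₂) : IsMulCommutative C₂ := by
  haveI := h.isCyclic_Kb
  obtain ⟨κ, hκ⟩ := IsCyclic.exists_generator (α := K.map (QuotientGroup.mk' H))
  have hκ1 : (κ : G ⧸ H) ≠ 1 := by
    intro e
    apply h.Kb_ne_bot
    rw [eq_bot_iff]
    intro x hx
    have := hκ ⟨x, hx⟩
    obtain ⟨i, hi⟩ := Subgroup.mem_zpowers_iff.mp this
    have h2 : (κ : G ⧸ H) ^ i = x := by
      have := congrArg Subtype.val hi
      simpa using this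
    rw [e, one_zpow] at h2
    rw [Subgroup.mem_bot, ← h2]
  haveI := h.f2.normal
  have hact : ∀ x : G ⧸ H, ∃ i : ℤ, x * (κ : G ⧸ H) * x⁻¹ = (κ : G ⧸ H) ^ i := by
    intro x
    have hs : x * (κ : G ⧸ H) * x⁻¹ ∈ K.map (QuotientGroup.mk' H) :=
      h.f2.normal.conj_mem _ κ.2 x
    obtain ⟨i, hi⟩ := Subgroup.mem_zpowers_iff.mp (hκ ⟨_, hs⟩)
    refine ⟨i, ?_⟩
    have := congrArg Subtype.val hi
    simpa using this.symm
  refine ⟨⟨fun x y => ?_⟩⟩
  obtain ⟨i, hi⟩ := hact (x : G ⧸ H)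
  obtain ⟨j, hj⟩ := hact (y : G ⧸ H)
  set k := (κ : G ⧸ H) with hk
  have h1 : ((x : G ⧸ H) * y) * k * ((x : G ⧸ H) * y)⁻¹ = k ^ (i * j) := by
    have : ((x : G ⧸ H) * y) * k * ((x : G ⧸ H) * y)⁻¹ =
        (x : G ⧸ H) * ((y : G ⧸ H) * k * (y : G ⧸ H)⁻¹) * (x : G ⧸ H)⁻¹ := by group
    rw [this, hj, ← conj_zpow, hi, ← zpow_mul]
  have h2 : ((y : G ⧸ H) * x) * k * ((y : G ⧸ H) * x)⁻¹ = k ^ (i * j) := by
    have : ((y : G ⧸ H) * x) * k * ((y : G ⧸ H) * x)⁻¹ =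
        (y : G ⧸ H) * ((x : G ⧸ H) * k * (x : G ⧸ H)⁻¹) * (y : G ⧸ H)⁻¹ := by group
    rw [this, hi, ← conj_zpow, hj, ← zpow_mul, mul_comm]
  set z : G ⧸ H := ((y : G ⧸ H) * x)⁻¹ * ((x : G ⧸ H) * y) with hz
  have hzC : z ∈ C₂ :=
    C₂.mul_mem (C₂.inv_mem (C₂.mul_mem y.2 x.2)) (C₂.mul_mem x.2 y.2)
  have hzk : z * k = k * z := by
    have h3 : z * k * z⁻¹ = k := by
      have : z * k * z⁻¹ = ((y : G ⧸ H) * x)⁻¹ *
          (((x : G ⧸ H) * y) * k * ((x : G ⧸ H) * y)⁻¹) * ((y : G ⧸ H) * x) := by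
        rw [hz]; group
      rw [this, h1, ← h2]
      group
    calc z * k = z * k * z⁻¹ * z := by group
      _ = k * z := by rw [h3]
  have hz1 : z = 1 := by
    by_contra hne
    exact hκ1 (h.f2.fpf hzC hne κ.2 hzk)
  apply Subtype.ext
  have h4 : ((y : G ⧸ H) * x) * z = (x : G ⧸ H) * y := by rw [hz]; group
  rw [hz1, mul_one] at h4
  exact h4.symm

theorem isCyclic_C₂ (h : Data H K C₁ C₂) : IsCyclic C₂ :=
  h.f2.isCyclic_of_comm C₂ le_rfl h.comm_C₂

/-- the natural map `G ⧸ H → G ⧸ K` -/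
def θ (h : Data H K C₁ C₂) : G ⧸ H →* G ⧸ K :=
  QuotientGroup.map H K (MonoidHom.id G) (fun _ hx => h.le hx)

theorem θ_mk (h : Data H K C₁ C₂) (g : G) : h.θ (QuotientGroup.mk g) = QuotientGroup.mk g := rfl

theorem exists_C₂_θ (h : Data H K C₁ C₂) (q : G ⧸ K) : ∃ c ∈ C₂, h.θ c = q := by
  obtain ⟨g, rfl⟩ := QuotientGroup.mk_surjective q
  haveI := h.f2.normal
  have h1 : (QuotientGroup.mk g : G ⧸ H) ∈ K.map (QuotientGroup.mk' H) ⊔ C₂ := by
    rw [h.f2.compl.sup_eq_top]; exact Subgroup.mem_top _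
  rw [Subgroup.mem_sup_of_normal_left] at h1
  obtain ⟨x, hx, c, hc, hxc⟩ := h1
  refine ⟨c, hc, ?_⟩
  obtain ⟨k, hk, rfl⟩ := hx
  have h2 : h.θ (QuotientGroup.mk' H k * c) = h.θ (QuotientGroup.mk g) := by rw [hxc]
  rw [map_mul, QuotientGroup.mk'_apply, θ_mk, θ_mk,
    (QuotientGroup.eq_one_iff k).mpr hk, one_mul] at h2
  exact h2

theorem isCyclic_GK (h : Data H K C₁ C₂) : IsCyclic (G ⧸ K) := by
  haveI := h.isCyclic_C₂
  apply isCyclic_of_surjective (h.θ.comp C₂.subtype)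
  intro q
  obtain ⟨c, hc, hcq⟩ := h.exists_C₂_θ q
  exact ⟨⟨c, hc⟩, hcq⟩

theorem isNilpotent_H (h : Data H K C₁ C₂) : Group.IsNilpotent H := by
  obtain ⟨N, hN1, hN2, hN3⟩ := Cfsg.Agent.S0042.result C₁ h.f1.frob
  have hNeq : N = H.subgroupOf K := by
    apply SetLike.coe_injective
    rw [hN1, h.f1.coe_eq]
  subst hNeq
  exact nilpotent_of_mulEquiv (Subgroup.subgroupOfEquivOfLe h.le)

theorem isSolvable (h : Data H K C₁ C₂) : Group.IsSolvable G := by
  haveI := h.isNilpotent_H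
  haveI hHk : Group.IsSolvable (H.subgroupOf K) :=
    solvable_of_solvable_injective (f := (Subgroup.subgroupOfEquivOfLe h.le).toMonoidHom)
      (Subgroup.subgroupOfEquivOfLe h.le).injective
  haveI := h.f1.normal
  haveI := h.isCyclic_D
  -- `K ⧸ H` is a quotient of `D`
  have hKH : Group.IsSolvable (K ⧸ H.subgroupOf K) := by
    let f : h.D →* K ⧸ H.subgroupOf K :=
      (QuotientGroup.mk' (H.subgroupOf K)).comp (Subgroup.inclusion h.D_le)
    have hf : Function.Surjective f := by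
      intro q
      obtain ⟨k, rfl⟩ := QuotientGroup.mk_surjective q
      obtain ⟨x, hx, d, hd, hkd⟩ := h.exists_mul k.2
      refine ⟨⟨d, hd⟩, ?_⟩
      change (QuotientGroup.mk (Subgroup.inclusion h.D_le ⟨d, hd⟩) : K ⧸ H.subgroupOf K) =
        QuotientGroup.mk k
      rw [QuotientGroup.eq, Subgroup.mem_subgroupOf]
      have : (((Subgroup.inclusion h.D_le ⟨d, hd⟩)⁻¹ * k : K) : G) = d⁻¹ * x * d := by
        simp [hkd, mul_assoc]
      rw [this]
      exact (inferInstance : H.Normal).conj_mem' x hx d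
    haveI : IsMulCommutative h.D := ⟨⟨fun a b => by
      obtain ⟨g, hg⟩ := IsCyclic.exists_generator (α := h.D)
      obtain ⟨i, rfl⟩ := Subgroup.mem_zpowers_iff.mp (hg a)
      obtain ⟨j, rfl⟩ := Subgroup.mem_zpowers_iff.mp (hg b)
      rw [← zpow_add, ← zpow_add, add_comm]⟩⟩
    haveI : Group.IsSolvable h.D := Group.isSolvable_of_comm (fun a b => mul_comm' a b)
    exact solvable_of_surjective hf
  haveI : Group.IsSolvable K :=
    solvable_of_ker_le_range (H.subgroupOf K).subtype (QuotientGroup.mk' (H.subgroupOf K))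
      (by rw [QuotientGroup.ker_mk', Subgroup.range_subtype])
  haveI := h.isCyclic_GK
  haveI : Group.IsSolvable (G ⧸ K) := by
    apply Group.isSolvable_of_comm
    intro a b
    obtain ⟨g, hg⟩ := IsCyclic.exists_generator (α := G ⧸ K)
    obtain ⟨i, rfl⟩ := Subgroup.mem_zpowers_iff.mp (hg a)
    obtain ⟨j, rfl⟩ := Subgroup.mem_zpowers_iff.mp (hg b)
    rw [← zpow_add, ← zpow_add, add_comm]
  exact solvable_of_ker_le_range K.subtype (QuotientGroup.mk' K)
    (by rw [QuotientGroup.ker_mk', Subgroup.range_subtype])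

end fin

end Data

end Cfsg.Agent.Lib.Helper7.TwoFrob
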