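import Mathlib
import Cfsg.Agent.Lib.Helper7.TwoFrob2

set_option autoImplicit false
open Pointwise

/-!
# 2-Frobenius groups: the prime graph
-/

namespace Cfsg.Agent.Lib.Helper7.TwoFrob

open Cfsg.Agent.Lib.Lead

section general

variable {A : Type*} [Group A]

theorem orderOf_pow_div [Finite A] (g : A) {m : ℕ} (hm : m ∣ orderOf g) :
    orderOf (g ^ (orderOf g / m)) = m := by
  have hpos : 0 < orderOf g := orderOf_pos g
  obtain ⟨k, hk⟩ := hm
  have hm0 : m ≠ 0 := by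
    rintro rfl
    rw [zero_mul] at hk
    omega
  have hk0 : k ≠ 0 := by
    rintro rfl
    rw [mul_zero] at hk
    omega
  have h1 : orderOf g / m = k := by
    rw [hk, Nat.mul_div_cancel_left _ (Nat.pos_of_ne_zero hm0)]
  rw [h1, orderOf_pow_of_dvd hk0 (Dvd.intro_left m hk.symm)]
  rw [hk, Nat.mul_div_cancel _ (Nat.pos_of_ne_zero hk0)]

theorem exists_orderOf_eq_of_isCyclic [Finite A] [IsCyclic A] {m : ℕ} (hm : m ∣ Nat.card A) :
    ∃ a : A, orderOf a = m := by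
  obtain ⟨g, hg⟩ := IsCyclic.exists_ofOrder_eq_natCard (α := A)
  exact ⟨_, orderOf_pow_div g (hg ▸ hm)⟩

theorem exists_orderOf_eq_of_map [Finite A] {B : Type*} [Group B] (f : A →* B) (g : A) {m : ℕ}
    (hm : m ∣ orderOf (f g)) : ∃ k : ℕ, orderOf (g ^ k) = m :=
  ⟨_, orderOf_pow_div g (hm.trans (orderOf_map_dvd f g))⟩

theorem orderOf_mul_of_commute_primes {x y : A} {p q : ℕ} (hp : p.Prime) (hq : q.Prime)
    (hpq : p ≠ q) (hx : orderOf x = p) (hy : orderOf y = q) (hc : x * y = y * x) :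
    orderOf (x * y) = p * q := by
  have hc' : Commute x y := hc
  rw [hc'.orderOf_mul_eq_mul_orderOf_of_coprime, hx, hy]
  rw [hx, hy]
  exact (Nat.coprime_primes hp hq).mpr hpq

end general

variable {G : Type*} [Group G]

namespace Data

variable {H K : Subgroup G} [H.Normal] [K.Normal] {C₁ : Subgroup K} {C₂ : Subgroup (G ⧸ H)}

variable [Finite G]

/-- no element of order `p q` with `p` dividing and `q` not dividing the order of the middle
section -/
theorem no_mixed (h : Data H K C₁ C₂) {p q : ℕ} (hp : p.Prime) (hq : q.Prime)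
    (hpn : p ∣ h.n₁) (hqn : ¬ q ∣ h.n₁) (g : G) (hg : orderOf g = p * q) : False := by
  set u := g ^ q with hu
  set v := g ^ p with hv
  have hou : orderOf u = p := by
    rw [hu, orderOf_pow_of_dvd hq.ne_zero (hg ▸ Dvd.intro_left p rfl), hg,
      Nat.mul_div_cancel _ hq.pos]
  have hov : orderOf v = q := by
    rw [hv, orderOf_pow_of_dvd hp.ne_zero (hg ▸ Dvd.intro q rfl), hg,
      Nat.mul_div_cancel_left _ hp.pos]
  have huv : v * u = u * v := by
    rw [hu, hv, ← pow_add, ← pow_add, add_comm]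
  -- `u ∈ K`
  have huK : u ∈ K := by
    rw [← QuotientGroup.eq_one_iff, ← orderOf_eq_one_iff]
    have h1 : orderOf (QuotientGroup.mk u : G ⧸ K) ∣ p := by
      rw [← hou]; exact orderOf_map_dvd (QuotientGroup.mk' K) u
    have h2 : orderOf (QuotientGroup.mk u : G ⧸ K) ∣ Nat.card (G ⧸ K) := orderOf_dvd_natCard _
    have hcop : Nat.Coprime p (Nat.card (G ⧸ K)) := Nat.Coprime.coprime_dvd_left hpn h.coprime_GK
    exact Nat.eq_one_of_dvd_coprimes hcop h1 h2
  -- `u ∉ H`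
  have huH : u ∉ H := by
    intro hmem
    have h1 : p ∣ Nat.card H := by
      rw [← hou]; exact Subgroup.orderOf_dvd_natCard H hmem
    have h2 : p ∣ Nat.gcd h.n₁ (Nat.card H) := Nat.dvd_gcd hpn h1
    rw [h.coprime_H] at h2
    exact hp.one_lt.ne' (Nat.dvd_one.mp h2)
  -- `v ∈ K`
  have hvK : v ∈ K := by
    have hub : (QuotientGroup.mk u : G ⧸ H) ∈ Cfsg.frobeniusKernel C₂ := by
      rw [← h.f2.coe_eq]
      exact ⟨u, huK, rfl⟩
    have hub1 : (QuotientGroup.mk u : G ⧸ H) ≠ 1 := by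
      rw [Ne, QuotientGroup.eq_one_iff]; exact huH
    have hcomm : (QuotientGroup.mk v : G ⧸ H) * QuotientGroup.mk u =
        QuotientGroup.mk u * QuotientGroup.mk v := by
      rw [← QuotientGroup.mk_mul, ← QuotientGroup.mk_mul, huv]
    have h1 := Cfsg.Agent.S4283.commute_mem_kernel h.f2.frob hub1 hub hcomm
    rw [← h.f2.coe_eq] at h1
    obtain ⟨k, hk, hkv⟩ := h1
    have h2 : k⁻¹ * v ∈ H := by
      rw [← QuotientGroup.eq]; exact hkv
    have h3 : v = k * (k⁻¹ * v) := by group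
    rw [h3]
    exact K.mul_mem hk (h.le h2)
  -- inside `K`
  have hu' : (⟨u, huK⟩ : K) ∉ H.subgroupOf K := by
    rw [Subgroup.mem_subgroupOf]; exact huH
  obtain ⟨hu1, y, hy⟩ := h.f1.not_mem_iff.mp hu'
  have hcomm' : (⟨v, hvK⟩ : K) * ⟨u, huK⟩ = ⟨u, huK⟩ * ⟨v, hvK⟩ := Subtype.ext huv
  have h1 := Cfsg.Agent.S4283.commute_mem_conj h.f1.frob hu1 hy hcomm'
  rw [mem_conj_smul_iff] at h1
  have h2 : orderOf (y⁻¹ * (⟨v, hvK⟩ : K) * y) = q := by
    have : y⁻¹ * (⟨v, hvK⟩ : K) * y = MulAut.conj y⁻¹ ⟨v, hvK⟩ := by simp [MulAut.conj_apply]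
    rw [this, MulEquiv.orderOf_eq, ← Subgroup.orderOf_coe]
    exact hov
  apply hqn
  rw [← h.card_C₁, ← h2]
  exact Subgroup.orderOf_dvd_natCard C₁ h1

/-- elements of order `p q` inside the middle section -/
theorem exists_order_of_dvd_n₁ (h : Data H K C₁ C₂) {p q : ℕ} (hp : p.Prime) (hq : q.Prime)
    (hpq : p ≠ q) (hpn : p ∣ h.n₁) (hqn : q ∣ h.n₁) : ∃ g : G, orderOf g = p * q := by
  haveI := h.isCyclic_D
  have hdvd : p * q ∣ Nat.card h.D := by
    rw [h.card_D]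
    exact Nat.Coprime.mul_dvd_of_dvd_of_dvd ((Nat.coprime_primes hp hq).mpr hpq) hpn hqn
  obtain ⟨d, hd⟩ := exists_orderOf_eq_of_isCyclic hdvd
  exact ⟨(d : G), by rw [Subgroup.orderOf_coe]; exact hd⟩

/-- elements of order `p q` from the top section -/
theorem exists_order_of_dvd_GK (h : Data H K C₁ C₂) {p q : ℕ} (hp : p.Prime) (hq : q.Prime)
    (hpq : p ≠ q) (hpn : p ∣ Nat.card (G ⧸ K)) (hqn : q ∣ Nat.card (G ⧸ K)) :
    ∃ g : G, orderOf g = p * q := by
  haveI := h.isCyclic_GK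
  have hdvd : p * q ∣ Nat.card (G ⧸ K) :=
    Nat.Coprime.mul_dvd_of_dvd_of_dvd ((Nat.coprime_primes hp hq).mpr hpq) hpn hqn
  obtain ⟨x, hx⟩ := exists_orderOf_eq_of_isCyclic hdvd
  obtain ⟨g, rfl⟩ := QuotientGroup.mk_surjective x
  obtain ⟨k, hk⟩ := exists_orderOf_eq_of_map (QuotientGroup.mk' K) g (m := p * q)
    (by rw [QuotientGroup.mk'_apply, hx])
  exact ⟨_, hk⟩

end Data

end Cfsg.Agent.Lib.Helper7.TwoFrob
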