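import Mathlib
import Cfsg.Agent.Lib.Helper7.TwoFrob3

set_option autoImplicit false
open Pointwise

/-!
# 2-Frobenius groups: fixed points of the outer complement on the centre of the kernel
-/

namespace Cfsg.Agent.Lib.Helper7.TwoFrob

open Cfsg.Agent.Lib.Lead

variable {G : Type*} [Group G]

/-- the `p`-elements of the centre of a normal subgroup -/
def centralP (H : Subgroup G) (p : ℕ) : Subgroup G where
  carrier := {z | z ∈ H ∧ (∀ x ∈ H, x * z = z * x) ∧ ∃ k : ℕ, z ^ p ^ k = 1}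
  one_mem' := ⟨H.one_mem, fun x _ => by simp, 0, by simp⟩
  mul_mem' := by
    rintro a b ⟨haH, hac, ka, hka⟩ ⟨hbH, hbc, kb, hkb⟩
    refine ⟨H.mul_mem haH hbH, ?_, ka + kb, ?_⟩
    · intro x hx
      rw [← mul_assoc, hac x hx, mul_assoc, hbc x hx, ← mul_assoc]
    · have hcomm : Commute a b := (hac b hbH).symm
      rw [hcomm.mul_pow, pow_add, pow_mul, hka, one_pow, one_mul, mul_comm (p ^ ka), pow_mul,
        hkb, one_pow]
  inv_mem' := by
    rintro a ⟨haH, hac, ka, hka⟩
    refine ⟨H.inv_mem haH, ?_, ka, by rw [inv_pow, hka, inv_one]⟩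
    intro x hx
    have := hac x hx
    calc x * a⁻¹ = a⁻¹ * (a * x) * a⁻¹ := by group
      _ = a⁻¹ * (x * a) * a⁻¹ := by rw [this]
      _ = a⁻¹ * x := by group

theorem mem_centralP {H : Subgroup G} {p : ℕ} {z : G} :
    z ∈ centralP H p ↔ z ∈ H ∧ (∀ x ∈ H, x * z = z * x) ∧ ∃ k : ℕ, z ^ p ^ k = 1 := Iff.rfl

instance centralP_normal (H : Subgroup G) [hH : H.Normal] (p : ℕ) : (centralP H p).Normal := by
  constructor
  rintro z ⟨hzH, hzc, k, hk⟩ g
  refine ⟨hH.conj_mem z hzH g, ?_, k, ?_⟩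
  · intro x hx
    have h1 := hzc (g⁻¹ * x * g) (hH.conj_mem' x hx g)
    calc x * (g * z * g⁻¹) = g * ((g⁻¹ * x * g) * z) * g⁻¹ := by group
      _ = g * (z * (g⁻¹ * x * g)) * g⁻¹ := by rw [h1]
      _ = g * z * g⁻¹ * x := by group
  · rw [conj_pow, hk]; group

theorem centralP_comm (H : Subgroup G) (p : ℕ) : IsMulCommutative (centralP H p) := by
  refine ⟨⟨fun a b => ?_⟩⟩
  apply Subtype.ext
  exact (b.2.2.1 a a.2.1)

theorem centralP_le (H : Subgroup G) (p : ℕ) : centralP H p ≤ H := fun _ hz => hz.1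

theorem centralP_ne_bot [Finite G] (H : Subgroup G) [hHnil : Group.IsNilpotent H] {p : ℕ}
    [hp : Fact p.Prime] (hpH : p ∣ Nat.card H) : centralP H p ≠ ⊥ := by
  obtain ⟨P⟩ : Nonempty (Sylow p H) := inferInstance
  have hP1 : (P : Subgroup H) ≠ ⊥ := P.ne_bot_of_dvd_card hpH
  have h1 := inf_center_ne_bot (P : Subgroup H) hP1
  obtain ⟨⟨z, hz⟩, hz1⟩ := (Subgroup.ne_bot_iff_exists_ne_one).mp h1
  obtain ⟨hzP, hzZ⟩ := Subgroup.mem_inf.mp hz
  intro hbot
  have hmem : (z : G) ∈ centralP H p := by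
    refine ⟨z.2, ?_, ?_⟩
    · intro x hx
      have := Subgroup.mem_center_iff.mp hzZ ⟨x, hx⟩
      exact congrArg Subtype.val this
    · obtain ⟨k, hk⟩ := P.isPGroup' ⟨z, hzP⟩
      refine ⟨k, ?_⟩
      have := congrArg Subtype.val hk
      have h2 := congrArg Subtype.val this
      simpa using h2
  rw [hbot, Subgroup.mem_bot] at hmem
  apply hz1
  apply Subtype.ext
  apply Subtype.ext
  exact hmem

namespace Data

variable {H K : Subgroup G} [H.Normal] [K.Normal] {C₁ : Subgroup K} {C₂ : Subgroup (G ⧸ H)}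

variable [Finite G]

/-- the action of `G ⧸ H` on the `p`-part of the centre of `H` -/
noncomputable def φ (H : Subgroup G) [H.Normal] (p : ℕ) : G ⧸ H →* MulAut (centralP H p) :=
  QuotientGroup.lift H (MulAut.conjNormal (H := centralP H p)) (by
    intro x hx
    rw [MonoidHom.mem_ker]
    ext v
    rw [MulAut.conjNormal_apply, MulAut.one_apply]
    have := v.2.2.1 x hx
    rw [this, mul_inv_cancel_right])

theorem φ_mk (p : ℕ) (g : G) (v : centralP H p) :
    ((φ H p (QuotientGroup.mk g) v : centralP H p) : G) = g * v * g⁻¹ := by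
  unfold φ
  rw [QuotientGroup.lift_mk', MulAut.conjNormal_apply]

/-- a nontrivial `p`-element of the centre of `H` fixed by the outer complement -/
theorem exists_fixed_ne_one (h : Data H K C₁ C₂) {p : ℕ} [hp : Fact p.Prime]
    (hpH : p ∣ Nat.card H) : ∃ w ∈ centralP H p, w ≠ 1 ∧
      ∀ g : G, (QuotientGroup.mk g : G ⧸ H) ∈ C₂ → g * w = w * g := by
  haveI := h.isNilpotent_H
  by_contra hcon
  push Not at hcon
  have hVne := centralP_ne_bot H hpH
  open scoped IsMulCommutative in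
  haveI := centralP_comm H p
  have key : ∀ w : centralP H p, w ^ C₂.index = 1 := by
    intro w
    refine Cfsg.Agent.S0666.frob_norm_pow' (φ H p) C₂ h.f2.frob ?_ ?_ w
    · intro v hv
      obtain ⟨d, hd, hd1⟩ : ∃ d ∈ h.D, d ≠ 1 := by
        by_contra hall
        push Not at hall
        exact h.D_ne_bot ((Subgroup.eq_bot_iff_forall h.D).mpr hall)
      have hdk : (QuotientGroup.mk d : G ⧸ H) ∈ Cfsg.frobeniusKernel C₂ := by
        rw [← h.f2.coe_eq]
        exact ⟨d, h.D_le hd, rfl⟩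
      have h1 := hv _ hdk
      have h2 : d * (v : G) * d⁻¹ = v := by
        rw [← φ_mk, h1]
      have h3 : d * (v : G) = v * d := by
        calc d * (v : G) = d * v * d⁻¹ * d := by group
          _ = v * d := by rw [h2]
      exact Subtype.ext (h.fpf_D hd hd1 v.2.1 h3)
    · intro v hv
      by_contra hv1
      have hv1' : (v : G) ≠ 1 := fun e => hv1 (Subtype.ext e)
      obtain ⟨g, hgC, hgv⟩ := hcon (v : G) v.2 hv1'
      apply hgv
      have h1 := hv _ hgC
      have h2 : g * (v : G) * g⁻¹ = v := by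
        rw [← φ_mk, h1]
      calc g * (v : G) = g * v * g⁻¹ * g := by group
        _ = v * g := by rw [h2]
  apply hVne
  rw [Subgroup.eq_bot_iff_forall]
  intro w hw
  have h1 := key ⟨w, hw⟩
  have h2 : orderOf (⟨w, hw⟩ : centralP H p) ∣ C₂.index := orderOf_dvd_of_pow_eq_one h1
  have hidx : C₂.index = h.n₁ := by
    have h3 := h.f2.card_mul
    rw [h.card_Kb, ← Subgroup.card_mul_index C₂, mul_comm] at h3
    exact (Nat.eq_of_mul_eq_mul_left Nat.card_pos h3).symm
  rw [hidx, Subgroup.orderOf_mk] at h2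
  have h3 : orderOf w ∣ Nat.card H := Subgroup.orderOf_dvd_natCard H hw.1
  have h4 := Nat.eq_one_of_dvd_coprimes h.coprime_H h2 h3
  exact orderOf_eq_one_iff.mp h4

/-- an element of order `p` in the centre of `H` fixed by the outer complement -/
theorem exists_fixed_order_p (h : Data H K C₁ C₂) {p : ℕ} [hp : Fact p.Prime]
    (hpH : p ∣ Nat.card H) : ∃ w ∈ H, orderOf w = p ∧ (∀ x ∈ H, x * w = w * x) ∧
      ∀ g : G, (QuotientGroup.mk g : G ⧸ H) ∈ C₂ → g * w = w * g := by
  obtain ⟨w₀, ⟨hwH, hwc, k, hk⟩, hw1, hwfix⟩ := h.exists_fixed_ne_one hpH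
  obtain ⟨j, hj⟩ : ∃ j, orderOf w₀ = p ^ j := by
    obtain ⟨j, _, hj⟩ := (Nat.dvd_prime_pow hp.out).mp (orderOf_dvd_of_pow_eq_one hk)
    exact ⟨j, hj⟩
  have hj0 : j ≠ 0 := by
    rintro rfl
    rw [pow_zero, orderOf_eq_one_iff] at hj
    exact hw1 hj
  obtain ⟨j', rfl⟩ := Nat.exists_eq_succ_of_ne_zero hj0
  refine ⟨w₀ ^ p ^ j', H.pow_mem hwH _, ?_, ?_, ?_⟩
  · rw [orderOf_pow_of_dvd (pow_pos hp.out.pos j').ne' (hj ▸ pow_dvd_pow p (Nat.le_succ j')), hj,
      Nat.pow_div (Nat.le_succ j') hp.out.pos]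
    simp
  · intro x hx
    exact ((Commute.pow_right (hwc x hx : Commute x w₀) _) : _)
  · intro g hg
    exact ((Commute.pow_right (hwfix g hg : Commute g w₀) _) : _)

/-- elements of order `p q` from the kernel and the top section -/
theorem exists_order_of_dvd_H (h : Data H K C₁ C₂) {p q : ℕ} (hp : p.Prime) (hq : q.Prime)
    (hpq : p ≠ q) (hpH : p ∣ Nat.card H)
    (hq' : q ∣ Nat.card H ∨ q ∣ Nat.card (G ⧸ K)) : ∃ g : G, orderOf g = p * q := by
  haveI : Fact p.Prime := ⟨hp⟩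
  haveI : Fact q.Prime := ⟨hq⟩
  obtain ⟨w, hwH, hwp, hwc, hwfix⟩ := h.exists_fixed_order_p hpH
  rcases hq' with hqH | hqGK
  · obtain ⟨y, hy⟩ := exists_prime_orderOf_dvd_card' (G := H) q hqH
    refine ⟨w * (y : G), ?_⟩
    apply orderOf_mul_of_commute_primes hp hq hpq hwp
    · rw [Subgroup.orderOf_coe]; exact hy
    · exact (hwc y y.2).symm
  · rw [← h.card_C₂] at hqGK
    obtain ⟨c, hc⟩ := exists_prime_orderOf_dvd_card' (G := C₂) q hqGK
    obtain ⟨g, hg⟩ := QuotientGroup.mk_surjective (c : G ⧸ H)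
    have hgC : (QuotientGroup.mk g : G ⧸ H) ∈ C₂ := hg ▸ c.2
    obtain ⟨k, hk⟩ := exists_orderOf_eq_of_map (QuotientGroup.mk' H) g (m := q)
      (by rw [QuotientGroup.mk'_apply, hg, Subgroup.orderOf_coe, hc])
    refine ⟨w * g ^ k, ?_⟩
    apply orderOf_mul_of_commute_primes hp hq hpq hwp hk
    exact ((Commute.pow_left (hwfix g hgC : Commute g w) k).symm : _)

/-- the prime graph of a 2-Frobenius group -/
theorem prime_graph (h : Data H K C₁ C₂) {p q : ℕ} (hp : p.Prime) (hq : q.Prime) (hpq : p ≠ q)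
    (hpG : p ∣ Nat.card G) (hqG : q ∣ Nat.card G) :
    (∃ g : G, orderOf g = p * q) ↔ (p ∣ h.n₁ ↔ q ∣ h.n₁) := by
  constructor
  · rintro ⟨g, hg⟩
    constructor
    · intro hpn
      by_contra hqn
      exact h.no_mixed hp hq hpn hqn g hg
    · intro hqn
      by_contra hpn
      exact h.no_mixed hq hp hqn hpn g (by rw [hg, mul_comm])
  · intro hiff
    by_cases hpn : p ∣ h.n₁
    · exact h.exists_order_of_dvd_n₁ hp hq hpq hpn (hiff.mp hpn)
    · have hqn : ¬ q ∣ h.n₁ := fun hq' => hpn (hiff.mpr hq')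
      have hcard := h.card_G
      have hp' : p ∣ Nat.card H ∨ p ∣ Nat.card (G ⧸ K) := by
        rw [hcard] at hpG
        rcases (Nat.Prime.dvd_mul hp).mp hpG with h1 | h1
        · exact Or.inr h1
        · rcases (Nat.Prime.dvd_mul hp).mp h1 with h2 | h2
          · exact absurd h2 hpn
          · exact Or.inl h2
      have hq' : q ∣ Nat.card H ∨ q ∣ Nat.card (G ⧸ K) := by
        rw [hcard] at hqG
        rcases (Nat.Prime.dvd_mul hq).mp hqG with h1 | h1
        · exact Or.inr h1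
        · rcases (Nat.Prime.dvd_mul hq).mp h1 with h2 | h2
          · exact absurd h2 hqn
          · exact Or.inl h2
      rcases hp' with hpH | hpGK
      · exact h.exists_order_of_dvd_H hp hq hpq hpH hq'
      · rcases hq' with hqH | hqGK
        · obtain ⟨g, hg⟩ := h.exists_order_of_dvd_H hq hp hpq.symm hqH (Or.inr hpGK)
          exact ⟨g, by rw [hg, mul_comm]⟩
        · exact h.exists_order_of_dvd_GK hp hq hpq hpGK hqGK

end Data

end Cfsg.Agent.Lib.Helper7.TwoFrob
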