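import Mathlib

/-!
# Two-transitive groups of degree `2 mod 4`, part A: abstract group lemmas

* a finite group of order `2 * odd` has a normal subgroup of index two containing all
  elements of odd order (Burnside transfer for a Sylow 2-subgroup of order two);
* the "odd kernel" of a group over a normal subgroup of index `2 * odd`;
* the fixed point lemma `fixedSet_le_pair`.
-/

namespace Cfsg.Agent.Lib.Helper7.TwoMod4

open Subgroup

theorem exists_index_two_of_card {Q : Type*} [Group Q] [Finite Q] {u : ℕ} (hu : Odd u)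
    (hQ : Nat.card Q = 2 * u) :
    ∃ K : Subgroup Q, K.Normal ∧ K.index = 2 ∧ Nat.card K = u ∧
      ∀ x : Q, ∀ j : ℕ, Odd j → x ^ j = 1 → x ∈ K := by
  classical
  haveI : Fact (Nat.Prime 2) := ⟨Nat.prime_two⟩
  obtain ⟨P⟩ : Nonempty (Sylow 2 Q) := inferInstance
  have hu0 : u ≠ 0 := by rintro rfl; exact (by decide : ¬ Odd 0) hu
  have hP : Nat.card P = 2 := by
    rw [Sylow.card_eq_multiplicity, hQ]
    have h1 : (2 * u).factorization 2 = 1 := by
      rw [Nat.factorization_mul (by norm_num) hu0]
      have h2 : u.factorization 2 = 0 := by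
        apply Nat.factorization_eq_zero_of_not_dvd
        exact hu.not_two_dvd_nat
      simp [h2, Nat.prime_two.factorization_self]
    rw [h1]; norm_num
  have hcomm : normalizer (P : Set Q) ≤ centralizer (P : Set Q) := by
    intro g hg
    rw [mem_centralizer_iff]
    intro x hx
    by_cases hx1 : x = 1
    · simp [hx1]
    · have h1 : g * x * g⁻¹ ∈ (P : Subgroup Q) := (mem_normalizer_iff.mp hg x).mp hx
      have h2 : g * x * g⁻¹ ≠ 1 := by
        intro h
        apply hx1
        have : x = g⁻¹ * (g * x * g⁻¹) * g := by group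
        rw [this, h]; group
      obtain ⟨b, hb, hbu⟩ := (Nat.card_eq_two_iff' (1 : (P : Subgroup Q))).mp hP
      have e1 : (⟨x, hx⟩ : (P : Subgroup Q)) = b :=
        hbu _ (by intro h; exact hx1 (congrArg Subtype.val h))
      have e2 : (⟨g * x * g⁻¹, h1⟩ : (P : Subgroup Q)) = b :=
        hbu _ (by intro h; exact h2 (congrArg Subtype.val h))
      have e3 : g * x * g⁻¹ = x := by
        have := e2.trans e1.symm
        exact congrArg Subtype.val this
      calc x * g = (g * x * g⁻¹) * g := by rw [e3]
        _ = g * x := by group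
  have hcomp := MonoidHom.ker_transferSylow_isComplement' P hcomm
  refine ⟨(MonoidHom.transferSylow P hcomm).ker, inferInstance, ?_, ?_, ?_⟩
  · rw [hcomp.symm.index_eq_card, hP]
  · have := hcomp.card_mul_card
    rw [hP, hQ] at this
    have h3 : Nat.card (MonoidHom.transferSylow P hcomm).ker * 2 = u * 2 := by rw [this]; ring
    exact Nat.eq_of_mul_eq_mul_right (by norm_num) h3
  · intro x j hj hxj
    rw [MonoidHom.mem_ker]
    set y := MonoidHom.transferSylow P hcomm x with hy
    have h1 : y ^ j = 1 := by rw [hy, ← map_pow, hxj, map_one]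
    have h2 : y ^ 2 = 1 := by
      have := pow_card_eq_one' (G := (P : Subgroup Q)) (x := y)
      rwa [hP] at this
    obtain ⟨i, rfl⟩ := hj
    rw [pow_succ, pow_mul, h2, one_pow, one_mul] at h1
    exact h1

theorem exists_oddKernel {X : Type*} [Group X] [Finite X] (T : Subgroup X) [T.Normal] {u : ℕ}
    (hu : Odd u) (hT : T.index = 2 * u) :
    ∃ K : Subgroup X, T ≤ K ∧ K.index = 2 ∧ ∀ x : X, x ∈ K ↔ ∃ j : ℕ, Odd j ∧ x ^ j ∈ T := by
  have hQ : Nat.card (X ⧸ T) = 2 * u := by rw [← hT, Subgroup.index_eq_card]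
  obtain ⟨K, hKn, hKi, hKc, hKodd⟩ := exists_index_two_of_card hu hQ
  refine ⟨K.comap (QuotientGroup.mk' T), ?_, ?_, ?_⟩
  · intro t ht
    rw [Subgroup.mem_comap]
    have : QuotientGroup.mk' T t = 1 := (QuotientGroup.eq_one_iff t).mpr ht
    rw [this]; exact K.one_mem
  · rw [Subgroup.index_comap_of_surjective _ (QuotientGroup.mk'_surjective T), hKi]
  · intro x
    rw [Subgroup.mem_comap]
    constructor
    · intro hx
      refine ⟨u, hu, ?_⟩
      have h1 : (⟨QuotientGroup.mk' T x, hx⟩ : K) ^ Nat.card K = 1 := pow_card_eq_one'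
      rw [hKc] at h1
      have h2 : (QuotientGroup.mk' T x) ^ u = 1 := by
        have := congrArg Subtype.val h1
        simpa using this
      rw [← map_pow] at h2
      exact (QuotientGroup.eq_one_iff _).mp h2
    · rintro ⟨j, hj, hxj⟩
      apply hKodd _ j hj
      rw [← map_pow]
      exact (QuotientGroup.eq_one_iff _).mpr hxj

end Cfsg.Agent.Lib.Helper7.TwoMod4
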