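import Mathlib
import Cfsg.Agent.Lib.Helper7.TwoMod4A

/-!
# Two-transitive groups of degree `2 mod 4`, part B: the fixed point lemma
-/

namespace Cfsg.Agent.Lib.Helper7.TwoMod4

open Subgroup

theorem mem_of_odd_pow_of_sq {G : Type*} [Group G] (T : Subgroup G) (s : G) (hs2 : s ^ 2 ∈ T)
    {j : ℕ} (hj : Odd j) (hsj : s ^ j ∈ T) : s ∈ T := by
  obtain ⟨i, rfl⟩ := hj
  have h1 : s = s ^ (2 * i + 1) * ((s ^ 2) ^ i)⁻¹ := by
    rw [← pow_mul, pow_succ]; group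
  rw [h1]
  exact T.mul_mem hsj (T.inv_mem (T.pow_mem hs2 i))

theorem fixedSet_le_pair {G : Type*} [Group G] [Finite G] {Ω : Type*} [MulAction G Ω]
    (H T : Subgroup G) (hTH : T ≤ H) (hnorm : H ≤ normalizer (T : Set G)) {u : ℕ} (hu : Odd u)
    (hidx : T.relIndex H = 2 * u) (F : Set Ω)
    (hHF : ∀ h ∈ H, ∀ c ∈ F, h • c ∈ F)
    (htrans : ∀ c ∈ F, ∀ d ∈ F, ∃ h ∈ H, h • c = d)
    (hstab : ∀ h ∈ H, ∀ c ∈ F, h • c = c → ∃ j : ℕ, Odd j ∧ h ^ j ∈ T)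
    (s : G) (hsH : s ∈ H) (hsT : s ∉ T) (hs2 : s ^ 2 ∈ T)
    (h2t : ∀ c ∈ F, ∀ d ∈ F, ∀ e ∈ F, d ≠ c → e ≠ c → ∃ y : G, y • c = c ∧ y • d = e ∧
       (∀ h ∈ H, y * h * y⁻¹ ∈ H) ∧ (∀ t ∈ T, y * t * y⁻¹ ∈ T))
    (a : Ω) (ha : a ∈ F) : ∀ c ∈ F, c = a ∨ c = s • a := by
  classical
  haveI : (T.subgroupOf H).Normal := (Subgroup.normal_subgroupOf_iff_le_normalizer hTH).mpr hnorm
  obtain ⟨K, hTK, hKi, hK⟩ := exists_oddKernel (T.subgroupOf H) hu hidx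
  -- membership in `K` in terms of `G`
  have hKmem : ∀ g : G, ∀ hg : g ∈ H, (⟨g, hg⟩ : H) ∈ K ↔ ∃ j : ℕ, Odd j ∧ g ^ j ∈ T := by
    intro g hg
    rw [hK]
    constructor
    · rintro ⟨j, hj, h⟩
      exact ⟨j, hj, by simpa [Subgroup.mem_subgroupOf] using h⟩
    · rintro ⟨j, hj, h⟩
      exact ⟨j, hj, by simpa [Subgroup.mem_subgroupOf] using h⟩
  have hsK : (⟨s, hsH⟩ : H) ∉ K := by
    intro h
    obtain ⟨j, hj, hsj⟩ := (hKmem s hsH).mp h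
    exact hsT (mem_of_odd_pow_of_sq T s hs2 hj hsj)
  -- Step 0: `s` moves every point of `F`
  have hsmove : ∀ c ∈ F, s • c ≠ c := by
    intro c hc h
    obtain ⟨j, hj, hsj⟩ := hstab s hsH c hc h
    exact hsT (mem_of_odd_pow_of_sq T s hs2 hj hsj)
  -- Step 1: no element of `K` maps `c` to `s • c`
  have step1 : ∀ c ∈ F, ∀ k : G, ∀ hk : k ∈ H, (⟨k, hk⟩ : H) ∈ K → k • c ≠ s • c := by
    intro c hc k hk hkK h
    have h1 : (s⁻¹ * k) • c = c := by rw [mul_smul, h, inv_smul_smul]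
    have h2 : s⁻¹ * k ∈ H := H.mul_mem (H.inv_mem hsH) hk
    obtain ⟨j, hj, hjT⟩ := hstab _ h2 c hc h1
    have h3 : (⟨s⁻¹ * k, h2⟩ : H) ∈ K := (hKmem _ h2).mpr ⟨j, hj, hjT⟩
    have h4 : (⟨s⁻¹ * k, h2⟩ : H) = (⟨s, hsH⟩ : H)⁻¹ * ⟨k, hk⟩ := rfl
    rw [h4] at h3
    have h5 : (⟨s, hsH⟩ : H)⁻¹ ∈ K := by
      have := K.mul_mem h3 (K.inv_mem hkK)
      simpa using this
    exact hsK (by simpa using K.inv_mem h5)
  -- Step 2: `K` fixes `F` pointwise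
  have step2 : ∀ c ∈ F, ∀ k : G, ∀ hk : k ∈ H, (⟨k, hk⟩ : H) ∈ K → k • c = c := by
    intro c hc k hk hkK
    by_contra hne
    have hd : k • c ∈ F := hHF k hk c hc
    have he : s • c ∈ F := hHF s hsH c hc
    obtain ⟨y, hyc, hyd, hyH, hyT⟩ := h2t c hc (k • c) hd (s • c) he hne (hsmove c hc)
    have hk' : y * k * y⁻¹ ∈ H := hyH k hk
    obtain ⟨j, hj, hjT⟩ := (hKmem k hk).mp hkK
    have hk'K : (⟨y * k * y⁻¹, hk'⟩ : H) ∈ K := by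
      rw [hKmem]
      refine ⟨j, hj, ?_⟩
      rw [conj_pow]
      exact hyT _ hjT
    apply step1 c hc _ hk' hk'K
    have hyinv : y⁻¹ • c = c := by rw [inv_smul_eq_iff, hyc]
    rw [mul_smul, mul_smul, hyinv, hyd]
  -- Step 3
  intro c hc
  obtain ⟨h, hhH, hhc⟩ := htrans a ha c hc
  by_cases hhK : (⟨h, hhH⟩ : H) ∈ K
  · left
    rw [← hhc]
    exact step2 a ha h hhH hhK
  · right
    have h2 : s⁻¹ * h ∈ H := H.mul_mem (H.inv_mem hsH) hhH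
    have h3 : (⟨s⁻¹ * h, h2⟩ : H) ∈ K := by
      have h4 : (⟨s⁻¹ * h, h2⟩ : H) = (⟨s, hsH⟩ : H)⁻¹ * ⟨h, hhH⟩ := rfl
      rw [h4, Subgroup.mul_mem_iff_of_index_two hKi]
      constructor
      · intro hh; exact absurd (by simpa using K.inv_mem hh) hsK
      · intro hh; exact absurd hh hhK
    have h5 := step2 a ha _ h2 h3
    rw [mul_smul, inv_smul_eq_iff] at h5
    rw [← hhc, h5]

end Cfsg.Agent.Lib.Helper7.TwoMod4
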