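import Mathlib
import Cfsg.Agent.Lib.Helper7.TwoMod4B

/-!
# Two-transitive groups of degree `2 mod 4`, part C: Sylow helper lemmas inside subgroups
-/

namespace Cfsg.Agent.Lib.Helper7.TwoMod4

open Subgroup

theorem factorization_pow_mul' {p : ℕ} (hp : p.Prime) (k m : ℕ) (hm : ¬ p ∣ m) :
    (p ^ k * m).factorization p = k := by
  have hm0 : m ≠ 0 := by rintro rfl; exact hm (dvd_zero _)
  rw [Nat.factorization_mul (pow_ne_zero _ hp.ne_zero) hm0, Nat.Prime.factorization_pow hp]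
  simp [Nat.factorization_eq_zero_of_not_dvd hm]

theorem card_subgroupOf_le {G : Type*} [Group G] {P L : Subgroup G} (h : P ≤ L) :
    Nat.card (P.subgroupOf L) = Nat.card P :=
  Nat.card_congr (Subgroup.subgroupOfEquivOfLe h).toEquiv

/-- conjugacy of subgroups of Sylow order inside a subgroup `L` -/
theorem exists_conj_of_card {G : Type*} [Group G] [Finite G] {p : ℕ} [hp : Fact p.Prime]
    (L P P' : Subgroup G) (hP : P ≤ L) (hP' : P' ≤ L) {k v : ℕ} (hL : Nat.card L = p ^ k * v)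
    (hv : ¬ p ∣ v) (hcP : Nat.card P = p ^ k) (hcP' : Nat.card P' = p ^ k) :
    ∃ z ∈ L, ∀ x : G, x ∈ P' → z⁻¹ * x * z ∈ P := by
  have hfac : (Nat.card L).factorization p = k := by
    rw [hL]; exact factorization_pow_mul' hp.out k v hv
  let S₁ : Sylow p L := Sylow.ofCard (P.subgroupOf L) (by rw [card_subgroupOf_le hP, hfac, hcP])
  let S₂ : Sylow p L := Sylow.ofCard (P'.subgroupOf L) (by rw [card_subgroupOf_le hP', hfac, hcP'])
  obtain ⟨g, hg⟩ := MulAction.exists_smul_eq L S₁ S₂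
  refine ⟨g.1, g.2, ?_⟩
  intro x hx
  have hxL : x ∈ L := hP' hx
  have h1 : (⟨x, hxL⟩ : L) ∈ (S₂ : Subgroup L) := by
    show (⟨x, hxL⟩ : L) ∈ P'.subgroupOf L
    rw [Subgroup.mem_subgroupOf]; exact hx
  rw [← hg, Sylow.coe_subgroup_smul, Subgroup.mem_pointwise_smul_iff_inv_smul_mem,
    MulAut.smul_def, MulAut.conj_inv_apply] at h1
  have h2 : g⁻¹ * (⟨x, hxL⟩ : L) * g ∈ P.subgroupOf L := h1
  rw [Subgroup.mem_subgroupOf] at h2
  simpa using h2

theorem exists_subgroup_le_card {G : Type*} [Group G] [Finite G] {p : ℕ} [Fact p.Prime]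
    (L : Subgroup G) {k : ℕ} (h : p ^ k ∣ Nat.card L) :
    ∃ T : Subgroup G, T ≤ L ∧ Nat.card T = p ^ k := by
  obtain ⟨K, hK⟩ := Sylow.exists_subgroup_card_pow_prime p h
  refine ⟨K.map L.subtype, Subgroup.map_subtype_le _, ?_⟩
  rw [Subgroup.card_map_of_injective L.subtype_injective, hK]

theorem exists_supergroup_card {G : Type*} [Group G] [Finite G] {p : ℕ} [Fact p.Prime]
    (L T : Subgroup G) (hTL : T ≤ L) {k : ℕ} (hT : Nat.card T = p ^ k)
    (h : p ^ (k + 1) ∣ Nat.card L) :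
    ∃ S : Subgroup G, T ≤ S ∧ S ≤ L ∧ Nat.card S = p ^ (k + 1) := by
  obtain ⟨K, hK, hle⟩ := Sylow.exists_subgroup_card_pow_succ h (H := T.subgroupOf L)
    (by rw [card_subgroupOf_le hTL, hT])
  refine ⟨K.map L.subtype, ?_, Subgroup.map_subtype_le _, ?_⟩
  · intro t ht
    rw [Subgroup.mem_map]
    refine ⟨⟨t, hTL ht⟩, hle ?_, rfl⟩
    rw [Subgroup.mem_subgroupOf]; exact ht
  · rw [Subgroup.card_map_of_injective L.subtype_injective, hK]

theorem index_two_facts {G : Type*} [Group G] [Finite G] (S T : Subgroup G) (hTS : T ≤ S)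
    (h : Nat.card S = 2 * Nat.card T) :
    (∀ x ∈ S, ∀ t ∈ T, x * t * x⁻¹ ∈ T) ∧ (∀ x ∈ S, x ^ 2 ∈ T) ∧ ∃ s ∈ S, s ∉ T := by
  have hidx : (T.subgroupOf S).index = 2 := by
    have h1 := Subgroup.card_mul_index (T.subgroupOf S)
    rw [card_subgroupOf_le hTS, h] at h1
    have hpos : 0 < Nat.card T := Nat.card_pos
    have : Nat.card T * (T.subgroupOf S).index = Nat.card T * 2 := by rw [h1]; ring
    exact Nat.eq_of_mul_eq_mul_left hpos this
  have hn : (T.subgroupOf S).Normal := Subgroup.normal_of_index_eq_two hidx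
  refine ⟨?_, ?_, ?_⟩
  · intro x hx t ht
    have h1 : (⟨t, hTS ht⟩ : S) ∈ T.subgroupOf S := by rw [Subgroup.mem_subgroupOf]; exact ht
    have h2 := hn.conj_mem _ h1 ⟨x, hx⟩
    rw [Subgroup.mem_subgroupOf] at h2
    simpa using h2
  · intro x hx
    have h2 := Subgroup.sq_mem_of_index_two hidx (⟨x, hx⟩ : S)
    rw [Subgroup.mem_subgroupOf] at h2
    simpa using h2
  · by_contra hcon
    push Not at hcon
    have hle : S ≤ T := fun s hs => hcon s hs
    have heq : S = T := le_antisymm hle hTS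
    rw [heq] at h
    have hpos : 0 < Nat.card T := Nat.card_pos
    omega

/-- `h ^ (relIndex) ∈ T` for `T` normalized by `L`. -/
theorem pow_relIndex_mem {G : Type*} [Group G] [Finite G] (T L : Subgroup G) (hTL : T ≤ L)
    (hnorm : L ≤ normalizer (T : Set G)) {h : G} (hh : h ∈ L) : h ^ (T.relIndex L) ∈ T := by
  haveI : (T.subgroupOf L).Normal := (Subgroup.normal_subgroupOf_iff_le_normalizer hTL).mpr hnorm
  have h1 := Subgroup.pow_index_mem (T.subgroupOf L) (⟨h, hh⟩ : L)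
  rw [Subgroup.mem_subgroupOf] at h1
  have h2 : T.relIndex L = (T.subgroupOf L).index := rfl
  rw [h2]
  simpa using h1

theorem card_eq_card_mul_relIndex {G : Type*} [Group G] (T L : Subgroup G) (hTL : T ≤ L) :
    Nat.card L = Nat.card T * T.relIndex L := by
  have h1 := Subgroup.card_mul_index (T.subgroupOf L)
  rw [card_subgroupOf_le hTL] at h1
  exact h1.symm

end Cfsg.Agent.Lib.Helper7.TwoMod4
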