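import Mathlib
import Cfsg.Agent.Lib.Helper7.TwoMod4C

/-!
# Two-transitive groups of degree `2 mod 4`, part D: normal subgroups are 2-transitive
-/

namespace Cfsg.Agent.Lib.Helper7.TwoMod4

open Subgroup MulAction

variable {G : Type*} [Group G] [Finite G] {Ω : Type*} [Fintype Ω] [MulAction G Ω]

theorem normal_trans [FaithfulSMul G Ω]
    (h2 : ∀ a b c d : Ω, a ≠ b → c ≠ d → ∃ g : G, g • a = c ∧ g • b = d)
    (N : Subgroup G) [hNn : N.Normal] (hN : N ≠ ⊥) :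
    ∀ a c : Ω, ∃ x ∈ N, x • a = c := by
  obtain ⟨⟨x, hxN⟩, hx1⟩ := Subgroup.ne_bot_iff_exists_ne_one.mp hN
  have hx1' : x ≠ 1 := fun h => hx1 (Subtype.ext h)
  have hmove : ∃ a₀ : Ω, x • a₀ ≠ a₀ := by
    by_contra hcon
    push Not at hcon
    apply hx1'
    exact FaithfulSMul.eq_of_smul_eq_smul (α := Ω) (fun a => by rw [hcon a, one_smul])
  obtain ⟨a₀, ha₀⟩ := hmove
  have key : ∀ c : Ω, ∃ y ∈ N, y • a₀ = c := by
    intro c
    by_cases hc : c = a₀
    · exact ⟨1, N.one_mem, by rw [one_smul, hc]⟩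
    · obtain ⟨g, hga, hgb⟩ := h2 a₀ (x • a₀) a₀ c (Ne.symm ha₀) (Ne.symm hc)
      refine ⟨g * x * g⁻¹, hNn.conj_mem _ hxN g, ?_⟩
      have : g⁻¹ • a₀ = a₀ := by rw [inv_smul_eq_iff, hga]
      rw [mul_smul, mul_smul, this, hgb]
  intro a c
  obtain ⟨y, hy, hya⟩ := key a
  obtain ⟨z, hz, hzc⟩ := key c
  exact ⟨z * y⁻¹, N.mul_mem hz (N.inv_mem hy), by rw [mul_smul, ← hya, inv_smul_smul, hzc]⟩

theorem card_eq_card_mul_stab (N : Subgroup G) (htr : ∀ a c : Ω, ∃ x ∈ N, x • a = c) (a : Ω) :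
    Nat.card N = Fintype.card Ω * Nat.card (N ⊓ stabilizer G a : Subgroup G) := by
  haveI : IsPretransitive N Ω :=
    ⟨fun a c => by obtain ⟨x, hx, h⟩ := htr a c; exact ⟨⟨x, hx⟩, h⟩⟩
  have h1 : (stabilizer N a).index = Nat.card Ω := index_stabilizer_of_transitive N a
  have h2 := Subgroup.card_mul_index (stabilizer N a)
  have h3 : Nat.card (stabilizer N a) = Nat.card (N ⊓ stabilizer G a : Subgroup G) :=
    Nat.card_congr ⟨fun x => ⟨x.1.1, x.1.2, x.2⟩, fun y => ⟨⟨y.1, y.2.1⟩, y.2.2⟩,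
      fun _ => rfl, fun _ => rfl⟩
  rw [h1, h3, Nat.card_eq_fintype_card (α := Ω)] at h2
  rw [← h2, mul_comm]

theorem mem_normalizer_of_conj_mem (T : Subgroup G) (y : G) (h : ∀ t ∈ T, y * t * y⁻¹ ∈ T) :
    y ∈ normalizer (T : Set G) := by
  have hle : T.map (MulAut.conj y).toMonoidHom ≤ T := by
    rintro _ ⟨t, ht, rfl⟩
    exact h t ht
  have hcard : Nat.card (T.map (MulAut.conj y).toMonoidHom) = Nat.card T :=
    Subgroup.card_map_of_injective (MulAut.conj y).injective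
  have heq : T.map (MulAut.conj y).toMonoidHom = T :=
    Subgroup.eq_of_le_of_card_ge hle hcard.ge
  rw [mem_normalizer_iff]
  intro t
  constructor
  · exact h t
  · intro ht
    rw [← heq] at ht
    obtain ⟨t', ht', he⟩ := ht
    have : t' = t := (MulAut.conj y).injective he
    rw [← this]; exact ht'

/-- conjugate of a subgroup, basic facts -/
theorem conj_subgroup_facts (T : Subgroup G) (g : G) :
    Nat.card (T.map (MulAut.conj g).toMonoidHom) = Nat.card T ∧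
    (∀ t ∈ T, g * t * g⁻¹ ∈ T.map (MulAut.conj g).toMonoidHom) ∧
    (∀ y ∈ T.map (MulAut.conj g).toMonoidHom, ∃ t ∈ T, y = g * t * g⁻¹) := by
  refine ⟨Subgroup.card_map_of_injective (MulAut.conj g).injective, ?_, ?_⟩
  · intro t ht
    exact ⟨t, ht, rfl⟩
  · rintro _ ⟨t, ht, rfl⟩
    exact ⟨t, ht, rfl⟩

end Cfsg.Agent.Lib.Helper7.TwoMod4
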