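import Mathlib
import Cfsg.Agent.Lib.Helper7.TwoMod4D

/-!
# Two-transitive groups of degree `2 mod 4`, part E: point stabilizers of normal subgroups
are transitive on the remaining points
-/

namespace Cfsg.Agent.Lib.Helper7.TwoMod4

open Subgroup MulAction

variable {G : Type*} [Group G] [Finite G] {Ω : Type*} [Fintype Ω] [MulAction G Ω]

set_option maxHeartbeats 1600000 in
theorem stab_trans_of_normal [FaithfulSMul G Ω]
    (h2 : ∀ a b c d : Ω, a ≠ b → c ≠ d → ∃ g : G, g • a = c ∧ g • b = d)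
    (hn : Fintype.card Ω % 4 = 2)
    (N : Subgroup G) [hNn : N.Normal] (hN : N ≠ ⊥) (a : Ω) :
    ∀ b b' : Ω, b ≠ a → b' ≠ a → ∃ x ∈ N, x • a = a ∧ x • b = b' := by
  classical
  haveI : Fact (Nat.Prime 2) := ⟨Nat.prime_two⟩
  have htr := normal_trans h2 N hN
  have hcard := card_eq_card_mul_stab N htr
  obtain ⟨u, hnu, hu⟩ : ∃ u, Fintype.card Ω = 2 * u ∧ Odd u :=
    ⟨Fintype.card Ω / 2, by omega, ⟨Fintype.card Ω / 4, by omega⟩⟩
  -- A = N_a
  set A : Subgroup G := N ⊓ stabilizer G a with hA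
  set k := (Nat.card A).factorization 2 with hk
  set v := Nat.card A / 2 ^ k with hv
  have hAkv : Nat.card A = 2 ^ k * v := (Nat.ordProj_mul_ordCompl_eq_self _ 2).symm
  have hvodd : ¬ 2 ∣ v := Nat.not_dvd_ordCompl Nat.prime_two Nat.card_pos.ne'
  have hvOdd : Odd v := Nat.odd_iff.mpr (by omega)
  have hstabcard : ∀ c : Ω, Nat.card (N ⊓ stabilizer G c : Subgroup G) = 2 ^ k * v := by
    intro c
    have h1 := hcard a
    have h2' := hcard c
    rw [h1] at h2'
    have hnpos : 0 < Fintype.card Ω := by omega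
    have := Nat.eq_of_mul_eq_mul_left hnpos h2'
    rw [← this, ← hAkv]
  have hNcard : Nat.card N = 2 ^ (k + 1) * (u * v) := by
    rw [hcard a, ← hA, hAkv, hnu]; ring
  obtain ⟨T, hTA, hcT⟩ := exists_subgroup_le_card (p := 2) A (k := k)
    (by rw [hAkv]; exact dvd_mul_right _ _)
  have hTN : T ≤ N := hTA.trans inf_le_left
  obtain ⟨S, hTS, hSN, hcS⟩ := exists_supergroup_card (p := 2) N T hTN hcT
    (by rw [hNcard]; exact dvd_mul_right _ _)
  obtain ⟨hSnorm, hSsq, s, hsS, hsT⟩ := index_two_facts S T hTS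
    (by rw [hcS, hcT, pow_succ]; ring)
  set F : Set Ω := {c | ∀ t ∈ T, t • c = c} with hF
  have haF : a ∈ F := fun t ht => (hTA ht).2
  set H : Subgroup G := N ⊓ normalizer (T : Set G) with hH
  have hTH : T ≤ H := le_inf hTN le_normalizer
  have hHnorm : H ≤ normalizer (T : Set G) := inf_le_right
  have hSH : S ≤ H := by
    intro x hx
    exact ⟨hSN hx, mem_normalizer_of_conj_mem T x (hSnorm x hx)⟩
  have hodd_uv : Odd (u * v) := hu.mul hvOdd
  obtain ⟨w, hw⟩ : 2 ^ (k + 1) ∣ Nat.card H := hcS ▸ Subgroup.card_dvd_of_le hSH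
  have hwodd : Odd w := by
    have h1 : Nat.card H ∣ Nat.card N := Subgroup.card_dvd_of_le inf_le_left
    rw [hw, hNcard] at h1
    have h3 : w ∣ u * v := Nat.dvd_of_mul_dvd_mul_left (by positivity) h1
    exact Odd.of_dvd_nat hodd_uv h3
  have hidx : T.relIndex H = 2 * w := by
    have h1 := card_eq_card_mul_relIndex T H hTH
    rw [hw, hcT, pow_succ] at h1
    have : 2 ^ k * (2 * w) = 2 ^ k * T.relIndex H := by rw [← h1]; ring
    exact (Nat.eq_of_mul_eq_mul_left (by positivity) this).symm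
  have hHF : ∀ h ∈ H, ∀ c ∈ F, h • c ∈ F := by
    intro h hh c hc t ht
    have h1 : h⁻¹ * t * h ∈ T := by
      have := (mem_normalizer_iff.mp (H.inv_mem hh).2) t
      simpa using this.mp ht
    have h2 := hc _ h1
    calc t • h • c = h • (h⁻¹ * t * h) • c := by simp [mul_smul]
      _ = h • c := by rw [h2]
  have htrans : ∀ c ∈ F, ∀ d ∈ F, ∃ h ∈ H, h • c = d := by
    intro c hc d hd
    obtain ⟨x, hxN, hxc⟩ := htr c d
    obtain ⟨hc1, hc2, hc3⟩ := conj_subgroup_facts T x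
    have hP'le : T.map (MulAut.conj x).toMonoidHom ≤ N ⊓ stabilizer G d := by
      intro y hy
      obtain ⟨t, ht, rfl⟩ := hc3 y hy
      refine ⟨N.mul_mem (N.mul_mem hxN (hTN ht)) (N.inv_mem hxN), ?_⟩
      refine mem_stabilizer_iff.mpr ?_
      rw [mul_smul, mul_smul, ← hxc, inv_smul_smul, hc t ht]
    have hTle : T ≤ N ⊓ stabilizer G d := fun t ht => ⟨hTN ht, hd t ht⟩
    obtain ⟨z, hz, hzP⟩ := exists_conj_of_card (p := 2) (N ⊓ stabilizer G d) T
      (T.map (MulAut.conj x).toMonoidHom) hTle hP'le (hstabcard d) hvodd hcT (hc1.trans hcT)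
    refine ⟨z⁻¹ * x, ⟨N.mul_mem (N.inv_mem hz.1) hxN, mem_normalizer_of_conj_mem T _ ?_⟩, ?_⟩
    · intro t ht
      have := hzP _ (hc2 t ht)
      convert this using 1; group
    · rw [mul_smul, hxc, inv_smul_eq_iff]; exact (hz.2).symm
  have hstab : ∀ h ∈ H, ∀ c ∈ F, h • c = c → ∃ j : ℕ, Odd j ∧ h ^ j ∈ T := by
    intro h hh c hc hhc
    have hTL : T ≤ H ⊓ stabilizer G c := fun t ht => ⟨hTH ht, hc t ht⟩
    have hLnorm : H ⊓ stabilizer G c ≤ normalizer (T : Set G) := inf_le_left.trans hHnorm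
    refine ⟨T.relIndex (H ⊓ stabilizer G c), ?_, pow_relIndex_mem T _ hTL hLnorm ⟨hh, hhc⟩⟩
    have h1 := card_eq_card_mul_relIndex T (H ⊓ stabilizer G c) hTL
    have h2 : Nat.card (H ⊓ stabilizer G c : Subgroup G) ∣ 2 ^ k * v := by
      rw [← hstabcard c]
      apply Subgroup.card_dvd_of_le
      intro x hx; exact ⟨hx.1.1, hx.2⟩
    rw [h1, hcT] at h2
    have h3 : T.relIndex (H ⊓ stabilizer G c) ∣ v :=
      Nat.dvd_of_mul_dvd_mul_left (by positivity) h2
    exact Odd.of_dvd_nat hvOdd h3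
  have h2t : ∀ c ∈ F, ∀ d ∈ F, ∀ e ∈ F, d ≠ c → e ≠ c → ∃ y : G, y • c = c ∧ y • d = e ∧
       (∀ h ∈ H, y * h * y⁻¹ ∈ H) ∧ (∀ t ∈ T, y * t * y⁻¹ ∈ T) := by
    intro c hc d hd e he hdc hec
    obtain ⟨g, hgc, hgd⟩ := h2 c d c e (Ne.symm hdc) (Ne.symm hec)
    obtain ⟨hc1, hc2, hc3⟩ := conj_subgroup_facts T g
    have hP'le : T.map (MulAut.conj g).toMonoidHom ≤ (N ⊓ stabilizer G c) ⊓ stabilizer G e := by
      intro y hy
      obtain ⟨t, ht, rfl⟩ := hc3 y hy
      refine ⟨⟨hNn.conj_mem _ (hTN ht) g, ?_⟩, ?_⟩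
      · refine mem_stabilizer_iff.mpr ?_
        rw [mul_smul, mul_smul]
        have : g⁻¹ • c = c := by rw [inv_smul_eq_iff, hgc]
        rw [this, hc t ht, hgc]
      · refine mem_stabilizer_iff.mpr ?_
        rw [mul_smul, mul_smul, ← hgd, inv_smul_smul, hd t ht]
    have hTle : T ≤ (N ⊓ stabilizer G c) ⊓ stabilizer G e :=
      fun t ht => ⟨⟨hTN ht, hc t ht⟩, he t ht⟩
    obtain ⟨v', hv'⟩ : 2 ^ k ∣ Nat.card ((N ⊓ stabilizer G c) ⊓ stabilizer G e : Subgroup G) :=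
      hcT ▸ Subgroup.card_dvd_of_le hTle
    have hv'odd : ¬ 2 ∣ v' := by
      have h1 : Nat.card ((N ⊓ stabilizer G c) ⊓ stabilizer G e : Subgroup G) ∣ 2 ^ k * v := by
        rw [← hstabcard c]; exact Subgroup.card_dvd_of_le inf_le_left
      rw [hv'] at h1
      have h3 : v' ∣ v := Nat.dvd_of_mul_dvd_mul_left (by positivity) h1
      intro h; exact hvodd (h.trans h3)
    obtain ⟨z, hz, hzP⟩ := exists_conj_of_card (p := 2) _ T
      (T.map (MulAut.conj g).toMonoidHom) hTle hP'le hv' hv'odd hcT (hc1.trans hcT)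
    have hyT : ∀ t ∈ T, (z⁻¹ * g) * t * (z⁻¹ * g)⁻¹ ∈ T := by
      intro t ht
      have := hzP _ (hc2 t ht)
      convert this using 1; group
    have hynorm : z⁻¹ * g ∈ normalizer (T : Set G) := mem_normalizer_of_conj_mem T _ hyT
    refine ⟨z⁻¹ * g, ?_, ?_, ?_, hyT⟩
    · rw [mul_smul, hgc, inv_smul_eq_iff]; exact hz.1.2.symm
    · rw [mul_smul, hgd, inv_smul_eq_iff]; exact hz.2.symm
    · intro h hh
      refine ⟨hNn.conj_mem _ hh.1 _, ?_⟩
      exact (normalizer (T : Set G)).mul_mem ((normalizer (T : Set G)).mul_mem hynorm hh.2)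
        ((normalizer (T : Set G)).inv_mem hynorm)
  have hsH : s ∈ H := hSH hsS
  have hmain := fixedSet_le_pair H T hTH hHnorm hwodd hidx F hHF htrans hstab s hsH hsT
    (hSsq s hsS) h2t a haF
  have hsa : s • a ≠ a := by
    intro h
    obtain ⟨j, hj, hjT⟩ := hstab s hsH a haF h
    exact hsT (mem_of_odd_pow_of_sq T s (hSsq s hsS) hj hjT)
  have hsaF : s • a ∈ F := hHF s hsH a haF
  have hreach : ∀ b : Ω, b ≠ a → ∃ x ∈ A, x • (s • a) = b := by
    intro b hb
    obtain ⟨g, hga, hgb⟩ := h2 a (s • a) a b (Ne.symm hsa) (Ne.symm hb)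
    obtain ⟨hc1, hc2, hc3⟩ := conj_subgroup_facts T g
    have hTbA : T.map (MulAut.conj g).toMonoidHom ≤ A := by
      intro y hy
      obtain ⟨t, ht, rfl⟩ := hc3 y hy
      refine ⟨hNn.conj_mem _ (hTN ht) g, ?_⟩
      refine mem_stabilizer_iff.mpr ?_
      rw [mul_smul, mul_smul]
      have : g⁻¹ • a = a := by rw [inv_smul_eq_iff, hga]
      rw [this, haF t ht, hga]
    have hTbfix : ∀ y ∈ T.map (MulAut.conj g).toMonoidHom, y • b = b := by
      intro y hy
      obtain ⟨t, ht, rfl⟩ := hc3 y hy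
      rw [mul_smul, mul_smul, ← hgb, inv_smul_smul, hsaF t ht]
    obtain ⟨z, hz, hzP⟩ := exists_conj_of_card (p := 2) A (T.map (MulAut.conj g).toMonoidHom) T
      hTbA hTA hAkv hvodd (hc1.trans hcT) hcT
    have hzbF : z • b ∈ F := by
      intro t ht
      have h1 := hTbfix _ (hzP t ht)
      rw [mul_smul, mul_smul, inv_smul_eq_iff] at h1
      exact h1
    rcases hmain _ hzbF with h | h
    · exfalso
      apply hb
      have : b = z⁻¹ • a := by rw [← h, inv_smul_smul]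
      rw [this, inv_smul_eq_iff]; exact hz.2.symm
    · refine ⟨z⁻¹, A.inv_mem hz, ?_⟩
      rw [← h, inv_smul_smul]
  intro b b' hb hb'
  obtain ⟨x, hx, hxb⟩ := hreach b hb
  obtain ⟨x', hx', hxb'⟩ := hreach b' hb'
  refine ⟨x' * x⁻¹, N.mul_mem hx'.1 (N.inv_mem hx.1), ?_, ?_⟩
  · rw [mul_smul]
    have : x⁻¹ • a = a := by rw [inv_smul_eq_iff]; exact hx.2.symm
    rw [this]; exact hx'.2
  · rw [mul_smul, ← hxb, inv_smul_smul, hxb']

end Cfsg.Agent.Lib.Helper7.TwoMod4
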