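import Mathlib
import Cfsg.Agent.Lib.Helper7.TwoMod4E

/-!
# Two-transitive groups of degree `2 mod 4`, part F: the unique minimal normal subgroup
-/

namespace Cfsg.Agent.Lib.Helper7.TwoMod4

open Subgroup MulAction

variable {G : Type*} [Group G] [Finite G] {Ω : Type*} [Fintype Ω] [MulAction G Ω]

theorem normal_twoTrans [FaithfulSMul G Ω]
    (h2 : ∀ a b c d : Ω, a ≠ b → c ≠ d → ∃ g : G, g • a = c ∧ g • b = d)
    (hn : Fintype.card Ω % 4 = 2)
    (N : Subgroup G) [hNn : N.Normal] (hN : N ≠ ⊥) :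
    ∀ a b c d : Ω, a ≠ b → c ≠ d → ∃ g ∈ N, g • a = c ∧ g • b = d := by
  intro a b c d hab hcd
  obtain ⟨x, hxN, hxa⟩ := normal_trans h2 N hN a c
  have hxb : x • b ≠ c := by
    intro h
    rw [← hxa] at h
    exact hab (smul_left_cancel x h).symm
  obtain ⟨y, hyN, hyc, hyd⟩ := stab_trans_of_normal h2 hn N hN c (x • b) d hxb (Ne.symm hcd)
  exact ⟨y * x, N.mul_mem hyN hxN, by rw [mul_smul, hxa, hyc], by rw [mul_smul, hyd]⟩

theorem centralizer_eq_bot' [FaithfulSMul G Ω]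
    (h2 : ∀ a b c d : Ω, a ≠ b → c ≠ d → ∃ g : G, g • a = c ∧ g • b = d)
    (hn : Fintype.card Ω % 4 = 2) (hn2 : 2 < Fintype.card Ω)
    (N : Subgroup G) [hNn : N.Normal] (hN : N ≠ ⊥) :
    centralizer (N : Set G) = ⊥ := by
  by_contra hC
  obtain ⟨a, b, b', hab, hab', hbb'⟩ := Fintype.two_lt_card_iff.mp hn2
  haveI : (centralizer (N : Set G)).Normal := inferInstance
  have hCtr := normal_trans h2 (centralizer (N : Set G)) hC
  obtain ⟨x, hxN, hxa, hxb⟩ := stab_trans_of_normal h2 hn N hN a b b' (Ne.symm hab) (Ne.symm hab')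
  have hx1 : x = 1 := by
    apply FaithfulSMul.eq_of_smul_eq_smul (α := Ω)
    intro c
    obtain ⟨y, hy, hyc⟩ := hCtr a c
    have hcomm : x * y = y * x := (mem_centralizer_iff.mp hy x hxN)
    rw [one_smul, ← hyc, ← mul_smul, hcomm, mul_smul, hxa]
  rw [hx1, one_smul] at hxb
  exact hbb' hxb

theorem exists_min_normal [FaithfulSMul G Ω]
    (h2 : ∀ a b c d : Ω, a ≠ b → c ≠ d → ∃ g : G, g • a = c ∧ g • b = d)
    (hn : Fintype.card Ω % 4 = 2) (hn2 : 2 < Fintype.card Ω) :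
    ∃ M : Subgroup G, M.Normal ∧ M ≠ ⊥ ∧ (∀ N : Subgroup G, N.Normal → N ≠ ⊥ → M ≤ N) := by
  classical
  obtain ⟨a, b, b', hab, hab', hbb'⟩ := Fintype.two_lt_card_iff.mp hn2
  have htop : (⊤ : Subgroup G) ≠ ⊥ := by
    obtain ⟨g, hga, -⟩ := h2 a b b a hab (Ne.symm hab)
    intro h
    have hg : g ∈ (⊥ : Subgroup G) := h ▸ Subgroup.mem_top g
    rw [Subgroup.mem_bot] at hg
    rw [hg, one_smul] at hga
    exact hab hga
  let s : Set (Subgroup G) := {N | N.Normal ∧ N ≠ ⊥}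
  have hne : s.Nonempty := ⟨⊤, inferInstance, htop⟩
  obtain ⟨M, hMs, hMmin⟩ :=
    (InvImage.wf (fun N : Subgroup G => Nat.card N) Nat.lt_wfRel.wf).has_min s hne
  obtain ⟨hMn, hMne⟩ := hMs
  refine ⟨M, hMn, hMne, ?_⟩
  intro N hNn hNne
  haveI := hMn
  haveI := hNn
  have hcent := centralizer_eq_bot' h2 hn hn2 M hMne
  have hinf : M ⊓ N ≠ ⊥ := by
    intro hbot
    apply hNne
    rw [eq_bot_iff]
    intro x hx
    have : x ∈ centralizer (M : Set G) := by
      rw [mem_centralizer_iff]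
      intro m hm
      have h1 : m * x * m⁻¹ * x⁻¹ ∈ M ⊓ N := by
        constructor
        · have : x * m⁻¹ * x⁻¹ ∈ M := hMn.conj_mem _ (M.inv_mem hm) x
          have h3 := M.mul_mem hm this
          have h4 : m * x * m⁻¹ * x⁻¹ = m * (x * m⁻¹ * x⁻¹) := by group
          rw [h4]; exact h3
        · exact N.mul_mem (hNn.conj_mem _ hx m) (N.inv_mem hx)
      rw [hbot, Subgroup.mem_bot] at h1
      have : m * x = x * m := by
        have := congrArg (fun z => z * x * m) h1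
        simpa [mul_assoc] using this
      exact this
    rw [hcent] at this
    exact this
  have hinfn : (M ⊓ N).Normal := inferInstance
  have hmin := hMmin (M ⊓ N) ⟨hinfn, hinf⟩
  have hle : Nat.card M ≤ Nat.card (M ⊓ N : Subgroup G) := by
    by_contra h
    push Not at h
    exact hmin h
  have heq : M ⊓ N = M := Subgroup.eq_of_le_of_card_ge inf_le_left hle
  rw [← heq]
  exact inf_le_right

end Cfsg.Agent.Lib.Helper7.TwoMod4
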