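import Mathlib
import Cfsg.Agent.Lib.Helper7.TwoMod4F

/-!
# Two-transitive groups of degree `2 mod 4`, part G: main theorem
-/

namespace Cfsg.Agent.Lib.Helper7.TwoMod4

open Subgroup MulAction

theorem main {G : Type*} [Group G] [Finite G] {Ω : Type*} [Fintype Ω] [MulAction G Ω]
    [FaithfulSMul G Ω]
    (h2 : MulAction.IsMultiplyPretransitive G Ω 2) (hn : Fintype.card Ω % 4 = 2)
    (hn2 : 2 < Fintype.card Ω) :
    ∃ M : Subgroup G, M.Normal ∧ M ≠ ⊥ ∧ (∀ N : Subgroup G, N.Normal → N ≠ ⊥ → M ≤ N) ∧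
      IsSimpleGroup ↥M ∧ MulAction.IsMultiplyPretransitive ↥M Ω 2 ∧
      Subgroup.centralizer (M : Set G) = ⊥ := by
  classical
  have h2' : ∀ a b c d : Ω, a ≠ b → c ≠ d → ∃ g : G, g • a = c ∧ g • b = d :=
    fun a b c d hab hcd => (is_two_pretransitive_iff.mp h2) hab hcd
  obtain ⟨M, hMn, hMne, hMmin⟩ := exists_min_normal h2' hn hn2
  haveI := hMn
  have hMtt := normal_twoTrans h2' hn M hMne
  have hM2 : ∀ a b c d : Ω, a ≠ b → c ≠ d → ∃ g : M, g • a = c ∧ g • b = d := by
    intro a b c d hab hcd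
    obtain ⟨g, hg, h1, h2⟩ := hMtt a b c d hab hcd
    exact ⟨⟨g, hg⟩, h1, h2⟩
  refine ⟨M, hMn, hMne, hMmin, ?_, ?_, centralizer_eq_bot' h2' hn hn2 M hMne⟩
  · -- simplicity
    obtain ⟨M₀, hM₀n, hM₀ne, hM₀min⟩ := exists_min_normal (G := M) hM2 hn hn2
    -- `M₀` is invariant under conjugation by `G`
    have hinv : ∀ g : G, ∀ y ∈ M₀, MulAut.conjNormal g y ∈ M₀ := by
      intro g
      have hLn : (M₀.comap (MulAut.conjNormal (H := M) g).toMonoidHom).Normal := hM₀n.comap _
      have hLne : M₀.comap (MulAut.conjNormal (H := M) g).toMonoidHom ≠ ⊥ := by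
        obtain ⟨⟨x, hx⟩, hx1⟩ := Subgroup.ne_bot_iff_exists_ne_one.mp hM₀ne
        have hx1' : x ≠ 1 := fun h => hx1 (Subtype.ext h)
        intro hbot
        have hmem : (MulAut.conjNormal (H := M) g).symm x ∈
            M₀.comap (MulAut.conjNormal (H := M) g).toMonoidHom := by
          rw [Subgroup.mem_comap]
          simpa using hx
        rw [hbot, Subgroup.mem_bot] at hmem
        apply hx1'
        have := congrArg (MulAut.conjNormal (H := M) g) hmem
        simpa using this
      have hle := hM₀min _ hLn hLne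
      intro y hy
      exact hle hy
    have hM₀'n : (M₀.map M.subtype).Normal := by
      constructor
      rintro _ ⟨y, hy, rfl⟩ g
      refine ⟨MulAut.conjNormal g y, hinv g y hy, ?_⟩
      simp [MulAut.conjNormal_apply]
    have hM₀'ne : M₀.map M.subtype ≠ ⊥ := by
      intro h
      exact hM₀ne ((Subgroup.map_eq_bot_iff_of_injective _ M.subtype_injective).mp h)
    have hle := hMmin _ hM₀'n hM₀'ne
    have hM₀top : M₀ = ⊤ := by
      rw [eq_top_iff]
      intro m _
      obtain ⟨y, hy, hym⟩ := hle m.2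
      have : y = m := Subtype.ext hym
      rw [← this]; exact hy
    haveI : Nontrivial M := by
      obtain ⟨x, hx⟩ := Subgroup.ne_bot_iff_exists_ne_one.mp hMne
      exact ⟨⟨x, 1, hx⟩⟩
    refine ⟨?_⟩
    intro L hL
    by_cases hLb : L = ⊥
    · left; exact hLb
    · right
      have := hM₀min L hL hLb
      rw [hM₀top] at this
      exact top_le_iff.mp this
  · rw [is_two_pretransitive_iff]
    intro a b c d hab hcd
    exact hM2 a b c d hab hcd

end Cfsg.Agent.Lib.Helper7.TwoMod4
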