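import Mathlib
import Cfsg.Agent.S0144
import Cfsg.Agent.Lib.Helper7.AffFrob

set_option autoImplicit false

/-!
A fixed-point-free group of 4×4 matrices over `ZMod 13` (binary octahedral group) with
element orders `1,2,3,4,6,8`, encoded with natural-number entries so that the kernel can
evaluate products quickly.
-/

namespace Cfsg.Agent.Lib.Helper7.TwoO

/-- 4×4 matrices with natural-number entries (to be read mod 13). -/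
structure M4 where
  a00 : ℕ
  a01 : ℕ
  a02 : ℕ
  a03 : ℕ
  a10 : ℕ
  a11 : ℕ
  a12 : ℕ
  a13 : ℕ
  a20 : ℕ
  a21 : ℕ
  a22 : ℕ
  a23 : ℕ
  a30 : ℕ
  a31 : ℕ
  a32 : ℕ
  a33 : ℕ
  deriving DecidableEq

/-- product mod 13 -/
def mul4 (x y : M4) : M4 :=
  ⟨(x.a00 * y.a00 + x.a01 * y.a10 + x.a02 * y.a20 + x.a03 * y.a30) % 13,
   (x.a00 * y.a01 + x.a01 * y.a11 + x.a02 * y.a21 + x.a03 * y.a31) % 13,
   (x.a00 * y.a02 + x.a01 * y.a12 + x.a02 * y.a22 + x.a03 * y.a32) % 13,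
   (x.a00 * y.a03 + x.a01 * y.a13 + x.a02 * y.a23 + x.a03 * y.a33) % 13,
   (x.a10 * y.a00 + x.a11 * y.a10 + x.a12 * y.a20 + x.a13 * y.a30) % 13,
   (x.a10 * y.a01 + x.a11 * y.a11 + x.a12 * y.a21 + x.a13 * y.a31) % 13,
   (x.a10 * y.a02 + x.a11 * y.a12 + x.a12 * y.a22 + x.a13 * y.a32) % 13,
   (x.a10 * y.a03 + x.a11 * y.a13 + x.a12 * y.a23 + x.a13 * y.a33) % 13,
   (x.a20 * y.a00 + x.a21 * y.a10 + x.a22 * y.a20 + x.a23 * y.a30) % 13,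
   (x.a20 * y.a01 + x.a21 * y.a11 + x.a22 * y.a21 + x.a23 * y.a31) % 13,
   (x.a20 * y.a02 + x.a21 * y.a12 + x.a22 * y.a22 + x.a23 * y.a32) % 13,
   (x.a20 * y.a03 + x.a21 * y.a13 + x.a22 * y.a23 + x.a23 * y.a33) % 13,
   (x.a30 * y.a00 + x.a31 * y.a10 + x.a32 * y.a20 + x.a33 * y.a30) % 13,
   (x.a30 * y.a01 + x.a31 * y.a11 + x.a32 * y.a21 + x.a33 * y.a31) % 13,
   (x.a30 * y.a02 + x.a31 * y.a12 + x.a32 * y.a22 + x.a33 * y.a32) % 13,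
   (x.a30 * y.a03 + x.a31 * y.a13 + x.a32 * y.a23 + x.a33 * y.a33) % 13⟩

/-- `x - 1` mod 13 -/
def sub1 (x : M4) : M4 :=
  ⟨(x.a00 + 12) % 13,
   x.a01 % 13,
   x.a02 % 13,
   x.a03 % 13,
   x.a10 % 13,
   (x.a11 + 12) % 13,
   x.a12 % 13,
   x.a13 % 13,
   x.a20 % 13,
   x.a21 % 13,
   (x.a22 + 12) % 13,
   x.a23 % 13,
   x.a30 % 13,
   x.a31 % 13,
   x.a32 % 13,
   (x.a33 + 12) % 13⟩

def one4 : M4 := ⟨1, 0, 0, 0, 0, 1, 0, 0, 0, 0, 1, 0, 0, 0, 0, 1⟩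

def G1 : M4 := ⟨0, 0, 1, 12, 0, 0, 1, 1, 7, 6, 0, 0, 7, 7, 0, 0⟩
def G2 : M4 := ⟨0, 3, 0, 0, 4, 1, 0, 0, 0, 0, 0, 3, 0, 0, 4, 1⟩
def G1i : M4 := ⟨0, 0, 1, 1, 0, 0, 12, 1, 7, 7, 0, 0, 6, 7, 0, 0⟩
def G2i : M4 := ⟨1, 10, 0, 0, 9, 0, 0, 0, 0, 0, 1, 10, 0, 0, 9, 0⟩

/-- the 48 elements, each paired with the inverse of `x - 1` (zero for `x = 1`) -/
def L48 : List (M4 × M4) := [
  (⟨0, 0, 1, 1, 0, 0, 12, 1, 7, 7, 0, 0, 6, 7, 0, 0⟩, ⟨6, 6, 0, 12, 7, 6, 1, 0, 0, 6, 6, 6, 7, 0, 7, 6⟩),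
  (⟨0, 0, 1, 6, 0, 0, 6, 12, 7, 3, 0, 0, 3, 6, 0, 0⟩, ⟨6, 0, 6, 10, 0, 6, 10, 7, 3, 5, 6, 0, 5, 10, 0, 6⟩),
  (⟨0, 0, 1, 12, 0, 0, 1, 1, 7, 6, 0, 0, 7, 7, 0, 0⟩, ⟨6, 7, 0, 1, 6, 6, 12, 0, 0, 7, 6, 7, 6, 0, 6, 6⟩),
  (⟨0, 0, 2, 4, 0, 0, 4, 9, 1, 2, 0, 0, 2, 11, 0, 0⟩, ⟨1, 2, 10, 9, 2, 11, 9, 3, 5, 11, 1, 2, 11, 8, 2, 11⟩),
  (⟨0, 0, 3, 3, 0, 0, 5, 10, 8, 8, 0, 0, 9, 5, 0, 0⟩, ⟨6, 0, 5, 5, 0, 6, 4, 8, 9, 9, 6, 0, 2, 4, 0, 6⟩),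
  (⟨0, 0, 3, 5, 0, 0, 3, 10, 8, 9, 0, 0, 8, 5, 0, 0⟩, ⟨6, 0, 5, 4, 0, 6, 5, 8, 9, 2, 6, 0, 9, 4, 0, 6⟩),
  (⟨0, 0, 3, 10, 0, 0, 10, 8, 8, 5, 0, 0, 5, 4, 0, 0⟩, ⟨8, 5, 9, 3, 5, 4, 3, 4, 11, 8, 8, 5, 8, 2, 5, 4⟩),
  (⟨0, 0, 4, 4, 0, 0, 4, 11, 2, 2, 0, 0, 2, 12, 0, 0⟩, ⟨11, 11, 10, 9, 11, 1, 9, 3, 5, 11, 11, 11, 11, 8, 11, 1⟩),
  (⟨0, 0, 4, 9, 0, 0, 11, 9, 2, 11, 0, 0, 12, 11, 0, 0⟩, ⟨6, 0, 11, 2, 0, 6, 1, 2, 12, 1, 6, 0, 7, 1, 0, 6⟩),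
  (⟨0, 0, 4, 11, 0, 0, 9, 9, 2, 12, 0, 0, 11, 11, 0, 0⟩, ⟨6, 0, 11, 1, 0, 6, 2, 2, 12, 7, 6, 0, 1, 1, 0, 6⟩),
  (⟨0, 0, 5, 10, 0, 0, 10, 10, 9, 5, 0, 0, 5, 5, 0, 0⟩, ⟨4, 8, 9, 3, 8, 8, 3, 4, 11, 8, 4, 8, 8, 2, 8, 8⟩),
  (⟨0, 0, 6, 12, 0, 0, 12, 7, 3, 6, 0, 0, 6, 10, 0, 0⟩, ⟨6, 0, 10, 7, 0, 6, 7, 3, 5, 10, 6, 0, 10, 8, 0, 6⟩),
  (⟨0, 0, 7, 1, 0, 0, 1, 6, 10, 7, 0, 0, 7, 3, 0, 0⟩, ⟨6, 0, 3, 6, 0, 6, 6, 10, 8, 3, 6, 0, 3, 5, 0, 6⟩),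
  (⟨0, 0, 8, 3, 0, 0, 3, 3, 4, 8, 0, 0, 8, 8, 0, 0⟩, ⟨4, 8, 4, 10, 8, 8, 10, 9, 2, 5, 4, 8, 5, 11, 8, 8⟩),
  (⟨0, 0, 9, 2, 0, 0, 4, 4, 11, 1, 0, 0, 2, 2, 0, 0⟩, ⟨6, 0, 2, 12, 0, 6, 11, 11, 1, 6, 6, 0, 12, 12, 0, 6⟩),
  (⟨0, 0, 9, 4, 0, 0, 2, 4, 11, 2, 0, 0, 1, 2, 0, 0⟩, ⟨6, 0, 2, 11, 0, 6, 12, 11, 1, 12, 6, 0, 6, 12, 0, 6⟩),
  (⟨0, 0, 9, 9, 0, 0, 9, 2, 11, 11, 0, 0, 11, 1, 0, 0⟩, ⟨11, 11, 3, 4, 11, 1, 4, 10, 8, 2, 11, 11, 2, 5, 11, 1⟩),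
  (⟨0, 0, 10, 3, 0, 0, 3, 5, 5, 8, 0, 0, 8, 9, 0, 0⟩, ⟨8, 5, 4, 10, 5, 4, 10, 9, 2, 5, 8, 5, 5, 11, 5, 4⟩),
  (⟨0, 0, 10, 8, 0, 0, 10, 3, 5, 4, 0, 0, 5, 8, 0, 0⟩, ⟨6, 0, 8, 9, 0, 6, 8, 5, 4, 11, 6, 0, 4, 9, 0, 6⟩),
  (⟨0, 0, 10, 10, 0, 0, 8, 3, 5, 5, 0, 0, 4, 8, 0, 0⟩, ⟨6, 0, 8, 8, 0, 6, 9, 5, 4, 4, 6, 0, 11, 9, 0, 6⟩),
  (⟨0, 0, 11, 9, 0, 0, 9, 4, 12, 11, 0, 0, 11, 2, 0, 0⟩, ⟨1, 2, 3, 4, 2, 11, 4, 10, 8, 2, 1, 2, 2, 5, 2, 11⟩),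
  (⟨0, 0, 12, 1, 0, 0, 12, 12, 6, 7, 0, 0, 6, 6, 0, 0⟩, ⟨6, 7, 0, 12, 6, 6, 1, 0, 0, 6, 6, 7, 7, 0, 6, 6⟩),
  (⟨0, 0, 12, 7, 0, 0, 7, 1, 6, 10, 0, 0, 10, 7, 0, 0⟩, ⟨6, 0, 7, 3, 0, 6, 3, 6, 10, 8, 6, 0, 8, 3, 0, 6⟩),
  (⟨0, 0, 12, 12, 0, 0, 1, 12, 6, 6, 0, 0, 7, 6, 0, 0⟩, ⟨6, 6, 0, 1, 7, 6, 12, 0, 0, 7, 6, 6, 6, 0, 7, 6⟩),
  (⟨0, 1, 0, 0, 12, 0, 0, 0, 0, 0, 0, 1, 0, 0, 12, 0⟩, ⟨6, 6, 0, 0, 7, 6, 0, 0, 0, 0, 6, 6, 0, 0, 7, 6⟩),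
  (⟨0, 3, 0, 0, 4, 1, 0, 0, 0, 0, 0, 3, 0, 0, 4, 1⟩, ⟨0, 10, 0, 0, 9, 12, 0, 0, 0, 0, 0, 10, 0, 0, 9, 12⟩),
  (⟨0, 4, 0, 0, 3, 1, 0, 0, 0, 0, 0, 4, 0, 0, 3, 1⟩, ⟨0, 9, 0, 0, 10, 12, 0, 0, 0, 0, 0, 9, 0, 0, 10, 12⟩),
  (⟨0, 9, 0, 0, 10, 12, 0, 0, 0, 0, 0, 9, 0, 0, 10, 12⟩, ⟨8, 10, 0, 0, 1, 4, 0, 0, 0, 0, 8, 10, 0, 0, 1, 4⟩),
  (⟨0, 10, 0, 0, 9, 12, 0, 0, 0, 0, 0, 10, 0, 0, 9, 12⟩, ⟨8, 1, 0, 0, 10, 4, 0, 0, 0, 0, 8, 1, 0, 0, 10, 4⟩),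
  (⟨0, 12, 0, 0, 1, 0, 0, 0, 0, 0, 0, 12, 0, 0, 1, 0⟩, ⟨6, 7, 0, 0, 6, 6, 0, 0, 0, 0, 6, 7, 0, 0, 6, 6⟩),
  (⟨1, 0, 0, 0, 0, 1, 0, 0, 0, 0, 1, 0, 0, 0, 0, 1⟩, ⟨0, 0, 0, 0, 0, 0, 0, 0, 0, 0, 0, 0, 0, 0, 0, 0⟩),
  (⟨1, 9, 0, 0, 10, 0, 0, 0, 0, 0, 1, 9, 0, 0, 10, 0⟩, ⟨12, 4, 0, 0, 3, 0, 0, 0, 0, 0, 12, 4, 0, 0, 3, 0⟩),
  (⟨1, 10, 0, 0, 9, 0, 0, 0, 0, 0, 1, 10, 0, 0, 9, 0⟩, ⟨12, 3, 0, 0, 4, 0, 0, 0, 0, 0, 12, 3, 0, 0, 4, 0⟩),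
  (⟨3, 0, 0, 0, 1, 9, 0, 0, 0, 0, 3, 0, 0, 0, 1, 9⟩, ⟨7, 0, 0, 0, 4, 5, 0, 0, 0, 0, 7, 0, 0, 0, 4, 5⟩),
  (⟨3, 1, 0, 0, 0, 9, 0, 0, 0, 0, 3, 1, 0, 0, 0, 9⟩, ⟨7, 4, 0, 0, 0, 5, 0, 0, 0, 0, 7, 4, 0, 0, 0, 5⟩),
  (⟨3, 4, 0, 0, 4, 10, 0, 0, 0, 0, 3, 4, 0, 0, 4, 10⟩, ⟨11, 11, 0, 0, 11, 1, 0, 0, 0, 0, 11, 11, 0, 0, 11, 1⟩),
  (⟨4, 0, 0, 0, 1, 10, 0, 0, 0, 0, 4, 0, 0, 0, 1, 10⟩, ⟨9, 0, 0, 0, 12, 3, 0, 0, 0, 0, 9, 0, 0, 0, 12, 3⟩),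
  (⟨4, 1, 0, 0, 0, 10, 0, 0, 0, 0, 4, 1, 0, 0, 0, 10⟩, ⟨9, 12, 0, 0, 0, 3, 0, 0, 0, 0, 9, 12, 0, 0, 0, 3⟩),
  (⟨4, 10, 0, 0, 10, 9, 0, 0, 0, 0, 4, 10, 0, 0, 10, 9⟩, ⟨4, 8, 0, 0, 8, 8, 0, 0, 0, 0, 4, 8, 0, 0, 8, 8⟩),
  (⟨9, 0, 0, 0, 12, 3, 0, 0, 0, 0, 9, 0, 0, 0, 12, 3⟩, ⟨5, 0, 0, 0, 9, 7, 0, 0, 0, 0, 5, 0, 0, 0, 9, 7⟩),
  (⟨9, 3, 0, 0, 3, 4, 0, 0, 0, 0, 9, 3, 0, 0, 3, 4⟩, ⟨8, 5, 0, 0, 5, 4, 0, 0, 0, 0, 8, 5, 0, 0, 5, 4⟩),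
  (⟨9, 12, 0, 0, 0, 3, 0, 0, 0, 0, 9, 12, 0, 0, 0, 3⟩, ⟨5, 9, 0, 0, 0, 7, 0, 0, 0, 0, 5, 9, 0, 0, 0, 7⟩),
  (⟨10, 0, 0, 0, 12, 4, 0, 0, 0, 0, 10, 0, 0, 0, 12, 4⟩, ⟨3, 0, 0, 0, 1, 9, 0, 0, 0, 0, 3, 0, 0, 0, 1, 9⟩),
  (⟨10, 9, 0, 0, 9, 3, 0, 0, 0, 0, 10, 9, 0, 0, 9, 3⟩, ⟨1, 2, 0, 0, 2, 11, 0, 0, 0, 0, 1, 2, 0, 0, 2, 11⟩),
  (⟨10, 12, 0, 0, 0, 4, 0, 0, 0, 0, 10, 12, 0, 0, 0, 4⟩, ⟨3, 1, 0, 0, 0, 9, 0, 0, 0, 0, 3, 1, 0, 0, 0, 9⟩),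
  (⟨12, 0, 0, 0, 0, 12, 0, 0, 0, 0, 12, 0, 0, 0, 0, 12⟩, ⟨6, 0, 0, 0, 0, 6, 0, 0, 0, 0, 6, 0, 0, 0, 0, 6⟩),
  (⟨12, 3, 0, 0, 4, 0, 0, 0, 0, 0, 12, 3, 0, 0, 4, 0⟩, ⟨4, 12, 0, 0, 3, 8, 0, 0, 0, 0, 4, 12, 0, 0, 3, 8⟩),
  (⟨12, 4, 0, 0, 3, 0, 0, 0, 0, 0, 12, 4, 0, 0, 3, 0⟩, ⟨4, 3, 0, 0, 12, 8, 0, 0, 0, 0, 4, 3, 0, 0, 12, 8⟩)]

/-- the 48 elements -/
def S48 : List M4 := L48.map Prod.fst

def sq4 (x : M4) : M4 := mul4 x x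
def pow8 (x : M4) : M4 := sq4 (sq4 (sq4 x))
def pow6 (x : M4) : M4 := sq4 (mul4 x (sq4 x))

theorem one_mem : one4 ∈ S48 := by decide +kernel

theorem closed : ∀ x ∈ S48, mul4 x G1 ∈ S48 ∧ mul4 x G2 ∈ S48 ∧ mul4 x G1i ∈ S48 ∧ mul4 x G2i ∈ S48 := by
  decide +kernel

theorem pow_cases : ∀ x ∈ S48, pow8 x = one4 ∨ pow6 x = one4 := by decide +kernel

theorem fpf_list : ∀ p ∈ L48, p.1 = one4 ∨ mul4 p.2 (sub1 p.1) = one4 := by decide +kernel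

theorem g1_inv : mul4 G1 G1i = one4 ∧ mul4 G1i G1 = one4 := by decide +kernel
theorem g2_inv : mul4 G2 G2i = one4 ∧ mul4 G2i G2 = one4 := by decide +kernel

/-- the matrix over `ZMod 13` -/
def toMat (x : M4) : Matrix (Fin 4) (Fin 4) (ZMod 13) :=
  !![(x.a00 : ZMod 13), x.a01, x.a02, x.a03;
     x.a10, x.a11, x.a12, x.a13;
     x.a20, x.a21, x.a22, x.a23;
     x.a30, x.a31, x.a32, x.a33]

theorem toMat_mul4 (x y : M4) : toMat (mul4 x y) = toMat x * toMat y := by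
  ext i j
  fin_cases i <;> fin_cases j <;>
    simp [toMat, mul4, Matrix.mul_apply, Fin.sum_univ_four, ZMod.natCast_mod]

theorem toMat_one4 : toMat one4 = 1 := by
  ext i j
  fin_cases i <;> fin_cases j <;> simp [toMat, one4]

theorem toMat_sub1 (x : M4) : toMat (sub1 x) = toMat x - 1 := by
  ext i j
  fin_cases i <;> fin_cases j <;>
    simp [toMat, sub1, ZMod.natCast_mod] <;> 
    (try (rw [sub_eq_add_neg]; congr 1))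

/-! ### The group -/

abbrev Mat13 : Type := Matrix (Fin 4) (Fin 4) (ZMod 13)

/-- generator of order 8 -/
def u1 : Mat13ˣ :=
  ⟨toMat G1, toMat G1i, by rw [← toMat_mul4, g1_inv.1, toMat_one4],
    by rw [← toMat_mul4, g1_inv.2, toMat_one4]⟩

/-- generator of order 6 -/
def u2 : Mat13ˣ :=
  ⟨toMat G2, toMat G2i, by rw [← toMat_mul4, g2_inv.1, toMat_one4],
    by rw [← toMat_mul4, g2_inv.2, toMat_one4]⟩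

/-- the binary octahedral group inside `GL₄(13)` -/
def H48 : Subgroup Mat13ˣ := Subgroup.closure {u1, u2}

theorem exists_rep (h : Mat13ˣ) (hh : h ∈ H48) : ∃ x ∈ S48, (h : Mat13) = toMat x := by
  induction hh using Subgroup.closure_induction_right with
  | one => exact ⟨one4, one_mem, by rw [toMat_one4]; rfl⟩
  | mul_right x hx y hy ih =>
    obtain ⟨m, hm, hxm⟩ := ih
    have hc := closed m hm
    rcases hy with rfl | rfl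
    · exact ⟨mul4 m G1, hc.1, by rw [Units.val_mul, hxm, toMat_mul4]; rfl⟩
    · exact ⟨mul4 m G2, hc.2.1, by rw [Units.val_mul, hxm, toMat_mul4]; rfl⟩
  | mul_inv_cancel x hx y hy ih =>
    obtain ⟨m, hm, hxm⟩ := ih
    have hc := closed m hm
    rcases hy with rfl | rfl
    · exact ⟨mul4 m G1i, hc.2.2.1, by rw [Units.val_mul, hxm, toMat_mul4]; rfl⟩
    · exact ⟨mul4 m G2i, hc.2.2.2, by rw [Units.val_mul, hxm, toMat_mul4]; rfl⟩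

theorem toMat_pow8 (x : M4) : toMat (pow8 x) = toMat x ^ 8 := by
  simp only [pow8, sq4, toMat_mul4]
  noncomm_ring

theorem toMat_pow6 (x : M4) : toMat (pow6 x) = toMat x ^ 6 := by
  simp only [pow6, sq4, toMat_mul4]
  noncomm_ring

theorem pow_eq_one (h : Mat13ˣ) (hh : h ∈ H48) : h ^ 8 = 1 ∨ h ^ 6 = 1 := by
  obtain ⟨x, hx, hxm⟩ := exists_rep h hh
  rcases pow_cases x hx with h8 | h6
  · left
    apply Units.ext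
    rw [Units.val_pow_eq_pow_val, hxm, ← toMat_pow8, h8, toMat_one4]; rfl
  · right
    apply Units.ext
    rw [Units.val_pow_eq_pow_val, hxm, ← toMat_pow6, h6, toMat_one4]; rfl

theorem orderOf_mem (h : Mat13ˣ) (hh : h ∈ H48) : orderOf h ∈ ({1, 2, 3, 4, 6, 8} : Set ℕ) := by
  rcases pow_eq_one h hh with h8 | h6
  · have hd : orderOf h ∣ 8 := orderOf_dvd_of_pow_eq_one h8
    have hm : orderOf h ∈ Nat.divisors 8 := Nat.mem_divisors.mpr ⟨hd, by norm_num⟩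
    have h8' : Nat.divisors 8 = {1, 2, 4, 8} := by decide
    rw [h8'] at hm
    simp only [Finset.mem_insert, Finset.mem_singleton] at hm
    rcases hm with h | h | h | h <;> rw [h] <;> simp
  · have hd : orderOf h ∣ 6 := orderOf_dvd_of_pow_eq_one h6
    have hm : orderOf h ∈ Nat.divisors 6 := Nat.mem_divisors.mpr ⟨hd, by norm_num⟩
    have h6' : Nat.divisors 6 = {1, 2, 3, 6} := by decide
    rw [h6'] at hm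
    simp only [Finset.mem_insert, Finset.mem_singleton] at hm
    rcases hm with h | h | h | h <;> rw [h] <;> simp

theorem fpf (h : Mat13ˣ) (hh : h ∈ H48) (h1 : h ≠ 1) (v : Fin 4 → ZMod 13)
    (hv : (h : Mat13).mulVec v = v) : v = 0 := by
  obtain ⟨x, hx, hxm⟩ := exists_rep h hh
  obtain ⟨p, hp, rfl⟩ := List.mem_map.mp hx
  rcases fpf_list p hp with h1' | hinv
  · exfalso
    apply h1
    apply Units.ext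
    rw [hxm, h1', toMat_one4]; rfl
  · have h2 : (toMat p.2 * (toMat p.1 - 1)).mulVec v = v := by
      rw [← toMat_sub1, ← toMat_mul4, hinv, toMat_one4, Matrix.one_mulVec]
    rw [← Matrix.mulVec_mulVec, Matrix.sub_mulVec, ← hxm, hv, Matrix.one_mulVec, sub_self,
      Matrix.mulVec_zero] at h2
    exact h2.symm

/-! ### Element orders present -/

/-- iterated product -/
def npow4 (x : M4) : ℕ → M4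
  | 0 => one4
  | n + 1 => mul4 (npow4 x n) x

theorem toMat_npow4 (x : M4) (n : ℕ) : toMat (npow4 x n) = toMat x ^ n := by
  induction n with
  | zero => rw [pow_zero]; exact toMat_one4
  | succ n ih => rw [pow_succ, ← ih, ← toMat_mul4]; rfl

theorem a00_of_toMat_eq_one (x : M4) (h : toMat x = 1) : (x.a00 : ZMod 13) = 1 := by
  have h0 := congrFun (congrFun h 0) 0
  simpa [toMat] using h0

theorem u1_pow (n : ℕ) : ((u1 ^ n : Mat13ˣ) : Mat13) = toMat (npow4 G1 n) := by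
  rw [Units.val_pow_eq_pow_val, toMat_npow4]; rfl

theorem u2_pow (n : ℕ) : ((u2 ^ n : Mat13ˣ) : Mat13) = toMat (npow4 G2 n) := by
  rw [Units.val_pow_eq_pow_val, toMat_npow4]; rfl

theorem orderOf_u1 : orderOf u1 = 8 := by
  haveI : Fact (Nat.Prime 2) := ⟨Nat.prime_two⟩
  have h4 : ¬ u1 ^ 2 ^ 2 = 1 := by
    intro h
    have h' : toMat (npow4 G1 4) = 1 := by
      have h4' : u1 ^ 4 = 1 := by simpa using h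
      rw [← u1_pow, h4']; rfl
    have h'' := a00_of_toMat_eq_one _ h'
    revert h''
    decide
  have h8 : u1 ^ 2 ^ (2 + 1) = 1 := by
    apply Units.ext
    rw [show (2 : ℕ) ^ (2 + 1) = 8 by norm_num, u1_pow,
      show npow4 G1 8 = one4 by decide +kernel, toMat_one4]; rfl
  exact orderOf_eq_prime_pow h4 h8

theorem orderOf_u2 : orderOf u2 = 6 := by
  have h6 : u2 ^ 6 = 1 := by
    apply Units.ext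
    rw [u2_pow, show npow4 G2 6 = one4 by decide +kernel, toMat_one4]; rfl
  have h2 : u2 ^ 2 ≠ 1 := by
    intro h
    have h' : toMat (npow4 G2 2) = 1 := by
      rw [← u2_pow, h]; rfl
    have h'' := a00_of_toMat_eq_one _ h'
    revert h''
    decide
  have h3 : u2 ^ 3 ≠ 1 := by
    intro h
    have h' : toMat (npow4 G2 3) = 1 := by
      rw [← u2_pow, h]; rfl
    have h'' := a00_of_toMat_eq_one _ h'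
    revert h''
    decide
  have hd : orderOf u2 ∣ 6 := orderOf_dvd_of_pow_eq_one h6
  have hm : orderOf u2 ∈ Nat.divisors 6 := Nat.mem_divisors.mpr ⟨hd, by norm_num⟩
  have h6' : Nat.divisors 6 = {1, 2, 3, 6} := by decide
  rw [h6'] at hm
  simp only [Finset.mem_insert, Finset.mem_singleton] at hm
  rcases hm with h | h | h | h
  · exfalso; apply h2; rw [orderOf_eq_one_iff] at h; rw [h, one_pow]
  · exfalso; apply h2; rw [← h]; exact pow_orderOf_eq_one u2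
  · exfalso; apply h3; rw [← h]; exact pow_orderOf_eq_one u2
  · exact h

theorem u1_mem : u1 ∈ H48 := Subgroup.subset_closure (by simp)
theorem u2_mem : u2 ∈ H48 := Subgroup.subset_closure (by simp)

theorem range_orderOf : Set.range (orderOf : H48 → ℕ) = {1, 2, 3, 4, 6, 8} := by
  apply Set.Subset.antisymm
  · rintro _ ⟨h, rfl⟩
    rw [← Subgroup.orderOf_coe]
    exact orderOf_mem h.1 h.2
  · have e1 : orderOf (⟨u1, u1_mem⟩ : H48) = 8 := by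
      rw [← Subgroup.orderOf_coe]; exact orderOf_u1
    have e2 : orderOf (⟨u2, u2_mem⟩ : H48) = 6 := by
      rw [← Subgroup.orderOf_coe]; exact orderOf_u2
    intro n hn
    simp only [Set.mem_insert_iff, Set.mem_singleton_iff] at hn
    rcases hn with rfl | rfl | rfl | rfl | rfl | rfl
    · exact ⟨1, orderOf_one⟩
    · exact ⟨(⟨u1, u1_mem⟩ : H48) ^ 4, by rw [orderOf_pow_of_dvd (by norm_num) (by rw [e1]; norm_num), e1]⟩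
    · exact ⟨(⟨u2, u2_mem⟩ : H48) ^ 2, by rw [orderOf_pow_of_dvd (by norm_num) (by rw [e2]; norm_num), e2]⟩
    · exact ⟨(⟨u1, u1_mem⟩ : H48) ^ 2, by rw [orderOf_pow_of_dvd (by norm_num) (by rw [e1]; norm_num), e1]⟩
    · exact ⟨_, e2⟩
    · exact ⟨_, e1⟩

/-! ### Solvability -/

theorem card_eq_two_pow_mul_three_pow {G : Type*} [Group G] [Finite G]
    (h : ∀ g : G, orderOf g ∈ ({1, 2, 3, 4, 6, 8} : Set ℕ)) :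
    ∃ a b : ℕ, Nat.card G = 2 ^ a * 3 ^ b := by
  have hn : Nat.card G ≠ 0 := Nat.card_pos.ne'
  have hsupp : (Nat.card G).factorization.support ⊆ ({2, 3} : Finset ℕ) := by
    intro p hp
    rw [Nat.support_factorization, Nat.mem_primeFactors] at hp
    haveI : Fact p.Prime := ⟨hp.1⟩
    obtain ⟨g, hg⟩ := exists_prime_orderOf_dvd_card' p hp.2.1
    have hg' := h g
    rw [hg] at hg'
    simp only [Set.mem_insert_iff, Set.mem_singleton_iff] at hg'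
    have hp1 := hp.1
    rcases hg' with rfl | rfl | rfl | rfl | rfl | rfl
    · exact absurd hp1 (by norm_num)
    · simp
    · simp
    · exact absurd hp1 (by norm_num)
    · exact absurd hp1 (by norm_num)
    · exact absurd hp1 (by norm_num)
  refine ⟨(Nat.card G).factorization 2, (Nat.card G).factorization 3, ?_⟩
  conv_lhs => rw [← Nat.prod_factorization_pow_eq_self hn]
  rw [Finsupp.prod_of_support_subset _ hsupp _ (fun i _ => pow_zero i)]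
  rw [Finset.prod_pair (by norm_num)]

instance : Group.IsSolvable H48 := by
  obtain ⟨a, b, hab⟩ := card_eq_two_pow_mul_three_pow (G := H48) (fun g => by
    have := range_orderOf ▸ Set.mem_range_self (f := (orderOf : H48 → ℕ)) g
    exact this)
  exact Cfsg.Agent.S0144.result 2 3 a b Nat.prime_two Nat.prime_three hab

/-! ### The module and the Frobenius group -/

/-- the natural module -/
def V13 : Type := Fin 4 → ZMod 13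

instance : AddCommGroup V13 := inferInstanceAs (AddCommGroup (Fin 4 → ZMod 13))
instance : Finite V13 := inferInstanceAs (Finite (Fin 4 → ZMod 13))

instance : DistribMulAction H48 V13 where
  smul h v := ((h : Mat13ˣ) : Mat13).mulVec (show Fin 4 → ZMod 13 from v)
  one_smul v := Matrix.one_mulVec _
  mul_smul a b v := by
    show ((a * b : H48) : Mat13ˣ).val.mulVec _ = (a : Mat13ˣ).val.mulVec ((b : Mat13ˣ).val.mulVec _)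
    rw [Matrix.mulVec_mulVec]; rfl
  smul_zero a := Matrix.mulVec_zero _
  smul_add a v w := Matrix.mulVec_add _ _ _

theorem smul_def (h : H48) (v : V13) :
    h • v = ((h : Mat13ˣ) : Mat13).mulVec (show Fin 4 → ZMod 13 from v) := rfl

open Cfsg.Agent.Lib.Helper7 in
theorem spectrum_aff :
    Set.range (orderOf : AffGp H48 V13 → ℕ) = {1, 2, 3, 4, 6, 8, 13} := by
  rw [AffGp.spectrum_frob 13 (by norm_num), range_orderOf]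
  · ext n; simp only [Set.mem_union, Set.mem_insert_iff, Set.mem_singleton_iff]; tauto
  · intro g hg v hv
    have hg' : (g : Mat13ˣ) ≠ 1 := fun h => hg (Subtype.ext h)
    exact fpf g.1 g.2 hg' v hv
  · intro v
    funext i
    show 13 • (show Fin 4 → ZMod 13 from v) i = 0
    rw [nsmul_eq_mul]
    have : ((13 : ℕ) : ZMod 13) = 0 := by decide
    rw [this, zero_mul]
  · refine ⟨fun _ => (1 : ZMod 13), fun h => ?_⟩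
    have := congrFun h 0
    revert this
    show (1 : ZMod 13) = 0 → False
    decide

end Cfsg.Agent.Lib.Helper7.TwoO
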