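import Mathlib
import Cfsg.Prelude.Def_Characters
import Cfsg.Agent.Lib.Helper4.Characters
import Cfsg.Agent.Lib.Helper1.CharFound6
import Cfsg.Agent.Lib.Helper1.IndFun
import Cfsg.Agent.Lib.Helper1.LinearChar
import Cfsg.Agent.S0146
import Cfsg.Agent.S0148
import Cfsg.Agent.Lib.Helper7.AffFrob

set_option autoImplicit false
set_option linter.style.haveILetI false
set_option linter.unusedSectionVars false

/-!
# Monomial characters induced from a normal subgroup
-/

namespace Cfsg.Agent.Lib.Helper7.U33D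

open scoped ComplexConjugate
open Cfsg.Agent.Lib.Helper1 Cfsg.Agent.Lib.Helper4

universe u

variable {G : Type u} [Group G] [Fintype G]

/-- the linear character induced from a normal subgroup is irreducible when no element outside
the subgroup stabilizes it -/
theorem mono_irr (N : Subgroup G) [hN : N.Normal] (lam : N →* ℂˣ)
    (hstab : ∀ g : G, g ∉ N →
      lam.comp (MulAut.conjNormal g⁻¹ : MulAut N).toMonoidHom ≠ lam) :
    Cfsg.IsIrrCharacter G (Cfsg.indFun N (fun n : N => ((lam n : ℂˣ) : ℂ))) := by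
  classical
  haveI : Fintype N := Fintype.ofFinite _
  set θ : N → ℂ := fun n => ((lam n : ℂˣ) : ℂ) with hθ
  have hθirr : Cfsg.IsIrrCharacter N θ := isIrrCharacter_of_hom lam
  have hΦc : Cfsg.IsCharacter G (Cfsg.indFun N θ) :=
    Cfsg.Agent.S0148.result N θ (isCharacter_of_irr hθirr)
  apply isIrrCharacter_of_norm_one hΦc
  rw [Cfsg.Agent.S0146.result N θ _ (indFun_isClassFunction N θ)]
  let lc : G → (N →* ℂˣ) := fun x => lam.comp (MulAut.conjNormal x⁻¹ : MulAut N).toMonoidHom
  have hlc : ∀ (x : G) (n : N),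
      Cfsg.extendByZero N θ (x⁻¹ * (n : G) * x) = ((lc x n : ℂˣ) : ℂ) := by
    intro x n
    have hmem : x⁻¹ * (n : G) * x ∈ N := by
      have := hN.conj_mem n n.2 x⁻¹
      simpa using this
    rw [extendByZero_of_mem N θ hmem]
    show ((lam ⟨x⁻¹ * (n : G) * x, hmem⟩ : ℂˣ) : ℂ) = _
    have : (⟨x⁻¹ * (n : G) * x, hmem⟩ : N) = (MulAut.conjNormal x⁻¹ : MulAut N) n := by
      apply Subtype.ext
      simp
    rw [this]
    rfl
  have hN0 : (Nat.card N : ℂ) ≠ 0 := Nat.cast_ne_zero.mpr Nat.card_pos.ne'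
  have h1 : ∀ n : N, Cfsg.indFun N θ (n : G)
      = (Nat.card N : ℂ)⁻¹ * ∑ x : G, ((lc x n : ℂˣ) : ℂ) := by
    intro n
    rw [indFun_apply]
    congr 1
    exact Finset.sum_congr rfl fun x _ => hlc x n
  have h2 : Cfsg.classInner θ (fun n : N => Cfsg.indFun N θ (n : G))
      = (Nat.card N : ℂ)⁻¹ * ∑ x : G, Cfsg.classInner θ (fun n : N => ((lc x n : ℂˣ) : ℂ)) := by
    simp only [classInner_def]
    have e1 : ∀ n : N, θ n * conj (Cfsg.indFun N θ (n : G))
        = (Nat.card N : ℂ)⁻¹ * ∑ x : G, θ n * conj ((lc x n : ℂˣ) : ℂ) := by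
      intro n
      rw [h1 n, map_mul, map_inv₀, Complex.conj_natCast, map_sum, Finset.mul_sum, Finset.mul_sum,
        Finset.mul_sum]
      refine Finset.sum_congr rfl fun x _ => ?_
      ring
    rw [Finset.sum_congr rfl fun n _ => e1 n, ← Finset.mul_sum, Finset.sum_comm]
    congr 1
    rw [Finset.mul_sum]
  rw [h2]
  have h3 : ∀ x : G, Cfsg.classInner θ (fun n : N => ((lc x n : ℂˣ) : ℂ))
      = if x ∈ N then 1 else 0 := by
    intro x
    rw [classInner_irr hθirr (isIrrCharacter_of_hom (lc x))]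
    by_cases hx : x ∈ N
    · rw [if_pos hx, if_pos]
      funext n
      show ((lam n : ℂˣ) : ℂ) = ((lam ((MulAut.conjNormal x⁻¹ : MulAut N) n) : ℂˣ) : ℂ)
      have : (MulAut.conjNormal x⁻¹ : MulAut N) n = (⟨x, hx⟩ : N)⁻¹ * n * ⟨x, hx⟩ := by
        apply Subtype.ext
        simp
      rw [this, map_mul, map_mul, map_inv]
      congr 1
      rw [mul_comm, ← mul_assoc, mul_inv_cancel, one_mul]
    · rw [if_neg hx, if_neg]
      intro h
      apply hstab x hx
      ext n
      have := congrFun h n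
      exact this.symm
  rw [Finset.sum_congr rfl fun x _ => h3 x, Finset.sum_boole]
  have h4 : ((Finset.univ.filter (fun x : G => x ∈ N)).card : ℂ) = (Nat.card N : ℂ) := by
    rw [Nat.card_eq_fintype_card, Fintype.card_subtype]
  rw [h4, inv_mul_cancel₀ hN0]

theorem indFun_one (H : Subgroup G) (θ : H → ℂ) :
    Cfsg.indFun H θ 1 = (H.index : ℂ) * θ 1 := by
  haveI : Fintype H := Fintype.ofFinite _
  rw [indFun_apply]
  have h1 : ∀ x : G, Cfsg.extendByZero H θ (x⁻¹ * 1 * x) = θ 1 := by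
    intro x
    have : x⁻¹ * 1 * x = ((1 : H) : G) := by simp
    rw [this, extendByZero_coe]
  rw [Finset.sum_congr rfl fun x _ => h1 x, Finset.sum_const, Finset.card_univ, nsmul_eq_mul]
  have hH0 : (Nat.card H : ℂ) ≠ 0 := Nat.cast_ne_zero.mpr Nat.card_pos.ne'
  have h2 : (Fintype.card G : ℂ) = (Nat.card H : ℂ) * (H.index : ℂ) := by
    rw [← Nat.card_eq_fintype_card, ← H.card_mul_index]
    push_cast
    ring
  rw [h2]
  field_simp

section Aff

variable (R : Type) [CommRing R] [Finite R]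

/-- the translation subgroup of the affine group of a ring -/
abbrev transl : Subgroup (AffGp Rˣ R) := (AffGp.rightHom : AffGp Rˣ R →* Rˣ).ker

variable {R}

theorem transl_g (n : transl R) : n.1.g = 1 := n.2

/-- an additive character, viewed on the translations -/
noncomputable def translChar (ψ : AddChar R ℂ) : transl R →* ℂˣ :=
  MonoidHom.toHomUnits
    { toFun := fun n => ψ n.1.v
      map_one' := by
        show ψ (1 : AffGp Rˣ R).v = 1
        rw [AffGp.one_v, AddChar.map_zero_eq_one]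
      map_mul' := fun a b => by
        show ψ (a.1 * b.1).v = ψ a.1.v * ψ b.1.v
        rw [AffGp.mul_v, transl_g a, one_smul, AddChar.map_add_eq_mul] }

theorem translChar_apply (ψ : AddChar R ℂ) (n : transl R) :
    ((translChar ψ n : ℂˣ) : ℂ) = ψ n.1.v := rfl

theorem aff_irr (ψ : AddChar R ℂ) (hψ : ψ.IsPrimitive) :
    ∃ χ : AffGp Rˣ R → ℂ, Cfsg.IsIrrCharacter (AffGp Rˣ R) χ ∧ χ 1 = (Nat.card Rˣ : ℂ) := by
  classical
  letI : Fintype (AffGp Rˣ R) := Fintype.ofFinite _
  refine ⟨Cfsg.indFun (transl R) (fun n => ((translChar ψ n : ℂˣ) : ℂ)), ?_, ?_⟩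
  · apply mono_irr
    intro g hg heq
    have hg1 : g.g ≠ 1 := fun h => hg h
    have hu : ((g.g⁻¹ : Rˣ) : R) - 1 ≠ 0 := by
      intro h
      apply hg1
      have h2 : ((g.g⁻¹ : Rˣ) : R) = ((1 : Rˣ) : R) := by
        rw [Units.val_one]
        exact sub_eq_zero.mp h
      have h3 := Units.ext h2
      exact inv_eq_one.mp h3
    apply hψ hu
    ext v
    rw [AddChar.mulShift_apply, AddChar.one_apply]
    let n : transl R := ⟨⟨v, 1⟩, by rw [MonoidHom.mem_ker]; rfl⟩
    have h1 := congrArg (fun f : transl R →* ℂˣ => ((f n : ℂˣ) : ℂ)) heq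
    simp only [MonoidHom.comp_apply, MulEquiv.coe_toMonoidHom, translChar_apply] at h1
    have h2 : ((MulAut.conjNormal g⁻¹ : MulAut (transl R)) n).1.v = (g.g⁻¹ : Rˣ) • v := by
      rw [MulAut.conjNormal_apply]
      simp [n, AffGp.mul_v, AffGp.inv_v]
    rw [h2] at h1
    have h3 : ((g.g⁻¹ : Rˣ) : R) * v = (g.g⁻¹ : Rˣ) • v := by
      rw [Units.smul_def, smul_eq_mul]
    rw [sub_mul, one_mul, sub_eq_add_neg, AddChar.map_add_eq_mul, h3, h1,
      ← AddChar.map_add_eq_mul, add_neg_cancel, AddChar.map_zero_eq_one]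
  · rw [indFun_one]
    have h1 : ((translChar ψ (1 : transl R) : ℂˣ) : ℂ) = 1 := by rw [map_one]; rfl
    rw [h1, mul_one, Subgroup.index_ker]
    have h2 : (AffGp.rightHom : AffGp Rˣ R →* Rˣ).range = ⊤ := by
      rw [MonoidHom.range_eq_top]
      intro u
      exact ⟨AffGp.inr u, rfl⟩
    rw [h2, Subgroup.card_top]

end Aff

end Cfsg.Agent.Lib.Helper7.U33D
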