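import Mathlib

set_option autoImplicit false
set_option linter.style.haveILetI false

/-!
# A counting criterion for a subgroup to have exactly two double cosets
-/

namespace Cfsg.Agent.Lib.Helper7.U33D

open MulAction

theorem dc_of_card {G : Type*} [Group G] [Finite G] (B : Subgroup G) (w : G) (hw : w ∉ B)
    (k : ℕ) (hk : 0 < k)
    (hstab : Nat.card {b : B // w⁻¹ * (b : G) * w ∈ B} ≤ k)
    (hcard : k * Nat.card G ≤ Nat.card B * (k + Nat.card B)) :
    (∀ g : G, g ∉ B → ∃ b₁ ∈ B, ∃ b₂ ∈ B, g = b₁ * w * b₂) ∧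
      k * Nat.card G = Nat.card B * (k + Nat.card B) := by
  classical
  let p : G ⧸ B := (w : G ⧸ B)
  let p₀ : G ⧸ B := ((1 : G) : G ⧸ B)
  -- the stabilizer
  have hmemS : ∀ b : B, b ∈ stabilizer B p ↔ w⁻¹ * (b : G) * w ∈ B := by
    intro b
    rw [mem_stabilizer_iff]
    show ((b : G) • (w : G ⧸ B) : G ⧸ B) = (w : G ⧸ B) ↔ _
    rw [MulAction.Quotient.smul_mk, QuotientGroup.eq]
    have e : ((b : G) • w)⁻¹ * w = (w⁻¹ * (b : G) * w)⁻¹ := by
      rw [smul_eq_mul]
      group
    rw [e, inv_mem_iff]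
  have hS : Nat.card (stabilizer B p) ≤ k := by
    have e : (stabilizer B p) ≃ {b : B // w⁻¹ * (b : G) * w ∈ B} :=
      Equiv.subtypeEquivRight hmemS
    rw [Nat.card_congr e]
    exact hstab
  have hOS : Nat.card (orbit B p) * Nat.card (stabilizer B p) = Nat.card B := by
    rw [← Nat.card_prod]
    exact Nat.card_congr (orbitProdStabilizerEquivGroup B p)
  -- the orbit avoids the base point
  have hO : orbit B p ⊆ ({p₀}ᶜ : Set (G ⧸ B)) := by
    rintro _ ⟨b, rfl⟩ h
    rw [Set.mem_singleton_iff] at h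
    change ((b : G) • (w : G ⧸ B) : G ⧸ B) = ((1 : G) : G ⧸ B) at h
    rw [MulAction.Quotient.smul_mk, QuotientGroup.eq] at h
    rw [smul_eq_mul, mul_one, inv_mem_iff] at h
    apply hw
    have : w = (b : G)⁻¹ * ((b : G) * w) := by group
    rw [this]
    exact B.mul_mem (B.inv_mem b.2) h
  have hcompl : Nat.card ({p₀}ᶜ : Set (G ⧸ B)) = B.index - 1 := by
    rw [Nat.card_coe_set_eq, Set.ncard_compl, Set.ncard_singleton]
    rfl
  have hOle : Nat.card (orbit B p) ≤ B.index - 1 := by
    rw [← hcompl]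
    exact Nat.card_mono (Set.toFinite _) hO
  have hGB : Nat.card B * B.index = Nat.card G := B.card_mul_index
  have hn : 0 < Nat.card B := Nat.card_pos
  have hI : 0 < B.index := Nat.pos_of_ne_zero B.index_ne_zero_of_finite
  -- arithmetic
  set n := Nat.card B
  set I := B.index
  set o := Nat.card (orbit B p)
  set s := Nat.card (stabilizer B p)
  have h1 : k * I ≤ k + n := by
    have : n * (k * I) ≤ n * (k + n) := by
      calc n * (k * I) = k * (n * I) := by ring
        _ = k * Nat.card G := by rw [hGB]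
        _ ≤ n * (k + n) := hcard
    exact Nat.le_of_mul_le_mul_left this hn
  have h2 : n ≤ o * k := by
    rw [← hOS]
    exact Nat.mul_le_mul_left o hS
  have h3 : k * (I - 1) ≤ n := by
    have : k * (I - 1) + k = k * I := by
      rw [← Nat.mul_succ]
      congr 1
      omega
    omega
  have h4 : I - 1 ≤ o := by
    have : k * (I - 1) ≤ k * o := by
      calc k * (I - 1) ≤ n := h3
        _ ≤ o * k := h2
        _ = k * o := mul_comm _ _
    exact Nat.le_of_mul_le_mul_left this hk
  have ho : o = I - 1 := le_antisymm hOle h4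
  have hn' : n = k * (I - 1) := by
    apply le_antisymm _ h3
    calc n ≤ o * k := h2
      _ = k * (I - 1) := by rw [ho, mul_comm]
  have hOeq : orbit B p = ({p₀}ᶜ : Set (G ⧸ B)) := by
    apply Set.eq_of_subset_of_ncard_le hO _ (Set.toFinite _)
    rw [← Nat.card_coe_set_eq, ← Nat.card_coe_set_eq, hcompl]
    exact h4
  refine ⟨?_, ?_⟩
  · intro g hg
    have hne : (g : G ⧸ B) ≠ p₀ := by
      intro h
      change (g : G ⧸ B) = ((1 : G) : G ⧸ B) at h
      rw [QuotientGroup.eq, mul_one, inv_mem_iff] at h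
      exact hg h
    have hmem : (g : G ⧸ B) ∈ orbit B p := by
      rw [hOeq]
      exact hne
    obtain ⟨b, hb⟩ := hmem
    change ((b : G) • (w : G ⧸ B) : G ⧸ B) = (g : G ⧸ B) at hb
    rw [MulAction.Quotient.smul_mk, QuotientGroup.eq, smul_eq_mul] at hb
    refine ⟨b, b.2, ((b : G) * w)⁻¹ * g, hb, ?_⟩
    group
  · have h5 : k * I = k + n := by
      have : k * (I - 1) + k = k * I := by
        rw [← Nat.mul_succ]
        congr 1
        omega
      omega
    calc k * Nat.card G = k * (n * I) := by rw [hGB]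
      _ = n * (k * I) := by ring
      _ = n * (k + n) := by rw [h5]

end Cfsg.Agent.Lib.Helper7.U33D
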