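import Mathlib
import Cfsg.Prelude
import Cfsg.Agent.Lib.Helper1.SUCenter
import Cfsg.Agent.Lib.Helper7.L33Spec

set_option autoImplicit false

/-!
The set of element orders of `PSU(3,3)` is `{1,2,3,4,6,7,8,12}`.
-/

namespace Cfsg.Agent.Lib.Helper7.U33

open Polynomial Matrix

section general

variable {F : Type*} [Field F]

/-- entrywise cube -/
def cub (A : Matrix (Fin 3) (Fin 3) F) : Matrix (Fin 3) (Fin 3) F := A.map (fun x => x ^ 3)

theorem herm_eq_dot (u v : Fin 3 → F) :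
    Cfsg.hermForm 3 F 3 u v = u ⬝ᵥ (fun i => v i ^ 3) := rfl

theorem unitary_of_preserves (A : Matrix (Fin 3) (Fin 3) F)
    (h : ∀ u v, Cfsg.hermForm 3 F 3 (A *ᵥ u) (A *ᵥ v) = Cfsg.hermForm 3 F 3 u v) :
    Aᵀ * cub A = 1 := by
  ext j k
  have h1 := h (Pi.single j 1) (Pi.single k 1)
  rw [Matrix.mulVec_single_one, Matrix.mulVec_single_one] at h1
  rw [Matrix.mul_apply]
  simp only [Matrix.transpose_apply, cub, Matrix.map_apply]
  simp only [Cfsg.hermForm, Matrix.col_apply] at h1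
  rw [h1, Matrix.one_apply]
  by_cases hjk : j = k
  · subst hjk
    simp [Pi.single_apply]
  · rw [if_neg hjk]
    apply Finset.sum_eq_zero
    intro i _
    by_cases hij : i = j
    · subst hij
      rw [Pi.single_eq_of_ne hjk]
      simp
    · rw [Pi.single_eq_of_ne hij]
      simp

theorem cub_mulVec [CharP F 3] (A : Matrix (Fin 3) (Fin 3) F) (v : Fin 3 → F) :
    (fun i => (A *ᵥ v) i ^ 3) = cub A *ᵥ (fun i => v i ^ 3) := by
  haveI : Fact (Nat.Prime 3) := ⟨Nat.prime_three⟩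
  funext i
  simp only [Matrix.mulVec, dotProduct, cub, Matrix.map_apply]
  rw [sum_pow_char]
  apply Finset.sum_congr rfl
  intro j _
  rw [mul_pow]

theorem preserves_of_unitary [CharP F 3] (A : Matrix (Fin 3) (Fin 3) F) (h : Aᵀ * cub A = 1)
    (u v : Fin 3 → F) :
    Cfsg.hermForm 3 F 3 (A *ᵥ u) (A *ᵥ v) = Cfsg.hermForm 3 F 3 u v := by
  rw [herm_eq_dot, herm_eq_dot, cub_mulVec, Matrix.dotProduct_mulVec, ← Matrix.vecMul_transpose,
    Matrix.vecMul_vecMul, h, Matrix.vecMul_one]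

theorem charpoly_coeff_one (A : Matrix (Fin 3) (Fin 3) F) (hdet : A.det = 1) :
    A.charpoly.coeff 1 = Matrix.trace A⁻¹ := by
  have hu : IsUnit A := by
    rw [Matrix.isUnit_iff_isUnit_det, hdet]; exact isUnit_one
  have h := Matrix.charpoly_inv A hu
  rw [hdet, Ring.inverse_one, ← Matrix.reverse_charpoly] at h
  have h2 := Matrix.trace_eq_neg_charpoly_coeff A⁻¹
  rw [h] at h2
  have h3 : Fintype.card (Fin 3) = 3 := rfl
  rw [h3] at h2
  have hdeg : A.charpoly.natDegree = 3 := by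
    rw [Matrix.charpoly_natDegree_eq_dim]; rfl
  have h4 : ((-1 : F[X]) ^ 3 * C 1 * A.charpoly.reverse).coeff (3 - 1)
      = - A.charpoly.coeff 1 := by
    have : ((-1 : F[X]) ^ 3 * C 1 * A.charpoly.reverse) = - A.charpoly.reverse := by
      rw [map_one]; ring
    rw [this, Polynomial.coeff_neg, Polynomial.coeff_reverse, hdeg,
      Polynomial.revAt_le (by norm_num)]
  rw [h4, neg_neg] at h2
  exact h2.symm

theorem trace_inv_of_unitary [CharP F 3] (A : Matrix (Fin 3) (Fin 3) F)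
    (hU : Aᵀ * cub A = 1) : Matrix.trace A⁻¹ = (Matrix.trace A) ^ 3 := by
  haveI : Fact (Nat.Prime 3) := ⟨Nat.prime_three⟩
  have h1 : (cub A)ᵀ * A = 1 := by
    have := congrArg Matrix.transpose hU
    rwa [Matrix.transpose_mul, Matrix.transpose_transpose, Matrix.transpose_one] at this
  rw [Matrix.inv_eq_left_inv h1, Matrix.trace_transpose]
  simp only [Matrix.trace, Matrix.diag_apply, cub, Matrix.map_apply]
  rw [sum_pow_char]

end general

section upper

variable {F : Type*} [Field F] [Fintype F]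

theorem charP_of_card (hF : Fintype.card F = 9) : CharP F 3 := by
  haveI : Fact (Nat.Prime 3) := ⟨Nat.prime_three⟩
  exact charP_of_card_eq_prime_pow (f := 2) (by rw [hF]; norm_num)

theorem charpoly_eq (hF : Fintype.card F = 9) (A : Matrix (Fin 3) (Fin 3) F) (hdet : A.det = 1)
    (hU : Aᵀ * cub A = 1) :
    A.charpoly = X ^ 3 - C (Matrix.trace A) * X ^ 2 + C (Matrix.trace A) ^ 3 * X - 1 := by
  haveI := charP_of_card hF
  have h := L33.charpoly_eq A hdet
  have h2 := Matrix.trace_eq_neg_charpoly_coeff A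
  have h3 : Fintype.card (Fin 3) = 3 := rfl
  rw [h3] at h2
  have h2' : A.charpoly.coeff 2 = - Matrix.trace A := by
    rw [h2]; simp
  rw [h2', charpoly_coeff_one A hdet, trace_inv_of_unitary A hU] at h
  rw [h, map_neg, map_pow]
  ring

theorem pow_cases (hF : Fintype.card F = 9) (A : Matrix (Fin 3) (Fin 3) F) (hdet : A.det = 1)
    (hU : Aᵀ * cub A = 1) :
    A ^ 3 = 1 ∨ A ^ 4 = 1 ∨ A ^ 6 = 1 ∨ A ^ 8 = 1 ∨ A ^ 7 = 1 ∨ A ^ 12 = 1 := by
  haveI := charP_of_card hF
  have h3F : (3 : F) = 0 := by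
    have := CharP.cast_eq_zero F 3
    exact_mod_cast this
  have h3 : (3 : F[X]) = 0 := by
    rw [← map_ofNat (C : F →+* F[X]) 3, h3F, map_zero]
  have hχ := charpoly_eq hF A hdet hU
  set t := Matrix.trace A with ht
  set T : F[X] := C t with hT
  have h9 : t ^ 9 = t := by
    have := FiniteField.pow_card t
    rwa [hF] at this
  have hfac : t * (t - 1) * (t + 1) * (t ^ 2 + 1) * (t ^ 2 + t - 1) * (t ^ 2 - t - 1) = 0 := by
    linear_combination h9 + (t ^ 3 - t ^ 7) * h3F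
  have lift : ∀ x : F, x = 0 → (C x : F[X]) = 0 := fun x hx => by rw [hx, map_zero]
  rcases mul_eq_zero.mp hfac with hfac | hm
  rcases mul_eq_zero.mp hfac with hfac | hm
  rcases mul_eq_zero.mp hfac with hfac | hm
  rcases mul_eq_zero.mp hfac with hfac | hm
  rcases mul_eq_zero.mp hfac with hm | hm
  · -- t = 0
    have hm' : T = 0 := lift _ hm
    left
    exact L33.pow_eq_one_of_dvd A 3 (1) (by
      rw [hχ]; linear_combination (-T ^ 2 * X + X ^ 2) * hm')
  · -- t - 1 = 0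
    have hm' : T - 1 = 0 := by simpa [hT] using lift _ hm
    right; left
    exact L33.pow_eq_one_of_dvd A 4 (1 + X) (by
      rw [hχ]
      linear_combination (-X - T * X - T ^ 2 * X - T * X ^ 2 - T ^ 2 * X ^ 2 + X ^ 3) * hm')
  · -- t + 1 = 0
    have hm' : T + 1 = 0 := by simpa [hT] using lift _ hm
    right; right; left
    exact L33.pow_eq_one_of_dvd A 6 (1 - X - X ^ 2 + X ^ 3) (by
      rw [hχ]
      linear_combination (-X ^ 2 + X ^ 4) * h3 + (-X + T * X - T ^ 2 * X + 2 * X ^ 2 - T * X ^ 2 + T ^ 2 * X ^ 2 - T * X ^ 3 + T ^ 2 * X ^ 3 - 2 * X ^ 4 + T * X ^ 4 - T ^ 2 * X ^ 4 + X ^ 5) * hm')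
  · -- t^2 + 1 = 0
    have hm' : T ^ 2 + 1 = 0 := by simpa [hT] using lift _ hm
    right; right; right; left
    exact L33.pow_eq_one_of_dvd A 8
      (1 - T * X - X ^ 2 - T * X ^ 2 - X ^ 3 + T * X ^ 3 + T * X ^ 4 + X ^ 5) (by
      rw [hχ]
      linear_combination (-T * X - X ^ 2 + T ^ 2 * X ^ 2 - 2 * X ^ 3 + T * X ^ 3 + T ^ 2 * X ^ 3 + T * X ^ 4 - T ^ 2 * X ^ 4 + 2 * X ^ 5 - T ^ 2 * X ^ 5 + X ^ 6 - T * X ^ 6) * hm')
  · -- t^2 + t - 1 = 0
    have hm' : T ^ 2 + T - 1 = 0 := by simpa [hT] using lift _ hm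
    right; right; right; right; left
    exact L33.pow_eq_one_of_dvd A 7
      (1 - X - T * X - X ^ 2 + T * X ^ 3 + X ^ 4) (by
      rw [hχ]
      linear_combination (-T * X - X ^ 3 + T * X ^ 3 + T * X ^ 4 + X ^ 5 - T * X ^ 5) * h3 + (X - T * X + X ^ 2 + T ^ 2 * X ^ 2 - 2 * X ^ 3 + T * X ^ 3 - 2 * X ^ 4 + T * X ^ 4 - T ^ 2 * X ^ 4 + 2 * X ^ 5 - T * X ^ 5) * hm')
  · -- t^2 - t - 1 = 0
    have hm' : T ^ 2 - T - 1 = 0 := by simpa [hT] using lift _ hm
    right; right; right; right; right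
    exact L33.pow_eq_one_of_dvd A 12
      (1 + X - T * X - X ^ 2 + T * X ^ 2 + T * X ^ 3 - X ^ 4 - T * X ^ 4 + X ^ 5 + T * X ^ 5 + X ^ 6 - T * X ^ 6 - T * X ^ 7 + T * X ^ 8 + X ^ 9) (by
      rw [hχ]
      linear_combination (-T * X + T * X ^ 2 - X ^ 3 - X ^ 4 - T * X ^ 4 + 2 * X ^ 5 + 2 * T * X ^ 5 - X ^ 6 - 3 * T * X ^ 6 + X ^ 7 + T * X ^ 7 + T * X ^ 8 - X ^ 9 - T * X ^ 9) * h3 + (-X - T * X + X ^ 2 + T ^ 2 * X ^ 2 - 2 * X ^ 3 - T ^ 2 * X ^ 3 - X ^ 4 - T * X ^ 4 - T ^ 2 * X ^ 4 + 4 * X ^ 5 + 2 * T * X ^ 5 + T ^ 2 * X ^ 5 - 4 * X ^ 6 - 2 * T * X ^ 6 - T ^ 2 * X ^ 6 + 2 * X ^ 7 + T ^ 2 * X ^ 7 + X ^ 8 + T * X ^ 8 + T ^ 2 * X ^ 8 - 3 * X ^ 9 - T * X ^ 9 - T ^ 2 * X ^ 9 - T * X ^ 10) * hm')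

end upper

section lower

/-- the field with 9 elements, `𝔽₃[ω]/(ω² + 1)` -/
abbrev K9 : Type := QuadraticAlgebra (ZMod 3) (-1) 0

instance : Fact (∀ r : ZMod 3, r ^ 2 ≠ -1 + 0 * r) := ⟨by decide⟩

/-- the square root of `-1` -/
def w : K9 := ⟨0, 1⟩

def B8 : Matrix (Fin 3) (Fin 3) K9 := !![0,0,1; 0,w,0; w,0,0]
def B7 : Matrix (Fin 3) (Fin 3) K9 := !![0,1+w,2+w; 0,1+w,1+2*w; 1,0,0]
def B12 : Matrix (Fin 3) (Fin 3) K9 := !![0,1+w,1+w; 0,2+w,1+2*w; 1,0,0]

set_option maxRecDepth 100000 in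
theorem b8_facts : B8 ^ 8 = 1 ∧ B8 ^ 4 ≠ 1 ∧ B8.det = 1 ∧
    B8.transpose * B8.map (fun x => x ^ 3) = 1 := by decide +kernel
set_option maxRecDepth 100000 in
theorem b7_facts : B7 ^ 7 = 1 ∧ B7 ≠ 1 ∧ B7.det = 1 ∧
    B7.transpose * B7.map (fun x => x ^ 3) = 1 := by decide +kernel
set_option maxRecDepth 100000 in
theorem b12_facts : B12 ^ 12 = 1 ∧ B12 ^ 4 ≠ 1 ∧ B12 ^ 6 ≠ 1 ∧ B12.det = 1 ∧
    B12.transpose * B12.map (fun x => x ^ 3) = 1 := by decide +kernel

variable {F : Type*} [Field F] [Fintype F]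

theorem exists_hom (hF : Fintype.card F = 9) : ∃ φ : K9 →+* F, Function.Injective φ := by
  haveI := charP_of_card hF
  have hsq : IsSquare (-1 : F) := by
    rw [FiniteField.isSquare_neg_one_iff, hF]; norm_num
  obtain ⟨i, hi⟩ := hsq
  letI : Algebra (ZMod 3) F := ZMod.algebra F 3
  have hi' : i * i = (-1 : ZMod 3) • (1 : F) + (0 : ZMod 3) • i := by
    rw [neg_smul, one_smul, zero_smul, add_zero, ← hi]
  let ψ : K9 →ₐ[ZMod 3] F := QuadraticAlgebra.lift ⟨i, hi'⟩
  exact ⟨ψ.toRingHom, ψ.toRingHom.injective⟩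

/-- transport of a unitary matrix of determinant one along a ring homomorphism -/
theorem map_facts (φ : K9 →+* F) (B : Matrix (Fin 3) (Fin 3) K9) (hdet : B.det = 1)
    (hU : B.transpose * B.map (fun x => x ^ 3) = 1) :
    (B.map φ).det = 1 ∧ (B.map φ)ᵀ * cub (B.map φ) = 1 := by
  constructor
  · have := RingHom.map_det φ B
    rw [hdet, map_one] at this
    exact this.symm
  · have h1 : cub (B.map φ) = (B.map (fun x => x ^ 3)).map φ := by
      ext a b
      simp [cub, Matrix.map_apply]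
    rw [h1, ← Matrix.transpose_map, ← Matrix.map_mul, hU]
    exact Matrix.map_one φ (map_zero φ) (map_one φ)

theorem map_pow_eq (φ : K9 →+* F) (B : Matrix (Fin 3) (Fin 3) K9) (k : ℕ) :
    (B.map φ) ^ k = (B ^ k).map φ := by
  have := map_pow φ.mapMatrix B k
  simpa [RingHom.mapMatrix_apply] using this.symm

theorem map_pow_eq_one_iff (φ : K9 →+* F) (hφ : Function.Injective φ)
    (B : Matrix (Fin 3) (Fin 3) K9) (k : ℕ) :
    (B.map φ) ^ k = 1 ↔ B ^ k = 1 := by
  rw [map_pow_eq]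
  have h1 : (1 : Matrix (Fin 3) (Fin 3) K9).map φ = 1 :=
    Matrix.map_one φ (map_zero φ) (map_one φ)
  constructor
  · intro h
    rw [← h1] at h
    exact Matrix.map_injective hφ h
  · intro h
    rw [h, h1]

end lower

section main

variable {F : Type*} [Field F] [Fintype F]

open Cfsg.Agent.Lib.Helper1.SUCenter

theorem su_pow_eq_one_iff (g : Cfsg.SU 3 F 3) (k : ℕ) :
    g ^ k = 1 ↔
      ((g : Matrix.SpecialLinearGroup (Fin 3) F) : Matrix (Fin 3) (Fin 3) F) ^ k = 1 := by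
  constructor
  · intro h
    have := congrArg (fun z : Cfsg.SU 3 F 3 =>
      ((z : Matrix.SpecialLinearGroup (Fin 3) F) : Matrix (Fin 3) (Fin 3) F)) h
    simpa using this
  · intro h
    apply SU_ext
    simpa using h

theorem su_orderOf_mem (hF : Fintype.card F = 9) (g : Cfsg.SU 3 F 3) :
    orderOf g ∈ ({1, 2, 3, 4, 6, 7, 8, 12} : Set ℕ) := by
  haveI := charP_of_card hF
  set A := ((g : Matrix.SpecialLinearGroup (Fin 3) F) : Matrix (Fin 3) (Fin 3) F) with hA
  have hdet : A.det = 1 := (g : Matrix.SpecialLinearGroup (Fin 3) F).2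
  have hU : Aᵀ * cub A = 1 := unitary_of_preserves A (SU_preserves g)
  have hdiv : ∀ k : ℕ, k ≠ 0 → A ^ k = 1 → orderOf g ∈ Nat.divisors k :=
    fun k hk h => Nat.mem_divisors.mpr
      ⟨orderOf_dvd_of_pow_eq_one ((su_pow_eq_one_iff g k).mpr h), hk⟩
  rcases pow_cases hF A hdet hU with h | h | h | h | h | h
  · have hm := hdiv 3 (by norm_num) h
    have hd : Nat.divisors 3 = {1, 3} := by decide
    rw [hd] at hm
    simp only [Finset.mem_insert, Finset.mem_singleton] at hm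
    rcases hm with h | h <;> rw [h] <;> simp
  · have hm := hdiv 4 (by norm_num) h
    have hd : Nat.divisors 4 = {1, 2, 4} := by decide
    rw [hd] at hm
    simp only [Finset.mem_insert, Finset.mem_singleton] at hm
    rcases hm with h | h | h <;> rw [h] <;> simp
  · have hm := hdiv 6 (by norm_num) h
    have hd : Nat.divisors 6 = {1, 2, 3, 6} := by decide
    rw [hd] at hm
    simp only [Finset.mem_insert, Finset.mem_singleton] at hm
    rcases hm with h | h | h | h <;> rw [h] <;> simp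
  · have hm := hdiv 8 (by norm_num) h
    have hd : Nat.divisors 8 = {1, 2, 4, 8} := by decide
    rw [hd] at hm
    simp only [Finset.mem_insert, Finset.mem_singleton] at hm
    rcases hm with h | h | h | h <;> rw [h] <;> simp
  · have hm := hdiv 7 (by norm_num) h
    have hd : Nat.divisors 7 = {1, 7} := by decide
    rw [hd] at hm
    simp only [Finset.mem_insert, Finset.mem_singleton] at hm
    rcases hm with h | h <;> rw [h] <;> simp
  · have hm := hdiv 12 (by norm_num) h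
    have hd : Nat.divisors 12 = {1, 2, 3, 4, 6, 12} := by decide
    rw [hd] at hm
    simp only [Finset.mem_insert, Finset.mem_singleton] at hm
    rcases hm with h | h | h | h | h | h <;> rw [h] <;> simp

/-- In any group with elements of orders 7, 8, 12 all of `1,2,3,4,6,7,8,12` are element orders. -/
theorem orders_of_three {G : Type*} [Group G] (a b c : G) (ha : orderOf a = 8)
    (hb : orderOf b = 12) (hc : orderOf c = 7) :
    ({1, 2, 3, 4, 6, 7, 8, 12} : Set ℕ) ⊆ Set.range (orderOf : G → ℕ) := by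
  intro n hn
  simp only [Set.mem_insert_iff, Set.mem_singleton_iff] at hn
  rcases hn with rfl | rfl | rfl | rfl | rfl | rfl | rfl | rfl
  · exact ⟨1, orderOf_one⟩
  · exact ⟨a ^ 4, by rw [orderOf_pow_of_dvd (by norm_num) (by rw [ha]; norm_num), ha]⟩
  · exact ⟨b ^ 4, by rw [orderOf_pow_of_dvd (by norm_num) (by rw [hb]; norm_num), hb]⟩
  · exact ⟨a ^ 2, by rw [orderOf_pow_of_dvd (by norm_num) (by rw [ha]; norm_num), ha]⟩
  · exact ⟨b ^ 2, by rw [orderOf_pow_of_dvd (by norm_num) (by rw [hb]; norm_num), hb]⟩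
  · exact ⟨c, hc⟩
  · exact ⟨a, ha⟩
  · exact ⟨b, hb⟩

theorem su_spectrum (hF : Fintype.card F = 9) :
    Set.range (orderOf : Cfsg.SU 3 F 3 → ℕ) = {1, 2, 3, 4, 6, 7, 8, 12} := by
  haveI := charP_of_card hF
  apply Set.Subset.antisymm
  · rintro _ ⟨g, rfl⟩
    exact su_orderOf_mem hF g
  · obtain ⟨φ, hφ⟩ := exists_hom hF
    have f8 := map_facts φ B8 b8_facts.2.2.1 b8_facts.2.2.2
    have f7 := map_facts φ B7 b7_facts.2.2.1 b7_facts.2.2.2
    have f12 := map_facts φ B12 b12_facts.2.2.2.1 b12_facts.2.2.2.2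
    let g8 : Cfsg.SU 3 F 3 := mkSU (B8.map φ) f8.1 (preserves_of_unitary _ f8.2)
    let g7 : Cfsg.SU 3 F 3 := mkSU (B7.map φ) f7.1 (preserves_of_unitary _ f7.2)
    let g12 : Cfsg.SU 3 F 3 := mkSU (B12.map φ) f12.1 (preserves_of_unitary _ f12.2)
    have key : ∀ (B : Matrix (Fin 3) (Fin 3) K9) (hd) (hp) (k : ℕ),
        (mkSU (q := 3) (B.map φ) hd hp) ^ k = 1 ↔ B ^ k = 1 := by
      intro B hd hp k
      rw [su_pow_eq_one_iff, mkSU_coe, map_pow_eq_one_iff φ hφ]
    have o8 : orderOf g8 = 8 := by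
      haveI : Fact (Nat.Prime 2) := ⟨Nat.prime_two⟩
      have h4 : ¬ g8 ^ 2 ^ 2 = 1 := by
        rw [key]; exact b8_facts.2.1
      have h8 : g8 ^ 2 ^ (2 + 1) = 1 := by
        rw [key]; exact b8_facts.1
      exact orderOf_eq_prime_pow h4 h8
    have o7 : orderOf g7 = 7 := by
      haveI : Fact (Nat.Prime 7) := ⟨by norm_num⟩
      apply orderOf_eq_prime
      · rw [key]; exact b7_facts.1
      · intro h
        have h1 : g7 ^ 1 = 1 := by rw [pow_one]; exact h
        rw [key, pow_one] at h1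
        exact b7_facts.2.1 h1
    have o12 : orderOf g12 = 12 := by
      have h12 : g12 ^ 12 = 1 := by rw [key]; exact b12_facts.1
      have h4 : g12 ^ 4 ≠ 1 := by rw [Ne, key]; exact b12_facts.2.1
      have h6 : g12 ^ 6 ≠ 1 := by rw [Ne, key]; exact b12_facts.2.2.1
      have hd : orderOf g12 ∣ 12 := orderOf_dvd_of_pow_eq_one h12
      have hm : orderOf g12 ∈ Nat.divisors 12 := Nat.mem_divisors.mpr ⟨hd, by norm_num⟩
      have h12' : Nat.divisors 12 = {1, 2, 3, 4, 6, 12} := by decide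
      rw [h12'] at hm
      simp only [Finset.mem_insert, Finset.mem_singleton] at hm
      have hpow : ∀ k m : ℕ, orderOf g12 = k → k ∣ m → g12 ^ m = 1 := by
        intro k m hk hkm
        rw [← hk] at hkm
        exact orderOf_dvd_iff_pow_eq_one.mp hkm
      rcases hm with h | h | h | h | h | h
      · exact absurd (hpow 1 4 h (by norm_num)) h4
      · exact absurd (hpow 2 4 h (by norm_num)) h4
      · exact absurd (hpow 3 6 h (by norm_num)) h6
      · exact absurd (hpow 4 4 h (by norm_num)) h4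
      · exact absurd (hpow 6 6 h (by norm_num)) h6
      · exact h
    exact orders_of_three g8 g12 g7 o8 o12 o7

theorem center_eq_bot (hF : Fintype.card F = 9) :
    Subgroup.center (Cfsg.SU 3 F 3) = ⊥ := by
  haveI := charP_of_card hF
  have hF' : Fintype.card F = 3 ^ 2 := by rw [hF]; norm_num
  rw [eq_bot_iff]
  intro g hg
  rw [Subgroup.mem_bot]
  have h1 := central_scalar hF' (le_refl 3) g hg 0
  have h2 := (scalar_props hF' g _ 0 h1).2
  set l := ((g : Matrix.SpecialLinearGroup (Fin 3) F) : Matrix (Fin 3) (Fin 3) F) 0 0 with hl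
  have h3F : (3 : F) = 0 := by
    have := CharP.cast_eq_zero F 3
    exact_mod_cast this
  have h3 : (l - 1) ^ 3 = 0 := by
    linear_combination h2 + (-l ^ 2 + l) * h3F
  have h4 : l = 1 := sub_eq_zero.mp (pow_eq_zero_iff (by norm_num) |>.mp h3)
  apply SU_ext
  rw [h1, h4, one_smul]
  rfl

theorem psu_spectrum (hF : Fintype.card F = 9) :
    Set.range (orderOf : Cfsg.PSU 3 F 3 → ℕ) = {1, 2, 3, 4, 6, 7, 8, 12} := by
  rw [← su_spectrum hF]
  have hinj : Function.Injective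
      (QuotientGroup.mk' (Subgroup.center (Cfsg.SU 3 F 3))) := by
    rw [← MonoidHom.ker_eq_bot_iff, QuotientGroup.ker_mk', center_eq_bot hF]
  ext n
  constructor
  · rintro ⟨x, rfl⟩
    obtain ⟨A, rfl⟩ := QuotientGroup.mk'_surjective _ x
    exact ⟨A, (orderOf_injective _ hinj A).symm⟩
  · rintro ⟨A, rfl⟩
    exact ⟨QuotientGroup.mk' _ A, orderOf_injective _ hinj A⟩

end main

end Cfsg.Agent.Lib.Helper7.U33
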