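import Mathlib
import Cfsg.Prelude
import Cfsg.Agent.Lib.Helper7.U33Spec

set_option autoImplicit false
set_option linter.style.haveILetI false
set_option linter.unusedSectionVars false

/-!
# The unitary group `SU(3,3)` with respect to the antidiagonal form, over an explicit field
-/

namespace Cfsg.Agent.Lib.Helper7.U33D

open Matrix Cfsg.Agent.Lib.Helper7.U33
open Matrix (SpecialLinearGroup)

instance instFintypeK9 : Fintype K9 :=
  Fintype.ofEquiv (ZMod 3 × ZMod 3)
    ⟨fun p => ⟨p.1, p.2⟩, fun x => (x.re, x.im), fun _ => rfl, fun _ => rfl⟩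

theorem card_K9 : Fintype.card K9 = 9 := by decide

instance instCharPK9 : CharP K9 3 := charP_of_card card_K9

/-- `3 × 3` matrices over the field with nine elements -/
abbrev M3 : Type := Matrix (Fin 3) (Fin 3) K9

/-- the antidiagonal form -/
def JJ : M3 := !![0, 0, 1; 0, 1, 0; 1, 0, 0]

theorem cub_mul (A B : M3) : cub (A * B) = cub A * cub B := by
  haveI : Fact (Nat.Prime 3) := ⟨Nat.prime_three⟩
  refine Matrix.ext fun i j => ?_
  simp only [cub, Matrix.map_apply, Matrix.mul_apply]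
  rw [sum_pow_char 3 Finset.univ]
  exact Finset.sum_congr rfl fun k _ => mul_pow _ _ _

theorem cub_one : cub (1 : M3) = 1 := by
  refine Matrix.ext fun i j => ?_
  simp only [cub, Matrix.map_apply, Matrix.one_apply]
  split_ifs
  · exact one_pow 3
  · exact zero_pow (by norm_num)

/-- the matrix of an element of the special linear group -/
def sm (g : SpecialLinearGroup (Fin 3) K9) : M3 := (g : Matrix (Fin 3) (Fin 3) K9)

theorem sm_mul (g h : SpecialLinearGroup (Fin 3) K9) : sm (g * h) = sm g * sm h :=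
  Matrix.SpecialLinearGroup.coe_mul g h

theorem sm_one : sm 1 = 1 := Matrix.SpecialLinearGroup.coe_one

/-- the unitary group of the antidiagonal form -/
def UJ : Subgroup (SpecialLinearGroup (Fin 3) K9) where
  carrier := {g | (sm g)ᵀ * JJ * cub (sm g) = JJ}
  mul_mem' := by
    intro a b ha hb
    show (sm (a * b))ᵀ * JJ * cub (sm (a * b)) = JJ
    rw [sm_mul, transpose_mul, cub_mul]
    calc (sm b)ᵀ * (sm a)ᵀ * JJ * (cub (sm a) * cub (sm b))
        = (sm b)ᵀ * ((sm a)ᵀ * JJ * cub (sm a)) * cub (sm b) := by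
          simp only [Matrix.mul_assoc]
      _ = JJ := by rw [ha, hb]
  one_mem' := by
    show (sm 1)ᵀ * JJ * cub (sm 1) = JJ
    rw [sm_one, cub_one, transpose_one, Matrix.one_mul, Matrix.mul_one]
  inv_mem' := by
    intro a ha
    show (sm a⁻¹)ᵀ * JJ * cub (sm a⁻¹) = JJ
    have h1 : sm a * sm a⁻¹ = 1 := by
      rw [← sm_mul, mul_inv_cancel, sm_one]
    have h2 : (sm a⁻¹)ᵀ * (sm a)ᵀ = 1 := by
      rw [← transpose_mul, h1, transpose_one]
    have h3 : cub (sm a) * cub (sm a⁻¹) = 1 := by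
      rw [← cub_mul, h1, cub_one]
    calc (sm a⁻¹)ᵀ * JJ * cub (sm a⁻¹)
        = (sm a⁻¹)ᵀ * ((sm a)ᵀ * JJ * cub (sm a)) * cub (sm a⁻¹) := by rw [ha]
      _ = ((sm a⁻¹)ᵀ * (sm a)ᵀ) * JJ * (cub (sm a) * cub (sm a⁻¹)) := by
          simp only [Matrix.mul_assoc]
      _ = JJ := by rw [h2, h3, Matrix.one_mul, Matrix.mul_one]

/-- the matrix of an element -/
def mat (g : UJ) : M3 := sm (g : SpecialLinearGroup (Fin 3) K9)

theorem mat_mul (g h : UJ) : mat (g * h) = mat g * mat h := rfl

theorem mat_one : mat (1 : UJ) = 1 := rfl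

theorem mat_injective : Function.Injective mat := by
  intro g h hgh
  apply Subtype.ext
  apply Subtype.ext
  exact hgh

theorem mat_det (g : UJ) : (mat g).det = 1 := (g : SpecialLinearGroup (Fin 3) K9).2

theorem mat_unitary (g : UJ) : (mat g)ᵀ * JJ * cub (mat g) = JJ := g.2

theorem mat_inv (g : UJ) : mat g⁻¹ = (mat g).adjugate := rfl

/-- an element from its matrix -/
def mk (A : M3) (hdet : A.det = 1) (hU : Aᵀ * JJ * cub A = JJ) : UJ := ⟨⟨A, hdet⟩, hU⟩

theorem mat_mk (A : M3) (hdet : A.det = 1) (hU : Aᵀ * JJ * cub A = JJ) :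
    mat (mk A hdet hU) = A := rfl

/-- the unitary relation, entry by entry -/
theorem rel (A : M3) (h : Aᵀ * JJ * cub A = JJ) (i j : Fin 3) :
    A 0 i * (A 2 j) ^ 3 + A 1 i * (A 1 j) ^ 3 + A 2 i * (A 0 j) ^ 3 = JJ i j := by
  have h1 := congrFun (congrFun h i) j
  rw [← h1]
  simp [Matrix.mul_apply, Fin.sum_univ_three, JJ, cub]
  ring

end Cfsg.Agent.Lib.Helper7.U33D
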