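import Mathlib
import Cfsg.Agent.Lib.Helper7.U33D6

set_option autoImplicit false
set_option linter.style.haveILetI false
set_option linter.unusedSectionVars false

/-!
# Explicit elements of the unitary group: the unipotent radical, the torus and the Weyl element
-/

namespace Cfsg.Agent.Lib.Helper7.U33D

open Matrix Cfsg.Agent.Lib.Helper7.U33
open Matrix (SpecialLinearGroup)

/-- the elements of the unipotent radical -/
def uM (a b : K9) : M3 := !![1, -a ^ 3, b; 0, 1, a; 0, 0, 1]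

/-- the elements of the torus -/
def hM (t : K9) : M3 := !![t, 0, 0; 0, t ^ 2, 0; 0, 0, t ^ 5]

/-- the Weyl element -/
def wM : M3 := !![0, 0, 1; 0, -1, 0; 1, 0, 0]

set_option maxRecDepth 100000 in
theorem u_facts : ∀ a b : K9, b + b ^ 3 + a * a ^ 3 = 0 →
    (uM a b).det = 1 ∧ (uM a b)ᵀ * JJ * cub (uM a b) = JJ := by decide +kernel

set_option maxRecDepth 100000 in
theorem h_facts : ∀ t : K9, t ≠ 0 →
    (hM t).det = 1 ∧ (hM t)ᵀ * JJ * cub (hM t) = JJ ∧ hM t * wM = wM * hM (t ^ 5) ∧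
      t ^ 5 ≠ 0 := by decide +kernel

set_option maxRecDepth 100000 in
theorem w_facts : wM.det = 1 ∧ wMᵀ * JJ * cub wM = JJ ∧ wM * wM = 1 := by decide +kernel

set_option maxRecDepth 100000 in
theorem t_shape : ∀ a x m y e : K9, a * y ^ 3 = 0 → a * e ^ 3 = 1 → e * x ^ 3 = 0 →
    a * m * e = 1 → x = 0 ∧ y = 0 ∧ m = a ^ 2 ∧ e = a ^ 5 ∧ a ≠ 0 := by decide +kernel

set_option maxRecDepth 100000 in
theorem real_facts : ∀ a b : K9, b + b ^ 3 + a * a ^ 3 = 0 →
    (b ^ 3 + (b ^ 3) ^ 3 + (-a) * (-a) ^ 3 = 0) ∧ uM a b * uM (-a) (b ^ 3) = 1 ∧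
    ∃ t ∈ ([-1, 1 + w] : List K9), ∃ c d : K9, d + d ^ 3 + c * c ^ 3 = 0 ∧ t ≠ 0 ∧
      (hM t * uM c d) * uM a b = uM (-a) (b ^ 3) * (hM t * uM c d) := by decide +kernel

set_option maxRecDepth 100000 in
theorem wuw_facts : ∀ a b : K9, b + b ^ 3 + a * a ^ 3 = 0 →
    (wM * uM a b * wM) 1 0 = 0 → (wM * uM a b * wM) 2 0 = 0 → a = 0 ∧ b = 0 := by
  decide +kernel

/-- the parameters of the unipotent radical -/
abbrev P27 : Type := {p : K9 × K9 // p.2 + p.2 ^ 3 + p.1 * p.1 ^ 3 = 0}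

set_option maxRecDepth 100000 in
theorem card_P27 : Fintype.card P27 = 27 := by decide +kernel

set_option maxRecDepth 100000 in
theorem noncomm_facts : wM * hM (1 + w) ≠ hM (1 + w) * wM ∧ (1 + w : K9) ≠ 0 := by
  decide +kernel

theorem uM_inj {a b a' b' : K9} (h : uM a b = uM a' b') : a = a' ∧ b = b' := by
  have h1 := congrFun (congrFun h 1) 2
  have h2 := congrFun (congrFun h 0) 2
  simp [uM] at h1 h2
  exact ⟨h1, h2⟩

end Cfsg.Agent.Lib.Helper7.U33D
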