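import Mathlib
import Cfsg.Prelude
import Cfsg.Agent.Lib.Helper7.U33D6
import Cfsg.Agent.S0280
import Cfsg.Agent.S0283

set_option autoImplicit false
set_option linter.style.haveILetI false
set_option linter.unusedSectionVars false

/-!
# `PSU(3,F)` for a field with nine elements is isomorphic to the unitary group of the
antidiagonal form over the explicit field; its order, simplicity and element orders
-/

namespace Cfsg.Agent.Lib.Helper7.U33D

open Matrix Cfsg.Agent.Lib.Helper7.U33 Cfsg.Agent.Lib.Helper1.SUCenter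
open Matrix (SpecialLinearGroup)

section transfer

variable {K L : Type*} [Field K] [Field L]

theorem cub_map (f : K →+* L) (A : Matrix (Fin 3) (Fin 3) K) :
    cub (A.map f) = (cub A).map f := by
  refine Matrix.ext fun i j => ?_
  simp [cub, Matrix.map_apply]

theorem map_unitary (f : K →+* L) (A : Matrix (Fin 3) (Fin 3) K) (h : Aᵀ * cub A = 1) :
    (A.map f)ᵀ * cub (A.map f) = 1 := by
  rw [cub_map, ← Matrix.transpose_map, ← Matrix.map_mul, h]
  exact Matrix.map_one f (map_zero f) (map_one f)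

theorem map_det_one (f : K →+* L) (A : Matrix (Fin 3) (Fin 3) K) (h : A.det = 1) :
    (A.map f).det = 1 := by
  have := RingHom.map_det f A
  rw [h, map_one] at this
  exact this.symm

end transfer

section su

variable {K L : Type*} [Field K] [Fintype K] [Field L] [Fintype L]

/-- the matrix of an element of `SU` -/
def suMat (g : Cfsg.SU 3 K 3) : Matrix (Fin 3) (Fin 3) K :=
  ((g : Matrix.SpecialLinearGroup (Fin 3) K) : Matrix (Fin 3) (Fin 3) K)

theorem suMat_mul (g h : Cfsg.SU 3 K 3) : suMat (g * h) = suMat g * suMat h :=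
  Matrix.SpecialLinearGroup.coe_mul _ _

theorem suMat_det (g : Cfsg.SU 3 K 3) : (suMat g).det = 1 :=
  (g : Matrix.SpecialLinearGroup (Fin 3) K).2

theorem suMat_unitary (g : Cfsg.SU 3 K 3) : (suMat g)ᵀ * cub (suMat g) = 1 :=
  unitary_of_preserves _ (SU_preserves g)

/-- transport of `SU` along a field homomorphism -/
def suMap [CharP L 3] (f : K →+* L) (g : Cfsg.SU 3 K 3) : Cfsg.SU 3 L 3 :=
  mkSU ((suMat g).map f) (map_det_one f _ (suMat_det g))
    (preserves_of_unitary _ (map_unitary f _ (suMat_unitary g)))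

theorem suMat_suMap [CharP L 3] (f : K →+* L) (g : Cfsg.SU 3 K 3) :
    suMat (suMap f g) = (suMat g).map f := rfl

/-- `SU` over isomorphic fields -/
def suEquiv [CharP K 3] [CharP L 3] (φ : K ≃+* L) : Cfsg.SU 3 K 3 ≃* Cfsg.SU 3 L 3 where
  toFun := suMap (φ : K →+* L)
  invFun := suMap (φ.symm : L →+* K)
  left_inv g := by
    apply SU_ext
    show suMat (suMap _ (suMap _ g)) = suMat g
    rw [suMat_suMap, suMat_suMap, Matrix.map_map]
    refine Matrix.ext fun i j => ?_
    simp
  right_inv g := by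
    apply SU_ext
    show suMat (suMap _ (suMap _ g)) = suMat g
    rw [suMat_suMap, suMat_suMap, Matrix.map_map]
    refine Matrix.ext fun i j => ?_
    simp
  map_mul' g h := by
    apply SU_ext
    show suMat (suMap _ (g * h)) = suMat (suMap _ g * suMap _ h)
    rw [suMat_mul, suMat_suMap, suMat_suMap, suMat_suMap, suMat_mul, Matrix.map_mul]

end su

/-- the change of basis to an isotropic basis -/
def P0 : M3 := !![1, 0, -1; 1 + w, 0, 1 + w; 0, 1, 0]

/-- the inverse change of basis -/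
def Q0 : M3 := JJ * (cub P0)ᵀ

set_option maxRecDepth 100000 in
theorem pq_facts : Q0 * P0 = 1 ∧ P0 * Q0 = 1 ∧ P0ᵀ * cub P0 = JJ ∧ Q0ᵀ * JJ * cub Q0 = 1 ∧
    Q0.det * P0.det = 1 := by decide +kernel

theorem conj_unitary (A : M3) (h : Aᵀ * cub A = 1) :
    (Q0 * A * P0)ᵀ * JJ * cub (Q0 * A * P0) = JJ := by
  rw [cub_mul, cub_mul, transpose_mul, transpose_mul]
  calc P0ᵀ * (Aᵀ * Q0ᵀ) * JJ * (cub Q0 * cub A * cub P0)
      = P0ᵀ * (Aᵀ * (Q0ᵀ * JJ * cub Q0) * cub A) * cub P0 := by simp only [Matrix.mul_assoc]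
    _ = JJ := by
      rw [pq_facts.2.2.2.1, Matrix.mul_one, h, Matrix.mul_one, pq_facts.2.2.1]

theorem conj_unitary' (B : M3) (h : Bᵀ * JJ * cub B = JJ) :
    (P0 * B * Q0)ᵀ * cub (P0 * B * Q0) = 1 := by
  rw [cub_mul, cub_mul, transpose_mul, transpose_mul]
  calc Q0ᵀ * (Bᵀ * P0ᵀ) * (cub P0 * cub B * cub Q0)
      = Q0ᵀ * (Bᵀ * (P0ᵀ * cub P0) * cub B) * cub Q0 := by simp only [Matrix.mul_assoc]
    _ = 1 := by
      rw [pq_facts.2.2.1, h, pq_facts.2.2.2.1]

theorem conj_det (A : M3) (h : A.det = 1) : (Q0 * A * P0).det = 1 := by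
  rw [det_mul, det_mul, h, mul_one, pq_facts.2.2.2.2]

theorem conj_det' (B : M3) (h : B.det = 1) : (P0 * B * Q0).det = 1 := by
  rw [det_mul, det_mul, h, mul_one, mul_comm, pq_facts.2.2.2.2]

/-- `SU(3,3)` for the standard form is the unitary group of the antidiagonal form -/
def conjEquiv : Cfsg.SU 3 K9 3 ≃* UJ where
  toFun g := mk (Q0 * suMat g * P0) (conj_det _ (suMat_det g)) (conj_unitary _ (suMat_unitary g))
  invFun h := mkSU (P0 * mat h * Q0) (conj_det' _ (mat_det h))
    (preserves_of_unitary _ (conj_unitary' _ (mat_unitary h)))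
  left_inv g := by
    apply SU_ext
    show P0 * (Q0 * suMat g * P0) * Q0 = suMat g
    calc P0 * (Q0 * suMat g * P0) * Q0 = (P0 * Q0) * suMat g * (P0 * Q0) := by
          simp only [Matrix.mul_assoc]
      _ = suMat g := by rw [pq_facts.2.1, Matrix.one_mul, Matrix.mul_one]
  right_inv h := by
    apply mat_injective
    show Q0 * (P0 * mat h * Q0) * P0 = mat h
    calc Q0 * (P0 * mat h * Q0) * P0 = (Q0 * P0) * mat h * (Q0 * P0) := by
          simp only [Matrix.mul_assoc]
      _ = mat h := by rw [pq_facts.1, Matrix.one_mul, Matrix.mul_one]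
  map_mul' g h := by
    apply mat_injective
    show Q0 * suMat (g * h) * P0 = (Q0 * suMat g * P0) * (Q0 * suMat h * P0)
    rw [suMat_mul]
    calc Q0 * (suMat g * suMat h) * P0 = Q0 * suMat g * (1 : M3) * suMat h * P0 := by
          rw [Matrix.mul_one]
          simp only [Matrix.mul_assoc]
      _ = Q0 * suMat g * P0 * (Q0 * suMat h * P0) := by
          rw [← pq_facts.2.1]
          simp only [Matrix.mul_assoc]

variable {F : Type*} [Field F] [Fintype F]

theorem exists_ringEquiv (hF : Fintype.card F = 9) : Nonempty (K9 ≃+* F) := by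
  obtain ⟨φ, hφ⟩ := exists_hom hF
  have hbij : Function.Bijective φ := by
    rw [Fintype.bijective_iff_injective_and_card]
    exact ⟨hφ, by rw [card_K9, hF]⟩
  exact ⟨RingEquiv.ofBijective φ hbij⟩

/-- `PSU(3,F)` is the unitary group of the antidiagonal form -/
theorem exists_equiv (hF : Fintype.card F = 9) : Nonempty (Cfsg.PSU 3 F 3 ≃* UJ) := by
  haveI := charP_of_card hF
  obtain ⟨φ⟩ := exists_ringEquiv hF
  have e1 : Cfsg.PSU 3 F 3 ≃* Cfsg.SU 3 F 3 :=
    (QuotientGroup.quotientMulEquivOfEq (center_eq_bot hF)).trans QuotientGroup.quotientBot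
  exact ⟨e1.trans ((suEquiv φ).symm.trans conjEquiv)⟩

theorem card_UJ : Nat.card UJ = 6048 := by
  obtain ⟨e⟩ := exists_equiv (F := K9) card_K9
  rw [← Nat.card_congr e.toEquiv]
  have h := Cfsg.Agent.S0280.result (F := K9) (q := 3) (by rw [card_K9]; norm_num) 3 (by norm_num)
  have h2 : Nat.gcd 3 (3 + 1) = 1 := by decide
  rw [h2] at h
  simp only [Finset.prod_range_succ, Finset.prod_range_zero] at h
  norm_num at h
  omega

instance simple_UJ : IsSimpleGroup UJ := by
  obtain ⟨e⟩ := exists_equiv (F := K9) card_K9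
  haveI : IsSimpleGroup (Cfsg.PSU 3 K9 3) :=
    Cfsg.Agent.S0283.result (F := K9) (q := 3) (by rw [card_K9]; norm_num) 3 (by norm_num)
      (by norm_num)
  exact e.symm.isSimpleGroup

theorem orderOf_mem_UJ (g : UJ) : orderOf g ∈ ({1, 2, 3, 4, 6, 7, 8, 12} : Set ℕ) := by
  obtain ⟨e⟩ := exists_equiv (F := K9) card_K9
  rw [← psu_spectrum (F := K9) card_K9]
  exact ⟨e.symm g, (MulEquiv.orderOf_eq e.symm g)⟩

theorem exists_order_seven : ∃ x : UJ, orderOf x = 7 := by
  obtain ⟨e⟩ := exists_equiv (F := K9) card_K9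
  have h : (7 : ℕ) ∈ Set.range (orderOf : Cfsg.PSU 3 K9 3 → ℕ) := by
    rw [psu_spectrum (F := K9) card_K9]
    simp
  obtain ⟨y, hy⟩ := h
  exact ⟨e y, by rw [MulEquiv.orderOf_eq, hy]⟩

end Cfsg.Agent.Lib.Helper7.U33D
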