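import Mathlib
import Cfsg.Agent.Lib.Helper7.U33D5
import Cfsg.Agent.Lib.Helper7.U33D7
import Cfsg.Agent.Lib.Helper7.U33D8

set_option autoImplicit false
set_option linter.style.haveILetI false
set_option linter.unusedSectionVars false

/-!
# The Borel subgroup of the unitary group, its unipotent radical, and the Bruhat decomposition
-/

namespace Cfsg.Agent.Lib.Helper7.U33D

open Matrix Cfsg.Agent.Lib.Helper7.U33
open Matrix (SpecialLinearGroup)

/-- the unipotent elements -/
def uG (p : P27) : UJ := mk (uM p.1.1 p.1.2) (u_facts _ _ p.2).1 (u_facts _ _ p.2).2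

/-- the torus elements -/
def hG (t : K9) (ht : t ≠ 0) : UJ := mk (hM t) (h_facts t ht).1 (h_facts t ht).2.1

/-- the Weyl element -/
def wG : UJ := mk wM w_facts.1 w_facts.2.1

theorem mat_uG (p : P27) : mat (uG p) = uM p.1.1 p.1.2 := rfl

theorem mat_hG (t : K9) (ht : t ≠ 0) : mat (hG t ht) = hM t := rfl

theorem mat_wG : mat wG = wM := rfl

theorem wG_mul_self : wG * wG = 1 :=
  mat_injective (by rw [mat_mul, mat_wG, w_facts.2.2, mat_one])

theorem wG_inv : wG⁻¹ = wG := inv_eq_of_mul_eq_one_right wG_mul_self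

/-- the Borel subgroup -/
def BB : Subgroup UJ where
  carrier := {g | mat g 1 0 = 0 ∧ mat g 2 0 = 0}
  mul_mem' := by
    rintro g h ⟨hg1, hg2⟩ ⟨hh1, hh2⟩
    constructor
    · show mat (g * h) 1 0 = 0
      rw [mat_mul, Matrix.mul_apply, Fin.sum_univ_three, hg1, hh1, hh2]
      ring
    · show mat (g * h) 2 0 = 0
      rw [mat_mul, Matrix.mul_apply, Fin.sum_univ_three, hg2, hh1, hh2]
      ring
  one_mem' := by
    constructor
    · show mat 1 1 0 = 0
      rw [mat_one]
      exact Matrix.one_apply_ne (by decide)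
    · show mat 1 2 0 = 0
      rw [mat_one]
      exact Matrix.one_apply_ne (by decide)
  inv_mem' := by
    rintro g ⟨hg1, hg2⟩
    constructor
    · show mat g⁻¹ 1 0 = 0
      rw [mat_inv, Matrix.adjugate_fin_three]
      simp [hg1, hg2]
    · show mat g⁻¹ 2 0 = 0
      rw [mat_inv, Matrix.adjugate_fin_three]
      simp [hg1, hg2]

theorem mem_BB (g : UJ) : g ∈ BB ↔ mat g 1 0 = 0 ∧ mat g 2 0 = 0 := Iff.rfl

/-- the corner entry -/
def e00 : BB →* K9 where
  toFun b := mat b.1 0 0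
  map_one' := by
    show mat 1 0 0 = 1
    rw [mat_one]
    exact Matrix.one_apply_eq 0
  map_mul' a b := by
    show mat (a.1 * b.1) 0 0 = mat a.1 0 0 * mat b.1 0 0
    rw [mat_mul, Matrix.mul_apply, Fin.sum_univ_three, b.2.1, b.2.2]
    ring

/-- the corner entry, as a unit -/
def sigma : BB →* K9ˣ := e00.toHomUnits

theorem sigma_val (b : BB) : ((sigma b : K9ˣ) : K9) = mat b.1 0 0 := rfl

/-- the unipotent radical -/
def UU : Subgroup BB := sigma.ker

theorem mem_UU (b : BB) : b ∈ UU ↔ mat b.1 0 0 = 1 := by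
  unfold UU
  rw [MonoidHom.mem_ker, Units.ext_iff, sigma_val, Units.val_one]

theorem JJ01 : JJ 0 1 = 0 := by decide
theorem JJ02 : JJ 0 2 = 1 := by decide
theorem JJ21 : JJ 2 1 = 0 := by decide

/-- the elements fixing both isotropic points are the torus elements -/
theorem torus_eq (c : UJ) (h10 : mat c 1 0 = 0) (h20 : mat c 2 0 = 0) (h02 : mat c 0 2 = 0)
    (h12 : mat c 1 2 = 0) : mat c 0 0 ≠ 0 ∧ mat c = hM (mat c 0 0) := by
  have r01 := rel (mat c) (mat_unitary c) 0 1
  have r02 := rel (mat c) (mat_unitary c) 0 2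
  have r21 := rel (mat c) (mat_unitary c) 2 1
  have hd := mat_det c
  rw [Matrix.det_fin_three] at hd
  rw [JJ01, h10, h20] at r01
  rw [JJ02, h10, h20] at r02
  rw [JJ21, h02, h12] at r21
  rw [h10, h20, h02, h12] at hd
  have q1 : mat c 0 0 * mat c 2 1 ^ 3 = 0 := by linear_combination r01
  have q2 : mat c 0 0 * mat c 2 2 ^ 3 = 1 := by linear_combination r02
  have q3 : mat c 2 2 * mat c 0 1 ^ 3 = 0 := by linear_combination r21
  have q4 : mat c 0 0 * mat c 1 1 * mat c 2 2 = 1 := by linear_combination hd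
  obtain ⟨hx, hy, hm, he, ha⟩ := t_shape _ _ _ _ _ q1 q2 q3 q4
  refine ⟨ha, ?_⟩
  calc mat c = !![mat c 0 0, mat c 0 1, mat c 0 2; mat c 1 0, mat c 1 1, mat c 1 2;
        mat c 2 0, mat c 2 1, mat c 2 2] := Matrix.eta_fin_three (mat c)
    _ = hM (mat c 0 0) := by
      rw [hx, h02, h10, hm, h12, h20, hy, he]
      rfl

theorem wAw10 (A : M3) : (wM * A * wM) 1 0 = -A 1 2 := by
  simp only [Matrix.mul_apply, Fin.sum_univ_three]
  simp [wM]

theorem wAw20 (A : M3) : (wM * A * wM) 2 0 = A 0 2 := by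
  simp only [Matrix.mul_apply, Fin.sum_univ_three]
  simp [wM]

/-- the elements of the Borel subgroup which the Weyl element conjugates into the Borel
subgroup are determined by their corner entry -/
theorem torus_of_conj (c : UJ) (hc : c ∈ BB) (hw : wG⁻¹ * c * wG ∈ BB) :
    mat c 0 0 ≠ 0 ∧ mat c = hM (mat c 0 0) := by
  rw [wG_inv, mem_BB, mat_mul, mat_mul, mat_wG, wAw10, wAw20] at hw
  exact torus_eq c hc.1 hc.2 hw.2 (neg_eq_zero.mp hw.1)

theorem card_ne_zero : Fintype.card {t : K9 // t ≠ 0} = 8 := by decide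

theorem stab_card : Nat.card {b : BB // wG⁻¹ * (b : UJ) * wG ∈ BB} ≤ 8 := by
  rw [← card_ne_zero, ← Nat.card_eq_fintype_card]
  apply Nat.card_le_card_of_injective
    (fun b : {b : BB // wG⁻¹ * (b : UJ) * wG ∈ BB} =>
      (⟨mat b.1.1 0 0, (torus_of_conj b.1.1 b.1.2 b.2).1⟩ : {t : K9 // t ≠ 0}))
  intro b b' h
  have h1 : mat b.1.1 0 0 = mat b'.1.1 0 0 := congrArg Subtype.val h
  apply Subtype.ext
  apply Subtype.ext
  apply mat_injective
  rw [(torus_of_conj b.1.1 b.1.2 b.2).2, (torus_of_conj b'.1.1 b'.1.2 b'.2).2, h1]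

theorem uG_mem_BB (p : P27) : uG p ∈ BB := by
  rw [mem_BB, mat_uG]
  constructor <;> simp [uM]

theorem hG_mem_BB (t : K9) (ht : t ≠ 0) : hG t ht ∈ BB := by
  rw [mem_BB, mat_hG]
  constructor <;> simp [hM]

theorem wG_notMem_BB : wG ∉ BB := by
  rw [mem_BB, mat_wG]
  intro h
  have h2 : wM 2 0 = 1 := by decide
  rw [h2] at h
  exact one_ne_zero h.2

theorem uG_mem_UU (p : P27) : (⟨uG p, uG_mem_BB p⟩ : BB) ∈ UU := by
  rw [mem_UU]
  show mat (uG p) 0 0 = 1
  rw [mat_uG]
  simp [uM]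

theorem uG_injective : Function.Injective uG := by
  intro p q h
  have h1 := congrArg mat h
  rw [mat_uG, mat_uG] at h1
  obtain ⟨h2, h3⟩ := uM_inj h1
  exact Subtype.ext (Prod.ext h2 h3)

theorem sigma_surjective : Function.Surjective sigma := by
  intro t
  refine ⟨⟨hG (t : K9) t.ne_zero, hG_mem_BB _ _⟩, ?_⟩
  apply Units.ext
  rw [sigma_val]
  show mat (hG (t : K9) t.ne_zero) 0 0 = _
  rw [mat_hG]
  simp [hM]

theorem card_units_K9 : Nat.card K9ˣ = 8 := by
  rw [Nat.card_eq_fintype_card, Fintype.card_units, card_K9]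

theorem card_BB_eq : Nat.card BB = Nat.card UU * 8 := by
  rw [← UU.card_mul_index]
  congr 1
  unfold UU
  rw [Subgroup.index_ker, MonoidHom.range_eq_top.mpr sigma_surjective, Subgroup.card_top,
    card_units_K9]

theorem card_UU_ge : 27 ≤ Nat.card UU := by
  have h : Nat.card P27 = 27 := by rw [Nat.card_eq_fintype_card, card_P27]
  rw [← h]
  apply Nat.card_le_card_of_injective
    (fun p : P27 => (⟨⟨uG p, uG_mem_BB p⟩, uG_mem_UU p⟩ : UU))
  intro p q h
  apply uG_injective
  exact congrArg (fun u : UU => (u.1.1 : UJ)) h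

theorem bruhat : (∀ g : UJ, g ∉ BB → ∃ b₁ ∈ BB, ∃ b₂ ∈ BB, g = b₁ * wG * b₂) ∧
    Nat.card BB = 216 := by
  have h1 := card_UU_ge
  have h2 := card_BB_eq
  have h3 : 216 ≤ Nat.card BB := by omega
  have h4 := dc_of_card BB wG wG_notMem_BB 8 (by norm_num) stab_card
    (by rw [card_UJ]; nlinarith)
  refine ⟨h4.1, ?_⟩
  have h5 := h4.2
  rw [card_UJ] at h5
  nlinarith

theorem card_BB : Nat.card BB = 216 := bruhat.2

theorem card_UU : Nat.card UU = 27 := by
  have h1 := card_BB_eq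
  rw [card_BB] at h1
  omega

/-- every element of the unipotent radical is one of the explicit matrices -/
theorem exists_param (u : UU) : ∃ p : P27, (u.1.1 : UJ) = uG p := by
  have hbij : Function.Bijective
      (fun p : P27 => (⟨⟨uG p, uG_mem_BB p⟩, uG_mem_UU p⟩ : UU)) := by
    rw [Nat.bijective_iff_injective_and_card]
    refine ⟨?_, ?_⟩
    · intro p q h
      apply uG_injective
      exact congrArg (fun u : UU => (u.1.1 : UJ)) h
    · rw [card_UU, Nat.card_eq_fintype_card, card_P27]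
  obtain ⟨p, hp⟩ := hbij.2 u
  exact ⟨p, (congrArg (fun u : UU => (u.1.1 : UJ)) hp).symm⟩

end Cfsg.Agent.Lib.Helper7.U33D
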