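import Mathlib
import Cfsg.Prelude.Def_Characters
import Cfsg.Prelude.Def_Blocks
import Cfsg.Agent.Lib.Helper2.S3T1
import Cfsg.Agent.Lib.Helper2.S3T13
import Cfsg.Agent.Lib.Helper2.PermChar7
import Cfsg.Agent.Lib.Helper1.LinearChar
import Cfsg.Agent.Lib.Helper1.CharFound7
import Cfsg.Agent.Lib.Helper8.BlockUnion
import Cfsg.Agent.Lib.Helper8.Deflation
import Cfsg.Agent.Lib.Helper8.TwoClass
import Cfsg.Agent.Lib.Helper7.U33D1
import Cfsg.Agent.S0146
import Cfsg.Agent.S0148

set_option autoImplicit false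
set_option linter.style.haveILetI false
set_option linter.unusedSectionVars false

/-!
# Harish-Chandra induction from a subgroup with two double cosets
-/

namespace Cfsg.Agent.Lib.Helper7.U33D

open scoped ComplexConjugate
open Cfsg Cfsg.Agent.Lib.Helper1 Cfsg.Agent.Lib.Helper4 Cfsg.Agent.Lib.Helper8
  Cfsg.Agent.Lib.Helper2.S3T

universe u

/-- the average of a character over a group is a natural number -/
theorem nat_avg {H : Type u} [Group H] [Fintype H] {χ : H → ℂ} (hχ : IsCharacter H χ) :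
    ∃ c : ℕ, (c : ℂ) = (Nat.card H : ℂ)⁻¹ * ∑ h : H, χ h := by
  obtain ⟨c, hc⟩ := classInner_char_irr_nat hχ (trivIrr H).2
  refine ⟨c, ?_⟩
  rw [← hc, classInner_def]
  congr 1
  refine Finset.sum_congr rfl fun h _ => ?_
  rw [trivIrr_apply, map_one, mul_one]

/-- a sum over a set without involutions closed under inversion of an inversion-invariant function
is twice a partial sum -/
theorem pair_sum {U : Type*} [Group U] [DecidableEq U] (f : U → ℂ) :
    ∀ (n : ℕ) (s : Finset U), s.card = n → (∀ u ∈ s, u⁻¹ ∈ s) → (∀ u ∈ s, u⁻¹ ≠ u) →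
      (∀ u ∈ s, f u⁻¹ = f u) → ∃ t : Finset U, t ⊆ s ∧ ∑ u ∈ s, f u = 2 * ∑ u ∈ t, f u := by
  intro n
  induction n using Nat.strong_induction_on with
  | _ n ih =>
    intro s hcard hinv hne hf
    rcases s.eq_empty_or_nonempty with h | ⟨u, hu⟩
    · exact ⟨∅, by rw [h], by rw [h]; simp⟩
    · have hu' : u⁻¹ ∈ s.erase u := Finset.mem_erase.mpr ⟨hne u hu, hinv u hu⟩
      set s' := (s.erase u).erase u⁻¹ with hs'
      have hc1 : (s.erase u).card = n - 1 := by rw [Finset.card_erase_of_mem hu, hcard]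
      have hc2 : s'.card = n - 2 := by
        rw [hs', Finset.card_erase_of_mem hu', hc1]
        omega
      have hn : 2 ≤ n := by
        have := Finset.card_pos.mpr ⟨u⁻¹, hu'⟩
        omega
      have hsub : s' ⊆ s := (Finset.erase_subset _ _).trans (Finset.erase_subset _ _)
      have hmem : ∀ v, v ∈ s' ↔ v ∈ s ∧ v ≠ u ∧ v ≠ u⁻¹ := by
        intro v
        rw [hs', Finset.mem_erase, Finset.mem_erase]
        tauto
      obtain ⟨t, hts, ht⟩ := ih (n - 2) (by omega) s' hc2
        (by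
          intro v hv
          rw [hmem] at hv ⊢
          refine ⟨hinv v hv.1, ?_, ?_⟩
          · intro h
            apply hv.2.2
            rw [← h, inv_inv]
          · intro h
            exact hv.2.1 (inv_injective h))
        (fun v hv => hne v (hsub hv)) (fun v hv => hf v (hsub hv))
      refine ⟨insert u t, ?_, ?_⟩
      · intro v hv
        rcases Finset.mem_insert.mp hv with rfl | h
        · exact hu
        · exact hsub (hts h)
      · have hut : u ∉ t := fun h => ((hmem u).mp (hts h)).2.1 rfl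
        rw [Finset.sum_insert hut, ← Finset.add_sum_erase s f hu,
          ← Finset.add_sum_erase (s.erase u) f hu', ht, hf u hu]
        ring

variable {G : Type u} [Group G] [Fintype G]

/-- restriction to a subgroup of a subgroup, as a group homomorphism -/
abbrev incl (B : Subgroup G) (U : Subgroup B) : U →* G := B.subtype.comp U.subtype

theorem avg_ge_one {B : Type u} [Group B] [Fintype B] (U : Subgroup B) [Fintype U]
    {ρ : B → ℂ} (hρ : IsCharacter B ρ) (lam : B →* ℂˣ) (hlamU : ∀ u ∈ U, lam u = 1)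
    (hmult : classInner ρ (fun b => ((lam b : ℂˣ) : ℂ)) = 1) (a : ℕ)
    (ha : (a : ℂ) = (Nat.card U : ℂ)⁻¹ * ∑ u : U, ρ (u : B)) : 1 ≤ a := by
  classical
  haveI : Fintype (IrrCharacter B) := Fintype.ofFinite _
  have hcf := isClassFunction_of_isCharacter hρ
  have hexp := class_function_expansion ρ hcf
  have hm : ∀ θ : IrrCharacter B, ∃ m : ℕ, classInner ρ (θ : B → ℂ) = m :=
    fun θ => classInner_char_irr_nat hρ θ.2
  choose m hm using hm
  have hc : ∀ θ : IrrCharacter B, ∃ c : ℕ,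
      (c : ℂ) = (Nat.card U : ℂ)⁻¹ * ∑ u : U, (θ : B → ℂ) (u : B) :=
    fun θ => nat_avg (isCharacter_comp_hom (isCharacter_of_irr θ.2) U.subtype)
  choose c hc using hc
  have h1 : (a : ℂ) = ((∑ θ : IrrCharacter B, m θ * c θ : ℕ) : ℂ) := by
    rw [ha]
    push_cast
    have h2 : ∀ u : U, ρ (u : B) = ∑ θ : IrrCharacter B, (m θ : ℂ) * (θ : B → ℂ) (u : B) := by
      intro u
      conv_lhs => rw [hexp]
      rw [Finset.sum_apply]
      refine Finset.sum_congr rfl fun θ _ => ?_
      rw [Pi.smul_apply, smul_eq_mul, hm θ]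
    rw [Finset.sum_congr rfl fun u _ => h2 u, Finset.sum_comm, Finset.mul_sum]
    refine Finset.sum_congr rfl fun θ _ => ?_
    rw [hc θ, ← Finset.mul_sum]
    ring
  have h3 : a = ∑ θ : IrrCharacter B, m θ * c θ := by exact_mod_cast h1
  let θ₀ : IrrCharacter B := ⟨fun b => ((lam b : ℂˣ) : ℂ), isIrrCharacter_of_hom lam⟩
  have hm0 : m θ₀ = 1 := by
    have := hm θ₀
    rw [hmult] at this
    exact_mod_cast this.symm
  have hc0 : c θ₀ = 1 := by
    have h4 := hc θ₀
    have h5 : ∀ u : U, (θ₀ : B → ℂ) (u : B) = 1 := by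
      intro u
      show ((lam (u : B) : ℂˣ) : ℂ) = 1
      rw [hlamU u u.2, Units.val_one]
    rw [Finset.sum_congr rfl fun u _ => h5 u, Finset.sum_const, Finset.card_univ, nsmul_eq_mul,
      mul_one, ← Nat.card_eq_fintype_card, inv_mul_cancel₀] at h4
    · exact_mod_cast h4
    · exact Nat.cast_ne_zero.mpr Nat.card_pos.ne'
  rw [h3]
  calc 1 = m θ₀ * c θ₀ := by rw [hm0, hc0]
    _ ≤ ∑ θ : IrrCharacter B, m θ * c θ :=
      Finset.single_le_sum (f := fun θ => m θ * c θ) (fun _ _ => Nat.zero_le _)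
        (Finset.mem_univ θ₀)

/-- a character which is real on a group of odd order has degree congruent to its sum -/
theorem parity_of_real {H : Type u} [Group H] [Fintype H] (hodd : Odd (Nat.card H))
    {χ : H → ℂ} (hχ : IsCharacter H χ) (hreal : ∀ h : H, χ h⁻¹ = χ h) (d N : ℕ)
    (hd : χ 1 = d) (hsum : ∑ h : H, χ h = (N : ℂ)) : Even (N + d) := by
  classical
  have hne : ∀ h ∈ (Finset.univ.erase (1 : H)), h⁻¹ ≠ h := by
    intro h hh habs
    have h1 : h ≠ 1 := (Finset.mem_erase.mp hh).1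
    apply h1
    have h2 : h ^ 2 = 1 := by
      rw [pow_two]
      nth_rewrite 1 [← habs]
      exact inv_mul_cancel h
    have h3 : orderOf h ∣ 2 := orderOf_dvd_of_pow_eq_one h2
    have h4 : orderOf h ∣ Nat.card H := orderOf_dvd_natCard h
    have h5 : orderOf h ∣ Nat.gcd 2 (Nat.card H) := Nat.dvd_gcd h3 h4
    have h6 : Nat.gcd 2 (Nat.card H) = 1 := Nat.coprime_two_left.mpr hodd
    rw [h6, Nat.dvd_one] at h5
    exact orderOf_eq_one_iff.mp h5
  obtain ⟨t, -, ht⟩ := pair_sum χ _ (Finset.univ.erase (1 : H)) rfl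
    (by
      intro h hh
      rw [Finset.mem_erase] at hh ⊢
      exact ⟨fun h1 => hh.1 (inv_eq_one.mp h1), Finset.mem_univ _⟩)
    hne (fun h _ => hreal h)
  have hS : IsIntegral ℤ (∑ u ∈ t, χ u) :=
    IsIntegral.sum _ fun u _ => isIntegral_char_apply hχ u
  have h1 : (N : ℂ) = d + 2 * ∑ u ∈ t, χ u := by
    rw [← hsum, ← Finset.add_sum_erase Finset.univ χ (Finset.mem_univ (1 : H)), ht, hd]
  have h2 : ∑ u ∈ t, χ u = (((N : ℚ) - d) / 2 : ℚ) := by
    push_cast
    rw [h1]
    ring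
  rw [h2] at hS
  obtain ⟨z, hz⟩ := Cfsg.Agent.Lib.Helper2.PermChar.exists_int_of_isIntegral_rat _ hS
  have h3 : ((N : ℚ) - d) / 2 = z := by exact_mod_cast hz
  have h4 : (N : ℤ) - d = 2 * z := by
    have : ((N : ℚ) - d) = 2 * z := by linarith
    exact_mod_cast this
  have h5 : ((N + d : ℕ) : ℤ) = 2 * (z + d) := by
    push_cast
    linarith
  rw [← Int.even_coe_nat, h5]
  exact even_two_mul _

section HC

variable (B : Subgroup G) [Fintype B] (w : G)
  (hdc : ∀ g : G, g ∉ B → ∃ b₁ ∈ B, ∃ b₂ ∈ B, g = b₁ * w * b₂)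
  (hG : Nat.card G = 6048) (hB : Nat.card B = 216)

include hG hB in
theorem index_eq : B.index = 28 := by
  have h := B.card_mul_index
  rw [hG, hB] at h
  omega

include hdc hG hB in
/-- a linear character of the Borel subgroup whose twist is orthogonal to it induces to an
irreducible character of degree 28 -/
theorem hc_irr (lam : B →* ℂˣ)
    (htw : tw B (fun b => ((lam b : ℂˣ) : ℂ)) (fun b => ((lam b : ℂˣ) : ℂ)) w = 0) :
    IsIrrCharacter G (indFun B (fun b => ((lam b : ℂˣ) : ℂ))) ∧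
      indFun B (fun b => ((lam b : ℂˣ) : ℂ)) 1 = 28 := by
  have hirr : IsIrrCharacter B (fun b => ((lam b : ℂˣ) : ℂ)) := isIrrCharacter_of_hom lam
  have hcf := isClassFunction_irr hirr
  constructor
  · apply isIrrCharacter_of_norm_one
      (Cfsg.Agent.S0148.result B _ (isCharacter_of_irr hirr))
    rw [mackey_two B w hdc _ _ hcf hcf, htw, mul_zero, add_zero, classInner_irr_self hirr]
  · rw [indFun_one, index_eq B hG hB, map_one, Units.val_one, mul_one]
    norm_num

include hdc hG hB in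
/-- a nontrivial linear character of the Borel subgroup fixed by the twist induces to the sum of
two nonprincipal irreducible characters of odd degree -/
theorem hc_pair (lam : B →* ℂˣ)
    (htw : tw B (fun b => ((lam b : ℂˣ) : ℂ)) (fun b => ((lam b : ℂˣ) : ℂ)) w = 8)
    (hne : ∃ b : B, lam b ≠ 1) (U : Subgroup B) [hUn : U.Normal] (hU : Nat.card U = 27)
    (hlamU : ∀ u ∈ U, lam u = 1)
    (hUw : ∀ u ∈ U, u ≠ 1 → w⁻¹ * (u : G) * w ∉ B)
    (hreal : ∀ u ∈ U, ∃ g : G, g * (u : G) * g⁻¹ = (u : G)⁻¹) :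
    ∃ α β : IrrCharacter G, α ≠ trivIrr G ∧ β ≠ trivIrr G ∧
      charDegree (α : G → ℂ) + charDegree (β : G → ℂ) = 28 ∧
      Odd (charDegree (α : G → ℂ)) ∧ Odd (charDegree (β : G → ℂ)) := by
  classical
  haveI : Fintype U := Fintype.ofFinite _
  set θ : B → ℂ := fun b => ((lam b : ℂˣ) : ℂ) with hθ
  have hirr : IsIrrCharacter B θ := isIrrCharacter_of_hom lam
  have hcf := isClassFunction_irr hirr
  have hRc : IsCharacter G (indFun B θ) := Cfsg.Agent.S0148.result B _ (isCharacter_of_irr hirr)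
  have hnorm : classInner (indFun B θ) (indFun B θ) = 2 := by
    rw [mackey_two B w hdc _ _ hcf hcf, htw, classInner_irr_self hirr, hG, hB]
    norm_num
  obtain ⟨χ₁, χ₂, h₁, h₂, hne12, hR⟩ := char_norm_two hRc hnorm
  -- inner products with the constituents
  have hin1 : classInner (indFun B θ) χ₁ = 1 := by
    rw [hR, classInner_add_left, classInner_irr_self h₁, classInner_irr_ne h₂ h₁ (Ne.symm hne12),
      add_zero]
  have hin2 : classInner (indFun B θ) χ₂ = 1 := by
    rw [hR, classInner_add_left, classInner_irr_self h₂, classInner_irr_ne h₁ h₂ hne12, zero_add]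
  -- the trivial character is not a constituent
  have htriv : classInner (indFun B θ) (trivIrr G : G → ℂ) = 0 := by
    rw [Cfsg.Agent.S0146.result B θ _ (isClassFunction_irr (trivIrr G).2)]
    have h1 : (fun b : B => (trivIrr G : G → ℂ) (b : G)) = (trivIrr B : B → ℂ) := by
      funext b
      rw [trivIrr_apply, trivIrr_apply]
    rw [h1]
    apply classInner_irr_ne hirr (trivIrr B).2
    intro h
    obtain ⟨b, hb⟩ := hne
    apply hb
    have h2 := congrFun h b
    rw [trivIrr_apply] at h2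
    exact Units.ext h2
  have hne1 : (⟨χ₁, h₁⟩ : IrrCharacter G) ≠ trivIrr G := by
    intro h
    have h2 : χ₁ = (trivIrr G : G → ℂ) := congrArg Subtype.val h
    rw [h2, htriv] at hin1
    exact zero_ne_one hin1
  have hne2 : (⟨χ₂, h₂⟩ : IrrCharacter G) ≠ trivIrr G := by
    intro h
    have h2 : χ₂ = (trivIrr G : G → ℂ) := congrArg Subtype.val h
    rw [h2, htriv] at hin2
    exact zero_ne_one hin2
  -- degrees
  have hdeg : indFun B θ 1 = 28 := by
    rw [indFun_one, index_eq B hG hB, hθ]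
    simp
  have hd1 := (irr_apply_one_eq_charDegree h₁).1
  have hd2 := (irr_apply_one_eq_charDegree h₂).1
  have hsum28 : charDegree χ₁ + charDegree χ₂ = 28 := by
    have h3 : indFun B θ 1 = χ₁ 1 + χ₂ 1 := by rw [hR]; rfl
    rw [hdeg, hd1, hd2] at h3
    exact_mod_cast h3.symm
  -- values of the induced character on the unipotent radical
  have hB0 : (Nat.card B : ℂ) ≠ 0 := Nat.cast_ne_zero.mpr Nat.card_pos.ne'
  have hval : ∀ u : U, u ≠ 1 → indFun B θ ((u : B) : G) = 1 := by
    intro u hu1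
    rw [indFun_apply]
    have hterm : ∀ x : G, extendByZero B θ (x⁻¹ * ((u : B) : G) * x)
        = if x ∈ B then 1 else 0 := by
      intro x
      by_cases hx : x ∈ B
      · rw [if_pos hx]
        have hmem : x⁻¹ * ((u : B) : G) * x ∈ B :=
          B.mul_mem (B.mul_mem (B.inv_mem hx) (u : B).2) hx
        rw [extendByZero_of_mem B θ hmem]
        have e : (⟨x⁻¹ * ((u : B) : G) * x, hmem⟩ : B) = (⟨x, hx⟩ : B)⁻¹ * (u : B) * ⟨x, hx⟩ :=
          Subtype.ext rfl
        show ((lam ⟨x⁻¹ * ((u : B) : G) * x, hmem⟩ : ℂˣ) : ℂ) = 1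
        rw [e, map_mul, map_mul, map_inv, hlamU (u : B) u.2, mul_one, inv_mul_cancel,
          Units.val_one]
      · rw [if_neg hx]
        apply extendByZero_of_notMem
        intro hmem
        obtain ⟨b₁, hb₁, b₂, hb₂, rfl⟩ := hdc x hx
        -- the conjugate of `u` by `b₁⁻¹`
        let u' : B := (⟨b₁, hb₁⟩ : B)⁻¹ * (u : B) * ⟨b₁, hb₁⟩
        have hu'U : u' ∈ U := by
          have := hUn.conj_mem (u : B) u.2 (⟨b₁, hb₁⟩ : B)⁻¹
          rwa [inv_inv] at this
        have hu'1 : u' ≠ 1 := by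
          intro h
          apply hu1
          have h2 : (u : B) = ⟨b₁, hb₁⟩ * u' * (⟨b₁, hb₁⟩ : B)⁻¹ := by
            show (u : B) = ⟨b₁, hb₁⟩ * ((⟨b₁, hb₁⟩ : B)⁻¹ * (u : B) * ⟨b₁, hb₁⟩) *
              (⟨b₁, hb₁⟩ : B)⁻¹
            group
          rw [h, mul_one, mul_inv_cancel] at h2
          exact Subtype.ext h2
        apply hUw u' hu'U hu'1
        have e : w⁻¹ * ((u' : B) : G) * w
            = b₂ * ((b₁ * w * b₂)⁻¹ * ((u : B) : G) * (b₁ * w * b₂)) * b₂⁻¹ := by
          show w⁻¹ * (b₁⁻¹ * ((u : B) : G) * b₁) * w = _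
          group
        rw [e]
        exact B.mul_mem (B.mul_mem hb₂ hmem) (B.inv_mem hb₂)
    rw [Finset.sum_congr rfl fun x _ => hterm x, Finset.sum_boole]
    have h4 : ((Finset.univ.filter (fun x : G => x ∈ B)).card : ℂ) = (Nat.card B : ℂ) := by
      rw [Nat.card_eq_fintype_card, Fintype.card_subtype]
    rw [h4, inv_mul_cancel₀ hB0]
  have hsumU : ∑ u : U, indFun B θ ((u : B) : G) = 54 := by
    rw [← Finset.add_sum_erase Finset.univ _ (Finset.mem_univ (1 : U))]
    have h5 : ∀ u ∈ Finset.univ.erase (1 : U), indFun B θ ((u : B) : G) = 1 :=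
      fun u hu => hval u (Finset.mem_erase.mp hu).1
    rw [Finset.sum_congr rfl h5, Finset.sum_const, Finset.card_erase_of_mem (Finset.mem_univ _),
      Finset.card_univ, ← Nat.card_eq_fintype_card, hU]
    have h6 : indFun B θ (((1 : U) : B) : G) = 28 := hdeg
    rw [h6]
    norm_num
  -- the multiplicities of the trivial character of the unipotent radical
  have hres : ∀ χ : G → ℂ, IsIrrCharacter G χ →
      IsCharacter U (fun u : U => χ ((u : B) : G)) := fun χ hχ =>
    isCharacter_comp_hom (isCharacter_of_irr hχ) (incl B U)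
  obtain ⟨a₁, ha₁⟩ := nat_avg (hres χ₁ h₁)
  obtain ⟨a₂, ha₂⟩ := nat_avg (hres χ₂ h₂)
  have hU0 : (Nat.card U : ℂ) ≠ 0 := Nat.cast_ne_zero.mpr Nat.card_pos.ne'
  have hmultB : ∀ χ : G → ℂ, IsIrrCharacter G χ → classInner (indFun B θ) χ = 1 →
      classInner (fun b : B => χ (b : G)) θ = 1 := by
    intro χ hχ h
    rw [Cfsg.Agent.S0146.result B θ _ (isClassFunction_irr hχ)] at h
    have h2 := classInner_conj_symm θ (fun b : B => χ (b : G))
    rw [h, map_one] at h2
    exact h2.symm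
  have hge1 : 1 ≤ a₁ :=
    avg_ge_one U (isCharacter_comp_hom (isCharacter_of_irr h₁) B.subtype) lam hlamU
      (hmultB χ₁ h₁ hin1) a₁ ha₁
  have hge2 : 1 ≤ a₂ :=
    avg_ge_one U (isCharacter_comp_hom (isCharacter_of_irr h₂) B.subtype) lam hlamU
      (hmultB χ₂ h₂ hin2) a₂ ha₂
  have hsum2 : a₁ + a₂ = 2 := by
    have h7 : ((a₁ + a₂ : ℕ) : ℂ) = 2 := by
      push_cast
      rw [ha₁, ha₂, ← mul_add, ← Finset.sum_add_distrib]
      have h8 : ∀ u : U, χ₁ ((u : B) : G) + χ₂ ((u : B) : G) = indFun B θ ((u : B) : G) := by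
        intro u
        rw [hR]
        rfl
      rw [Finset.sum_congr rfl fun u _ => h8 u, hsumU, hU]
      norm_num
    exact_mod_cast h7
  have ha1 : a₁ = 1 := by omega
  have ha2 : a₂ = 1 := by omega
  -- parity
  have hodd : Odd (Nat.card U) := by
    rw [hU]
    decide
  have hrealχ : ∀ χ : G → ℂ, IsIrrCharacter G χ → ∀ u : U,
      χ (((u⁻¹ : U) : B) : G) = χ ((u : B) : G) := by
    intro χ hχ u
    obtain ⟨g, hg⟩ := hreal (u : B) u.2
    have h9 : (((u⁻¹ : U) : B) : G) = g * ((u : B) : G) * g⁻¹ := by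
      rw [hg]
      rfl
    rw [h9]
    exact isClassFunction_irr hχ _ g
  have hpar : ∀ (χ : G → ℂ) (hχ : IsIrrCharacter G χ) (a : ℕ), a = 1 →
      (a : ℂ) = (Nat.card U : ℂ)⁻¹ * ∑ u : U, χ ((u : B) : G) → Odd (charDegree χ) := by
    intro χ hχ a ha1 ha
    have hs : ∑ u : U, χ ((u : B) : G) = ((27 : ℕ) : ℂ) := by
      rw [ha1, hU] at ha
      have : (∑ u : U, χ ((u : B) : G)) = (27 : ℂ) * ((27 : ℂ)⁻¹ * ∑ u : U, χ ((u : B) : G)) := by
        rw [← mul_assoc, mul_inv_cancel₀ (by norm_num), one_mul]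
      rw [this]
      push_cast at ha ⊢
      rw [← ha]
      ring
    have hev := parity_of_real hodd (hres χ hχ) (hrealχ χ hχ) (charDegree χ) 27
      (irr_apply_one_eq_charDegree hχ).1 hs
    rcases Nat.even_or_odd (charDegree χ) with h | h
    · exfalso
      have : Even 27 := by
        have := (Nat.even_add.mp hev).mpr h
        exact this
      exact absurd this (by decide)
    · exact h
  exact ⟨⟨χ₁, h₁⟩, ⟨χ₂, h₂⟩, hne1, hne2, hsum28, hpar χ₁ h₁ a₁ ha1 ha₁, hpar χ₂ h₂ a₂ ha2 ha₂⟩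

end HC

end Cfsg.Agent.Lib.Helper7.U33D
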