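import Mathlib
import Cfsg.Prelude.Def_DegreeGraph
import Cfsg.Agent.Lib.Helper7.U33D1
import Cfsg.Agent.Lib.Helper1.CharFound7
import Cfsg.Agent.S0188

set_option autoImplicit false
set_option linter.style.haveILetI false

/-!
# A solvable group of order 6048 with an irreducible character of degree 42
-/

namespace Cfsg.Agent.Lib.Helper7.U33D

open Cfsg.Agent.Lib.Helper1 Cfsg.Agent.Lib.Helper4

theorem charDegree_natCast' {G : Type*} [Group G] {χ : G → ℂ} {n : ℕ} (h : χ 1 = (n : ℂ)) :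
    Cfsg.charDegree χ = n := by
  unfold Cfsg.charDegree
  rw [h]
  simp

theorem mem_charDegrees_of_irr' {G : Type*} [Group G] {χ : G → ℂ}
    (hχ : Cfsg.IsIrrCharacter G χ) {n : ℕ} (h : χ 1 = (n : ℂ)) : n ∈ Cfsg.charDegrees G :=
  ⟨⟨χ, hχ⟩, charDegree_natCast' h⟩

theorem isIrr_comp_equiv' {S : Type*} {T : Type*} [Group S] [Group T] (e : S ≃* T) {χ : T → ℂ}
    (hχ : Cfsg.IsIrrCharacter T χ) : Cfsg.IsIrrCharacter S (fun s => χ (e s)) := by
  obtain ⟨n, ρ, hirr, rfl⟩ := hχ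
  exact ⟨n, ρ.comp e.toMonoidHom,
    Cfsg.Agent.Lib.Helper1.isIrreducible_comp_surjective ρ hirr e.toMonoidHom e.surjective, rfl⟩

theorem charDegrees_congr' {S : Type*} {T : Type*} [Group S] [Group T] (e : S ≃* T) :
    Cfsg.charDegrees S = Cfsg.charDegrees T := by
  ext d
  constructor
  · rintro ⟨χ, hd⟩
    refine ⟨⟨fun t => χ.1 (e.symm t), isIrr_comp_equiv' e.symm χ.2⟩, ?_⟩
    rw [← hd]
    unfold Cfsg.charDegree
    simp
  · rintro ⟨χ, hd⟩
    refine ⟨⟨fun t => χ.1 (e t), isIrr_comp_equiv' e χ.2⟩, ?_⟩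
    rw [← hd]
    unfold Cfsg.charDegree
    simp

/-- the field with eight elements -/
abbrev K8 : Type := GaloisField 2 3

/-- the solvable group `AGL(1,8) × Hol(C₁₈)` -/
abbrev HS : Type := AffGp K8ˣ K8 × AffGp (ZMod 18)ˣ (ZMod 18)

theorem card_K8 : Nat.card K8 = 8 := by
  rw [GaloisField.card 2 3 (by norm_num)]
  norm_num

theorem card_aff (R : Type) [CommRing R] [Finite R] :
    Nat.card (AffGp Rˣ R) = Nat.card R * Nat.card Rˣ := by
  rw [Nat.card_congr AffGp.equivProd, Nat.card_prod]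

theorem card_units_K8 : Nat.card K8ˣ = 7 := by
  classical
  haveI : Fintype K8 := Fintype.ofFinite _
  rw [Nat.card_eq_fintype_card, Fintype.card_units, ← Nat.card_eq_fintype_card, card_K8]

theorem card_units_18 : Nat.card (ZMod 18)ˣ = 6 := by
  rw [Nat.card_eq_fintype_card, ZMod.card_units_eq_totient]
  decide

theorem card_HS : Nat.card HS = 6048 := by
  rw [Nat.card_prod, card_aff, card_aff, card_K8, card_units_K8, card_units_18, Nat.card_zmod]

instance solvable_HS : Group.IsSolvable HS := inferInstance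

theorem deg42_HS : 42 ∈ Cfsg.charDegrees HS := by
  obtain ⟨ψ, hψ⟩ := (AddChar.exists_apply_ne_zero (α := K8) (a := 1)).mpr one_ne_zero
  have hψ1 : ψ ≠ 1 := by
    intro h
    apply hψ
    rw [h, AddChar.one_apply]
  obtain ⟨χ₁, hχ₁, h1⟩ := aff_irr ψ (AddChar.IsPrimitive.of_ne_one hψ1)
  obtain ⟨χ₂, hχ₂, h2⟩ := aff_irr (ZMod.stdAddChar (N := 18)) (ZMod.isPrimitive_stdAddChar 18)
  have hirr : Cfsg.IsIrrCharacter HS (fun x => χ₁ x.1 * χ₂ x.2) :=
    (Cfsg.Agent.S0188.result _).mpr ⟨χ₁, χ₂, hχ₁, hχ₂, rfl⟩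
  apply mem_charDegrees_of_irr' hirr
  show χ₁ 1 * χ₂ 1 = _
  rw [h1, h2, card_units_K8, card_units_18]
  norm_num

end Cfsg.Agent.Lib.Helper7.U33D
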