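import Mathlib
import Cfsg.Agent.Lib.Helper7.Brn22

set_option autoImplicit false
set_option linter.style.haveILetI false
set_option linter.unusedSectionVars false
set_option linter.unusedVariables false

/-!
# Groups of order 6048 with a self-centralizing element of order 7: the principal 7-block
-/

namespace Cfsg.Agent.Lib.Helper7.U33D

open Subgroup Cfsg Cfsg.Agent.Lib.Helper1 Cfsg.Agent.Lib.Helper4 Cfsg.Agent.Lib.Helper8
  Cfsg.Agent.H7Brauer
open scoped ComplexConjugate

universe u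

theorem div6 {d : ℕ} (h1 : d ∣ 6048) (h2 : d ≤ 77) (h3 : d % 7 = 6) :
    d = 6 ∨ d = 27 ∨ d = 48 := by
  interval_cases d <;> omega

theorem div1 {d : ℕ} (h1 : d ∣ 6048) (h2 : d ≤ 77) (h3 : d % 7 = 1) :
    d = 1 ∨ d = 8 ∨ d = 36 := by
  interval_cases d <;> omega

theorem div3 {d : ℕ} (h1 : d ∣ 6048) (h2 : d ≤ 77) (h3 : d % 7 = 3) :
    d = 3 ∨ d = 24 := by
  interval_cases d <;> omega

theorem div4 {d : ℕ} (h1 : d ∣ 6048) (h2 : d ≤ 77) (h3 : d % 7 = 4) :
    d = 4 ∨ d = 18 ∨ d = 32 := by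
  interval_cases d <;> omega

theorem arith28 {a b : ℕ} (ha : a ∣ 6048) (hb : b ∣ 6048) (hab : a + b = 28) (ha7 : a % 7 = 6)
    (hb7 : b % 7 = 1) : b = 1 := by
  have h : a = 6 ∨ a = 13 ∨ a = 20 ∨ a = 27 := by omega
  rcases h with rfl | rfl | rfl | rfl
  · have : b = 22 := by omega
    subst this
    exact absurd hb (by decide)
  · exact absurd ha (by decide)
  · exact absurd ha (by decide)
  · omega

variable {G : Type u} [Group G] [Fintype G] [Fintype (IrrCharacter G)]

theorem degree_sq_le (χ : IrrCharacter G) : charDegree (χ : G → ℂ) ^ 2 ≤ Nat.card G := by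
  classical
  have h1 := column_orthogonality (G := G) (1 : G) 1
  have h2 : ∀ χ' : IrrCharacter G, (χ' : G → ℂ) 1 * conj ((χ' : G → ℂ) 1)
      = ((charDegree (χ' : G → ℂ) ^ 2 : ℕ) : ℂ) := by
    intro χ'
    rw [(irr_apply_one_eq_charDegree χ'.2).1, Complex.conj_natCast]
    push_cast
    ring
  simp only [h2] at h1
  have h3 : classIndicator (1 : G) 1 = 1 := by
    unfold classIndicator
    rw [if_pos (IsConj.refl 1)]
  have h4 : Subgroup.centralizer ({1} : Set G) = ⊤ := by
    ext g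
    simp [Subgroup.mem_centralizer_singleton_iff]
  rw [h3, mul_one, h4, Subgroup.card_top] at h1
  have h5 : ∑ χ' : IrrCharacter G, charDegree (χ' : G → ℂ) ^ 2 = Nat.card G := by
    exact_mod_cast h1
  rw [← h5]
  exact Finset.single_le_sum (f := fun χ' : IrrCharacter G => charDegree (χ' : G → ℂ) ^ 2)
    (fun _ _ => Nat.zero_le _) (Finset.mem_univ χ)

theorem degree_le (hcard : Nat.card G = 6048) (χ : IrrCharacter G) :
    charDegree (χ : G → ℂ) ≤ 77 := by
  have h := degree_sq_le χ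
  rw [hcard] at h
  nlinarith

theorem e_eq_three (hcard : Nat.card G = 6048) {x : G} (hx : orderOf x = 7)
    (hself : ∀ g : G, g * x = x * g → g ∈ zpowers x) {e : ℕ}
    (hN : Nat.card (nrm x) = 7 * e) (he6 : e ∣ 6) : e = 3 := by
  haveI : Fact (Nat.Prime 7) := ⟨by norm_num⟩
  have h1 := card_sylow_mul_card_nrm hx hself
  have h2 := card_sylow_modEq_one 7 G
  rw [hN, hcard] at h1
  have he : e = 1 ∨ e = 2 ∨ e = 3 ∨ e = 6 := by
    have h3 : e ∈ Nat.divisors 6 := Nat.mem_divisors.mpr ⟨he6, by norm_num⟩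
    have hd : Nat.divisors 6 = {1, 2, 3, 6} := by decide
    rw [hd] at h3
    simpa using h3
  unfold Nat.ModEq at h2
  rcases he with rfl | rfl | rfl | rfl <;> omega

section Pattern

variable {x : G} {Q : Type u} [Fintype Q] {ε : ℤ} {W : IrrCharacter G → ℤ}
  {a : Q → IrrCharacter G} {m0 : IrrCharacter G → ℕ}

/-- the residues of the degrees modulo 7 -/
theorem residue (P : Pat x 7 3 ε W a m0) (χ : IrrCharacter G) :
    (χ ∉ Set.range a ∧ ((charDegree (χ : G → ℂ) % 7 = 0 ∧ W χ = 0) ∨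
      (charDegree (χ : G → ℂ) % 7 = 6 ∧ W χ = 1) ∨
      (charDegree (χ : G → ℂ) % 7 = 1 ∧ W χ = -1))) ∨
    (χ ∈ Set.range a ∧ ((charDegree (χ : G → ℂ) % 7 = 3 ∧ ε = 1) ∨
      (charDegree (χ : G → ℂ) % 7 = 4 ∧ ε = -1))) := by
  by_cases hr : χ ∈ Set.range a
  · right
    refine ⟨hr, ?_⟩
    obtain ⟨q, rfl⟩ := hr
    have h1 := P.deg_exc q
    rcases P.hε with h | h
    · left
      refine ⟨?_, h⟩
      rw [h] at h1
      push_cast at h1
      omega
    · right
      refine ⟨?_, h⟩
      rw [h] at h1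
      push_cast at h1
      omega
  · left
    refine ⟨hr, ?_⟩
    have h1 := P.deg_nonexc χ hr
    push_cast at h1
    rcases P.hW3 χ with h | h | h
    · left
      refine ⟨?_, h⟩
      rw [h] at h1
      omega
    · right; left
      refine ⟨?_, h⟩
      rw [h] at h1
      omega
    · right; right
      refine ⟨?_, h⟩
      rw [h] at h1
      omega

end Pattern

/-- two nonprincipal irreducible characters whose degrees add up to 28 have degrees divisible
by 7 -/
theorem seven_dvd (hcard : Nat.card G = 6048) (hperf : commutator G = ⊤) {x : G}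
    (hx : orderOf x = 7) (hself : ∀ g : G, g * x = x * g → g ∈ zpowers x)
    (α β : IrrCharacter G) (hα : α ≠ trivIrr G) (hβ : β ≠ trivIrr G)
    (hsum : charDegree (α : G → ℂ) + charDegree (β : G → ℂ) = 28) :
    7 ∣ charDegree (α : G → ℂ) := by
  classical
  haveI : Fact (Nat.Prime 7) := ⟨by norm_num⟩
  obtain ⟨e, Q, _, ε, W, a, m0, hN, P⟩ := exists_pat hx hself
  have he : e = 3 := e_eq_three hcard hx hself hN (Dvd.intro_left _ P.hQe)
  subst he
  have hdvd : ∀ χ : IrrCharacter G, charDegree (χ : G → ℂ) ∣ 6048 := fun χ => by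
    rw [← hcard]
    exact charDegree_dvd_card χ.2
  have hα1 : charDegree (α : G → ℂ) ≠ 1 := fun h => hα (eq_trivIrr_of_degree_one hperf h)
  have hβ1 : charDegree (β : G → ℂ) ≠ 1 := fun h => hβ (eq_trivIrr_of_degree_one hperf h)
  rcases residue P α with ⟨-, h | h | h⟩ | ⟨-, h | h⟩ <;>
    rcases residue P β with ⟨-, h' | h' | h'⟩ | ⟨-, h' | h'⟩
  all_goals first
    | exact Nat.dvd_of_mod_eq_zero h.1
    | (exfalso; omega)
    | (exfalso; exact hβ1 (arith28 (hdvd α) (hdvd β) hsum h.1 h'.1))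
    | (exfalso; exact hα1 (arith28 (hdvd β) (hdvd α) (by omega) h'.1 h.1))

/-- some irreducible character has degree divisible by 6 -/
theorem exists_six (hcard : Nat.card G = 6048) (hperf : commutator G = ⊤) {x : G}
    (hx : orderOf x = 7) (hself : ∀ g : G, g * x = x * g → g ∈ zpowers x) :
    ∃ χ : IrrCharacter G, 6 ∣ charDegree (χ : G → ℂ) := by
  classical
  haveI : Fact (Nat.Prime 7) := ⟨by norm_num⟩
  obtain ⟨e, Q, _, ε, W, a, m0, hN, P⟩ := exists_pat hx hself
  have he : e = 3 := e_eq_three hcard hx hself hN (Dvd.intro_left _ P.hQe)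
  subst he
  have hQ : Fintype.card Q = 2 := by
    have := P.hQe
    omega
  by_contra hcon
  push Not at hcon
  have htriv := P.triv_notMem hx (by omega)
  have hWt := P.W_triv hx (by omega)
  have hdvd : ∀ χ : IrrCharacter G, charDegree (χ : G → ℂ) ∣ 6048 := fun χ => by
    rw [← hcard]
    exact charDegree_dvd_card χ.2
  have hle := degree_le hcard (G := G)
  have hA : ∀ χ ∈ SA W, (W χ : ℤ) * charDegree (χ : G → ℂ) = 27 := by
    intro χ hχ
    rw [mem_SA] at hχ
    rcases residue P χ with ⟨-, h | h | h⟩ | ⟨hr, -⟩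
    · omega
    · rcases div6 (hdvd χ) (hle χ) h.1 with h2 | h2 | h2
      · exact absurd (by rw [h2]) (hcon χ)
      · rw [hχ, h2]; norm_num
      · exact absurd (by rw [h2]; norm_num) (hcon χ)
    · omega
    · obtain ⟨q, rfl⟩ := hr
      have := P.hWa q
      omega
  have hB : ∀ χ ∈ SB W, (W χ : ℤ) * charDegree (χ : G → ℂ) = -8 := by
    intro χ hχ
    rw [mem_SB] at hχ
    have hne1 : charDegree (χ : G → ℂ) ≠ 1 := fun h => hχ.2 (eq_trivIrr_of_degree_one hperf h)
    rcases residue P χ with ⟨-, h | h | h⟩ | ⟨hr, -⟩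
    · omega
    · omega
    · rcases div1 (hdvd χ) (hle χ) h.1 with h2 | h2 | h2
      · exact absurd h2 hne1
      · rw [hχ.1, h2]; norm_num
      · exact absurd (by rw [h2]; norm_num) (hcon χ)
    · obtain ⟨q, rfl⟩ := hr
      have := P.hWa q
      omega
  have hD : ∀ χ ∈ SD W a, (W χ : ℤ) * charDegree (χ : G → ℂ) = 0 := by
    intro χ hχ
    rw [mem_SD] at hχ
    rw [hχ.1, zero_mul]
  -- the relation at the identity
  obtain ⟨q0⟩ : Nonempty Q := by
    rw [← Fintype.card_pos_iff, hQ]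
    norm_num
  have hrel := P.rel 1 (by rw [orderOf_one]; norm_num) q0
  have hrel' : ∑ χ : IrrCharacter G, (W χ : ℤ) * charDegree (χ : G → ℂ)
      + ε * charDegree (a q0 : G → ℂ) = 0 := by
    have h1 : ∀ χ : IrrCharacter G, (W χ : ℂ) * (χ : G → ℂ) 1
        = (((W χ : ℤ) * charDegree (χ : G → ℂ) : ℤ) : ℂ) := by
      intro χ
      rw [(irr_apply_one_eq_charDegree χ.2).1]
      push_cast
      rfl
    rw [Finset.sum_congr rfl fun χ _ => h1 χ, (irr_apply_one_eq_charDegree (a q0).2).1] at hrel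
    exact_mod_cast hrel
  have hQ0 : ∑ q : Q, (W (a q) : ℤ) * charDegree (a q : G → ℂ) = 0 :=
    Finset.sum_eq_zero (fun q _ => by rw [P.hWa q, zero_mul])
  rw [P.sum_split htriv hWt, hWt, charDegree_trivIrr', Finset.sum_congr rfl hA,
    Finset.sum_congr rfl hB, Finset.sum_congr rfl hD, hQ0,
    Finset.sum_const, Finset.sum_const, Finset.sum_const] at hrel'
  have hcards := P.card_SA_add_card_SB htriv hWt
  simp only [nsmul_eq_mul] at hrel'
  -- the exceptional degree
  rcases residue P (a q0) with ⟨hr, -⟩ | ⟨-, h | h⟩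
  · exact hr ⟨q0, rfl⟩
  · rcases div3 (hdvd _) (hle _) h.1 with h2 | h2
    · rw [h.2, h2] at hrel'
      push_cast at hrel'
      omega
    · exact absurd (by rw [h2]; norm_num) (hcon _)
  · rcases div4 (hdvd _) (hle _) h.1 with h2 | h2 | h2
    · rw [h.2, h2] at hrel'
      push_cast at hrel'
      omega
    · exact absurd (by rw [h2]; norm_num) (hcon _)
    · rw [h.2, h2] at hrel'
      push_cast at hrel'
      omega

end Cfsg.Agent.Lib.Helper7.U33D
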