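import Mathlib

set_option autoImplicit false
set_option linter.style.haveILetI false

/-!
# Perfectness of nonabelian simple groups; self-centralizing elements of order 7
-/

namespace Cfsg.Agent.Lib.Helper7.U33D

open scoped commutatorElement

theorem perfect_of_simple {G : Type*} [Group G] [IsSimpleGroup G] (a b : G)
    (hab : a * b ≠ b * a) : commutator G = ⊤ := by
  rcases IsSimpleGroup.eq_bot_or_eq_top_of_normal (commutator G) inferInstance with h | h
  · exfalso
    apply hab
    have h1 : ⁅a, b⁆ ∈ commutator G := by
      rw [commutator_def]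
      exact Subgroup.commutator_mem_commutator (Subgroup.mem_top a) (Subgroup.mem_top b)
    rw [h, Subgroup.mem_bot] at h1
    exact commutatorElement_eq_one_iff_mul_comm.mp h1
  · exact h

theorem self_cent {G : Type*} [Group G] [Finite G] (hcard : Nat.card G = 6048)
    (hspec : ∀ g : G, orderOf g ∈ ({1, 2, 3, 4, 6, 7, 8, 12} : Set ℕ)) (x : G)
    (hx : orderOf x = 7) (g : G) (hg : g * x = x * g) : g ∈ Subgroup.zpowers x := by
  haveI : Fact (Nat.Prime 7) := ⟨by norm_num⟩
  have hcomm : Commute g x := hg
  have ho := hspec g
  simp only [Set.mem_insert_iff, Set.mem_singleton_iff] at ho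
  by_cases h7 : orderOf g = 7
  · -- both of order 7
    by_contra hmem
    -- the intersection is trivial
    have hcx : Nat.card (Subgroup.zpowers x) = 7 := by rw [Nat.card_zpowers, hx]
    have hcg : Nat.card (Subgroup.zpowers g) = 7 := by rw [Nat.card_zpowers, h7]
    have hint : Subgroup.zpowers x ⊓ Subgroup.zpowers g = ⊥ := by
      have hle : Subgroup.zpowers x ⊓ Subgroup.zpowers g ≤ Subgroup.zpowers g := inf_le_right
      have hdvd := Subgroup.card_dvd_of_le hle
      rw [hcg] at hdvd
      rcases (Nat.dvd_prime (by norm_num : Nat.Prime 7)).mp hdvd with h | h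
      · exact Subgroup.card_eq_one.mp h
      · exfalso
        apply hmem
        have heq : Subgroup.zpowers x ⊓ Subgroup.zpowers g = Subgroup.zpowers g := by
          apply Subgroup.eq_of_le_of_card_ge hle
          rw [h, hcg]
        have hle2 : Subgroup.zpowers g ≤ Subgroup.zpowers x := by
          rw [← heq]
          exact inf_le_left
        exact hle2 (Subgroup.mem_zpowers g)
    -- the product map is injective
    let f : (Subgroup.zpowers x) × (Subgroup.zpowers g) →* G :=
      MonoidHom.noncommCoprod (Subgroup.zpowers x).subtype (Subgroup.zpowers g).subtype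
        (by
          rintro ⟨a, ha⟩ ⟨b, hb⟩
          obtain ⟨i, rfl⟩ := Subgroup.mem_zpowers_iff.mp ha
          obtain ⟨j, rfl⟩ := Subgroup.mem_zpowers_iff.mp hb
          exact (hcomm.symm.zpow_zpow i j))
    have hf : Function.Injective f := by
      rw [injective_iff_map_eq_one]
      rintro ⟨a, b⟩ hab
      have h1 : (a : G) * (b : G) = 1 := hab
      have h2 : (a : G) = (b : G)⁻¹ := eq_inv_of_mul_eq_one_left h1
      have h3 : (a : G) ∈ Subgroup.zpowers x ⊓ Subgroup.zpowers g := by
        refine ⟨a.2, ?_⟩
        rw [h2]
        exact (Subgroup.zpowers g).inv_mem b.2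
      rw [hint, Subgroup.mem_bot] at h3
      have h4 : (b : G) = 1 := by
        rw [h3, one_mul] at h1
        exact h1
      exact Prod.ext (Subtype.ext h3) (Subtype.ext h4)
    have hdvd := Subgroup.card_dvd_of_injective f hf
    rw [Nat.card_prod, hcx, hcg, hcard] at hdvd
    norm_num at hdvd
  · -- the order of g is prime to 7
    have hcop : Nat.Coprime (orderOf g) (orderOf x) := by
      rw [hx]
      rcases ho with h | h | h | h | h | h | h | h <;> rw [h] <;> first | decide | exact absurd h h7
    have hmul := hcomm.orderOf_mul_eq_mul_orderOf_of_coprime hcop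
    have ho2 := hspec (g * x)
    rw [hmul, hx] at ho2
    simp only [Set.mem_insert_iff, Set.mem_singleton_iff] at ho2
    have h1 : orderOf g = 1 := by omega
    rw [orderOf_eq_one_iff] at h1
    rw [h1]
    exact Subgroup.one_mem _

end Cfsg.Agent.Lib.Helper7.U33D
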