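import Mathlib
import Cfsg.Prelude.Def_DegreeGraph
import Cfsg.Agent.Lib.Helper7.U33D2
import Cfsg.Agent.Lib.Helper7.U33D4
import Cfsg.Agent.Lib.Helper7.U33D9
import Cfsg.Agent.Lib.Helper7.U33D10
import Cfsg.Agent.Lib.Helper7.U33D11

set_option autoImplicit false
set_option linter.style.haveILetI false
set_option linter.unusedSectionVars false

/-!
# Character degrees of `PSU(3,3)` divisible by 6, 14 and 21
-/

namespace Cfsg.Agent.Lib.Helper7.U33D

open scoped ComplexConjugate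
open Matrix Cfsg Cfsg.Agent.Lib.Helper7.U33 Cfsg.Agent.Lib.Helper1 Cfsg.Agent.Lib.Helper4
  Cfsg.Agent.Lib.Helper8 Cfsg.Agent.Lib.Helper2.S3T

noncomputable instance instFintypeUJ : Fintype UJ := Fintype.ofFinite _

noncomputable instance instFintypeBB : Fintype BB := Fintype.ofFinite _

noncomputable instance instFintypeIrrUJ : Fintype (IrrCharacter UJ) := Fintype.ofFinite _

/-- the linear character of the Borel subgroup attached to a multiplicative character -/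
noncomputable def lamH (ψ : MulChar K9 ℂ) : BB →* ℂˣ := (ψ.toMonoidHom.comp e00).toHomUnits

theorem lamH_apply (ψ : MulChar K9 ℂ) (b : BB) : ((lamH ψ b : ℂˣ) : ℂ) = ψ (mat b.1 0 0) := rfl

/-- the torus element with a given corner entry (or the identity) -/
noncomputable def tor (t : K9) : UJ := if ht : t ≠ 0 then hG t ht else 1

theorem tor_of_ne {t : K9} (ht : t ≠ 0) : tor t = hG t ht := dif_pos ht

theorem hG_conj (t : K9) (ht : t ≠ 0) :
    wG⁻¹ * hG t ht * wG = hG (t ^ 5) (h_facts t ht).2.2.2 := by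
  rw [wG_inv]
  apply mat_injective
  rw [mat_mul, mat_mul, mat_wG, mat_hG, mat_hG, Matrix.mul_assoc, (h_facts t ht).2.2.1,
    ← Matrix.mul_assoc, w_facts.2.2, Matrix.one_mul]

theorem hM00 (t : K9) : hM t 0 0 = t := by simp [hM]

theorem tw_eq (ψ ψ' : MulChar K9 ℂ) :
    tw BB (fun b => ((lamH ψ b : ℂˣ) : ℂ)) (fun b => ((lamH ψ' b : ℂˣ) : ℂ)) wG
      = ∑ t : K9, ψ t * conj (ψ' (t ^ 5)) := by
  classical
  unfold tw
  symm
  have h0 : ∑ t : K9, ψ t * conj (ψ' (t ^ 5))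
      = ∑ t ∈ Finset.univ.filter (fun t : K9 => t ≠ 0), ψ t * conj (ψ' (t ^ 5)) := by
    symm
    apply Finset.sum_subset (Finset.filter_subset _ _)
    intro t _ ht
    have ht0 : t = 0 := by
      by_contra h
      exact ht (Finset.mem_filter.mpr ⟨Finset.mem_univ _, h⟩)
    rw [ht0, MulChar.map_zero, zero_mul]
  rw [h0]
  apply Finset.sum_of_injOn tor
  · intro t ht t' ht' h
    have ht0 : t ≠ 0 := (Finset.mem_filter.mp ht).2
    have ht0' : t' ≠ 0 := (Finset.mem_filter.mp ht').2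
    rw [tor_of_ne ht0, tor_of_ne ht0'] at h
    have h1 := congrArg (fun g => mat g 0 0) h
    simp only [mat_hG, hM00] at h1
    exact h1
  · intro t _
    exact Finset.mem_univ _
  · intro c _ hc
    by_cases h1 : c ∈ BB
    · by_cases h2 : wG⁻¹ * c * wG ∈ BB
      · exfalso
        apply hc
        obtain ⟨hne, heq⟩ := torus_of_conj c h1 h2
        refine ⟨mat c 0 0, Finset.mem_coe.mpr (Finset.mem_filter.mpr ⟨Finset.mem_univ _, hne⟩), ?_⟩
        rw [tor_of_ne hne]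
        apply mat_injective
        rw [mat_hG, ← heq]
      · rw [extendByZero_of_notMem BB _ h2, map_zero, mul_zero]
    · rw [extendByZero_of_notMem BB _ h1, zero_mul]
  · intro t ht
    have ht0 : t ≠ 0 := (Finset.mem_filter.mp ht).2
    rw [tor_of_ne ht0, hG_conj t ht0, extendByZero_of_mem BB _ (hG_mem_BB t ht0),
      extendByZero_of_mem BB _ (hG_mem_BB _ _), lamH_apply, lamH_apply]
    show ψ (mat (hG t ht0) 0 0) * conj (ψ' (mat (hG (t ^ 5) (h_facts t ht0).2.2.2) 0 0)) = _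
    rw [mat_hG, mat_hG, hM00, hM00]

theorem pow8 : ∀ t : K9, t ≠ 0 → t ^ 8 = 1 := by decide +kernel

theorem term_eq (ψ : MulChar K9 ℂ) (t : K9) : ψ t * conj (ψ (t ^ 5)) = (ψ ^ 4) t := by
  by_cases ht : t = 0
  · subst ht
    rw [MulChar.map_zero, zero_mul, MulChar.map_zero]
  · rw [MulChar.pow_apply' _ (by norm_num)]
    have h8 : ψ t ^ 8 = 1 := by rw [← map_pow, pow8 t ht, map_one]
    have hnorm : ‖ψ t‖ = 1 := Complex.norm_eq_one_of_pow_eq_one h8 (by norm_num)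
    have hne : ψ t ≠ 0 := by
      intro h
      rw [h] at h8
      norm_num at h8
    rw [map_pow, map_pow, ← Complex.inv_eq_conj hnorm, inv_pow, mul_inv_eq_iff_eq_mul₀
      (pow_ne_zero _ hne), ← pow_add]
    calc ψ t = 1 * ψ t := (one_mul _).symm
      _ = ψ t ^ 8 * ψ t := by rw [h8]
      _ = ψ t ^ (4 + 5) := by ring

theorem tw_self (ψ : MulChar K9 ℂ) :
    tw BB (fun b => ((lamH ψ b : ℂˣ) : ℂ)) (fun b => ((lamH ψ b : ℂˣ) : ℂ)) wG
      = ∑ t : K9, (ψ ^ 4) t := by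
  rw [tw_eq]
  exact Finset.sum_congr rfl fun t _ => term_eq ψ t

theorem exists_psi : ∃ ψ : MulChar K9 ℂ, orderOf ψ = 8 := by
  apply MulChar.exists_mulChar_orderOf K9 (n := 8) _ (Complex.isPrimitiveRoot_exp 8 (by norm_num))
  rw [card_K9]

theorem lamH_mem_UU (ψ : MulChar K9 ℂ) : ∀ u ∈ UU, lamH ψ u = 1 := by
  intro u hu
  apply Units.ext
  rw [lamH_apply, (mem_UU u).mp hu, map_one, Units.val_one]

theorem uM00 : uM 0 0 = 1 := by decide +kernel

theorem UU_twist : ∀ u ∈ UU, u ≠ 1 → wG⁻¹ * (u : UJ) * wG ∉ BB := by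
  intro u hu hne hmem
  obtain ⟨p, hp⟩ := exists_param ⟨u, hu⟩
  change (u : UJ) = uG p at hp
  apply hne
  apply Subtype.ext
  rw [hp, wG_inv] at hmem
  rw [mem_BB, mat_mul, mat_mul, mat_wG, mat_uG] at hmem
  obtain ⟨ha, hb⟩ := wuw_facts _ _ p.2 hmem.1 hmem.2
  rw [hp]
  apply mat_injective
  rw [mat_uG, ha, hb, uM00]
  exact mat_one.symm

theorem UU_real : ∀ u ∈ UU, ∃ g : UJ, g * (u : UJ) * g⁻¹ = (u : UJ)⁻¹ := by
  intro u hu
  obtain ⟨p, hp⟩ := exists_param ⟨u, hu⟩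
  change (u : UJ) = uG p at hp
  obtain ⟨h1, h2, t, -, c, d, hcd, ht, heq⟩ := real_facts _ _ p.2
  have hinv : (uG p)⁻¹ = uG ⟨(-p.1.1, p.1.2 ^ 3), h1⟩ := by
    apply inv_eq_of_mul_eq_one_right
    apply mat_injective
    rw [mat_mul, mat_uG, mat_uG, mat_one]
    exact h2
  refine ⟨hG t ht * uG ⟨(c, d), hcd⟩, ?_⟩
  rw [hp, hinv, mul_inv_eq_iff_eq_mul]
  apply mat_injective
  rw [mat_mul, mat_mul, mat_mul, mat_hG, mat_uG, mat_uG, mat_uG]
  exact heq

theorem perfect_UJ : commutator UJ = ⊤ := by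
  apply perfect_of_simple wG (hG (1 + w) noncomm_facts.2)
  intro h
  apply noncomm_facts.1
  have h1 := congrArg mat h
  rw [mat_mul, mat_mul, mat_wG, mat_hG] at h1
  exact h1

theorem card_units_fintype : Fintype.card K9ˣ = 8 := by
  rw [← Nat.card_eq_fintype_card]
  exact card_units_K9

/-- the degrees of `PSU(3,3)` include multiples of 6, 14 and 21 -/
theorem degrees_UJ : (∃ d ∈ charDegrees UJ, 6 ∣ d) ∧ (∃ d ∈ charDegrees UJ, 14 ∣ d) ∧
    (∃ d ∈ charDegrees UJ, 21 ∣ d) := by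
  classical
  obtain ⟨x, hx⟩ := exists_order_seven
  have hself := self_cent card_UJ orderOf_mem_UJ x hx
  have hperf := perfect_UJ
  obtain ⟨ψ, hψ⟩ := exists_psi
  have h4 : ψ ^ 4 ≠ 1 := pow_ne_one_of_lt_orderOf (by norm_num) (by rw [hψ]; norm_num)
  have h8 : ψ ^ 8 = 1 := by rw [← hψ]; exact pow_orderOf_eq_one ψ
  refine ⟨?_, ?_, ?_⟩
  · obtain ⟨χ, h6⟩ := exists_six card_UJ hperf hx hself
    exact ⟨_, ⟨χ, rfl⟩, h6⟩
  · have htw : tw BB (fun b => ((lamH ψ b : ℂˣ) : ℂ)) (fun b => ((lamH ψ b : ℂˣ) : ℂ)) wG = 0 := by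
      rw [tw_self]
      exact MulChar.sum_eq_zero_of_ne_one h4
    obtain ⟨hirr, hdeg⟩ := hc_irr BB wG bruhat.1 card_UJ card_BB (lamH ψ) htw
    refine ⟨28, mem_charDegrees_of_irr' hirr (by rw [hdeg]; norm_num), by norm_num⟩
  · have htw : tw BB (fun b => ((lamH (ψ ^ 4) b : ℂˣ) : ℂ))
        (fun b => ((lamH (ψ ^ 4) b : ℂˣ) : ℂ)) wG = 8 := by
      rw [tw_self, ← pow_mul, show 4 * 4 = 8 * 2 by norm_num, pow_mul, h8, one_pow,
        MulChar.sum_one_eq_card_units, card_units_fintype]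
      norm_num
    have hne : ∃ b : BB, lamH (ψ ^ 4) b ≠ 1 := by
      obtain ⟨a, ha⟩ := MulChar.ne_one_iff.mp h4
      refine ⟨⟨hG a.1 a.ne_zero, hG_mem_BB _ _⟩, fun h => ha ?_⟩
      have h1 := congrArg (fun z : ℂˣ => (z : ℂ)) h
      simp only [lamH_apply, mat_hG, hM00, Units.val_one] at h1
      exact h1
    haveI : UU.Normal := MonoidHom.normal_ker sigma
    obtain ⟨α, β, hα, hβ, hsum, hoa, hob⟩ := hc_pair BB wG bruhat.1 card_UJ card_BB
      (lamH (ψ ^ 4)) htw hne UU card_UU (lamH_mem_UU _) UU_twist UU_real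
    have h7a := seven_dvd card_UJ hperf hx hself α β hα hβ hsum
    have h7b := seven_dvd card_UJ hperf hx hself β α hβ hα (by rw [add_comm]; exact hsum)
    obtain ⟨ka, hka⟩ := h7a
    obtain ⟨kb, hkb⟩ := h7b
    obtain ⟨ma, hma⟩ := hoa
    obtain ⟨mb, hmb⟩ := hob
    have hcase : charDegree (α : UJ → ℂ) = 21 ∨ charDegree (β : UJ → ℂ) = 21 := by omega
    rcases hcase with h | h
    · exact ⟨_, ⟨α, rfl⟩, by rw [h]⟩
    · exact ⟨_, ⟨β, rfl⟩, by rw [h]⟩

end Cfsg.Agent.Lib.Helper7.U33D
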