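import Mathlib
import Cfsg.Prelude.Def_DegreeGraph
import Cfsg.Agent.Lib.Helper8.Deflation

set_option autoImplicit false

/-!
# The degree graph of a group of order 6048 with degrees divisible by 6, 14 and 21
-/

namespace Cfsg.Agent.Lib.Helper7.U33D

/-- the complete graph on `{2, 3, 7}` -/
def stdGraph : SimpleGraph ℕ where
  Adj p q := p ≠ q ∧ (p = 2 ∨ p = 3 ∨ p = 7) ∧ (q = 2 ∨ q = 3 ∨ q = 7)
  symm := ⟨fun _ _ h => ⟨Ne.symm h.1, h.2.2, h.2.1⟩⟩
  loopless := ⟨fun _ h => h.1 rfl⟩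

theorem prime_dvd_6048 {p : ℕ} (hp : p.Prime) (h : p ∣ 6048) : p = 2 ∨ p = 3 ∨ p = 7 := by
  have e : 6048 = 2 ^ 5 * 3 ^ 3 * 7 := by norm_num
  rw [e] at h
  rcases (Nat.Prime.dvd_mul hp).1 h with h | h
  · rcases (Nat.Prime.dvd_mul hp).1 h with h | h
    · left
      exact (Nat.prime_dvd_prime_iff_eq hp Nat.prime_two).1 (hp.dvd_of_dvd_pow h)
    · right; left
      exact (Nat.prime_dvd_prime_iff_eq hp Nat.prime_three).1 (hp.dvd_of_dvd_pow h)
  · right; right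
    exact (Nat.prime_dvd_prime_iff_eq hp (by norm_num)).1 h

theorem graph_facts {X : Type*} [Group X] [Finite X] (hcard : Nat.card X = 6048)
    (h6 : ∃ d ∈ Cfsg.charDegrees X, 6 ∣ d) (h14 : ∃ d ∈ Cfsg.charDegrees X, 14 ∣ d)
    (h21 : ∃ d ∈ Cfsg.charDegrees X, 21 ∣ d) :
    Cfsg.degreePrimes X = {2, 3, 7} ∧ Cfsg.degreeGraph X = stdGraph := by
  have hdvd : ∀ d ∈ Cfsg.charDegrees X, d ∣ 6048 := by
    rintro d ⟨χ, rfl⟩
    rw [← hcard]
    exact Cfsg.Agent.Lib.Helper8.charDegree_dvd_card χ.2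
  obtain ⟨d6, hd6, h6⟩ := h6
  obtain ⟨d14, hd14, h14⟩ := h14
  obtain ⟨d21, hd21, h21⟩ := h21
  constructor
  · ext p
    simp only [Cfsg.degreePrimes, Set.mem_ofPred_eq, Set.mem_insert_iff, Set.mem_singleton_iff]
    constructor
    · rintro ⟨hp, d, hd, hpd⟩
      exact prime_dvd_6048 hp (hpd.trans (hdvd d hd))
    · rintro (rfl | rfl | rfl)
      · exact ⟨Nat.prime_two, d6, hd6, (by norm_num : 2 ∣ 6).trans h6⟩
      · exact ⟨Nat.prime_three, d6, hd6, (by norm_num : 3 ∣ 6).trans h6⟩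
      · exact ⟨by norm_num, d14, hd14, (by norm_num : 7 ∣ 14).trans h14⟩
  · ext p q
    simp only [Cfsg.degreeGraph, stdGraph]
    constructor
    · rintro ⟨hne, hp, hq, d, hd, hpq⟩
      exact ⟨hne, prime_dvd_6048 hp ((Dvd.intro _ rfl).trans (hpq.trans (hdvd d hd))),
        prime_dvd_6048 hq ((Dvd.intro_left _ rfl).trans (hpq.trans (hdvd d hd)))⟩
    · rintro ⟨hne, hp, hq⟩
      have p2 := Nat.prime_two
      have p3 := Nat.prime_three
      have p7 : Nat.Prime 7 := by norm_num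
      rcases hp with rfl | rfl | rfl <;> rcases hq with rfl | rfl | rfl
      · exact absurd rfl hne
      · exact ⟨hne, p2, p3, d6, hd6, h6⟩
      · exact ⟨hne, p2, p7, d14, hd14, h14⟩
      · exact ⟨hne, p3, p2, d6, hd6, h6⟩
      · exact absurd rfl hne
      · exact ⟨hne, p3, p7, d21, hd21, h21⟩
      · exact ⟨hne, p7, p2, d14, hd14, h14⟩
      · exact ⟨hne, p7, p3, d21, hd21, h21⟩
      · exact absurd rfl hne

end Cfsg.Agent.Lib.Helper7.U33D
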