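import Cfsg.Agent.Lib.Helper7.U34D2

/-!
# Kernel check of the element orders: the elements `A i * R r` with `360 ≤ i < 360 + 120`
-/

set_option autoImplicit false

namespace Cfsg.Agent.Lib.Helper7.U34

set_option maxRecDepth 100000 in
theorem ord_chunk3 : ordRange 360 120 = true := by decide +kernel

end Cfsg.Agent.Lib.Helper7.U34
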