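import Cfsg.Agent.Lib.Helper1.MatCode3
import Cfsg.Agent.Lib.Helper7.U34D1

/-!
# Kernel checks for the coded group of `12 × 12` matrices over `ZMod 5`
-/

set_option autoImplicit false

namespace Cfsg.Agent.Lib.Helper7.U34

open Cfsg.Agent.Lib.Helper1.MatCode

/-- coded product -/
def mu (a b : ℕ) : ℕ := mulN 12 5 a b

/-- coded sum -/
def addN (a b : ℕ) : ℕ := sumTo 144 (fun k => ((dig W a k + dig W b k) % 5) * W ^ k)

/-- coded powers -/
def q2 (g : ℕ) : ℕ := mu g g
/-- coded powers -/
def q3 (g : ℕ) : ℕ := mu (q2 g) g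
/-- coded powers -/
def q4 (g : ℕ) : ℕ := mu (q2 g) (q2 g)
/-- coded powers -/
def q5 (g : ℕ) : ℕ := mu (q4 g) g
/-- coded powers -/
def q10 (g : ℕ) : ℕ := mu (q5 g) (q5 g)
/-- coded powers -/
def q13 (g : ℕ) : ℕ := mu (q10 g) (q3 g)
/-- coded powers -/
def q15 (g : ℕ) : ℕ := mu (q10 g) (q5 g)

/-- the coded sum `1 + g + … + g ^ k` -/
def hor (g : ℕ) : ℕ → ℕ
  | 0 => c1
  | k + 1 => addN c1 (mu (hor g k) g)

/-- the order is one of `1, 2, 4, 5, 10, 3, 15`, or it is `13` and the element has no fixed point -/
def okU (g : ℕ) : Bool :=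
  q4 g == c1 || (q10 g == c1 || (q15 g == c1 || (q13 g == c1 && hor g 12 == 0)))

/-- the double coset representatives -/
def rep (r : ℕ) : ℕ := T.getD (Rk.getD r 0) 0

/-- the check of the double coset certificate at `k` -/
def dcOK (k : ℕ) : Bool :=
  decide (dcL.getD k 0 % 1024 < 960) && (decide (dcL.getD k 0 / 1024 % 2 < 2) &&
    (decide (dcL.getD k 0 / 2048 < 960) &&
      (mu (mu (A.getD (dcL.getD k 0 % 1024) 0) (rep (dcL.getD k 0 / 1024 % 2)))
        (A.getD (dcL.getD k 0 / 2048) 0) == T.getD k 0)))

/-- the order check for the elements `A i * R r` with `lo ≤ i < lo + n` -/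
def ordRange (lo n : ℕ) : Bool :=
  (List.range' lo n).all (fun i => (List.range 2).all (fun r => okU (mu (A.getD i 0) (rep r))))

/-- coded powers -/
def pwU (c k : ℕ) : ℕ := powN mu c1 c k

/-- coded words in the generators -/
def evU (w : List ℕ) : ℕ := evalW mu [cX, cY] c1 w

set_option maxRecDepth 100000

theorem canon_all : ([cX, cY, cXi, cYi, c1, cH, cU] ++ (A ++ T)).all (canonB 12 5) = true := by
  decide +kernel

theorem rc_H : chkRC mu A cH = true := by decide +kernel

theorem rc_U : chkRC mu A cU = true := by decide +kernel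

theorem tree_A : chkTree mu A [cH, cU] parA = true := by decide +kernel

theorem step_X : chkStep mu A T cX certX = true := by decide +kernel

theorem step_Y : chkStep mu A T cY certY = true := by decide +kernel

theorem len_A : A.length = 960 := by decide +kernel

theorem len_T : T.length = 65 := by decide +kernel

theorem head_A : A.getD 0 0 = c1 := by decide +kernel

theorem head_T : T.getD 0 0 = c1 := by decide +kernel

theorem dc_all : (List.range 65).all dcOK = true := by decide +kernel

theorem len_Rk : Rk.length = 2 := by decide +kernel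

theorem Rk_lt : Rk.all (fun k => decide (k < 65)) = true := by decide +kernel

theorem inv_X : (mu cX cXi == c1 && mu cXi cX == c1) = true := by decide +kernel

theorem inv_Y : (mu cY cYi == c1 && mu cYi cY == c1) = true := by decide +kernel

/-- a word of order `15` -/
def w15 : List ℕ := [0]
/-- a word of order `10` -/
def w10 : List ℕ := [0, 1]
/-- a word of order `13` -/
def w13 : List ℕ := [0, 0, 1, 0, 1]

theorem ord_w15 : (pwU (evU w15) 15 == c1 && (neB 12 5 (pwU (evU w15) 5) c1 &&
    neB 12 5 (pwU (evU w15) 3) c1)) = true := by decide +kernel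

theorem ord_w10 : (pwU (evU w10) 10 == c1 && (neB 12 5 (pwU (evU w10) 5) c1 &&
    neB 12 5 (pwU (evU w10) 2) c1)) = true := by decide +kernel

theorem ord_w13 : (pwU (evU w13) 13 == c1 && neB 12 5 (evU w13) c1) = true := by decide +kernel

end Cfsg.Agent.Lib.Helper7.U34
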