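import Cfsg.Agent.Lib.Helper1.MatCode2
import Cfsg.Agent.Lib.Helper7.U34C0
import Cfsg.Agent.Lib.Helper7.U34C1
import Cfsg.Agent.Lib.Helper7.U34C2
import Cfsg.Agent.Lib.Helper7.U34C3
import Cfsg.Agent.Lib.Helper7.U34C4
import Cfsg.Agent.Lib.Helper7.U34C5
import Cfsg.Agent.Lib.Helper7.U34C6
import Cfsg.Agent.Lib.Helper7.U34C7

/-!
# The coded group of `12 × 12` matrices over `ZMod 5`: soundness of the checks

Every element `M` of a group generated by two elements with the coded matrices satisfies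
`M ^ 4 = 1`, `M ^ 10 = 1`, `M ^ 15 = 1`, or `M ^ 13 = 1` and `1 + M + … + M ^ 12 = 0`.
-/

set_option autoImplicit false

namespace Cfsg.Agent.Lib.Helper7.U34

open Cfsg.Agent.Lib.Helper1.MatCode

/-- the matrices -/
abbrev MatU : Type := Matrix (Fin 12) (Fin 12) (ZMod 5)

/-- decoding -/
def DU (c : ℕ) : MatU := dec 12 5 c

theorem hmu (a b : ℕ) (hb : Canon 12 5 b) : DU (mu a b) = DU a * DU b :=
  dec_mulN 12 5 (by decide) (by decide) (by decide) a b hb

theorem hC (a b : ℕ) : Canon 12 5 (mu a b) :=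
  canon_mulN 12 5 (by decide) (by decide) a b

theorem DU_c1 : DU c1 = 1 := by
  unfold DU
  decide +kernel

theorem DU_zero : DU 0 = 0 := by
  ext i j
  simp [DU, dec, dig]

theorem dig_addN (a b k : ℕ) (hk : k < 144) :
    dig W (addN a b) k = (dig W a k + dig W b k) % 5 := by
  unfold addN
  rw [sumTo_eq]
  apply dig_sum W one_lt_W (fun k => (dig W a k + dig W b k) % 5) _ 144 k hk
  intro m
  have h1 : (dig W a m + dig W b m) % 5 < 5 := Nat.mod_lt _ (by norm_num)
  have h2 : 5 < W := by decide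
  omega

theorem DU_addN (a b : ℕ) : DU (addN a b) = DU a + DU b := by
  ext i j
  have hk : 12 * (i : ℕ) + (j : ℕ) < 144 := by
    have := i.2; have := j.2; omega
  simp only [DU, dec, Matrix.add_apply]
  rw [dig_addN a b _ hk, ZMod.natCast_mod, Nat.cast_add]

theorem canon_addN (a b : ℕ) : Canon 12 5 (addN a b) := by
  intro m hm
  rw [dig_addN a b m (by omega)]
  exact Nat.mod_lt _ (by norm_num)

theorem canon_of_mem {c : ℕ} (hc : c ∈ [cX, cY, cXi, cYi, c1, cH, cU] ++ (A ++ T)) :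
    Canon 12 5 c := canon_of_all 12 5 canon_all c hc

theorem canon_cX : Canon 12 5 cX := canon_of_mem (by simp)
theorem canon_cY : Canon 12 5 cY := canon_of_mem (by simp)
theorem canon_cXi : Canon 12 5 cXi := canon_of_mem (by simp)
theorem canon_cYi : Canon 12 5 cYi := canon_of_mem (by simp)
theorem canon_c1 : Canon 12 5 c1 := canon_of_mem (by simp)
theorem canon_cH : Canon 12 5 cH := canon_of_mem (by simp)
theorem canon_cU : Canon 12 5 cU := canon_of_mem (by simp)

theorem canon_of_mem_A {a : ℕ} (ha : a ∈ A) : Canon 12 5 a :=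
  canon_of_mem (List.mem_append_right _ (List.mem_append_left _ ha))

theorem canon_of_mem_T {t : ℕ} (ht : t ∈ T) : Canon 12 5 t :=
  canon_of_mem (List.mem_append_right _ (List.mem_append_right _ ht))

theorem getD_mem_A {i : ℕ} (hi : i < 960) : A.getD i 0 ∈ A := by
  have h : i < A.length := by rw [len_A]; exact hi
  rw [List.getD_eq_getElem _ _ h]
  exact List.getElem_mem h

theorem getD_mem_T {i : ℕ} (hi : i < 65) : T.getD i 0 ∈ T := by
  have h : i < T.length := by rw [len_T]; exact hi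
  rw [List.getD_eq_getElem _ _ h]
  exact List.getElem_mem h

theorem exists_getD_of_mem_A {a : ℕ} (ha : a ∈ A) : ∃ i, i < 960 ∧ A.getD i 0 = a := by
  obtain ⟨i, hi, rfl⟩ := List.getElem_of_mem ha
  refine ⟨i, by rw [← len_A]; exact hi, ?_⟩
  rw [List.getD_eq_getElem _ _ hi]

theorem exists_getD_of_mem_T {t : ℕ} (ht : t ∈ T) : ∃ i, i < 65 ∧ T.getD i 0 = t := by
  obtain ⟨i, hi, rfl⟩ := List.getElem_of_mem ht
  refine ⟨i, by rw [← len_T]; exact hi, ?_⟩
  rw [List.getD_eq_getElem _ _ hi]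

theorem rep_mem_T {r : ℕ} (hr : r < 2) : rep r ∈ T := by
  unfold rep
  apply getD_mem_T
  have h : r < Rk.length := by rw [len_Rk]; exact hr
  rw [List.getD_eq_getElem _ _ h]
  have h2 := Rk_lt
  rw [List.all_eq_true] at h2
  exact of_decide_eq_true (h2 _ (List.getElem_mem h))

theorem canon_rep {r : ℕ} (hr : r < 2) : Canon 12 5 (rep r) := canon_of_mem_T (rep_mem_T hr)

theorem c1_mem_A : c1 ∈ A := by
  have := getD_mem_A (i := 0) (by norm_num)
  rwa [head_A] at this

theorem c1_mem_T : c1 ∈ T := by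
  have := getD_mem_T (i := 0) (by norm_num)
  rwa [head_T] at this

theorem A_mul_closed : ∀ a ∈ A, ∀ a' ∈ A, ∃ a'' ∈ A, DU a * DU a' = DU a'' := by
  apply mul_closed DU A [cH, cU]
  · intro s hs
    simp only [List.mem_cons, List.not_mem_nil, or_false] at hs
    rcases hs with rfl | rfl
    · exact chkRC_sound DU mu (Canon 12 5) hmu canon_cH rc_H
    · exact chkRC_sound DU mu (Canon 12 5) hmu canon_cU rc_U
  · apply chkTree_sound DU mu (Canon 12 5) hmu _ _ tree_A
    · intro s hs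
      simp only [List.mem_cons, List.not_mem_nil, or_false] at hs
      rcases hs with rfl | rfl
      · exact canon_cH
      · exact canon_cU
    · rw [head_A]; exact DU_c1

theorem step_all : ∀ s ∈ [cX, cY], ∀ t ∈ T, ∃ a ∈ A, ∃ t' ∈ T, DU t * DU s = DU a * DU t' := by
  intro s hs
  simp only [List.mem_cons, List.not_mem_nil, or_false] at hs
  rcases hs with rfl | rfl
  · exact chkStep_sound DU mu (Canon 12 5) hmu canon_cX (fun t ht => canon_of_mem_T ht) step_X
  · exact chkStep_sound DU mu (Canon 12 5) hmu canon_cY (fun t ht => canon_of_mem_T ht) step_Y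

theorem one_mem_AT : (1 : MatU) ∈ AT DU A T :=
  ⟨c1, c1_mem_A, c1, c1_mem_T, by rw [DU_c1, mul_one]⟩

/-- the property of the matrices of the group -/
def Good (M : MatU) : Prop :=
  M ^ 4 = 1 ∨ M ^ 10 = 1 ∨ M ^ 15 = 1 ∨ (M ^ 13 = 1 ∧ ∑ i ∈ Finset.range 13, M ^ i = 0)

section powers

variable (g : ℕ) (hg : Canon 12 5 g)
include hg

theorem DU_q2 : DU (q2 g) = DU g ^ 2 := by
  unfold q2; rw [hmu _ _ hg, sq]

theorem DU_q3 : DU (q3 g) = DU g ^ 3 := by
  unfold q3; rw [hmu _ _ hg, DU_q2 g hg]; rfl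

theorem DU_q4 : DU (q4 g) = DU g ^ 4 := by
  unfold q4; rw [hmu _ _ (show Canon 12 5 (q2 g) from hC _ _), DU_q2 g hg, ← pow_add]

theorem DU_q5 : DU (q5 g) = DU g ^ 5 := by
  unfold q5; rw [hmu _ _ hg, DU_q4 g hg]; rfl

theorem DU_q10 : DU (q10 g) = DU g ^ 10 := by
  unfold q10; rw [hmu _ _ (show Canon 12 5 (q5 g) from hC _ _), DU_q5 g hg, ← pow_add]

theorem DU_q13 : DU (q13 g) = DU g ^ 13 := by
  unfold q13
  rw [hmu _ _ (show Canon 12 5 (q3 g) from hC _ _), DU_q10 g hg, DU_q3 g hg, ← pow_add]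

theorem DU_q15 : DU (q15 g) = DU g ^ 15 := by
  unfold q15
  rw [hmu _ _ (show Canon 12 5 (q5 g) from hC _ _), DU_q10 g hg, DU_q5 g hg, ← pow_add]

theorem DU_hor (k : ℕ) : DU (hor g k) = ∑ i ∈ Finset.range (k + 1), DU g ^ i := by
  induction k with
  | zero => simp [hor, DU_c1]
  | succ k ih =>
    rw [hor, DU_addN, hmu _ _ hg, ih, DU_c1, Finset.sum_range_succ' _ (k + 1), Finset.sum_mul,
      pow_zero, add_comm]
    congr 1

theorem okU_sound (h : okU g = true) : Good (DU g) := by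
  unfold okU at h
  simp only [Bool.or_eq_true, Bool.and_eq_true, beq_iff_eq] at h
  rcases h with h | h | h | ⟨h, h'⟩
  · exact Or.inl (by rw [← DU_q4 g hg, h, DU_c1])
  · exact Or.inr (Or.inl (by rw [← DU_q10 g hg, h, DU_c1]))
  · exact Or.inr (Or.inr (Or.inl (by rw [← DU_q15 g hg, h, DU_c1])))
  · refine Or.inr (Or.inr (Or.inr ⟨by rw [← DU_q13 g hg, h, DU_c1], ?_⟩))
    rw [← DU_hor g hg 12, h', DU_zero]

end powers

theorem good_swap (P Q : MatU) (hu : IsUnit (P * Q)) (h : Good (Q * P)) : Good (P * Q) := by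
  have hpow : ∀ n : ℕ, (P * Q) ^ (n + 1) = P * (Q * P) ^ n * Q := by
    intro n
    rw [pow_succ, ← mul_assoc, mul_pow_mul]
  have key : ∀ n : ℕ, (Q * P) ^ n = 1 → (P * Q) ^ n = 1 := by
    intro n hn
    have h1 : (P * Q) ^ (n + 1) = P * Q := by rw [hpow, hn, mul_one]
    obtain ⟨u, hu'⟩ := hu
    rw [← hu'] at h1 ⊢
    have : (u : MatU) ^ n * u = 1 * u := by rw [one_mul, ← pow_succ]; exact h1
    exact u.isUnit.mul_right_cancel this
  rcases h with h | h | h | ⟨h, h'⟩
  · exact Or.inl (key 4 h)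
  · exact Or.inr (Or.inl (key 10 h))
  · exact Or.inr (Or.inr (Or.inl (key 15 h)))
  · refine Or.inr (Or.inr (Or.inr ⟨key 13 h, ?_⟩))
    have h1 : (P * Q) * ∑ i ∈ Finset.range 13, (P * Q) ^ i = 0 := by
      rw [Finset.mul_sum]
      have : ∀ i ∈ Finset.range 13, (P * Q) * (P * Q) ^ i = P * (Q * P) ^ i * Q := by
        intro i _
        rw [← pow_succ', hpow]
      rw [Finset.sum_congr rfl this, ← Finset.sum_mul, ← Finset.mul_sum, h', mul_zero, zero_mul]
    obtain ⟨u, hu'⟩ := hu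
    rw [← hu'] at h1 ⊢
    have h2 : (u : MatU) * ∑ i ∈ Finset.range 13, (u : MatU) ^ i = (u : MatU) * 0 := by
      rw [mul_zero]; exact h1
    exact u.isUnit.mul_left_cancel h2

/-- every coset representative is `a' * r * h` -/
theorem T_decomp {t : ℕ} (ht : t ∈ T) :
    ∃ a' ∈ A, ∃ r, r < 2 ∧ ∃ h ∈ A, DU t = DU a' * DU (rep r) * DU h := by
  obtain ⟨k, hk, rfl⟩ := exists_getD_of_mem_T ht
  have h := dc_all
  rw [List.all_eq_true] at h
  have hk' := h k (List.mem_range.mpr hk)
  unfold dcOK at hk'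
  simp only [Bool.and_eq_true, decide_eq_true_eq, beq_iff_eq] at hk'
  obtain ⟨h1, h2, h3, h4⟩ := hk'
  refine ⟨_, getD_mem_A h1, _, h2, _, getD_mem_A h3, ?_⟩
  rw [← h4, hmu _ _ (canon_of_mem_A (getD_mem_A h3)), hmu _ _ (canon_rep h2)]

theorem ordRange_sound {lo n : ℕ} (h : ordRange lo n = true) {i : ℕ} (h1 : lo ≤ i) (h2 : i < lo + n)
    {r : ℕ} (hr : r < 2) : Good (DU (A.getD i 0) * DU (rep r)) := by
  unfold ordRange at h
  rw [List.all_eq_true] at h
  have h3 := h i (List.mem_range'_1.mpr ⟨h1, h2⟩)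
  rw [List.all_eq_true] at h3
  have h4 := h3 r (List.mem_range.mpr hr)
  rw [← hmu _ _ (canon_rep hr)]
  exact okU_sound _ (hC _ _) h4

/-- the elements `a * r` have the property -/
theorem AR_good {a : ℕ} (ha : a ∈ A) {r : ℕ} (hr : r < 2) : Good (DU a * DU (rep r)) := by
  obtain ⟨i, hi, rfl⟩ := exists_getD_of_mem_A ha
  by_cases c0 : i < 120
  · exact ordRange_sound ord_chunk0 (by omega) (by omega) hr
  by_cases c1 : i < 240
  · exact ordRange_sound ord_chunk1 (by omega) (by omega) hr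
  by_cases c2 : i < 360
  · exact ordRange_sound ord_chunk2 (by omega) (by omega) hr
  by_cases c3 : i < 480
  · exact ordRange_sound ord_chunk3 (by omega) (by omega) hr
  by_cases c4 : i < 600
  · exact ordRange_sound ord_chunk4 (by omega) (by omega) hr
  by_cases c5 : i < 720
  · exact ordRange_sound ord_chunk5 (by omega) (by omega) hr
  by_cases c6 : i < 840
  · exact ordRange_sound ord_chunk6 (by omega) (by omega) hr
  · exact ordRange_sound ord_chunk7 (by omega) (by omega) hr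

/-- every unit of `A * T` has the property -/
theorem AT_good {M : MatU} (hM : M ∈ AT DU A T) (hu : IsUnit M) : Good M := by
  obtain ⟨a, ha, t, ht, rfl⟩ := hM
  obtain ⟨a', ha', r, hr, h, hh, hdec⟩ := T_decomp ht
  obtain ⟨a2, ha2, e2⟩ := A_mul_closed a ha a' ha'
  obtain ⟨a3, ha3, e3⟩ := A_mul_closed h hh a2 ha2
  have e : DU a * DU t = (DU a2 * DU (rep r)) * DU h := by
    rw [hdec, ← e2]; simp only [mul_assoc]
  rw [e] at hu ⊢
  apply good_swap _ _ hu
  rw [← mul_assoc, e3]
  exact AR_good ha3 hr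

section abstract

variable {Γ : Type*} [Group Γ] (φ : Γ →* MatU) (x y : Γ)
variable (hx : φ x = DU cX) (hy : φ y = DU cY)
include hx hy

theorem step_mem : ∀ u ∈ ({x, y} : Set Γ), ∀ q ∈ AT DU A T, q * φ u ∈ AT DU A T := by
  intro u hu q hq
  have key := closure_subset DU A T [cX, cY] A_mul_closed step_all
  rcases hu with rfl | hu
  · rw [hx]; exact key cX (by simp) q hq
  · rw [Set.mem_singleton_iff.mp hu, hy]; exact key cY (by simp) q hq

/-- every element of the generated subgroup has the property -/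
theorem good_of_mem (g : Γ) (hg : g ∈ Subgroup.closure ({x, y} : Set Γ)) : Good (φ g) := by
  have hmem : φ g ∈ AT DU A T :=
    subgroup_closure_subset φ (AT_finite DU A T) one_mem_AT _ (step_mem φ x y hx hy) g hg
  exact AT_good hmem ((Group.isUnit g).map φ)

end abstract

end Cfsg.Agent.Lib.Helper7.U34
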