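import Cfsg.Agent.Lib.Helper7.U34D3
import Cfsg.Agent.Lib.Helper7.AffFrob

/-!
# Groups of arbitrarily large order with the prime graph of `PSU(3,4)`

The group `LU` generated by the two coded matrices acts on the vectors `VU = (ZMod 5) ^ 12`; the
elements of order `13` have no fixed points.  In the semidirect products `HK k = VU ^ k ⋊ LU` every
element `w` satisfies `w ^ 20 = 1`, `w ^ 50 = 1`, `w ^ 75 = 1` or `w ^ 13 = 1`.
-/

set_option autoImplicit false

namespace Cfsg.Agent.Lib.Helper7.U34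

open Cfsg.Agent.Lib.Helper1.MatCode

theorem X_mul : DU cX * DU cXi = 1 := by
  have h := inv_X
  rw [Bool.and_eq_true, beq_iff_eq, beq_iff_eq] at h
  rw [← hmu _ _ canon_cXi, h.1, DU_c1]

theorem Xi_mul : DU cXi * DU cX = 1 := by
  have h := inv_X
  rw [Bool.and_eq_true, beq_iff_eq, beq_iff_eq] at h
  rw [← hmu _ _ canon_cX, h.2, DU_c1]

theorem Y_mul : DU cY * DU cYi = 1 := by
  have h := inv_Y
  rw [Bool.and_eq_true, beq_iff_eq, beq_iff_eq] at h
  rw [← hmu _ _ canon_cYi, h.1, DU_c1]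

theorem Yi_mul : DU cYi * DU cY = 1 := by
  have h := inv_Y
  rw [Bool.and_eq_true, beq_iff_eq, beq_iff_eq] at h
  rw [← hmu _ _ canon_cY, h.2, DU_c1]

/-- the first generator -/
def xU : GL (Fin 12) (ZMod 5) := ⟨DU cX, DU cXi, X_mul, Xi_mul⟩

/-- the second generator -/
def yU : GL (Fin 12) (ZMod 5) := ⟨DU cY, DU cYi, Y_mul, Yi_mul⟩

/-- the group -/
def LU : Subgroup (GL (Fin 12) (ZMod 5)) := Subgroup.closure {xU, yU}

/-- the matrices of the elements -/
def phiU : ↥LU →* MatU := (Units.coeHom MatU).comp LU.subtype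

theorem phiU_injective : Function.Injective phiU := by
  intro a b h
  apply Subtype.ext
  apply Units.ext
  exact h

/-- the first generator in the group -/
def xL : ↥LU := ⟨xU, Subgroup.subset_closure (by simp)⟩

/-- the second generator in the group -/
def yL : ↥LU := ⟨yU, Subgroup.subset_closure (by simp)⟩

theorem closure_xL_yL : Subgroup.closure ({xL, yL} : Set ↥LU) = ⊤ := by
  have h : Subgroup.closure (((↑) : ↥LU → GL (Fin 12) (ZMod 5)) ⁻¹'
      ({xU, yU} : Set (GL (Fin 12) (ZMod 5)))) = ⊤ :=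
    Subgroup.closure_closure_coe_preimage (k := ({xU, yU} : Set (GL (Fin 12) (ZMod 5))))
  have e : ((↑) ⁻¹' ({xU, yU} : Set (GL (Fin 12) (ZMod 5))) : Set ↥LU) = {xL, yL} := by
    ext g
    simp only [Set.mem_preimage, Set.mem_insert_iff, Set.mem_singleton_iff, xL, yL]
    constructor
    · rintro (h | h)
      · left; exact Subtype.ext h
      · right; exact Subtype.ext h
    · rintro (h | h)
      · left; rw [h]
      · right; rw [h]
  rw [e] at h
  exact h

theorem phiU_xL : phiU xL = DU cX := rfl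

theorem phiU_yL : phiU yL = DU cY := rfl

theorem good_LU (g : ↥LU) : Good (phiU g) :=
  good_of_mem phiU xL yL phiU_xL phiU_yL g (by rw [closure_xL_yL]; trivial)

/-- the product of a word in the generators -/
def wpU (w : List ℕ) : ↥LU := wordProd [xL, yL] w

theorem canon_evU (w : List ℕ) : Canon 12 5 (evU w) :=
  canon_evalW mu (Canon 12 5) hC canon_c1 [cX, cY] w

theorem phiU_wpU (w : List ℕ) : phiU (wpU w) = DU (evU w) := by
  unfold wpU evU
  apply dec_evalW DU mu (Canon 12 5) hmu phiU DU_c1 canon_c1 [xL, yL] [cX, cY] rfl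
  · intro i h h'
    have hi : i < 2 := h
    interval_cases i
    · exact phiU_xL
    · exact phiU_yL
  · intro c hc
    simp only [List.mem_cons, List.not_mem_nil, or_false] at hc
    rcases hc with rfl | rfl
    · exact canon_cX
    · exact canon_cY

theorem phiU_wpU_pow (w : List ℕ) (m : ℕ) : phiU (wpU w ^ m) = DU (pwU (evU w) m) := by
  rw [map_pow, phiU_wpU]
  unfold pwU
  rw [dec_powN DU mu (Canon 12 5) hmu DU_c1 (canon_evU w)]

theorem wpU_pow_eq_one (w : List ℕ) (m : ℕ) (h : pwU (evU w) m = c1) : wpU w ^ m = 1 := by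
  apply phiU_injective
  rw [phiU_wpU_pow, h, DU_c1, map_one]

theorem wpU_pow_ne_one (w : List ℕ) (m : ℕ) (h : neB 12 5 (pwU (evU w) m) c1 = true) :
    wpU w ^ m ≠ 1 := by
  intro h1
  have h2 := congrArg phiU h1
  rw [phiU_wpU_pow, map_one, ← DU_c1] at h2
  exact dec_ne_of_neB 12 5 h h2

theorem orderOf_w15 : orderOf (wpU w15) = 15 := by
  have h := ord_w15
  simp only [Bool.and_eq_true, beq_iff_eq] at h
  obtain ⟨h1, h2, h3⟩ := h
  have e1 := wpU_pow_eq_one w15 15 h1
  have e2 := wpU_pow_ne_one w15 5 h2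
  have e3 := wpU_pow_ne_one w15 3 h3
  have hd : orderOf (wpU w15) ∣ 15 := orderOf_dvd_of_pow_eq_one e1
  have hm : orderOf (wpU w15) ∈ Nat.divisors 15 := Nat.mem_divisors.mpr ⟨hd, by norm_num⟩
  have hdiv : Nat.divisors 15 = {1, 3, 5, 15} := by decide
  rw [hdiv] at hm
  simp only [Finset.mem_insert, Finset.mem_singleton] at hm
  rcases hm with hm | hm | hm | hm
  · exfalso; apply e3
    have := pow_orderOf_eq_one (wpU w15); rw [hm, pow_one] at this; rw [this, one_pow]
  · exfalso; apply e3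
    have := pow_orderOf_eq_one (wpU w15); rw [hm] at this; exact this
  · exfalso; apply e2
    have := pow_orderOf_eq_one (wpU w15); rw [hm] at this; exact this
  · exact hm

theorem orderOf_w10 : orderOf (wpU w10) = 10 := by
  have h := ord_w10
  simp only [Bool.and_eq_true, beq_iff_eq] at h
  obtain ⟨h1, h2, h3⟩ := h
  have e1 := wpU_pow_eq_one w10 10 h1
  have e2 := wpU_pow_ne_one w10 5 h2
  have e3 := wpU_pow_ne_one w10 2 h3
  have hd : orderOf (wpU w10) ∣ 10 := orderOf_dvd_of_pow_eq_one e1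
  have hm : orderOf (wpU w10) ∈ Nat.divisors 10 := Nat.mem_divisors.mpr ⟨hd, by norm_num⟩
  have hdiv : Nat.divisors 10 = {1, 2, 5, 10} := by decide
  rw [hdiv] at hm
  simp only [Finset.mem_insert, Finset.mem_singleton] at hm
  rcases hm with hm | hm | hm | hm
  · exfalso; apply e3
    have := pow_orderOf_eq_one (wpU w10); rw [hm, pow_one] at this; rw [this, one_pow]
  · exfalso; apply e3
    have := pow_orderOf_eq_one (wpU w10); rw [hm] at this; exact this
  · exfalso; apply e2
    have := pow_orderOf_eq_one (wpU w10); rw [hm] at this; exact this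
  · exact hm

theorem orderOf_w13 : orderOf (wpU w13) = 13 := by
  have h := ord_w13
  simp only [Bool.and_eq_true, beq_iff_eq] at h
  obtain ⟨h1, h2⟩ := h
  have e1 := wpU_pow_eq_one w13 13 h1
  have e2 : wpU w13 ≠ 1 := by
    intro h3
    have h4 := congrArg phiU h3
    rw [phiU_wpU, map_one, ← DU_c1] at h4
    exact dec_ne_of_neB 12 5 h2 h4
  have : Fact (Nat.Prime 13) := ⟨by norm_num⟩
  exact orderOf_eq_prime e1 e2

/-- the module -/
def VU : Type := Fin 12 → ZMod 5

instance : AddCommGroup VU := inferInstanceAs (AddCommGroup (Fin 12 → ZMod 5))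

instance : Finite VU := inferInstanceAs (Finite (Fin 12 → ZMod 5))

instance : SMul ↥LU VU := ⟨fun g v => Matrix.mulVec (phiU g) v⟩

theorem smul_def (g : ↥LU) (v : VU) : g • v = Matrix.mulVec (phiU g) v := rfl

instance : DistribMulAction ↥LU VU where
  one_smul v := by rw [smul_def, map_one]; exact Matrix.one_mulVec v
  mul_smul g h v := by
    rw [smul_def, smul_def, smul_def, map_mul]
    exact (Matrix.mulVec_mulVec v (phiU g) (phiU h)).symm
  smul_zero g := by rw [smul_def]; exact Matrix.mulVec_zero _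
  smul_add g v w := by rw [smul_def, smul_def, smul_def]; exact Matrix.mulVec_add _ _ _

/-- the semidirect products -/
abbrev HK (k : ℕ) : Type := AffGp ↥LU (Fin k → VU)

theorem five_smul (k : ℕ) (v : Fin k → VU) : 5 • v = 0 := by
  funext i
  funext j
  have key : ∀ a : ZMod 5, 5 • a = 0 := by decide
  exact key _

theorem sum_smul_eq_zero (k : ℕ) (g : ↥LU) (v : Fin k → VU)
    (h : ∑ i ∈ Finset.range 13, phiU g ^ i = 0) :
    ∑ i ∈ Finset.range 13, (g ^ i) • v = 0 := by
  funext j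
  rw [Finset.sum_apply]
  have h1 : ∀ i ∈ Finset.range 13, ((g ^ i) • v) j = Matrix.mulVec (phiU g ^ i) (v j) := by
    intro i _
    show (g ^ i) • (v j) = _
    rw [smul_def, map_pow]
  rw [Finset.sum_congr rfl h1]
  have h2 : ∀ u : Fin 12 → ZMod 5,
      ∑ i ∈ Finset.range 13, Matrix.mulVec (phiU g ^ i) u = 0 := by
    intro u
    rw [← Matrix.sum_mulVec, h]
    exact Matrix.zero_mulVec _
  exact h2 (v j)

theorem pow_v_eq {H V : Type*} [Group H] [AddCommGroup V] [DistribMulAction H V] (w : AffGp H V)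
    (n : ℕ) : (w ^ n).v = ∑ i ∈ Finset.range n, (w.g ^ i) • w.v := by
  induction n with
  | zero => simp
  | succ n ih =>
    rw [pow_succ, AffGp.mul_v, ih, AffGp.pow_g, Finset.sum_range_succ]

/-- the fundamental property of the elements of `HK k` -/
theorem HK_pow (k : ℕ) (w : HK k) : w ^ 20 = 1 ∨ w ^ 50 = 1 ∨ w ^ 75 = 1 ∨ w ^ 13 = 1 := by
  have key : ∀ n : ℕ, phiU w.g ^ n = 1 → w ^ (n * 5) = 1 := by
    intro n hn
    have h1 : w.g ^ n = 1 := by
      apply phiU_injective
      rw [map_pow, hn, map_one]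
    have h2 : w ^ n = ⟨(w ^ n).v, 1⟩ := AffGp.ext' rfl (by rw [AffGp.pow_g, h1])
    rw [pow_mul, h2, AffGp.trans_pow, five_smul]
    rfl
  rcases good_LU w.g with h | h | h | ⟨h, h'⟩
  · exact Or.inl (key 4 h)
  · exact Or.inr (Or.inl (key 10 h))
  · exact Or.inr (Or.inr (Or.inl (key 15 h)))
  · refine Or.inr (Or.inr (Or.inr ?_))
    have h1 : w.g ^ 13 = 1 := by
      apply phiU_injective
      rw [map_pow, h, map_one]
    apply AffGp.ext'
    · rw [pow_v_eq, sum_smul_eq_zero k w.g w.v h']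
      rfl
    · rw [AffGp.pow_g, h1]
      rfl

theorem orderOf_dvd_HK (k : ℕ) (w : HK k) :
    orderOf w ∣ 20 ∨ orderOf w ∣ 50 ∨ orderOf w ∣ 75 ∨ orderOf w ∣ 13 := by
  rcases HK_pow k w with h | h | h | h
  · exact Or.inl (orderOf_dvd_of_pow_eq_one h)
  · exact Or.inr (Or.inl (orderOf_dvd_of_pow_eq_one h))
  · exact Or.inr (Or.inr (Or.inl (orderOf_dvd_of_pow_eq_one h)))
  · exact Or.inr (Or.inr (Or.inr (orderOf_dvd_of_pow_eq_one h)))

theorem prime_cases {p : ℕ} (hp : p.Prime) (h : p ∣ 20 ∨ p ∣ 50 ∨ p ∣ 75 ∨ p ∣ 13) :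
    p = 2 ∨ p = 3 ∨ p = 5 ∨ p = 13 := by
  have hle : p ≤ 75 := by
    rcases h with h | h | h | h <;> have := Nat.le_of_dvd (by norm_num) h <;> omega
  interval_cases p <;> first | (exfalso; revert hp; norm_num; done) | (exfalso; revert h; norm_num; done) | simp

/-- which products of two primes divide one of the four exponents -/
theorem edge_cases {p q : ℕ} (hp : p.Prime) (hq : q.Prime) (hne : p ≠ q)
    (h : p * q ∣ 20 ∨ p * q ∣ 50 ∨ p * q ∣ 75 ∨ p * q ∣ 13) :
    (p = 2 ∧ q = 5) ∨ (p = 5 ∧ q = 2) ∨ (p = 3 ∧ q = 5) ∨ (p = 5 ∧ q = 3) := by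
  have hp' := prime_cases hp (by
    rcases h with h | h | h | h
    · exact Or.inl ((dvd_mul_right p q).trans h)
    · exact Or.inr (Or.inl ((dvd_mul_right p q).trans h))
    · exact Or.inr (Or.inr (Or.inl ((dvd_mul_right p q).trans h)))
    · exact Or.inr (Or.inr (Or.inr ((dvd_mul_right p q).trans h))))
  have hq' := prime_cases hq (by
    rcases h with h | h | h | h
    · exact Or.inl ((dvd_mul_left q p).trans h)
    · exact Or.inr (Or.inl ((dvd_mul_left q p).trans h))
    · exact Or.inr (Or.inr (Or.inl ((dvd_mul_left q p).trans h)))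
    · exact Or.inr (Or.inr (Or.inr ((dvd_mul_left q p).trans h))))
  rcases hp' with rfl | rfl | rfl | rfl <;> rcases hq' with rfl | rfl | rfl | rfl <;>
    first | (exfalso; exact hne rfl) | (exfalso; revert h; norm_num; done) | simp

theorem exists_orderOf_HK (k : ℕ) (n : ℕ) (g : ↥LU) (hg : orderOf g = n) :
    ∃ w : HK k, orderOf w = n :=
  ⟨AffGp.inr g, by rw [AffGp.orderOf_inr, hg]⟩

instance (k : ℕ) : Finite (HK k) := inferInstance

theorem HK_primes (k : ℕ) (p : ℕ) (hp : p.Prime) :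
    p ∣ Nat.card (HK k) ↔ (p = 2 ∨ p = 3 ∨ p = 5 ∨ p = 13) := by
  constructor
  · intro h
    have : Fact p.Prime := ⟨hp⟩
    obtain ⟨w, hw⟩ := exists_prime_orderOf_dvd_card' p h
    have := orderOf_dvd_HK k w
    rw [hw] at this
    exact prime_cases hp this
  · intro h
    obtain ⟨w10, h10⟩ := exists_orderOf_HK k 10 _ orderOf_w10
    obtain ⟨w15, h15⟩ := exists_orderOf_HK k 15 _ orderOf_w15
    obtain ⟨w13, h13⟩ := exists_orderOf_HK k 13 _ orderOf_w13
    have d10 : 10 ∣ Nat.card (HK k) := h10 ▸ orderOf_dvd_natCard w10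
    have d15 : 15 ∣ Nat.card (HK k) := h15 ▸ orderOf_dvd_natCard w15
    have d13 : 13 ∣ Nat.card (HK k) := h13 ▸ orderOf_dvd_natCard w13
    rcases h with rfl | rfl | rfl | rfl
    · exact (by norm_num : 2 ∣ 10).trans d10
    · exact (by norm_num : 3 ∣ 15).trans d15
    · exact (by norm_num : 5 ∣ 10).trans d10
    · exact d13

theorem HK_edges (k : ℕ) (p q : ℕ) (hp : p.Prime) (hq : q.Prime) (hne : p ≠ q) :
    (∃ w : HK k, orderOf w = p * q) ↔
      ((p = 2 ∧ q = 5) ∨ (p = 5 ∧ q = 2) ∨ (p = 3 ∧ q = 5) ∨ (p = 5 ∧ q = 3)) := by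
  constructor
  · rintro ⟨w, hw⟩
    have := orderOf_dvd_HK k w
    rw [hw] at this
    exact edge_cases hp hq hne this
  · rintro (⟨rfl, rfl⟩ | ⟨rfl, rfl⟩ | ⟨rfl, rfl⟩ | ⟨rfl, rfl⟩)
    · exact exists_orderOf_HK k _ _ orderOf_w10
    · exact exists_orderOf_HK k _ _ orderOf_w10
    · exact exists_orderOf_HK k _ _ orderOf_w15
    · exact exists_orderOf_HK k _ _ orderOf_w15

theorem lt_card_HK (N : ℕ) : N < Nat.card (HK (N + 1)) := by
  have h1 : Nat.card (Fin (N + 1) → VU) ≤ Nat.card (HK (N + 1)) := AffGp.card_ge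
  have h2 : Nat.card (Fin (N + 1) → VU) = (5 ^ 12) ^ (N + 1) := by
    have e : Nat.card VU = 5 ^ 12 := by
      show Nat.card (Fin 12 → ZMod 5) = 5 ^ 12
      rw [Nat.card_eq_fintype_card, Fintype.card_fun, ZMod.card, Fintype.card_fin]
    rw [Nat.card_fun, e, Nat.card_eq_fintype_card, Fintype.card_fin]
  have h3 : N + 1 < (5 ^ 12) ^ (N + 1) := Nat.lt_pow_self (by norm_num)
  omega

end Cfsg.Agent.Lib.Helper7.U34
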