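import Cfsg.Agent.S2366

/-!
# Element orders of `PSU(3, q)` in characteristic `2`: upper bound

The analogue of helper5's `Cfsg.Agent.S2366.upper` for `p = 2`: every element of `SU(3, q)` has a
power `k` which is scalar, with `k` dividing one of `q + 1`, `2 (q + 1) / d`, `(q ^ 2 - 1) / d`,
`(q ^ 2 - q + 1) / d`, `4`, where `d = gcd 3 (q + 1)`.
-/

set_option autoImplicit false

namespace Cfsg.Agent.Lib.Helper7.U34

open Polynomial Cfsg.Agent.Lib.Helper5 Cfsg.Agent.Lib.Helper5.Cubic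
open Cfsg.Agent.Lib.Helper5.PrimeGraph
open Cfsg.Agent.Lib.Helper2.Herm Cfsg.Agent.Lib.Helper1.HermCount Cfsg.Agent.Lib.Helper1.SUCenter
open Cfsg.Agent.S2365 Cfsg.Agent.S0278 Cfsg.Agent.S2366

variable {F : Type*} [Field F] [Fintype F] {q : ℕ}

theorem upper_split2 (hF : Fintype.card F = q ^ 2) [CharP F 2]
    (M : Matrix (Fin 3) (Fin 3) F)
    (hM : ∀ u v, Cfsg.hermForm 3 F q (M.mulVec u) (M.mulVec v) = Cfsg.hermForm 3 F q u v)
    (hdet : M.det = 1) (a b c : F) (hχ : M.charpoly = (X - C a) * ((X - C b) * (X - C c))) :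
    ∃ (k : ℕ) (c' : F), M.charpoly ∣ X ^ k - C c' ∧
      (k ∣ q + 1 ∨ k ∣ 2 * (q + 1) / Nat.gcd 3 (q + 1) ∨ k ∣ (q ^ 2 - 1) / Nat.gcd 3 (q + 1) ∨
        k ∣ 4) := by
  have hp : Fact (Nat.Prime 2) := ⟨Nat.prime_two⟩
  obtain ⟨hχm, hχd, hχ0⟩ := charpoly_props M hdet
  have hq2 := two_le_q hF
  have hmul : 2 * (q + 1) / Nat.gcd 3 (q + 1) = 2 * ((q + 1) / Nat.gcd 3 (q + 1)) :=
    Nat.mul_div_assoc _ (d_dvd_add _)
  have hd0 : 0 < Nat.gcd 3 (q + 1) := Nat.gcd_pos_of_pos_left _ (by norm_num)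
  have hdq := d_dvd_add q
  have hd3 := d_dvd_three q
  set d := Nat.gcd 3 (q + 1) with hdd
  have hcl : ∀ x : F, (x = a ∨ x = b ∨ x = c) →
      ((x ^ q)⁻¹ = a ∨ (x ^ q)⁻¹ = b ∨ (x ^ q)⁻¹ = c) := by
    intro x hx
    rw [← isRoot_prod_iff, ← hχ] at hx ⊢
    exact isRoot_tau hF M hM x hx
  rw [hχ] at hχ0 ⊢
  rw [mul_coeff_zero, mul_coeff_zero, Cfsg.Agent.S2476.coeff_zero_X_sub_C,
    Cfsg.Agent.S2476.coeff_zero_X_sub_C, Cfsg.Agent.S2476.coeff_zero_X_sub_C] at hχ0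
  have habc : a * b * c = 1 := by
    have : -a * (-b * -c) = -(a * b * c) := by ring
    rw [this, neg_inj] at hχ0
    exact hχ0
  have ha0 : a ≠ 0 := by rintro rfl; simp at habc
  have hb0 : b ≠ 0 := by rintro rfl; simp at habc
  have hc0 : c ≠ 0 := by rintro rfl; simp at habc
  have third : ∀ x y z : F, x ≠ 0 → x * y * z = 1 → y = (x ^ q)⁻¹ → z = x ^ q * x⁻¹ := by
    intro x y z hx0 hxyz hy
    have hxq0 : x ^ q ≠ 0 := pow_ne_zero _ hx0
    rw [hy] at hxyz
    have : z = (x * (x ^ q)⁻¹)⁻¹ := eq_inv_of_mul_eq_one_right hxyz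
    rw [this, mul_inv, inv_inv, mul_comm]
  by_cases ha : a ^ (q + 1) = 1
  · by_cases hb : b ^ (q + 1) = 1
    · by_cases hc : c ^ (q + 1) = 1
      · obtain ⟨t, ht⟩ := hdq
        obtain ⟨e, he⟩ := hd3
        have ht' : (q + 1) / d = t := by
          rw [ht, Nat.mul_div_cancel_left _ hd0]
        have h3t : ∀ x : F, x ^ (q + 1) = 1 → x ^ (3 * t) = 1 := by
          intro x hx
          have : 3 * t = (q + 1) * e := by rw [he, ht]; ring
          rw [this, pow_mul, hx, one_pow]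
        by_cases hab : a = b
        · subst hab
          by_cases hac : a = c
          · subst hac
            have e1 : (X - C a) * ((X - C a) * (X - C a)) = (X - C a) ^ 3 := by ring
            rw [e1]
            exact ⟨4, _, Cfsg.Agent.S2476.upper_triple_two a, Or.inr (Or.inr (Or.inr dvd_rfl))⟩
          · have e1 : (X - C a) * ((X - C a) * (X - C c)) = (X - C a) ^ 2 * (X - C c) := by ring
            rw [e1]
            refine ⟨_, _, double_dvd 2 a c hac (by rw [← habc]; ring) t (h3t a ha),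
              Or.inr (Or.inl ?_)⟩
            rw [hmul, ht']
        · by_cases hac : a = c
          · subst hac
            have e1 : (X - C a) * ((X - C b) * (X - C a)) = (X - C a) ^ 2 * (X - C b) := by ring
            rw [e1]
            refine ⟨_, _, double_dvd 2 a b hab (by rw [← habc]; ring) t (h3t a ha),
              Or.inr (Or.inl ?_)⟩
            rw [hmul, ht']
          · by_cases hbc : b = c
            · subst hbc
              have e1 : (X - C a) * ((X - C b) * (X - C b)) = (X - C b) ^ 2 * (X - C a) := by ring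
              rw [e1]
              refine ⟨_, _, double_dvd 2 b a (Ne.symm hab) (by rw [← habc]; ring) t (h3t b hb),
                Or.inr (Or.inl ?_)⟩
              rw [hmul, ht']
            · exact ⟨_, _, upper_distinct' a b c ha hb hc hab hac hbc, Or.inl dvd_rfl⟩
      · exfalso
        rcases hcl c (Or.inr (Or.inr rfl)) with h | h | h
        · exact hc (tau_fixed_of_eq hF c a hc0 ha h)
        · exact hc (tau_fixed_of_eq hF c b hc0 hb h)
        · apply hc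
          have h1 : c * c ^ q = (c ^ q)⁻¹ * c ^ q := by rw [h]
          rw [inv_mul_cancel₀ (pow_ne_zero _ hc0)] at h1
          rw [pow_succ', h1]
    · rcases hcl b (Or.inr (Or.inl rfl)) with h | h | h
      · exact absurd (tau_fixed_of_eq hF b a hb0 ha h) hb
      · exfalso
        apply hb
        have h1 : b * b ^ q = (b ^ q)⁻¹ * b ^ q := by rw [h]
        rw [inv_mul_cancel₀ (pow_ne_zero _ hb0)] at h1
        rw [pow_succ', h1]
      · have hz := third b c a hb0 (by rw [← habc]; ring) h.symm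
        have e1 : (X - C a) * ((X - C b) * (X - C c)) =
            (X - C b) * ((X - C (b ^ q)⁻¹) * (X - C (b ^ q * b⁻¹))) := by
          rw [h, ← hz]; ring
        rw [e1]
        exact ⟨_, _, upper_swap hF b hb0 hb, Or.inr (Or.inr (Or.inl dvd_rfl))⟩
  · rcases hcl a (Or.inl rfl) with h | h | h
    · exfalso
      apply ha
      have h1 : a * a ^ q = (a ^ q)⁻¹ * a ^ q := by rw [h]
      rw [inv_mul_cancel₀ (pow_ne_zero _ ha0)] at h1
      rw [pow_succ', h1]
    · have hz := third a b c ha0 habc h.symm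
      have e1 : (X - C a) * ((X - C b) * (X - C c)) =
          (X - C a) * ((X - C (a ^ q)⁻¹) * (X - C (a ^ q * a⁻¹))) := by
        rw [h, ← hz]
      rw [e1]
      exact ⟨_, _, upper_swap hF a ha0 ha, Or.inr (Or.inr (Or.inl dvd_rfl))⟩
    · have hz := third a c b ha0 (by rw [← habc]; ring) h.symm
      have e1 : (X - C a) * ((X - C b) * (X - C c)) =
          (X - C a) * ((X - C (a ^ q)⁻¹) * (X - C (a ^ q * a⁻¹))) := by
        rw [h, ← hz]; ring
      rw [e1]
      exact ⟨_, _, upper_swap hF a ha0 ha, Or.inr (Or.inr (Or.inl dvd_rfl))⟩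

theorem upper2 (hF : Fintype.card F = q ^ 2) [CharP F 2] (g : Cfsg.SU 3 F q) :
    ∃ (k : ℕ) (c : F), mat g ^ k = c • 1 ∧
      (k ∣ q + 1 ∨ k ∣ 2 * (q + 1) / Nat.gcd 3 (q + 1) ∨ k ∣ (q ^ 2 - 1) / Nat.gcd 3 (q + 1) ∨
        k ∣ (q ^ 2 - q + 1) / Nat.gcd 3 (q + 1) ∨ k ∣ 4) := by
  classical
  set M := mat g with hMdef
  have hM : ∀ u v, Cfsg.hermForm 3 F q (M.mulVec u) (M.mulVec v) = Cfsg.hermForm 3 F q u v :=
    SU_preserves g
  have hdet : M.det = 1 := (g : Matrix.SpecialLinearGroup (Fin 3) F).2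
  obtain ⟨hχm, hχd, hχ0⟩ := charpoly_props M hdet
  have hfin : Finite (Cfsg.SU 3 F q) := inferInstance
  have hm : 0 < orderOf g := orderOf_pos g
  have hMm : M ^ orderOf g = 1 := by
    rw [hMdef, ← mat_pow, pow_orderOf_eq_one, mat_one]
  rcases cubic_cases M.charpoly hχm hχd with hirr | ⟨a, h, hhm, hhd, hirr, hχ⟩ | ⟨a, b, c, hχ⟩
  · obtain ⟨c, hc⟩ := upper_irred hF M hM hdet _ hm hMm hirr
    exact ⟨_, c, pow_eq_smul_of_charpoly_dvd M _ c hc,
      Or.inr (Or.inr (Or.inr (Or.inl dvd_rfl)))⟩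
  · exact (no_quad hF M hM hdet _ hm hMm a h hhm hhd hirr hχ).elim
  · obtain ⟨k, c', hdvd, hk⟩ := upper_split2 hF M hM hdet a b c hχ
    refine ⟨k, c', pow_eq_smul_of_charpoly_dvd M k c' hdvd, ?_⟩
    rcases hk with hk | hk | hk | hk
    · exact Or.inl hk
    · exact Or.inr (Or.inl hk)
    · exact Or.inr (Or.inr (Or.inl hk))
    · exact Or.inr (Or.inr (Or.inr (Or.inr hk)))

/-- the orders of the elements of `PSU(3, 4)` -/
theorem orderOf_dvd_psu (hF : Fintype.card F = 4 ^ 2) [CharP F 2] (x : Cfsg.PSU 3 F 4) :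
    orderOf x ∣ 5 ∨ orderOf x ∣ 10 ∨ orderOf x ∣ 15 ∨ orderOf x ∣ 13 ∨ orderOf x ∣ 4 := by
  obtain ⟨g, rfl⟩ := QuotientGroup.mk_surjective x
  obtain ⟨k, c, hpow, hk⟩ := upper2 hF g
  have h1 : (QuotientGroup.mk g : Cfsg.PSU 3 F 4) ^ k = 1 :=
    (mk_pow_eq_one_iff hF g k).2 ⟨c, hpow⟩
  have h2 := orderOf_dvd_of_pow_eq_one h1
  have e1 : Nat.gcd 3 (4 + 1) = 1 := by norm_num
  rw [e1] at hk
  norm_num at hk
  rcases hk with hk | hk | hk | hk | hk
  · exact Or.inl (h2.trans hk)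
  · exact Or.inr (Or.inl (h2.trans hk))
  · exact Or.inr (Or.inr (Or.inl (h2.trans hk)))
  · exact Or.inr (Or.inr (Or.inr (Or.inl (h2.trans hk))))
  · exact Or.inr (Or.inr (Or.inr (Or.inr (h2.trans hk))))

theorem exists_orderOf_psu (hF : Fintype.card F = 4 ^ 2) [CharP F 2] :
    (∃ x : Cfsg.PSU 3 F 4, orderOf x = 10) ∧ (∃ x : Cfsg.PSU 3 F 4, orderOf x = 15) ∧
      (∃ x : Cfsg.PSU 3 F 4, orderOf x = 13) := by
  have hp : Fact (Nat.Prime 2) := ⟨Nat.prime_two⟩
  obtain ⟨x2, h2⟩ := exists_E2 (F := F) hF 2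
  obtain ⟨x3, h3⟩ := exists_E3 (F := F) hF
  obtain ⟨x4, h4⟩ := exists_E4 (F := F) hF 2
  have e1 : Nat.gcd 3 (4 + 1) = 1 := by norm_num
  rw [e1] at h2 h3 h4
  norm_num at h2 h3 h4
  exact ⟨⟨x2, h2⟩, ⟨x3, h3⟩, ⟨x4, h4⟩⟩

end Cfsg.Agent.Lib.Helper7.U34
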