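import Cfsg.Agent.Lib.Helper7.U34D4
import Cfsg.Agent.Lib.Helper7.U34D5

/-!
# The prime graph of `PSU(3, 4)` and of the groups `HK k`
-/

set_option autoImplicit false

namespace Cfsg.Agent.Lib.Helper7.U34

variable {F : Type*} [Field F] [Fintype F]

theorem charP_two_of_card (hF : Fintype.card F = 16) : CharP F 2 := by
  obtain ⟨p, hp⟩ := CharP.exists F
  have hpp : p.Prime := CharP.char_is_prime F p
  obtain ⟨n, _, hn⟩ := FiniteField.card F p
  rw [hF] at hn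
  have h1 : p ∣ 2 ^ 4 := by
    have hn0 : (n : ℕ) ≠ 0 := n.ne_zero
    have : p ∣ p ^ (n : ℕ) := dvd_pow_self p hn0
    rw [← hn] at this
    exact this
  have h2 : p ∣ 2 := hpp.dvd_of_dvd_pow h1
  have h3 : p = 2 := (Nat.prime_dvd_prime_iff_eq hpp Nat.prime_two).mp h2
  rw [← h3]
  exact hp

theorem prime_cases' {p : ℕ} (hp : p.Prime) (h : p ∣ 5 ∨ p ∣ 10 ∨ p ∣ 15 ∨ p ∣ 13 ∨ p ∣ 4) :
    p = 2 ∨ p = 3 ∨ p = 5 ∨ p = 13 := by
  have hle : p ≤ 15 := by
    rcases h with h | h | h | h | h <;> have := Nat.le_of_dvd (by norm_num) h <;> omega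
  interval_cases p <;> first | (exfalso; revert hp; norm_num; done) | (exfalso; revert h; norm_num; done) | simp

theorem edge_cases' {p q : ℕ} (hp : p.Prime) (hq : q.Prime) (hne : p ≠ q)
    (h : p * q ∣ 5 ∨ p * q ∣ 10 ∨ p * q ∣ 15 ∨ p * q ∣ 13 ∨ p * q ∣ 4) :
    (p = 2 ∧ q = 5) ∨ (p = 5 ∧ q = 2) ∨ (p = 3 ∧ q = 5) ∨ (p = 5 ∧ q = 3) := by
  have hp' := prime_cases' hp (by
    rcases h with h | h | h | h | h
    · exact Or.inl ((dvd_mul_right p q).trans h)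
    · exact Or.inr (Or.inl ((dvd_mul_right p q).trans h))
    · exact Or.inr (Or.inr (Or.inl ((dvd_mul_right p q).trans h)))
    · exact Or.inr (Or.inr (Or.inr (Or.inl ((dvd_mul_right p q).trans h))))
    · exact Or.inr (Or.inr (Or.inr (Or.inr ((dvd_mul_right p q).trans h)))))
  have hq' := prime_cases' hq (by
    rcases h with h | h | h | h | h
    · exact Or.inl ((dvd_mul_left q p).trans h)
    · exact Or.inr (Or.inl ((dvd_mul_left q p).trans h))
    · exact Or.inr (Or.inr (Or.inl ((dvd_mul_left q p).trans h)))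
    · exact Or.inr (Or.inr (Or.inr (Or.inl ((dvd_mul_left q p).trans h))))
    · exact Or.inr (Or.inr (Or.inr (Or.inr ((dvd_mul_left q p).trans h)))))
  rcases hp' with rfl | rfl | rfl | rfl <;> rcases hq' with rfl | rfl | rfl | rfl <;>
    first | (exfalso; exact hne rfl) | (exfalso; revert h; norm_num; done) | simp

theorem psu_primes (hF : Fintype.card F = 16) (p : ℕ) (hp : p.Prime) :
    p ∣ Nat.card (Cfsg.PSU 3 F 4) ↔ (p = 2 ∨ p = 3 ∨ p = 5 ∨ p = 13) := by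
  have hF' : Fintype.card F = 4 ^ 2 := by rw [hF]; norm_num
  have := charP_two_of_card hF
  have hfin : Finite (Cfsg.PSU 3 F 4) := inferInstance
  constructor
  · intro h
    have : Fact p.Prime := ⟨hp⟩
    obtain ⟨w, hw⟩ := exists_prime_orderOf_dvd_card' p h
    have := orderOf_dvd_psu hF' w
    rw [hw] at this
    exact prime_cases' hp this
  · intro h
    obtain ⟨⟨w10, h10⟩, ⟨w15, h15⟩, ⟨w13, h13⟩⟩ := exists_orderOf_psu (F := F) hF'
    have d10 : 10 ∣ Nat.card (Cfsg.PSU 3 F 4) := h10 ▸ orderOf_dvd_natCard w10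
    have d15 : 15 ∣ Nat.card (Cfsg.PSU 3 F 4) := h15 ▸ orderOf_dvd_natCard w15
    have d13 : 13 ∣ Nat.card (Cfsg.PSU 3 F 4) := h13 ▸ orderOf_dvd_natCard w13
    rcases h with rfl | rfl | rfl | rfl
    · exact (by norm_num : 2 ∣ 10).trans d10
    · exact (by norm_num : 3 ∣ 15).trans d15
    · exact (by norm_num : 5 ∣ 10).trans d10
    · exact d13

theorem psu_edges (hF : Fintype.card F = 16) (p q : ℕ) (hp : p.Prime) (hq : q.Prime)
    (hne : p ≠ q) :
    (∃ w : Cfsg.PSU 3 F 4, orderOf w = p * q) ↔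
      ((p = 2 ∧ q = 5) ∨ (p = 5 ∧ q = 2) ∨ (p = 3 ∧ q = 5) ∨ (p = 5 ∧ q = 3)) := by
  have hF' : Fintype.card F = 4 ^ 2 := by rw [hF]; norm_num
  have := charP_two_of_card hF
  constructor
  · rintro ⟨w, hw⟩
    have := orderOf_dvd_psu hF' w
    rw [hw] at this
    exact edge_cases' hp hq hne this
  · obtain ⟨⟨w10, h10⟩, ⟨w15, h15⟩, -⟩ := exists_orderOf_psu (F := F) hF'
    rintro (⟨rfl, rfl⟩ | ⟨rfl, rfl⟩ | ⟨rfl, rfl⟩ | ⟨rfl, rfl⟩)
    · exact ⟨w10, h10⟩
    · exact ⟨w10, h10⟩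
    · exact ⟨w15, h15⟩
    · exact ⟨w15, h15⟩

end Cfsg.Agent.Lib.Helper7.U34
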