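import Mathlib

set_option autoImplicit false

/-! A simple group of order 126000 whose Sylow 5-subgroups intersect trivially and with a
self-centralizing subgroup of order 7 has no proper subgroup of index less than 50. -/

namespace Cfsg.Agent.Lib.Helper7.U35M

open MulAction

variable {G : Type*} [Group G] [Finite G]

/-- a simple group embeds in the symmetric group on the cosets of a proper subgroup -/
theorem card_dvd_factorial_index [IsSimpleGroup G] (H : Subgroup G) (hH : H ≠ ⊤) :
    Nat.card G ∣ (H.index).factorial := by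
  classical
  have hcore : H.normalCore = ⊥ := by
    rcases (H.normalCore_normal).eq_bot_or_eq_top with h | h
    · exact h
    · exfalso
      apply hH
      rw [eq_top_iff, ← h]
      exact H.normalCore_le
  have hinj : Function.Injective (MulAction.toPermHom G (G ⧸ H)) := by
    rw [← MonoidHom.ker_eq_bot_iff, ← Subgroup.normalCore_eq_ker, hcore]
  haveI : Finite (G ⧸ H) := inferInstance
  have h1 := Subgroup.card_dvd_of_injective _ hinj
  rwa [Nat.card_perm, ← Subgroup.index_eq_card] at h1

/-- the Sylow `5`-subgroups intersect trivially -/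
def SylTI (G : Type*) [Group G] : Prop :=
  ∀ P Q : Sylow 5 G, (∃ x, x ∈ (P : Subgroup G) ∧ x ∈ (Q : Subgroup G) ∧ x ≠ 1) → P = Q

/-- a nontrivial element of a Sylow subgroup fixes no other Sylow subgroup -/
theorem smul_eq_iff_of_TI (hTI : SylTI G) (P : Sylow 5 G) (g : G) (hg : g ∈ (P : Subgroup G))
    (hg1 : g ≠ 1) (P' : Sylow 5 G) : g • P' = P' ↔ P' = P := by
  constructor
  · intro h
    rw [Sylow.smul_eq_iff_mem_normalizer] at h
    have h2 : g ∈ (P : Subgroup G) ⊓ Subgroup.normalizer (P' : Set G) := ⟨hg, h⟩
    rw [IsPGroup.inf_normalizer_sylow P.isPGroup'] at h2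
    exact hTI P' P ⟨g, h2.2, h2.1, hg1⟩
  · rintro rfl
    rw [Sylow.smul_eq_iff_mem_normalizer]
    exact Subgroup.le_normalizer hg

/-- the length of an orbit of Sylow subgroups under a subgroup `H`, modulo the order of a
`5`-subgroup of `H` inside the base point -/
theorem orbit_card_mod (hTI : SylTI G) (H : Subgroup G) (Q : Subgroup H) (P : Sylow 5 G)
    (hQP : ∀ q ∈ Q, (q : G) ∈ (P : Subgroup G)) :
    ∃ c : ℕ, Nat.card (orbit H P) + Nat.card Q = c * Nat.card Q + 1 := by
  classical
  set X := orbit H P with hX
  letI : Fintype X := Fintype.ofFinite X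
  letI : Fintype Q := Fintype.ofFinite Q
  have hB := MulAction.sum_card_fixedBy_eq_card_orbits_mul_card_group Q X
  refine ⟨Fintype.card (MulAction.orbitRel.Quotient Q X), ?_⟩
  rw [Nat.card_eq_fintype_card, Nat.card_eq_fintype_card, ← hB]
  -- the fixed points
  have h1 : Fintype.card (fixedBy X (1 : Q)) = Fintype.card X := by
    apply Fintype.card_congr
    exact ⟨fun x => x.1, fun x => ⟨x, by simp [MulAction.mem_fixedBy]⟩, fun x => rfl, fun x => rfl⟩
  have h2 : ∀ q : Q, q ≠ 1 → Fintype.card (fixedBy X q) = 1 := by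
    intro q hq
    rw [Fintype.card_eq_one_iff]
    have hq1 : ((q : H) : G) ≠ 1 := by
      intro h
      apply hq
      apply Subtype.ext
      apply Subtype.ext
      exact h
    have hfix : ∀ x : X, q • x = x ↔ (x : Sylow 5 G) = P := by
      intro x
      rw [← smul_eq_iff_of_TI hTI P _ (hQP q.1 q.2) hq1 x.1]
      constructor
      · intro h
        exact congrArg Subtype.val h
      · intro h
        exact Subtype.ext h
    refine ⟨⟨⟨P, mem_orbit_self P⟩, (hfix _).2 rfl⟩, ?_⟩
    rintro ⟨x, hx⟩
    apply Subtype.ext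
    apply Subtype.ext
    exact (hfix x).1 hx
  rw [← Finset.add_sum_erase Finset.univ _ (Finset.mem_univ (1 : Q)), h1]
  rw [Finset.sum_congr rfl (fun q hq => h2 q (Finset.ne_of_mem_erase hq))]
  rw [Finset.sum_const, Finset.card_erase_of_mem (Finset.mem_univ _), Finset.card_univ, smul_eq_mul,
    mul_one]
  have : 0 < Fintype.card Q := Fintype.card_pos
  omega

/-- the order of a Sylow subgroup -/
theorem card_sylow_eq {p k N : ℕ} [Fact p.Prime] {K : Type*} [Group K] [Finite K]
    (hK : Nat.card K = N) (h1 : p ^ k ∣ N) (h2 : ¬ p ^ (k + 1) ∣ N) (P : Sylow p K) :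
    Nat.card P = p ^ k := by
  have hp : p.Prime := Fact.out
  have d1 : p ^ k ∣ Nat.card P := P.pow_dvd_card_of_pow_dvd_card (by rw [hK]; exact h1)
  obtain ⟨j, hj⟩ := IsPGroup.exists_card_eq P.isPGroup'
  have d2 : p ^ j ∣ N := by
    rw [← hj, ← hK]
    exact Subgroup.card_subgroup_dvd_card _
  rw [hj] at d1 ⊢
  have l1 : k ≤ j := (Nat.pow_dvd_pow_iff_le_right hp.one_lt).mp d1
  have l2 : j ≤ k := by
    by_contra hlt
    push Not at hlt
    exact h2 ((pow_dvd_pow p hlt).trans d2)
  rw [le_antisymm l2 l1]

/-- the normalizer of a subgroup of order 7 with a self-centralizing generator -/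
theorem index_normalizer_seven (hcard : Nat.card G = 126000) (s : G) (hs : orderOf s = 7)
    (hC : Nat.card (Subgroup.centralizer ((Subgroup.zpowers s : Subgroup G) : Set G)) = 7)
    (S : Sylow 7 G) : (Subgroup.normalizer (S : Set G)).index = 6000 := by
  haveI : Fact (Nat.Prime 7) := ⟨by norm_num⟩
  -- a Sylow subgroup containing `s`
  have hpg : IsPGroup 7 (Subgroup.zpowers s) := by
    apply IsPGroup.of_card (n := 1)
    rw [Nat.card_zpowers, hs, pow_one]
  obtain ⟨S', hS'⟩ := hpg.exists_le_sylow
  have c7 : Nat.card S' = 7 ^ 1 :=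
    card_sylow_eq hcard (by norm_num) (by norm_num) S'
  have e1 : Subgroup.zpowers s = (S' : Subgroup G) := by
    apply Subgroup.eq_of_le_of_card_ge hS'
    rw [c7, Nat.card_zpowers, hs]
    norm_num
  -- all normalizers have the same index
  rw [← Sylow.card_eq_index_normalizer S, Sylow.card_eq_index_normalizer S']
  have hmod : (Subgroup.normalizer ((S' : Subgroup G) : Set G)).index ≡ 1 [MOD 7] := by
    change (Subgroup.normalizer (S' : Set G)).index ≡ 1 [MOD 7]
    rw [← Sylow.card_eq_index_normalizer S']
    exact card_sylow_modEq_one 7 G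
  change (Subgroup.normalizer ((S' : Subgroup G) : Set G)).index = 6000
  have key := Subgroup.card_dvd_of_injective _
    (QuotientGroup.kerLift_injective (S' : Subgroup G).normalizerMonoidHom)
  rw [Subgroup.normalizerMonoidHom_ker, ← Subgroup.index, ← Subgroup.relIndex] at key
  haveI : IsCyclic (S' : Subgroup G) := by
    rw [← e1]
    infer_instance
  rw [IsCyclic.card_mulAut, c7] at key
  have ht : Nat.totient (7 ^ 1) = 6 := by
    rw [pow_one, Nat.totient_prime (by norm_num)]
  rw [ht] at key
  have hle : Subgroup.centralizer ((S' : Subgroup G) : Set G) ≤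
      Subgroup.normalizer ((S' : Subgroup G) : Set G) := Subgroup.centralizer_le_normalizer _
  have h3 := Subgroup.relIndex_mul_index hle
  have h4 := Subgroup.card_mul_index (Subgroup.centralizer ((S' : Subgroup G) : Set G))
  rw [← e1, hC, hcard] at h4
  rw [← e1] at h3 key hmod
  have h5 : (Subgroup.centralizer ((Subgroup.zpowers s : Subgroup G) : Set G)).index = 18000 := by
    omega
  rw [h5] at h3
  rw [← e1]
  generalize (Subgroup.centralizer ((Subgroup.zpowers s : Subgroup G) : Set G)).relIndex
    (Subgroup.normalizer ((Subgroup.zpowers s : Subgroup G) : Set G)) = r at h3 key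
  generalize (Subgroup.normalizer ((Subgroup.zpowers s : Subgroup G) : Set G)).index = m at h3 hmod ⊢
  have hr : r ∈ Nat.divisors 6 := Nat.mem_divisors.mpr ⟨key, by norm_num⟩
  have hd : Nat.divisors 6 = {1, 2, 3, 6} := by decide
  rw [hd] at hr
  simp only [Finset.mem_insert, Finset.mem_singleton] at hr
  unfold Nat.ModEq at hmod
  rcases hr with rfl | rfl | rfl | rfl <;> omega

/-- the arithmetic -/
theorem arith : ∀ n ∈ Finset.Icc 15 49, n ∣ 126000 →
    ∀ q ∈ ({1, 5, 25, 125} : Finset ℕ), q ∣ 126000 / n → ¬ 5 ∣ 126000 / n / q →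
    ∀ s ∈ Nat.divisors 1000, q ∣ s → s ∣ 126000 / n →
      (126000 / n / s) % q = 1 % q → 126000 / n / s ≤ 126 →
      (7 ∣ 126000 / n → ((126000 / n / 7) % 7 = 1 ∨ (21 ∣ 126000 / n ∧ (126000 / n / 21) % 7 = 1))) →
      False := by
  decide +kernel

theorem card_sylow5 (hcard : Nat.card G = 126000) (P : Sylow 5 G) : Nat.card P = 125 := by
  haveI : Fact (Nat.Prime 5) := ⟨by norm_num⟩
  have := card_sylow_eq (p := 5) (k := 3) hcard (by norm_num) (by norm_num) P
  rw [this]
  norm_num

theorem divisors_1008 : ∀ d ∈ Nat.divisors 1008, d % 125 = 1 → d = 1 ∨ d = 126 := by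
  decide +kernel

/-- the number of Sylow `5`-subgroups -/
theorem card_sylow5_set [IsSimpleGroup G] (hcard : Nat.card G = 126000) (hTI : SylTI G) :
    Nat.card (Sylow 5 G) = 126 := by
  haveI : Fact (Nat.Prime 5) := ⟨by norm_num⟩
  let P : Sylow 5 G := default
  have hP := card_sylow5 hcard P
  obtain ⟨c, hc⟩ := orbit_card_mod hTI ⊤ ((P : Subgroup G).subgroupOf ⊤) P (fun q hq => hq)
  have e1 : Nat.card ((P : Subgroup G).subgroupOf ⊤) = 125 := by
    rw [Nat.card_congr (Subgroup.subgroupOfEquivOfLe (le_top : (P : Subgroup G) ≤ ⊤)).toEquiv, hP]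
  have e2 : Nat.card (orbit (⊤ : Subgroup G) P) = Nat.card (Sylow 5 G) := by
    have : orbit (⊤ : Subgroup G) P = Set.univ := by
      ext P'
      simp only [Set.mem_univ, iff_true]
      obtain ⟨g, hg⟩ := exists_smul_eq G P P'
      exact ⟨⟨g, trivial⟩, hg⟩
    rw [this]
    exact Nat.card_congr (Equiv.Set.univ _)
  rw [e1, e2] at hc
  have hd : Nat.card (Sylow 5 G) ∣ 1008 := by
    have h1 := Sylow.card_dvd_index P
    have h2 := (P : Subgroup G).card_mul_index
    rw [hcard, hP] at h2
    have h3 : (P : Subgroup G).index = 1008 := by omega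
    rwa [h3] at h1
  have hmem : Nat.card (Sylow 5 G) ∈ Nat.divisors 1008 := Nat.mem_divisors.mpr ⟨hd, by norm_num⟩
  rcases divisors_1008 _ hmem (by omega) with h | h
  · exfalso
    haveI : Subsingleton (Sylow 5 G) := (Nat.card_eq_one_iff_unique.mp h).1
    have hn : (P : Subgroup G).Normal := Sylow.normal_of_subsingleton P
    rcases hn.eq_bot_or_eq_top with hb | ht
    · rw [hb, Subgroup.card_bot] at hP
      omega
    · rw [ht, Subgroup.card_top, hcard] at hP
      omega
  · exact h

theorem card_normalizer5 [IsSimpleGroup G] (hcard : Nat.card G = 126000) (hTI : SylTI G)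
    (P : Sylow 5 G) : Nat.card (Subgroup.normalizer (P : Set G)) = 1000 := by
  haveI : Fact (Nat.Prime 5) := ⟨by norm_num⟩
  have h1 := Sylow.card_eq_index_normalizer P
  rw [card_sylow5_set hcard hTI] at h1
  have h2 := (Subgroup.normalizer (P : Set G)).card_mul_index
  rw [← h1, hcard] at h2
  omega

/-- a simple group of order 126000 whose Sylow `5`-subgroups intersect trivially and with a
self-centralizing subgroup of order 7 has no proper subgroup of index less than 50 -/
theorem min_index [IsSimpleGroup G] (hcard : Nat.card G = 126000) (hTI : SylTI G) (s : G)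
    (hs : orderOf s = 7)
    (hC : Nat.card (Subgroup.centralizer ((Subgroup.zpowers s : Subgroup G) : Set G)) = 7)
    (H : Subgroup G) (hH : H ≠ ⊤) : 50 ≤ H.index := by
  haveI : Fact (Nat.Prime 5) := ⟨by norm_num⟩
  haveI : Fact (Nat.Prime 7) := ⟨by norm_num⟩
  by_contra hlt
  push Not at hlt
  have hn : Nat.card H * H.index = 126000 := by rw [← hcard]; exact H.card_mul_index
  have hfac := card_dvd_factorial_index H hH
  rw [hcard] at hfac
  have h15 : 15 ≤ H.index := by
    by_contra h
    push Not at h
    have : (H.index).factorial ∣ (14).factorial := Nat.factorial_dvd_factorial (by omega)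
    have h2 : 126000 ∣ (14).factorial := hfac.trans this
    revert h2
    decide
  generalize hnn : H.index = n at *
  have hdvd : n ∣ 126000 := Dvd.intro_left _ hn
  have hh : Nat.card H = 126000 / n := by
    rw [← hn, Nat.mul_div_cancel _ (by omega)]
  -- the Sylow 5-subgroup of `H`
  let Q : Sylow 5 H := default
  obtain ⟨j, hj⟩ := IsPGroup.exists_card_eq Q.isPGroup'
  have hqd : Nat.card Q ∣ 126000 / n := by
    rw [← hh]
    exact Subgroup.card_subgroup_dvd_card _
  have hq5 : ¬ 5 ∣ 126000 / n / Nat.card Q := by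
    have h1 := Q.not_dvd_index
    have h2 := (Q : Subgroup H).card_mul_index
    rw [hh] at h2
    have h3 : (Q : Subgroup H).index = 126000 / n / Nat.card Q := by
      rw [← h2, Nat.mul_div_cancel_left _ Nat.card_pos]
    rwa [h3] at h1
  have hqmem : Nat.card Q ∈ ({1, 5, 25, 125} : Finset ℕ) := by
    have hj3 : j ≤ 3 := by
      by_contra h
      push Not at h
      have h1 : 5 ^ 4 ∣ Nat.card Q := by
        rw [hj]
        exact pow_dvd_pow 5 h
      have h2 : 5 ^ 4 ∣ 126000 := (h1.trans hqd).trans (Nat.div_dvd_of_dvd hdvd)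
      revert h2
      decide
    rw [hj]
    interval_cases j <;> simp
  -- a Sylow subgroup of `G` containing it
  obtain ⟨P, hP⟩ := (IsPGroup.map Q.isPGroup' H.subtype).exists_le_sylow
  obtain ⟨c, hc⟩ := orbit_card_mod hTI H (Q : Subgroup H) P
    (fun q hq => hP ⟨q, hq, rfl⟩)
  have h1 : Nat.card (orbit H P) * Nat.card (stabilizer H P) = Nat.card H := by
    rw [Nat.card_coe_set_eq, ← MulAction.index_stabilizer, mul_comm]
    exact Subgroup.card_mul_index _
  have hst : Nat.card (stabilizer H P) ∣ 1000 := by
    rw [← card_normalizer5 hcard hTI P, ← Sylow.stabilizer_eq_normalizer P,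
      ← Subgroup.card_map_of_injective H.subtype_injective]
    apply Subgroup.card_dvd_of_le
    rintro _ ⟨x, hx, rfl⟩
    exact hx
  have hQst : Nat.card Q ∣ Nat.card (stabilizer H P) := by
    apply Subgroup.card_dvd_of_le
    intro q hq
    rw [mem_stabilizer_iff]
    show ((q : H) : G) • P = P
    rw [Sylow.smul_eq_iff_mem_normalizer]
    exact Subgroup.le_normalizer (hP ⟨q, hq, rfl⟩)
  have ho : Nat.card (orbit H P) ≤ 126 := by
    rw [← card_sylow5_set hcard hTI]
    exact Nat.card_le_card_of_injective _ Subtype.val_injective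
  rw [hh] at h1
  have hsd : Nat.card (stabilizer H P) ∣ 126000 / n := Dvd.intro_left _ h1
  have ho' : Nat.card (orbit H P) = 126000 / n / Nat.card (stabilizer H P) := by
    rw [← h1, Nat.mul_div_cancel _ Nat.card_pos]
  have hmod : 126000 / n / Nat.card (stabilizer H P) % Nat.card Q = 1 % Nat.card Q := by
    rw [← ho']
    have := congrArg (· % Nat.card Q) hc
    simp only [Nat.add_mod_right, Nat.mul_add_mod_self_right] at this
    exact this
  -- the Sylow 7-subgroups
  have h7 : 7 ∣ 126000 / n → ((126000 / n / 7) % 7 = 1 ∨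
      (21 ∣ 126000 / n ∧ (126000 / n / 21) % 7 = 1)) := by
    intro h7d
    let S : Sylow 7 H := default
    have cS : Nat.card S = 7 ^ 1 := by
      apply card_sylow_eq hh (by rw [pow_one]; exact h7d)
      intro h49
      have : 7 ^ 2 ∣ 126000 := h49.trans (Nat.div_dvd_of_dvd hdvd)
      revert this
      decide
    rw [pow_one] at cS
    have hmod7 := card_sylow_modEq_one 7 H
    rw [Sylow.card_eq_index_normalizer S] at hmod7
    have hN := (Subgroup.normalizer (S : Set H)).card_mul_index
    rw [hh] at hN
    have d1 : 7 ∣ Nat.card (Subgroup.normalizer (S : Set H)) := by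
      have hle : Nat.card S ∣ Nat.card (Subgroup.normalizer (S : Set H)) :=
        Subgroup.card_dvd_of_le Subgroup.le_normalizer
      rwa [cS] at hle
    -- the image in `G`
    have hpg : IsPGroup 7 ((S : Subgroup H).map H.subtype) := IsPGroup.map S.isPGroup' _
    obtain ⟨S', hS'⟩ := hpg.exists_le_sylow
    have cS' : Nat.card S' = 7 ^ 1 := card_sylow_eq hcard (by norm_num) (by norm_num) S'
    have eS : (S : Subgroup H).map H.subtype = (S' : Subgroup G) := by
      apply Subgroup.eq_of_le_of_card_ge hS'
      rw [Subgroup.card_map_of_injective H.subtype_injective, cS, cS']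
      norm_num
    have hNG : Nat.card (Subgroup.normalizer (S' : Set G)) = 21 := by
      have h1 := index_normalizer_seven hcard s hs hC S'
      have h2 := (Subgroup.normalizer (S' : Set G)).card_mul_index
      rw [h1, hcard] at h2
      omega
    have d2 : Nat.card (Subgroup.normalizer (S : Set H)) ∣ 21 := by
      rw [← hNG, ← Subgroup.card_map_of_injective H.subtype_injective]
      apply Subgroup.card_dvd_of_le
      have := Subgroup.le_normalizer_map (H := (S : Subgroup H)) H.subtype
      rw [eS] at this
      exact this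
    have hm : Nat.card (Subgroup.normalizer (S : Set H)) = 7 ∨
        Nat.card (Subgroup.normalizer (S : Set H)) = 21 := by
      have hmem : Nat.card (Subgroup.normalizer (S : Set H)) ∈ Nat.divisors 21 :=
        Nat.mem_divisors.mpr ⟨d2, by norm_num⟩
      have hd : Nat.divisors 21 = {1, 3, 7, 21} := by decide
      rw [hd] at hmem
      simp only [Finset.mem_insert, Finset.mem_singleton] at hmem
      rcases hmem with h | h | h | h
      · rw [h] at d1; omega
      · rw [h] at d1; omega
      · exact Or.inl h
      · exact Or.inr h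
    unfold Nat.ModEq at hmod7
    rcases hm with hm | hm
    · left
      rw [hm] at hN
      have : (Subgroup.normalizer (S : Set H)).index = 126000 / n / 7 := by
        rw [← hN, Nat.mul_div_cancel_left _ (by norm_num)]
      rw [← this]
      exact hmod7
    · right
      rw [hm] at hN
      refine ⟨Dvd.intro _ hN, ?_⟩
      have : (Subgroup.normalizer (S : Set H)).index = 126000 / n / 21 := by
        rw [← hN, Nat.mul_div_cancel_left _ (by norm_num)]
      rw [← this]
      exact hmod7
  exact arith n (Finset.mem_Icc.mpr ⟨h15, by omega⟩) hdvd (Nat.card Q) hqmem hqd hq5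
    (Nat.card (stabilizer H P)) (Nat.mem_divisors.mpr ⟨hst, by norm_num⟩) hQst hsd hmod
    (by rw [← ho']; exact ho) h7

end Cfsg.Agent.Lib.Helper7.U35M
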