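import Mathlib
import Cfsg.Agent.Lib.Helper7.U35M1

set_option autoImplicit false

/-! Passing to the quotient by a central subgroup of order 3: the Sylow 5-subgroups still intersect
trivially, and the centralizer of an element of order 7. -/

namespace Cfsg.Agent.Lib.Helper7.U35M

open MulAction

variable {E : Type*} [Group E] [Finite E] (Z : Subgroup E) [Z.Normal]
  (hZc : Z ≤ Subgroup.center E) (hZ3 : Nat.card Z = 3)

omit [Finite E] in
theorem mem_centralizer_zpowers {K : Type*} [Group K] (g s : K) :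
    g ∈ Subgroup.centralizer ((Subgroup.zpowers s : Subgroup K) : Set K) ↔ s * g = g * s := by
  rw [Subgroup.mem_centralizer_iff]
  constructor
  · intro h
    exact h s (Subgroup.mem_zpowers s)
  · rintro h _ ⟨k, rfl⟩
    have hc : Commute s g := h
    exact (hc.zpow_left k)

include hZc hZ3

omit [Z.Normal] in
/-- an element of the central subgroup whose order is prime to 3 is trivial -/
theorem eq_one_of_pow (z : E) (hz : z ∈ Z) (N : ℕ) (hN : Nat.Coprime N 3) (h : z ^ N = 1) :
    z = 1 := by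
  have h3 : z ^ 3 = 1 := by
    have := pow_card_eq_one' (G := Z) (x := ⟨z, hz⟩)
    rw [hZ3] at this
    exact congrArg Subtype.val this
  have := (pow_gcd_eq_one (a := z) (m := N) (n := 3)).mpr ⟨h, h3⟩
  rw [hN, pow_one] at this
  exact this

theorem sylTI_quotient (hTI : SylTI E) : SylTI (E ⧸ Z) := by
  have : Fact (Nat.Prime 5) := ⟨by norm_num⟩
  rintro P₁ P₂ ⟨x, hx1, hx2, hx⟩
  obtain ⟨Q₁, rfl⟩ := Sylow.mapSurjective_surjective (QuotientGroup.mk'_surjective Z) 5 P₁
  obtain ⟨Q₂, rfl⟩ := Sylow.mapSurjective_surjective (QuotientGroup.mk'_surjective Z) 5 P₂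
  obtain ⟨a, ha, rfl⟩ := hx1
  obtain ⟨b, hb, hab⟩ := hx2
  have hz : a⁻¹ * b ∈ Z := QuotientGroup.eq.mp hab.symm
  obtain ⟨k₁, hk₁⟩ := Q₁.isPGroup' ⟨a, ha⟩
  obtain ⟨k₂, hk₂⟩ := Q₂.isPGroup' ⟨b, hb⟩
  have ha' : a ^ 5 ^ k₁ = 1 := congrArg Subtype.val hk₁
  have hb' : b ^ 5 ^ k₂ = 1 := congrArg Subtype.val hk₂
  have hcomm : Commute a (a⁻¹ * b) := by
    have := Subgroup.mem_center_iff.mp (hZc hz) a
    exact this
  have e : b = a * (a⁻¹ * b) := by group
  have hN1 : a ^ (5 ^ k₁ * 5 ^ k₂) = 1 := by rw [pow_mul, ha', one_pow]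
  have hN2 : b ^ (5 ^ k₁ * 5 ^ k₂) = 1 := by rw [mul_comm, pow_mul, hb', one_pow]
  have hzN : (a⁻¹ * b) ^ (5 ^ k₁ * 5 ^ k₂) = 1 := by
    have h1 := hcomm.mul_pow (5 ^ k₁ * 5 ^ k₂)
    rw [← e, hN2, hN1, one_mul] at h1
    exact h1.symm
  have hz1 : a⁻¹ * b = 1 := by
    apply eq_one_of_pow Z hZc hZ3 _ hz _ _ hzN
    apply Nat.Coprime.mul_left <;> exact Nat.Coprime.pow_left _ (by decide)
  have hab' : a = b := by
    have := congrArg (a * ·) hz1
    simpa using this.symm
  have ha1 : a ≠ 1 := by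
    rintro rfl
    exact hx (map_one _)
  have := hTI Q₁ Q₂ ⟨a, ha, hab' ▸ hb, ha1⟩
  rw [this]

theorem card_centralizer_quotient (hE : Nat.card E = 378000) (s : E) (hs : orderOf s = 7)
    (hC : Nat.card (Subgroup.centralizer ((Subgroup.zpowers s : Subgroup E) : Set E)) = 21) :
    orderOf (QuotientGroup.mk' Z s) = 7 ∧
      Nat.card (Subgroup.centralizer ((Subgroup.zpowers (QuotientGroup.mk' Z s) :
        Subgroup (E ⧸ Z)) : Set (E ⧸ Z))) = 7 := by
  have : Fact (Nat.Prime 7) := ⟨by norm_num⟩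
  have hs7 : s ^ 7 = 1 := by rw [← hs]; exact pow_orderOf_eq_one s
  constructor
  · apply orderOf_eq_prime
    · rw [← map_pow, hs7, map_one]
    · intro h
      have hsZ : s ∈ Z := by
        rw [← QuotientGroup.ker_mk' Z]
        exact h
      have := eq_one_of_pow Z hZc hZ3 s hsZ 7 (by decide) hs7
      rw [this, orderOf_one] at hs
      omega
  · -- the preimage of the centralizer
    have hcomap : (Subgroup.centralizer ((Subgroup.zpowers (QuotientGroup.mk' Z s) :
        Subgroup (E ⧸ Z)) : Set (E ⧸ Z))).comap (QuotientGroup.mk' Z) =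
        Subgroup.centralizer ((Subgroup.zpowers s : Subgroup E) : Set E) := by
      ext g
      rw [Subgroup.mem_comap, mem_centralizer_zpowers, mem_centralizer_zpowers]
      constructor
      · intro h
        rw [← map_mul, ← map_mul] at h
        have hz : (s * g)⁻¹ * (g * s) ∈ Z := QuotientGroup.eq.mp h
        set z := (s * g)⁻¹ * (g * s) with hzdef
        have hzc : ∀ x : E, x * z = z * x := fun x => (Subgroup.mem_center_iff.mp (hZc hz) x)
        have e1 : g * s * g⁻¹ = s * z := by
          have : g * s = s * g * z := by rw [hzdef]; group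
          rw [this, mul_assoc, mul_assoc, ← hzc g⁻¹, mul_inv_cancel_left]
        have e2 : (g * s * g⁻¹) ^ 7 = 1 := by
          rw [conj_pow, hs7, mul_one, mul_inv_cancel]
        have hcomm : Commute s z := hzc s
        rw [e1, hcomm.mul_pow, hs7, one_mul] at e2
        have hz1 := eq_one_of_pow Z hZc hZ3 z hz 7 (by decide) e2
        rw [hz1, mul_one] at e1
        have := congrArg (· * g) e1
        simpa using this.symm
      · intro h
        rw [← map_mul, ← map_mul, h]
    have hidx := Subgroup.index_comap_of_surjective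
      (Subgroup.centralizer ((Subgroup.zpowers (QuotientGroup.mk' Z s) :
        Subgroup (E ⧸ Z)) : Set (E ⧸ Z))) (QuotientGroup.mk'_surjective Z)
    rw [hcomap] at hidx
    have h1 := Subgroup.card_mul_index
      (Subgroup.centralizer ((Subgroup.zpowers s : Subgroup E) : Set E))
    have h2 := Subgroup.card_mul_index
      (Subgroup.centralizer ((Subgroup.zpowers (QuotientGroup.mk' Z s) :
        Subgroup (E ⧸ Z)) : Set (E ⧸ Z)))
    have h3 := Subgroup.card_eq_card_quotient_mul_card_subgroup Z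
    rw [hC, hE, hidx] at h1
    rw [hE, hZ3] at h3
    generalize Nat.card (Subgroup.centralizer ((Subgroup.zpowers (QuotientGroup.mk' Z s) :
        Subgroup (E ⧸ Z)) : Set (E ⧸ Z))) = c at h2 ⊢
    generalize (Subgroup.centralizer ((Subgroup.zpowers (QuotientGroup.mk' Z s) :
        Subgroup (E ⧸ Z)) : Set (E ⧸ Z))).index = i at h1 h2
    have hi : i = 18000 := by omega
    subst hi
    omega

end Cfsg.Agent.Lib.Helper7.U35M
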