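import Mathlib
import Cfsg.Agent.Lib.Helper7.U35C

set_option autoImplicit false
set_option maxRecDepth 100000

/-! The special unitary group of degree 3 over the field with 25 elements: the centralizer of an
element of order 7 has order 21. -/

namespace Cfsg.Agent.Lib.Helper7.U35

open Cfsg Matrix F25c

section commutant

variable {F : Type*} [Field F]

/-- a matrix commuting with a matrix `X` for which the first basis vector is cyclic is a polynomial
in `X` -/
theorem commutant3 (X G Bi : Matrix (Fin 3) (Fin 3) F)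
    (hB : (Matrix.of fun i j : Fin 3 => (X ^ (j : ℕ)) i 0) * Bi = 1) (hG : G * X = X * G) :
    ∃ a : Fin 3 → F, G = ∑ j : Fin 3, a j • X ^ (j : ℕ) := by
  set Bm : Matrix (Fin 3) (Fin 3) F := Matrix.of fun i j : Fin 3 => (X ^ (j : ℕ)) i 0 with hBm
  set a : Fin 3 → F := Bi *ᵥ (fun k => G k 0) with ha
  refine ⟨a, ?_⟩
  set D : Matrix (Fin 3) (Fin 3) F := G - ∑ j : Fin 3, a j • X ^ (j : ℕ) with hD
  have hcomm : ∀ j : ℕ, D * X ^ j = X ^ j * D := by
    intro j
    have h1 : Commute G X := hG
    have h2 : Commute (∑ j : Fin 3, a j • X ^ (j : ℕ)) X := by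
      apply Commute.sum_left
      intro i _
      exact (Commute.pow_self X (i : ℕ)).smul_left (a i)
    exact ((h1.sub_left h2).pow_right j)
  have hD0 : ∀ k, D k 0 = 0 := by
    intro k
    have h1 : Bm *ᵥ a = fun k => G k 0 := by
      rw [ha, Matrix.mulVec_mulVec, hB, Matrix.one_mulVec]
    have h2 := congrFun h1 k
    rw [hD, Matrix.sub_apply, Matrix.sum_apply, sub_eq_zero, ← h2]
    unfold Matrix.mulVec dotProduct
    apply Finset.sum_congr rfl
    intro j _
    rw [Matrix.smul_apply, smul_eq_mul, mul_comm]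
    rfl
  have hDB : D * Bm = 0 := by
    ext i j
    have h1 : (D * Bm) i j = (D * X ^ (j : ℕ)) i 0 := by
      rw [Matrix.mul_apply, Matrix.mul_apply]
      rfl
    rw [h1, hcomm, Matrix.mul_apply, Matrix.zero_apply]
    apply Finset.sum_eq_zero
    intro k _
    rw [hD0, mul_zero]
  have hDz : D = 0 := by
    have : D = D * (Bm * Bi) := by rw [hB, Matrix.mul_one]
    rw [this, ← Matrix.mul_assoc, hDB, Matrix.zero_mul]
  exact sub_eq_zero.mp hDz

end commutant

/-- the matrix of an element -/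
def mt (g : Gs) : Matrix (Fin 3) (Fin 3) F25c := g.1.1

theorem mt_mul (g h : Gs) : mt (g * h) = mt g * mt h := rfl

theorem mt_one : mt 1 = 1 := rfl

theorem mt_pow (g : Gs) (k : ℕ) : mt (g ^ k) = mt g ^ k := by
  induction k with
  | zero => rw [pow_zero, pow_zero, mt_one]
  | succ k ih => rw [pow_succ, pow_succ, mt_mul, ih]

theorem mt_gB : mt gB = MB := rfl

theorem mt_inj (g h : Gs) (e : mt g = mt h) : g = h := Subtype.ext (Subtype.ext e)

/-- the cube of the second generator, of order 7 -/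
def M7 : Matrix (Fin 3) (Fin 3) F25c := matOf [[6, 15, 0], [9, 14, 3], [5, 17, 7]]

def M72 : Matrix (Fin 3) (Fin 3) F25c := matOf [[24, 3, 20], [1, 11, 23], [13, 21, 17]]

theorem M7_eq : MB ^ 3 = M7 := by decide +kernel

theorem M72_eq : M7 ^ 2 = M72 := by decide +kernel

theorem MB_pow : MB ^ 21 = 1 := by decide +kernel

theorem MB_pow_seven : MB ^ 7 ≠ 1 := by decide +kernel

theorem M7_ne : M7 ≠ 1 := by decide +kernel

/-- the polynomials in the element of order 7 -/
def polyM (a0 a1 a2 : F25c) : Matrix (Fin 3) (Fin 3) F25c :=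
  a0 • (1 : Matrix (Fin 3) (Fin 3) F25c) + a1 • M7 + a2 • M72

/-- the determinant, expanded -/
def det3f (g : Matrix (Fin 3) (Fin 3) F25c) : F25c :=
  g 0 0 * g 1 1 * g 2 2 - g 0 0 * g 1 2 * g 2 1 - g 0 1 * g 1 0 * g 2 2 + g 0 1 * g 1 2 * g 2 0 +
    g 0 2 * g 1 0 * g 2 1 - g 0 2 * g 1 1 * g 2 0

theorem det_eq_det3f (g : Matrix (Fin 3) (Fin 3) F25c) : g.det = det3f g := Matrix.det_fin_three g

/-- the inverse of the matrix of the cyclic basis -/
def MBi : Matrix (Fin 3) (Fin 3) F25c := matOf [[1, 21, 7], [0, 13, 4], [0, 20, 9]]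

theorem MBi_chk : (Matrix.of fun i j : Fin 3 => (M7 ^ (j : ℕ)) i 0) * MBi = 1 := by decide +kernel

set_option maxHeartbeats 4000000 in
/-- the unitary polynomials of determinant one are the 21 obvious ones -/
theorem cands_chk : ∀ a0 a1 a2 : F25c,
    (∀ i j : Fin 3, polyM a0 a1 a2 0 i * conj (polyM a0 a1 a2 0 j) +
      polyM a0 a1 a2 1 i * conj (polyM a0 a1 a2 1 j) +
      polyM a0 a1 a2 2 i * conj (polyM a0 a1 a2 2 j) = if i = j then 1 else 0) →
    det3f (polyM a0 a1 a2) = 1 →
    ∃ j ∈ List.range 21, polyM a0 a1 a2 = MB ^ j := by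
  decide +kernel

theorem herm_single : ∀ i j : Fin 3, Cfsg.hermForm 3 F25c 5 (Pi.single i 1) (Pi.single j 1) =
    if i = j then 1 else 0 := by decide +kernel

theorem mt_on (g : Gs) (i j : Fin 3) :
    mt g 0 i * conj (mt g 0 j) + mt g 1 i * conj (mt g 1 j) + mt g 2 i * conj (mt g 2 j) =
      if i = j then 1 else 0 := by
  have h : Cfsg.hermForm 3 F25c 5 (mt g *ᵥ Pi.single i 1) (mt g *ᵥ Pi.single j 1) =
      Cfsg.hermForm 3 F25c 5 (Pi.single i 1) (Pi.single j 1) := g.2 _ _
  rw [herm_single, hermForm_eq, Matrix.mulVec_single_one, Matrix.mulVec_single_one] at h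
  exact h

/-- the element of order 7 -/
def s7 : Gs := gB ^ 3

theorem mt_s7 : mt s7 = M7 := by
  unfold s7
  rw [mt_pow, mt_gB, M7_eq]

/-- the centralizer of the element of order 7 -/
theorem centralizer_s7 (g : Gs) (hg : g * s7 = s7 * g) : ∃ j < 21, g = gB ^ j := by
  have hG : mt g * M7 = M7 * mt g := by
    have := congrArg mt hg
    rwa [mt_mul, mt_mul, mt_s7] at this
  obtain ⟨a, ha⟩ := commutant3 M7 (mt g) MBi MBi_chk hG
  have hp : mt g = polyM (a 0) (a 1) (a 2) := by
    rw [ha, Fin.sum_univ_three]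
    unfold polyM
    rw [← M72_eq]
    simp
  have hon := mt_on g
  have hdet : det3f (mt g) = 1 := by
    rw [← det_eq_det3f]
    exact (g : Matrix.SpecialLinearGroup (Fin 3) F25c).2
  rw [hp] at hon hdet
  obtain ⟨j, hj, hij⟩ := cands_chk (a 0) (a 1) (a 2) hon hdet
  refine ⟨j, List.mem_range.mp hj, ?_⟩
  apply mt_inj
  rw [mt_pow, mt_gB, hp, hij]

theorem gB_pow : gB ^ 21 = 1 := by
  apply mt_inj
  rw [mt_pow, mt_gB, MB_pow, mt_one]

theorem orderOf_gB : orderOf gB = 21 := by
  apply orderOf_eq_of_pow_and_pow_div_prime (by norm_num) gB_pow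
  intro p hp hd
  have h21 : p ∣ 3 * 7 := hd
  rcases (Nat.Prime.dvd_mul hp).mp h21 with h | h
  · have : p = 3 := (Nat.prime_dvd_prime_iff_eq hp (by norm_num)).mp h
    subst this
    intro e
    have := congrArg mt e
    rw [mt_pow, mt_gB, mt_one] at this
    exact MB_pow_seven this
  · have : p = 7 := (Nat.prime_dvd_prime_iff_eq hp (by norm_num)).mp h
    subst this
    intro e
    have := congrArg mt e
    rw [mt_pow, mt_gB, mt_one] at this
    exact M7_ne (M7_eq ▸ this)

theorem orderOf_s7 : orderOf s7 = 7 := by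
  unfold s7
  rw [orderOf_pow, orderOf_gB]
  rfl

theorem card_centralizer_s7 :
    Nat.card (Subgroup.centralizer ((Subgroup.zpowers s7 : Subgroup Gs) : Set Gs)) = 21 := by
  classical
  have hmem : ∀ g : Gs, g ∈ Subgroup.centralizer ((Subgroup.zpowers s7 : Subgroup Gs) : Set Gs) ↔
      s7 * g = g * s7 := by
    intro g
    rw [Subgroup.mem_centralizer_iff]
    constructor
    · intro h
      exact h s7 (Subgroup.mem_zpowers s7)
    · rintro h _ ⟨k, rfl⟩
      have hc : Commute s7 g := h
      exact (hc.zpow_left k)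
  apply le_antisymm
  · -- at most 21
    have hsub : ((Subgroup.centralizer ((Subgroup.zpowers s7 : Subgroup Gs) : Set Gs) :
        Subgroup Gs) : Set Gs) ⊆ ↑((Finset.range 21).image fun j => gB ^ j) := by
      intro g hg
      obtain ⟨j, hj, e⟩ := centralizer_s7 g ((hmem g).mp hg).symm
      rw [Finset.mem_coe, Finset.mem_image]
      exact ⟨j, Finset.mem_range.mpr hj, e.symm⟩
    have h1 := Set.ncard_le_ncard hsub (Finset.finite_toSet _)
    rw [Set.ncard_coe_finset] at h1
    have h2 := Finset.card_image_le (s := Finset.range 21) (f := fun j => gB ^ j)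
    rw [Finset.card_range] at h2
    have h3 : Nat.card (Subgroup.centralizer ((Subgroup.zpowers s7 : Subgroup Gs) : Set Gs)) =
        ((Subgroup.centralizer ((Subgroup.zpowers s7 : Subgroup Gs) : Set Gs) :
        Subgroup Gs) : Set Gs).ncard := rfl
    omega
  · -- at least 21
    have hle : Subgroup.zpowers gB ≤
        Subgroup.centralizer ((Subgroup.zpowers s7 : Subgroup Gs) : Set Gs) := by
      rw [Subgroup.zpowers_le, hmem]
      unfold s7
      rw [← pow_succ, ← pow_succ']
    have h1 := Subgroup.card_le_of_le hle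
    rwa [Nat.card_zpowers, orderOf_gB] at h1

end Cfsg.Agent.Lib.Helper7.U35
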