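import Mathlib
import Cfsg.Agent.Lib.Helper7.U35M2
import Cfsg.Agent.Lib.Helper7.U35M3
import Cfsg.Agent.Lib.Helper7.U35M4

set_option autoImplicit false

/-! The projective special unitary group of degree 3 over the field with 25 elements has no proper
subgroup of index less than 50. -/

namespace Cfsg.Agent.Lib.Helper7.U35

open Cfsg

theorem min_index_Ps (H : Subgroup Ps) (hH : H ≠ ⊤) : 50 ≤ H.index := by
  have hTI := U35M.sylTI_quotient (Subgroup.center (Cfsg.SU 3 F25c 5)) le_rfl card_center_Gs
    sylTI_Gs
  obtain ⟨hs, hC⟩ := U35M.card_centralizer_quotient (Subgroup.center (Cfsg.SU 3 F25c 5)) le_rfl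
    card_center_Gs card_Gs s7 orderOf_s7 card_centralizer_s7
  exact U35M.min_index card_Ps hTI _ hs hC H hH

end Cfsg.Agent.Lib.Helper7.U35
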