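import Mathlib
import Cfsg.Agent.Lib.Helper7.U35X1
import Cfsg.Agent.Lib.Helper7.U35M5

set_option autoImplicit false
set_option maxRecDepth 100000

/-! A subgroup of index 50 of the projective special unitary group of degree 3 over the field with
25 elements: the stabilizer of a set of 1512 isotropic vectors with 50 images. -/

namespace Cfsg.Agent.Lib.Helper7.U35

open Cfsg Matrix F25c MulAction Pointwise

/-- membership of the `j`-th vector in the `i`-th set -/
def memT (i j : ℕ) : Bool := (TS.getD i 0).testBit j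

/-- the action of the generators on the sets -/
def sgm (c i : ℕ) : ℕ := (sg.getD c []).getD i 0

theorem chk_T : allN (fun i => Nat.blt (sgm 0 i) 50 && Nat.blt (sgm 1 i) 50 &&
    allN (fun j => (memT i j == memT (sgm 0 i) (P 0 j)) &&
      (memT i j == memT (sgm 1 i) (P 1 j))) 3024) 50 = true := by
  decide +kernel

theorem chk_tpar : allN (fun i => Nat.beq i 0 || (Nat.blt (tpar.getD i (0, 0)).1 2 &&
    Nat.blt (tpar.getD i (0, 0)).2 i &&
      Nat.beq (sgm (tpar.getD i (0, 0)).1 (tpar.getD i (0, 0)).2) i)) 50 = true := by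
  decide +kernel

theorem chk_TS : TS.Nodup ∧ TS.length = 50 ∧ ∀ t ∈ TS, t < 2 ^ 3024 := by
  decide +kernel

/-- the `i`-th set of vectors -/
def TT (i : ℕ) : Set (Fin 3 → F25c) := {v | ∃ j < 3024, memT i j = true ∧ pt j = v}

theorem sgm_lt (c : ℕ) (hc : c < 2) (i : ℕ) (hi : i < 50) : sgm c i < 50 := by
  have h := allN_spec chk_T i hi
  simp only [Bool.and_eq_true] at h
  interval_cases c
  · exact Nat.blt_eq.mp h.1.1
  · exact Nat.blt_eq.mp h.1.2

theorem memT_sgm (c : ℕ) (hc : c < 2) (i : ℕ) (hi : i < 50) (j : ℕ) (hj : j < 3024) :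
    memT (sgm c i) (P c j) = memT i j := by
  have h := allN_spec chk_T i hi
  simp only [Bool.and_eq_true] at h
  have h2 := allN_spec h.2 j hj
  simp only [Bool.and_eq_true, beq_iff_eq] at h2
  interval_cases c
  · exact h2.1.symm
  · exact h2.2.symm

/-- the group permutes the 3024 vectors -/
theorem smul_pt (g : Gs) (j : ℕ) (hj : j < 3024) : ∃ j' < 3024, g • pt j = pt j' := by
  obtain ⟨h, -, hh⟩ := exists_reach j hj
  obtain ⟨j', hj', e⟩ := smul_pt0 (g * h)
  refine ⟨j', hj', ?_⟩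
  rw [← hh, ← mul_smul, e]

theorem gen_smul_TT (c : ℕ) (hc : c < 2) (i : ℕ) (hi : i < 50) :
    GG.getD c 1 • TT i = TT (sgm c i) := by
  ext v
  constructor
  · rintro ⟨_, ⟨j, hj, hm, rfl⟩, rfl⟩
    refine ⟨P c j, P_lt c hc j hj, ?_, ?_⟩
    · rw [memT_sgm c hc i hi j hj, hm]
    · exact (pi_act c hc j hj).symm
  · rintro ⟨j', hj', hm, rfl⟩
    obtain ⟨j, hj, e⟩ := smul_pt (GG.getD c 1)⁻¹ j' hj'
    have e2 : GG.getD c 1 • pt j = pt j' := by rw [← e, smul_inv_smul]
    rw [pi_act c hc j hj] at e2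
    have e3 : P c j = j' := pt_inj _ (P_lt c hc j hj) _ hj' e2
    refine ⟨pt j, ⟨j, hj, ?_, rfl⟩, ?_⟩
    · rw [← memT_sgm c hc i hi j hj, e3, hm]
    · show GG.getD c 1 • pt j = pt j'
      rw [pi_act c hc j hj, e3]

/-- every element permutes the 50 sets -/
theorem smul_TT (g : Gs) : ∀ i < 50, ∃ i' < 50, g • TT i = TT i' := by
  have hg : g ∈ Subgroup.closure {gA, gB} := by rw [hgen]; trivial
  have hpow : ∀ x : Gs, (∀ i < 50, ∃ i' < 50, x • TT i = TT i') → ∀ k : ℕ,
      ∀ i < 50, ∃ i' < 50, (x ^ k) • TT i = TT i' := by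
    intro x hx k
    induction k with
    | zero =>
      intro i hi
      exact ⟨i, hi, by rw [pow_zero, one_smul]⟩
    | succ k ih =>
      intro i hi
      obtain ⟨i₁, hi₁, e₁⟩ := hx i hi
      obtain ⟨i₂, hi₂, e₂⟩ := ih i₁ hi₁
      exact ⟨i₂, hi₂, by rw [pow_succ, mul_smul, e₁, e₂]⟩
  induction hg using Subgroup.closure_induction with
  | mem x hx =>
    intro i hi
    rcases hx with rfl | rfl
    · exact ⟨sgm 0 i, sgm_lt 0 (by norm_num) i hi, gen_smul_TT 0 (by norm_num) i hi⟩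
    · exact ⟨sgm 1 i, sgm_lt 1 (by norm_num) i hi, gen_smul_TT 1 (by norm_num) i hi⟩
  | one =>
    intro i hi
    exact ⟨i, hi, one_smul _ _⟩
  | mul x y _ _ hx hy =>
    intro i hi
    obtain ⟨i₁, hi₁, e₁⟩ := hy i hi
    obtain ⟨i₂, hi₂, e₂⟩ := hx i₁ hi₁
    exact ⟨i₂, hi₂, by rw [mul_smul, e₁, e₂]⟩
  | inv x _ hx =>
    have : x⁻¹ = x ^ (orderOf x - 1) := by
      have h1 : 0 < orderOf x := orderOf_pos x
      rw [eq_comm, ← mul_eq_one_iff_eq_inv, ← pow_succ, Nat.sub_add_cancel h1, pow_orderOf_eq_one]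
    rw [this]
    exact hpow x hx _

theorem exists_reach_TT (i : ℕ) (hi : i < 50) : ∃ g : Gs, g • TT 0 = TT i := by
  induction i using Nat.strong_induction_on with
  | _ i ih =>
    have h := allN_spec chk_tpar i hi
    rw [Bool.or_eq_true] at h
    rcases h with h | h
    · have hi0 : i = 0 := Nat.eq_of_beq_eq_true h
      subst hi0
      exact ⟨1, one_smul _ _⟩
    · simp only [Bool.and_eq_true] at h
      have h1 : (tpar.getD i (0, 0)).1 < 2 := Nat.blt_eq.mp h.1.1
      have h2 : (tpar.getD i (0, 0)).2 < i := Nat.blt_eq.mp h.1.2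
      have h3 := Nat.eq_of_beq_eq_true h.2
      obtain ⟨g, hg⟩ := ih _ h2 (by omega)
      refine ⟨GG.getD (tpar.getD i (0, 0)).1 1 * g, ?_⟩
      rw [mul_smul, hg, gen_smul_TT _ h1 _ (by omega), h3]

theorem pt_mem_TT (i j : ℕ) (hj : j < 3024) : pt j ∈ TT i ↔ memT i j = true := by
  constructor
  · rintro ⟨j', hj', hm, e⟩
    rw [pt_inj _ hj' _ hj e] at hm
    exact hm
  · intro h
    exact ⟨j, hj, h, rfl⟩

theorem TT_inj (i : ℕ) (hi : i < 50) (i' : ℕ) (hi' : i' < 50) (e : TT i = TT i') : i = i' := by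
  obtain ⟨hnd, hlen, hlt⟩ := chk_TS
  have hm : ∀ j, (TS.getD i 0).testBit j = (TS.getD i' 0).testBit j := by
    intro j
    by_cases hj : j < 3024
    · have h1 := pt_mem_TT i j hj
      rw [e, pt_mem_TT i' j hj] at h1
      exact Bool.eq_iff_iff.mpr h1.symm
    · have hb : ∀ t ∈ TS, t.testBit j = false := by
        intro t ht
        apply Nat.testBit_lt_two_pow
        exact lt_of_lt_of_le (hlt t ht) (Nat.pow_le_pow_right (by norm_num) (by omega))
      rw [hb _ (by rw [List.getD_eq_getElem _ _ (by rw [hlen]; exact hi)]; exact List.getElem_mem _),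
        hb _ (by rw [List.getD_eq_getElem _ _ (by rw [hlen]; exact hi')]; exact List.getElem_mem _)]
  have h2 := Nat.eq_of_testBit_eq hm
  rw [List.getD_eq_getElem _ _ (by rw [hlen]; exact hi),
    List.getD_eq_getElem _ _ (by rw [hlen]; exact hi')] at h2
  exact (List.Nodup.getElem_inj_iff hnd).mp h2

theorem orbit_TT : orbit Gs (TT 0) = ↑((Finset.range 50).image TT) := by
  classical
  ext U
  rw [Finset.mem_coe, Finset.mem_image]
  constructor
  · rintro ⟨g, rfl⟩
    obtain ⟨i, hi, e⟩ := smul_TT g 0 (by norm_num)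
    exact ⟨i, Finset.mem_range.mpr hi, e.symm⟩
  · rintro ⟨i, hi, rfl⟩
    obtain ⟨g, hg⟩ := exists_reach_TT i (Finset.mem_range.mp hi)
    exact ⟨g, hg⟩

/-- the subgroup of index 50 -/
def K50 : Subgroup Gs := stabilizer Gs (TT 0)

theorem index_K50 : K50.index = 50 := by
  classical
  unfold K50
  rw [index_stabilizer, orbit_TT, Set.ncard_coe_finset, Finset.card_image_of_injOn,
    Finset.card_range]
  intro i hi i' hi' e
  exact TT_inj i (Finset.mem_range.mp (Finset.mem_coe.mp hi)) i'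
    (Finset.mem_range.mp (Finset.mem_coe.mp hi')) e

theorem exists_index_Ps : ∃ H : Subgroup Ps, H.index = 50 := by
  refine ⟨K50.map (QuotientGroup.mk' (Subgroup.center (Cfsg.SU 3 F25c 5))), ?_⟩
  have hd := Subgroup.index_map_dvd K50 (QuotientGroup.mk'_surjective
    (Subgroup.center (Cfsg.SU 3 F25c 5)))
  rw [index_K50] at hd
  have hle : (K50.map (QuotientGroup.mk' (Subgroup.center (Cfsg.SU 3 F25c 5)))).index ≤ 50 :=
    Nat.le_of_dvd (by norm_num) hd
  have hne : K50.map (QuotientGroup.mk' (Subgroup.center (Cfsg.SU 3 F25c 5))) ≠ ⊤ := by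
    intro h
    have h1 := Subgroup.card_map_dvd K50 (QuotientGroup.mk' (Subgroup.center (Cfsg.SU 3 F25c 5)))
    rw [h, Subgroup.card_top] at h1
    have h2 : Nat.card (Cfsg.SU 3 F25c 5 ⧸ Subgroup.center (Cfsg.SU 3 F25c 5)) = 126000 := card_Ps
    rw [h2] at h1
    have h3 := K50.card_mul_index
    rw [index_K50, card_Gs] at h3
    have h4 : Nat.card K50 = 7560 := by omega
    rw [h4] at h1
    omega
  have hge := min_index_Ps _ hne
  exact le_antisymm hle hge

end Cfsg.Agent.Lib.Helper7.U35
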