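import Mathlib
import Cfsg.Agent.Lib.Helper1.Co2B9
import Cfsg.Agent.Lib.Helper7.McLC8
import Cfsg.Agent.Lib.Helper6.TCP.U62
import Cfsg.Agent.Lib.Helper7.U62S1

set_option autoImplicit false
set_option maxRecDepth 100000

/-! The stabilizer of two minimal vectors with inner product `-16` is `PSU_6(2)`: the model of the
second Conway group with the new letters, and the kernel checks of the tables. -/

namespace Cfsg.Agent.Lib.Helper7.U62S

open Cfsg
open Cfsg.Agent.Lib.Helper6.TC Cfsg.Agent.Lib.Helper6.PM Cfsg.Agent.Lib.Helper2.PMS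
open Cfsg.Agent.Lib.Helper5.Chain Cfsg.Agent.Lib.Helper1.Co2B Cfsg.Agent.Lib.Helper7.McLC

theorem chk_slpW' : chkSLP pm 2300 20 dsW pmW = true := by decide +kernel

theorem chk_slpW : chkSLP co2S.px co2S.n co2S.nl dsW pmW = true := by
  rw [co2S_nl]
  exact chk_slpW'

/-- the model of the second Conway group with 29 letters -/
noncomputable def co2W : PModel := slpModel co2S dsW pmW chk_slpW

theorem co2W_G : co2W.G = ↥Cfsg.Spor.Co2 := rfl

theorem co2W_n : co2W.n = 2300 := rfl

theorem co2W_nl : co2W.nl = 29 := by
  have := slpModel_nl co2S dsW pmW chk_slpW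
  rw [co2S_nl] at this
  exact this

theorem co2W_px : co2W.px = pmW := rfl

/-- the relators of the presentation hold for the letters `21..28` -/
theorem chk_rels : (Cfsg.Agent.Lib.Helper6.TCP.U62.base.all fun b =>
    chkEqN pmW 2300 29 (b.map fun i => 21 + i) []) = true := by decide +kernel

/-- the letters `21..28` fix the first point -/
theorem chk_fix : ((List.range 8).all fun i => Nat.beq (pmW (21 + i) 0) 0) = true := by
  decide +kernel

/-- the letter `21` is not trivial -/
theorem chk_ne : chkNeN pmW 2300 29 [21] [] 1 = true := by decide +kernel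

end Cfsg.Agent.Lib.Helper7.U62S
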