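import Mathlib
import Cfsg.Agent.Lib.Helper7.U62S2
import Cfsg.Agent.Lib.Helper6.Spor.U62Mat
import Cfsg.Agent.Lib.Helper1.SUCongr
import Cfsg.Agent.S1574

set_option autoImplicit false
set_option maxRecDepth 100000

/-! The stabilizer of two minimal vectors with inner product `-16` is `PSU_6(2)`: the homomorphism
from the presented group into the stabilizer of the first of the 4600 vectors in the second Conway
group, which is injective (the presented group is simple) and surjective (by the orders). -/

namespace Cfsg.Agent.Lib.Helper7.U62S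

open Cfsg MulAction
open Cfsg.Agent.Lib.Helper6.TC Cfsg.Agent.Lib.Helper6.PM Cfsg.Agent.Lib.Helper2.PMS
open Cfsg.Agent.Lib.Helper5.Chain Cfsg.Agent.Lib.Helper1.Co2B Cfsg.Agent.Lib.Helper7.McLC
open Cfsg.Agent.Lib.Helper1.LeechEnum Cfsg.Agent.Lib.Helper1.LeechConn
open Cfsg.Agent.Lib.Helper6 (TCP.U62.base TCP.U62.G TCP.U62.hbl)

/-! ### a general lemma -/

/-- a simple group of order at least 3 acting on a set so that a point has at most two images
fixes the point -/
theorem smul_eq_of_pair {Γ X : Type*} [Group Γ] [Finite Γ] [IsSimpleGroup Γ] [MulAction Γ X]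
    (hc : 2 < Nat.card Γ) (x x' : X) (h : ∀ γ : Γ, γ • x = x ∨ γ • x = x') (γ : Γ) :
    γ • x = x := by
  have hsub : orbit Γ x ⊆ {x, x'} := by
    rintro _ ⟨δ, rfl⟩
    rcases h δ with h1 | h1
    · left; exact h1
    · right; exact h1
  have hle : (orbit Γ x).ncard ≤ 2 :=
    (Set.ncard_le_ncard hsub (Set.toFinite _)).trans
      ((Set.ncard_insert_le x {x'}).trans (by rw [Set.ncard_singleton]))
  have hidx : (stabilizer Γ x).index ≤ 2 := by
    rw [MulAction.index_stabilizer]
    exact hle
  have hne : (stabilizer Γ x).index ≠ 0 := Subgroup.index_ne_zero_of_finite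
  have htop : stabilizer Γ x = ⊤ := by
    by_cases h1 : (stabilizer Γ x).index = 1
    · exact Subgroup.index_eq_one.mp h1
    · have h2 : (stabilizer Γ x).index = 2 := by omega
      haveI : (stabilizer Γ x).Normal := Subgroup.normal_of_index_eq_two h2
      rcases Subgroup.Normal.eq_bot_or_eq_top (H := stabilizer Γ x) inferInstance with h3 | h3
      · exfalso
        rw [h3, Subgroup.index_bot] at h2
        omega
      · exact h3
  have : γ ∈ stabilizer Γ x := by rw [htop]; exact Subgroup.mem_top γ
  exact this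

theorem prod_map_elt (M : PModel) (w : List ℕ) : (w.map fun c => M.elt [c]).prod = M.elt w := by
  induction w with
  | nil => rw [List.map_nil, List.prod_nil, M.elt_nil]
  | cons c w ih => rw [List.map_cons, List.prod_cons, ih, ← M.elt_cons]

/-! ### the homomorphism -/

/-- the element of a word -/
noncomputable def eltW (w : List ℕ) : ↥Cfsg.Spor.Co2 := co2W.elt w

theorem prod_map_eltW (w : List ℕ) : (w.map fun c => eltW [c]).prod = eltW w :=
  prod_map_elt co2W w

/-- the images of the generators -/
noncomputable def fW (i : ℕ) : ↥M0 := toM0 (eltW [21 + i])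

theorem hrelW : ∀ b ∈ TCP.U62.base, (b.map fW).prod = 1 := by
  intro b hb
  have h := chk_rels
  rw [List.all_eq_true] at h
  have h1 := h b hb
  have h2 : eltW (b.map fun i => 21 + i) = 1 := by
    have : co2W.elt (b.map fun i => 21 + i) = co2W.elt [] := by
      apply elt_eq_of_chkN
      rw [co2W_nl]
      exact h1
    rw [co2W.elt_nil] at this
    exact this
  have e : b.map fW = ((b.map fun i => 21 + i).map fun c => eltW [c]).map toM0 := by
    rw [List.map_map, List.map_map]
    rfl
  rw [e, ← map_list_prod, prod_map_eltW, h2, map_one]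

/-- the homomorphism from the presented group -/
noncomputable def psiW : TCP.U62.G →* ↥M0 := wgHom fW TCP.U62.hbl hrelW

theorem psiW_of (i : Fin 8) :
    psiW (PresentedGroup.mk (wrels 8 TCP.U62.base) (FreeGroup.of i)) = fW i.val :=
  wgHom_of fW TCP.U62.hbl hrelW i

theorem co2W_phi (g : ↥Cfsg.Spor.Co2) : co2W.phi g = phi (toM0 g) := rfl

theorem phi_fW (i : ℕ) (hi : i < 8) : phi (fW i) 0 = 0 := by
  have h := co2W.phi_inv_val [21 + i] (by
    intro c hc
    rw [List.mem_singleton] at hc
    rw [hc, co2W_nl]
    omega) (0 : Fin 2300)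
  have h0 := chk_fix
  rw [List.all_eq_true] at h0
  have h1 := Nat.eq_of_beq_eq_true (h0 i (List.mem_range.mpr hi))
  rw [wapp_cons, wapp_nil] at h
  have h2 : co2W.px (21 + i) ((0 : Fin 2300) : ℕ) = 0 := h1
  rw [h2] at h
  have h3 : (phi (fW i))⁻¹ (0 : Fin 2300) = 0 := Fin.ext h
  rw [Equiv.Perm.inv_eq_iff_eq] at h3
  exact h3.symm

end Cfsg.Agent.Lib.Helper7.U62S
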