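import Mathlib
import Cfsg.Agent.Lib.Helper7.U62S3

set_option autoImplicit false
set_option maxRecDepth 100000

/-! The stabilizer of two minimal vectors with inner product `-16` is `PSU_6(2)`: the
isomorphism, for the standard pair of vectors and then for all pairs. -/

namespace Cfsg.Agent.Lib.Helper7.U62S

open Cfsg MulAction
open Cfsg.Agent.Lib.Helper6.TC Cfsg.Agent.Lib.Helper6.PM Cfsg.Agent.Lib.Helper2.PMS
open Cfsg.Agent.Lib.Helper5.Chain Cfsg.Agent.Lib.Helper1.Co2B Cfsg.Agent.Lib.Helper7.McLC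
open Cfsg.Agent.Lib.Helper1.LeechEnum Cfsg.Agent.Lib.Helper1.LeechConn
open Cfsg.Agent.Lib.Helper6 (TCP.U62.base TCP.U62.G TCP.U62.hbl)
open Cfsg.Agent.Lib.Helper6.Simp (injective_of_simple)

/-- the stabilizer of the first vector -/
noncomputable def KW : Subgroup ↥M0 := (stabilizer (Equiv.Perm (Fin 4600)) (up 0)).comap phi4

theorem mem_KW (g : ↥M0) : g ∈ KW ↔ phi4 g (up 0) = up 0 := by
  unfold KW
  rw [Subgroup.mem_comap, mem_stabilizer_iff]
  rfl

theorem phi_psiW (γ : TCP.U62.G) : phi (psiW γ) 0 = 0 := by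
  have htop : ((stabilizer (Equiv.Perm (Fin 2300)) (0 : Fin 2300)).comap phi).comap psiW = ⊤ := by
    rw [eq_top_iff, ← PresentedGroup.closure_range_of (wrels 8 TCP.U62.base), Subgroup.closure_le]
    rintro _ ⟨i, rfl⟩
    rw [SetLike.mem_coe, Subgroup.mem_comap, Subgroup.mem_comap, mem_stabilizer_iff]
    show phi (psiW (PresentedGroup.mk _ (FreeGroup.of i))) 0 = 0
    rw [psiW_of]
    exact phi_fW i.val i.isLt
  have : γ ∈ ((stabilizer (Equiv.Perm (Fin 2300)) (0 : Fin 2300)).comap phi).comap psiW := by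
    rw [htop]
    exact Subgroup.mem_top γ
  rw [Subgroup.mem_comap, Subgroup.mem_comap, mem_stabilizer_iff] at this
  exact this

theorem phi4_psiW (γ : TCP.U62.G) :
    phi4 (psiW γ) (up 0) = up 0 ∨ phi4 (psiW γ) (up 0) = Fin.rev (up 0) := by
  have h := phi_psiW γ
  rw [phi_apply] at h
  have h2 := up_qd (phi4 (psiW γ) (up 0))
  rw [h] at h2
  exact h2

theorem card_G : Nat.card TCP.U62.G = 9196830720 := Cfsg.Agent.Lib.Helper6.U62Simple.simple.2

theorem psiW_mem_KW (γ : TCP.U62.G) : psiW γ ∈ KW := by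
  rw [mem_KW]
  haveI : IsSimpleGroup TCP.U62.G := Cfsg.Agent.Lib.Helper6.U62Simple.simple.1
  haveI : Finite TCP.U62.G := Nat.finite_of_card_ne_zero (by rw [card_G]; norm_num)
  letI : MulAction TCP.U62.G (Fin 4600) := MulAction.compHom (Fin 4600) (phi4.comp psiW)
  exact smul_eq_of_pair (Γ := TCP.U62.G) (by rw [card_G]; norm_num) (up 0) (Fin.rev (up 0))
    (fun δ => phi4_psiW δ) γ

theorem exists_move (i : Fin 4600) : ∃ g : ↥M0, phi4 g (up 0) = i := by
  obtain ⟨g, hg1, hg2⟩ := Cfsg.Agent.S1574.result Cfsg.Spor.leechU (xL (up 0)) (xL i) vecU_norm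
    (xL_mem _).1 (xL_mem i).1 (xL_mem _).2 (xL_mem i).2
  exact ⟨⟨g, (mem_M0 g).2 hg1⟩, (phi4_eq_iff _ _ _).2 hg2⟩

theorem card_KW : Nat.card KW = 9196830720 := by
  letI : MulAction ↥M0 (Fin 4600) := MulAction.compHom (Fin 4600) phi4
  have hst : stabilizer ↥M0 (up 0) = KW := by
    ext g
    rw [mem_stabilizer_iff, mem_KW]
    rfl
  have horb : orbit ↥M0 (up 0) = Set.univ := by
    ext i
    simp only [Set.mem_univ, iff_true]
    obtain ⟨g, hg⟩ := exists_move i
    exact ⟨g, hg⟩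
  have hidx : KW.index = 4600 := by
    rw [← hst, MulAction.index_stabilizer, horb, Set.ncard_univ, Nat.card_eq_fintype_card,
      Fintype.card_fin]
  have := Subgroup.card_mul_index KW
  rw [hidx, card_M0] at this
  omega

theorem psiW_injective : Function.Injective psiW := by
  refine injective_of_simple psiW Cfsg.Agent.Lib.Helper6.U62Simple.simple.1
    (x := PresentedGroup.mk _ (FreeGroup.of ⟨0, by decide⟩)) ?_
  rw [psiW_of]
  intro h
  have h1 : eltW [21 + 0] = 1 := (MulEquiv.map_eq_one_iff toM0).1 h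
  have h2 : co2W.elt [21] ≠ co2W.elt [] :=
    elt_ne_of_chkN co2W [21] [] 1 (by rw [co2W_nl]; exact chk_ne)
  rw [co2W.elt_nil] at h2
  exact h2 h1

theorem range_psiW : psiW.range = KW := by
  haveI : Finite KW := Nat.finite_of_card_ne_zero (by rw [card_KW]; norm_num)
  apply Subgroup.eq_of_le_of_card_ge
  · rintro _ ⟨γ, rfl⟩
    exact psiW_mem_KW γ
  · rw [card_KW, ← Nat.card_congr (MonoidHom.ofInjective psiW_injective).toEquiv, card_G]

/-- the presented group is the stabilizer of the first vector -/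
noncomputable def equivKW : TCP.U62.G ≃* KW :=
  (MonoidHom.ofInjective psiW_injective).trans (MulEquiv.subgroupCongr range_psiW)

/-- the stabilizer of the two standard vectors -/
def S2 : Subgroup Co0 := stabilizer Co0 Cfsg.Spor.leechU ⊓ stabilizer Co0 (xL (up 0))

theorem mem_S2 (g : Co0) : g ∈ S2 ↔ g ∈ M0 ∧ g • xL (up 0) = xL (up 0) := by
  unfold S2 M0
  rw [Subgroup.mem_inf, mem_stabilizer_iff (a := xL (up 0))]

/-- the stabilizer of the two standard vectors is the stabilizer of the first vector -/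
noncomputable def equivS2 : S2 ≃* KW where
  toFun s := ⟨⟨s.1, ((mem_S2 s.1).1 s.2).1⟩, by
    rw [mem_KW, phi4_eq_iff]
    exact ((mem_S2 s.1).1 s.2).2⟩
  invFun k := ⟨k.1.1, (mem_S2 k.1.1).2 ⟨k.1.2, by
    have := (mem_KW k.1).1 k.2
    rwa [phi4_eq_iff] at this⟩⟩
  left_inv s := rfl
  right_inv k := rfl
  map_mul' a b := rfl

/-- all pairs of vectors -/
theorem main (v w : leechLattice) (hv : sqNorm (v : GolayPt → ℤ) = 32)
    (hw : sqNorm (w : GolayPt → ℤ) = 32)
    (hd : dotInt (v : GolayPt → ℤ) (w : GolayPt → ℤ) = -16) :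
    Nonempty (↥(stabilizer Co0 v ⊓ stabilizer Co0 w) ≃* TCP.U62.G) := by
  obtain ⟨h, hh⟩ := trans32 v Cfsg.Spor.leechU hv vecU_norm
  have hmem : h • w ∈ OmL := by
    refine ⟨(smul_norm h w).trans hw, ?_⟩
    have := smul_dot h v w
    rw [hh] at this
    exact this.trans hd
  obtain ⟨i, hi⟩ := exists_index (h • w) hmem
  obtain ⟨m, hm⟩ := exists_move i
  have hm' : m.1 • xL (up 0) = xL i := (phi4_eq_iff m (up 0) i).1 hm
  have m1 := (mem_M0 m.1).1 m.2
  set g : Co0 := m.1⁻¹ * h with hg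
  have g1 : g • v = Cfsg.Spor.leechU := by
    rw [hg, mul_smul, hh, inv_smul_eq_iff, m1]
  have g2 : g • w = xL (up 0) := by
    rw [hg, mul_smul, ← hi, inv_smul_eq_iff, hm']
  have hmap : (stabilizer Co0 v ⊓ stabilizer Co0 w).map (MulAut.conj g).toMonoidHom = S2 := by
    rw [Subgroup.map_inf_eq _ _ _ (MulAut.conj g).injective,
      ← stabilizer_smul_eq_stabilizer_map_conj, ← stabilizer_smul_eq_stabilizer_map_conj, g1, g2]
    rfl
  have eq1 := (stabilizer Co0 v ⊓ stabilizer Co0 w).equivMapOfInjective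
    (MulAut.conj g).toMonoidHom (MulAut.conj g).injective
  exact ⟨((eq1.trans (MulEquiv.subgroupCongr hmap)).trans equivS2).trans equivKW.symm⟩

/-- every field of order 4 -/
theorem main_field (v w : leechLattice) (hv : sqNorm (v : GolayPt → ℤ) = 32)
    (hw : sqNorm (w : GolayPt → ℤ) = 32)
    (hd : dotInt (v : GolayPt → ℤ) (w : GolayPt → ℤ) = -16)
    (F : Type) [Field F] [Fintype F] (hF : Fintype.card F = 4) :
    Nonempty (↥(stabilizer Co0 v ⊓ stabilizer Co0 w) ≃* Cfsg.PSU 6 F 2) := by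
  obtain ⟨e⟩ := main v w hv hw hd
  have e4 : F ≃+* Cfsg.Agent.Lib.Helper1.Hexa.F4 :=
    FiniteField.ringEquivOfCardEq (by rw [hF]; rfl)
  exact ⟨(e.trans Cfsg.Agent.Lib.Helper6.U62Mat.iso).trans
    (Cfsg.Agent.Lib.Helper1.SUCongr.psuCongr e4).symm⟩

end Cfsg.Agent.Lib.Helper7.U62S
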