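import Mathlib

set_option autoImplicit false

/-! Permutations of prime order: normal form. -/

namespace Cfsg.Agent.Lib.Helper7.UP

open Equiv

section basic
variable {α : Type*} [Fintype α] [DecidableEq α]

theorem cycleType_eq_of_prime_order {σ : Perm α} {r : ℕ} (hr : r.Prime) (hσ : orderOf σ = r) :
    σ.cycleType = Multiset.replicate (σ.support.card / r) r := by
  obtain ⟨n, hn⟩ := Perm.cycleType_prime_order (σ := σ) (by rw [hσ]; exact hr)
  rw [hσ] at hn
  have h1 := Perm.sum_cycleType σ
  rw [hn, Multiset.sum_replicate, smul_eq_mul] at h1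
  rw [hn, ← h1, Nat.mul_div_cancel _ hr.pos]

theorem isConj_of_order_support {σ τ : Perm α} {r : ℕ} (hr : r.Prime) (hσ : orderOf σ = r)
    (hτ : orderOf τ = r) (h : σ.support.card = τ.support.card) : IsConj σ τ := by
  rw [Perm.isConj_iff_cycleType_eq, cycleType_eq_of_prime_order hr hσ,
    cycleType_eq_of_prime_order hr hτ, h]

theorem dvd_card_support {σ : Perm α} {r : ℕ} (hr : r.Prime) (hσ : orderOf σ = r) :
    r ∣ σ.support.card := by
  have h1 := Perm.sum_cycleType σ
  rw [cycleType_eq_of_prime_order hr hσ, Multiset.sum_replicate, smul_eq_mul] at h1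
  exact Dvd.intro_left _ h1

end basic

/-- the model permutation -/
def model (m r k : ℕ) [NeZero r] : Perm ((Fin m × ZMod r) ⊕ Fin k) :=
  Equiv.sumCongr (Equiv.prodCongr (Equiv.refl _) (Equiv.addRight (1 : ZMod r))) (Equiv.refl _)

theorem model_inl (m r k : ℕ) [NeZero r] (i : Fin m) (j : ZMod r) :
    model m r k (Sum.inl (i, j)) = Sum.inl (i, j + 1) := rfl

theorem model_inr (m r k : ℕ) [NeZero r] (u : Fin k) :
    model m r k (Sum.inr u) = Sum.inr u := rfl

theorem model_pow_inl (m r k : ℕ) [NeZero r] (n : ℕ) (i : Fin m) (j : ZMod r) :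
    (model m r k ^ n) (Sum.inl (i, j)) = Sum.inl (i, j + n) := by
  induction n with
  | zero => simp
  | succ n ih =>
    rw [pow_succ', Perm.mul_apply, ih, model_inl]
    push_cast
    rw [add_assoc]

theorem model_pow_inr (m r k : ℕ) [NeZero r] (n : ℕ) (u : Fin k) :
    (model m r k ^ n) (Sum.inr u) = Sum.inr u := by
  induction n with
  | zero => simp
  | succ n ih => rw [pow_succ', Perm.mul_apply, ih, model_inr]

theorem orderOf_model (m r k : ℕ) [NeZero r] (hr : r.Prime) (hm : 0 < m) :
    orderOf (model m r k) = r := by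
  have h1 : model m r k ^ r = 1 := by
    ext x
    rcases x with ⟨i, j⟩ | u
    · rw [model_pow_inl]
      simp
    · rw [model_pow_inr]
      simp
  have h2 : model m r k ≠ 1 := by
    intro h
    have h3 := model_inl m r k ⟨0, hm⟩ 0
    rw [h] at h3
    simp only [Perm.coe_one, id_eq, zero_add, Sum.inl.injEq, Prod.mk.injEq, true_and] at h3
    have : Fact (1 < r) := ⟨hr.one_lt⟩
    exact zero_ne_one h3
  have := Fact.mk hr
  exact orderOf_eq_prime h1 h2

theorem card_support_model (m r k : ℕ) [NeZero r] (hr : r.Prime) :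
    (model m r k).support.card = m * r := by
  have : Fact (1 < r) := ⟨hr.one_lt⟩
  have h1 : (model m r k).support =
      Finset.univ.map ⟨(Sum.inl : Fin m × ZMod r → (Fin m × ZMod r) ⊕ Fin k), Sum.inl_injective⟩ := by
    ext x
    rcases x with ⟨i, j⟩ | u
    · simp only [Perm.mem_support, model_inl, ne_eq, Sum.inl.injEq, Prod.mk.injEq, true_and,
        Finset.mem_map, Finset.mem_univ, Function.Embedding.coeFn_mk, exists_eq]
      simp
    · simp only [Perm.mem_support, model_inr, ne_eq, not_true_eq_false, Finset.mem_map,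
        Finset.mem_univ, Function.Embedding.coeFn_mk, true_and, false_iff, not_exists]
      intro x hx
      exact Sum.inl_ne_inr hx
  rw [h1, Finset.card_map, Finset.card_univ, Fintype.card_prod, Fintype.card_fin, ZMod.card]

theorem card_support_permCongr {X Y : Type*} [Fintype X] [DecidableEq X] [Fintype Y]
    [DecidableEq Y] (e : X ≃ Y) (σ : Perm X) :
    (e.permCongr σ).support.card = σ.support.card := by
  have h1 : (e.permCongr σ).support = σ.support.map e.toEmbedding := by
    ext y
    simp only [Perm.mem_support, Equiv.permCongr_apply, ne_eq, Finset.mem_map,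
      Equiv.coe_toEmbedding]
    constructor
    · intro h
      refine ⟨e.symm y, ?_, by simp⟩
      intro h2
      apply h
      rw [h2, Equiv.apply_symm_apply]
    · rintro ⟨x, hx, rfl⟩
      rw [Equiv.symm_apply_apply]
      intro h
      exact hx (e.injective h)
  rw [h1, Finset.card_map]

theorem orderOf_permCongr' {X Y : Type*} (e : X ≃ Y) (σ : Perm X) :
    orderOf (e.permCongr σ) = orderOf σ :=
  MulEquiv.orderOf_eq e.permCongrHom σ

/-- normal form of a permutation of prime order -/
theorem exists_equiv_model {X : Type*} [Fintype X] [DecidableEq X] (σ : Perm X) {r : ℕ} [NeZero r]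
    (hr : r.Prime) (hσ : orderOf σ = r) :
    ∃ (m k : ℕ) (e : X ≃ (Fin m × ZMod r) ⊕ Fin k), 0 < m ∧ m * r = σ.support.card ∧
      m * r + k = Fintype.card X ∧ ∀ x, e (σ x) = model m r k (e x) := by
  obtain ⟨m, hm⟩ := dvd_card_support hr hσ
  have hm' : m * r = σ.support.card := by rw [hm, mul_comm]
  have hle : σ.support.card ≤ Fintype.card X := Finset.card_le_univ _
  obtain ⟨k, hk⟩ := Nat.exists_eq_add_of_le hle
  have hmpos : 0 < m := by
    rcases Nat.eq_zero_or_pos m with h | h
    · exfalso
      rw [h, mul_zero, Finset.card_eq_zero, Perm.support_eq_empty_iff] at hm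
      rw [hm, orderOf_one] at hσ
      exact hr.one_lt.ne hσ
    · exact h
  have hcard : Fintype.card X = Fintype.card ((Fin m × ZMod r) ⊕ Fin k) := by
    rw [Fintype.card_sum, Fintype.card_prod, Fintype.card_fin, Fintype.card_fin, ZMod.card, hk, hm']
  let e₀ : X ≃ (Fin m × ZMod r) ⊕ Fin k := Fintype.equivOfCardEq hcard
  have hconj : IsConj (e₀.permCongr σ) (model m r k) := by
    apply isConj_of_order_support hr
    · rw [orderOf_permCongr', hσ]
    · exact orderOf_model m r k hr hmpos
    · rw [card_support_permCongr, card_support_model m r k hr, hm']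
  obtain ⟨ρ, hρ⟩ := isConj_iff.1 hconj
  refine ⟨m, k, e₀.trans ρ, hmpos, hm', by rw [hk, hm'], ?_⟩
  intro x
  have h1 := DFunLike.congr_fun hρ (ρ (e₀ x))
  simp only [Perm.mul_apply, Equiv.permCongr_apply] at h1
  rw [show ρ⁻¹ (ρ (e₀ x)) = e₀ x from ρ.symm_apply_apply (e₀ x), Equiv.symm_apply_apply] at h1
  simp only [Equiv.trans_apply]
  exact h1

end Cfsg.Agent.Lib.Helper7.UP
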