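import Mathlib
import Cfsg.Agent.Lib.Helper7.UP1

set_option autoImplicit false

/-! Necessary condition for a permutation of prime order to fix a uniform partition. -/

namespace Cfsg.Agent.Lib.Helper7.UP

open Equiv

theorem perm_dvd_card_support {B : Type*} [Fintype B] [DecidableEq B] (π : Perm B) {r : ℕ}
    (hr : r.Prime) (hπ : π ^ r = 1) : r ∣ π.support.card := by
  have h1 : orderOf π ∣ r := orderOf_dvd_of_pow_eq_one hπ
  rcases (Nat.dvd_prime hr).1 h1 with h | h
  · rw [orderOf_eq_one_iff] at h
    rw [h, Perm.support_one, Finset.card_empty]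
    exact dvd_zero r
  · exact dvd_card_support hr h

theorem model_pow_self (m r k : ℕ) [NeZero r] : model m r k ^ r = 1 := by
  ext x
  rcases x with ⟨i, j⟩ | u
  · rw [model_pow_inl]
    simp
  · rw [model_pow_inr]
    simp

theorem necessary_model (m r k : ℕ) [NeZero r] (hr : r.Prime) {B : Type*} [Fintype B]
    [DecidableEq B] (a : ℕ) (ha : 0 < a) (f : (Fin m × ZMod r) ⊕ Fin k → B)
    (hf : ∀ β, (Finset.univ.filter (fun y => f y = β)).card = a) (π : Perm B)
    (hπ : ∀ y, f (model m r k y) = π (f y)) :
    ∃ c : ℕ, c * r ≤ Fintype.card B ∧ c * a ≤ m ∧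
      m ≤ c * a + (Fintype.card B - c * r) * (a / r) := by
  classical
  have hsurj : Function.Surjective f := by
    intro β
    have h1 : 0 < (Finset.univ.filter (fun y => f y = β)).card := by rw [hf]; exact ha
    obtain ⟨y, hy⟩ := Finset.card_pos.1 h1
    exact ⟨y, (Finset.mem_filter.1 hy).2⟩
  have hpow : ∀ n : ℕ, ∀ y, f ((model m r k ^ n) y) = (π ^ n) (f y) := by
    intro n
    induction n with
    | zero => intro y; simp
    | succ n ih =>
      intro y
      rw [pow_succ', pow_succ', Perm.mul_apply, Perm.mul_apply, hπ, ih]
  have hπr : π ^ r = 1 := by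
    ext β
    obtain ⟨y, rfl⟩ := hsurj β
    have h1 : model m r k ^ r = 1 := model_pow_self m r k
    rw [← hpow, h1]
    rfl
  obtain ⟨c, hc⟩ := perm_dvd_card_support π hr hπr
  have hc' : c * r = π.support.card := by rw [hc, mul_comm]
  set g : Fin m × ZMod r → B := fun p => f (Sum.inl p) with hg
  have hgstep : ∀ i j, g (i, j + 1) = π (g (i, j)) := by
    intro i j
    have := hπ (Sum.inl (i, j))
    rw [model_inl] at this
    exact this
  -- fibres over fixed blocks are unions of rows
  have hrow : ∀ β, π β = β → ∀ i j j', g (i, j) = β → g (i, j') = β := by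
    intro β hβ i j j' h
    have h1 : ∀ n : ℕ, g (i, j + n) = β := by
      intro n
      induction n with
      | zero => simpa using h
      | succ n ih =>
        have := hgstep i (j + n)
        rw [ih, hβ] at this
        push_cast
        rw [← add_assoc]
        exact this
    have h2 := h1 (j' - j).val
    rw [ZMod.natCast_zmod_val] at h2
    simpa using h2
  -- no fixed point of the model lies over a moved block
  have hinr : ∀ u, π (f (Sum.inr u)) = f (Sum.inr u) := by
    intro u
    have := hπ (Sum.inr u)
    rw [model_inr] at this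
    exact this.symm
  have hcount : m * r = ∑ β : B, ((Finset.univ : Finset (Fin m × ZMod r)).filter
      (fun p => g p = β)).card := by
    rw [← Finset.card_eq_sum_card_fiberwise (f := g) (s := Finset.univ) (t := Finset.univ)
      (fun x _ => Finset.mem_univ _)]
    rw [Finset.card_univ, Fintype.card_prod, Fintype.card_fin, ZMod.card]
  have hle : ∀ β, ((Finset.univ : Finset (Fin m × ZMod r)).filter (fun p => g p = β)).card ≤ a := by
    intro β
    rw [← hf β]
    apply Finset.card_le_card_of_injOn (fun p => Sum.inl p)
    · intro p hp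
      simp only [Finset.coe_filter, Finset.mem_univ, true_and, Set.mem_ofPred_eq] at hp ⊢
      exact hp
    · intro p _ p' _ h
      exact Sum.inl_injective h
  have hmoved : ∀ β ∈ π.support,
      ((Finset.univ : Finset (Fin m × ZMod r)).filter (fun p => g p = β)).card = a := by
    intro β hβ
    rw [← hf β]
    apply Finset.card_bij (fun p _ => Sum.inl p)
    · intro p hp
      simp only [Finset.mem_filter, Finset.mem_univ, true_and] at hp ⊢
      exact hp
    · intro p _ p' _ h
      exact Sum.inl_injective h
    · intro y hy
      simp only [Finset.mem_filter, Finset.mem_univ, true_and] at hy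
      rcases y with p | u
      · exact ⟨p, by simp only [Finset.mem_filter, Finset.mem_univ, true_and]; exact hy, rfl⟩
      · exfalso
        have := hinr u
        rw [hy] at this
        exact (Perm.mem_support.1 hβ) this
  have hfixed : ∀ β ∈ (π.support)ᶜ,
      ((Finset.univ : Finset (Fin m × ZMod r)).filter (fun p => g p = β)).card =
        ((Finset.univ : Finset (Fin m)).filter (fun i => g (i, 0) = β)).card * r := by
    intro β hβ
    have hβ' : π β = β := by
      rw [Finset.mem_compl, Perm.mem_support, not_not] at hβ
      exact hβ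
    have h1 : (Finset.univ : Finset (Fin m × ZMod r)).filter (fun p => g p = β) =
        ((Finset.univ : Finset (Fin m)).filter (fun i => g (i, 0) = β)) ×ˢ
          (Finset.univ : Finset (ZMod r)) := by
      ext ⟨i, j⟩
      simp only [Finset.mem_filter, Finset.mem_univ, true_and, Finset.mem_product, and_true]
      exact ⟨fun h => hrow β hβ' i j 0 h, fun h => hrow β hβ' i 0 j h⟩
    rw [h1, Finset.card_product, Finset.card_univ, ZMod.card]
  rw [← Finset.sum_add_sum_compl π.support] at hcount
  rw [Finset.sum_congr rfl hmoved, Finset.sum_congr rfl hfixed, Finset.sum_const, smul_eq_mul,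
    ← Finset.sum_mul, ← hc'] at hcount
  have hrpos : 0 < r := hr.pos
  have hm : m = c * a + ∑ β ∈ (π.support)ᶜ,
      ((Finset.univ : Finset (Fin m)).filter (fun i => g (i, 0) = β)).card := by
    have : m * r = (c * a + ∑ β ∈ (π.support)ᶜ,
      ((Finset.univ : Finset (Fin m)).filter (fun i => g (i, 0) = β)).card) * r := by
      rw [hcount]; ring
    exact Nat.eq_of_mul_eq_mul_right hrpos this
  have hbound : ∑ β ∈ (π.support)ᶜ,
      ((Finset.univ : Finset (Fin m)).filter (fun i => g (i, 0) = β)).card ≤
        (Fintype.card B - c * r) * (a / r) := by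
    have h1 : ∀ β ∈ (π.support)ᶜ,
        ((Finset.univ : Finset (Fin m)).filter (fun i => g (i, 0) = β)).card ≤ a / r := by
      intro β hβ
      rw [Nat.le_div_iff_mul_le hrpos, ← hfixed β hβ]
      exact hle β
    have h2 := Finset.sum_le_card_nsmul _ _ _ h1
    rw [smul_eq_mul, Finset.card_compl, ← hc'] at h2
    exact h2
  refine ⟨c, ?_, ?_, ?_⟩
  · rw [hc']; exact Finset.card_le_univ _
  · rw [hm]; exact Nat.le_add_right _ _
  · rw [hm]; exact Nat.add_le_add_left hbound _

end Cfsg.Agent.Lib.Helper7.UP
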