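import Mathlib
import Cfsg.Agent.Lib.Helper7.UP2

set_option autoImplicit false

/-! Construction of an invariant uniform partition for the model permutation. -/

namespace Cfsg.Agent.Lib.Helper7.UP

open Equiv

theorem exists_fun_card_fibres {K B : Type*} [Fintype K] [Fintype B] [DecidableEq B] (n : B → ℕ)
    (h : ∑ β, n β = Fintype.card K) :
    ∃ g : K → B, ∀ β, (Finset.univ.filter (fun x => g x = β)).card = n β := by
  classical
  have hcard : Fintype.card K = Fintype.card (Σ β, Fin (n β)) := by
    rw [Fintype.card_sigma, ← h]
    simp
  let e : K ≃ Σ β, Fin (n β) := Fintype.equivOfCardEq hcard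
  refine ⟨fun x => (e x).1, fun β => ?_⟩
  have h1 : (Finset.univ.filter (fun x : K => (e x).1 = β)).card =
      (Finset.univ.filter (fun s : Σ β, Fin (n β) => s.1 = β)).card := by
    apply Finset.card_bij (fun x _ => e x)
    · intro x hx
      simp only [Finset.mem_filter, Finset.mem_univ, true_and] at hx ⊢
      exact hx
    · intro x _ x' _ hxx
      exact e.injective hxx
    · intro s hs
      simp only [Finset.mem_filter, Finset.mem_univ, true_and] at hs
      exact ⟨e.symm s, by simp [hs], by simp⟩
  have h2 : (Finset.univ.filter (fun s : Σ β, Fin (n β) => s.1 = β)) =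
      (Finset.univ : Finset (Fin (n β))).map (Function.Embedding.sigmaMk β) := by
    ext ⟨β', t⟩
    simp only [Finset.mem_filter, Finset.mem_univ, true_and, Finset.mem_map,
      Function.Embedding.sigmaMk_apply]
    constructor
    · rintro rfl
      exact ⟨t, rfl⟩
    · rintro ⟨t', ht'⟩
      cases ht'
      rfl
  rw [h1, h2, Finset.card_map, Finset.card_univ, Fintype.card_fin]

theorem exists_distribution (N q M : ℕ) (h : M ≤ N * q) :
    ∃ j : Fin N → ℕ, (∀ β, j β ≤ q) ∧ ∑ β, j β = M := by
  induction N generalizing M with
  | zero =>
    refine ⟨fun β => β.elim0, fun β => β.elim0, ?_⟩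
    simp at h
    simp [h]
  | succ N ih =>
    by_cases hM : M ≤ N * q
    · obtain ⟨j, hj1, hj2⟩ := ih M hM
      refine ⟨Fin.snoc j 0, ?_, ?_⟩
      · intro β
        refine Fin.lastCases ?_ (fun i => ?_) β
        · simp
        · simp [hj1 i]
      · rw [Fin.sum_univ_castSucc]
        simp [hj2]
    · obtain ⟨j, hj1, hj2⟩ := ih (N * q) le_rfl
      refine ⟨Fin.snoc j (M - N * q), ?_, ?_⟩
      · intro β
        refine Fin.lastCases ?_ (fun i => ?_) β
        · simp only [Fin.snoc_last]
          have : (N + 1) * q = N * q + q := by ring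
          omega
        · simp [hj1 i]
      · rw [Fin.sum_univ_castSucc]
        simp only [Fin.snoc_castSucc, Fin.snoc_last, hj2]
        omega

theorem sufficient_model (m r k a b c : ℕ) [NeZero r] (hr : r.Prime) (hcard : m * r + k = a * b)
    (hcb : c * r ≤ b) (hlow : c * a ≤ m) (hup : m ≤ c * a + (b - c * r) * (a / r)) :
    ∃ (f : (Fin m × ZMod r) ⊕ Fin k → (Fin c × ZMod r) ⊕ Fin (b - c * r)),
      (∀ β, (Finset.univ.filter (fun y => f y = β)).card = a) ∧
      ∀ y, f (model m r k y) = model c r (b - c * r) (f y) := by
  classical
  have hrpos : 0 < r := hr.pos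
  obtain ⟨j, hj1, hj2⟩ := exists_distribution (b - c * r) (a / r) (m - c * a) (by omega)
  have hjr : ∀ β, j β * r ≤ a := by
    intro β
    exact (Nat.le_div_iff_mul_le hrpos).1 (hj1 β)
  -- distribution of the cycles
  obtain ⟨h, hh⟩ := exists_fun_card_fibres (K := Fin m) (B := Fin c ⊕ Fin (b - c * r))
    (fun s => Sum.elim (fun _ => a) j s) (by
      rw [Fintype.sum_sum_type]
      simp only [Sum.elim_inl, Sum.elim_inr, Finset.sum_const, Finset.card_univ, Fintype.card_fin,
        smul_eq_mul, hj2]
      omega)
  -- distribution of the fixed points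
  have hsumj : (∑ β, j β) * r + k = (b - c * r) * a := by
    rw [hj2]
    have h1 : (m - c * a) * r = m * r - c * a * r := Nat.sub_mul _ _ _
    have h2 : (b - c * r) * a = b * a - c * r * a := Nat.sub_mul _ _ _
    have h3 : c * a * r ≤ m * r := Nat.mul_le_mul_right _ hlow
    have h4 : c * r * a = c * a * r := by ring
    have h5 : a * b = b * a := mul_comm _ _
    omega
  obtain ⟨g, hg⟩ := exists_fun_card_fibres (K := Fin k) (B := Fin (b - c * r))
    (fun β => a - j β * r) (by
      rw [Fintype.card_fin]
      have h1 : ∑ β, (a - j β * r) + ∑ β, j β * r = ∑ β : Fin (b - c * r), a := by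
        rw [← Finset.sum_add_distrib]
        apply Finset.sum_congr rfl
        intro β _
        exact Nat.sub_add_cancel (hjr β)
      rw [Finset.sum_const, Finset.card_univ, Fintype.card_fin, smul_eq_mul, ← Finset.sum_mul] at h1
      omega)
  let f : (Fin m × ZMod r) ⊕ Fin k → (Fin c × ZMod r) ⊕ Fin (b - c * r) :=
    Sum.elim (fun p => Sum.elim (fun i => Sum.inl (i, p.2)) (fun β => Sum.inr β) (h p.1))
      (fun u => Sum.inr (g u))
  have hf_inl : ∀ o t, f (Sum.inl (o, t)) =
      Sum.elim (fun i => Sum.inl (i, t)) (fun β => Sum.inr β) (h o) := fun o t => rfl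
  have hf_inr : ∀ u, f (Sum.inr u) = Sum.inr (g u) := fun u => rfl
  refine ⟨f, ?_, ?_⟩
  · intro β
    rcases β with ⟨i, t⟩ | β
    · -- fibre over a moved block
      have h1 := hh (Sum.inl i)
      simp only [Sum.elim_inl] at h1
      have h2 : Finset.univ.filter (fun y => f y = Sum.inl (i, t)) =
          (Finset.univ.filter (fun o => h o = Sum.inl i)).map
            ⟨fun o => (Sum.inl (o, t) : (Fin m × ZMod r) ⊕ Fin k), fun o o' hoo => by
              simpa using hoo⟩ := by
        ext y
        simp only [Finset.mem_filter, Finset.mem_univ, true_and, Finset.mem_map]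
        constructor
        · intro hy
          rcases y with ⟨o, t'⟩ | u
          · rw [hf_inl] at hy
            rcases hho : h o with i' | β'
            · rw [hho] at hy
              simp only [Sum.elim_inl, Sum.inl.injEq, Prod.mk.injEq] at hy
              obtain ⟨rfl, rfl⟩ := hy
              exact ⟨o, hho, rfl⟩
            · rw [hho] at hy
              simp at hy
          · rw [hf_inr] at hy
            simp at hy
        · rintro ⟨o, ho, rfl⟩
          change f (Sum.inl (o, t)) = _
          rw [hf_inl, ho]
          rfl
      rw [h2, Finset.card_map, h1]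
    · -- fibre over a fixed block
      have h1 := hh (Sum.inr β)
      simp only [Sum.elim_inr] at h1
      have h1' := hg β
      have h2 : Finset.univ.filter (fun y => f y = Sum.inr β) =
          (((Finset.univ.filter (fun o => h o = Sum.inr β)) ×ˢ
            (Finset.univ : Finset (ZMod r))).map
              ⟨(Sum.inl : Fin m × ZMod r → (Fin m × ZMod r) ⊕ Fin k), Sum.inl_injective⟩) ∪
          ((Finset.univ.filter (fun u => g u = β)).map
              ⟨(Sum.inr : Fin k → (Fin m × ZMod r) ⊕ Fin k), Sum.inr_injective⟩) := by
        ext y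
        simp only [Finset.mem_filter, Finset.mem_univ, true_and, Finset.mem_union, Finset.mem_map,
          Finset.mem_product, and_true]
        constructor
        · intro hy
          rcases y with ⟨o, t'⟩ | u
          · left
            rw [hf_inl] at hy
            rcases hho : h o with i' | β'
            · rw [hho] at hy
              simp at hy
            · rw [hho] at hy
              simp only [Sum.elim_inr, Sum.inr.injEq] at hy
              subst hy
              exact ⟨(o, t'), hho, rfl⟩
          · right
            rw [hf_inr] at hy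
            exact ⟨u, Sum.inr_injective hy, rfl⟩
        · rintro (⟨⟨o, t'⟩, ho, rfl⟩ | ⟨u, hu, rfl⟩)
          · change f (Sum.inl (o, t')) = _
            rw [hf_inl, ho]
            rfl
          · change f (Sum.inr u) = _
            rw [hf_inr, hu]
      rw [h2, Finset.card_union_of_disjoint, Finset.card_map, Finset.card_map,
        Finset.card_product, h1, h1', Finset.card_univ, ZMod.card]
      · exact Nat.add_sub_cancel' (hjr β)
      · rw [Finset.disjoint_left]
        intro y hy1 hy2
        simp only [Finset.mem_map, Function.Embedding.coeFn_mk] at hy1 hy2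
        obtain ⟨p, _, rfl⟩ := hy1
        obtain ⟨u, _, hu⟩ := hy2
        exact absurd hu (by simp)
  · intro y
    rcases y with ⟨o, t⟩ | u
    · rw [model_inl, hf_inl, hf_inl]
      rcases h o with i | β
      · simp only [Sum.elim_inl, model_inl]
      · simp only [Sum.elim_inr, model_inr]
    · rw [model_inr, hf_inr, model_inr]

end Cfsg.Agent.Lib.Helper7.UP
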