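import Mathlib

set_option autoImplicit false

/-! Arithmetic for the uniform partition problem. -/

namespace Cfsg.Agent.Lib.Helper7.UP

/-- the covering condition -/
def Cov (a b r : ℕ) : Prop :=
  ∀ m : ℕ, 0 < m → m * r ≤ a * b →
    ∃ c : ℕ, c * r ≤ b ∧ c * a ≤ m ∧ m ≤ c * a + (b - c * r) * (a / r)

theorem key_eq (r q l b c : ℕ) (h : c * r ≤ b) :
    c * (r * q + l) + (b - c * r) * q = b * q + c * l := by
  have h1 : (b - c * r) * q = b * q - c * r * q := Nat.sub_mul _ _ _
  have h2 : c * r * q ≤ b * q := Nat.mul_le_mul_right _ h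
  have h3 : c * (r * q + l) = c * r * q + c * l := by ring
  omega

theorem div_eq' (r q l : ℕ) (hl : l < r) : (r * q + l) / r = q := by
  rw [Nat.mul_comm, Nat.add_comm, Nat.add_mul_div_right _ _ (by omega : 0 < r), Nat.div_eq_of_lt hl,
    zero_add]

theorem cov_iff_aux (r q l s k : ℕ) (hr : 2 ≤ r) (hl : l < r) (hk : k < r)
    (ha : 2 ≤ r * q + l) (hb : 2 ≤ r * s + k) (hrab : r ≤ (r * q + l) * (r * s + k)) :
    Cov (r * q + l) (r * s + k) r ↔
      (1 ≤ q ∧ k * l < r ∧ (s = 0 ∨ l ≤ k * q + 1)) := by
  have hdiv : (r * q + l) / r = q := div_eq' r q l hl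
  have hab : (r * q + l) * (r * s + k) = r * ((r * s + k) * q + s * l) + k * l := by ring
  have hcle : ∀ c, c * r ≤ r * s + k → c ≤ s := by
    intro c hc
    by_contra hcon
    push Not at hcon
    have : (s + 1) * r ≤ c * r := Nat.mul_le_mul_right _ hcon
    have h2 : (s + 1) * r = r * s + r := by ring
    omega
  unfold Cov
  rw [hdiv]
  constructor
  · intro hcov
    -- q ≥ 1
    have hq : 1 ≤ q := by
      obtain ⟨c, hc1, hc2, hc3⟩ := hcov 1 Nat.one_pos (by rw [one_mul]; exact hrab)
      have hc0 : c = 0 := by
        by_contra hne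
        have : 1 ≤ c := Nat.one_le_iff_ne_zero.2 hne
        have : r * q + l ≤ c * (r * q + l) := Nat.le_mul_of_pos_left _ (by omega)
        omega
      subst hc0
      simp only [zero_mul, Nat.sub_zero, zero_add] at hc3
      by_contra hq
      have : q = 0 := by omega
      subst this
      simp at hc3
    -- top element
    have hkl : k * l < r := by
      by_contra hcon
      push Not at hcon
      -- m = (b q + s l) + 1 is admissible
      have hm : ((r * s + k) * q + s * l + 1) * r ≤ (r * q + l) * (r * s + k) := by
        rw [hab]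
        have : ((r * s + k) * q + s * l + 1) * r = r * ((r * s + k) * q + s * l) + r := by ring
        omega
      obtain ⟨c, hc1, hc2, hc3⟩ := hcov _ (Nat.succ_pos _) hm
      rw [key_eq r q l _ c hc1] at hc3
      have hcs := hcle c hc1
      have : c * l ≤ s * l := Nat.mul_le_mul_right _ hcs
      omega
    refine ⟨hq, hkl, ?_⟩
    by_cases hs : s = 0
    · left; exact hs
    right
    by_cases hl0 : l = 0
    · omega
    have hs1 : 1 ≤ s := Nat.one_le_iff_ne_zero.2 hs
    have hl1 : 1 ≤ l := Nat.one_le_iff_ne_zero.2 hl0
    -- m₀ = b q + (s - 1) l + 1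
    have hsl : (s - 1) * l + l = s * l := by
      have : (s - 1) * l + l = (s - 1 + 1) * l := by ring
      rw [this, Nat.sub_add_cancel hs1]
    have hm : ((r * s + k) * q + (s - 1) * l + 1) * r ≤ (r * q + l) * (r * s + k) := by
      rw [hab]
      have h1 : (r * s + k) * q + (s - 1) * l + 1 ≤ (r * s + k) * q + s * l := by omega
      calc ((r * s + k) * q + (s - 1) * l + 1) * r
          ≤ ((r * s + k) * q + s * l) * r := Nat.mul_le_mul_right _ h1
        _ = r * ((r * s + k) * q + s * l) := Nat.mul_comm _ _
        _ ≤ _ := Nat.le_add_right _ _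
    obtain ⟨c, hc1, hc2, hc3⟩ := hcov _ (Nat.succ_pos _) hm
    rw [key_eq r q l _ c hc1] at hc3
    have hcs := hcle c hc1
    have hcs' : s ≤ c := by
      by_contra hcon
      push Not at hcon
      have : c ≤ s - 1 := by omega
      have : c * l ≤ (s - 1) * l := Nat.mul_le_mul_right _ this
      omega
    have hc : c = s := le_antisymm hcs hcs'
    subst hc
    -- c (r q + l) ≤ b q + (c-1) l + 1
    have h1 : c * (r * q + l) = r * c * q + c * l := by ring
    have h2 : (r * c + k) * q = r * c * q + k * q := by ring
    omega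
  · rintro ⟨hq, hkl, hdisj⟩ m hm hmr
    rw [hab] at hmr
    have hmle : m ≤ (r * s + k) * q + s * l := by
      by_contra hcon
      push Not at hcon
      have : ((r * s + k) * q + s * l + 1) * r ≤ m * r := Nat.mul_le_mul_right _ hcon
      have h2 : ((r * s + k) * q + s * l + 1) * r = r * ((r * s + k) * q + s * l) + r := by ring
      omega
    have hapos : 0 < r * q + l := by omega
    refine ⟨min s (m / (r * q + l)), ?_, ?_, ?_⟩
    · calc min s (m / (r * q + l)) * r ≤ s * r := Nat.mul_le_mul_right _ (min_le_left _ _)
        _ = r * s := Nat.mul_comm _ _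
        _ ≤ r * s + k := Nat.le_add_right _ _
    · calc min s (m / (r * q + l)) * (r * q + l) ≤ (m / (r * q + l)) * (r * q + l) :=
            Nat.mul_le_mul_right _ (min_le_right _ _)
        _ ≤ m := Nat.div_mul_le_self _ _
    · have hc1 : min s (m / (r * q + l)) * r ≤ r * s + k :=
        calc min s (m / (r * q + l)) * r ≤ s * r := Nat.mul_le_mul_right _ (min_le_left _ _)
          _ = r * s := Nat.mul_comm _ _
          _ ≤ r * s + k := Nat.le_add_right _ _
      rw [key_eq r q l _ _ hc1]
      rcases le_total s (m / (r * q + l)) with h | h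
      · rw [min_eq_left h]; exact hmle
      · rw [min_eq_right h]
        rcases Nat.eq_or_lt_of_le h with h' | h'
        · rw [h']; exact hmle
        · -- c < s
          have hlt : m < (m / (r * q + l) + 1) * (r * q + l) :=
            Nat.lt_mul_of_div_lt (Nat.lt_succ_self _) hapos
          generalize m / (r * q + l) = c at h h' hlt ⊢
          have hs : s ≠ 0 := by omega
          have hlk : l ≤ k * q + 1 := by
            rcases hdisj with h0 | h0
            · exact absurd h0 hs
            · exact h0
          have h3 : (c + 1) * r * q ≤ s * r * q :=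
            Nat.mul_le_mul_right _ (Nat.mul_le_mul_right _ h')
          have h4 : (c + 1) * (r * q + l) = (c + 1) * r * q + c * l + l := by ring
          have h5 : (r * s + k) * q = s * r * q + k * q := by ring
          omega

end Cfsg.Agent.Lib.Helper7.UP
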