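import Mathlib
import Cfsg.Agent.Lib.Helper7.UP1
import Cfsg.Agent.Lib.Helper7.UP2
import Cfsg.Agent.Lib.Helper7.UP3
import Cfsg.Agent.Lib.Helper7.UP4

set_option autoImplicit false

/-! Uniform partitions fixed by elements of prime order: assembling. -/

namespace Cfsg.Agent.Lib.Helper7.UP

open Equiv

theorem le_of_dvd_quot (a b r : ℕ) (ha : a ≠ 0) (hr : r.Prime)
    (hrd : r ∣ (a * b).factorial / (a.factorial ^ b * b.factorial)) : r ≤ a * b := by
  have h1 := Nat.uniformBell_mul_eq b ha
  have h2 : (a * b).factorial / (a.factorial ^ b * b.factorial) ∣ (a * b).factorial := by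
    apply Nat.div_dvd_of_dvd
    rw [mul_comm a b, ← h1, mul_assoc]
    exact Dvd.intro_left _ rfl
  exact (Nat.Prime.dvd_factorial hr).1 (hrd.trans h2)

theorem exists_perm (N m r : ℕ) [NeZero r] (hr : r.Prime) (hm : 0 < m) (hN : m * r ≤ N) :
    ∃ σ : Perm (Fin N), orderOf σ = r ∧ σ.support.card = m * r := by
  have hcard : Fintype.card ((Fin m × ZMod r) ⊕ Fin (N - m * r)) = Fintype.card (Fin N) := by
    simp only [Fintype.card_sum, Fintype.card_prod, Fintype.card_fin, ZMod.card]
    omega
  let e := Fintype.equivOfCardEq hcard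
  refine ⟨e.permCongr (model m r (N - m * r)), ?_, ?_⟩
  · rw [orderOf_permCongr', orderOf_model _ _ _ hr hm]
  · rw [card_support_permCongr, card_support_model _ _ _ hr]

theorem natCard_fibre {X B : Type*} [Fintype X] [DecidableEq B] (f : X → B) (β : B) :
    Nat.card {x : X // f x = β} = (Finset.univ.filter (fun x => f x = β)).card := by
  rw [Nat.card_eq_fintype_card, Fintype.card_subtype]

theorem fixes_iff (a b r : ℕ) [NeZero r] (ha : 0 < a) (hr : r.Prime) (σ : Perm (Fin (a * b)))
    (hσ : orderOf σ = r) :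
    (∃ f : Fin (a * b) → Fin b, (∀ j : Fin b, Nat.card {x : Fin (a * b) // f x = j} = a) ∧
          ∃ π : Equiv.Perm (Fin b), ∀ x : Fin (a * b), f (σ x) = π (f x)) ↔
    ∃ m c : ℕ, 0 < m ∧ m * r = σ.support.card ∧
      c * r ≤ b ∧ c * a ≤ m ∧ m ≤ c * a + (b - c * r) * (a / r) := by
  obtain ⟨m, k, e, hmpos, hmr, hcard, he⟩ := exists_equiv_model σ hr hσ
  rw [Fintype.card_fin] at hcard
  have he' : ∀ y, e.symm (model m r k y) = σ (e.symm y) := by
    intro y
    rw [Equiv.symm_apply_eq, he, Equiv.apply_symm_apply]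
  constructor
  · rintro ⟨f, hf, π, hπ⟩
    have hf' : ∀ β, (Finset.univ.filter (fun y => f (e.symm y) = β)).card = a := by
      intro β
      have h1 := hf β
      rw [natCard_fibre] at h1
      refine Eq.trans (Finset.card_equiv e.symm ?_) h1
      intro y
      simp
    have hπ' : ∀ y, f (e.symm (model m r k y)) = π (f (e.symm y)) := by
      intro y
      rw [he', hπ]
    obtain ⟨c, hc1, hc2, hc3⟩ := necessary_model m r k hr a ha (fun y => f (e.symm y)) hf' π hπ'
    rw [Fintype.card_fin] at hc1 hc3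
    exact ⟨m, c, hmpos, hmr, hc1, hc2, hc3⟩
  · rintro ⟨m', c, hm'pos, hm'r, hc1, hc2, hc3⟩
    have hmm : m' = m := by
      have : m' * r = m * r := by rw [hm'r, hmr]
      exact Nat.eq_of_mul_eq_mul_right hr.pos this
    subst hmm
    obtain ⟨f0, hf0, hf0'⟩ := sufficient_model m' r k a b c hr hcard hc1 hc2 hc3
    have hcard2 : Fintype.card ((Fin c × ZMod r) ⊕ Fin (b - c * r)) = Fintype.card (Fin b) := by
      simp only [Fintype.card_sum, Fintype.card_prod, Fintype.card_fin, ZMod.card]
      omega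
    let e2 := Fintype.equivOfCardEq hcard2
    refine ⟨fun x => e2 (f0 (e x)), ?_, e2.permCongr (model c r (b - c * r)), ?_⟩
    · intro j
      rw [natCard_fibre]
      refine Eq.trans (Finset.card_equiv e ?_) (hf0 (e2.symm j))
      intro x
      simp only [Finset.mem_filter, Finset.mem_univ, true_and]
      rw [← Equiv.eq_symm_apply]
    · intro x
      simp only [Equiv.permCongr_apply, Equiv.symm_apply_apply]
      rw [he, hf0']

theorem all_fix_iff_cov (a b r : ℕ) [NeZero r] (ha : 0 < a) (hr : r.Prime) :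
    (∀ σ : Equiv.Perm (Fin (a * b)), orderOf σ = r →
        ∃ f : Fin (a * b) → Fin b, (∀ j : Fin b, Nat.card {x : Fin (a * b) // f x = j} = a) ∧
          ∃ π : Equiv.Perm (Fin b), ∀ x : Fin (a * b), f (σ x) = π (f x)) ↔ Cov a b r := by
  constructor
  · intro h m hm hmr
    obtain ⟨σ, hσ, hsupp⟩ := exists_perm (a * b) m r hr hm hmr
    obtain ⟨m', c, _, hm'r, hc1, hc2, hc3⟩ := (fixes_iff a b r ha hr σ hσ).1 (h σ hσ)
    have hmm : m' = m := by
      have : m' * r = m * r := by rw [hm'r, hsupp]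
      exact Nat.eq_of_mul_eq_mul_right hr.pos this
    subst hmm
    exact ⟨c, hc1, hc2, hc3⟩
  · intro h σ hσ
    rw [fixes_iff a b r ha hr σ hσ]
    obtain ⟨m, hm⟩ := dvd_card_support hr hσ
    have hm' : m * r = σ.support.card := by rw [hm, mul_comm]
    have hmpos : 0 < m := by
      rcases Nat.eq_zero_or_pos m with h0 | h0
      · exfalso
        rw [h0, zero_mul] at hm'
        have h1 : σ = 1 := by
          rw [← Perm.support_eq_empty_iff, ← Finset.card_eq_zero, ← hm']
        rw [h1, orderOf_one] at hσ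
        exact hr.one_lt.ne hσ
      · exact h0
    have hle : m * r ≤ a * b := by
      rw [hm']
      have := Finset.card_le_univ σ.support
      rwa [Fintype.card_fin] at this
    obtain ⟨c, hc1, hc2, hc3⟩ := h m hmpos hle
    exact ⟨m, c, hmpos, hm', hc1, hc2, hc3⟩

theorem cov_iff (a b r : ℕ) (hr : r.Prime) (ha : 2 ≤ a) (hb : 2 ≤ b) (hrab : r ≤ a * b) :
    Cov a b r ↔ (r ≤ a ∧ (a % r = 0 ∨ (b % r = 0 ∧ a % r = 1) ∨
        (a % r ≠ 0 ∧ b % r ≠ 0 ∧ (b % r) * (a % r) < r ∧
          (b < r ∨ (b % r + r) * (a % r) ≤ (b % r) * a + r)))) := by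
  have hrpos := hr.pos
  obtain ⟨q, l, hl, rfl⟩ : ∃ q l, l < r ∧ a = r * q + l :=
    ⟨a / r, a % r, Nat.mod_lt _ hrpos, (Nat.div_add_mod a r).symm⟩
  obtain ⟨s, k, hk, rfl⟩ : ∃ s k, k < r ∧ b = r * s + k :=
    ⟨b / r, b % r, Nat.mod_lt _ hrpos, (Nat.div_add_mod b r).symm⟩
  have hl' : (r * q + l) % r = l := by rw [Nat.mul_add_mod]; exact Nat.mod_eq_of_lt hl
  have hk' : (r * s + k) % r = k := by rw [Nat.mul_add_mod]; exact Nat.mod_eq_of_lt hk
  rw [cov_iff_aux r q l s k hr.two_le hl hk ha hb hrab, hl', hk']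
  have hq : 1 ≤ q ↔ r ≤ r * q + l := by
    constructor
    · intro h
      have : r * 1 ≤ r * q := Nat.mul_le_mul_left _ h
      omega
    · intro h
      by_contra hcon
      have : q = 0 := by omega
      subst this
      omega
  have hs : s = 0 ↔ r * s + k < r := by
    constructor
    · intro h
      subst h
      omega
    · intro h
      by_contra hcon
      have : 1 ≤ s := Nat.one_le_iff_ne_zero.2 hcon
      have : r * 1 ≤ r * s := Nat.mul_le_mul_left _ this
      omega
  have hlk : l ≤ k * q + 1 ↔ (k + r) * l ≤ k * (r * q + l) + r := by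
    have h1 : (k + r) * l = k * l + r * l := by ring
    have h2 : k * (r * q + l) + r = k * l + r * (k * q + 1) := by ring
    rw [h1, h2, Nat.add_le_add_iff_left, Nat.mul_le_mul_left_iff hrpos]
  rw [← hq]
  constructor
  · rintro ⟨h1, h2, h3⟩
    refine ⟨h1, ?_⟩
    by_cases hl0 : l = 0
    · left; exact hl0
    right
    by_cases hk0 : k = 0
    · left
      refine ⟨hk0, ?_⟩
      subst hk0
      rcases h3 with h3 | h3
      · subst h3
        omega
      · omega
    · right
      refine ⟨hl0, hk0, h2, ?_⟩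
      rcases h3 with h3 | h3
      · left; exact hs.1 h3
      · right; exact hlk.1 h3
  · rintro ⟨h1, h2⟩
    refine ⟨h1, ?_⟩
    rcases h2 with h2 | ⟨h2, h3⟩ | ⟨h2, h3, h4, h5⟩
    · subst h2
      refine ⟨by omega, ?_⟩
      right
      omega
    · subst h2
      subst h3
      refine ⟨by omega, ?_⟩
      right
      omega
    · refine ⟨h4, ?_⟩
      rcases h5 with h5 | h5
      · left; exact hs.2 h5
      · right; exact hlk.2 h5

end Cfsg.Agent.Lib.Helper7.UP
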