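import Mathlib
import Cfsg.Agent.Lib.Helper4.VLBasic
import Cfsg.Agent.Lib.Helper9.VLClass2

set_option autoImplicit false

/-! S3777 (Vaughan-Lee), "dim W": `|G'| ≤ |[Φ,G]| · p^C(d-1,2)` when `G' ≤ M' [Φ,G]`, `|G : Φ| = p^d`;
from helper9's class-2 count applied to the image of `M` in `G ⧸ [Φ,G]`. -/

namespace Cfsg.Agent.Lib.Helper7.VLDW

open Subgroup
open scoped commutatorElement

universe u

variable {p : ℕ} {G : Type u} [Group G] [Fact p.Prime] [Finite G]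

theorem card_commutator_le_card_gam_mul (hG : IsPGroup p G) (Φ : Subgroup G) [Φ.Normal]
    (hcomm : commutator G ≤ Φ) (hpow : ∀ g : G, g ^ p ∈ Φ) (M : Subgroup G) (hM : M.index = p)
    (hΦM : Φ ≤ M) (hT : commutator G ≤ ⁅M, M⁆ ⊔ ⁅Φ, (⊤ : Subgroup G)⁆) (d : ℕ)
    (hd : Φ.index = p ^ d) :
    Nat.card (commutator G) ≤
      Nat.card (⁅Φ, (⊤ : Subgroup G)⁆ : Subgroup G) * p ^ ((d - 1) * (d - 1 - 1) / 2) := by
  classical
  have hp : p.Prime := Fact.out
  obtain ⟨Γ, hΓ⟩ : ∃ Γ : Subgroup G, Γ = ⁅Φ, (⊤ : Subgroup G)⁆ := ⟨_, rfl⟩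
  have hΓn : Γ.Normal := by rw [hΓ]; exact Subgroup.commutator_normal Φ ⊤
  have hΓΦ : Γ ≤ Φ := by rw [hΓ]; exact Subgroup.commutator_le_left Φ ⊤
  rw [← hΓ] at hT ⊢
  obtain ⟨π, hπ⟩ : ∃ π : G →* G ⧸ Γ, π = QuotientGroup.mk' Γ := ⟨_, rfl⟩
  have hπs : Function.Surjective π := by rw [hπ]; exact QuotientGroup.mk'_surjective Γ
  have hker : π.ker = Γ := by rw [hπ]; exact QuotientGroup.ker_mk' Γ
  have hπc : ∀ x y : G, ⁅x, y⁆ ∈ Γ → π x * π y = π y * π x := by
    intro x y hxy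
    have h1 : π ⁅x, y⁆ = 1 := by
      rw [← MonoidHom.mem_ker, hker]; exact hxy
    rw [map_commutatorElement, commutatorElement_eq_one_iff_mul_comm] at h1
    exact h1
  have hcq : commutator (G ⧸ Γ) = (commutator G).map π := by
    rw [hπ, _root_.commutator_def, _root_.commutator_def, Subgroup.map_commutator,
      Subgroup.map_top_of_surjective _ (QuotientGroup.mk'_surjective Γ)]
  have h1 : Nat.card (commutator G) ≤ Nat.card Γ * Nat.card (commutator (G ⧸ Γ)) :=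
    Cfsg.Agent.Lib.Helper4.VL.card_commutator_le_card_mul_card_commutator_quotient Γ
  obtain ⟨Mb, hMb⟩ : ∃ Mb : Subgroup (G ⧸ Γ), Mb = M.map π := ⟨_, rfl⟩
  obtain ⟨Φb, hΦb⟩ : ∃ Φb : Subgroup (G ⧸ Γ), Φb = Φ.map π := ⟨_, rfl⟩
  have h2 : commutator (G ⧸ Γ) ≤ ⁅Mb, Mb⁆ := by
    rw [hcq]
    have hΓbot : Γ.map π = ⊥ := by
      rw [Subgroup.map_eq_bot_iff, hker]
    calc (commutator G).map π ≤ (⁅M, M⁆ ⊔ Γ).map π := Subgroup.map_mono hT
      _ = (⁅M, M⁆ : Subgroup G).map π ⊔ Γ.map π := Subgroup.map_sup _ _ _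
      _ = ⁅Mb, Mb⁆ := by rw [hΓbot, sup_bot_eq, Subgroup.map_commutator, hMb]
  have h3 : Nat.card (⁅Mb, Mb⁆ : Subgroup (G ⧸ Γ)) = Nat.card (commutator ↥Mb) := by
    rw [← Subgroup.map_subtype_commutator Mb]
    exact Subgroup.card_map_of_injective Mb.subtype_injective
  -- the index of the image of `Φ` in the image of `M`
  have hrel : Φ.relIndex M * p = p ^ d := by
    have h := Subgroup.relIndex_mul_index hΦM
    rw [hM, hd] at h
    exact h
  obtain ⟨d', rfl⟩ : ∃ d' : ℕ, d = d' + 1 := by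
    cases d with
    | zero =>
      exfalso
      rw [pow_zero] at hrel
      have := Nat.eq_one_of_mul_eq_one_left hrel
      exact hp.one_lt.ne' this
    | succ n => exact ⟨n, rfl⟩
  have hrel' : Φ.relIndex M = p ^ d' := by
    rw [pow_succ] at hrel
    exact Nat.eq_of_mul_eq_mul_right hp.pos hrel
  have hidx : (Φb.subgroupOf Mb).index = p ^ d' := by
    have h5 : Φb.relIndex Mb = Φ.relIndex M := by
      rw [hMb, ← Subgroup.relIndex_comap, hΦb, Subgroup.comap_map_eq, hker,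
        sup_eq_left.mpr hΓΦ]
    rw [← hrel', ← h5]
    rfl
  have hQ : IsPGroup p ↥Mb := (hG.to_quotient Γ).to_subgroup Mb
  have h4 : Nat.card (commutator ↥Mb) ≤ p ^ (d' * (d' - 1) / 2) := by
    refine Cfsg.Agent.Lib.Helper9.VL.card_commutator_le_of_central_elementary d' ↥Mb hQ
      (Φb.subgroupOf Mb) ?_ ?_ ?_ hidx
    · intro z hz
      rw [Subgroup.mem_subgroupOf, hΦb] at hz
      obtain ⟨f, hf, hfz⟩ := hz
      rw [Subgroup.mem_center_iff]
      intro y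
      obtain ⟨g, hg⟩ := hπs (y : G ⧸ Γ)
      apply Subtype.ext
      rw [Subgroup.coe_mul, Subgroup.coe_mul, ← hfz, ← hg]
      have h6 : ⁅f, g⁆ ∈ Γ := by
        rw [hΓ]; exact Subgroup.commutator_mem_commutator hf (Subgroup.mem_top g)
      exact (hπc f g h6).symm
    · rw [_root_.commutator_def, Subgroup.commutator_le]
      intro a _ b _
      rw [Subgroup.mem_subgroupOf, hΦb]
      have h6 : ((⁅a, b⁆ : ↥Mb) : G ⧸ Γ) ∈ commutator (G ⧸ Γ) := by
        rw [_root_.commutator_def]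
        have : ((⁅a, b⁆ : ↥Mb) : G ⧸ Γ) = ⁅(a : G ⧸ Γ), (b : G ⧸ Γ)⁆ := by
          simp [commutatorElement_def]
        rw [this]
        exact Subgroup.commutator_mem_commutator (Subgroup.mem_top _) (Subgroup.mem_top _)
      rw [hcq] at h6
      exact Subgroup.map_mono hcomm h6
    · intro x
      rw [Subgroup.mem_subgroupOf, hΦb]
      obtain ⟨g, hg⟩ := hπs (x : G ⧸ Γ)
      rw [Subgroup.coe_pow, ← hg, ← map_pow]
      exact Subgroup.mem_map_of_mem π (hpow g)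
  calc Nat.card (commutator G) ≤ Nat.card Γ * Nat.card (commutator (G ⧸ Γ)) := h1
    _ ≤ Nat.card Γ * Nat.card (⁅Mb, Mb⁆ : Subgroup (G ⧸ Γ)) :=
        Nat.mul_le_mul_left _ (Subgroup.card_le_of_le h2)
    _ ≤ Nat.card Γ * p ^ ((d' + 1 - 1) * (d' + 1 - 1 - 1) / 2) := by
        rw [h3]
        exact Nat.mul_le_mul_left _ (by simpa using h4)

end Cfsg.Agent.Lib.Helper7.VLDW
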