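import Mathlib
import Cfsg.Agent.Lib.Lead.Frobenius2
import Cfsg.Agent.Lib.Helper4.VirtualChar
import Cfsg.Agent.Lib.Helper8.ClassAlgebra3
import Cfsg.Agent.Lib.Helper1.IndFun
import Cfsg.Agent.S0139
import Cfsg.Agent.S0146
import Cfsg.Agent.S0148
import Cfsg.Agent.S0149
import Cfsg.Agent.S0161
import Cfsg.Agent.S0170

set_option autoImplicit false
open Cfsg

/-!
# A Wielandt-style generalization of the construction in Frobenius' theorem

`M` is a subgroup of `G`, `K` a subgroup of `M` such that class functions of `M` vanishing on `K`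
are reproduced by induction-restriction (`Restr`).  Irreducible characters of `M` that are constant
on `K` then extend to irreducible characters of `G`.
-/

namespace Cfsg.Agent.Lib.Helper7.WielTI

open Cfsg.Agent.Lib.Helper1 Cfsg.Agent.Lib.Helper4 Cfsg.Agent.Lib.Lead
open scoped ComplexConjugate Pointwise

section Star

variable {G : Type*} [Group G] [Fintype G]

/-- the restriction property -/
def Restr (M : Subgroup G) (K : Subgroup M) : Prop :=
  ∀ φ : M → ℂ, Cfsg.IsClassFunction M φ → (∀ k : M, k ∈ K → φ k = 0) →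
    ∀ x : M, Cfsg.indFun M φ x = φ x

/-- The extension `θ*` of a function on `M`. -/
noncomputable def star (M : Subgroup G) (θ : M → ℂ) : G → ℂ :=
  Cfsg.indFun M (θ - fun _ => θ 1) + fun _ => θ 1

theorem isClassFunction_const {K : Type*} [Group K] (c : ℂ) :
    Cfsg.IsClassFunction K (fun _ => c) :=
  fun _ _ => rfl

theorem star_restrict {M : Subgroup G} {K : Subgroup M} (hR : Restr M K) (θ : M → ℂ)
    (hθ : Cfsg.IsClassFunction M θ) (hθK : ∀ k : M, k ∈ K → θ k = θ 1) (x : M) :
    star M θ x = θ x := by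
  unfold star
  rw [Pi.add_apply, hR _ (isClassFunction_sub hθ (isClassFunction_const _))
    (by intro k hk; simp [hθK k hk])]
  simp

theorem star_one {M : Subgroup G} {K : Subgroup M} (hR : Restr M K) (θ : M → ℂ)
    (hθ : Cfsg.IsClassFunction M θ) (hθK : ∀ k : M, k ∈ K → θ k = θ 1) : star M θ 1 = θ 1 := by
  have := star_restrict hR θ hθ hθK 1
  simpa using this

/-- An induced function vanishes at elements none of whose conjugates lies in the support. -/
theorem indFun_eq_zero_of_forall (M : Subgroup G) (φ : M → ℂ) (x : G)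
    (hx : ∀ g : G, ∀ h : g⁻¹ * x * g ∈ M, φ ⟨g⁻¹ * x * g, h⟩ = 0) : Cfsg.indFun M φ x = 0 := by
  rw [indFun_apply, Finset.sum_eq_zero, mul_zero]
  intro y _
  by_cases hmem : y⁻¹ * x * y ∈ M
  · rw [extendByZero_of_mem _ _ hmem]
    exact hx y hmem
  · exact extendByZero_of_notMem _ _ hmem

theorem star_off (M : Subgroup G) (K : Subgroup M) (θ : M → ℂ)
    (hθK : ∀ k : M, k ∈ K → θ k = θ 1) (x : G)
    (hx : ∀ g : G, ∀ h : g⁻¹ * x * g ∈ M, (⟨g⁻¹ * x * g, h⟩ : M) ∈ K) : star M θ x = θ 1 := by
  unfold star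
  rw [Pi.add_apply, indFun_eq_zero_of_forall M _ x, zero_add]
  intro g h
  simp [hθK _ (hx g h)]

theorem star_irr {M : Subgroup G} {K : Subgroup M} (hR : Restr M K) {θ : M → ℂ}
    (hθ : Cfsg.IsIrrCharacter M θ) (hθK : ∀ k : M, k ∈ K → θ k = θ 1)
    (hne : θ ≠ fun _ => 1) : Cfsg.IsIrrCharacter G (star M θ) := by
  classical
  have : Fintype M := Fintype.ofFinite M
  obtain ⟨d, hd0, hd⟩ := irr_apply_one_pos hθ
  have hθc : Cfsg.IsClassFunction M θ := isClassFunction_irr hθ
  have h1H : Cfsg.IsIrrCharacter M (fun _ => (1 : ℂ)) := Cfsg.Agent.S0161.isIrrCharacter_one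
  have h1G : Cfsg.IsIrrCharacter G (fun _ => (1 : ℂ)) := Cfsg.Agent.S0161.isIrrCharacter_one
  have hconstH : (fun _ : M => θ 1) = (d : ℂ) • (fun _ : M => (1 : ℂ)) := by
    funext x; simp [hd]
  have hconstG : (fun _ : G => θ 1) = (d : ℂ) • (fun _ : G => (1 : ℂ)) := by
    funext x; simp [hd]
  -- generalized character
  have hgen : Cfsg.IsGeneralizedCharacter G (star M θ) := by
    unfold star
    rw [Cfsg.Agent.S0170.indFun_sub]
    refine isGenChar_add (isGenChar_sub ?_ ?_) ?_
    · exact isGenChar_of_isCharacter (Cfsg.Agent.S0148.result M θ (isCharacter_of_irr hθ))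
    · apply isGenChar_of_isCharacter
      apply Cfsg.Agent.S0148.result M
      rw [hconstH]
      exact isCharacter_nsmul (isCharacter_of_irr h1H) d
    · apply isGenChar_of_isCharacter
      rw [hconstG]
      exact isCharacter_nsmul (isCharacter_of_irr h1G) d
  have hcf : Cfsg.IsClassFunction G (star M θ) := isGenChar_isClassFunction hgen
  set φ : M → ℂ := θ - fun _ => θ 1 with hφ
  have hres : (fun h : M => star M θ h) = θ := funext fun h => star_restrict hR θ hθc hθK h
  have hθ1 : Cfsg.classInner θ (fun _ : M => (1 : ℂ)) = 0 := classInner_irr_ne hθ h1H hne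
  have h1θ : Cfsg.classInner (fun _ : M => (1 : ℂ)) θ = 0 := classInner_irr_ne h1H hθ (Ne.symm hne)
  -- first piece
  have hA : Cfsg.classInner (Cfsg.indFun M φ) (star M θ) = 1 := by
    rw [Cfsg.Agent.S0146.result M φ _ hcf, hres, hφ, classInner_sub_left, classInner_irr_self hθ,
      hconstH, classInner_smul_left, h1θ]
    simp
  -- second piece
  have hB : Cfsg.classInner (star M θ) (fun _ : G => (1 : ℂ)) = 0 := by
    have hstar : star M θ = Cfsg.indFun M φ + fun _ => θ 1 := rfl
    rw [hstar, classInner_add_left,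
      Cfsg.Agent.S0146.result M φ _ (isClassFunction_const 1), hφ, classInner_sub_left, hθ1,
      hconstH, hconstG, classInner_smul_left, classInner_smul_left,
      classInner_irr_self h1H, classInner_irr_self h1G]
    simp
  have hB' : Cfsg.classInner (fun _ : G => (1 : ℂ)) (star M θ) = 0 := by
    rw [← classInner_conj_symm, hB, map_zero]
  have hnorm : Cfsg.classInner (star M θ) (star M θ) = 1 := by
    have hstar : Cfsg.classInner (star M θ) (star M θ)
        = Cfsg.classInner (Cfsg.indFun M φ) (star M θ)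
          + Cfsg.classInner (fun _ : G => θ 1) (star M θ) := by
      rw [← classInner_add_left]; rfl
    rw [hstar, hA, hconstG, classInner_smul_left, hB']
    simp
  obtain ⟨ψ, hψ, h | h⟩ := genChar_norm_one hgen hnorm
  · rw [h]; exact hψ
  · exfalso
    obtain ⟨e, he0, he⟩ := irr_apply_one_pos hψ
    have h2 := congrFun h 1
    rw [star_one hR θ hθc hθK, hd, Pi.neg_apply, he] at h2
    have h3 : ((d : ℤ) : ℂ) = ((-(e : ℤ) : ℤ) : ℂ) := by push_cast; exact h2
    have h4 : (d : ℤ) = -(e : ℤ) := by exact_mod_cast h3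
    omega

end Star

end Cfsg.Agent.Lib.Helper7.WielTI
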