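import Mathlib
import Cfsg.Agent.Lib.Helper7.WielTI1
import Cfsg.Agent.Lib.Helper2.PiSection
import Cfsg.Agent.Lib.Helper1.CharFound3

set_option autoImplicit false
open Cfsg

/-!
# The normal subgroup produced by the Wielandt construction
-/

namespace Cfsg.Agent.Lib.Helper7.WielTI

open Cfsg.Agent.Lib.Helper1 Cfsg.Agent.Lib.Helper4 Cfsg.Agent.Lib.Lead Cfsg.Agent.Lib.Helper2
open scoped ComplexConjugate Pointwise

universe u

variable {G : Type u} [Group G] [Finite G]

theorem exists_normal_of_restr [Fintype G] (M : Subgroup G) (K : Subgroup M) [hKn : K.Normal]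
    (hR : Restr M K) :
    ∃ N : Subgroup G, N.Normal ∧ (∀ x : M, (x : G) ∈ N → x ∈ K) ∧
      (∀ x : G, (∀ g : G, ∀ h : g⁻¹ * x * g ∈ M, (⟨g⁻¹ * x * g, h⟩ : M) ∈ K) → x ∈ N) := by
  classical
  have : Fintype M := Fintype.ofFinite M
  let Θ := {θ : Cfsg.IrrCharacter M // (∀ k : M, k ∈ K → (θ : M → ℂ) k = (θ : M → ℂ) 1) ∧
    (θ : M → ℂ) ≠ fun _ => 1}
  have hrep : ∀ θ : Θ,
      ∃ (n : ℕ) (ρ : Representation ℂ G (Fin n → ℂ)), ρ.character = star M (θ.1 : M → ℂ) := by
    intro θ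
    obtain ⟨n, ρ, _, h⟩ := star_irr hR θ.1.2 θ.2.1 θ.2.2
    exact ⟨n, ρ, h⟩
  choose n ρ hρ using hrep
  let N : Subgroup G := ⨅ θ, MonoidHom.ker (ρ θ)
  have hNn : N.Normal := Subgroup.normal_iInf_normal fun θ => MonoidHom.normal_ker _
  have hmem : ∀ x : G, x ∈ N ↔ ∀ θ : Θ, star M (θ.1 : M → ℂ) x = (θ.1 : M → ℂ) 1 := by
    intro x
    simp only [N, Subgroup.mem_iInf, MonoidHom.mem_ker]
    refine forall_congr' fun θ => ?_
    have h1 := Cfsg.Agent.S0139.result (ρ θ) x
    have h2 : ((ρ θ).character 1 : ℂ) = (Module.finrank ℂ (Fin (n θ) → ℂ) : ℂ) :=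
      Representation.char_one _
    rw [← h2, hρ θ, star_one hR _ (isClassFunction_irr θ.1.2) θ.2.1] at h1
    rw [h1]
    rfl
  refine ⟨N, hNn, ?_, ?_⟩
  · intro x hx
    have : Fintype (Cfsg.IrrCharacter (M ⧸ K)) := Fintype.ofFinite _
    have hall : ∀ ψ : Cfsg.IrrCharacter (M ⧸ K),
        (ψ : M ⧸ K → ℂ) (QuotientGroup.mk' K x) = (ψ : M ⧸ K → ℂ) 1 := by
      intro ψ
      set θ : M → ℂ := fun h => (ψ : M ⧸ K → ℂ) (QuotientGroup.mk' K h) with hθ
      have hθirr : Cfsg.IsIrrCharacter M θ :=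
        Cfsg.Agent.Lib.Helper2.PiSection.isIrrCharacter_comp_surjective ψ.2 (QuotientGroup.mk' K) (QuotientGroup.mk'_surjective K)
      have hθK : ∀ k : M, k ∈ K → θ k = θ 1 := by
        intro k hk
        simp only [hθ]
        have hk1 : QuotientGroup.mk' K k = 1 := (QuotientGroup.eq_one_iff k).mpr hk
        rw [hk1, map_one]
      by_cases hne : θ = fun _ => 1
      · have h1 := congrFun hne x
        have h2 := congrFun hne 1
        simp only [hθ] at h1 h2
        rw [map_one] at h2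
        rw [h1, h2]
      · have h1 := (hmem _).1 hx ⟨⟨θ, hθirr⟩, hθK, hne⟩
        have h2 := star_restrict hR θ (isClassFunction_irr hθirr) hθK x
        simp only at h1
        rw [h2] at h1
        simp only [hθ] at h1
        rw [map_one] at h1
        exact h1
    have hconj := Cfsg.Agent.Lib.Helper8.isConj_of_forall_irr_eq hall
    have h1 : QuotientGroup.mk' K x = 1 := isConj_one_left.1 hconj
    exact (QuotientGroup.eq_one_iff x).mp h1
  · intro x hx
    exact (hmem x).2 fun θ => star_off M K _ θ.2.1 x hx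

end Cfsg.Agent.Lib.Helper7.WielTI
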