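import Mathlib
import Cfsg.Agent.Lib.Helper7.WielTI2
import Cfsg.Agent.Lib.Lead.CoprimeTools

set_option autoImplicit false
open Cfsg

/-!
# The concrete situation: `M = K × H` with `H` a TI subgroup
-/

namespace Cfsg.Agent.Lib.Helper7.WielTI

open Cfsg.Agent.Lib.Helper1 Cfsg.Agent.Lib.Helper4 Cfsg.Agent.Lib.Lead
open scoped ComplexConjugate Pointwise

universe u

/-- the hypotheses -/
structure Setup {G : Type u} [Group G] (M H K : Subgroup G) : Prop where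
  hHM : H ≤ M
  hKM : K ≤ M
  hMK : M ≤ Subgroup.normalizer (K : Set G)
  hMH : M ≤ Subgroup.normalizer (H : Set G)
  hdisj : K ⊓ H = ⊥
  hsup : M ≤ K ⊔ H
  hcop : (Nat.card K).Coprime (Nat.card H)
  hTI : ∀ g : G, g ∉ M → ∀ x ∈ H, g * x * g⁻¹ ∈ H → x = 1

namespace Setup

variable {G : Type u} [Group G] {M H K : Subgroup G}

theorem comm (S : Setup M H K) {k h : G} (hk : k ∈ K) (hh : h ∈ H) : k * h = h * k := by
  have h1 : k * h * k⁻¹ * h⁻¹ ∈ H :=
    H.mul_mem ((Subgroup.mem_normalizer_iff.mp (S.hMH (S.hKM hk)) h).mp hh) (H.inv_mem hh)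
  have h2 : k * h * k⁻¹ * h⁻¹ ∈ K := by
    have : h * k⁻¹ * h⁻¹ ∈ K :=
      (Subgroup.mem_normalizer_iff.mp (S.hMK (S.hHM hh)) k⁻¹).mp (K.inv_mem hk)
    have e : k * h * k⁻¹ * h⁻¹ = k * (h * k⁻¹ * h⁻¹) := by group
    rw [e]; exact K.mul_mem hk this
  have h3 : k * h * k⁻¹ * h⁻¹ ∈ K ⊓ H := Subgroup.mem_inf.mpr ⟨h2, h1⟩
  rw [S.hdisj, Subgroup.mem_bot] at h3
  have : k * h = (k * h * k⁻¹ * h⁻¹) * (h * k) := by group
  rw [this, h3, one_mul]

theorem decomp (S : Setup M H K) {x : G} (hx : x ∈ M) : ∃ k ∈ K, ∃ h ∈ H, x = k * h := by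
  have h1 : x ∈ ((K ⊔ H : Subgroup G) : Set G) := S.hsup hx
  rw [Subgroup.coe_mul_of_right_le_normalizer_left K H (S.hHM.trans S.hMK)] at h1
  obtain ⟨k, hk, h, hh, rfl⟩ := h1
  exact ⟨k, hk, h, hh, rfl⟩

variable [Finite G]

theorem pow_card (S : Setup M H K) {k h : G} (hk : k ∈ K) (hh : h ∈ H) :
    (k * h) ^ Nat.card K = h ^ Nat.card K := by
  rw [(show Commute k h from S.comm hk hh).mul_pow]
  have : k ^ Nat.card K = 1 := by
    have := pow_card_eq_one' (G := K) (x := ⟨k, hk⟩)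
    exact congrArg Subtype.val this
  rw [this, one_mul]

theorem eq_one_of_pow (S : Setup M H K) {h : G} (hh : h ∈ H) (h1 : h ^ Nat.card K = 1) :
    h = 1 := by
  have h2 : h ^ Nat.card H = 1 := by
    have := pow_card_eq_one' (G := H) (x := ⟨h, hh⟩)
    exact congrArg Subtype.val this
  have h3 : orderOf h ∣ Nat.gcd (Nat.card K) (Nat.card H) :=
    Nat.dvd_gcd (orderOf_dvd_of_pow_eq_one h1) (orderOf_dvd_of_pow_eq_one h2)
  rw [S.hcop, Nat.dvd_one, orderOf_eq_one_iff] at h3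
  exact h3

theorem mem_of_pow (S : Setup M H K) {x : G} (hx : x ∈ M) (h1 : x ^ Nat.card K = 1) :
    x ∈ K := by
  obtain ⟨k, hk, h, hh, rfl⟩ := S.decomp hx
  rw [S.pow_card hk hh] at h1
  rw [S.eq_one_of_pow hh h1, mul_one]
  exact hk

theorem ti (S : Setup M H K) {g t : G} (hg : g ∉ M) (ht : t ∈ M) (htK : t ∉ K)
    (hgt : g * t * g⁻¹ ∈ M) : False := by
  obtain ⟨k, hk, h, hh, rfl⟩ := S.decomp ht
  obtain ⟨k₂, hk₂, h₂, hh₂, e₂⟩ := S.decomp hgt
  have h1 : (g * (k * h) * g⁻¹) ^ Nat.card K = g * h ^ Nat.card K * g⁻¹ := by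
    rw [conj_pow, S.pow_card hk hh]
  have h2 : (g * (k * h) * g⁻¹) ^ Nat.card K = h₂ ^ Nat.card K := by
    rw [e₂, S.pow_card hk₂ hh₂]
  have h3 : g * h ^ Nat.card K * g⁻¹ ∈ H := by
    rw [← h1, h2]; exact H.pow_mem hh₂ _
  have h4 := S.hTI g hg _ (H.pow_mem hh _) h3
  have h5 := S.eq_one_of_pow hh h4
  apply htK
  rw [h5, mul_one]; exact hk

theorem restr [Fintype G] (S : Setup M H K) : Restr M (K.subgroupOf M) := by
  intro φ hφ hφK x
  by_cases hx : (x : G) ∈ K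
  · rw [hφK x (Subgroup.mem_subgroupOf.mpr hx)]
    apply indFun_eq_zero_of_forall
    intro g hgM
    apply hφK
    rw [Subgroup.mem_subgroupOf]
    apply S.mem_of_pow hgM
    have := conj_pow (a := g⁻¹) (b := (x : G)) (i := Nat.card K)
    rw [inv_inv] at this
    rw [this]
    have hx1 : (x : G) ^ Nat.card K = 1 := by
      have := pow_card_eq_one' (G := K) (x := ⟨(x : G), hx⟩)
      exact congrArg Subtype.val this
    rw [hx1]; group
  · apply Cfsg.Agent.S0149.aux {y : G | y ∈ M ∧ y ∉ K} M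
    · intro g hg t ht hgt
      exact (S.ti hg ht.1 ht.2 hgt.1).elim
    · exact hφ
    · intro y hy
      apply hφK
      rw [Subgroup.mem_subgroupOf]
      by_contra hyK
      exact hy ⟨y.2, hyK⟩
    · exact ⟨x.2, hx⟩
    · intro h1
      apply hx
      rw [h1]
      exact K.one_mem

end Setup

end Cfsg.Agent.Lib.Helper7.WielTI
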