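import Mathlib
import Cfsg.Agent.Lib.Helper7.WielTI3

set_option autoImplicit false
open Cfsg

/-!
# The normal complement
-/

namespace Cfsg.Agent.Lib.Helper7.WielTI

open Cfsg.Agent.Lib.Lead
open scoped Pointwise

universe u

namespace Setup

variable {G : Type u} [Group G] [Finite G] {M H K : Subgroup G}

/-- the elements of `G` conjugate into `M ∖ K` -/
def bad (M K : Subgroup G) : Set G := {x | ∃ g : G, g⁻¹ * x * g ∈ M ∧ g⁻¹ * x * g ∉ K}

theorem ncard_bad_le (S : Setup M H K) :
    (bad M K).ncard ≤ M.index * (Nat.card M - Nat.card K) := by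
  classical
  set A : Set G := (M : Set G) \ (K : Set G) with hA
  have hAcard : A.ncard = Nat.card M - Nat.card K := by
    rw [hA, Set.ncard_sdiff (fun x hx => S.hKM hx)]
    rfl
  let f : (G ⧸ M) × A → G := fun qa => qa.1.out * (qa.2 : G) * qa.1.out⁻¹
  have hsub : bad M K ⊆ f '' Set.univ := by
    intro x hx
    obtain ⟨g, hgM, hgK⟩ := hx
    obtain ⟨m, hm⟩ := QuotientGroup.mk_out_eq_mul M g
    set a := (m : G)⁻¹ * (g⁻¹ * x * g) * (m : G) with ha
    have haM : a ∈ M := M.mul_mem (M.mul_mem (M.inv_mem m.2) hgM) m.2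
    have haK : a ∉ K := by
      intro h0
      apply hgK
      have h1 := (Subgroup.mem_normalizer_iff.mp (S.hMK m.2) a).mp h0
      have e : (m : G) * a * (m : G)⁻¹ = g⁻¹ * x * g := by rw [ha]; group
      rwa [e] at h1
    refine ⟨((g : G ⧸ M), ⟨a, haM, haK⟩), Set.mem_univ _, ?_⟩
    show (g : G ⧸ M).out * a * (g : G ⧸ M).out⁻¹ = x
    rw [hm, ha]; group
  calc (bad M K).ncard ≤ (f '' Set.univ).ncard := Set.ncard_le_ncard hsub
    _ ≤ (Set.univ : Set ((G ⧸ M) × A)).ncard := Set.ncard_image_le
    _ = Nat.card ((G ⧸ M) × A) := Set.ncard_univ _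
    _ = M.index * (Nat.card M - Nat.card K) := by
      rw [Nat.card_prod, ← hAcard]
      rfl

theorem exists_complement (S : Setup M H K) : ∃ N : Subgroup G, N.Normal ∧ N.IsComplement' H := by
  classical
  haveI : Fintype G := Fintype.ofFinite G
  haveI : (K.subgroupOf M).Normal := Subgroup.normal_subgroupOf_of_le_normalizer S.hMK
  obtain ⟨N, hNn, hNM, hNoff⟩ := exists_normal_of_restr M (K.subgroupOf M) S.restr
  refine ⟨N, hNn, ?_⟩
  have hdisj : N ⊓ H = ⊥ := by
    rw [eq_bot_iff]
    intro x hx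
    obtain ⟨hxN, hxH⟩ := Subgroup.mem_inf.mp hx
    have h1 := hNM ⟨x, S.hHM hxH⟩ hxN
    rw [Subgroup.mem_subgroupOf] at h1
    have h2 : x ∈ K ⊓ H := Subgroup.mem_inf.mpr ⟨h1, hxH⟩
    rw [S.hdisj] at h2
    exact h2
  -- the complement of the bad set lies in `N`
  have hsub : (bad M K)ᶜ ⊆ (N : Set G) := by
    intro x hx
    apply hNoff
    intro g hgM
    rw [Subgroup.mem_subgroupOf]
    by_contra hgK
    exact hx ⟨g, hgM, hgK⟩
  have h1 : Nat.card G - (bad M K).ncard ≤ Nat.card N := by
    rw [← Set.ncard_compl]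
    have h2 := Set.ncard_le_ncard hsub
    have e : (N : Set G).ncard = Nat.card N := (Nat.card_coe_set_eq (N : Set G)).symm
    rwa [e] at h2
  have h2 := S.ncard_bad_le
  have hM : Nat.card M = Nat.card K * Nat.card H := by
    have h3 := card_sup_of_disjoint K H (S.hKM.trans S.hMH) S.hdisj
    have h4 : K ⊔ H = M := le_antisymm (sup_le S.hKM S.hHM) S.hsup
    rw [h4] at h3
    exact h3
  have hG : M.index * Nat.card M = Nat.card G := Subgroup.index_mul_card M
  have hle : Nat.card N * Nat.card H ≤ Nat.card G := by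
    have h3 := card_sup_of_disjoint H N (by rw [Subgroup.normalizer_eq_top]; exact le_top)
      (by rw [inf_comm]; exact hdisj)
    rw [mul_comm, ← h3]
    exact Subgroup.card_le_card_group _
  have hge : Nat.card G ≤ Nat.card N * Nat.card H := by
    have hKpos : 0 < Nat.card K := Nat.card_pos
    have hHpos : 0 < Nat.card H := Nat.card_pos
    have h5 : M.index * Nat.card K ≤ Nat.card N := by
      have h6 : Nat.card G - M.index * (Nat.card M - Nat.card K) ≤ Nat.card N :=
        (Nat.sub_le_sub_left h2 _).trans h1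
      have hKM : Nat.card K ≤ Nat.card M := by rw [hM]; exact Nat.le_mul_of_pos_right _ hHpos
      have h7 : Nat.card G - M.index * (Nat.card M - Nat.card K) = M.index * Nat.card K := by
        rw [← hG, Nat.mul_sub, Nat.sub_sub_self (Nat.mul_le_mul_left _ hKM)]
      rwa [h7] at h6
    calc Nat.card G = M.index * Nat.card K * Nat.card H := by rw [← hG, hM, mul_assoc]
      _ ≤ Nat.card N * Nat.card H := Nat.mul_le_mul_right _ h5
  apply Subgroup.isComplement'_of_card_mul_and_disjoint (le_antisymm hle hge)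
  exact disjoint_iff.mpr hdisj

end Setup

end Cfsg.Agent.Lib.Helper7.WielTI
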