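import Mathlib
import Cfsg.Agent.Lib.Lead.Frobenius
import Cfsg.Agent.Lib.Lead.Frobenius3
import Cfsg.Agent.Lib.Lead.CoprimeSylow

set_option autoImplicit false
open Cfsg

/-!
# A partition lemma, and Frobenius groups from fixed-point-free sections
-/

namespace Cfsg.Agent.Lib.Helper7.WielTI

open Cfsg.Agent.Lib.Lead
open scoped Pointwise

universe u v

/-- A finite group cannot be partitioned by a conjugation-stable family of proper
self-normalizing subgroups. -/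
theorem partition_top {H : Type u} [Group H] [Finite H] [Nontrivial H] {ι : Type v}
    (T : ι → Subgroup H)
    (ha : ∀ y : H, y ≠ 1 → ∃ i, y ∈ T i)
    (hb : ∀ i j (y : H), y ≠ 1 → y ∈ T i → y ∈ T j → T i = T j)
    (hc : ∀ (g : H) i, ∃ j, MulAut.conj g • T i = T j)
    (hd : ∀ i, T i ≠ ⊥ → Subgroup.normalizer (T i : Set H) ≤ T i) :
    ∃ i, T i = ⊤ := by
  classical
  by_contra hne
  push Not at hne
  have hF : ∀ i (y : H), y ≠ 1 → y ∈ T i → Cfsg.IsFrobeniusComplement (T i) := by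
    intro i y hy hyi
    have hbot : T i ≠ ⊥ := by
      intro h; rw [h, Subgroup.mem_bot] at hyi; exact hy hyi
    refine ⟨hbot, hne i, ?_⟩
    intro g hg
    rw [eq_bot_iff]
    intro x hx
    rw [Subgroup.mem_bot]
    by_contra hx1
    obtain ⟨hx0, hxg⟩ := Subgroup.mem_inf.mp hx
    obtain ⟨j, hj⟩ := hc g i
    rw [hj] at hxg
    have h1 := hb i j x hx1 hx0 hxg
    apply hg
    apply hd i hbot
    rw [mem_normalizer_iff_conj_smul, hj, h1]
  have hidx : ∀ i (y : H), y ≠ 1 → y ∈ T i → 2 * (T i).index ≤ Nat.card H := by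
    intro i y hy hyi
    have h1 : 2 ≤ Nat.card (T i) := by
      have : (T i) ≠ ⊥ := by
        intro h; rw [h, Subgroup.mem_bot] at hyi; exact hy hyi
      have h2 := (Subgroup.one_lt_card_iff_ne_bot (T i)).mpr this
      omega
    have h2 := (T i).card_mul_index
    rw [← h2]
    exact Nat.mul_le_mul_right _ h1
  obtain ⟨y₀, hy₀⟩ := exists_ne (1 : H)
  obtain ⟨i₀, hi₀⟩ := ha y₀ hy₀
  have hF₀ := hF i₀ y₀ hy₀ hi₀
  have hk₀ := card_frobeniusKernel hF₀
  have hone₀ : (1 : H) ∈ Cfsg.frobeniusKernel (T i₀) := Or.inl rfl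
  obtain ⟨y₁, hy₁k, hy₁⟩ : ∃ y₁ ∈ Cfsg.frobeniusKernel (T i₀), y₁ ≠ 1 := by
    apply Set.exists_ne_of_one_lt_ncard
    rw [← Nat.card_coe_set_eq, hk₀]
    have h1 : (T i₀).index ≠ 1 := fun h => hne i₀ (Subgroup.index_eq_one.mp h)
    have h2 : (T i₀).index ≠ 0 := Subgroup.index_ne_zero_of_finite
    omega
  obtain ⟨i₁, hi₁⟩ := ha y₁ hy₁
  have hF₁ := hF i₁ y₁ hy₁ hi₁
  have hk₁ := card_frobeniusKernel hF₁
  have hy₁' : ∀ g : H, y₁ ∉ MulAut.conj g • T i₀ := by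
    rcases hy₁k with h | h
    · exact (hy₁ h).elim
    · exact h
  have hcover : Cfsg.frobeniusKernel (T i₀) ∪ Cfsg.frobeniusKernel (T i₁) = Set.univ := by
    rw [Set.eq_univ_iff_forall]
    intro x
    by_cases hx1 : x = 1
    · left; left; exact hx1
    by_cases hx0 : x ∈ Cfsg.frobeniusKernel (T i₀)
    · left; exact hx0
    right; right
    intro g' hg'
    have hx0' : ∃ g : H, x ∈ MulAut.conj g • T i₀ := by
      by_contra hcon
      push Not at hcon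
      exact hx0 (Or.inr hcon)
    obtain ⟨g, hg⟩ := hx0'
    obtain ⟨j, hj⟩ := hc g i₀
    obtain ⟨j', hj'⟩ := hc g' i₁
    rw [hj] at hg
    rw [hj'] at hg'
    have h1 := hb j j' x hx1 hg hg'
    rw [← hj, ← hj'] at h1
    -- T i₁ = conj (g'⁻¹ g) • T i₀
    have h2 : T i₁ = MulAut.conj (g'⁻¹ * g) • T i₀ := by
      rw [map_mul, mul_smul, h1, ← mul_smul, ← map_mul, inv_mul_cancel, map_one, one_smul]
    apply hy₁' (g'⁻¹ * g)
    rw [← h2]
    exact hi₁
  have h1 := Set.ncard_union_add_ncard_inter (Cfsg.frobeniusKernel (T i₀))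
    (Cfsg.frobeniusKernel (T i₁))
  rw [hcover, Set.ncard_univ, ← Nat.card_coe_set_eq (Cfsg.frobeniusKernel (T i₀)),
    ← Nat.card_coe_set_eq (Cfsg.frobeniusKernel (T i₁)), hk₀, hk₁] at h1
  have h2 : 1 ≤ (Cfsg.frobeniusKernel (T i₀) ∩ Cfsg.frobeniusKernel (T i₁)).ncard := by
    rw [Nat.one_le_iff_ne_zero, Ne, Set.ncard_eq_zero (Set.toFinite _)]
    intro h
    have : (1 : H) ∈ Cfsg.frobeniusKernel (T i₀) ∩ Cfsg.frobeniusKernel (T i₁) :=
      ⟨Or.inl rfl, Or.inl rfl⟩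
    rw [h] at this
    exact this
  have h3 := hidx i₀ y₀ hy₀ hi₀
  have h4 := hidx i₁ y₁ hy₁ hi₁
  omega

/-- A section `N₀ / D` on which `H` acts fixed-point-freely gives a Frobenius group with
complement isomorphic to `H`. -/
theorem frobenius_of_fpf_section {G : Type u} [Group G] [Finite G] (N₀ D H : Subgroup G)
    (hDN : D ≤ N₀) (hND : N₀ ≤ Subgroup.normalizer (D : Set G))
    (hHD : H ≤ Subgroup.normalizer (D : Set G)) (hHN : H ≤ Subgroup.normalizer (N₀ : Set G))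
    (hdisj : N₀ ⊓ H = ⊥) (hne : ∃ x ∈ N₀, x ∉ D) (hH : H ≠ ⊥)
    (hfpf : ∀ y ∈ H, y ≠ 1 → ∀ x ∈ N₀,
      (∀ a ∈ Subgroup.zpowers y, a * x * a⁻¹ * x⁻¹ ∈ D) → x ∈ D) :
    ∃ (F : Type u) (_ : Group F) (_ : Finite F) (C : Subgroup F),
      Cfsg.IsFrobeniusComplement C ∧ Nonempty (H ≃* C) := by
  classical
  set L : Subgroup G := N₀ ⊔ H with hL
  have hLD : L ≤ Subgroup.normalizer (D : Set G) := sup_le hND hHD
  have hLN : L ≤ Subgroup.normalizer (N₀ : Set G) := sup_le Subgroup.le_normalizer hHN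
  haveI : (D.subgroupOf L).Normal := Subgroup.normal_subgroupOf_of_le_normalizer hLD
  let π : L →* L ⧸ D.subgroupOf L := QuotientGroup.mk' _
  have hπ : ∀ (x : L), π x = 1 ↔ (x : G) ∈ D := by
    intro x
    have := QuotientGroup.eq_one_iff (N := D.subgroupOf L) x
    rw [Subgroup.mem_subgroupOf] at this
    exact this
  have hπs : Function.Surjective π := QuotientGroup.mk'_surjective _
  let fH : H →* L ⧸ D.subgroupOf L := π.comp (Subgroup.inclusion (le_sup_right : H ≤ L))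
  let fN : N₀ →* L ⧸ D.subgroupOf L := π.comp (Subgroup.inclusion (le_sup_left : N₀ ≤ L))
  have hfH : ∀ h : H, fH h = π ⟨(h : G), (le_sup_right : H ≤ L) h.2⟩ := fun h => rfl
  have hfN : ∀ n : N₀, fN n = π ⟨(n : G), (le_sup_left : N₀ ≤ L) n.2⟩ := fun n => rfl
  have hfH_one : ∀ h : H, fH h = 1 → h = 1 := by
    intro h hh
    rw [hfH, hπ] at hh
    have h2 : (h : G) ∈ N₀ ⊓ H := ⟨hDN hh, h.2⟩
    rw [hdisj, Subgroup.mem_bot] at h2
    exact Subtype.ext h2
  have hfH_inj : Function.Injective fH := by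
    rw [injective_iff_map_eq_one]
    exact hfH_one
  refine ⟨L ⧸ D.subgroupOf L, inferInstance, inferInstance, fH.range, ?_,
    ⟨MonoidHom.ofInjective hfH_inj⟩⟩
  -- the kernel
  haveI hKn : fN.range.Normal := by
    constructor
    intro k hk g
    obtain ⟨n, rfl⟩ := hk
    obtain ⟨l, rfl⟩ := hπs g
    have h1 : (l : G) * (n : G) * (l : G)⁻¹ ∈ N₀ :=
      (Subgroup.mem_normalizer_iff.mp (hLN l.2) n).mp n.2
    refine ⟨⟨_, h1⟩, ?_⟩
    rw [hfN, hfN, ← map_inv, ← map_mul, ← map_mul]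
    rfl
  have hc : Subgroup.IsComplement' fN.range fH.range := by
    apply Subgroup.isComplement'_of_disjoint_and_mul_eq_univ
    · rw [Subgroup.disjoint_def]
      rintro x ⟨n, rfl⟩ ⟨h, hh⟩
      -- `fH h = fN n`, so `n⁻¹ h ∈ D`
      have h1 : π (⟨(n : G), (le_sup_left : N₀ ≤ L) n.2⟩⁻¹ * ⟨(h : G), (le_sup_right : H ≤ L) h.2⟩) = 1 := by
        rw [map_mul, map_inv, ← hfN, ← hfH, hh, inv_mul_cancel]
      rw [hπ] at h1
      have h2 : (n : G)⁻¹ * (h : G) ∈ N₀ := hDN h1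
      have h3 : (h : G) ∈ N₀ := by
        have := N₀.mul_mem n.2 h2
        rwa [mul_inv_cancel_left] at this
      have h4 : (h : G) ∈ N₀ ⊓ H := ⟨h3, h.2⟩
      rw [hdisj, Subgroup.mem_bot] at h4
      have h5 : h = 1 := Subtype.ext h4
      rw [← hh, h5, map_one]
    · rw [Set.eq_univ_iff_forall]
      intro g
      obtain ⟨l, rfl⟩ := hπs g
      have h1 : (l : G) ∈ ((N₀ ⊔ H : Subgroup G) : Set G) := l.2
      rw [Subgroup.coe_mul_of_right_le_normalizer_left N₀ H hHN] at h1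
      obtain ⟨n, hn, h, hh, e⟩ := h1
      refine ⟨fN ⟨n, hn⟩, ⟨_, rfl⟩, fH ⟨h, hh⟩, ⟨_, rfl⟩, ?_⟩
      show fN ⟨n, hn⟩ * fH ⟨h, hh⟩ = π l
      rw [hfN, hfH, ← map_mul]
      congr 1
      exact Subtype.ext e
  have hKbot : fN.range ≠ ⊥ := by
    obtain ⟨x, hx, hxD⟩ := hne
    intro h
    have h1 : fN ⟨x, hx⟩ ∈ fN.range := ⟨_, rfl⟩
    rw [h, Subgroup.mem_bot, hfN, hπ] at h1
    exact hxD h1
  have hHbot : fH.range ≠ ⊥ := by
    obtain ⟨y, hy⟩ := (Subgroup.ne_bot_iff_exists_ne_one).mp hH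
    intro h
    have h1 : fH y ∈ fH.range := ⟨_, rfl⟩
    rw [h, Subgroup.mem_bot] at h1
    exact hy (hfH_one y h1)
  rw [isFrobeniusComplement_iff_fpf fN.range fH.range hc hKbot hHbot]
  rintro c ⟨y, rfl⟩ hc1
  have hy1 : (y : G) ≠ 1 := by
    intro h
    apply hc1
    have : y = 1 := Subtype.ext h
    rw [this, map_one]
  rw [eq_bot_iff]
  rintro xb ⟨⟨x, rfl⟩, hxc⟩
  rw [Subgroup.mem_bot]
  have hxc' : fN x ∈ Subgroup.centralizer {fH y} := hxc
  rw [Subgroup.mem_centralizer_iff] at hxc'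
  have hcomm : Commute (fH y) (fN x) := hxc' _ rfl
  have hx := hfpf y y.2 hy1 x x.2 ?_
  · rw [hfN, hπ]; exact hx
  · intro a ha
    obtain ⟨k, rfl⟩ := Subgroup.mem_zpowers_iff.mp ha
    have h1 : Commute ((fH y) ^ k) (fN x) := hcomm.zpow_left k
    have h2 : fH (y ^ k) * fN x * (fH (y ^ k))⁻¹ * (fN x)⁻¹ = 1 := by
      rw [map_zpow, h1.eq, mul_inv_cancel_right, mul_inv_cancel]
    rw [← map_inv, ← map_inv, hfH, hfN, hfH, hfN, ← map_mul, ← map_mul, ← map_mul, hπ] at h2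
    exact h2

end Cfsg.Agent.Lib.Helper7.WielTI
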