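import Mathlib
import Cfsg.Agent.Lib.Helper7.WielTI5
import Cfsg.Agent.Lib.Lead.CoprimeAction
import Cfsg.Agent.Lib.Lead.CoprimeSylow2
import Cfsg.Agent.Lib.Lead.CoprimeSylow3
import Cfsg.Agent.Lib.Lead.CoprimeSylow4
import Cfsg.Agent.Lib.Lead.SylowNum3
import Cfsg.Agent.Lib.Lead.HallTools

set_option autoImplicit false
open Cfsg

/-!
# A complement all of whose nonidentity elements have the same fixed points is a Frobenius
complement
-/

namespace Cfsg.Agent.Lib.Helper7.WielTI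

open Cfsg.Agent.Lib.Lead Cfsg.Agent.Lib.Lead.SylowNum
open scoped Pointwise

universe u

/-- `H` acts on the normal subgroup `N`, and every nonidentity element of `H` has the same
fixed points `K₀ ≠ N` on `N`. -/
structure FSetup {G : Type u} [Group G] (N H K₀ : Subgroup G) : Prop where
  hNH : N ⊓ H = ⊥
  hKN : K₀ ≤ N
  hcomm : ∀ k ∈ K₀, ∀ h ∈ H, k * h = h * k
  hfix : ∀ y ∈ H, y ≠ 1 → ∀ n ∈ N, n * y = y * n → n ∈ K₀
  hcopK : (Nat.card K₀).Coprime (Nat.card H)
  hne : ¬ N ≤ K₀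
  hH : H ≠ ⊥

namespace FSetup

variable {G : Type u} [Group G] [Finite G] {N H K₀ : Subgroup G}

theorem zpowers_solvable (y : G) : Group.IsSolvable (Subgroup.zpowers y) :=
  isSolvable_of_comm (fun a b => mul_comm' a b)

theorem coprime [N.Normal] (S : FSetup N H K₀) : (Nat.card N).Coprime (Nat.card H) := by
  by_contra hcon
  obtain ⟨p, hp, hpN, hpH⟩ := Nat.Prime.not_coprime_iff_dvd.mp hcon
  haveI : Fact p.Prime := ⟨hp⟩
  obtain ⟨y, hy⟩ := exists_prime_orderOf_dvd_card' (G := H) p hpH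
  have hy1 : (y : G) ≠ 1 := by
    intro h
    have : y = 1 := Subtype.ext h
    rw [this, orderOf_one] at hy
    exact hp.one_lt.ne hy
  set A := Subgroup.zpowers (y : G) with hAdef
  have hA : IsPGroup p A := by
    apply IsPGroup.of_card (n := 1)
    rw [Nat.card_zpowers, Subgroup.orderOf_coe, hy, pow_one]
  have hAN : A ≤ Subgroup.normalizer (N : Set G) := by
    rw [Subgroup.normalizer_eq_top]; exact le_top
  have h1 := card_modEq_card_inf_centralizer p A N hA hAN
  have h2 : N ⊓ Subgroup.centralizer (A : Set G) = K₀ := by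
    apply le_antisymm
    · intro x hx
      obtain ⟨hxN, hxC⟩ := Subgroup.mem_inf.mp hx
      rw [Subgroup.mem_centralizer_iff] at hxC
      exact S.hfix y y.2 hy1 x hxN (hxC y (Subgroup.mem_zpowers _)).symm
    · intro k hk
      refine Subgroup.mem_inf.mpr ⟨S.hKN hk, ?_⟩
      rw [Subgroup.mem_centralizer_iff]
      intro a ha
      have haH : a ∈ H := (Subgroup.zpowers_le.mpr y.2) ha
      exact (S.hcomm k hk a haH).symm
  rw [h2] at h1
  have h3 : p ∣ Nat.card K₀ :=
    (Nat.modEq_zero_iff_dvd.mp (h1.symm.trans (Nat.modEq_zero_iff_dvd.mpr hpN)))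
  exact Nat.Prime.not_coprime_iff_dvd.mpr ⟨p, hp, h3, hpH⟩ S.hcopK

theorem conj_smul_le_normal [N.Normal] (x : G) {Q : Subgroup G} (hQ : Q ≤ N) :
    MulAut.conj x • Q ≤ N := by
  intro y hy
  rw [mem_conj_smul_iff'] at hy
  have h1 := hQ hy
  have h2 := (inferInstance : N.Normal).conj_mem _ h1 x
  have e : x * (x⁻¹ * y * x) * x⁻¹ = y := by group
  rwa [e] at h2

/-- an element of `H` is a power of its `|K₀|`-th power -/
theorem mem_zpowers_pow (S : FSetup N H K₀) {g : G} (hg : g ∈ H) :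
    g ∈ Subgroup.zpowers (g ^ Nat.card K₀) := by
  have h1 : g ^ Nat.card H = 1 := by
    have := pow_card_eq_one' (G := H) (x := ⟨g, hg⟩)
    exact congrArg Subtype.val this
  have h2 := Nat.gcd_eq_gcd_ab (Nat.card K₀) (Nat.card H)
  rw [S.hcopK] at h2
  rw [Subgroup.mem_zpowers_iff]
  refine ⟨Nat.gcdA (Nat.card K₀) (Nat.card H), ?_⟩
  have h3 : g = g ^ ((1 : ℕ) : ℤ) := by simp
  rw [← zpow_natCast, ← zpow_mul]
  conv_rhs => rw [h3, h2]
  rw [zpow_add, zpow_mul g (Nat.card H : ℤ), zpow_natCast g (Nat.card H), h1, one_zpow, mul_one]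

theorem conj_eq (S : FSetup N H K₀) {h k : G} (hh : h ∈ H) (hk : k ∈ K₀) :
    h * k * h⁻¹ = k := by
  rw [← S.hcomm k hk h hh, mul_inv_cancel_right]

theorem le_normalizer (S : FSetup N H K₀) : H ≤ Subgroup.normalizer (K₀ : Set G) := by
  intro h hh
  rw [Subgroup.mem_normalizer_iff]
  intro k
  constructor
  · intro hk
    rw [S.conj_eq hh hk]; exact hk
  · intro hk
    have h1 := S.conj_eq (H.inv_mem hh) hk
    have e : h⁻¹ * (h * k * h⁻¹) * h⁻¹⁻¹ = k := by group
    rw [e] at h1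
    rw [h1]; exact hk

theorem exists_frobenius [N.Normal] (S : FSetup N H K₀) :
    ∃ (F : Type u) (_ : Group F) (_ : Finite F) (C : Subgroup F),
      Cfsg.IsFrobeniusComplement C ∧ Nonempty (H ≃* C) := by
  classical
  have hcop := S.coprime
  obtain ⟨q, hq⟩ : ∃ q, (Nat.card K₀).factorization q < (Nat.card N).factorization q := by
    by_contra hcon
    push Not at hcon
    have h1 : Nat.card N ∣ Nat.card K₀ :=
      (Nat.factorization_le_iff_dvd Nat.card_pos.ne' Nat.card_pos.ne').mp (fun q => hcon q)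
    have h2 : Nat.card N ≤ Nat.card K₀ := Nat.le_of_dvd Nat.card_pos h1
    apply S.hne
    rw [Subgroup.eq_of_le_of_card_ge S.hKN h2]
  have hqp : q.Prime := by
    by_contra h
    have := Nat.factorization_eq_zero_of_not_prime (Nat.card N) h
    omega
  haveI : Fact q.Prime := ⟨hqp⟩
  obtain ⟨P₀⟩ : Nonempty (Sylow q N) := inferInstance
  obtain ⟨hP, hN, hqr⟩ := sylow_card_facts N q P₀
  set a := (Nat.card N).factorization q with ha
  set r := Nat.card N / q ^ a with hr
  set P := (P₀ : Subgroup N).map N.subtype with hPdef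
  have hPN : P ≤ N := Subgroup.map_subtype_le _
  -- facts about cyclic subgroups of `H`
  have hAN : ∀ y : G, Subgroup.zpowers y ≤ Subgroup.normalizer (N : Set G) := by
    intro y; rw [Subgroup.normalizer_eq_top]; exact le_top
  have hAcop : ∀ y ∈ H, (Nat.card (Subgroup.zpowers y)).Coprime (Nat.card N) := by
    intro y hy
    exact Nat.Coprime.coprime_dvd_left
      (Subgroup.card_dvd_of_le (Subgroup.zpowers_le.mpr hy)) hcop.symm
  -- conjugacy of invariant Sylow subgroups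
  have hconj : ∀ y ∈ H, y ≠ 1 → ∀ Q Q' : Subgroup G, Q ≤ N → Q' ≤ N → Nat.card Q = q ^ a →
      Nat.card Q' = q ^ a → y ∈ Subgroup.normalizer (Q : Set G) →
      y ∈ Subgroup.normalizer (Q' : Set G) → ∃ c ∈ K₀, MulAut.conj c • Q = Q' := by
    intro y hy hy1 Q Q' hQN hQ'N hQ hQ' hyQ hyQ'
    obtain ⟨c, hcmem, hc⟩ := coprime_invariant_sylow_conj_aux (Subgroup.zpowers y) N (hAN y)
      (hAcop y hy) (Or.inl (zpowers_solvable y)) q a r Q Q' hQN hQ'N hQ hQ' hN hqr
      (Subgroup.zpowers_le.mpr hyQ) (Subgroup.zpowers_le.mpr hyQ')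
    obtain ⟨hcN, hcA⟩ := Subgroup.mem_inf.mp hcmem
    refine ⟨c, ?_, hc⟩
    rw [Subgroup.mem_centralizer_iff] at hcA
    exact S.hfix y hy hy1 c hcN (hcA y (Subgroup.mem_zpowers y)).symm
  -- normalizers in `H` are unchanged by `K₀`-conjugation
  have hTinv : ∀ c ∈ K₀, ∀ Q : Subgroup G, ∀ g ∈ H,
      (g ∈ Subgroup.normalizer ((MulAut.conj c • Q : Subgroup G) : Set G) ↔
        g ∈ Subgroup.normalizer (Q : Set G)) := by
    intro c hc Q g hg
    rw [conj_smul_mem_normalizer_iff]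
    have : c⁻¹ * g * c = g := by
      rw [mul_assoc, ← S.hcomm c hc g hg, inv_mul_cancel_left]
    rw [this]
  -- the partition
  let ι := {Q : Subgroup G // Q ≤ N ∧ Nat.card Q = q ^ a}
  let T : ι → Subgroup H :=
    fun Q => (Subgroup.normalizer ((Q.1 : Subgroup G) : Set G)).subgroupOf H
  have hTmem : ∀ (Q : ι) (g : H), g ∈ T Q ↔ (g : G) ∈ Subgroup.normalizer ((Q.1 : Subgroup G) : Set G) :=
    fun Q g => Subgroup.mem_subgroupOf
  let cj : H → ι → ι := fun g Q => ⟨MulAut.conj (g : G) • Q.1, conj_smul_le_normal _ Q.2.1, by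
    rw [card_conj_smul]; exact Q.2.2⟩
  have hTc : ∀ (g : H) (Q : ι), MulAut.conj g • T Q = T (cj g Q) := by
    intro g Q
    ext x
    rw [mem_conj_smul_iff', hTmem, hTmem]
    show _ ↔ (x : G) ∈ Subgroup.normalizer ((MulAut.conj (g : G) • Q.1 : Subgroup G) : Set G)
    rw [conj_smul_mem_normalizer_iff]
    rfl
  haveI : Nontrivial H := (Subgroup.nontrivial_iff_ne_bot H).mpr S.hH
  have hcoe1 : ∀ y : H, y ≠ 1 → (y : G) ≠ 1 := by
    intro y hy h
    exact hy (Subtype.ext h)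
  obtain ⟨Q, hQtop⟩ := partition_top T
    (by
      intro y hy
      obtain ⟨x, hxN, hx⟩ := coprime_invariant_sylow_exists_aux (Subgroup.zpowers (y : G)) N
        (hAN _) (hAcop _ y.2) (Or.inl (zpowers_solvable _)) q a r P hPN hP hN hqr
      refine ⟨⟨MulAut.conj x • P, conj_smul_le_normal x hPN, by rw [card_conj_smul]; exact hP⟩, ?_⟩
      rw [hTmem]
      exact hx (Subgroup.mem_zpowers _))
    (by
      intro Q Q' y hy hyQ hyQ'
      rw [hTmem] at hyQ hyQ'
      obtain ⟨c, hc, hcQ⟩ := hconj y y.2 (hcoe1 y hy) Q.1 Q'.1 Q.2.1 Q'.2.1 Q.2.2 Q'.2.2 hyQ hyQ'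
      ext g
      rw [hTmem, hTmem, ← hcQ]
      exact (hTinv c hc Q.1 g g.2).symm)
    (by
      intro g Q
      exact ⟨cj g Q, hTc g Q⟩)
    (by
      intro Q hQbot g hg
      obtain ⟨y, hy⟩ := (Subgroup.ne_bot_iff_exists_ne_one).mp hQbot
      have hy1 : (y : H) ≠ 1 := fun h => hy (Subtype.ext h)
      rw [mem_normalizer_iff_conj_smul, hTc] at hg
      have hyQ : (y : H) ∈ T Q := y.2
      have hyQ' : (y : H) ∈ T (cj g Q) := by rw [hg]; exact y.2
      rw [hTmem] at hyQ hyQ'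
      obtain ⟨c, hc, hcQ⟩ := hconj (y : H) (y : H).2 (hcoe1 _ hy1) Q.1 (cj g Q).1 Q.2.1
        (cj g Q).2.1 Q.2.2 (cj g Q).2.2 hyQ hyQ'
      have hcQ' : MulAut.conj c • (Q.1 : Subgroup G) = MulAut.conj (g : G) • Q.1 := hcQ
      have hu : c⁻¹ * (g : G) ∈ Subgroup.normalizer ((Q.1 : Subgroup G) : Set G) := by
        rw [mem_normalizer_iff_conj_smul, map_mul, mul_smul, ← hcQ', ← mul_smul, ← map_mul,
          inv_mul_cancel, map_one, one_smul]
      have hupow : (c⁻¹ * (g : G)) ^ Nat.card K₀ = (g : G) ^ Nat.card K₀ := by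
        have hcomm : Commute c⁻¹ (g : G) := by
          have := S.hcomm c⁻¹ (K₀.inv_mem hc) g g.2
          exact this
        rw [hcomm.mul_pow, inv_pow]
        have hc1 : c ^ Nat.card K₀ = 1 := by
          have := pow_card_eq_one' (G := K₀) (x := ⟨c, hc⟩)
          exact congrArg Subtype.val this
        rw [hc1, inv_one, one_mul]
      have h1 : (g : G) ^ Nat.card K₀ ∈ Subgroup.normalizer ((Q.1 : Subgroup G) : Set G) := by
        rw [← hupow]; exact Subgroup.pow_mem _ hu _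
      rw [hTmem]
      exact (Subgroup.zpowers_le.mpr h1) (S.mem_zpowers_pow g.2))
  have hHQ : H ≤ Subgroup.normalizer ((Q.1 : Subgroup G) : Set G) := by
    intro h hh
    have : (⟨h, hh⟩ : H) ∈ T Q := by rw [hQtop]; exact Subgroup.mem_top _
    rw [hTmem] at this
    exact this
  obtain ⟨Q₀, hQN, hQcard⟩ := Q
  simp only at hHQ
  clear hQtop
  have hQp : IsPGroup q Q₀ := IsPGroup.of_card hQcard
  set D : Subgroup G := Q₀ ⊓ K₀ with hD
  have hHD : H ≤ Subgroup.normalizer (D : Set G) := fun h hh =>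
    Subgroup.inf_normalizer_le_normalizer_inf ⟨hHQ hh, S.le_normalizer hh⟩
  have hDQ : D < Q₀ := by
    refine lt_of_le_of_ne inf_le_left ?_
    intro hDQ
    have h1 : Nat.card D ∣ Nat.card K₀ := Subgroup.card_dvd_of_le inf_le_right
    rw [hDQ, hQcard] at h1
    have h2 := (Nat.Prime.pow_dvd_iff_le_factorization hqp Nat.card_pos.ne').mp h1
    omega
  set N₀ : Subgroup G := Q₀ ⊓ Subgroup.normalizer (D : Set G) with hN₀
  have hDN₀ : D < N₀ := pgroup_normalizer_grows q Q₀ D hQp hDQ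
  have hN₀D : N₀ ≤ Subgroup.normalizer (D : Set G) := inf_le_right
  have hHN₀ : H ≤ Subgroup.normalizer (N₀ : Set G) := fun h hh =>
    Subgroup.inf_normalizer_le_normalizer_inf ⟨hHQ hh, Subgroup.le_normalizer (hHD hh)⟩
  have hN₀N : N₀ ≤ N := inf_le_left.trans hQN
  apply frobenius_of_fpf_section N₀ D H hDN₀.le hN₀D hHD hHN₀
  · rw [eq_bot_iff, ← S.hNH]
    exact inf_le_inf_right _ hN₀N
  · obtain ⟨x, hx, hxD⟩ := SetLike.exists_of_lt hDN₀
    exact ⟨x, hx, hxD⟩
  · exact S.hH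
  · intro y hy hy1 x hx hfix
    have hcopA : (Nat.card (Subgroup.zpowers y)).Coprime (Nat.card N₀) :=
      Nat.Coprime.coprime_dvd_right (Subgroup.card_dvd_of_le hN₀N) (hAcop y hy)
    obtain ⟨c, hcmem, hc⟩ := coprime_fixed_coset (Subgroup.zpowers y) N₀
      ((Subgroup.zpowers_le.mpr hy).trans hHN₀) hcopA (Or.inl (zpowers_solvable y)) D hDN₀.le
      hN₀D ((Subgroup.zpowers_le.mpr hy).trans hHD) x hx hfix
    obtain ⟨hcN₀, hcA⟩ := Subgroup.mem_inf.mp hcmem
    rw [Subgroup.mem_centralizer_iff] at hcA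
    have hcK : c ∈ K₀ := S.hfix y hy hy1 c (hN₀N hcN₀) (hcA y (Subgroup.mem_zpowers y)).symm
    have hcD : c ∈ D := ⟨(inf_le_left : N₀ ≤ Q₀) hcN₀, hcK⟩
    have h1 : x⁻¹ ∈ D := by
      have := D.mul_mem hc (D.inv_mem hcD)
      rwa [mul_inv_cancel_right] at this
    have := D.inv_mem h1
    rwa [inv_inv] at this

end FSetup

end Cfsg.Agent.Lib.Helper7.WielTI
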