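import Mathlib
import Cfsg.Agent.Lib.Helper7.WtOrbE

/-!
# Base change to the algebraic closure and the `𝔽₂`-version of the weight-orbit argument
-/

namespace Cfsg.Agent.Lib.Helper7.WtOrb

open Subgroup MulAction Module TensorProduct

section BaseChange

variable {R K E G : Type*} [Field R] [Field K] [Algebra R K] [AddCommGroup E] [Module R E]
  [Group G]

/-- Base change of a representation along a field extension. -/
noncomputable def bc (K : Type*) [Field K] [Algebra R K] (ρ : Representation R G E) :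
    Representation K G (K ⊗[R] E) where
  toFun g := (ρ g).baseChange K
  map_one' := by
    rw [map_one, Module.End.one_eq_id, LinearMap.baseChange_id]
    rfl
  map_mul' g h := by
    rw [map_mul, Module.End.mul_eq_comp, LinearMap.baseChange_comp]
    rfl

theorem bc_tmul (ρ : Representation R G E) (g : G) (c : K) (v : E) :
    bc K ρ g (c ⊗ₜ[R] v) = c ⊗ₜ[R] ρ g v :=
  LinearMap.baseChange_tmul ..

/-- Fixed vectors of the base change are spanned by the fixed vectors. -/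
theorem bc_fixed_mem_span (ρ : Representation R G E) (X : Set G) (v' : K ⊗[R] E)
    (hv' : ∀ g ∈ X, bc K ρ g v' = v') :
    v' ∈ Submodule.span K ((fun v : E => (1 : K) ⊗ₜ[R] v) '' {v | ∀ g ∈ X, ρ g v = v}) := by
  classical
  let b := Basis.ofVectorSpace R K
  obtain ⟨c, rfl⟩ := TensorProduct.eq_repr_basis_left b v'
  have hc : ∀ g ∈ X, ∀ i, ρ g (c i) = c i := by
    intro g hg
    have h1 : bc K ρ g (c.sum fun i n => b i ⊗ₜ[R] n) = c.sum fun i n => b i ⊗ₜ[R] ρ g n := by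
      rw [Finsupp.sum, map_sum]
      simp only [bc_tmul]
      rfl
    have h2 := hv' g hg
    rw [h1] at h2
    let d : _ →₀ E := c.mapRange (fun n => ρ g n - n) (by simp)
    have hd : (d.sum fun i n => b i ⊗ₜ[R] n) = 0 := by
      rw [Finsupp.sum_mapRange_index (by intro i; simp)]
      simp only [tmul_sub]
      rw [Finsupp.sum_sub, h2, sub_self]
    have h3 := TensorProduct.sum_tmul_basis_left_eq_zero b d hd
    intro i
    have h4 := DFunLike.congr_fun h3 i
    simp only [d, Finsupp.mapRange_apply, Finsupp.coe_zero, Pi.zero_apply] at h4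
    exact sub_eq_zero.mp h4
  rw [Finsupp.sum]
  apply Submodule.sum_mem
  intro i _
  have h5 : b i ⊗ₜ[R] c i = (b i) • ((1 : K) ⊗ₜ[R] c i) := by
    rw [TensorProduct.smul_tmul', smul_eq_mul, mul_one]
  rw [h5]
  apply Submodule.smul_mem
  apply Submodule.subset_span
  exact ⟨c i, fun g hg => hc g hg i, rfl⟩

theorem bc_nontrivial [Module.Finite R E] [Nontrivial E] : Nontrivial (K ⊗[R] E) := by
  have h1 : 0 < Module.finrank R E := Module.finrank_pos
  apply Module.nontrivial_of_finrank_pos (R := K)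
  rw [Module.finrank_baseChange]
  exact h1

end BaseChange

section F2

variable {E G : Type*} [AddCommGroup E] [Module (ZMod 2) E] [Finite E] [Nontrivial E] [Group G]

/-- `𝔽₂`-version: the fixed points of `T` are not contained in `{0, e}`. -/
theorem F2_core_A (ρ : Representation (ZMod 2) G E) (V : Subgroup G) [V.Normal] [Finite V]
    (hab : ∀ a ∈ V, ∀ b ∈ V, a * b = b * a) (hVodd : Odd (Nat.card V))
    (hVfix : ∀ v : E, (∀ y ∈ V, ρ y v = v) → v = 0)
    (T : Subgroup G) [Finite T] (hT : IsPGroup 2 T)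
    (q : ℕ) [Fact q.Prime] (hq2 : q ≠ 2) (x : G) (hxq : x ^ q = 1) (hcomm : ⁅V, zpowers x⁆ = V)
    (e : E) (hle : ∀ v, (∀ t ∈ T, ρ t v = v) → v = 0 ∨ v = e) : False := by
  let K := AlgebraicClosure (ZMod 2)
  haveI : Module.Finite (ZMod 2) E := Module.Finite.of_finite
  haveI : Nontrivial (K ⊗[ZMod 2] E) := bc_nontrivial
  have hVfix' : ∀ v' : K ⊗[ZMod 2] E, (∀ y ∈ V, bc K ρ y v' = v') → v' = 0 := by
    intro v' hv'
    have h1 := bc_fixed_mem_span ρ (V : Set G) v' hv'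
    have h2 : Submodule.span K ((fun v : E => (1 : K) ⊗ₜ[ZMod 2] v) ''
        {v | ∀ g ∈ (V : Set G), ρ g v = v}) ≤ ⊥ := by
      rw [Submodule.span_le]
      rintro _ ⟨v, hv, rfl⟩
      have : v = 0 := hVfix v hv
      simp [this]
    exact (Submodule.mem_bot K).mp (h2 h1)
  apply K_core_A (bc K ρ) V hab hVodd hVfix' T hT q hq2 x hxq hcomm ((1 : K) ⊗ₜ[ZMod 2] e)
  intro v' hv'
  have h1 := bc_fixed_mem_span ρ (T : Set G) v' hv'
  have h2 : Submodule.span K ((fun v : E => (1 : K) ⊗ₜ[ZMod 2] v) ''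
      {v | ∀ g ∈ (T : Set G), ρ g v = v}) ≤ Submodule.span K {(1 : K) ⊗ₜ[ZMod 2] e} := by
    rw [Submodule.span_le]
    rintro _ ⟨v, hv, rfl⟩
    rcases hle v hv with h | h
    · simp [h]
    · rw [h]
      exact Submodule.subset_span rfl
  exact h2 h1

/-- `𝔽₂`-version: if the fixed points of `T` are contained in `{0, a, b, a + b}` then `x` does not
normalise them. -/
theorem F2_core_B (ρ : Representation (ZMod 2) G E) (V : Subgroup G) [V.Normal] [Finite V]
    (hab : ∀ a ∈ V, ∀ b ∈ V, a * b = b * a) (hVodd : Odd (Nat.card V))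
    (hVfix : ∀ v : E, (∀ y ∈ V, ρ y v = v) → v = 0)
    (T : Subgroup G) [Finite T] (hT : IsPGroup 2 T)
    (q : ℕ) [Fact q.Prime] (hq2 : q ≠ 2) (x : G) (hxq : x ^ q = 1) (hcomm : ⁅V, zpowers x⁆ = V)
    (a b : E) (hle : ∀ v, (∀ t ∈ T, ρ t v = v) → v = 0 ∨ v = a ∨ v = b ∨ v = a + b)
    (hnorm : ∀ v, (∀ t ∈ T, ρ t v = v) → ∀ t ∈ T, ρ t (ρ x v) = ρ x v) : False := by
  let K := AlgebraicClosure (ZMod 2)
  haveI : Module.Finite (ZMod 2) E := Module.Finite.of_finite
  haveI : Nontrivial (K ⊗[ZMod 2] E) := bc_nontrivial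
  have hVfix' : ∀ v' : K ⊗[ZMod 2] E, (∀ y ∈ V, bc K ρ y v' = v') → v' = 0 := by
    intro v' hv'
    have h1 := bc_fixed_mem_span ρ (V : Set G) v' hv'
    have h2 : Submodule.span K ((fun v : E => (1 : K) ⊗ₜ[ZMod 2] v) ''
        {v | ∀ g ∈ (V : Set G), ρ g v = v}) ≤ ⊥ := by
      rw [Submodule.span_le]
      rintro _ ⟨v, hv, rfl⟩
      have : v = 0 := hVfix v hv
      simp [this]
    exact (Submodule.mem_bot K).mp (h2 h1)
  apply K_core_B (bc K ρ) V hab hVodd hVfix' T hT q hq2 x hxq hcomm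
    ((1 : K) ⊗ₜ[ZMod 2] a) ((1 : K) ⊗ₜ[ZMod 2] b)
  · intro v' hv'
    have h1 := bc_fixed_mem_span ρ (T : Set G) v' hv'
    have h2 : Submodule.span K ((fun v : E => (1 : K) ⊗ₜ[ZMod 2] v) ''
        {v | ∀ g ∈ (T : Set G), ρ g v = v}) ≤
        Submodule.span K {(1 : K) ⊗ₜ[ZMod 2] a, (1 : K) ⊗ₜ[ZMod 2] b} := by
      rw [Submodule.span_le]
      rintro _ ⟨v, hv, rfl⟩
      have ha : (1 : K) ⊗ₜ[ZMod 2] a ∈
          Submodule.span K {(1 : K) ⊗ₜ[ZMod 2] a, (1 : K) ⊗ₜ[ZMod 2] b} :=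
        Submodule.subset_span (by simp)
      have hb : (1 : K) ⊗ₜ[ZMod 2] b ∈
          Submodule.span K {(1 : K) ⊗ₜ[ZMod 2] a, (1 : K) ⊗ₜ[ZMod 2] b} :=
        Submodule.subset_span (by simp)
      rcases hle v hv with h | h | h | h
      · simp [h]
      · rw [h]; exact ha
      · rw [h]; exact hb
      · rw [h]
        show (1 : K) ⊗ₜ[ZMod 2] (a + b) ∈ _
        rw [tmul_add]; exact Submodule.add_mem _ ha hb
    exact h2 h1
  · intro v' hv'
    have h1 := bc_fixed_mem_span ρ (T : Set G) v' hv'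
    let FixK : Submodule K (K ⊗[ZMod 2] E) :=
      { carrier := {w | ∀ t ∈ T, bc K ρ t w = w}
        add_mem' := fun {u w} hu hw t ht => by rw [map_add, hu t ht, hw t ht]
        zero_mem' := fun t _ => map_zero _
        smul_mem' := fun c w hw t ht => by rw [map_smul, hw t ht] }
    have h2 : Submodule.span K ((fun v : E => (1 : K) ⊗ₜ[ZMod 2] v) ''
        {v | ∀ g ∈ (T : Set G), ρ g v = v}) ≤ FixK.comap (bc K ρ x) := by
      rw [Submodule.span_le]
      rintro _ ⟨v, hv, rfl⟩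
      show ∀ t ∈ T, bc K ρ t (bc K ρ x ((1 : K) ⊗ₜ[ZMod 2] v)) = bc K ρ x ((1 : K) ⊗ₜ[ZMod 2] v)
      intro t ht
      rw [bc_tmul, bc_tmul, hnorm v hv t ht]
    exact h2 h1

end F2

end Cfsg.Agent.Lib.Helper7.WtOrb
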